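import Mathlib
import Cfsg.Prelude.Def_LieExceptional

set_option autoImplicit false

namespace Cfsg.Agent.Lib.helper3

open Cfsg

section

variable {F : Type*} [Field F]

/-- the Suzuki twist `a ↦ a ^ (2 ^ (m + 1))` -/
def szθ (m : ℕ) (a : F) : F := a ^ (2 ^ (m + 1))

/-- the ovoid function -/
def szf (m : ℕ) (x y : F) : F := x * y + x ^ (2 ^ (m + 1) + 2) + y ^ (2 ^ (m + 1))

/-- the affine ovoid vector -/
def szvec (m : ℕ) (x y : F) : Fin 4 → F := ![szf m x y, y, x, 1]

theorem szf_eq (m : ℕ) (x y : F) : szf m x y = x * y + szθ m x * x ^ 2 + szθ m y := by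
  unfold szf szθ
  rw [pow_add]

theorem szθ_mul (m : ℕ) (a b : F) : szθ m (a * b) = szθ m a * szθ m b := mul_pow a b _

theorem szθ_zero (m : ℕ) : szθ m (0 : F) = 0 := by
  unfold szθ
  exact zero_pow (by positivity)

theorem szθ_one (m : ℕ) : szθ m (1 : F) = 1 := one_pow _

theorem szθ_ne_zero (m : ℕ) {a : F} (h : a ≠ 0) : szθ m a ≠ 0 := pow_ne_zero _ h

theorem szθ_eq_zero (m : ℕ) {a : F} (h : szθ m a = 0) : a = 0 := by
  by_contra h'
  exact szθ_ne_zero m h' h

theorem szθ_div (m : ℕ) (a b : F) : szθ m (a / b) = szθ m a / szθ m b := div_pow a b _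

variable [Fintype F] {m : ℕ}

theorem sz_two (hF : Fintype.card F = 2 ^ (2 * m + 1)) : (2 : F) = 0 := by
  have h := FiniteField.cast_card_eq_zero F
  rw [hF] at h
  push_cast at h
  exact pow_eq_zero_iff (by omega) |>.1 h

theorem szθ_add (hF : Fintype.card F = 2 ^ (2 * m + 1)) (a b : F) :
    szθ m (a + b) = szθ m a + szθ m b := by
  have : CharP F 2 := CharTwo.of_one_ne_zero_of_two_eq_zero one_ne_zero (sz_two hF)
  have : Fact (Nat.Prime 2) := ⟨Nat.prime_two⟩
  exact add_pow_char_pow a b 2 (m + 1)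

theorem szθ_szθ (hF : Fintype.card F = 2 ^ (2 * m + 1)) (a : F) : szθ m (szθ m a) = a ^ 2 := by
  unfold szθ
  rw [← pow_mul]
  have : 2 ^ (m + 1) * 2 ^ (m + 1) = Fintype.card F * 2 := by
    rw [hF]
    ring
  rw [this, pow_mul, FiniteField.pow_card]

/-- the tangent plane at the origin meets the ovoid only at the origin -/
theorem szf_eq_zero (hF : Fintype.card F = 2 ^ (2 * m + 1)) {x y : F} (h : szf m x y = 0) :
    x = 0 ∧ y = 0 := by
  have h2 := sz_two hF
  rw [szf_eq] at h
  by_cases hx : x = 0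
  · subst hx
    rw [szθ_zero] at h
    simp only [zero_mul, zero_add] at h
    exact ⟨rfl, szθ_eq_zero m h⟩
  · exfalso
    have hθx : szθ m x ≠ 0 := szθ_ne_zero m hx
    set u := y / (szθ m x * x) with hu
    have hy : y = u * (szθ m x * x) := by
      rw [hu]
      field_simp
    have h1 : szθ m u + u + 1 = 0 := by
      have h' : szθ m x * x ^ 2 * (szθ m u + u + 1) = 0 := by
        rw [← h, hy, szθ_mul, szθ_mul, szθ_szθ hF]
        ring
      rcases mul_eq_zero.1 h' with h'' | h''
      · exact absurd h'' (mul_ne_zero hθx (pow_ne_zero 2 hx))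
      · exact h''
    have h3 : u ^ 2 + szθ m u + 1 = 0 := by
      have := congrArg (szθ m) h1
      rw [szθ_add hF, szθ_add hF, szθ_szθ hF, szθ_one, szθ_zero] at this
      exact this
    have h4 : u * (u + 1) = 0 := by grind
    rcases mul_eq_zero.1 h4 with h5 | h5
    · rw [h5, szθ_zero] at h1
      simp at h1
    · have h6 : u = 1 := by grind
      rw [h6, szθ_one] at h1
      have : (1 : F) = 0 := by grind
      exact one_ne_zero this

/-- translation identity -/
theorem szf_translate (hF : Fintype.card F = 2 ^ (2 * m + 1)) (x y a b : F) :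
    szf m (x + a) (y + b + szθ m a * (x + a)) =
      szf m x y + szf m a b + a * (y + b) + b * (x + a) := by
  have h2 := sz_two hF
  rw [szf_eq, szf_eq, szf_eq, szθ_add hF, szθ_add hF, szθ_add hF, szθ_mul, szθ_szθ hF, szθ_add hF]
  grind

/-- inversion identity -/
theorem szf_invert (hF : Fintype.card F = 2 ^ (2 * m + 1)) (x y : F) (h : szf m x y ≠ 0) :
    szf m (y / szf m x y) (x / szf m x y) = 1 / szf m x y := by
  have h2 := sz_two hF
  have hθ : szθ m (szf m x y) ≠ 0 := szθ_ne_zero m h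
  have hθf : szθ m (szf m x y) = szθ m x * szθ m y + x ^ 2 * szθ m x ^ 2 + y ^ 2 := by
    rw [szf_eq, szθ_add hF, szθ_add hF, szθ_mul, szθ_mul, szθ_szθ hF, szθ_szθ hF]
    have : szθ m (x ^ 2) = szθ m x ^ 2 := by
      rw [pow_two, szθ_mul, ← pow_two]
    rw [this]
  have hf := szf_eq m x y
  rw [szf_eq, szθ_div, szθ_div]
  set f := szf m x y with hfdef
  set θf := szθ m f with hθfdef
  set U := szθ m x
  set V := szθ m y
  field_simp
  rw [hθf, hf]
  grind

end

end Cfsg.Agent.Lib.helper3
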