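import Mathlib
import Cfsg.Prelude.Def_LieExceptional
import Cfsg.Agent.Lib.helper3.SuzukiAlg

set_option autoImplicit false

namespace Cfsg.Agent.Lib.helper3

open Cfsg Matrix
open scoped Pointwise

variable {F : Type*} [Field F]

/-! ### points -/

theorem szvec_ne_zero (m : ℕ) (x y : F) : szvec m x y ≠ 0 := by
  intro h
  have := congrFun h 3
  simp [szvec] at this

def szE0 (F : Type*) [Field F] : Fin 4 → F := ![1, 0, 0, 0]

theorem szE0_ne_zero : szE0 F ≠ 0 := by
  intro h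
  have := congrFun h 0
  simp [szE0] at this

/-- the point at infinity of the ovoid -/
def szInf (F : Type*) [Field F] : Projectivization F (Fin 4 → F) :=
  Projectivization.mk F (szE0 F) szE0_ne_zero

/-- the affine point of the ovoid with parameters `x`, `y` -/
def szPt (m : ℕ) (x y : F) : Projectivization F (Fin 4 → F) :=
  Projectivization.mk F (szvec m x y) (szvec_ne_zero m x y)

theorem szInf_eq : suzukiPointInfinity F = szInf F := rfl

theorem szf_zero (m : ℕ) : szf m (0 : F) 0 = 0 := by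
  unfold szf
  simp

theorem szPt_zero_eq (m : ℕ) : suzukiPointZero F = szPt m 0 0 := by
  unfold suzukiPointZero szPt
  congr 1
  unfold szvec
  rw [szf_zero]

theorem mem_ovoid_iff (m : ℕ) (p : Projectivization F (Fin 4 → F)) :
    p ∈ suzukiOvoid F m ↔ p = szInf F ∨ ∃ x y, p = szPt m x y := by
  constructor
  · rintro ⟨v, hv, rfl, h | ⟨x, y, h⟩⟩
    · left
      unfold szInf
      congr 1
    · right
      refine ⟨x, y, ?_⟩
      unfold szPt
      congr 1
  · rintro (rfl | ⟨x, y, rfl⟩)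
    · exact ⟨szE0 F, szE0_ne_zero, rfl, Or.inl rfl⟩
    · exact ⟨szvec m x y, szvec_ne_zero m x y, rfl, Or.inr ⟨x, y, rfl⟩⟩

theorem szInf_mem (m : ℕ) : szInf F ∈ suzukiOvoid F m := (mem_ovoid_iff m _).2 (Or.inl rfl)

theorem szPt_mem (m : ℕ) (x y : F) : szPt m x y ∈ suzukiOvoid F m :=
  (mem_ovoid_iff m _).2 (Or.inr ⟨x, y, rfl⟩)

theorem szPt_ne_inf (m : ℕ) (x y : F) : szPt m x y ≠ szInf F := by
  intro h
  unfold szPt szInf at h
  rw [Projectivization.mk_eq_mk_iff] at h
  obtain ⟨a, ha⟩ := h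
  have := congrFun ha 3
  simp [szvec, szE0] at this

theorem szPt_inj (m : ℕ) {x y x' y' : F} (h : szPt m x y = szPt m x' y') : x = x' ∧ y = y' := by
  unfold szPt at h
  rw [Projectivization.mk_eq_mk_iff] at h
  obtain ⟨a, ha⟩ := h
  have h3 := congrFun ha 3
  have h2 := congrFun ha 2
  have h1 := congrFun ha 1
  simp [szvec, Units.smul_def] at h1 h2 h3
  subst h3
  simp at h1 h2
  exact ⟨h2.symm, h1.symm⟩

/-- a nonzero vector proportional to an affine ovoid vector -/
theorem mk_eq_szPt (m : ℕ) {v : Fin 4 → F} (hv : v ≠ 0) {c x y : F} (h : v = c • szvec m x y) :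
    Projectivization.mk F v hv = szPt m x y := by
  unfold szPt
  rw [Projectivization.mk_eq_mk_iff']
  exact ⟨c, h.symm⟩

theorem mk_eq_szInf {v : Fin 4 → F} (hv : v ≠ 0) {c : F} (h : v = c • szE0 F) :
    Projectivization.mk F v hv = szInf F := by
  unfold szInf
  rw [Projectivization.mk_eq_mk_iff']
  exact ⟨c, h.symm⟩

/-! ### the matrices -/

def szTmat (m : ℕ) (a b : F) : Matrix (Fin 4) (Fin 4) F :=
  !![1, a, b + a * szθ m a, szf m a b; 0, 1, szθ m a, b; 0, 0, 1, a; 0, 0, 0, 1]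

theorem szTmat_det (m : ℕ) (a b : F) : (szTmat m a b).det = 1 := by
  simp [szTmat, Matrix.det_succ_row_zero, Fin.sum_univ_succ, Matrix.submatrix]

def szT (m : ℕ) (a b : F) : Matrix.SpecialLinearGroup (Fin 4) F := ⟨szTmat m a b, szTmat_det m a b⟩

def szJmat (F : Type*) [Field F] : Matrix (Fin 4) (Fin 4) F :=
  !![0, 0, 0, 1; 0, 0, 1, 0; 0, 1, 0, 0; 1, 0, 0, 0]

theorem szJmat_det : (szJmat F).det = 1 := by
  simp [szJmat, Matrix.det_succ_row_zero, Fin.sum_univ_succ, Matrix.submatrix, Fin.succAbove]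
  norm_num

def szJ (F : Type*) [Field F] : Matrix.SpecialLinearGroup (Fin 4) F := ⟨szJmat F, szJmat_det⟩

def szDmat (m : ℕ) (k : F) : Matrix (Fin 4) (Fin 4) F :=
  !![k ^ 2 * szθ m k, 0, 0, 0; 0, szθ m k, 0, 0; 0, 0, (szθ m k)⁻¹, 0; 0, 0, 0, (k ^ 2 * szθ m k)⁻¹]

theorem szDmat_det (m : ℕ) {k : F} (hk : k ≠ 0) : (szDmat m k).det = 1 := by
  have h1 : szθ m k ≠ 0 := szθ_ne_zero m hk
  simp [szDmat, Matrix.det_succ_row_zero, Fin.sum_univ_succ, Matrix.submatrix]
  field_simp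

def szD (m : ℕ) (k : Fˣ) : Matrix.SpecialLinearGroup (Fin 4) F :=
  ⟨szDmat m (k : F), szDmat_det m k.ne_zero⟩

theorem sl4_smul_vec (g : Matrix.SpecialLinearGroup (Fin 4) F) (v : Fin 4 → F) :
    g • v = (g : Matrix (Fin 4) (Fin 4) F) *ᵥ v := rfl

theorem szT_smul_e0 (m : ℕ) (a b : F) : szT m a b • szE0 F = szE0 F := by
  rw [sl4_smul_vec]
  ext i
  fin_cases i <;> simp [szT, szTmat, szE0, Matrix.mulVec, dotProduct, Fin.sum_univ_four]

theorem szJ_smul_e0 (m : ℕ) : szJ F • szE0 F = szvec m 0 0 := by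
  rw [sl4_smul_vec]
  ext i
  fin_cases i <;> simp [szJ, szJmat, szE0, szvec, szf_zero, Matrix.mulVec, dotProduct,
    Fin.sum_univ_four]

theorem szJ_smul_zero (m : ℕ) : szJ F • szvec m 0 0 = szE0 F := by
  rw [sl4_smul_vec]
  ext i
  fin_cases i <;> simp [szJ, szJmat, szE0, szvec, szf_zero, Matrix.mulVec, dotProduct,
    Fin.sum_univ_four]

theorem szD_smul_e0 (m : ℕ) (k : Fˣ) :
    szD m k • szE0 F = ((k : F) ^ 2 * szθ m (k : F)) • szE0 F := by
  rw [sl4_smul_vec]
  ext i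
  fin_cases i <;> simp [szD, szDmat, szE0, Matrix.mulVec, dotProduct, Fin.sum_univ_four]

variable [Fintype F] {m : ℕ}

theorem szT_smul_vec (hF : Fintype.card F = 2 ^ (2 * m + 1)) (a b x y : F) :
    szT m a b • szvec m x y = szvec m (x + a) (y + b + szθ m a * x) := by
  have h2 := sz_two hF
  have key : szf m (x + a) (y + b + szθ m a * x) =
      szf m x y + a * y + (b + a * szθ m a) * x + szf m a b := by
    rw [szf_eq, szf_eq, szf_eq, szθ_add hF, szθ_add hF, szθ_add hF, szθ_mul, szθ_szθ hF]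
    grind
  rw [sl4_smul_vec]
  ext i
  fin_cases i
  · simp [szT, szTmat, szvec, Matrix.mulVec, dotProduct, Fin.sum_univ_four]
    linear_combination -key
  · simp [szT, szTmat, szvec, Matrix.mulVec, dotProduct, Fin.sum_univ_four]
    ring
  · simp [szT, szTmat, szvec, Matrix.mulVec, dotProduct, Fin.sum_univ_four]
  · simp [szT, szTmat, szvec, Matrix.mulVec, dotProduct, Fin.sum_univ_four]

theorem szJ_smul_vec (hF : Fintype.card F = 2 ^ (2 * m + 1)) (x y : F) (h : szf m x y ≠ 0) :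
    szJ F • szvec m x y = szf m x y • szvec m (y / szf m x y) (x / szf m x y) := by
  have hi := szf_invert hF x y h
  rw [sl4_smul_vec]
  ext i
  fin_cases i
  · simp [szJ, szJmat, szvec, Matrix.mulVec, dotProduct, Fin.sum_univ_four]
    rw [hi]
    field_simp
  · simp [szJ, szJmat, szvec, Matrix.mulVec, dotProduct, Fin.sum_univ_four]
    field_simp
  · simp [szJ, szJmat, szvec, Matrix.mulVec, dotProduct, Fin.sum_univ_four]
    field_simp
  · simp [szJ, szJmat, szvec, Matrix.mulVec, dotProduct, Fin.sum_univ_four]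

theorem szD_smul_vec (hF : Fintype.card F = 2 ^ (2 * m + 1)) (k : Fˣ) (x y : F) :
    szD m k • szvec m x y = ((k : F) ^ 2 * szθ m (k : F))⁻¹ •
      szvec m ((k : F) ^ 2 * x) ((k : F) ^ 2 * szθ m (k : F) ^ 2 * y) := by
  have h2 := sz_two hF
  have hk : (k : F) ≠ 0 := k.ne_zero
  have h1 : szθ m (k : F) ≠ 0 := szθ_ne_zero m hk
  have key : szf m ((k : F) ^ 2 * x) ((k : F) ^ 2 * szθ m (k : F) ^ 2 * y) =
      ((k : F) ^ 2 * szθ m (k : F)) ^ 2 * szf m x y := by
    rw [szf_eq, szf_eq, szθ_mul, szθ_mul, szθ_mul]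
    have e1 : szθ m ((k : F) ^ 2) = szθ m (k : F) ^ 2 := by
      rw [pow_two, szθ_mul, ← pow_two]
    have e2 : szθ m (szθ m (k : F) ^ 2) = (k : F) ^ 4 := by
      rw [pow_two, szθ_mul, szθ_szθ hF]
      ring
    rw [e1, e2]
    ring
  rw [sl4_smul_vec]
  ext i
  fin_cases i
  · simp [szD, szDmat, szvec, Matrix.mulVec, dotProduct, Fin.sum_univ_four]
    rw [key]
    field_simp
  · simp [szD, szDmat, szvec, Matrix.mulVec, dotProduct, Fin.sum_univ_four]
    field_simp
  · simp [szD, szDmat, szvec, Matrix.mulVec, dotProduct, Fin.sum_univ_four]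
    field_simp
  · simp [szD, szDmat, szvec, Matrix.mulVec, dotProduct, Fin.sum_univ_four]

/-! ### action on points -/

omit [Fintype F] in
theorem szT_smul_inf (a b : F) : szT m a b • szInf F = szInf F := by
  unfold szInf
  rw [Projectivization.smul_mk]
  congr 1
  exact szT_smul_e0 m a b

theorem szT_smul_pt (hF : Fintype.card F = 2 ^ (2 * m + 1)) (a b x y : F) :
    szT m a b • szPt m x y = szPt m (x + a) (y + b + szθ m a * x) := by
  unfold szPt
  rw [Projectivization.smul_mk]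
  congr 1
  exact szT_smul_vec hF a b x y

omit [Fintype F] in
theorem szJ_smul_inf : szJ F • szInf F = szPt m 0 0 := by
  unfold szInf szPt
  rw [Projectivization.smul_mk]
  congr 1
  exact szJ_smul_e0 m

omit [Fintype F] in
theorem szJ_smul_zero_pt : szJ F • szPt m 0 0 = szInf F := by
  unfold szInf szPt
  rw [Projectivization.smul_mk]
  congr 1
  exact szJ_smul_zero m

theorem szJ_smul_pt (hF : Fintype.card F = 2 ^ (2 * m + 1)) (x y : F) (h : ¬ (x = 0 ∧ y = 0)) :
    szJ F • szPt m x y = szPt m (y / szf m x y) (x / szf m x y) := by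
  have hf : szf m x y ≠ 0 := fun h0 => h (szf_eq_zero hF h0)
  unfold szPt
  rw [Projectivization.smul_mk]
  exact mk_eq_szPt m _ (szJ_smul_vec hF x y hf)

omit [Fintype F] in
theorem szD_smul_inf (k : Fˣ) : szD m k • szInf F = szInf F := by
  unfold szInf
  rw [Projectivization.smul_mk]
  exact mk_eq_szInf _ (szD_smul_e0 m k)

theorem szD_smul_pt (hF : Fintype.card F = 2 ^ (2 * m + 1)) (k : Fˣ) (x y : F) :
    szD m k • szPt m x y = szPt m ((k : F) ^ 2 * x) ((k : F) ^ 2 * szθ m (k : F) ^ 2 * y) := by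
  unfold szPt
  rw [Projectivization.smul_mk]
  exact mk_eq_szPt m _ (szD_smul_vec hF k x y)

/-! ### membership in the Suzuki group -/

theorem mem_Sz_of_maps {g : Matrix.SpecialLinearGroup (Fin 4) F}
    (h : ∀ p ∈ suzukiOvoid F m, g • p ∈ suzukiOvoid F m) : g ∈ Sz F m := by
  rw [MulAction.mem_stabilizer_set_iff_smul_set_subset (Set.toFinite _)]
  rintro _ ⟨p, hp, rfl⟩
  exact h p hp

theorem szT_mem (hF : Fintype.card F = 2 ^ (2 * m + 1)) (a b : F) : szT m a b ∈ Sz F m := by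
  apply mem_Sz_of_maps
  intro p hp
  rcases (mem_ovoid_iff m p).1 hp with rfl | ⟨x, y, rfl⟩
  · rw [szT_smul_inf]
    exact szInf_mem m
  · rw [szT_smul_pt hF]
    exact szPt_mem m _ _

theorem szJ_mem (hF : Fintype.card F = 2 ^ (2 * m + 1)) : szJ F ∈ Sz F m := by
  apply mem_Sz_of_maps
  intro p hp
  rcases (mem_ovoid_iff m p).1 hp with rfl | ⟨x, y, rfl⟩
  · rw [szJ_smul_inf (m := m)]
    exact szPt_mem m _ _
  · by_cases h : x = 0 ∧ y = 0
    · rw [h.1, h.2, szJ_smul_zero_pt]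
      exact szInf_mem m
    · rw [szJ_smul_pt hF x y h]
      exact szPt_mem m _ _

theorem szD_mem (hF : Fintype.card F = 2 ^ (2 * m + 1)) (k : Fˣ) : szD m k ∈ Sz F m := by
  apply mem_Sz_of_maps
  intro p hp
  rcases (mem_ovoid_iff m p).1 hp with rfl | ⟨x, y, rfl⟩
  · rw [szD_smul_inf]
    exact szInf_mem m
  · rw [szD_smul_pt hF]
    exact szPt_mem m _ _

omit [Fintype F] in
theorem smul_mem_ovoid {g : Matrix.SpecialLinearGroup (Fin 4) F} (hg : g ∈ Sz F m)
    {p : Projectivization F (Fin 4 → F)} (hp : p ∈ suzukiOvoid F m) :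
    g • p ∈ suzukiOvoid F m := by
  rw [MulAction.mem_stabilizer_iff] at hg
  rw [← hg]
  exact ⟨p, hp, rfl⟩

end Cfsg.Agent.Lib.helper3
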