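import Mathlib
import Cfsg.Prelude.Def_LieExceptional
import Cfsg.Agent.Lib.helper3.SuzukiAlg
import Cfsg.Agent.Lib.helper3.SuzukiGroup

set_option autoImplicit false

namespace Cfsg.Agent.Lib.helper3

open Cfsg Matrix Polynomial
open scoped Pointwise

variable {F : Type*} [Field F] [Fintype F] {m : ℕ}

theorem sz_sigma_ge (hm : 1 ≤ m) : 4 ≤ 2 ^ (m + 1) := by
  calc 4 = 2 ^ 2 := by norm_num
    _ ≤ 2 ^ (m + 1) := Nat.pow_le_pow_right (by norm_num) (by omega)

theorem sz_sigma_lt (hm : 1 ≤ m) : 2 ^ (m + 1) + 2 < 2 ^ (2 * m + 1) := by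
  have h1 : 2 ^ (2 * m + 1) = 2 ^ m * 2 ^ (m + 1) := by
    rw [← pow_add]
    congr 1
    omega
  have h2 : 2 ≤ 2 ^ m := by
    calc 2 = 2 ^ 1 := by norm_num
      _ ≤ 2 ^ m := Nat.pow_le_pow_right (by norm_num) hm
  have h3 := sz_sigma_ge hm
  nlinarith

/-- a polynomial function in `t`, `t²`, `t^σ`, `t^(σ+2)` vanishing identically has zero
coefficients -/
theorem sz_poly_zero (hm : 1 ≤ m) (hF : Fintype.card F = 2 ^ (2 * m + 1)) {a1 a2 a3 a4 : F}
    (h : ∀ t : F, a1 * t + a2 * t ^ 2 + a3 * szθ m t + a4 * (szθ m t * t ^ 2) = 0) :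
    a1 = 0 ∧ a2 = 0 ∧ a3 = 0 ∧ a4 = 0 := by
  have hσ4 := sz_sigma_ge hm
  have hlt := sz_sigma_lt hm
  set σ := 2 ^ (m + 1) with hσ
  let p : F[X] := C a1 * X ^ 1 + C a2 * X ^ 2 + C a3 * X ^ σ + C a4 * X ^ (σ + 2)
  have hp : p = 0 := by
    apply Polynomial.eq_zero_of_natDegree_lt_card_of_eval_eq_zero p Function.injective_id
    · intro t
      have := h t
      unfold szθ at this
      rw [← hσ, ← pow_add] at this
      simpa [p] using this
    · rw [hF]
      refine lt_of_le_of_lt ?_ hlt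
      simp only [p]
      compute_degree
  have hc : ∀ n : ℕ, a1 * (if n = 1 then 1 else 0) + a2 * (if n = 2 then 1 else 0) +
      a3 * (if n = σ then 1 else 0) + a4 * (if n = σ + 2 then 1 else 0) = 0 := by
    intro n
    have := congrArg (fun q => q.coeff n) hp
    simpa only [p, coeff_add, coeff_C_mul, coeff_X_pow, coeff_zero] using this
  have c1 := hc 1
  have c2 := hc 2
  have c3 := hc σ
  have c4 := hc (σ + 2)
  rw [if_pos rfl, if_neg (by omega), if_neg (by omega), if_neg (by omega)] at c1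
  rw [if_neg (by omega), if_pos rfl, if_neg (by omega), if_neg (by omega)] at c2
  rw [if_neg (by omega), if_neg (by omega), if_pos rfl, if_neg (by omega)] at c3
  rw [if_neg (by omega), if_neg (by omega), if_neg (by omega), if_pos rfl] at c4
  simp only [mul_one, mul_zero, add_zero, zero_add] at c1 c2 c3 c4
  exact ⟨c1, c2, c3, c4⟩

/-- the algebraic core of the computation of the two-point stabilizer -/
theorem sz_stab_alg (hm : 1 ≤ m) (hF : Fintype.card F = 2 ^ (2 * m + 1))
    {α δ p0 p1 p2 p3 r0 r1 r2 r3 : F} (hα : α ≠ 0)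
    (H : ∀ x y : F, ∃ c x' y' : F, c ≠ 0 ∧ α * szf m x y + p0 * y + r0 * x = c * szf m x' y' ∧
      p1 * y + r1 * x = c * y' ∧ p2 * y + r2 * x = c * x' ∧ p3 * y + r3 * x + δ = c) :
    p3 = 0 ∧ r3 = 0 ∧ p0 = 0 ∧ r0 = 0 ∧ p2 = 0 ∧ r1 = 0 ∧ δ ≠ 0 ∧ r2 ≠ 0 ∧
      p1 = szθ m (r2 / δ) * r2 ∧ α = szθ m (r2 / δ) * (r2 / δ) * r2 := by
  have h2 := sz_two hF
  have hp3 : p3 = 0 := by
    by_contra hp
    obtain ⟨c, x', y', hc, -, -, -, h3⟩ := H 0 (-δ / p3)
    apply hc
    rw [← h3]
    field_simp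
    ring
  have hr3 : r3 = 0 := by
    by_contra hr
    obtain ⟨c, x', y', hc, -, -, -, h3⟩ := H (-δ / r3) 0
    apply hc
    rw [← h3]
    field_simp
    ring
  have hδ : δ ≠ 0 := by
    obtain ⟨c, x', y', hc, -, -, -, h3⟩ := H 0 0
    intro h0
    apply hc
    rw [← h3, hp3, hr3, h0]
    ring
  set A := p2 / δ with hA
  set B := r2 / δ with hB
  set C' := p1 / δ with hC
  set D := r1 / δ with hD
  set κ := α / δ with hκ
  set P := p0 / δ with hP
  set R := r0 / δ with hR
  have hκ0 : κ ≠ 0 := div_ne_zero hα hδ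
  have key : ∀ x y : F, κ * szf m x y + P * y + R * x = szf m (A * y + B * x) (C' * y + D * x) := by
    intro x y
    obtain ⟨c, x', y', hc, e0, e1, e2, e3⟩ := H x y
    have hcδ : c = δ := by
      rw [← e3, hp3, hr3]
      ring
    rw [hcδ] at e0 e1 e2
    have hx' : A * y + B * x = x' := by
      rw [hA, hB]
      field_simp
      linear_combination e2
    have hy' : C' * y + D * x = y' := by
      rw [hC, hD]
      field_simp
      linear_combination e1
    rw [hx', hy', hκ, hP, hR]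
    field_simp
    linear_combination e0
  -- the case `x = 0`
  have hy0 : ∀ t : F, P * t + (-(A * C')) * t ^ 2 + (κ - szθ m C') * szθ m t +
      (-(szθ m A * A ^ 2)) * (szθ m t * t ^ 2) = 0 := by
    intro t
    have := key 0 t
    rw [szf_eq, szf_eq, szθ_zero] at this
    simp only [mul_zero, add_zero, zero_mul, zero_add] at this
    rw [szθ_mul, szθ_mul] at this
    linear_combination this
  obtain ⟨hP0, hAC, hκC, hAA⟩ := sz_poly_zero hm hF hy0
  have hA0 : A = 0 := by
    have : szθ m A * A ^ 2 = 0 := by linear_combination -hAA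
    rcases mul_eq_zero.1 this with h' | h'
    · exact szθ_eq_zero m h'
    · exact pow_eq_zero_iff (two_ne_zero) |>.1 h'
  -- the case `y = 0`
  have hx0 : ∀ t : F, R * t + (-(B * D)) * t ^ 2 + (-(szθ m D)) * szθ m t +
      (κ - szθ m B * B ^ 2) * (szθ m t * t ^ 2) = 0 := by
    intro t
    have := key t 0
    rw [szf_eq, szf_eq, szθ_zero] at this
    simp only [mul_zero, add_zero, zero_mul, zero_add] at this
    rw [szθ_mul, szθ_mul] at this
    linear_combination this
  obtain ⟨hR0, hBD, hθD, hκB⟩ := sz_poly_zero hm hF hx0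
  have hD0 : D = 0 := by
    have : szθ m D = 0 := by linear_combination -hθD
    exact szθ_eq_zero m this
  -- the case `x = y = 1`
  have h11 := key 1 1
  rw [szf_eq, szf_eq, hA0, hD0, hP0, hR0, szθ_one] at h11
  simp only [mul_one, zero_mul, add_zero, zero_add, one_pow] at h11
  have hκBC : κ = B * C' := by
    have e1 : szθ m C' = κ := by linear_combination -hκC
    have e2 : szθ m B * B ^ 2 = κ := by linear_combination -hκB
    rw [e1, e2] at h11
    grind
  have hB0 : B ≠ 0 := by
    intro h0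
    apply hκ0
    rw [hκBC, h0, zero_mul]
  have hCB : C' = szθ m B * B := by
    have e2 : szθ m B * B ^ 2 = κ := by linear_combination -hκB
    have : B * (C' - szθ m B * B) = 0 := by
      rw [hκBC] at e2
      linear_combination -e2
    rcases mul_eq_zero.1 this with h' | h'
    · exact absurd h' hB0
    · exact sub_eq_zero.1 h'
  refine ⟨hp3, hr3, ?_, ?_, ?_, ?_, hδ, ?_, ?_, ?_⟩
  · rw [hP] at hP0
    exact (div_eq_zero_iff.1 hP0).resolve_right hδ
  · rw [hR] at hR0
    exact (div_eq_zero_iff.1 hR0).resolve_right hδ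
  · rw [hA] at hA0
    exact (div_eq_zero_iff.1 hA0).resolve_right hδ
  · rw [hD] at hD0
    exact (div_eq_zero_iff.1 hD0).resolve_right hδ
  · intro h0
    apply hB0
    rw [hB, h0, zero_div]
  · have : p1 = C' * δ := by
      rw [hC]
      field_simp
    rw [this, hCB, hB]
    field_simp
  · have : α = κ * δ := by
      rw [hκ]
      field_simp
    rw [this, hκBC, hCB, hB]
    field_simp

omit [Fintype F] in
theorem szvec_zero_eq (m : ℕ) : szvec m (0 : F) 0 = ![0, 0, 0, 1] := by
  unfold szvec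
  rw [szf_zero]

theorem sz_fourth_root (hF : Fintype.card F = 2 ^ (2 * m + 1)) {z : F} (hz : z ^ 4 = 1) :
    z = 1 := by
  have h2 := sz_two hF
  have : (z - 1) ^ 4 = 0 := by grind
  have := pow_eq_zero_iff (by norm_num) |>.1 this
  exact sub_eq_zero.1 this

/-- the stabilizer of the two base points consists of the diagonal elements -/
theorem sz_two_point_stab (hm : 1 ≤ m) (hF : Fintype.card F = 2 ^ (2 * m + 1))
    {g : Matrix.SpecialLinearGroup (Fin 4) F} (hg : g ∈ Sz F m) (hinf : g • szInf F = szInf F)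
    (hzero : g • szPt m (0 : F) 0 = szPt m 0 0) : ∃ k : Fˣ, g = szD m k := by
  have h2 := sz_two hF
  set M : Matrix (Fin 4) (Fin 4) F := (g : Matrix (Fin 4) (Fin 4) F) with hM
  -- column 0
  have hcol0 : ∃ a : F, g • szE0 F = a • szE0 F := by
    unfold szInf at hinf
    rw [Projectivization.smul_mk, Projectivization.mk_eq_mk_iff'] at hinf
    obtain ⟨a, ha⟩ := hinf
    exact ⟨a, ha.symm⟩
  obtain ⟨a, ha⟩ := hcol0
  rw [sl4_smul_vec] at ha
  have a0 := congrFun ha 0
  have a1 := congrFun ha 1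
  have a2 := congrFun ha 2
  have a3 := congrFun ha 3
  simp [szE0, Matrix.mulVec, dotProduct, Fin.sum_univ_four] at a0 a1 a2 a3
  -- column 3
  have hcol3 : ∃ d : F, g • szvec m (0 : F) 0 = d • szvec m (0 : F) 0 := by
    unfold szPt at hzero
    rw [Projectivization.smul_mk, Projectivization.mk_eq_mk_iff'] at hzero
    obtain ⟨d, hd⟩ := hzero
    exact ⟨d, hd.symm⟩
  obtain ⟨d, hd⟩ := hcol3
  rw [sl4_smul_vec, szvec_zero_eq] at hd
  have d0 := congrFun hd 0
  have d1 := congrFun hd 1
  have d2 := congrFun hd 2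
  have d3 := congrFun hd 3
  simp [Matrix.mulVec, dotProduct, Fin.sum_univ_four] at d0 d1 d2 d3
  -- `α ≠ 0`
  have hα : M 0 0 ≠ 0 := by
    intro h0
    have : g • szE0 F = 0 := by
      rw [sl4_smul_vec, ha, ← a0]
      change M 0 0 • szE0 F = 0
      rw [h0, zero_smul]
    rw [smul_eq_zero_iff_eq] at this
    exact szE0_ne_zero this
  -- the functional equation
  have H : ∀ x y : F, ∃ c x' y' : F, c ≠ 0 ∧
      M 0 0 * szf m x y + M 0 1 * y + M 0 2 * x = c * szf m x' y' ∧
      M 1 1 * y + M 1 2 * x = c * y' ∧ M 2 1 * y + M 2 2 * x = c * x' ∧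
      M 3 1 * y + M 3 2 * x + M 3 3 = c := by
    intro x y
    have hmem := smul_mem_ovoid hg (szPt_mem m x y)
    rcases (mem_ovoid_iff m _).1 hmem with h | ⟨x', y', h⟩
    · exfalso
      rw [← hinf] at h
      exact szPt_ne_inf m x y (MulAction.injective g h)
    · unfold szPt at h
      rw [Projectivization.smul_mk, Projectivization.mk_eq_mk_iff'] at h
      obtain ⟨c, hc⟩ := h
      have hc0 : c ≠ 0 := by
        intro h0
        rw [h0, zero_smul] at hc
        have := hc.symm
        rw [smul_eq_zero_iff_eq] at this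
        exact szvec_ne_zero m x y this
      rw [sl4_smul_vec] at hc
      have c0 := congrFun hc 0
      have c1 := congrFun hc 1
      have c2 := congrFun hc 2
      have c3 := congrFun hc 3
      simp [szvec, Matrix.mulVec, dotProduct, Fin.sum_univ_four] at c0 c1 c2 c3
      refine ⟨c, x', y', hc0, ?_, ?_, ?_, ?_⟩
      · rw [c0, d0]; ring
      · rw [c1, a1, d1]; ring
      · rw [c2, a2, d2]; ring
      · rw [c3, a3]; ring
  obtain ⟨e31, e32, e01, e02, e21, e12, hδ, hr2, e11, e00⟩ := sz_stab_alg hm hF hα H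
  -- a square root of `B`
  have hchar : CharP F 2 := CharTwo.of_one_ne_zero_of_two_eq_zero one_ne_zero h2
  obtain ⟨k, hk⟩ := isSquare_of_charTwo' (M 2 2 / M 3 3)
  have hk0 : k ≠ 0 := by
    intro h0
    rw [h0, mul_zero] at hk
    exact (div_ne_zero hr2 hδ) hk
  have hθk : szθ m k ≠ 0 := szθ_ne_zero m hk0
  have hθB : szθ m (M 2 2 / M 3 3) = szθ m k ^ 2 := by
    rw [hk, szθ_mul, pow_two]
  have hr2' : M 2 2 = k ^ 2 * M 3 3 := by
    have : M 2 2 = (M 2 2 / M 3 3) * M 3 3 := by field_simp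
    rw [this, hk]
    ring
  rw [hθB] at e11 e00
  -- the determinant
  have hdiag : M = Matrix.diagonal ![M 0 0, M 1 1, M 2 2, M 3 3] := by
    ext i j
    fin_cases i <;> fin_cases j <;> simp [Matrix.diagonal] <;> assumption
  have hdet : M 0 0 * M 1 1 * M 2 2 * M 3 3 = 1 := by
    have h1 : M.det = 1 := g.2
    rw [hdiag, Matrix.det_diagonal, Fin.prod_univ_four] at h1
    simpa using h1
  have hz : szθ m k * k ^ 2 * M 3 3 = 1 := by
    apply sz_fourth_root hF
    rw [← hdet, e00, e11, hk, hr2']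
    ring
  have hδ' : M 3 3 = (k ^ 2 * szθ m k)⁻¹ := by
    rw [eq_comm, inv_eq_iff_eq_inv, ← one_div]
    rw [eq_div_iff hδ]
    linear_combination hz
  refine ⟨Units.mk0 k hk0, ?_⟩
  apply Subtype.ext
  change M = szDmat m k
  rw [hdiag]
  ext i j
  fin_cases i <;> fin_cases j <;> simp [Matrix.diagonal, szDmat]
  · rw [e00, hk, hr2', hδ']
    field_simp
  · rw [e11, hr2', hδ']
    field_simp
  · rw [hr2', hδ']
    field_simp
  · rw [hδ']
    field_simp

end Cfsg.Agent.Lib.helper3
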