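import Mathlib
import Cfsg.Prelude.Def_LieExceptional
import Cfsg.Agent.S0326
import Cfsg.Agent.Lib.helper3.SuzukiAlg
import Cfsg.Agent.Lib.helper3.SuzukiGroup
import Cfsg.Agent.Lib.helper3.SuzukiStab

set_option autoImplicit false

namespace Cfsg.Agent.Lib.helper3

open Cfsg Matrix
open scoped Pointwise

/-- orbit-stabilizer for a subgroup `H` and the subgroup `H'` of its elements fixing `a` -/
theorem card_eq_orbit_mul' {G α : Type*} [Group G] [MulAction G α] (H H' : Subgroup G) (a : α)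
    (h : ∀ g, g ∈ H' ↔ g ∈ H ∧ g • a = a) :
    Nat.card H = Nat.card (MulAction.orbit H a) * Nat.card H' := by
  rw [← Nat.card_congr (MulAction.orbitProdStabilizerEquivGroup H a), Nat.card_prod]
  congr 1
  apply Nat.card_congr
  exact
    { toFun := fun x => ⟨x.1.1, (h _).2 ⟨x.1.2, x.2⟩⟩
      invFun := fun y => ⟨⟨y.1, ((h _).1 y.2).1⟩, ((h _).1 y.2).2⟩
      left_inv := fun _ => rfl
      right_inv := fun _ => rfl }

variable {F : Type*} [Field F] [Fintype F] {m : ℕ}

/-- the stabilizer of the point at infinity, as a subgroup of `SL₄` -/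
def szHinf (F : Type*) [Field F] (m : ℕ) : Subgroup (Matrix.SpecialLinearGroup (Fin 4) F) :=
  Sz F m ⊓ MulAction.stabilizer (Matrix.SpecialLinearGroup (Fin 4) F) (szInf F)

/-- the stabilizer of the two base points, as a subgroup of `SL₄` -/
def szHtwo (F : Type*) [Field F] (m : ℕ) : Subgroup (Matrix.SpecialLinearGroup (Fin 4) F) :=
  szHinf F m ⊓ MulAction.stabilizer (Matrix.SpecialLinearGroup (Fin 4) F) (szPt m (0 : F) 0)

omit [Fintype F] in
theorem mem_szHinf {g : Matrix.SpecialLinearGroup (Fin 4) F} :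
    g ∈ szHinf F m ↔ g ∈ Sz F m ∧ g • szInf F = szInf F := Iff.rfl

omit [Fintype F] in
theorem mem_szHtwo {g : Matrix.SpecialLinearGroup (Fin 4) F} :
    g ∈ szHtwo F m ↔ g ∈ szHinf F m ∧ g • szPt m (0 : F) 0 = szPt m 0 0 := Iff.rfl

theorem szT_zero_pt (hF : Fintype.card F = 2 ^ (2 * m + 1)) (x y : F) :
    szT m x y • szPt m (0 : F) 0 = szPt m x y := by
  rw [szT_smul_pt hF]
  congr 1
  · ring
  · ring

theorem orbit_Sz_inf (hF : Fintype.card F = 2 ^ (2 * m + 1)) :
    MulAction.orbit (Sz F m) (szInf F) = suzukiOvoid F m := by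
  ext p
  rw [MulAction.mem_orbit_iff]
  constructor
  · rintro ⟨⟨g, hg⟩, rfl⟩
    exact smul_mem_ovoid hg (szInf_mem m)
  · intro hp
    rcases (mem_ovoid_iff m p).1 hp with rfl | ⟨x, y, rfl⟩
    · exact ⟨1, one_smul _ _⟩
    · refine ⟨⟨szT m x y * szJ F, (Sz F m).mul_mem (szT_mem hF x y) (szJ_mem hF)⟩, ?_⟩
      change (szT m x y * szJ F) • szInf F = szPt m x y
      rw [mul_smul, szJ_smul_inf (m := m), szT_zero_pt hF]

theorem orbit_szHinf_zero (hF : Fintype.card F = 2 ^ (2 * m + 1)) :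
    MulAction.orbit (szHinf F m) (szPt m (0 : F) 0) = suzukiOvoid F m \ {szInf F} := by
  ext p
  rw [MulAction.mem_orbit_iff]
  constructor
  · rintro ⟨⟨g, hg⟩, rfl⟩
    rw [mem_szHinf] at hg
    refine ⟨smul_mem_ovoid hg.1 (szPt_mem m 0 0), ?_⟩
    rw [Set.mem_singleton_iff]
    intro h
    change g • szPt m (0 : F) 0 = szInf F at h
    rw [← hg.2] at h
    exact szPt_ne_inf m 0 0 (MulAction.injective g h)
  · rintro ⟨hp, hne⟩
    rw [Set.mem_singleton_iff] at hne
    rcases (mem_ovoid_iff m p).1 hp with rfl | ⟨x, y, rfl⟩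
    · exact absurd rfl hne
    · refine ⟨⟨szT m x y, mem_szHinf.2 ⟨szT_mem hF x y, szT_smul_inf x y⟩⟩, ?_⟩
      exact szT_zero_pt hF x y

/-! ### the torus -/

omit [Fintype F] in
theorem szD_mul (k k' : Fˣ) : szD m (k * k') = szD m k * szD m k' := by
  apply Subtype.ext
  change szDmat m ((k * k' : Fˣ) : F) = szDmat m (k : F) * szDmat m (k' : F)
  have hk : (k : F) ≠ 0 := k.ne_zero
  have hk' : (k' : F) ≠ 0 := k'.ne_zero
  have h1 : szθ m (k : F) ≠ 0 := szθ_ne_zero m hk
  have h2 : szθ m (k' : F) ≠ 0 := szθ_ne_zero m hk'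
  ext i j
  fin_cases i <;> fin_cases j <;>
    simp [szDmat, Matrix.mul_apply, Fin.sum_univ_four, szθ_mul] <;> ring

omit [Fintype F] in
theorem szD_one : szD m (1 : Fˣ) = 1 := by
  apply Subtype.ext
  change szDmat m ((1 : Fˣ) : F) = 1
  ext i j
  fin_cases i <;> fin_cases j <;> simp [szDmat, szθ_one]

theorem szD_injective (hF : Fintype.card F = 2 ^ (2 * m + 1)) :
    Function.Injective (szD (F := F) m) := by
  intro k k' h
  have h2 := sz_two hF
  have hmat : szDmat m (k : F) = szDmat m (k' : F) := congrArg Subtype.val h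
  have e1 : szθ m (k : F) = szθ m (k' : F) := by
    have := congrFun (congrFun hmat 1) 1
    simpa [szDmat] using this
  have e2 : (k : F) ^ 2 = (k' : F) ^ 2 := by
    have := congrArg (szθ m) e1
    rwa [szθ_szθ hF, szθ_szθ hF] at this
  have e3 : ((k : F) - (k' : F)) ^ 2 = 0 := by grind
  have := pow_eq_zero_iff (two_ne_zero) |>.1 e3
  exact Units.ext (sub_eq_zero.1 this)

theorem szD_mem_szHtwo (hF : Fintype.card F = 2 ^ (2 * m + 1)) (k : Fˣ) :
    szD m k ∈ szHtwo F m := by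
  rw [mem_szHtwo, mem_szHinf]
  refine ⟨⟨szD_mem hF k, szD_smul_inf k⟩, ?_⟩
  rw [szD_smul_pt hF]
  congr 1
  · ring
  · ring

theorem card_szHtwo (hm : 1 ≤ m) (hF : Fintype.card F = 2 ^ (2 * m + 1)) :
    Nat.card (szHtwo F m) = 2 ^ (2 * m + 1) - 1 := by
  have hbij : Function.Bijective
      (fun k : Fˣ => (⟨szD m k, szD_mem_szHtwo hF k⟩ : szHtwo F m)) := by
    constructor
    · intro k k' h
      exact szD_injective hF (congrArg Subtype.val h)
    · rintro ⟨g, hg⟩
      rw [mem_szHtwo, mem_szHinf] at hg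
      obtain ⟨k, hk⟩ := sz_two_point_stab hm hF hg.1.1 hg.1.2 hg.2
      exact ⟨k, Subtype.ext hk.symm⟩
  rw [← Nat.card_congr (Equiv.ofBijective _ hbij), Nat.card_units, Nat.card_eq_fintype_card, hF]

theorem card_ovoid (hF : Fintype.card F = 2 ^ (2 * m + 1)) :
    Nat.card (suzukiOvoid F m) = (2 ^ (2 * m + 1)) ^ 2 + 1 := by
  rw [Cfsg.Agent.S0326.result, hF]

theorem card_szHinf (hm : 1 ≤ m) (hF : Fintype.card F = 2 ^ (2 * m + 1)) :
    Nat.card (szHinf F m) = (2 ^ (2 * m + 1)) ^ 2 * (2 ^ (2 * m + 1) - 1) := by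
  rw [card_eq_orbit_mul' (szHinf F m) (szHtwo F m) (szPt m (0 : F) 0) (fun g => mem_szHtwo),
    card_szHtwo hm hF, orbit_szHinf_zero hF, Nat.card_coe_set_eq,
    Set.ncard_sdiff_singleton_of_mem (szInf_mem m), ← Nat.card_coe_set_eq, card_ovoid hF]
  rfl

theorem card_Sz (hm : 1 ≤ m) (hF : Fintype.card F = 2 ^ (2 * m + 1)) :
    Nat.card (Sz F m) =
      (2 ^ (2 * m + 1)) ^ 2 * ((2 ^ (2 * m + 1)) ^ 2 + 1) * (2 ^ (2 * m + 1) - 1) := by
  rw [card_eq_orbit_mul' (Sz F m) (szHinf F m) (szInf F) (fun g => mem_szHinf),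
    card_szHinf hm hF, orbit_Sz_inf hF, card_ovoid hF]
  ring

theorem szD_smul_zero (hF : Fintype.card F = 2 ^ (2 * m + 1)) (k : Fˣ) :
    szD m k • szPt m (0 : F) 0 = szPt m 0 0 := (mem_szHtwo.1 (szD_mem_szHtwo hF k)).2

theorem card_stab_inf (hm : 1 ≤ m) (hF : Fintype.card F = 2 ^ (2 * m + 1)) :
    Nat.card (MulAction.stabilizer (Sz F m) (suzukiPointInfinity F)) =
      (2 ^ (2 * m + 1)) ^ 2 * (2 ^ (2 * m + 1) - 1) := by
  rw [← card_szHinf hm hF]
  apply Nat.card_congr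
  exact
    { toFun := fun x => ⟨x.1.1, ⟨x.1.2, x.2⟩⟩
      invFun := fun y => ⟨⟨y.1, y.2.1⟩, y.2.2⟩
      left_inv := fun _ => rfl
      right_inv := fun _ => rfl }

theorem two_point_stab_equiv (hm : 1 ≤ m) (hF : Fintype.card F = 2 ^ (2 * m + 1)) :
    Nonempty (↥(MulAction.stabilizer (Sz F m) (suzukiPointInfinity F) ⊓
        MulAction.stabilizer (Sz F m) (suzukiPointZero F)) ≃* Fˣ) := by
  have hmem : ∀ k : Fˣ, (⟨szD m k, szD_mem hF k⟩ : Sz F m) ∈
      MulAction.stabilizer (Sz F m) (suzukiPointInfinity F) ⊓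
        MulAction.stabilizer (Sz F m) (suzukiPointZero F) := by
    intro k
    refine ⟨szD_smul_inf k, ?_⟩
    change szD m k • suzukiPointZero F = suzukiPointZero F
    rw [szPt_zero_eq m]
    exact szD_smul_zero hF k
  let ψ : Fˣ →* ↥(MulAction.stabilizer (Sz F m) (suzukiPointInfinity F) ⊓
        MulAction.stabilizer (Sz F m) (suzukiPointZero F)) :=
    { toFun := fun k => ⟨⟨szD m k, szD_mem hF k⟩, hmem k⟩
      map_one' := by
        apply Subtype.ext
        apply Subtype.ext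
        exact szD_one
      map_mul' := by
        intro k k'
        apply Subtype.ext
        apply Subtype.ext
        exact szD_mul k k' }
  have hbij : Function.Bijective ψ := by
    constructor
    · intro k k' h
      exact szD_injective hF (congrArg (fun x => x.1.1) h)
    · rintro ⟨⟨g, hg⟩, hg1, hg2⟩
      have h1 : g • szInf F = szInf F := hg1
      have h2 : g • szPt m (0 : F) 0 = szPt m 0 0 := by
        rw [← szPt_zero_eq m]
        exact hg2
      obtain ⟨k, hk⟩ := sz_two_point_stab hm hF hg h1 h2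
      refine ⟨k, ?_⟩
      apply Subtype.ext
      apply Subtype.ext
      exact hk.symm
  exact ⟨(MulEquiv.ofBijective ψ hbij).symm⟩

end Cfsg.Agent.Lib.helper3
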