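import Mathlib
import Cfsg.Prelude.Def_LieExceptional
import Cfsg.Agent.Lib.helper3.SuzukiAlg
import Cfsg.Agent.Lib.helper3.SuzukiGroup
import Cfsg.Agent.Lib.helper3.SuzukiStab
import Cfsg.Agent.Lib.helper3.SuzukiCard

set_option autoImplicit false

namespace Cfsg.Agent.Lib.helper3

open Cfsg Matrix
open scoped Pointwise

variable {F : Type*} [Field F] [Fintype F] {m : ℕ}

/-- elements fixing the point at infinity are products of a translation and a torus element -/
theorem szHinf_decomp (hm : 1 ≤ m) (hF : Fintype.card F = 2 ^ (2 * m + 1))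
    {g : Matrix.SpecialLinearGroup (Fin 4) F} (hg : g ∈ szHinf F m) :
    ∃ (x y : F) (k : Fˣ), g = szT m x y * szD m k := by
  have hg' := mem_szHinf.1 hg
  have hmem : g • szPt m (0 : F) 0 ∈ MulAction.orbit (szHinf F m) (szPt m (0 : F) 0) :=
    ⟨⟨g, hg⟩, rfl⟩
  rw [orbit_szHinf_zero hF] at hmem
  obtain ⟨hmem1, hmem2⟩ := hmem
  rw [Set.mem_singleton_iff] at hmem2
  rcases (mem_ovoid_iff m _).1 hmem1 with h | ⟨x, y, h⟩
  · exact absurd h hmem2
  · have hT : szT m x y ∈ szHinf F m := mem_szHinf.2 ⟨szT_mem hF x y, szT_smul_inf x y⟩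
    have hh : (szT m x y)⁻¹ * g ∈ szHinf F m := (szHinf F m).mul_mem ((szHinf F m).inv_mem hT) hg
    have hh' := mem_szHinf.1 hh
    have h0 : ((szT m x y)⁻¹ * g) • szPt m (0 : F) 0 = szPt m 0 0 := by
      rw [mul_smul, h, inv_smul_eq_iff, szT_zero_pt hF]
    obtain ⟨k, hk⟩ := sz_two_point_stab hm hF hh'.1 hh'.2 h0
    refine ⟨x, y, k, ?_⟩
    rw [← hk]
    group

theorem Sz_decomp (hm : 1 ≤ m) (hF : Fintype.card F = 2 ^ (2 * m + 1))
    {g : Matrix.SpecialLinearGroup (Fin 4) F} (hg : g ∈ Sz F m) :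
    (∃ (x y : F) (k : Fˣ), g = szT m x y * szD m k) ∨
      ∃ (x y x' y' : F) (k : Fˣ), g = szT m x y * szJ F * (szT m x' y' * szD m k) := by
  have hmem := smul_mem_ovoid hg (szInf_mem m)
  rcases (mem_ovoid_iff m _).1 hmem with h | ⟨x, y, h⟩
  · left
    exact szHinf_decomp hm hF (mem_szHinf.2 ⟨hg, h⟩)
  · right
    have hu : szT m x y * szJ F ∈ Sz F m := (Sz F m).mul_mem (szT_mem hF x y) (szJ_mem hF)
    have hh : (szT m x y * szJ F)⁻¹ * g ∈ szHinf F m := by
      refine mem_szHinf.2 ⟨(Sz F m).mul_mem ((Sz F m).inv_mem hu) hg, ?_⟩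
      rw [mul_smul, h, inv_smul_eq_iff, mul_smul, szJ_smul_inf (m := m), szT_zero_pt hF]
    obtain ⟨x', y', k, hk⟩ := szHinf_decomp hm hF hh
    refine ⟨x, y, x', y', k, ?_⟩
    rw [← hk]
    group

/-- induction principle for the Suzuki group -/
theorem Sz_induction (hm : 1 ≤ m) (hF : Fintype.card F = 2 ^ (2 * m + 1))
    (P : Matrix.SpecialLinearGroup (Fin 4) F → Prop) (hmul : ∀ g h, P g → P h → P (g * h))
    (hT : ∀ a b, P (szT m a b)) (hJ : P (szJ F)) (hD : ∀ k, P (szD m k))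
    {g : Matrix.SpecialLinearGroup (Fin 4) F} (hg : g ∈ Sz F m) : P g := by
  rcases Sz_decomp hm hF hg with ⟨x, y, k, rfl⟩ | ⟨x, y, x', y', k, rfl⟩
  · exact hmul _ _ (hT x y) (hD k)
  · exact hmul _ _ (hmul _ _ (hT x y) hJ) (hmul _ _ (hT x' y') (hD k))

/-! ### the invariant form -/

theorem suzukiForm_T (hF : Fintype.card F = 2 ^ (2 * m + 1)) (a b : F) :
    (szTmat m a b).transpose * suzukiForm F * szTmat m a b = suzukiForm F := by
  have h2 := sz_two hF
  ext i j
  fin_cases i <;> fin_cases j <;>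
    simp [szTmat, suzukiForm, Matrix.mul_apply, Fin.sum_univ_four] <;> grind

omit [Fintype F] in
theorem suzukiForm_J :
    (szJmat F).transpose * suzukiForm F * szJmat F = suzukiForm F := by
  ext i j
  fin_cases i <;> fin_cases j <;>
    simp [szJmat, suzukiForm, Matrix.mul_apply, Fin.sum_univ_four]

omit [Fintype F] in
theorem suzukiForm_D {k : F} (hk : k ≠ 0) :
    (szDmat m k).transpose * suzukiForm F * szDmat m k = suzukiForm F := by
  have h1 : szθ m k ≠ 0 := szθ_ne_zero m hk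
  ext i j
  fin_cases i <;> fin_cases j <;>
    simp [szDmat, suzukiForm, Matrix.mul_apply, Fin.sum_univ_four] <;> field_simp

theorem Sz_preserves_form (hm : 1 ≤ m) (hF : Fintype.card F = 2 ^ (2 * m + 1))
    {g : Matrix.SpecialLinearGroup (Fin 4) F} (hg : g ∈ Sz F m) :
    (g : Matrix (Fin 4) (Fin 4) F).transpose * suzukiForm F * (g : Matrix (Fin 4) (Fin 4) F) =
      suzukiForm F := by
  refine Sz_induction hm hF
    (fun g => (g : Matrix (Fin 4) (Fin 4) F).transpose * suzukiForm F *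
      (g : Matrix (Fin 4) (Fin 4) F) = suzukiForm F) ?_ ?_ ?_ ?_ hg
  · intro g h hg hh
    simp only [Matrix.SpecialLinearGroup.coe_mul, Matrix.transpose_mul]
    calc (h : Matrix (Fin 4) (Fin 4) F).transpose * (g : Matrix (Fin 4) (Fin 4) F).transpose *
          suzukiForm F * ((g : Matrix (Fin 4) (Fin 4) F) * (h : Matrix (Fin 4) (Fin 4) F))
        = (h : Matrix (Fin 4) (Fin 4) F).transpose * ((g : Matrix (Fin 4) (Fin 4) F).transpose *
          suzukiForm F * (g : Matrix (Fin 4) (Fin 4) F)) * (h : Matrix (Fin 4) (Fin 4) F) := by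
          simp only [Matrix.mul_assoc]
      _ = suzukiForm F := by rw [hg, hh]
  · intro a b
    exact suzukiForm_T hF a b
  · exact suzukiForm_J
  · intro k
    exact suzukiForm_D k.ne_zero

end Cfsg.Agent.Lib.helper3
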