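import Mathlib
import Cfsg.Prelude.Def_LieExceptional
import Cfsg.Agent.Lib.helper3.SuzukiAlg
import Cfsg.Agent.Lib.helper3.SuzukiGroup
import Cfsg.Agent.Lib.helper3.SuzukiStab
import Cfsg.Agent.Lib.helper3.SuzukiCard
import Cfsg.Agent.Lib.helper3.SuzukiForm

set_option autoImplicit false

namespace Cfsg.Agent.Lib.helper3

open Cfsg Matrix
open scoped Pointwise

variable {F : Type*} [Field F] [Fintype F] {m : ℕ}

/-- the multiplication law of the translations -/
theorem szT_mul (hF : Fintype.card F = 2 ^ (2 * m + 1)) (a b a' b' : F) :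
    szT m a b * szT m a' b' = szT m (a + a') (b + b' + szθ m a * a') := by
  have h2 := sz_two hF
  apply Subtype.ext
  change szTmat m a b * szTmat m a' b' = szTmat m (a + a') (b + b' + szθ m a * a')
  ext i j
  fin_cases i <;> fin_cases j <;>
    simp [szTmat, Matrix.mul_apply, Fin.sum_univ_four, szf_eq, szθ_add hF, szθ_mul, szθ_szθ hF] <;>
    grind

omit [Fintype F] in
theorem szT_zero : szT m (0 : F) 0 = 1 := by
  apply Subtype.ext
  change szTmat m (0 : F) 0 = 1
  ext i j
  fin_cases i <;> fin_cases j <;> simp [szTmat, szf_zero, szθ_zero]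

theorem szT_inv (hF : Fintype.card F = 2 ^ (2 * m + 1)) (a b : F) :
    (szT m a b)⁻¹ = szT m a (b + a * szθ m a) := by
  have h2 := sz_two hF
  rw [inv_eq_iff_mul_eq_one, szT_mul hF]
  have e1 : a + a = 0 := by grind
  have e2 : b + (b + a * szθ m a) + szθ m a * a = 0 := by grind
  rw [e1, e2, szT_zero]

/-- the torus normalizes the translations -/
theorem szD_szT (hF : Fintype.card F = 2 ^ (2 * m + 1)) (k : Fˣ) (a b : F) :
    szD m k * szT m a b =
      szT m ((k : F) ^ 2 * a) ((k : F) ^ 2 * szθ m (k : F) ^ 2 * b) * szD m k := by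
  have h2 := sz_two hF
  have hk : (k : F) ≠ 0 := k.ne_zero
  have h1 : szθ m (k : F) ≠ 0 := szθ_ne_zero m hk
  have e1 : szθ m ((k : F) ^ 2) = szθ m (k : F) ^ 2 := by
    rw [pow_two, szθ_mul, ← pow_two]
  have e2 : szθ m (szθ m (k : F) ^ 2) = (k : F) ^ 4 := by
    rw [pow_two, szθ_mul, szθ_szθ hF]
    ring
  apply Subtype.ext
  change szDmat m (k : F) * szTmat m a b =
    szTmat m ((k : F) ^ 2 * a) ((k : F) ^ 2 * szθ m (k : F) ^ 2 * b) * szDmat m (k : F)
  ext i j
  fin_cases i <;> fin_cases j <;>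
    simp [szTmat, szDmat, Matrix.mul_apply, Fin.sum_univ_four, szf_eq, szθ_mul, e1, e2] <;>
    field_simp

omit [Fintype F] in
theorem szJ_mul_self : szJ F * szJ F = 1 := by
  apply Subtype.ext
  change szJmat F * szJmat F = 1
  ext i j
  fin_cases i <;> fin_cases j <;> simp [szJmat, Matrix.mul_apply, Fin.sum_univ_four]

omit [Fintype F] in
theorem szJ_szD (k : Fˣ) : szJ F * szD m k = szD m k⁻¹ * szJ F := by
  have hk : (k : F) ≠ 0 := k.ne_zero
  have h1 : szθ m (k : F) ≠ 0 := szθ_ne_zero m hk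
  have e1 : szθ m ((k : F)⁻¹) = (szθ m (k : F))⁻¹ := by
    unfold szθ
    rw [inv_pow]
  apply Subtype.ext
  change szJmat F * szDmat m (k : F) = szDmat m ((k⁻¹ : Fˣ) : F) * szJmat F
  rw [Units.val_inv_eq_inv_val]
  ext i j
  fin_cases i <;> fin_cases j <;>
    simp [szJmat, szDmat, Matrix.mul_apply, Fin.sum_univ_four, e1] <;> field_simp

end Cfsg.Agent.Lib.helper3
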