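import Mathlib
import Cfsg.Prelude.Def_LieExceptional
import Cfsg.Agent.Lib.helper3.SuzukiAlg
import Cfsg.Agent.Lib.helper3.SuzukiGroup
import Cfsg.Agent.Lib.helper3.SuzukiStab
import Cfsg.Agent.Lib.helper3.SuzukiCard
import Cfsg.Agent.Lib.helper3.SuzukiForm

set_option autoImplicit false

namespace Cfsg.Agent.Lib.helper3

open Cfsg Matrix
open scoped Pointwise

variable {F : Type*} [Field F] [Fintype F] {m : ℕ}

/-- two distinct points of the ovoid can be moved to the two base points -/
theorem sz_move_pair (hF : Fintype.card F = 2 ^ (2 * m + 1))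
    {a b : Projectivization F (Fin 4 → F)} (ha : a ∈ suzukiOvoid F m) (hb : b ∈ suzukiOvoid F m)
    (hab : a ≠ b) :
    ∃ u : Matrix.SpecialLinearGroup (Fin 4) F, u ∈ Sz F m ∧ u • a = szInf F ∧
      u • b = szPt m (0 : F) 0 := by
  -- first move `a` to infinity
  have h1 : ∃ u1 : Matrix.SpecialLinearGroup (Fin 4) F, u1 ∈ Sz F m ∧ u1 • a = szInf F := by
    rcases (mem_ovoid_iff m a).1 ha with rfl | ⟨x, y, rfl⟩
    · exact ⟨1, (Sz F m).one_mem, one_smul _ _⟩
    · refine ⟨(szT m x y * szJ F)⁻¹,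
        (Sz F m).inv_mem ((Sz F m).mul_mem (szT_mem hF x y) (szJ_mem hF)), ?_⟩
      rw [inv_smul_eq_iff, mul_smul, szJ_smul_inf (m := m), szT_zero_pt hF]
  obtain ⟨u1, hu1, hu1a⟩ := h1
  have hb' : u1 • b ∈ suzukiOvoid F m := smul_mem_ovoid hu1 hb
  have hne : u1 • b ≠ szInf F := by
    intro h
    rw [← hu1a] at h
    exact hab (MulAction.injective u1 h).symm
  rcases (mem_ovoid_iff m _).1 hb' with h | ⟨x, y, h⟩
  · exact absurd h hne
  · refine ⟨(szT m x y)⁻¹ * u1, (Sz F m).mul_mem ((Sz F m).inv_mem (szT_mem hF x y)) hu1, ?_, ?_⟩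
    · rw [mul_smul, hu1a, inv_smul_eq_iff, szT_smul_inf]
    · rw [mul_smul, h, inv_smul_eq_iff, szT_zero_pt hF]

/-- the torus acts semiregularly off the two base points -/
theorem szD_fix_third (hF : Fintype.card F = 2 ^ (2 * m + 1)) {k : Fˣ} {x y : F}
    (hxy : ¬ (x = 0 ∧ y = 0)) (h : szD m k • szPt m x y = szPt m x y) : k = 1 := by
  have h2 := sz_two hF
  rw [szD_smul_pt hF] at h
  obtain ⟨e1, e2⟩ := szPt_inj m h
  have hk : (k : F) ≠ 0 := k.ne_zero
  apply Units.ext
  rw [Units.val_one]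
  by_cases hx : x = 0
  · have hy : y ≠ 0 := fun hy => hxy ⟨hx, hy⟩
    have e3 : ((k : F) * szθ m (k : F)) ^ 2 = 1 := by
      have : ((k : F) ^ 2 * szθ m (k : F) ^ 2 - 1) * y = 0 := by linear_combination e2
      rcases mul_eq_zero.1 this with h' | h'
      · linear_combination h'
      · exact absurd h' hy
    have e4 : (k : F) * szθ m (k : F) = 1 := by
      have : ((k : F) * szθ m (k : F) - 1) ^ 2 = 0 := by grind
      have := pow_eq_zero_iff (two_ne_zero) |>.1 this
      exact sub_eq_zero.1 this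
    have e5 : szθ m (k : F) * (k : F) ^ 2 = 1 := by
      have := congrArg (szθ m) e4
      rwa [szθ_mul, szθ_szθ hF, szθ_one] at this
    calc (k : F) = ((k : F) * szθ m (k : F)) * (k : F) := by rw [e4, one_mul]
      _ = szθ m (k : F) * (k : F) ^ 2 := by ring
      _ = 1 := e5
  · have e3 : (k : F) ^ 2 = 1 := by
      have : ((k : F) ^ 2 - 1) * x = 0 := by linear_combination e1
      rcases mul_eq_zero.1 this with h' | h'
      · linear_combination h'
      · exact absurd h' hx
    have : ((k : F) - 1) ^ 2 = 0 := by grind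
    have := pow_eq_zero_iff (two_ne_zero) |>.1 this
    exact sub_eq_zero.1 this

/-- an element of the Suzuki group fixing three distinct points of the ovoid is trivial -/
theorem sz_three_fixed (hm : 1 ≤ m) (hF : Fintype.card F = 2 ^ (2 * m + 1))
    {g : Matrix.SpecialLinearGroup (Fin 4) F} (hg : g ∈ Sz F m)
    {a b c : Projectivization F (Fin 4 → F)} (ha : a ∈ suzukiOvoid F m)
    (hb : b ∈ suzukiOvoid F m) (hc : c ∈ suzukiOvoid F m) (hab : a ≠ b) (hbc : b ≠ c)
    (hac : a ≠ c) (ga : g • a = a) (gb : g • b = b) (gc : g • c = c) : g = 1 := by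
  obtain ⟨u, hu, hua, hub⟩ := sz_move_pair hF ha hb hab
  have hg' : u * g * u⁻¹ ∈ Sz F m := (Sz F m).mul_mem ((Sz F m).mul_mem hu hg) ((Sz F m).inv_mem hu)
  have f1 : (u * g * u⁻¹) • szInf F = szInf F := by
    rw [← hua, mul_smul, inv_smul_smul, mul_smul, ga]
  have f2 : (u * g * u⁻¹) • szPt m (0 : F) 0 = szPt m 0 0 := by
    rw [← hub, mul_smul, inv_smul_smul, mul_smul, gb]
  have f3 : (u * g * u⁻¹) • (u • c) = u • c := by
    rw [mul_smul, inv_smul_smul, mul_smul, gc]
  obtain ⟨k, hk⟩ := sz_two_point_stab hm hF hg' f1 f2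
  have hc' : u • c ∈ suzukiOvoid F m := smul_mem_ovoid hu hc
  have hne1 : u • c ≠ szInf F := by
    intro h
    rw [← hua] at h
    exact hac (MulAction.injective u h).symm
  have hne2 : u • c ≠ szPt m (0 : F) 0 := by
    intro h
    rw [← hub] at h
    exact hbc (MulAction.injective u h).symm
  rcases (mem_ovoid_iff m _).1 hc' with h | ⟨x, y, h⟩
  · exact absurd h hne1
  · have hxy : ¬ (x = 0 ∧ y = 0) := by
      rintro ⟨rfl, rfl⟩
      exact hne2 h
    rw [hk, h] at f3
    have hk1 := szD_fix_third hF hxy f3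
    rw [hk1, szD_one] at hk
    have : u * g * u⁻¹ = 1 := hk
    have h3 : g = u⁻¹ * (u * g * u⁻¹) * u := by group
    rw [h3, this]
    group

theorem exists_unit_ne_one (hm : 1 ≤ m) (hF : Fintype.card F = 2 ^ (2 * m + 1)) :
    ∃ k : Fˣ, k ≠ 1 := by
  have h1 : 1 < Nat.card Fˣ := by
    rw [Nat.card_units, Nat.card_eq_fintype_card, hF]
    have : 2 ^ 3 ≤ 2 ^ (2 * m + 1) := Nat.pow_le_pow_right (by norm_num) (by omega)
    omega
  have : Nontrivial Fˣ := (Finite.one_lt_card_iff_nontrivial).1 h1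
  exact exists_ne 1

theorem Sz_isZassenhaus (hm : 1 ≤ m) (hF : Fintype.card F = 2 ^ (2 * m + 1)) :
    IsZassenhausGroup (Sz F m) (suzukiOvoid F m) := by
  -- the base points
  let pInf : suzukiOvoid F m := ⟨szInf F, szInf_mem m⟩
  let pZero : suzukiOvoid F m := ⟨szPt m 0 0, szPt_mem m 0 0⟩
  let pOne : suzukiOvoid F m := ⟨szPt m 1 0, szPt_mem m 1 0⟩
  have hInfZero : pInf ≠ pZero := fun h => szPt_ne_inf m (0 : F) 0 (congrArg Subtype.val h).symm
  have hZeroOne : pZero ≠ pOne := by
    intro h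
    have := (szPt_inj m (congrArg Subtype.val h)).1
    exact zero_ne_one this
  have hInfOne : pInf ≠ pOne := fun h => szPt_ne_inf m (1 : F) 0 (congrArg Subtype.val h).symm
  have h3 : ∀ g : Sz F m, ∀ a b c : suzukiOvoid F m, a ≠ b → b ≠ c → a ≠ c → g • a = a →
      g • b = b → g • c = c → g = 1 := by
    intro g a b c hab hbc hac ga gb gc
    apply Subtype.ext
    exact sz_three_fixed hm hF g.2 a.2 b.2 c.2 (fun h => hab (Subtype.ext h))
      (fun h => hbc (Subtype.ext h)) (fun h => hac (Subtype.ext h)) (congrArg Subtype.val ga)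
      (congrArg Subtype.val gb) (congrArg Subtype.val gc)
  have hmove : ∀ a b : suzukiOvoid F m, a ≠ b → ∃ u : Sz F m, u • a = pInf ∧ u • b = pZero := by
    intro a b hab
    obtain ⟨u, hu, hua, hub⟩ := sz_move_pair hF a.2 b.2 (fun h => hab (Subtype.ext h))
    exact ⟨⟨u, hu⟩, Subtype.ext hua, Subtype.ext hub⟩
  obtain ⟨k, hk⟩ := exists_unit_ne_one hm hF
  let d : Sz F m := ⟨szD m k, szD_mem hF k⟩
  have hd1 : d ≠ 1 := by
    intro h
    apply hk
    apply szD_injective hF
    rw [szD_one]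
    exact congrArg Subtype.val h
  have hdInf : d • pInf = pInf := Subtype.ext (szD_smul_inf k)
  have hdZero : d • pZero = pZero := Subtype.ext (szD_smul_zero hF k)
  refine ⟨⟨?_⟩, ?_, h3, ⟨d, hd1, pInf, pZero, hInfZero, hdInf, hdZero⟩, ?_⟩
  · -- faithful
    intro g h hgh
    have hfix : ∀ a : suzukiOvoid F m, (h⁻¹ * g) • a = a := by
      intro a
      rw [mul_smul, hgh a, inv_smul_smul]
    have := h3 (h⁻¹ * g) pInf pZero pOne hInfZero hZeroOne hInfOne (hfix _) (hfix _) (hfix _)
    calc g = h * (h⁻¹ * g) := by group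
      _ = h := by rw [this, mul_one]
  · -- doubly transitive
    rw [MulAction.is_two_pretransitive_iff]
    intro a b c e hab hce
    obtain ⟨u, hua, hub⟩ := hmove a b hab
    obtain ⟨v, hvc, hve⟩ := hmove c e hce
    refine ⟨v⁻¹ * u, ?_, ?_⟩
    · rw [mul_smul, hua, inv_smul_eq_iff, hvc]
    · rw [mul_smul, hub, inv_smul_eq_iff, hve]
  · -- no regular normal subgroup
    intro N hN hNt
    by_contra hcon
    push Not at hcon
    obtain ⟨n0, hn0⟩ := MulAction.exists_smul_eq N pInf pZero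
    have hn0' : (n0 : Sz F m) • pInf = pZero := hn0
    -- `d` commutes with `n0`
    have hn1 : d * (n0 : Sz F m) * d⁻¹ ∈ N := hN.conj_mem _ n0.2 d
    have hcomm : d * (n0 : Sz F m) * d⁻¹ = (n0 : Sz F m) := by
      have hfix : ((n0 : Sz F m)⁻¹ * (d * (n0 : Sz F m) * d⁻¹)) • pInf = pInf := by
        rw [mul_smul, mul_smul, mul_smul, inv_smul_eq_iff, inv_smul_eq_iff.2 hdInf.symm, hn0',
          hdZero]
      have hmem : (⟨(n0 : Sz F m)⁻¹ * (d * (n0 : Sz F m) * d⁻¹),
          N.mul_mem (N.inv_mem n0.2) hn1⟩ : N) ∈ MulAction.stabilizer N pInf := by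
        rw [MulAction.mem_stabilizer_iff]
        exact hfix
      rw [hcon pInf, Subgroup.mem_bot] at hmem
      have := congrArg Subtype.val hmem
      simp only [Subgroup.coe_one] at this
      calc d * (n0 : Sz F m) * d⁻¹
          = (n0 : Sz F m) * ((n0 : Sz F m)⁻¹ * (d * (n0 : Sz F m) * d⁻¹)) := by group
        _ = (n0 : Sz F m) := by rw [this, mul_one]
    have hdn : d * (n0 : Sz F m) = (n0 : Sz F m) * d := by
      calc d * (n0 : Sz F m) = d * (n0 : Sz F m) * d⁻¹ * d := by group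
        _ = (n0 : Sz F m) * d := by rw [hcomm]
    -- `d` fixes `n0 • pZero`
    have hdfix : d • ((n0 : Sz F m) • pZero) = (n0 : Sz F m) • pZero := by
      rw [← mul_smul, hdn, mul_smul, hdZero]
    have hne : (n0 : Sz F m) • pZero ≠ pZero := by
      intro h
      rw [← hn0'] at h
      have := MulAction.injective (n0 : Sz F m) h
      exact hInfZero (this.symm.trans hn0')
    have hsq : (n0 : Sz F m) • pZero = pInf := by
      by_contra hne'
      exact hd1 (h3 d pInf pZero _ hInfZero (Ne.symm hne) (Ne.symm hne') hdInf hdZero hdfix)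
    -- so `n0` is an involution
    have hn0sq : n0 * n0 = 1 := by
      have hmem : n0 * n0 ∈ MulAction.stabilizer N pInf := by
        rw [MulAction.mem_stabilizer_iff]
        change ((n0 : Sz F m) * (n0 : Sz F m)) • pInf = pInf
        rw [mul_smul, hn0', hsq]
      rwa [hcon pInf, Subgroup.mem_bot] at hmem
    have hn0ne : n0 ≠ 1 := by
      intro h
      rw [h] at hn0
      rw [one_smul] at hn0
      exact hInfZero hn0
    have hord : orderOf n0 = 2 := by
      apply orderOf_eq_prime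
      · rw [pow_two]
        exact hn0sq
      · exact hn0ne
    have hdvd : 2 ∣ Nat.card N := hord ▸ orderOf_dvd_natCard n0
    -- but `N` has as many elements as the ovoid
    have hcard : Nat.card N = (2 ^ (2 * m + 1)) ^ 2 + 1 := by
      rw [← Nat.card_congr (MulAction.orbitProdStabilizerEquivGroup N pInf), Nat.card_prod,
        hcon pInf, Subgroup.card_bot, mul_one, MulAction.orbit_eq_univ,
        Nat.card_congr (Equiv.Set.univ _), card_ovoid hF]
    rw [hcard] at hdvd
    have h2 : 2 ∣ (2 ^ (2 * m + 1)) ^ 2 := dvd_pow (dvd_pow_self 2 (by omega)) (by norm_num)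
    omega

end Cfsg.Agent.Lib.helper3
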