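import Mathlib
import Cfsg.Prelude.Def_LieExceptional
import Cfsg.Agent.Lib.helper3.SuzukiAlg
import Cfsg.Agent.Lib.helper3.SuzukiGroup
import Cfsg.Agent.Lib.helper3.SuzukiStab
import Cfsg.Agent.Lib.helper3.SuzukiCard
import Cfsg.Agent.Lib.helper3.SuzukiForm
import Cfsg.Agent.Lib.helper3.SuzukiZass
import Cfsg.Agent.Lib.helper3.SuzukiLaw

set_option autoImplicit false

namespace Cfsg.Agent.Lib.helper3

open Cfsg Matrix
open scoped Pointwise commutatorElement

theorem commutator_le_sup {G : Type*} [Group G] (N H : Subgroup G) [N.Normal] (h : N ⊔ H = ⊤) :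
    commutator G ≤ N ⊔ ⁅H, H⁆ := by
  have hker : (QuotientGroup.mk' N).ker = N := QuotientGroup.ker_mk' N
  have hsurj : Function.Surjective (QuotientGroup.mk' N) := QuotientGroup.mk'_surjective N
  have htop : (⊤ : Subgroup G).map (QuotientGroup.mk' N) = ⊤ := by
    rw [← MonoidHom.range_eq_map, MonoidHom.range_eq_top]
    exact hsurj
  have hH : H.map (QuotientGroup.mk' N) = ⊤ := by
    have h1 : (N ⊔ H).map (QuotientGroup.mk' N) = ⊤ := by rw [h, htop]
    rw [Subgroup.map_sup] at h1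
    have hN : N.map (QuotientGroup.mk' N) = ⊥ := by
      rw [Subgroup.map_eq_bot_iff, hker]
    rw [hN, bot_sup_eq] at h1
    exact h1
  rw [commutator_def]
  have e : Subgroup.map (QuotientGroup.mk' N) ⁅(⊤ : Subgroup G), (⊤ : Subgroup G)⁆ = Subgroup.map (QuotientGroup.mk' N) ⁅H, H⁆ := by
    rw [Subgroup.map_commutator, Subgroup.map_commutator, hH, htop]
  calc ⁅(⊤ : Subgroup G), (⊤ : Subgroup G)⁆ ≤ Subgroup.comap (QuotientGroup.mk' N) (Subgroup.map (QuotientGroup.mk' N) ⁅(⊤ : Subgroup G), (⊤ : Subgroup G)⁆) :=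
        Subgroup.le_comap_map _ _
    _ = Subgroup.comap (QuotientGroup.mk' N) (Subgroup.map (QuotientGroup.mk' N) ⁅H, H⁆) := by rw [e]
    _ = ⁅H, H⁆ ⊔ (QuotientGroup.mk' N).ker := Subgroup.comap_map_eq _ _
    _ = N ⊔ ⁅H, H⁆ := by rw [hker, sup_comm]

section

variable {F : Type*} [Field F] [Fintype F] {m : ℕ} (hF : Fintype.card F = 2 ^ (2 * m + 1))

/-- translation, as an element of the Suzuki group -/
def gT (a b : F) : Sz F m := ⟨szT m a b, szT_mem hF a b⟩

/-- the inversion, as an element of the Suzuki group -/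
def gJ : Sz F m := ⟨szJ F, szJ_mem hF⟩

/-- torus element, as an element of the Suzuki group -/
def gD (k : Fˣ) : Sz F m := ⟨szD m k, szD_mem hF k⟩

theorem gT_mul (a b a' b' : F) :
    gT hF a b * gT hF a' b' = gT hF (a + a') (b + b' + szθ m a * a') :=
  Subtype.ext (szT_mul hF a b a' b')

theorem gT_zero : gT hF (0 : F) 0 = 1 := Subtype.ext szT_zero

theorem gT_inv (a b : F) : (gT hF a b)⁻¹ = gT hF a (b + a * szθ m a) :=
  Subtype.ext (szT_inv hF a b)

theorem gD_mul (k k' : Fˣ) : gD hF (k * k') = gD hF k * gD hF k' := Subtype.ext (szD_mul k k')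

theorem gD_one : gD hF (1 : Fˣ) = 1 := Subtype.ext szD_one

theorem gD_inv (k : Fˣ) : (gD hF k)⁻¹ = gD hF k⁻¹ := by
  rw [inv_eq_iff_mul_eq_one, ← gD_mul, mul_inv_cancel, gD_one]

theorem gD_gT (k : Fˣ) (a b : F) :
    gD hF k * gT hF a b =
      gT hF ((k : F) ^ 2 * a) ((k : F) ^ 2 * szθ m (k : F) ^ 2 * b) * gD hF k :=
  Subtype.ext (szD_szT hF k a b)

theorem gJ_mul_self : gJ hF * gJ hF = 1 := Subtype.ext szJ_mul_self

theorem gJ_inv : (gJ hF)⁻¹ = gJ hF := by
  rw [inv_eq_iff_mul_eq_one, gJ_mul_self]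

theorem gJ_gD (k : Fˣ) : gJ hF * gD hF k = gD hF k⁻¹ * gJ hF := Subtype.ext (szJ_szD k)

/-- the translations form a subgroup -/
def Qs : Subgroup (Sz F m) where
  carrier := Set.range (fun p : F × F => gT hF p.1 p.2)
  mul_mem' := by
    rintro _ _ ⟨p, rfl⟩ ⟨p', rfl⟩
    exact ⟨(p.1 + p'.1, p.2 + p'.2 + szθ m p.1 * p'.1), (gT_mul hF _ _ _ _).symm⟩
  one_mem' := ⟨(0, 0), gT_zero hF⟩
  inv_mem' := by
    rintro _ ⟨p, rfl⟩
    exact ⟨(p.1, p.2 + p.1 * szθ m p.1), (gT_inv hF _ _).symm⟩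

/-- the central translations form a subgroup -/
def Zs : Subgroup (Sz F m) where
  carrier := Set.range (fun b : F => gT hF 0 b)
  mul_mem' := by
    rintro _ _ ⟨b, rfl⟩ ⟨b', rfl⟩
    refine ⟨b + b', ?_⟩
    simp only
    rw [gT_mul, add_zero, mul_zero, add_zero]
  one_mem' := ⟨0, gT_zero hF⟩
  inv_mem' := by
    rintro _ ⟨b, rfl⟩
    refine ⟨b, ?_⟩
    simp only
    rw [gT_inv, zero_mul, add_zero]

theorem gT_mem_Qs (a b : F) : gT hF a b ∈ Qs hF := ⟨(a, b), rfl⟩

theorem mem_Qs {g : Sz F m} : g ∈ Qs hF ↔ ∃ a b, g = gT hF a b := by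
  constructor
  · rintro ⟨p, rfl⟩
    exact ⟨p.1, p.2, rfl⟩
  · rintro ⟨a, b, rfl⟩
    exact gT_mem_Qs hF a b

theorem mem_Zs {g : Sz F m} : g ∈ Zs hF ↔ ∃ b, g = gT hF 0 b := by
  constructor
  · rintro ⟨b, rfl⟩
    exact ⟨b, rfl⟩
  · rintro ⟨b, rfl⟩
    exact ⟨b, rfl⟩

/-- commutators of translations are central translations -/
theorem gT_comm (a b a' b' : F) :
    ⁅gT hF a b, gT hF a' b'⁆ = gT hF 0 (szθ m a * a' + szθ m a' * a) := by
  have h2 := sz_two hF
  rw [commutatorElement_def, gT_inv, gT_inv, gT_mul, gT_mul, gT_mul, szθ_add hF]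
  congr 1
  · grind
  · grind

theorem commutator_Qs_le : ⁅Qs hF, Qs hF⁆ ≤ Zs hF := by
  rw [Subgroup.commutator_le]
  intro g hg h hh
  obtain ⟨a, b, rfl⟩ := (mem_Qs hF).1 hg
  obtain ⟨a', b', rfl⟩ := (mem_Qs hF).1 hh
  rw [gT_comm]
  exact (mem_Zs hF).2 ⟨_, rfl⟩

theorem commutator_Zs : ⁅Zs hF, Zs hF⁆ = ⊥ := by
  rw [eq_bot_iff, Subgroup.commutator_le]
  intro g hg h hh
  obtain ⟨b, rfl⟩ := (mem_Zs hF).1 hg
  obtain ⟨b', rfl⟩ := (mem_Zs hF).1 hh
  rw [gT_comm, Subgroup.mem_bot, szθ_zero]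
  simp only [zero_mul, mul_zero, add_zero]
  exact gT_zero hF

/-! ### points of the ovoid as a type -/

def oInf (F : Type*) [Field F] (m : ℕ) : suzukiOvoid F m := ⟨szInf F, szInf_mem m⟩

def oPt (m : ℕ) (x y : F) : suzukiOvoid F m := ⟨szPt m x y, szPt_mem m x y⟩

theorem gT_oInf (a b : F) : gT hF a b • oInf F m = oInf F m := Subtype.ext (szT_smul_inf a b)

theorem gT_oPt (a b x y : F) :
    gT hF a b • oPt m x y = oPt m (x + a) (y + b + szθ m a * x) :=
  Subtype.ext (szT_smul_pt hF a b x y)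

theorem gT_oZero (x y : F) : gT hF x y • oPt m (0 : F) 0 = oPt m x y :=
  Subtype.ext (szT_zero_pt hF x y)

theorem gJ_oInf : gJ hF • oInf F m = oPt m (0 : F) 0 := Subtype.ext szJ_smul_inf

theorem gJ_oZero : gJ hF • oPt m (0 : F) 0 = oInf F m := Subtype.ext szJ_smul_zero_pt

theorem gD_oInf (k : Fˣ) : gD hF k • oInf F m = oInf F m := Subtype.ext (szD_smul_inf k)

theorem gD_oZero (k : Fˣ) : gD hF k • oPt m (0 : F) 0 = oPt m 0 0 :=
  Subtype.ext (szD_smul_zero hF k)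

omit [Fintype F] in
theorem oPt_ne_oInf (x y : F) : oPt m x y ≠ oInf F m :=
  fun h => szPt_ne_inf m x y (congrArg Subtype.val h)

omit [Fintype F] in
theorem ovoid_cases (p : suzukiOvoid F m) : p = oInf F m ∨ ∃ x y, p = oPt m x y := by
  rcases (mem_ovoid_iff m p.1).1 p.2 with h | ⟨x, y, h⟩
  · exact Or.inl (Subtype.ext h)
  · exact Or.inr ⟨x, y, Subtype.ext h⟩

variable (hm : 1 ≤ m)

include hm in
theorem stab_decomp {g : Sz F m} (h : g • oInf F m = oInf F m) :
    ∃ (a b : F) (k : Fˣ), g = gT hF a b * gD hF k := by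
  have hg : (g : Matrix.SpecialLinearGroup (Fin 4) F) ∈ szHinf F m :=
    mem_szHinf.2 ⟨g.2, congrArg Subtype.val h⟩
  obtain ⟨a, b, k, hk⟩ := szHinf_decomp hm hF hg
  exact ⟨a, b, k, Subtype.ext hk⟩

include hm in
theorem full_decomp (g : Sz F m) :
    (∃ (a b : F) (k : Fˣ), g = gT hF a b * gD hF k) ∨
      ∃ (a b a' b' : F) (k : Fˣ), g = gT hF a b * gJ hF * (gT hF a' b' * gD hF k) := by
  rcases Sz_decomp hm hF g.2 with ⟨a, b, k, h⟩ | ⟨a, b, a', b', k, h⟩
  · exact Or.inl ⟨a, b, k, Subtype.ext h⟩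
  · exact Or.inr ⟨a, b, a', b', k, Subtype.ext h⟩

include hF in
theorem exists_sqrt_unit (k : Fˣ) : ∃ k' : Fˣ, k' * k' = k := by
  have h2 := sz_two hF
  have hchar : CharP F 2 := CharTwo.of_one_ne_zero_of_two_eq_zero one_ne_zero h2
  obtain ⟨r, hr⟩ := isSquare_of_charTwo' (k : F)
  have hr0 : r ≠ 0 := by
    intro h0
    rw [h0, mul_zero] at hr
    exact k.ne_zero hr
  exact ⟨Units.mk0 r hr0, Units.ext hr.symm⟩

include hm in
/-- a normal subgroup containing the translations is everything -/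
theorem eq_top_of_Qs_le (M : Subgroup (Sz F m)) [hM : M.Normal] (hQ : Qs hF ≤ M) : M = ⊤ := by
  have hTM : ∀ a b, gT hF a b ∈ M := fun a b => hQ (gT_mem_Qs hF a b)
  -- an element of `M` moving infinity to zero
  have h10 : szf m (1 : F) 0 = 1 := by
    rw [szf_eq, szθ_one, szθ_zero]
    ring
  have hc : gJ hF * gT hF 1 0 * (gJ hF)⁻¹ ∈ M := hM.conj_mem _ (hTM 1 0) _
  have hcInf : (gJ hF * gT hF 1 0 * (gJ hF)⁻¹) • oInf F m = oPt m 0 1 := by
    rw [gJ_inv, mul_smul, mul_smul, gJ_oInf, gT_oZero]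
    apply Subtype.ext
    change szJ F • szPt m (1 : F) 0 = szPt m 0 1
    rw [szJ_smul_pt hF 1 0 (by simp), h10]
    simp
  have hn : (gT hF 0 1)⁻¹ * (gJ hF * gT hF 1 0 * (gJ hF)⁻¹) ∈ M := M.mul_mem (M.inv_mem (hTM 0 1)) hc
  have hnInf : ((gT hF 0 1)⁻¹ * (gJ hF * gT hF 1 0 * (gJ hF)⁻¹)) • oInf F m = oPt m 0 0 := by
    rw [mul_smul, hcInf, inv_smul_eq_iff, gT_oZero]
  set n := (gT hF 0 1)⁻¹ * (gJ hF * gT hF 1 0 * (gJ hF)⁻¹) with hndef
  have hfix : (gJ hF * n) • oInf F m = oInf F m := by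
    rw [mul_smul, hnInf, gJ_oZero]
  obtain ⟨a, b, k, hk⟩ := stab_decomp hF hm hfix
  -- `gJ * gD k ∈ M`
  have hw : gJ hF * gD hF k ∈ M := by
    have e : gJ hF * gD hF k = n * ((gD hF k)⁻¹ * (gT hF a b)⁻¹ * gD hF k) := by
      have : n = gJ hF * (gT hF a b * gD hF k) := by
        rw [← hk, ← mul_assoc, gJ_mul_self, one_mul]
      rw [this]
      group
    rw [e]
    apply M.mul_mem hn
    have : (gD hF k)⁻¹ * (gT hF a b)⁻¹ * gD hF k ∈ Qs hF := by
      rw [gT_inv, gD_inv, gD_gT]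
      rw [mul_assoc, ← gD_mul, inv_mul_cancel, gD_one, mul_one]
      exact gT_mem_Qs hF _ _
    exact hQ this
  -- all torus elements lie in `M`
  have hD : ∀ k' : Fˣ, gD hF k' ∈ M := by
    intro k'
    obtain ⟨r, hr⟩ := exists_sqrt_unit hF k'⁻¹
    have h1 : gD hF r * (gJ hF * gD hF k) * (gD hF r)⁻¹ ∈ M := hM.conj_mem _ hw _
    have h2 : (gJ hF * gD hF k)⁻¹ * (gD hF r * (gJ hF * gD hF k) * (gD hF r)⁻¹) ∈ M :=
      M.mul_mem (M.inv_mem hw) h1
    have e : (gJ hF * gD hF k)⁻¹ * (gD hF r * (gJ hF * gD hF k) * (gD hF r)⁻¹) = gD hF k' := by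
      have e1 : gD hF r * gJ hF = gJ hF * gD hF r⁻¹ := by
        have := gJ_gD hF r⁻¹
        rw [inv_inv] at this
        exact this.symm
      calc (gJ hF * gD hF k)⁻¹ * (gD hF r * (gJ hF * gD hF k) * (gD hF r)⁻¹)
          = (gD hF k)⁻¹ * (gJ hF)⁻¹ * ((gD hF r * gJ hF) * gD hF k * (gD hF r)⁻¹) := by group
        _ = (gD hF k)⁻¹ * (gJ hF)⁻¹ * ((gJ hF * gD hF r⁻¹) * gD hF k * (gD hF r)⁻¹) := by rw [e1]
        _ = (gD hF k)⁻¹ * (gD hF r⁻¹ * gD hF k * (gD hF r)⁻¹) := by group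
        _ = gD hF k' := by
          rw [gD_inv, gD_inv, ← gD_mul, ← gD_mul, ← gD_mul]
          congr 1
          have hk' : k' = (r * r)⁻¹ := by rw [hr, inv_inv]
          rw [hk', mul_comm r⁻¹ k, mul_assoc k, ← mul_assoc k⁻¹, inv_mul_cancel, one_mul,
            _root_.mul_inv_rev]
    rw [← e]
    exact h2
  have hJ : gJ hF ∈ M := by
    have : gJ hF = gJ hF * gD hF k * (gD hF k)⁻¹ := by group
    rw [this]
    exact M.mul_mem hw (M.inv_mem (hD k))
  rw [eq_top_iff]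
  intro g _
  rcases full_decomp hF hm g with ⟨a, b, k, rfl⟩ | ⟨a, b, a', b', k, rfl⟩
  · exact M.mul_mem (hTM a b) (hD k)
  · exact M.mul_mem (M.mul_mem (hTM a b) hJ) (M.mul_mem (hTM a' b') (hD k))

include hF in
theorem sz_sq_eq_one {c : F} (h : c ^ 2 = 1) : c = 1 := by
  have h2 := sz_two hF
  have : (c - 1) ^ 2 = 0 := by grind
  have := pow_eq_zero_iff (two_ne_zero) |>.1 this
  exact sub_eq_zero.1 this

include hF in
theorem sz_norm_eq_one {c : F} (h : c * szθ m c = 1) : c = 1 := by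
  have e5 : szθ m c * c ^ 2 = 1 := by
    have := congrArg (szθ m) h
    rwa [szθ_mul, szθ_szθ hF, szθ_one] at this
  calc c = (c * szθ m c) * c := by rw [h, one_mul]
    _ = szθ m c * c ^ 2 := by ring
    _ = 1 := e5

include hF hm in
/-- the Suzuki group is perfect -/
theorem Sz_perfect : commutator (Sz F m) = ⊤ := by
  have h2 := sz_two hF
  apply eq_top_of_Qs_le hF hm
  intro g hg
  obtain ⟨a, b, rfl⟩ := (mem_Qs hF).1 hg
  obtain ⟨k, hk⟩ := exists_unit_ne_one hm hF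
  have hc0 : (k : F) ≠ 0 := k.ne_zero
  have hc1 : (k : F) ^ 2 + 1 ≠ 0 := by
    intro h
    apply hk
    apply Units.ext
    rw [Units.val_one]
    apply sz_sq_eq_one hF
    grind
  have hc2 : (k : F) ^ 2 * szθ m (k : F) ^ 2 + 1 ≠ 0 := by
    intro h
    apply hk
    apply Units.ext
    rw [Units.val_one]
    apply sz_norm_eq_one hF
    apply sz_sq_eq_one hF
    grind
  set c := (k : F) with hc
  set a' := a / (c ^ 2 + 1) with ha'
  set b' := (b + a' * szθ m a' + szθ m (c ^ 2 * a') * a') / (c ^ 2 * szθ m c ^ 2 + 1) with hb'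
  have e : gT hF a b = ⁅gD hF k, gT hF a' b'⁆ := by
    rw [commutatorElement_def, gD_gT, mul_assoc (gT hF _ _), mul_inv_cancel, mul_one, gT_inv,
      gT_mul]
    rw [← hc]
    congr 1
    · rw [ha']
      field_simp
    · have : (c ^ 2 * szθ m c ^ 2 + 1) * b' = b + a' * szθ m a' + szθ m (c ^ 2 * a') * a' := by
        rw [hb']
        field_simp
      grind
  rw [e, commutator_def]
  exact Subgroup.commutator_mem_commutator (Subgroup.mem_top _) (Subgroup.mem_top _)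

include hF hm in
theorem Sz_isSimple : IsSimpleGroup (Sz F m) := by
  have hZ := Sz_isZassenhaus hm hF
  obtain ⟨hfaith, h2t, -, -, -⟩ := hZ
  have hprim : MulAction.IsPreprimitive (Sz F m) (suzukiOvoid F m) :=
    MulAction.isPreprimitive_of_is_two_pretransitive h2t
  obtain ⟨k, hk⟩ := exists_unit_ne_one hm hF
  have hnt : Nontrivial (Sz F m) := by
    refine ⟨⟨gD hF k, 1, ?_⟩⟩
    intro h
    apply hk
    apply szD_injective hF
    rw [szD_one]
    exact congrArg Subtype.val h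
  refine ⟨fun N hN => ?_⟩
  by_cases hbot : N = ⊥
  · exact Or.inl hbot
  · right
    -- `N` is transitive
    have hNX : MulAction.fixedPoints N (suzukiOvoid F m) ≠ Set.univ := by
      intro h
      apply hbot
      rw [eq_bot_iff]
      intro n hn
      rw [Subgroup.mem_bot]
      apply hfaith.eq_of_smul_eq_smul
      intro x
      rw [one_smul]
      have hx : x ∈ MulAction.fixedPoints N (suzukiOvoid F m) := by
        rw [h]
        exact Set.mem_univ x
      exact hx ⟨n, hn⟩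
    have htrans : MulAction.IsPretransitive N (suzukiOvoid F m) :=
      MulAction.IsQuasiPreprimitive.isPretransitive_of_normal hNX
    -- `N ⊔ Qs` is normal
    have hnormal : (N ⊔ Qs hF).Normal := by
      refine ⟨fun x hx g => ?_⟩
      rw [Subgroup.mem_sup_of_normal_left] at hx
      obtain ⟨y, hy, z, hz, rfl⟩ := hx
      have e : g * (y * z) * g⁻¹ = (g * y * g⁻¹) * (g * z * g⁻¹) := by group
      rw [e]
      apply Subgroup.mul_mem
      · exact Subgroup.mem_sup_left (hN.conj_mem y hy g)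
      · obtain ⟨n, hn⟩ := MulAction.exists_smul_eq N (oInf F m) (g • oInf F m)
        have hn' : (n : Sz F m) • oInf F m = g • oInf F m := hn
        have hfix : ((n : Sz F m)⁻¹ * g) • oInf F m = oInf F m := by
          rw [mul_smul, inv_smul_eq_iff, hn']
        obtain ⟨a, b, k', hk'⟩ := stab_decomp hF hm hfix
        obtain ⟨a', b', rfl⟩ := (mem_Qs hF).1 hz
        have hg : g = (n : Sz F m) * (gT hF a b * gD hF k') := by
          rw [← hk']
          group
        have hconj : gD hF k' * gT hF a' b' * (gD hF k')⁻¹ ∈ Qs hF := by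
          rw [gD_gT, mul_assoc, mul_inv_cancel, mul_one]
          exact gT_mem_Qs hF _ _
        have hconj2 : (gT hF a b * gD hF k') * gT hF a' b' * (gT hF a b * gD hF k')⁻¹ ∈ Qs hF := by
          have e2 : (gT hF a b * gD hF k') * gT hF a' b' * (gT hF a b * gD hF k')⁻¹ =
              gT hF a b * (gD hF k' * gT hF a' b' * (gD hF k')⁻¹) * (gT hF a b)⁻¹ := by group
          rw [e2]
          exact (Qs hF).mul_mem ((Qs hF).mul_mem (gT_mem_Qs hF a b) hconj)
            ((Qs hF).inv_mem (gT_mem_Qs hF a b))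
        have e3 : g * gT hF a' b' * g⁻¹ = (n : Sz F m) *
            ((gT hF a b * gD hF k') * gT hF a' b' * (gT hF a b * gD hF k')⁻¹) * (n : Sz F m)⁻¹ := by
          rw [hg]
          group
        rw [e3]
        apply Subgroup.mul_mem
        · apply Subgroup.mul_mem
          · exact Subgroup.mem_sup_left n.2
          · exact Subgroup.mem_sup_right hconj2
        · exact Subgroup.inv_mem _ (Subgroup.mem_sup_left n.2)
    have h1 : N ⊔ Qs hF = ⊤ := eq_top_of_Qs_le hF hm (N ⊔ Qs hF) le_sup_right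
    have hperf := Sz_perfect hF hm
    have h2 : N ⊔ Zs hF = ⊤ := by
      rw [eq_top_iff, ← hperf]
      exact (commutator_le_sup N (Qs hF) h1).trans (sup_le_sup_left (commutator_Qs_le hF) N)
    rw [eq_top_iff, ← hperf]
    have := commutator_le_sup N (Zs hF) h2
    rwa [commutator_Zs, sup_bot_eq] at this

end

end Cfsg.Agent.Lib.helper3
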