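import Mathlib
import Cfsg.Prelude.Def_LieExceptional
import Cfsg.Agent.Lib.helper3.SuzukiAlg
import Cfsg.Agent.Lib.helper3.SuzukiGroup
import Cfsg.Agent.Lib.helper3.SuzukiStab
import Cfsg.Agent.Lib.helper3.SuzukiCard
import Cfsg.Agent.Lib.helper3.SuzukiForm
import Cfsg.Agent.Lib.helper3.SuzukiZass
import Cfsg.Agent.Lib.helper3.SuzukiLaw
import Cfsg.Agent.Lib.helper3.SuzukiSimple

set_option autoImplicit false

namespace Cfsg.Agent.Lib.helper3

open Cfsg Matrix
open scoped Pointwise commutatorElement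

section

variable {F : Type*} [Field F] [Fintype F] {m : ℕ} (hF : Fintype.card F = 2 ^ (2 * m + 1))

omit [Fintype F] in
theorem szT_injective {a b a' b' : F} (h : szT m a b = szT m a' b') : a = a' ∧ b = b' := by
  have hmat : szTmat m a b = szTmat m a' b' := congrArg Subtype.val h
  have e1 := congrFun (congrFun hmat 2) 3
  have e2 := congrFun (congrFun hmat 1) 3
  simp [szTmat] at e1 e2
  exact ⟨e1, e2⟩

theorem gT_injective {a b a' b' : F} (h : gT hF a b = gT hF a' b') : a = a' ∧ b = b' :=
  szT_injective (congrArg Subtype.val h)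

theorem card_Qs : Nat.card (Qs hF) = (2 ^ (2 * m + 1)) ^ 2 := by
  have hbij : Function.Bijective (fun p : F × F => (⟨gT hF p.1 p.2, gT_mem_Qs hF p.1 p.2⟩ : Qs hF)) := by
    constructor
    · intro p p' h
      have := gT_injective hF (congrArg Subtype.val h)
      exact Prod.ext this.1 this.2
    · rintro ⟨g, hg⟩
      obtain ⟨a, b, rfl⟩ := (mem_Qs hF).1 hg
      exact ⟨(a, b), rfl⟩
  rw [← Nat.card_congr (Equiv.ofBijective _ hbij), Nat.card_prod, Nat.card_eq_fintype_card, hF, sq]

theorem two_not_dvd_cofactor :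
    ¬ 2 ∣ ((2 ^ (2 * m + 1)) ^ 2 + 1) * (2 ^ (2 * m + 1) - 1) := by
  have h1 : 2 ∣ 2 ^ (2 * m + 1) := dvd_pow_self 2 (by omega)
  have h2 : 2 ∣ (2 ^ (2 * m + 1)) ^ 2 := dvd_pow h1 (by norm_num)
  have h3 : 1 ≤ 2 ^ (2 * m + 1) := Nat.one_le_two_pow
  rw [Nat.Prime.dvd_mul Nat.prime_two]
  omega

variable (hm : 1 ≤ m)

include hF hm in
theorem finite_Sz : Finite (Sz F m) := by
  apply Nat.finite_of_card_ne_zero
  rw [card_Sz hm hF]
  have h3 : 2 ^ 3 ≤ 2 ^ (2 * m + 1) := Nat.pow_le_pow_right (by norm_num) (by omega)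
  have : 0 < 2 ^ (2 * m + 1) - 1 := by omega
  positivity

include hF hm in
theorem factorization_card_Sz : (Nat.card (Sz F m)).factorization 2 = 2 * (2 * m + 1) := by
  have hc := two_not_dvd_cofactor (m := m)
  rw [card_Sz hm hF, mul_assoc]
  generalize ((2 ^ (2 * m + 1)) ^ 2 + 1) * (2 ^ (2 * m + 1) - 1) = c at hc ⊢
  have hc0 : c ≠ 0 := by
    rintro rfl
    exact hc (dvd_zero 2)
  rw [Nat.factorization_mul (by positivity) hc0, Finsupp.add_apply, ← pow_mul,
    Nat.Prime.factorization_pow Nat.prime_two, Finsupp.single_eq_same,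
    Nat.factorization_eq_zero_of_not_dvd hc, add_zero, mul_comm]

/-- the translations, as a Sylow subgroup -/
noncomputable def QsSylow : @Sylow 2 (Sz F m) _ :=
  haveI := finite_Sz hF hm
  haveI : Fact (Nat.Prime 2) := ⟨Nat.prime_two⟩
  Sylow.ofCard (Qs hF) (by rw [card_Qs, factorization_card_Sz hF hm, ← pow_mul, mul_comm])

theorem coe_QsSylow : ((QsSylow hF hm : @Sylow 2 (Sz F m) _) : Subgroup (Sz F m)) = Qs hF := rfl

include hm in
/-- every Sylow 2-subgroup is isomorphic to the group of translations -/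
theorem sylow_equiv_Qs (P : Sylow 2 (Sz F m)) : Nonempty (P ≃* Qs hF) := by
  haveI := finite_Sz hF hm
  haveI : Fact (Nat.Prime 2) := ⟨Nat.prime_two⟩
  exact ⟨Sylow.equiv P (QsSylow hF hm)⟩

/-! ### structure of the group of translations -/

/-- a translation, as an element of the subgroup `Qs` -/
def qT (a b : F) : Qs hF := ⟨gT hF a b, gT_mem_Qs hF a b⟩

theorem qT_surj (h : Qs hF) : ∃ a b, h = qT hF a b := by
  obtain ⟨a, b, hab⟩ := (mem_Qs hF).1 h.2
  exact ⟨a, b, Subtype.ext hab⟩

theorem qT_inj {a b a' b' : F} (h : qT hF a b = qT hF a' b') : a = a' ∧ b = b' :=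
  gT_injective hF (congrArg Subtype.val h)

theorem qT_mul (a b a' b' : F) :
    qT hF a b * qT hF a' b' = qT hF (a + a') (b + b' + szθ m a * a') :=
  Subtype.ext (gT_mul hF a b a' b')

theorem qT_zero : qT hF (0 : F) 0 = 1 := Subtype.ext (gT_zero hF)

theorem qT_comm (a b a' b' : F) :
    ⁅qT hF a b, qT hF a' b'⁆ = qT hF 0 (szθ m a * a' + szθ m a' * a) := by
  apply Subtype.ext
  change ⁅gT hF a b, gT hF a' b'⁆ = gT hF 0 (szθ m a * a' + szθ m a' * a)
  exact gT_comm hF a b a' b'

theorem qT_sq (a b : F) : qT hF a b ^ 2 = qT hF 0 (szθ m a * a) := by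
  have h2 := sz_two hF
  rw [pow_two, qT_mul]
  congr 1
  · grind
  · grind

theorem qT_pow_four (a b : F) : qT hF a b ^ 4 = 1 := by
  have h2 := sz_two hF
  have : qT hF a b ^ 4 = (qT hF a b ^ 2) ^ 2 := by
    rw [← pow_mul]
  rw [this, qT_sq, qT_sq, szθ_zero, zero_mul]
  exact qT_zero hF

theorem exponent_Qs : Monoid.exponent (Qs hF) = 4 := by
  have hd : Monoid.exponent (Qs hF) ∣ 4 := by
    apply Monoid.exponent_dvd_of_forall_pow_eq_one
    intro h
    obtain ⟨a, b, rfl⟩ := qT_surj hF h
    exact qT_pow_four hF a b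
  have hnd : ¬ Monoid.exponent (Qs hF) ∣ 2 := by
    intro hdvd
    obtain ⟨c, hc⟩ := hdvd
    have h1 : qT hF (1 : F) 0 ^ 2 = 1 := by
      rw [hc, pow_mul, Monoid.pow_exponent_eq_one, one_pow]
    rw [qT_sq, szθ_one, mul_one, ← qT_zero hF] at h1
    exact one_ne_zero (qT_inj hF h1).2
  have hle : Monoid.exponent (Qs hF) ≤ 4 := Nat.le_of_dvd (by norm_num) hd
  generalize Monoid.exponent (Qs hF) = e at hd hnd hle
  interval_cases e
  · exact absurd hd (by norm_num)
  · exact absurd (one_dvd 2) hnd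
  · exact absurd (dvd_refl 2) hnd
  · exact absurd hd (by norm_num)
  · rfl

include hF hm in
/-- there is an element not fixed by the twist -/
theorem exists_szθ_ne : ∃ t : F, szθ m t ≠ t ∧ t ≠ 0 := by
  obtain ⟨k, hk⟩ := exists_unit_ne_one hm hF
  refine ⟨(k : F), ?_, k.ne_zero⟩
  intro h
  apply hk
  apply Units.ext
  rw [Units.val_one]
  have h1 : (k : F) ^ 2 = (k : F) := by
    have := congrArg (szθ m) h
    rw [szθ_szθ hF, h] at this
    exact this
  have h2 : (k : F) * ((k : F) - 1) = 0 := by linear_combination h1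
  rcases mul_eq_zero.1 h2 with h3 | h3
  · exact absurd h3 k.ne_zero
  · exact sub_eq_zero.1 h3

include hm in
theorem center_Qs (h : Qs hF) :
    h ∈ Subgroup.center (Qs hF) ↔ ∃ b, h = qT hF 0 b := by
  have h2 := sz_two hF
  constructor
  · intro hc
    obtain ⟨a, b, rfl⟩ := qT_surj hF h
    rw [Subgroup.mem_center_iff] at hc
    have key : ∀ a' : F, szθ m a * a' + szθ m a' * a = 0 := by
      intro a'
      have h1 := hc (qT hF a' 0)
      rw [qT_mul, qT_mul] at h1
      have := (qT_inj hF h1).2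
      grind
    have h1 := key 1
    rw [szθ_one, mul_one, one_mul] at h1
    have hθa : szθ m a = a := by grind
    obtain ⟨t, ht, -⟩ := exists_szθ_ne hF hm
    have h3 := key t
    rw [hθa] at h3
    have h4 : a * (t - szθ m t) = 0 := by grind
    rcases mul_eq_zero.1 h4 with h5 | h5
    · exact ⟨b, by rw [h5]⟩
    · exact absurd (sub_eq_zero.1 h5).symm ht
  · rintro ⟨b, rfl⟩
    rw [Subgroup.mem_center_iff]
    intro g
    obtain ⟨a', b', rfl⟩ := qT_surj hF g
    rw [qT_mul, qT_mul, szθ_zero]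
    congr 1
    · ring
    · ring

include hF in
theorem norm_surj (c : F) : ∃ a : F, a * szθ m a = c := by
  have hinj : Function.Injective (fun a : F => a * szθ m a) := by
    intro a b hab
    simp only at hab
    by_cases hb : b = 0
    · rw [hb, szθ_zero, mul_zero] at hab
      rcases mul_eq_zero.1 hab with h | h
      · rw [h, hb]
      · rw [szθ_eq_zero m h, hb]
    · have hθb : szθ m b ≠ 0 := szθ_ne_zero m hb
      have h1 : (a / b) * szθ m (a / b) = 1 := by
        rw [szθ_div]
        field_simp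
        exact hab
      have := sz_norm_eq_one hF h1
      field_simp at this
      exact this
  exact (Finite.injective_iff_surjective.1 hinj) c

include hm in
theorem center_eq_commutator_Qs : Subgroup.center (Qs hF) = commutator (Qs hF) := by
  have h2 := sz_two hF
  apply le_antisymm
  · intro h hh
    obtain ⟨c, rfl⟩ := (center_Qs hF hm h).1 hh
    obtain ⟨t, ht, ht0⟩ := exists_szθ_ne hF hm
    have hμ : t + szθ m t ≠ 0 := by
      intro h0
      apply ht
      grind
    obtain ⟨a, ha⟩ := norm_surj hF (c / (t + szθ m t))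
    have e : qT hF 0 c = ⁅qT hF a 0, qT hF (t * a) 0⁆ := by
      rw [qT_comm, szθ_mul]
      congr 1
      have : a * szθ m a * (t + szθ m t) = c := by
        rw [ha]
        field_simp
      grind
    rw [e, commutator_def]
    exact Subgroup.commutator_mem_commutator (Subgroup.mem_top _) (Subgroup.mem_top _)
  · rw [commutator_eq_closure, Subgroup.closure_le]
    rintro _ ⟨g, h, rfl⟩
    obtain ⟨a, b, rfl⟩ := qT_surj hF g
    obtain ⟨a', b', rfl⟩ := qT_surj hF h
    rw [qT_comm]
    exact (center_Qs hF hm _).2 ⟨_, rfl⟩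

include hm in
theorem card_center_Qs : Nat.card (Subgroup.center (Qs hF)) = 2 ^ (2 * m + 1) := by
  have hbij : Function.Bijective (fun b : F =>
      (⟨qT hF 0 b, (center_Qs hF hm _).2 ⟨b, rfl⟩⟩ : Subgroup.center (Qs hF))) := by
    constructor
    · intro b b' h
      exact (qT_inj hF (congrArg Subtype.val h)).2
    · rintro ⟨h, hh⟩
      obtain ⟨b, rfl⟩ := (center_Qs hF hm h).1 hh
      exact ⟨b, rfl⟩
  rw [← Nat.card_congr (Equiv.ofBijective _ hbij), Nat.card_eq_fintype_card, hF]

include hF hm in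
/-- structure of the Sylow 2-subgroups of the Suzuki group -/
theorem sylow_two_structure (P : Sylow 2 (Sz F m)) :
    Nat.card P = (2 ^ (2 * m + 1)) ^ 2 ∧ Monoid.exponent P = 4 ∧
      Subgroup.center P = commutator P ∧ Nat.card (Subgroup.center P) = 2 ^ (2 * m + 1) := by
  obtain ⟨e⟩ := sylow_equiv_Qs hF hm P
  refine ⟨?_, ?_, ?_, ?_⟩
  · rw [Nat.card_congr e.toEquiv, card_Qs]
  · rw [Monoid.exponent_eq_of_mulEquiv e, exponent_Qs]
  · ext x
    have h1 : x ∈ Subgroup.center P ↔ e x ∈ Subgroup.center (Qs hF) := by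
      rw [Subgroup.mem_center_iff, Subgroup.mem_center_iff]
      constructor
      · intro h g
        obtain ⟨g', rfl⟩ := e.surjective g
        rw [← map_mul, ← map_mul, h g']
      · intro h g
        apply e.injective
        rw [map_mul, map_mul, h (e g)]
    have h2 : x ∈ commutator P ↔ e x ∈ commutator (Qs hF) := by
      have hmap : Subgroup.map e.toMonoidHom (commutator P) = commutator (Qs hF) := by
        rw [commutator_def, commutator_def, Subgroup.map_commutator]
        have : Subgroup.map e.toMonoidHom ⊤ = ⊤ := by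
          rw [← MonoidHom.range_eq_map, MonoidHom.range_eq_top]
          exact e.surjective
        rw [this]
      rw [← hmap]
      exact (Subgroup.mem_map_iff_mem e.injective).symm
    rw [h1, h2, center_eq_commutator_Qs hF hm]
  · rw [Nat.card_congr (Subgroup.centerCongr e).toEquiv, card_center_Qs hF hm]

end

end Cfsg.Agent.Lib.helper3
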