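import Mathlib
import Cfsg.Prelude.Def_LieExceptional
import Cfsg.Agent.Lib.helper3.SuzukiSylow

set_option autoImplicit false

namespace Cfsg.Agent.Lib.helper3

open Cfsg Matrix

section

variable {F : Type*} [Field F] [Fintype F] {m : ℕ} (hF : Fintype.card F = 2 ^ (2 * m + 1))

include hF in
theorem szθ_injective : Function.Injective (szθ m : F → F) := by
  intro a b h
  have h2 := sz_two hF
  have h1 : szθ m (szθ m a) = szθ m (szθ m b) := by rw [h]
  rw [szθ_szθ hF, szθ_szθ hF] at h1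
  have : (a - b) ^ 2 = 0 := by grind
  have := pow_eq_zero_iff (two_ne_zero) |>.1 this
  exact sub_eq_zero.1 this

include hF in
theorem szθ_surjective : Function.Surjective (szθ m : F → F) :=
  Finite.injective_iff_surjective.1 (szθ_injective hF)

include hF in
theorem sq_mul_szθ_surj (c : F) : ∃ s : F, s ^ 2 * szθ m s = c := by
  have h2 := sz_two hF
  have hchar : CharP F 2 := CharTwo.of_one_ne_zero_of_two_eq_zero one_ne_zero h2
  obtain ⟨r, hr⟩ := isSquare_of_charTwo' (szθ m c)
  obtain ⟨s, hs⟩ := norm_surj hF r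
  refine ⟨s, ?_⟩
  apply szθ_injective hF
  rw [szθ_mul, szθ_szθ hF, hr, ← hs]
  unfold szθ
  ring

/-- the second basis vector of the special line at an affine point -/
def szvec2 (m : ℕ) (x y : F) : Fin 4 → F := ![y + x * szθ m x, szθ m x, 1, 0]

include hF in
/-- every nonzero vector lies on a special line -/
theorem spread_cover (v : Fin 4 → F) :
    (v 2 = 0 ∧ v 3 = 0) ∨ ∃ x y α β : F, v = α • szvec m x y + β • szvec2 m x y := by
  have h2 := sz_two hF
  by_cases h3 : v 3 = 0
  · by_cases h2' : v 2 = 0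
    · exact Or.inl ⟨h2', h3⟩
    · right
      obtain ⟨x, hx⟩ := szθ_surjective hF (v 1 / v 2)
      refine ⟨x, v 0 / v 2 + x * szθ m x, 0, v 2, ?_⟩
      funext i
      fin_cases i
      · simp [szvec2]
        field_simp
        grind
      · simp [szvec2, hx]
        field_simp
      · simp [szvec2]
      · simp [szvec2, h3]
  · right
    -- normalise the last coordinate
    set w0 := v 0 / v 3 with hw0
    set w1 := v 1 / v 3 with hw1
    set w2 := v 2 / v 3 with hw2
    obtain ⟨s, hs⟩ := sq_mul_szθ_surj hF (w0 + w1 * w2 + szθ m w1 + w2 ^ 2 * szθ m w2)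
    set x := w2 + s with hx
    set y := w1 + (w2 + x) * szθ m x with hy
    refine ⟨x, y, v 3, v 3 * (w2 + x), ?_⟩
    have hθx : szθ m x = szθ m w2 + szθ m s := szθ_add hF _ _
    have hθy : szθ m y = szθ m w1 + (szθ m w2 + szθ m x) * x ^ 2 := by
      rw [hy, szθ_add hF, szθ_mul, szθ_add hF, szθ_szθ hF]
    funext i
    fin_cases i
    · simp only [szvec, szvec2, Fin.zero_eta, Fin.isValue, Pi.add_apply, Pi.smul_apply,
        Matrix.cons_val_zero, smul_eq_mul]
      have hv0 : v 0 = v 3 * w0 := by rw [hw0]; field_simp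
      rw [hv0, szf_eq, hθy, hθx]
      have hs' : s ^ 2 * szθ m s = w0 + w1 * w2 + szθ m w1 + w2 ^ 2 * szθ m w2 := hs
      have hxs : s = x + w2 := by rw [hx]; grind
      rw [hxs, szθ_add hF] at hs'
      have e : w0 = (x + w2) ^ 2 * (szθ m x + szθ m w2) + w1 * w2 + szθ m w1 + w2 ^ 2 * szθ m w2 := by
        grind
      rw [e, hy]
      grind
    · simp only [szvec, szvec2, Fin.mk_one, Fin.isValue, Pi.add_apply, Pi.smul_apply,
        Matrix.cons_val_one, Matrix.cons_val_zero, smul_eq_mul]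
      have hv1 : v 1 = v 3 * w1 := by rw [hw1]; field_simp
      rw [hv1, hy]
      grind
    · simp only [szvec, szvec2, Fin.reduceFinMk, Fin.isValue, Pi.add_apply, Pi.smul_apply,
        Matrix.cons_val_two, Matrix.tail_cons, Matrix.head_cons, smul_eq_mul]
      have hv2 : v 2 = v 3 * w2 := by rw [hw2]; field_simp
      rw [hv2]
      grind
    · simp [szvec, szvec2]

variable (hm : 1 ≤ m)

omit [Fintype F] in
theorem szT_mulVec_Linf (a b : F) (u : Fin 4 → F) (h2 : u 2 = 0) (h3 : u 3 = 0) :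
    (szTmat m a b *ᵥ u) 2 = 0 ∧ (szTmat m a b *ᵥ u) 3 = 0 ∧
      (szTmat m a b *ᵥ u) 1 = u 1 ∧ (szTmat m a b *ᵥ u) 0 = u 0 + a * u 1 := by
  simp [szTmat, Matrix.mulVec, dotProduct, Fin.sum_univ_four, h2, h3]

omit [Fintype F] in
theorem szD_mulVec_Linf (k : F) (u : Fin 4 → F) (h2 : u 2 = 0) (h3 : u 3 = 0) :
    (szDmat m k *ᵥ u) 2 = 0 ∧ (szDmat m k *ᵥ u) 3 = 0 ∧
      (szDmat m k *ᵥ u) 1 = szθ m k * u 1 ∧ (szDmat m k *ᵥ u) 0 = k ^ 2 * szθ m k * u 0 := by
  simp [szDmat, Matrix.mulVec, dotProduct, Fin.sum_univ_four, h2, h3]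

omit [Fintype F] in
theorem szTJ_mulVec (a b : F) (u : Fin 4 → F) (h2 : u 2 = 0) (h3 : u 3 = 0) :
    (szTmat m a b *ᵥ (szJmat F *ᵥ u)) 3 = u 0 ∧
      (szTmat m a b *ᵥ (szJmat F *ᵥ u)) 2 = u 1 + a * u 0 := by
  simp [szTmat, szJmat, Matrix.mulVec, dotProduct, Fin.sum_univ_four, h2, h3]

include hF hm in
/-- an element with an eigenvector on the special line at infinity fixes the point at infinity -/
theorem fixes_inf_of_eigen_Linf (g : Sz F m) (v : Fin 4 → F) (hv : v ≠ 0) (h2 : v 2 = 0)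
    (h3 : v 3 = 0) (c : F)
    (h : ((g : Matrix.SpecialLinearGroup (Fin 4) F) : Matrix (Fin 4) (Fin 4) F) *ᵥ v = c • v) :
    g • oInf F m = oInf F m := by
  rcases full_decomp hF hm g with ⟨a, b, k, rfl⟩ | ⟨a, b, a', b', k, rfl⟩
  · rw [mul_smul, gD_oInf, gT_oInf]
  · exfalso
    have e : (((gT hF a b * gJ hF * (gT hF a' b' * gD hF k) : Sz F m) :
        Matrix.SpecialLinearGroup (Fin 4) F) : Matrix (Fin 4) (Fin 4) F) =
        szTmat m a b * szJmat F * (szTmat m a' b' * szDmat m (k : F)) := rfl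
    rw [e, ← Matrix.mulVec_mulVec, ← Matrix.mulVec_mulVec, ← Matrix.mulVec_mulVec] at h
    obtain ⟨d2, d3, d1, d0⟩ := szD_mulVec_Linf (m := m) (k : F) v h2 h3
    obtain ⟨t2, t3, t1, t0⟩ := szT_mulVec_Linf (m := m) a' b' _ d2 d3
    obtain ⟨j3, j2⟩ := szTJ_mulVec (m := m) a b _ t2 t3
    have e3 := congrFun h 3
    have e2 := congrFun h 2
    rw [j3, Pi.smul_apply, h3, smul_zero] at e3
    rw [j2, Pi.smul_apply, h2, smul_zero, e3, mul_zero, add_zero] at e2
    rw [t1, d1] at e2
    rw [t0, d0, d1] at e3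
    have hk : (k : F) ≠ 0 := k.ne_zero
    have hθk : szθ m (k : F) ≠ 0 := szθ_ne_zero m hk
    have hv1 : v 1 = 0 := by
      rcases mul_eq_zero.1 e2 with h' | h'
      · exact absurd h' hθk
      · exact h'
    rw [hv1, mul_zero, mul_zero, add_zero] at e3
    have hv0 : v 0 = 0 := by
      rcases mul_eq_zero.1 e3 with h' | h'
      · exfalso
        rcases mul_eq_zero.1 h' with h'' | h''
        · exact hk (pow_eq_zero_iff (two_ne_zero) |>.1 h'')
        · exact hθk h''
      · exact h'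
    apply hv
    funext i
    fin_cases i
    · exact hv0
    · exact hv1
    · exact h2
    · exact h3

include hF hm in
/-- an element of the Suzuki group with an eigenvector fixes a point of the ovoid -/
theorem fixes_point_of_eigenvector (g : Sz F m) (v : Fin 4 → F) (hv : v ≠ 0) (c : F)
    (h : ((g : Matrix.SpecialLinearGroup (Fin 4) F) : Matrix (Fin 4) (Fin 4) F) *ᵥ v = c • v) :
    ∃ p : suzukiOvoid F m, g • p = p := by
  rcases spread_cover hF v with ⟨h2, h3⟩ | ⟨x, y, α, β, hvv⟩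
  · exact ⟨oInf F m, fixes_inf_of_eigen_Linf hF hm g v hv h2 h3 c h⟩
  · set hh : Sz F m := gT hF x y * gJ hF with hhdef
    set w : Fin 4 → F := ![α, β, 0, 0] with hw
    have hhw : ((hh : Matrix.SpecialLinearGroup (Fin 4) F) : Matrix (Fin 4) (Fin 4) F) *ᵥ w = v := by
      have e : ((hh : Matrix.SpecialLinearGroup (Fin 4) F) : Matrix (Fin 4) (Fin 4) F) =
          szTmat m x y * szJmat F := rfl
      rw [e, hvv]
      funext i
      fin_cases i <;>
        simp [szTmat, szJmat, szvec, szvec2, Matrix.mulVec, dotProduct, Fin.sum_univ_four,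
          Matrix.mul_apply, hw] <;> ring
    have hw0 : w ≠ 0 := by
      intro h0
      apply hv
      rw [← hhw, h0, Matrix.mulVec_zero]
    have hconj : (((hh⁻¹ * g * hh : Sz F m) : Matrix.SpecialLinearGroup (Fin 4) F) :
        Matrix (Fin 4) (Fin 4) F) *ᵥ w = c • w := by
      have e : (((hh⁻¹ * g * hh : Sz F m) : Matrix.SpecialLinearGroup (Fin 4) F) :
          Matrix (Fin 4) (Fin 4) F) =
          (((hh⁻¹ : Sz F m) : Matrix.SpecialLinearGroup (Fin 4) F) : Matrix (Fin 4) (Fin 4) F) *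
          ((g : Matrix.SpecialLinearGroup (Fin 4) F) : Matrix (Fin 4) (Fin 4) F) *
          ((hh : Matrix.SpecialLinearGroup (Fin 4) F) : Matrix (Fin 4) (Fin 4) F) := rfl
      rw [e, ← Matrix.mulVec_mulVec, ← Matrix.mulVec_mulVec, hhw, h, Matrix.mulVec_smul, ← hhw,
        Matrix.mulVec_mulVec]
      have e2 : (((hh⁻¹ : Sz F m) : Matrix.SpecialLinearGroup (Fin 4) F) :
          Matrix (Fin 4) (Fin 4) F) *
          ((hh : Matrix.SpecialLinearGroup (Fin 4) F) : Matrix (Fin 4) (Fin 4) F) = 1 := by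
        have := congrArg (fun t : Sz F m => ((t : Matrix.SpecialLinearGroup (Fin 4) F) :
          Matrix (Fin 4) (Fin 4) F)) (inv_mul_cancel hh)
        exact this
      rw [e2, Matrix.one_mulVec]
    have hfix := fixes_inf_of_eigen_Linf hF hm (hh⁻¹ * g * hh) w hw0 (by simp [hw]) (by simp [hw])
      c hconj
    refine ⟨hh • oInf F m, ?_⟩
    rw [mul_smul, mul_smul] at hfix
    have := congrArg (fun p => hh • p) hfix
    simp only [smul_inv_smul] at this
    exact this

end

end Cfsg.Agent.Lib.helper3
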