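import Mathlib
import Cfsg.Prelude.Def_LieExceptional
import Cfsg.Agent.Lib.helper3.SuzukiSpread

set_option autoImplicit false

namespace Cfsg.Agent.Lib.helper3

open Cfsg Matrix

/-- arithmetic facts on prime divisors of `Q ^ 2 + 1` for even `Q` -/
theorem sz_prime_arith {Q p : ℕ} (hQ : Even Q) (hQ1 : 1 ≤ Q) (hp : p.Prime) (hd : p ∣ Q ^ 2 + 1) :
    p ≠ 2 ∧ ¬ p ∣ Q ∧ ¬ p ∣ Q - 1 ∧ ¬ p ∣ Q ^ 2 - 1 ∧ ¬ p ∣ Q ^ 3 - 1 := by
  have hp2 : p ≠ 2 := by
    rintro rfl
    obtain ⟨k, hk⟩ := hQ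
    have : Q ^ 2 + 1 = 2 * (2 * k * k) + 1 := by rw [hk]; ring
    omega
  have hdz : (p : ℤ) ∣ (Q : ℤ) ^ 2 + 1 := by
    have := Int.natCast_dvd_natCast.2 hd
    push_cast at this
    exact this
  have h2 : ¬ (p : ℤ) ∣ 2 := by
    intro h
    have h' : p ∣ 2 := by
      have : ((2 : ℕ) : ℤ) = 2 := rfl
      rw [← this] at h
      exact Int.natCast_dvd_natCast.1 h
    exact hp2 ((Nat.prime_dvd_prime_iff_eq hp Nat.prime_two).1 h')
  have hQpow : ∀ d : ℕ, 1 ≤ Q ^ d := fun d => Nat.one_le_pow _ _ hQ1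
  have cast_sub : ∀ d : ℕ, p ∣ Q ^ d - 1 → (p : ℤ) ∣ (Q : ℤ) ^ d - 1 := by
    intro d h
    have := Int.natCast_dvd_natCast.2 h
    rw [Nat.cast_sub (hQpow d)] at this
    push_cast at this
    exact this
  refine ⟨hp2, ?_, ?_, ?_, ?_⟩
  · intro h
    have hz : (p : ℤ) ∣ (Q : ℤ) := Int.natCast_dvd_natCast.2 h
    have : (p : ℤ) ∣ 1 := by
      have e : (1 : ℤ) = ((Q : ℤ) ^ 2 + 1) - (Q : ℤ) * (Q : ℤ) := by ring
      rw [e]
      exact dvd_sub hdz (Dvd.dvd.mul_left hz _)
    have h1 : p ∣ 1 := by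
      have e : ((1 : ℕ) : ℤ) = 1 := rfl
      rw [← e] at this
      exact Int.natCast_dvd_natCast.1 this
    exact hp.one_lt.ne' (Nat.dvd_one.1 h1)
  · intro h
    have hz := cast_sub 1 (by rwa [pow_one])
    rw [pow_one] at hz
    apply h2
    have e : (2 : ℤ) = ((Q : ℤ) ^ 2 + 1) - ((Q : ℤ) + 1) * ((Q : ℤ) - 1) := by ring
    rw [e]
    exact dvd_sub hdz (Dvd.dvd.mul_left hz _)
  · intro h
    have hz := cast_sub 2 h
    apply h2
    have e : (2 : ℤ) = ((Q : ℤ) ^ 2 + 1) - ((Q : ℤ) ^ 2 - 1) := by ring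
    rw [e]
    exact dvd_sub hdz hz
  · intro h
    have hz := cast_sub 3 h
    have h3 : (p : ℤ) ∣ (Q : ℤ) + 1 := by
      have e : (Q : ℤ) + 1 = (Q : ℤ) * ((Q : ℤ) ^ 2 + 1) - ((Q : ℤ) ^ 3 - 1) := by ring
      rw [e]
      exact dvd_sub (Dvd.dvd.mul_left hdz _) hz
    apply h2
    have e : (2 : ℤ) = ((Q : ℤ) ^ 2 + 1) - ((Q : ℤ) + 1) * ((Q : ℤ) - 1) := by ring
    rw [e]
    exact dvd_sub hdz (Dvd.dvd.mul_right h3 _)

section

variable {F : Type*} [Field F] [Fintype F] {m : ℕ} (hF : Fintype.card F = 2 ^ (2 * m + 1))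
  (hm : 1 ≤ m)

/-- the matrix of an element of the Suzuki group -/
def szMat (g : Sz F m) : Matrix (Fin 4) (Fin 4) F :=
  ((g : Matrix.SpecialLinearGroup (Fin 4) F) : Matrix (Fin 4) (Fin 4) F)

omit [Fintype F] in
theorem szMat_mul (g h : Sz F m) : szMat (g * h) = szMat g * szMat h := rfl

omit [Fintype F] in
theorem szMat_one : szMat (1 : Sz F m) = 1 := rfl

omit [Fintype F] in
theorem szMat_pow (g : Sz F m) (k : ℕ) : szMat (g ^ k) = szMat g ^ k := by
  induction k with
  | zero => rw [pow_zero, pow_zero, szMat_one]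
  | succ k ih => rw [pow_succ, pow_succ, szMat_mul, ih]

omit [Fintype F] in
theorem szMat_injective : Function.Injective (szMat : Sz F m → Matrix (Fin 4) (Fin 4) F) := by
  intro g h e
  apply Subtype.ext
  apply Subtype.ext
  exact e

include hF in
theorem ovoid_eq_smul_inf (a : suzukiOvoid F m) : ∃ h : Sz F m, a = h • oInf F m := by
  rcases ovoid_cases a with h | ⟨x, y, h⟩
  · exact ⟨1, by rw [h, one_smul]⟩
  · refine ⟨gT hF x y * gJ hF, ?_⟩
    rw [h, mul_smul, gJ_oInf, gT_oZero]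

include hF hm in
/-- an element of prime order dividing `q ^ 2 + 1` fixes no point of the ovoid -/
theorem no_fixed_point_of_prime (z : Sz F m) {p : ℕ} (hp : p.Prime) (hz : orderOf z = p)
    (hd : p ∣ (2 ^ (2 * m + 1)) ^ 2 + 1) (a : suzukiOvoid F m) : z • a ≠ a := by
  intro hfix
  obtain ⟨h, rfl⟩ := ovoid_eq_smul_inf hF a
  have hfix' : (h⁻¹ * z * h) • oInf F m = oInf F m := by
    rw [mul_smul, mul_smul, hfix, inv_smul_smul]
  have hmem : (h⁻¹ * z * h) ∈ MulAction.stabilizer (Sz F m) (suzukiPointInfinity F) :=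
    congrArg Subtype.val hfix'
  have hord : orderOf (h⁻¹ * z * h) = p := by
    rw [← hz]
    have := orderOf_injective (MulAut.conj h⁻¹).toMonoidHom (MulAut.conj h⁻¹).injective z
    simpa [MulAut.conj_apply] using this
  have hdvd := Subgroup.orderOf_dvd_natCard _ hmem
  rw [hord, card_stab_inf hm hF] at hdvd
  have hQ : Even (2 ^ (2 * m + 1)) := ⟨2 ^ (2 * m), by rw [pow_succ]; ring⟩
  obtain ⟨_, h1, h2, _, _⟩ := sz_prime_arith hQ (Nat.one_le_two_pow) hp hd
  rcases (Nat.Prime.dvd_mul hp).1 hdvd with h' | h'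
  · exact h1 (hp.dvd_of_dvd_pow h')
  · exact h2 h'

include hF hm in
/-- an element of prime order dividing `q ^ 2 + 1` has no eigenvector -/
theorem no_eigenvector_of_prime (z : Sz F m) {p : ℕ} (hp : p.Prime) (hz : orderOf z = p)
    (hd : p ∣ (2 ^ (2 * m + 1)) ^ 2 + 1) (v : Fin 4 → F) (hv : v ≠ 0) (c : F) :
    szMat z *ᵥ v ≠ c • v := by
  intro h
  obtain ⟨a, ha⟩ := fixes_point_of_eigenvector hF hm z v hv c h
  exact no_fixed_point_of_prime hF hm z hp hz hd a ha

include hF hm in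
/-- an element of prime order dividing `q ^ 2 + 1` acts irreducibly -/
theorem invariant_subspace_of_prime (z : Sz F m) {p : ℕ} (hp : p.Prime) (hz : orderOf z = p)
    (hd : p ∣ (2 ^ (2 * m + 1)) ^ 2 + 1) (W : Submodule F (Fin 4 → F))
    (hW : ∀ v ∈ W, szMat z *ᵥ v ∈ W) : W = ⊥ ∨ W = ⊤ := by
  classical
  by_contra hcon
  rw [not_or] at hcon
  obtain ⟨hbot, htop⟩ := hcon
  have : Fact p.Prime := ⟨hp⟩
  have hzp : szMat z ^ p = 1 := by
    rw [← szMat_pow, ← hz, pow_orderOf_eq_one, szMat_one]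
  have hne : ∀ w : W, w ≠ 0 → szMat z *ᵥ (w : Fin 4 → F) ≠ 0 := by
    intro w hw h0
    apply hw
    have h1 : (szMat z ^ p) *ᵥ (w : Fin 4 → F) = (w : Fin 4 → F) := by
      rw [hzp, Matrix.one_mulVec]
    have h2 : (szMat z ^ p) *ᵥ (w : Fin 4 → F) = 0 := by
      have hp1 : p = (p - 1) + 1 := by have := hp.pos; omega
      rw [hp1, pow_succ, ← Matrix.mulVec_mulVec, h0, Matrix.mulVec_zero]
    rw [h1] at h2
    exact Subtype.ext h2
  let f : Function.End {w : W // w ≠ 0} := fun w =>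
    ⟨⟨szMat z *ᵥ (w.1 : Fin 4 → F), hW _ w.1.2⟩, fun h0 => hne w.1 w.2 (congrArg Subtype.val h0)⟩
  have hfpow : ∀ k : ℕ, ∀ w : {w : W // w ≠ 0},
      (((f ^ k) w).1 : Fin 4 → F) = (szMat z ^ k) *ᵥ (w.1 : Fin 4 → F) := by
    intro k
    induction k with
    | zero =>
      intro w
      rw [pow_zero, pow_zero, Matrix.one_mulVec]
      rfl
    | succ k ih =>
      intro w
      rw [pow_succ', pow_succ', ← Matrix.mulVec_mulVec, ← ih]
      rfl
  have hf : f ^ p ^ 1 = 1 := by
    rw [pow_one]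
    funext w
    apply Subtype.ext
    apply Subtype.ext
    rw [hfpow, hzp, Matrix.one_mulVec]
    rfl
  have hmod := Equiv.Perm.card_fixedPoints_modEq (f := f) hf
  have hfix : Fintype.card (Function.fixedPoints f) = 0 := by
    rw [Fintype.card_eq_zero_iff]
    constructor
    rintro ⟨w, hw⟩
    have h1 : szMat z *ᵥ (w.1 : Fin 4 → F) = (1 : F) • (w.1 : Fin 4 → F) := by
      rw [one_smul]
      exact congrArg (fun t : {w : W // w ≠ 0} => (t.1 : Fin 4 → F)) hw
    have hw0 : (w.1 : Fin 4 → F) ≠ 0 := fun h0 => w.2 (Subtype.ext h0)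
    exact no_eigenvector_of_prime hF hm z hp hz hd _ hw0 1 h1
  rw [hfix] at hmod
  have hcard : Fintype.card {w : W // w ≠ 0} = (2 ^ (2 * m + 1)) ^ Module.finrank F W - 1 := by
    rw [Fintype.card_subtype_compl, Fintype.card_subtype_eq, Module.card_eq_pow_finrank (K := F),
      hF]
  rw [hcard] at hmod
  have hdvd : p ∣ (2 ^ (2 * m + 1)) ^ Module.finrank F W - 1 := (Nat.modEq_zero_iff_dvd).1 hmod
  have hpos : 0 < Module.finrank F W := by
    rw [Module.finrank_pos_iff_exists_ne_zero]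
    by_contra hall
    push Not at hall
    apply hbot
    rw [eq_bot_iff]
    intro v hv
    have := hall ⟨v, hv⟩
    rw [Submodule.mem_bot]
    exact congrArg Subtype.val this
  have hlt : Module.finrank F W < 4 := by
    have := Submodule.finrank_lt htop
    rwa [Module.finrank_fin_fun] at this
  have hQ : Even (2 ^ (2 * m + 1)) := ⟨2 ^ (2 * m), by rw [pow_succ]; ring⟩
  obtain ⟨_, _, h1, h2, h3⟩ := sz_prime_arith hQ (Nat.one_le_two_pow) hp hd
  interval_cases hr : Module.finrank F W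
  · rw [pow_one] at hdvd
    exact h1 hdvd
  · exact h2 hdvd
  · exact h3 hdvd

include hF hm in
/-- a nonzero matrix commuting with such an element is injective -/
theorem mulVec_injective_of_comm (z : Sz F m) {p : ℕ} (hp : p.Prime) (hz : orderOf z = p)
    (hd : p ∣ (2 ^ (2 * m + 1)) ^ 2 + 1) (a : Matrix (Fin 4) (Fin 4) F)
    (hc : szMat z * a = a * szMat z) (ha : a ≠ 0) (v : Fin 4 → F) (hv : a *ᵥ v = 0) : v = 0 := by
  set W : Submodule F (Fin 4 → F) := LinearMap.ker (Matrix.mulVecLin a) with hW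
  have hinv : ∀ v ∈ W, szMat z *ᵥ v ∈ W := by
    intro v hv
    rw [hW, LinearMap.mem_ker, Matrix.mulVecLin_apply] at hv ⊢
    rw [Matrix.mulVec_mulVec, ← hc, ← Matrix.mulVec_mulVec, hv, Matrix.mulVec_zero]
  rcases invariant_subspace_of_prime hF hm z hp hz hd W hinv with h | h
  · have : v ∈ W := by
      rw [hW, LinearMap.mem_ker, Matrix.mulVecLin_apply]
      exact hv
    rw [h, Submodule.mem_bot] at this
    exact this
  · exfalso
    apply ha
    ext i j
    have : (Pi.single j 1 : Fin 4 → F) ∈ W := by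
      rw [h]
      trivial
    rw [hW, LinearMap.mem_ker, Matrix.mulVecLin_apply] at this
    have h2 := congrFun this i
    rw [Matrix.mulVec_single_one] at h2
    exact h2

include hF hm in
/-- the centraliser of an element of prime order dividing `q ^ 2 + 1` is cyclic -/
theorem centralizer_isCyclic_of_prime (z : Sz F m) {p : ℕ} (hp : p.Prime) (hz : orderOf z = p)
    (hd : p ∣ (2 ^ (2 * m + 1)) ^ 2 + 1) :
    IsCyclic (Subgroup.centralizer ({z} : Set (Sz F m))) := by
  set A : Subalgebra F (Matrix (Fin 4) (Fin 4) F) :=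
    Subalgebra.centralizer F ({szMat z} : Set (Matrix (Fin 4) (Fin 4) F)) with hA
  have hmemA : ∀ a : Matrix (Fin 4) (Fin 4) F, a ∈ A ↔ szMat z * a = a * szMat z := by
    intro a
    rw [hA, Subalgebra.mem_centralizer_iff]
    constructor
    · intro h
      exact h _ rfl
    · intro h g hg
      rw [Set.mem_singleton_iff] at hg
      rw [hg]
      exact h
  have hnzd : NoZeroDivisors A := by
    constructor
    intro a b hab
    by_contra hcon
    rw [not_or] at hcon
    obtain ⟨ha, hb⟩ := hcon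
    have ha' : (a : Matrix (Fin 4) (Fin 4) F) ≠ 0 := fun h => ha (Subtype.ext h)
    apply hb
    apply Subtype.ext
    show (b : Matrix (Fin 4) (Fin 4) F) = 0
    ext i j
    have hab' : (a : Matrix (Fin 4) (Fin 4) F) * (b : Matrix (Fin 4) (Fin 4) F) = 0 :=
      congrArg Subtype.val hab
    have h1 : (a : Matrix (Fin 4) (Fin 4) F) *ᵥ ((b : Matrix (Fin 4) (Fin 4) F) *ᵥ
        (Pi.single j 1 : Fin 4 → F)) = 0 := by
      rw [Matrix.mulVec_mulVec, hab', Matrix.zero_mulVec]
    have h2 := mulVec_injective_of_comm hF hm z hp hz hd _ ((hmemA _).1 a.2) ha' _ h1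
    have h3 := congrFun h2 i
    rw [Matrix.mulVec_single_one] at h3
    exact h3
  have hdom : IsDomain A := NoZeroDivisors.to_isDomain A
  have hfield : IsField A := Finite.isDomain_to_isField A
  let _ : Field A := hfield.toField
  have hfin : Finite (Sz F m) := finite_Sz hF hm
  let f : Subgroup.centralizer ({z} : Set (Sz F m)) →* A :=
    { toFun := fun c => ⟨szMat c.1, (hmemA _).2 (by
        have := c.2
        rw [Subgroup.mem_centralizer_iff] at this
        have h := this z rfl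
        rw [← szMat_mul, ← szMat_mul, h])⟩
      map_one' := rfl
      map_mul' := fun _ _ => rfl }
  have hf : Function.Injective f := by
    intro c c' h
    apply Subtype.ext
    apply szMat_injective
    exact congrArg (fun t : A => (t : Matrix (Fin 4) (Fin 4) F)) h
  exact isCyclic_of_injective_ringHom f hf

end

end Cfsg.Agent.Lib.helper3
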