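import Mathlib
import Cfsg.Prelude.Def_LieExceptional
import Cfsg.Agent.Lib.helper3.SuzukiTorus

set_option autoImplicit false

namespace Cfsg.Agent.Lib.helper3

open Cfsg Matrix

section

variable {F : Type*} [Field F] [Fintype F] {m : ℕ} (hF : Fintype.card F = 2 ^ (2 * m + 1))
  (hm : 1 ≤ m)

/-- the diagonal torus as a homomorphism -/
def gDhom : Fˣ →* Sz F m where
  toFun := gD hF
  map_one' := gD_one hF
  map_mul' := gD_mul hF

include hF in
theorem gDhom_injective : Function.Injective (gDhom hF : Fˣ →* Sz F m) := by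
  intro k k' h
  apply szD_injective hF
  exact congrArg Subtype.val h

include hF in
theorem card_gDhom_range : Nat.card (gDhom hF : Fˣ →* Sz F m).range = 2 ^ (2 * m + 1) - 1 := by
  rw [← Nat.card_congr (MonoidHom.ofInjective (gDhom_injective hF)).toEquiv, Nat.card_units,
    Nat.card_eq_fintype_card, hF]

include hF hm in
/-- Sylow subgroups for primes dividing `q - 1` are cyclic -/
theorem sylow_cyclic_of_dvd_pred {p : ℕ} [Fact p.Prime] (hp2 : p ≠ 2)
    (hd : p ∣ 2 ^ (2 * m + 1) - 1) (P : Sylow p (Sz F m)) : IsCyclic P := by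
  have hp := (Fact.out : p.Prime)
  have hfin : Finite (Sz F m) := finite_Sz hF hm
  set H : Subgroup (Sz F m) := (gDhom hF : Fˣ →* Sz F m).range with hH
  have hHc : IsCyclic H := by
    rw [hH]
    exact isCyclic_of_surjective (gDhom hF : Fˣ →* Sz F m).rangeRestrict
      (MonoidHom.rangeRestrict_surjective _)
  obtain PH : Sylow p H := Classical.arbitrary _
  have hPHcard := Sylow.card_eq_multiplicity PH
  set K : Subgroup (Sz F m) := (PH : Subgroup H).map H.subtype with hK
  have hKp : IsPGroup p K := PH.isPGroup'.map _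
  have hKcard : Nat.card K = p ^ (Nat.card H).factorization p := by
    rw [hK, Subgroup.card_map_of_injective (Subgroup.subtype_injective H)]
    exact hPHcard
  obtain ⟨P', hKP'⟩ := hKp.exists_le_sylow
  have hP'card := Sylow.card_eq_multiplicity P'
  -- the two p-parts agree
  have hQ : Even (2 ^ (2 * m + 1)) := ⟨2 ^ (2 * m), by rw [pow_succ]; ring⟩
  have hQ1 : 1 < 2 ^ (2 * m + 1) := Nat.one_lt_two_pow (by omega)
  have hnd1 : ¬ p ∣ (2 ^ (2 * m + 1)) ^ 2 := by
    intro h
    have := (Nat.prime_dvd_prime_iff_eq hp Nat.prime_two).1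
      (hp.dvd_of_dvd_pow (hp.dvd_of_dvd_pow h))
    exact hp2 this
  have hnd2 : ¬ p ∣ (2 ^ (2 * m + 1)) ^ 2 + 1 := by
    intro h
    exact (sz_prime_arith hQ hQ1.le hp h).2.2.1 hd
  have hfac : (Nat.card (Sz F m)).factorization p = (Nat.card H).factorization p := by
    rw [card_Sz hm hF, hH, card_gDhom_range hF]
    have h1 : (2 ^ (2 * m + 1)) ^ 2 ≠ 0 := by positivity
    have h2 : (2 ^ (2 * m + 1)) ^ 2 + 1 ≠ 0 := by positivity
    have h3 : 2 ^ (2 * m + 1) - 1 ≠ 0 := by omega
    rw [Nat.factorization_mul (mul_ne_zero h1 h2) h3, Nat.factorization_mul h1 h2]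
    simp only [Finsupp.coe_add, Pi.add_apply]
    rw [Nat.factorization_eq_zero_of_not_dvd hnd1, Nat.factorization_eq_zero_of_not_dvd hnd2]
    ring
  have hKP'eq : K = (P' : Subgroup (Sz F m)) := by
    apply Subgroup.eq_of_le_of_card_ge hKP'
    rw [hKcard, hP'card, hfac]
  have hKc : IsCyclic K := by
    have h1 : IsCyclic (PH : Subgroup H) := inferInstance
    rw [hK]
    exact isCyclic_of_surjective ((H.subtype).subgroupMap (PH : Subgroup H))
      (MonoidHom.subgroupMap_surjective _ _)
  have hP'c : IsCyclic (P' : Subgroup (Sz F m)) := by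
    rw [← hKP'eq]
    exact hKc
  have e := Sylow.equiv P' P
  exact isCyclic_of_surjective e.toMonoidHom e.surjective

include hF hm in
/-- Sylow subgroups for primes dividing `q ^ 2 + 1` are cyclic -/
theorem sylow_cyclic_of_dvd_sq_add_one {p : ℕ} [Fact p.Prime]
    (hd : p ∣ (2 ^ (2 * m + 1)) ^ 2 + 1) (P : Sylow p (Sz F m)) : IsCyclic P := by
  have hp := (Fact.out : p.Prime)
  have hfin : Finite (Sz F m) := finite_Sz hF hm
  have hPcard := Sylow.card_eq_multiplicity P
  have hdG : p ∣ Nat.card (Sz F m) := by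
    rw [card_Sz hm hF]
    exact Dvd.dvd.mul_right (Dvd.dvd.mul_left hd _) _
  have hpos : 0 < (Nat.card (Sz F m)).factorization p :=
    hp.factorization_pos_of_dvd Nat.card_pos.ne' hdG
  have hnt : Nontrivial P := by
    rw [← Finite.one_lt_card_iff_nontrivial, hPcard]
    exact Nat.one_lt_pow hpos.ne' hp.one_lt
  have hcnt : Nontrivial (Subgroup.center P) := P.isPGroup'.center_nontrivial
  have hdc : p ∣ Nat.card (Subgroup.center P) := by
    obtain ⟨k, hk⟩ := IsPGroup.iff_card.1 (P.isPGroup'.to_subgroup (Subgroup.center P))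
    have hk0 : k ≠ 0 := by
      rintro rfl
      rw [pow_zero] at hk
      have := Finite.one_lt_card_iff_nontrivial.2 hcnt
      omega
    rw [hk]
    exact dvd_pow_self p hk0
  obtain ⟨z, hz⟩ := exists_prime_orderOf_dvd_card' p hdc
  set zG : Sz F m := ((z : P) : Sz F m) with hzG
  have hzGord : orderOf zG = p := by
    rw [hzG, Subgroup.orderOf_coe, Subgroup.orderOf_coe]
    exact hz
  have hC := centralizer_isCyclic_of_prime hF hm zG hp hzGord hd
  have hle : (P : Subgroup (Sz F m)) ≤ Subgroup.centralizer ({zG} : Set (Sz F m)) := by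
    intro x hx
    rw [Subgroup.mem_centralizer_iff]
    intro h hh
    rw [Set.mem_singleton_iff] at hh
    rw [hh]
    have := Subgroup.mem_center_iff.1 z.2 ⟨x, hx⟩
    have h2 := congrArg (fun t : P => (t : Sz F m)) this
    simp only [Subgroup.coe_mul] at h2
    exact h2.symm
  have h1 : IsCyclic ((P : Subgroup (Sz F m)).subgroupOf
      (Subgroup.centralizer ({zG} : Set (Sz F m)))) := inferInstance
  have e := Subgroup.subgroupOfEquivOfLe hle
  exact isCyclic_of_surjective e.toMonoidHom e.surjective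

include hF hm in
/-- all Sylow subgroups for odd primes are cyclic -/
theorem sylow_cyclic_of_odd {p : ℕ} [Fact p.Prime] (hp2 : p ≠ 2) (P : Sylow p (Sz F m)) :
    IsCyclic P := by
  have hp := (Fact.out : p.Prime)
  have hfin : Finite (Sz F m) := finite_Sz hF hm
  by_cases hdG : p ∣ Nat.card (Sz F m)
  · rw [card_Sz hm hF] at hdG
    rcases (Nat.Prime.dvd_mul hp).1 hdG with h | h
    · rcases (Nat.Prime.dvd_mul hp).1 h with h' | h'
      · exfalso
        have := (Nat.prime_dvd_prime_iff_eq hp Nat.prime_two).1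
          (hp.dvd_of_dvd_pow (hp.dvd_of_dvd_pow h'))
        exact hp2 this
      · exact sylow_cyclic_of_dvd_sq_add_one hF hm h' P
    · exact sylow_cyclic_of_dvd_pred hF hm hp2 h P
  · have hPcard := Sylow.card_eq_multiplicity P
    rw [Nat.factorization_eq_zero_of_not_dvd hdG, pow_zero] at hPcard
    have : Subsingleton P := (Nat.card_eq_one_iff_unique.1 hPcard).1
    exact isCyclic_of_subsingleton

end

end Cfsg.Agent.Lib.helper3
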