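import Mathlib
import Cfsg.Prelude.Def_LieExceptional
import Cfsg.Agent.Lib.helper3.SuzukiOddSylow

set_option autoImplicit false

namespace Cfsg.Agent.Lib.helper3

open Cfsg Matrix

theorem isNilpotent_of_le' {G : Type*} [Group G] {H K : Subgroup G} (h : H ≤ K)
    (hK : Group.IsNilpotent K) : Group.IsNilpotent H := by
  have := hK
  exact Group.nilpotent_of_mulEquiv (Subgroup.subgroupOfEquivOfLe h)

theorem centralizer_conj_eq {G : Type*} [Group G] (g h : G) :
    Subgroup.centralizer ({h * g * h⁻¹} : Set G) =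
      (Subgroup.centralizer ({g} : Set G)).map (MulAut.conj h).toMonoidHom := by
  ext c
  rw [Subgroup.mem_map]
  constructor
  · intro hc
    rw [Subgroup.mem_centralizer_iff] at hc
    have hc' := hc _ rfl
    refine ⟨h⁻¹ * c * h, ?_, ?_⟩
    · rw [Subgroup.mem_centralizer_iff]
      intro x hx
      rw [Set.mem_singleton_iff] at hx
      subst hx
      have e1 : x * (h⁻¹ * c * h) = h⁻¹ * (h * x * h⁻¹ * c) * h := by group
      have e2 : h⁻¹ * c * h * x = h⁻¹ * (c * (h * x * h⁻¹)) * h := by group
      rw [e1, e2, hc']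
    · simp [MulAut.conj_apply]
      group
  · rintro ⟨x, hx, rfl⟩
    rw [Subgroup.mem_centralizer_iff] at hx ⊢
    intro y hy
    rw [Set.mem_singleton_iff] at hy
    subst hy
    have hx' := hx _ rfl
    simp only [MulEquiv.coe_toMonoidHom, MulAut.conj_apply]
    have e1 : h * g * h⁻¹ * (h * x * h⁻¹) = h * (g * x) * h⁻¹ := by group
    have e2 : h * x * h⁻¹ * (h * g * h⁻¹) = h * (x * g) * h⁻¹ := by group
    rw [e1, e2, hx']

theorem isNilpotent_centralizer_conj {G : Type*} [Group G] (g h : G)
    (hn : Group.IsNilpotent (Subgroup.centralizer ({g} : Set G))) :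
    Group.IsNilpotent (Subgroup.centralizer ({h * g * h⁻¹} : Set G)) := by
  rw [centralizer_conj_eq]
  have := hn
  exact Group.nilpotent_of_surjective ((MulAut.conj h).toMonoidHom.subgroupMap _)
    (MonoidHom.subgroupMap_surjective _ _)

section

variable {F : Type*} [Field F] [Fintype F] {m : ℕ} (hF : Fintype.card F = 2 ^ (2 * m + 1))
  (hm : 1 ≤ m)

include hm in
/-- the centraliser of a nontrivial translation consists of translations -/
theorem centralizer_gT_le {a b : F} (hab : ¬ (a = 0 ∧ b = 0)) :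
    Subgroup.centralizer ({gT hF a b} : Set (Sz F m)) ≤ Qs hF := by
  have h2 := sz_two hF
  intro c hc
  rw [Subgroup.mem_centralizer_iff] at hc
  have hc' : gT hF a b * c = c * gT hF a b := hc _ rfl
  have hfix : gT hF a b • (c • oInf F m) = c • oInf F m := by
    rw [← mul_smul, hc', mul_smul, gT_oInf]
  rcases ovoid_cases (c • oInf F m) with h | ⟨x, y, h⟩
  · obtain ⟨a', b', k', rfl⟩ := stab_decomp hF hm h
    have e : gT hF a b * gT hF a' b' =
        gT hF a' b' * gT hF ((k' : F) ^ 2 * a) ((k' : F) ^ 2 * szθ m (k' : F) ^ 2 * b) := by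
      have : gT hF a b * gT hF a' b' * gD hF k' =
          gT hF a' b' * gT hF ((k' : F) ^ 2 * a) ((k' : F) ^ 2 * szθ m (k' : F) ^ 2 * b) *
            gD hF k' := by
        rw [mul_assoc, hc', mul_assoc, gD_gT, ← mul_assoc]
      exact mul_right_cancel this
    rw [gT_mul, gT_mul] at e
    obtain ⟨e1, e2⟩ := gT_injective hF e
    have hk1 : (k' : F) = 1 := by
      by_cases ha : a = 0
      · have hb : b ≠ 0 := fun hb => hab ⟨ha, hb⟩
        subst ha
        rw [szθ_zero] at e2
        have e3 : ((k' : F) * szθ m (k' : F)) ^ 2 = 1 := by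
          have : (((k' : F) * szθ m (k' : F)) ^ 2 - 1) * b = 0 := by linear_combination -e2
          rcases mul_eq_zero.1 this with h' | h'
          · linear_combination h'
          · exact absurd h' hb
        exact sz_norm_eq_one hF (sz_sq_eq_one hF e3)
      · have e3 : (k' : F) ^ 2 = 1 := by
          have : ((k' : F) ^ 2 - 1) * a = 0 := by linear_combination -e1
          rcases mul_eq_zero.1 this with h' | h'
          · linear_combination h'
          · exact absurd h' ha
        exact sz_sq_eq_one hF e3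
    have hk1' : k' = 1 := Units.ext hk1
    rw [hk1', gD_one, mul_one]
    exact gT_mem_Qs hF a' b'
  · exfalso
    rw [h, gT_oPt] at hfix
    obtain ⟨e1, e2⟩ := szPt_inj m (congrArg Subtype.val hfix)
    apply hab
    have ha : a = 0 := by linear_combination e1
    subst ha
    rw [szθ_zero] at e2
    exact ⟨rfl, by linear_combination e2⟩

include hF in
theorem gD_fixed {k : Fˣ} (hk : k ≠ 1) {p : suzukiOvoid F m} (h : gD hF k • p = p) :
    p = oInf F m ∨ p = oPt m 0 0 := by
  rcases ovoid_cases p with h' | ⟨x, y, h'⟩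
  · exact Or.inl h'
  · right
    by_cases hxy : x = 0 ∧ y = 0
    · rw [h', hxy.1, hxy.2]
    · exfalso
      rw [h'] at h
      exact hk (szD_fix_third hF hxy (congrArg Subtype.val h))

include hm in
/-- the centraliser of a nontrivial torus element is the torus -/
theorem centralizer_gD_le {k : Fˣ} (hk : k ≠ 1) :
    Subgroup.centralizer ({gD hF k} : Set (Sz F m)) ≤ (gDhom hF : Fˣ →* Sz F m).range := by
  intro c hc
  rw [Subgroup.mem_centralizer_iff] at hc
  have hc' : gD hF k * c = c * gD hF k := hc _ rfl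
  have hfix1 : gD hF k • (c • oInf F m) = c • oInf F m := by
    rw [← mul_smul, hc', mul_smul, gD_oInf]
  have hfix2 : gD hF k • (c • oPt m (0 : F) 0) = c • oPt m 0 0 := by
    rw [← mul_smul, hc', mul_smul, gD_oZero]
  have hne : c • oPt m (0 : F) 0 ≠ c • oInf F m := fun h =>
    oPt_ne_oInf (0 : F) 0 (MulAction.injective c h)
  rcases gD_fixed hF hk hfix1 with h1 | h1
  · have h0 : c • oPt m (0 : F) 0 = oPt m 0 0 := by
      rcases gD_fixed hF hk hfix2 with h0 | h0
      · rw [h1] at hne
        exact absurd h0 hne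
      · exact h0
    obtain ⟨k', hk'⟩ := sz_two_point_stab hm hF c.2 (congrArg Subtype.val h1)
      (congrArg Subtype.val h0)
    exact ⟨k', Subtype.ext hk'.symm⟩
  · exfalso
    have h0 : c • oPt m (0 : F) 0 = oInf F m := by
      rcases gD_fixed hF hk hfix2 with h0 | h0
      · exact h0
      · rw [h1] at hne
        exact absurd h0 hne
    have f1 : (gJ hF * c) • oInf F m = oInf F m := by rw [mul_smul, h1, gJ_oZero]
    have f2 : (gJ hF * c) • oPt m (0 : F) 0 = oPt m 0 0 := by rw [mul_smul, h0, gJ_oInf]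
    obtain ⟨k', hk'⟩ := sz_two_point_stab hm hF (gJ hF * c).2 (congrArg Subtype.val f1)
      (congrArg Subtype.val f2)
    have hk'' : gJ hF * c = gD hF k' := Subtype.ext hk'
    have hcj : c = gJ hF * gD hF k' := by
      rw [← hk'', ← mul_assoc, gJ_mul_self, one_mul]
    rw [hcj] at hc'
    have e1 : gD hF k * gJ hF = gJ hF * gD hF k⁻¹ := by
      have := gJ_gD hF k⁻¹
      rw [inv_inv] at this
      exact this.symm
    have e2 : gJ hF * (gD hF k⁻¹ * gD hF k') = gJ hF * (gD hF k' * gD hF k) := by
      rw [← mul_assoc, ← e1, mul_assoc, hc', mul_assoc]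
    have e3 := mul_left_cancel e2
    rw [← gD_mul, ← gD_mul] at e3
    have e4 : k⁻¹ * k' = k' * k := gDhom_injective hF e3
    have e5 : k * k = 1 := by
      have : k⁻¹ = k := by
        have := e4
        rw [mul_comm k' k] at this
        exact mul_right_cancel this
      calc k * k = k * k⁻¹ := by rw [this]
        _ = 1 := mul_inv_cancel k
    apply hk
    apply Units.ext
    rw [Units.val_one]
    apply sz_sq_eq_one hF
    have := congrArg Units.val e5
    rw [Units.val_mul, Units.val_one] at this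
    rw [pow_two]
    exact this

include hF in
/-- a non-translation in the point stabiliser is conjugate to a torus element -/
theorem exists_conj_gD (a b : F) {k : Fˣ} (hk : k ≠ 1) :
    ∃ x y : F, gT hF a b * gD hF k = gT hF x y * gD hF k * (gT hF x y)⁻¹ := by
  have h2 := sz_two hF
  have hk1 : (1 : F) + (k : F) ^ 2 ≠ 0 := by
    intro h
    apply hk
    apply Units.ext
    rw [Units.val_one]
    apply sz_sq_eq_one hF
    grind
  have hk2 : (1 : F) + (k : F) ^ 2 * szθ m (k : F) ^ 2 ≠ 0 := by
    intro h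
    apply hk
    apply Units.ext
    rw [Units.val_one]
    apply sz_norm_eq_one hF
    apply sz_sq_eq_one hF
    grind
  set x : F := a / (1 + (k : F) ^ 2) with hx
  set y : F := (b + szθ m a * ((k : F) ^ 2 * x)) / (1 + (k : F) ^ 2 * szθ m (k : F) ^ 2) with hy
  refine ⟨x, y, ?_⟩
  rw [eq_mul_inv_iff_mul_eq, mul_assoc, gD_gT, ← mul_assoc, gT_mul]
  congr 1
  have ex : x * (1 + (k : F) ^ 2) = a := by rw [hx]; field_simp
  have ey : y * (1 + (k : F) ^ 2 * szθ m (k : F) ^ 2) = b + szθ m a * ((k : F) ^ 2 * x) := by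
    rw [hy]; field_simp
  congr 1
  · grind
  · grind

include hF hm in
theorem isNilpotent_Qs : Group.IsNilpotent (Qs hF) := by
  have : Finite (Sz F m) := finite_Sz hF hm
  have hp : IsPGroup 2 (Qs hF) := by
    apply IsPGroup.of_card (n := 2 * (2 * m + 1))
    rw [card_Qs, ← pow_mul, mul_comm]
  exact hp.isNilpotent

include hF in
theorem isNilpotent_torus : Group.IsNilpotent (gDhom hF : Fˣ →* Sz F m).range :=
  Group.nilpotent_of_surjective (gDhom hF : Fˣ →* Sz F m).rangeRestrict
    (MonoidHom.rangeRestrict_surjective _)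

include hF hm in
theorem isNilpotent_centralizer_of_fix_inf {g : Sz F m} (hg : g ≠ 1)
    (h : g • oInf F m = oInf F m) :
    Group.IsNilpotent (Subgroup.centralizer ({g} : Set (Sz F m))) := by
  obtain ⟨a, b, k, rfl⟩ := stab_decomp hF hm h
  by_cases hk : k = 1
  · subst hk
    rw [gD_one, mul_one] at hg ⊢
    have hab : ¬ (a = 0 ∧ b = 0) := by
      rintro ⟨rfl, rfl⟩
      exact hg (gT_zero hF)
    exact isNilpotent_of_le' (centralizer_gT_le hF hm hab) (isNilpotent_Qs hF hm)
  · obtain ⟨x, y, e⟩ := exists_conj_gD hF a b hk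
    rw [e]
    apply isNilpotent_centralizer_conj
    exact isNilpotent_of_le' (centralizer_gD_le hF hm hk) (isNilpotent_torus hF)

include hF hm in
theorem isNilpotent_centralizer_of_fix {g : Sz F m} (hg : g ≠ 1) (a : suzukiOvoid F m)
    (h : g • a = a) : Group.IsNilpotent (Subgroup.centralizer ({g} : Set (Sz F m))) := by
  obtain ⟨u, rfl⟩ := ovoid_eq_smul_inf hF a
  have hfix : (u⁻¹ * g * u) • oInf F m = oInf F m := by
    rw [mul_smul, mul_smul, h, inv_smul_smul]
  have hne : u⁻¹ * g * u ≠ 1 := by
    intro h1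
    apply hg
    calc g = u * (u⁻¹ * g * u) * u⁻¹ := by group
      _ = 1 := by rw [h1]; group
  have := isNilpotent_centralizer_conj _ u (isNilpotent_centralizer_of_fix_inf hF hm hne hfix)
  have e : u * (u⁻¹ * g * u) * u⁻¹ = g := by group
  rw [e] at this
  exact this

include hF in
/-- an element of prime order not dividing `q ^ 2 + 1` fixes a point of the ovoid -/
theorem exists_fixed_of_prime (z : Sz F m) {p : ℕ} (hp : p.Prime) (hz : orderOf z = p)
    (hnd : ¬ p ∣ (2 ^ (2 * m + 1)) ^ 2 + 1) : ∃ a : suzukiOvoid F m, z • a = a := by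
  have : Fact p.Prime := ⟨hp⟩
  have hP : IsPGroup p (Subgroup.zpowers z) := by
    apply IsPGroup.of_card (n := 1)
    rw [Nat.card_zpowers, hz, pow_one]
  have hnd' : ¬ p ∣ Nat.card (suzukiOvoid F m) := by rwa [card_ovoid hF]
  obtain ⟨a, ha⟩ := hP.nonempty_fixed_point_of_prime_not_dvd_card (suzukiOvoid F m) hnd'
  refine ⟨a, ?_⟩
  rw [MulAction.mem_fixedPoints] at ha
  exact ha ⟨z, Subgroup.mem_zpowers z⟩

include hF hm in
theorem Sz_isCNGroup : IsCNGroup (Sz F m) := by
  intro g hg
  have : Finite (Sz F m) := finite_Sz hF hm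
  have hd1 : orderOf g ≠ 1 := fun h => hg (orderOf_eq_one_iff.1 h)
  set p := (orderOf g).minFac with hp
  have hpp : p.Prime := Nat.minFac_prime hd1
  have hpd : p ∣ orderOf g := Nat.minFac_dvd _
  set z := g ^ (orderOf g / p) with hz
  have hzo : orderOf z = p := orderOf_pow_orderOf_div (orderOf_pos g).ne' hpd
  have hle : Subgroup.centralizer ({g} : Set (Sz F m)) ≤ Subgroup.centralizer ({z} : Set (Sz F m)) := by
    intro c hc
    rw [Subgroup.mem_centralizer_iff] at hc ⊢
    have hc' := hc _ rfl
    intro y hy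
    rw [Set.mem_singleton_iff] at hy
    subst hy
    exact ((Commute.pow_left (show Commute g c from hc') _)).eq
  have hz1 : z ≠ 1 := by
    intro h
    rw [← orderOf_eq_one_iff, hzo] at h
    exact hpp.one_lt.ne' h
  apply isNilpotent_of_le' hle
  by_cases hd : p ∣ (2 ^ (2 * m + 1)) ^ 2 + 1
  · have := centralizer_isCyclic_of_prime hF hm z hpp hzo hd
    let _ : CommGroup (Subgroup.centralizer ({z} : Set (Sz F m))) := IsCyclic.commGroup
    infer_instance
  · obtain ⟨a, ha⟩ := exists_fixed_of_prime hF z hpp hzo hd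
    exact isNilpotent_centralizer_of_fix hF hm hz1 a ha

end

end Cfsg.Agent.Lib.helper3
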