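import Mathlib
import Cfsg.Prelude.Def_LieExceptional
import Cfsg.Agent.Lib.helper3.SuzukiCN

set_option autoImplicit false

namespace Cfsg.Agent.Lib.helper3

open Cfsg Matrix

section

variable {F : Type*} [Field F] [Fintype F] {m : ℕ} (hF : Fintype.card F = 2 ^ (2 * m + 1))
  (hm : 1 ≤ m)

/-- an element of the Suzuki group fixing no point of the ovoid -/
def Fpf (x : Sz F m) : Prop := ∀ a : suzukiOvoid F m, x • a ≠ a

omit [Fintype F] in
theorem Fpf.ne_one {x : Sz F m} (h : Fpf x) : x ≠ 1 := by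
  rintro rfl
  exact h (oInf F m) (one_smul _ _)

omit [Fintype F] in
theorem Fpf.conj {x : Sz F m} (h : Fpf x) (g : Sz F m) : Fpf (g * x * g⁻¹) := by
  intro a ha
  apply h (g⁻¹ • a)
  calc x • g⁻¹ • a = g⁻¹ • ((g * x * g⁻¹) • a) := by simp only [mul_smul, inv_smul_smul]
    _ = g⁻¹ • a := by rw [ha]

omit [Fintype F] in
theorem fpf_conj_iff {x : Sz F m} (g : Sz F m) : Fpf (g * x * g⁻¹) ↔ Fpf x := by
  constructor
  · intro h
    have := h.conj g⁻¹
    have e : g⁻¹ * (g * x * g⁻¹) * g⁻¹⁻¹ = x := by group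
    rwa [e] at this
  · intro h
    exact h.conj g

include hF hm in
/-- an element commuting with a nontrivial element which has a fixed point has a fixed point -/
theorem exists_fixed_of_commute {z x : Sz F m} (hz : z ≠ 1) (a : suzukiOvoid F m)
    (ha : z • a = a) (hc : Commute x z) : ∃ b : suzukiOvoid F m, x • b = b := by
  obtain ⟨u, rfl⟩ := ovoid_eq_smul_inf hF a
  -- move the fixed point to infinity
  have hfix : (u⁻¹ * z * u) • oInf F m = oInf F m := by
    rw [mul_smul, mul_smul, ha, inv_smul_smul]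
  have hne : u⁻¹ * z * u ≠ 1 := by
    intro h1
    apply hz
    calc z = u * (u⁻¹ * z * u) * u⁻¹ := by group
      _ = 1 := by rw [h1]; group
  have hc' : Commute (u⁻¹ * x * u) (u⁻¹ * z * u) := by
    have := (Commute.conj_iff u⁻¹).2 hc
    rwa [inv_inv] at this
  suffices h : ∃ b : suzukiOvoid F m, (u⁻¹ * x * u) • b = b by
    obtain ⟨b, hb⟩ := h
    refine ⟨u • b, ?_⟩
    calc x • u • b = u • ((u⁻¹ * x * u) • b) := by simp only [mul_smul, smul_inv_smul]
      _ = u • b := by rw [hb]
  generalize u⁻¹ * z * u = z' at hfix hne hc'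
  generalize u⁻¹ * x * u = x' at hc'
  obtain ⟨a', b', k, rfl⟩ := stab_decomp hF hm hfix
  by_cases hk : k = 1
  · subst hk
    rw [gD_one, mul_one] at hne hc'
    have hab : ¬ (a' = 0 ∧ b' = 0) := by
      rintro ⟨rfl, rfl⟩
      exact hne (gT_zero hF)
    have hx : x' ∈ Subgroup.centralizer ({gT hF a' b'} : Set (Sz F m)) :=
      Subgroup.mem_centralizer_singleton_iff.2 hc'.eq
    obtain ⟨a'', b'', rfl⟩ := (mem_Qs hF).1 (centralizer_gT_le hF hm hab hx)
    exact ⟨oInf F m, gT_oInf hF a'' b''⟩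
  · obtain ⟨x₀, y₀, e⟩ := exists_conj_gD hF a' b' hk
    rw [e] at hc'
    set t := gT hF x₀ y₀ with ht
    have hc'' : Commute (t⁻¹ * x' * t) (gD hF k) := by
      have := (Commute.conj_iff t⁻¹).2 hc'
      rw [inv_inv] at this
      have e2 : t⁻¹ * (t * gD hF k * t⁻¹) * t = gD hF k := by group
      rwa [e2] at this
    have hx : t⁻¹ * x' * t ∈ Subgroup.centralizer ({gD hF k} : Set (Sz F m)) :=
      Subgroup.mem_centralizer_singleton_iff.2 hc''.eq
    obtain ⟨k', hk'⟩ := centralizer_gD_le hF hm hk hx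
    have hk'' : gD hF k' = t⁻¹ * x' * t := hk'
    refine ⟨t • oInf F m, ?_⟩
    calc x' • t • oInf F m = t • ((t⁻¹ * x' * t) • oInf F m) := by
          simp only [mul_smul, smul_inv_smul]
      _ = t • oInf F m := by rw [← hk'', gD_oInf]

include hF hm in
/-- nontrivial elements commuting with a fixed-point-free element are fixed-point-free -/
theorem Fpf.of_commute {x u : Sz F m} (hx : Fpf x) (hu : u ≠ 1) (hc : Commute x u) : Fpf u := by
  intro a ha
  obtain ⟨b, hb⟩ := exists_fixed_of_commute hF hm hu a ha hc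
  exact hx b hb

include hF in
/-- prime divisors of the order of a fixed-point-free element divide `q ^ 2 + 1` -/
theorem Fpf.prime_dvd {z : Sz F m} (hz : Fpf z) {p : ℕ} (hp : p.Prime) (ho : orderOf z = p) :
    p ∣ (2 ^ (2 * m + 1)) ^ 2 + 1 := by
  by_contra hnd
  obtain ⟨a, ha⟩ := exists_fixed_of_prime hF z hp ho hnd
  exact hz a ha

include hF hm in
/-- the centraliser of a fixed-point-free element is cyclic -/
theorem Fpf.centralizer_isCyclic {x : Sz F m} (hx : Fpf x) :
    IsCyclic (Subgroup.centralizer ({x} : Set (Sz F m))) := by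
  have : Finite (Sz F m) := finite_Sz hF hm
  have hd1 : orderOf x ≠ 1 := fun h => hx.ne_one (orderOf_eq_one_iff.1 h)
  set p := (orderOf x).minFac with hp
  have hpp : p.Prime := Nat.minFac_prime hd1
  have hpd : p ∣ orderOf x := Nat.minFac_dvd _
  set z := x ^ (orderOf x / p) with hz
  have hzo : orderOf z = p := orderOf_pow_orderOf_div (orderOf_pos x).ne' hpd
  have hz1 : z ≠ 1 := by
    intro h
    rw [← orderOf_eq_one_iff, hzo] at h
    exact hpp.one_lt.ne' h
  have hcz : Commute x z := (Commute.refl x).pow_right _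
  have hzf : Fpf z := hx.of_commute hF hm hz1 hcz
  have hd := hzf.prime_dvd hF hpp hzo
  have hcyc := centralizer_isCyclic_of_prime hF hm z hpp hzo hd
  have hle : Subgroup.centralizer ({x} : Set (Sz F m)) ≤
      Subgroup.centralizer ({z} : Set (Sz F m)) := by
    intro c hc
    rw [Subgroup.mem_centralizer_singleton_iff] at hc ⊢
    exact ((show Commute c x from hc).pow_right _).eq
  -- a subgroup of a cyclic group is cyclic
  have : IsCyclic ((Subgroup.centralizer ({x} : Set (Sz F m))).subgroupOf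
      (Subgroup.centralizer ({z} : Set (Sz F m)))) := inferInstance
  exact isCyclic_of_surjective (Subgroup.subgroupOfEquivOfLe hle)
    (Subgroup.subgroupOfEquivOfLe hle).surjective

include hF hm in
/-- centralisers of nontrivial elements of the centraliser of a fixed-point-free element -/
theorem Fpf.centralizer_eq {x u : Sz F m} (hx : Fpf x)
    (hu : u ∈ Subgroup.centralizer ({x} : Set (Sz F m))) (hu1 : u ≠ 1) :
    Subgroup.centralizer ({u} : Set (Sz F m)) = Subgroup.centralizer ({x} : Set (Sz F m)) := by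
  have hc : Commute u x := Subgroup.mem_centralizer_singleton_iff.1 hu
  have huf : Fpf u := hx.of_commute hF hm hu1 hc.symm
  have key : ∀ {y w : Sz F m}, Fpf y → Commute w y →
      Subgroup.centralizer ({y} : Set (Sz F m)) ≤ Subgroup.centralizer ({w} : Set (Sz F m)) := by
    intro y w hy hwy c hcm
    have hcyc := hy.centralizer_isCyclic hF hm
    let _ : CommGroup (Subgroup.centralizer ({y} : Set (Sz F m))) := IsCyclic.commGroup
    have hw : w ∈ Subgroup.centralizer ({y} : Set (Sz F m)) :=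
      Subgroup.mem_centralizer_singleton_iff.2 hwy.eq
    rw [Subgroup.mem_centralizer_singleton_iff]
    have := mul_comm (⟨c, hcm⟩ : Subgroup.centralizer ({y} : Set (Sz F m))) ⟨w, hw⟩
    exact congrArg Subtype.val this
  exact le_antisymm (key huf hc.symm) (key hx hc)

include hF hm in
/-- prime divisors of the order of the centraliser of a fixed-point-free element -/
theorem Fpf.prime_dvd_of_dvd_card {x : Sz F m} (hx : Fpf x) {p : ℕ} (hp : p.Prime)
    (hd : p ∣ Nat.card (Subgroup.centralizer ({x} : Set (Sz F m)))) :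
    p ∣ (2 ^ (2 * m + 1)) ^ 2 + 1 := by
  have : Finite (Sz F m) := finite_Sz hF hm
  have : Fact p.Prime := ⟨hp⟩
  obtain ⟨u, hu⟩ := exists_prime_orderOf_dvd_card' p hd
  have hu1 : (u : Sz F m) ≠ 1 := by
    intro h
    have : u = 1 := Subtype.ext h
    rw [this, orderOf_one] at hu
    exact hp.one_lt.ne hu
  have hc : Commute (u : Sz F m) x := Subgroup.mem_centralizer_singleton_iff.1 u.2
  have huf : Fpf (u : Sz F m) := hx.of_commute hF hm hu1 hc.symm
  have ho : orderOf (u : Sz F m) = p := by rw [Subgroup.orderOf_coe, hu]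
  exact huf.prime_dvd hF hp ho

include hF hm in
/-- the order of the centraliser of a fixed-point-free element divides `q ^ 2 + 1` -/
theorem Fpf.card_centralizer_dvd {x : Sz F m} (hx : Fpf x) :
    Nat.card (Subgroup.centralizer ({x} : Set (Sz F m))) ∣ (2 ^ (2 * m + 1)) ^ 2 + 1 := by
  have : Finite (Sz F m) := finite_Sz hF hm
  have hdvd : Nat.card (Subgroup.centralizer ({x} : Set (Sz F m))) ∣ Nat.card (Sz F m) :=
    Subgroup.card_subgroup_dvd_card _
  rw [card_Sz hm hF] at hdvd
  have hQ : Even (2 ^ (2 * m + 1)) := ⟨2 ^ (2 * m), by rw [pow_succ]; ring⟩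
  have hcop : Nat.Coprime (Nat.card (Subgroup.centralizer ({x} : Set (Sz F m))))
      ((2 ^ (2 * m + 1)) ^ 2 * (2 ^ (2 * m + 1) - 1)) := by
    apply Nat.coprime_of_dvd
    intro p hp hpc hpq
    have hd := hx.prime_dvd_of_dvd_card hF hm hp hpc
    obtain ⟨_, h1, h2, _, _⟩ := sz_prime_arith hQ (Nat.one_le_two_pow) hp hd
    rcases (Nat.Prime.dvd_mul hp).1 hpq with h' | h'
    · exact h1 (hp.dvd_of_dvd_pow h')
    · exact h2 h'
  have e : (2 ^ (2 * m + 1)) ^ 2 * ((2 ^ (2 * m + 1)) ^ 2 + 1) * (2 ^ (2 * m + 1) - 1) =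
      ((2 ^ (2 * m + 1)) ^ 2 * (2 ^ (2 * m + 1) - 1)) * ((2 ^ (2 * m + 1)) ^ 2 + 1) := by ring
  rw [e] at hdvd
  exact hcop.dvd_of_dvd_mul_left hdvd

/-- prime divisors of `Q ^ 2 + 1` for `Q` a power of two are at least five -/
theorem five_le_of_dvd_sq_add_one {Q t : ℕ} (hQ : Even Q) (ht : t ∣ Q ^ 2 + 1) (ht1 : t ≠ 1) :
    5 ≤ t := by
  obtain ⟨k, hk⟩ := hQ
  have hpos : 0 < t := Nat.pos_of_ne_zero (by rintro rfl; simp at ht)
  by_contra hlt
  push Not at hlt
  have e : Q ^ 2 + 1 = 4 * k ^ 2 + 1 := by rw [hk]; ring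
  rw [e] at ht
  obtain ⟨c, hc⟩ := ht
  interval_cases t
  · exact ht1 rfl
  · omega
  · -- 3 does not divide 4 k^2 + 1
    have h3 : (4 * k ^ 2 + 1) % 3 ≠ 0 := by
      have : k % 3 = 0 ∨ k % 3 = 1 ∨ k % 3 = 2 := by omega
      rcases this with h | h | h <;>
      · simp [Nat.add_mod, Nat.mul_mod, Nat.pow_mod, h]
    omega
  · omega

end

end Cfsg.Agent.Lib.helper3
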