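import Mathlib
import Cfsg.Prelude.Def_LieExceptional
import Cfsg.Agent.Lib.helper3.SuzukiFpf

set_option autoImplicit false

namespace Cfsg.Agent.Lib.helper3

open Finset

/-- counting fixed-point-free elements in a group where nontrivial elements fix at most two points,
all point stabilisers have order `s` and all two-point stabilisers order `t` -/
theorem count_fpf_general {G Ω : Type*} [Group G] [MulAction G Ω] [Fintype G] [Fintype Ω]
    [DecidableEq Ω] [DecidableEq G] [Nonempty Ω] (s t : ℕ)
    (h1 : ∀ a : Ω, (univ.filter (fun g : G => g • a = a)).card = s)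
    (h2 : ∀ a b : Ω, a ≠ b → (univ.filter (fun g : G => g • a = a ∧ g • b = b)).card = t)
    (h3 : ∀ g : G, g ≠ 1 → (univ.filter (fun a : Ω => g • a = a)).card ≤ 2) :
    2 * (univ.filter (fun g : G => ∀ a : Ω, g • a ≠ a)).card + 2 * (Fintype.card Ω * s) + 2 +
      Fintype.card Ω * (Fintype.card Ω - 1) =
    2 * Fintype.card G + Fintype.card Ω * (Fintype.card Ω - 1) * t + 2 * Fintype.card Ω := by
  set N := Fintype.card Ω with hN
  set fix : G → ℕ := fun g => (univ.filter (fun a : Ω => g • a = a)).card with hfix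
  -- first identity
  have I1 : ∑ g : G, fix g = N * s := by
    have := Finset.sum_card_bipartiteAbove_eq_sum_card_bipartiteBelow
      (s := (univ : Finset G)) (t := (univ : Finset Ω)) (fun g a => g • a = a)
    simp only [Finset.bipartiteAbove, Finset.bipartiteBelow] at this
    rw [hfix]
    simp only
    rw [this]
    simp only [h1, Finset.sum_const, Finset.card_univ, smul_eq_mul, hN]
  -- second identity
  have I2 : ∑ g : G, fix g * (fix g - 1) = N * (N - 1) * t := by
    have hoff : ∀ g : G, fix g * (fix g - 1) =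
        ((univ : Finset (Ω × Ω)).filter
          (fun p => p.1 ≠ p.2 ∧ g • p.1 = p.1 ∧ g • p.2 = p.2)).card := by
      intro g
      have e : (univ : Finset (Ω × Ω)).filter
          (fun p => p.1 ≠ p.2 ∧ g • p.1 = p.1 ∧ g • p.2 = p.2) =
          (univ.filter (fun a : Ω => g • a = a)).offDiag := by
        ext ⟨a, b⟩
        simp only [Finset.mem_filter, Finset.mem_univ, true_and, Finset.mem_offDiag]
        tauto
      rw [e, Finset.offDiag_card, hfix]
      simp only
      rw [Nat.mul_sub_one]
    simp only [hoff]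
    have := Finset.sum_card_bipartiteAbove_eq_sum_card_bipartiteBelow
      (s := (univ : Finset G)) (t := (univ : Finset (Ω × Ω)))
      (fun g p => p.1 ≠ p.2 ∧ g • p.1 = p.1 ∧ g • p.2 = p.2)
    simp only [Finset.bipartiteAbove, Finset.bipartiteBelow] at this
    rw [this]
    have hterm : ∀ p : Ω × Ω, ((univ : Finset G).filter
        (fun g => p.1 ≠ p.2 ∧ g • p.1 = p.1 ∧ g • p.2 = p.2)).card =
        if p.1 ≠ p.2 then t else 0 := by
      intro p
      by_cases hp : p.1 = p.2
      · simp [hp]
      · simp only [ne_eq, hp, not_false_eq_true, true_and, if_true]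
        exact h2 p.1 p.2 hp
    simp only [hterm]
    rw [← Finset.sum_filter]
    have e : (univ : Finset (Ω × Ω)).filter (fun p => p.1 ≠ p.2) = (univ : Finset Ω).offDiag := by
      ext ⟨a, b⟩
      simp
    rw [e, Finset.sum_const, Finset.offDiag_card, Finset.card_univ, smul_eq_mul, ← hN,
      Nat.mul_sub_one]
  -- termwise identity
  have hfix1 : fix 1 = N := by
    rw [hfix]
    simp [hN]
  have hNpos : 0 < N := Fintype.card_pos
  have hterm : ∀ g : G, 2 * (if (∀ a : Ω, g • a ≠ a) then 1 else 0) + 2 * fix g +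
      (if g = 1 then 2 + N * (N - 1) else 0) =
      2 + fix g * (fix g - 1) + (if g = 1 then 2 * N else 0) := by
    intro g
    by_cases hg : g = 1
    · subst hg
      have : ¬ (∀ a : Ω, (1 : G) • a ≠ a) := by
        intro h
        obtain ⟨a⟩ := ‹Nonempty Ω›
        exact h a (one_smul _ _)
      rw [if_neg this, hfix1]
      simp only [if_true]
      ring
    · simp only [hg, if_false, add_zero]
      have hle := h3 g hg
      have hiff : (∀ a : Ω, g • a ≠ a) ↔ fix g = 0 := by
        rw [hfix]
        simp only [Finset.card_eq_zero, Finset.filter_eq_empty_iff, Finset.mem_univ, true_imp_iff]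
      by_cases h0 : fix g = 0
      · rw [if_pos (hiff.2 h0), h0]
      · rw [if_neg (fun h => h0 (hiff.1 h))]
        have : fix g = 1 ∨ fix g = 2 := by
          change fix g ≤ 2 at hle
          omega
        rcases this with h | h <;> rw [h]
  have hsum := Finset.sum_congr (rfl : (univ : Finset G) = univ) (fun g _ => hterm g)
  simp only [Finset.sum_add_distrib, ← Finset.mul_sum, Finset.sum_ite_eq', Finset.mem_univ,
    if_true, I1, I2] at hsum
  rw [Finset.sum_boole] at hsum
  simp only [Finset.sum_const, Finset.card_univ, smul_eq_mul, Nat.cast_id] at hsum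
  linarith

theorem card_filter_eq_natCard {α : Type*} [Fintype α] (p : α → Prop) [DecidablePred p] :
    (univ.filter p).card = Nat.card {x // p x} := by
  rw [Nat.card_eq_fintype_card, Fintype.card_subtype]

open Cfsg Matrix

section

variable {F : Type*} [Field F] [Fintype F] {m : ℕ} (hF : Fintype.card F = 2 ^ (2 * m + 1))
  (hm : 1 ≤ m)

include hF hm in
/-- point stabilisers in the Suzuki group have order `q ^ 2 (q - 1)` -/
theorem card_stab_pt (a : suzukiOvoid F m) :
    Nat.card (MulAction.stabilizer (Sz F m) a) =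
      (2 ^ (2 * m + 1)) ^ 2 * (2 ^ (2 * m + 1) - 1) := by
  obtain ⟨h, rfl⟩ := ovoid_eq_smul_inf hF a
  rw [MulAction.stabilizer_smul_eq_stabilizer_map_conj,
    Subgroup.card_map_of_injective (MulAut.conj h).injective, ← card_stab_inf hm hF]
  apply Nat.card_congr
  apply Equiv.subtypeEquivRight
  intro g
  rw [MulAction.mem_stabilizer_iff, MulAction.mem_stabilizer_iff]
  constructor
  · intro hg
    exact congrArg Subtype.val hg
  · intro hg
    exact Subtype.ext hg

include hF hm in
/-- two-point stabilisers in the Suzuki group have order `q - 1` -/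
theorem card_stab_two {a b : suzukiOvoid F m} (hab : a ≠ b) :
    Nat.card ↥(MulAction.stabilizer (Sz F m) a ⊓ MulAction.stabilizer (Sz F m) b) =
      2 ^ (2 * m + 1) - 1 := by
  obtain ⟨u, hu, hua, hub⟩ := sz_move_pair hF a.2 b.2 (fun h => hab (Subtype.ext h))
  set g : Sz F m := ⟨u, hu⟩ with hg
  have ha : a = g⁻¹ • oInf F m := by
    rw [eq_inv_smul_iff]
    exact Subtype.ext hua
  have hb : b = g⁻¹ • oPt m 0 0 := by
    rw [eq_inv_smul_iff]
    exact Subtype.ext hub
  rw [ha, hb, MulAction.stabilizer_smul_eq_stabilizer_map_conj,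
    MulAction.stabilizer_smul_eq_stabilizer_map_conj,
    ← Subgroup.map_inf _ _ _ (MulAut.conj g⁻¹).injective,
    Subgroup.card_map_of_injective (MulAut.conj g⁻¹).injective, ← card_gDhom_range hF]
  congr 1
  congr 1
  ext c
  rw [Subgroup.mem_inf, MulAction.mem_stabilizer_iff, MulAction.mem_stabilizer_iff]
  constructor
  · rintro ⟨h1, h0⟩
    obtain ⟨k', hk'⟩ := sz_two_point_stab hm hF c.2 (congrArg Subtype.val h1)
      (congrArg Subtype.val h0)
    exact ⟨k', Subtype.ext hk'.symm⟩
  · rintro ⟨k, rfl⟩
    exact ⟨gD_oInf hF k, gD_oZero hF k⟩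

include hF hm in
/-- the number of fixed-point-free elements of the Suzuki group -/
theorem card_fpf :
    2 * Nat.card {x : Sz F m // Fpf x} = (2 ^ (2 * m + 1)) ^ 3 * (2 ^ (2 * m + 1) - 1) ^ 2 := by
  classical
  have : Finite (Sz F m) := finite_Sz hF hm
  have : Fintype (Sz F m) := Fintype.ofFinite _
  have hΩ : Finite (suzukiOvoid F m) := by
    apply Nat.finite_of_card_ne_zero
    rw [card_ovoid hF]
    positivity
  have : Fintype (suzukiOvoid F m) := Fintype.ofFinite _
  have : Nonempty (suzukiOvoid F m) := ⟨oInf F m⟩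
  have key := count_fpf_general (G := Sz F m) (Ω := suzukiOvoid F m)
    ((2 ^ (2 * m + 1)) ^ 2 * (2 ^ (2 * m + 1) - 1)) (2 ^ (2 * m + 1) - 1)
    (by
      intro a
      rw [card_filter_eq_natCard]
      exact card_stab_pt hF hm a)
    (by
      intro a b hab
      rw [card_filter_eq_natCard]
      exact card_stab_two hF hm hab)
    (by
      intro g hg
      by_contra hlt
      push Not at hlt
      obtain ⟨a, b, c, ha, hb, hc, hab, hac, hbc⟩ := Finset.two_lt_card_iff.1 hlt
      simp only [Finset.mem_filter, Finset.mem_univ, true_and] at ha hb hc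
      exact hg ((Sz_isZassenhaus hm hF).2.2.1 g a b c hab hbc hac ha hb hc))
  rw [card_filter_eq_natCard] at key
  have hcΩ : Fintype.card (suzukiOvoid F m) = (2 ^ (2 * m + 1)) ^ 2 + 1 := by
    rw [← Nat.card_eq_fintype_card, card_ovoid hF]
  have hcG : Fintype.card (Sz F m) =
      (2 ^ (2 * m + 1)) ^ 2 * ((2 ^ (2 * m + 1)) ^ 2 + 1) * (2 ^ (2 * m + 1) - 1) := by
    rw [← Nat.card_eq_fintype_card, card_Sz hm hF]
  rw [hcΩ, hcG] at key
  have hn : Nat.card {x : Sz F m // Fpf x} = Nat.card {g : Sz F m // ∀ a : suzukiOvoid F m, g • a ≠ a} :=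
    rfl
  rw [hn]
  obtain ⟨k, hk⟩ : ∃ k, 2 ^ (2 * m + 1) = k + 2 := by
    have : 2 ^ 3 ≤ 2 ^ (2 * m + 1) := Nat.pow_le_pow_right (by norm_num) (by omega)
    exact ⟨2 ^ (2 * m + 1) - 2, by omega⟩
  rw [hk] at key ⊢
  simp only [Nat.add_sub_cancel] at key
  have e1 : k + 2 - 1 = k + 1 := by omega
  rw [e1] at key ⊢
  nlinarith [key]

end

end Cfsg.Agent.Lib.helper3
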