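import Mathlib
import Cfsg.Prelude.Def_LieExceptional
import Cfsg.Agent.Lib.helper3.SuzukiCount

set_option autoImplicit false

namespace Cfsg.Agent.Lib.helper3

open Finset

/-- counting the nontrivial elements of the conjugates of a subgroup `U` such that
`U ∩ U ^ g ≠ 1` only for `g` in the normaliser -/
theorem card_conj_union {G : Type*} [Group G] [Finite G] (U : Subgroup G)
    (hP : ∀ u ∈ U, u ≠ 1 → ∀ g : G, g⁻¹ * u * g ∈ U → g ∈ Subgroup.normalizer (U : Set G)) :
    Nat.card {x : G // x ≠ 1 ∧ ∃ g : G, g⁻¹ * x * g ∈ U} *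
      Nat.card (Subgroup.normalizer (U : Set G)) = Nat.card G * (Nat.card U - 1) := by
  classical
  have : Fintype G := Fintype.ofFinite G
  set S : Finset (G × G) := (univ : Finset G) ×ˢ (univ.filter (fun u => u ∈ U ∧ u ≠ 1)) with hS
  set T : Finset G := univ.filter (fun x => x ≠ 1 ∧ ∃ g : G, g⁻¹ * x * g ∈ U) with hT
  set ψ : G × G → G := fun p => p.1 * p.2 * p.1⁻¹ with hψ
  set Nm : Finset G := univ.filter (fun h => h ∈ Subgroup.normalizer (U : Set G)) with hNm
  have hmaps : ∀ p ∈ S, ψ p ∈ T := by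
    rintro ⟨g, u⟩ hp
    simp only [hS, Finset.mem_product, Finset.mem_univ, Finset.mem_filter, true_and] at hp
    simp only [hT, hψ, Finset.mem_filter, Finset.mem_univ, true_and]
    refine ⟨?_, g, ?_⟩
    · intro h
      apply hp.2
      have : u = g⁻¹ * (g * u * g⁻¹) * g := by group
      rw [this, h]
      group
    · have : g⁻¹ * (g * u * g⁻¹) * g = u := by group
      rw [this]
      exact hp.1
  have hcardS : S.card = Nat.card G * (Nat.card U - 1) := by
    rw [hS, Finset.card_product, Finset.card_univ, Nat.card_eq_fintype_card]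
    congr 1
    have e : (univ.filter (fun u : G => u ∈ U ∧ u ≠ 1)) = (univ.filter (fun u : G => u ∈ U)).erase 1 := by
      ext u
      simp only [Finset.mem_filter, Finset.mem_univ, true_and, Finset.mem_erase]
      tauto
    rw [e, Finset.card_erase_of_mem (by simp [U.one_mem])]
    congr 1
    rw [Nat.card_eq_fintype_card, Fintype.card_subtype]
  have hcardN : Nm.card = Nat.card (Subgroup.normalizer (U : Set G)) := by
    rw [hNm, Nat.card_eq_fintype_card, Fintype.card_subtype]
  have hcardT : T.card = Nat.card {x : G // x ≠ 1 ∧ ∃ g : G, g⁻¹ * x * g ∈ U} := by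
    rw [hT, Nat.card_eq_fintype_card, Fintype.card_subtype]
  have hfib : ∀ x ∈ T, (S.filter (fun p => ψ p = x)).card = Nm.card := by
    intro x hx
    simp only [hT, Finset.mem_filter, Finset.mem_univ, true_and] at hx
    obtain ⟨hx1, g₀, hg₀⟩ := hx
    set u₀ := g₀⁻¹ * x * g₀ with hu₀
    have hu₀1 : u₀ ≠ 1 := by
      intro h
      apply hx1
      have : x = g₀ * u₀ * g₀⁻¹ := by rw [hu₀]; group
      rw [this, h]
      group
    have hx0 : g₀ * u₀ * g₀⁻¹ = x := by rw [hu₀]; group
    symm
    apply Finset.card_bij (fun h _ => (g₀ * h⁻¹, h * u₀ * h⁻¹))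
    · intro h hh
      simp only [hNm, Finset.mem_filter, Finset.mem_univ, true_and] at hh
      simp only [hS, hψ, Finset.mem_filter, Finset.mem_product, Finset.mem_univ, true_and]
      refine ⟨⟨?_, ?_⟩, ?_⟩
      · exact (Subgroup.mem_normalizer_iff.1 hh u₀).1 hg₀
      · intro h1
        apply hu₀1
        have : u₀ = h⁻¹ * (h * u₀ * h⁻¹) * h := by group
        rw [this, h1]
        group
      · rw [← hx0]
        group
    · intro h _ h' _ heq
      have := congrArg Prod.fst heq
      simp only at this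
      have h2 : h⁻¹ = h'⁻¹ := mul_left_cancel this
      exact inv_injective h2
    · rintro ⟨g, u⟩ hp
      simp only [hS, hψ, Finset.mem_filter, Finset.mem_product, Finset.mem_univ, true_and] at hp
      obtain ⟨⟨huU, hu1⟩, hgu⟩ := hp
      -- `h = g⁻¹ * g₀`
      have hconj : (g⁻¹ * g₀) * u₀ * (g⁻¹ * g₀)⁻¹ = u := by
        have : (g⁻¹ * g₀) * u₀ * (g⁻¹ * g₀)⁻¹ = g⁻¹ * (g₀ * u₀ * g₀⁻¹) * g := by group
        rw [this, hx0, ← hgu]
        group
      have hmem : (g⁻¹ * g₀)⁻¹ ∈ Subgroup.normalizer (U : Set G) := by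
        apply hP u₀ hg₀ hu₀1
        rw [inv_inv]
        rw [hconj]
        exact huU
      have hmem' : g⁻¹ * g₀ ∈ Subgroup.normalizer (U : Set G) := by
        have := (Subgroup.normalizer (U : Set G)).inv_mem hmem
        rwa [inv_inv] at this
      refine ⟨g⁻¹ * g₀, ?_, ?_⟩
      · simp only [hNm, Finset.mem_filter, Finset.mem_univ, true_and]
        exact hmem'
      · apply Prod.ext
        · simp only
          group
        · simp only
          exact hconj
  have := Finset.card_eq_sum_card_fiberwise (f := ψ) (s := S) (t := T) hmaps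
  rw [Finset.sum_congr rfl hfib, Finset.sum_const, smul_eq_mul, hcardS, hcardN, hcardT] at this
  exact this.symm

theorem mem_normalizer_of_map_conj_eq {G : Type*} [Group G] {U : Subgroup G} {g : G}
    (h : U.map (MulAut.conj g).toMonoidHom = U) : g ∈ Subgroup.normalizer (U : Set G) := by
  rw [Subgroup.mem_normalizer_iff]
  intro y
  constructor
  · intro hy
    have : g * y * g⁻¹ ∈ U.map (MulAut.conj g).toMonoidHom :=
      ⟨y, hy, by simp [MulAut.conj_apply]⟩
    rw [h] at this
    exact this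
  · intro hy
    change g * y * g⁻¹ ∈ U at hy
    rw [← h] at hy
    obtain ⟨c, hc, hcy⟩ := hy
    simp only [MulEquiv.coe_toMonoidHom, MulAut.conj_apply] at hcy
    have : c = y := by
      have := mul_right_cancel hcy
      exact mul_left_cancel this
    rw [← this]
    exact hc

open Cfsg Matrix

section

variable {F : Type*} [Field F] [Fintype F] {m : ℕ} (hF : Fintype.card F = 2 ^ (2 * m + 1))
  (hm : 1 ≤ m)

include hF hm in
/-- the centraliser of a fixed-point-free element meets its conjugates trivially -/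
theorem Fpf.mem_normalizer {x u g : Sz F m} (hx : Fpf x)
    (hu : u ∈ Subgroup.centralizer ({x} : Set (Sz F m))) (hu1 : u ≠ 1)
    (hg : g⁻¹ * u * g ∈ Subgroup.centralizer ({x} : Set (Sz F m))) :
    g ∈ Subgroup.normalizer ((Subgroup.centralizer ({x} : Set (Sz F m)) : Subgroup (Sz F m)) :
      Set (Sz F m)) := by
  have hne : g⁻¹ * u * g ≠ 1 := by
    intro h
    apply hu1
    calc u = g * (g⁻¹ * u * g) * g⁻¹ := by group
      _ = 1 := by rw [h]; group
  have e1 := hx.centralizer_eq hF hm hu hu1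
  have e2 := hx.centralizer_eq hF hm hg hne
  have e3 := centralizer_conj_eq u g⁻¹
  rw [inv_inv, e2, e1] at e3
  have hinv : g⁻¹ ∈ Subgroup.normalizer
      ((Subgroup.centralizer ({x} : Set (Sz F m)) : Subgroup (Sz F m)) : Set (Sz F m)) :=
    mem_normalizer_of_map_conj_eq e3.symm
  have := (Subgroup.normalizer
      ((Subgroup.centralizer ({x} : Set (Sz F m)) : Subgroup (Sz F m)) : Set (Sz F m))).inv_mem hinv
  rwa [inv_inv] at this

include hF hm in
/-- centralisers of fixed-point-free elements whose orders have a common prime divisor are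
conjugate -/
theorem Fpf.exists_conj_of_prime {x y : Sz F m} (hx : Fpf x) (hy : Fpf y) {p : ℕ} (hp : p.Prime)
    (hpx : p ∣ Nat.card (Subgroup.centralizer ({x} : Set (Sz F m))))
    (hpy : p ∣ Nat.card (Subgroup.centralizer ({y} : Set (Sz F m)))) :
    ∃ g : Sz F m, Subgroup.centralizer ({y} : Set (Sz F m)) =
      (Subgroup.centralizer ({x} : Set (Sz F m))).map (MulAut.conj g).toMonoidHom := by
  have : Finite (Sz F m) := finite_Sz hF hm
  have : Fact p.Prime := ⟨hp⟩
  have hd := hx.prime_dvd_of_dvd_card hF hm hp hpx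
  obtain ⟨z, hz⟩ := exists_prime_orderOf_dvd_card' p hpx
  obtain ⟨z', hz'⟩ := exists_prime_orderOf_dvd_card' p hpy
  have ho : orderOf (z : Sz F m) = p := by rw [Subgroup.orderOf_coe, hz]
  have ho' : orderOf (z' : Sz F m) = p := by rw [Subgroup.orderOf_coe, hz']
  have hz1 : (z : Sz F m) ≠ 1 := by
    intro h
    rw [h, orderOf_one] at ho
    exact hp.one_lt.ne ho
  have hz1' : (z' : Sz F m) ≠ 1 := by
    intro h
    rw [h, orderOf_one] at ho'
    exact hp.one_lt.ne ho'
  have ex := hx.centralizer_eq hF hm z.2 hz1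
  have ey := hy.centralizer_eq hF hm z'.2 hz1'
  have hPz : IsPGroup p (Subgroup.zpowers (z : Sz F m)) := by
    apply IsPGroup.of_card (n := 1)
    rw [Nat.card_zpowers, ho, pow_one]
  have hPz' : IsPGroup p (Subgroup.zpowers (z' : Sz F m)) := by
    apply IsPGroup.of_card (n := 1)
    rw [Nat.card_zpowers, ho', pow_one]
  obtain ⟨P, hP⟩ := hPz.exists_le_sylow
  obtain ⟨P', hP'⟩ := hPz'.exists_le_sylow
  obtain ⟨g, hg⟩ := MulAction.exists_smul_eq (Sz F m) P P'
  have hzP : (z : Sz F m) ∈ P := hP (Subgroup.mem_zpowers _)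
  have hzP' : (z' : Sz F m) ∈ P' := hP' (Subgroup.mem_zpowers _)
  have hw : g * (z : Sz F m) * g⁻¹ ∈ P' := by
    rw [← hg]
    change g * (z : Sz F m) * g⁻¹ ∈ ((g • P : Sylow p (Sz F m)) : Subgroup (Sz F m))
    rw [Sylow.coe_subgroup_smul]
    have := Subgroup.smul_mem_pointwise_smul _ (MulAut.conj g) _ hzP
    rwa [MulAut.smul_def, MulAut.conj_apply] at this
  have hcyc : IsCyclic P' := sylow_cyclic_of_dvd_sq_add_one hF hm hd P'
  have hcomm : Commute (z' : Sz F m) (g * (z : Sz F m) * g⁻¹) := by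
    let _ : CommGroup P' := IsCyclic.commGroup
    have := mul_comm (⟨(z' : Sz F m), hzP'⟩ : P') ⟨g * (z : Sz F m) * g⁻¹, hw⟩
    exact congrArg Subtype.val this
  have hzf : Fpf (z : Sz F m) :=
    hx.of_commute hF hm hz1 (Subgroup.mem_centralizer_singleton_iff.1 z.2).symm
  have hwf : Fpf (g * (z : Sz F m) * g⁻¹) := hzf.conj g
  have e3 := hwf.centralizer_eq hF hm (Subgroup.mem_centralizer_singleton_iff.2 hcomm.eq) hz1'
  refine ⟨g, ?_⟩
  rw [← ey, e3, centralizer_conj_eq, ex]

/-- the order of the centraliser of an element -/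
noncomputable def cOrd (x : Sz F m) : ℕ := Nat.card (Subgroup.centralizer ({x} : Set (Sz F m)))

include hF hm in
theorem Fpf.cOrd_ne_one {x : Sz F m} (hx : Fpf x) : cOrd x ≠ 1 := by
  have : Finite (Sz F m) := finite_Sz hF hm
  intro h
  unfold cOrd at h
  rw [Subgroup.card_eq_one] at h
  have hx' : x ∈ Subgroup.centralizer ({x} : Set (Sz F m)) :=
    Subgroup.mem_centralizer_singleton_iff.2 rfl
  rw [h, Subgroup.mem_bot] at hx'
  exact hx.ne_one hx'

include hF hm in
theorem conjSet_iff {x₀ : Sz F m} (hx₀ : Fpf x₀) (x : Sz F m) :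
    (x ≠ 1 ∧ ∃ g : Sz F m, g⁻¹ * x * g ∈ Subgroup.centralizer ({x₀} : Set (Sz F m))) ↔
      (Fpf x ∧ cOrd x = cOrd x₀) := by
  have : Finite (Sz F m) := finite_Sz hF hm
  constructor
  · rintro ⟨hx1, g, hg⟩
    have hu1 : g⁻¹ * x * g ≠ 1 := by
      intro h
      apply hx1
      calc x = g * (g⁻¹ * x * g) * g⁻¹ := by group
        _ = 1 := by rw [h]; group
    have huf : Fpf (g⁻¹ * x * g) :=
      hx₀.of_commute hF hm hu1 (Subgroup.mem_centralizer_singleton_iff.1 hg).symm
    have hxe : g * (g⁻¹ * x * g) * g⁻¹ = x := by group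
    have hxf : Fpf x := by
      have := huf.conj g
      rwa [hxe] at this
    refine ⟨hxf, ?_⟩
    have e1 := hx₀.centralizer_eq hF hm hg hu1
    have e2 := centralizer_conj_eq (g⁻¹ * x * g) g
    rw [hxe, e1] at e2
    unfold cOrd
    rw [e2, Subgroup.card_map_of_injective (MulAut.conj g).injective]
  · rintro ⟨hxf, hc⟩
    refine ⟨hxf.ne_one, ?_⟩
    have h1 := hxf.cOrd_ne_one hF hm
    set p := (cOrd x).minFac with hp
    have hpp : p.Prime := Nat.minFac_prime h1
    have hpx : p ∣ cOrd x := Nat.minFac_dvd _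
    have hpx₀ : p ∣ cOrd x₀ := hc ▸ hpx
    obtain ⟨g, hg⟩ := hx₀.exists_conj_of_prime hF hm hxf hpp hpx₀ hpx
    have hx' : x ∈ Subgroup.centralizer ({x} : Set (Sz F m)) :=
      Subgroup.mem_centralizer_singleton_iff.2 rfl
    rw [hg] at hx'
    obtain ⟨c, hc', hcx⟩ := hx'
    simp only [MulEquiv.coe_toMonoidHom, MulAut.conj_apply] at hcx
    refine ⟨g, ?_⟩
    have : g⁻¹ * x * g = c := by
      rw [← hcx]
      group
    rw [this]
    exact hc'

include hF hm in
/-- the number of fixed-point-free elements of a given type -/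
theorem card_type_class {x₀ : Sz F m} (hx₀ : Fpf x₀) :
    Nat.card {x : Sz F m // Fpf x ∧ cOrd x = cOrd x₀} *
      Nat.card (Subgroup.normalizer
        ((Subgroup.centralizer ({x₀} : Set (Sz F m)) : Subgroup (Sz F m)) : Set (Sz F m))) =
      Nat.card (Sz F m) * (cOrd x₀ - 1) := by
  have : Finite (Sz F m) := finite_Sz hF hm
  have key := card_conj_union (Subgroup.centralizer ({x₀} : Set (Sz F m)))
    (fun u hu hu1 g hg => hx₀.mem_normalizer hF hm hu hu1 hg)
  rw [Nat.card_congr (Equiv.subtypeEquivRight (conjSet_iff hF hm hx₀))] at key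
  exact key

end

end Cfsg.Agent.Lib.helper3
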