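import Mathlib
import Cfsg.Prelude.Def_LieExceptional
import Cfsg.Agent.Lib.helper3.SuzukiClassEq

set_option autoImplicit false

namespace Cfsg.Agent.Lib.helper3

open Cfsg Matrix Finset

section

variable {F : Type*} [Field F] [Fintype F] {m : ℕ} (hF : Fintype.card F = 2 ^ (2 * m + 1))
  (hm : 1 ≤ m)

omit [Fintype F] in
theorem mem_centralizer_algebra_iff (M a : Matrix (Fin 4) (Fin 4) F) :
    a ∈ Subalgebra.centralizer F ({M} : Set (Matrix (Fin 4) (Fin 4) F)) ↔ M * a = a * M := by
  rw [Subalgebra.mem_centralizer_iff]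
  constructor
  · intro h
    exact h _ rfl
  · intro h g hg
    rw [Set.mem_singleton_iff] at hg
    rw [hg]
    exact h

include hF hm in
/-- the centraliser algebra of an element of prime order dividing `q ^ 2 + 1` is a field -/
theorem centralizer_algebra_isField (z : Sz F m) {p : ℕ} (hp : p.Prime) (hz : orderOf z = p)
    (hd : p ∣ (2 ^ (2 * m + 1)) ^ 2 + 1) :
    IsField (Subalgebra.centralizer F ({szMat z} : Set (Matrix (Fin 4) (Fin 4) F))) := by
  set A : Subalgebra F (Matrix (Fin 4) (Fin 4) F) :=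
    Subalgebra.centralizer F ({szMat z} : Set (Matrix (Fin 4) (Fin 4) F)) with hA
  have hnzd : NoZeroDivisors A := by
    constructor
    intro a b hab
    by_contra hcon
    rw [not_or] at hcon
    obtain ⟨ha, hb⟩ := hcon
    have ha' : (a : Matrix (Fin 4) (Fin 4) F) ≠ 0 := fun h => ha (Subtype.ext h)
    apply hb
    apply Subtype.ext
    show (b : Matrix (Fin 4) (Fin 4) F) = 0
    ext i j
    have hab' : (a : Matrix (Fin 4) (Fin 4) F) * (b : Matrix (Fin 4) (Fin 4) F) = 0 :=
      congrArg Subtype.val hab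
    have h1 : (a : Matrix (Fin 4) (Fin 4) F) *ᵥ ((b : Matrix (Fin 4) (Fin 4) F) *ᵥ
        (Pi.single j 1 : Fin 4 → F)) = 0 := by
      rw [Matrix.mulVec_mulVec, hab', Matrix.zero_mulVec]
    have h2 := mulVec_injective_of_comm hF hm z hp hz hd _
      ((mem_centralizer_algebra_iff _ _).1 a.2) ha' _ h1
    have h3 := congrFun h2 i
    rw [Matrix.mulVec_single_one] at h3
    exact h3
  have hdom : IsDomain A := NoZeroDivisors.to_isDomain A
  exact Finite.isDomain_to_isField A

include hF hm in
/-- a fixed-point-free element has the same centraliser as an element of prime order -/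
theorem Fpf.exists_prime_elt {x : Sz F m} (hx : Fpf x) :
    ∃ (z : Sz F m) (p : ℕ), p.Prime ∧ orderOf z = p ∧ p ∣ (2 ^ (2 * m + 1)) ^ 2 + 1 ∧
      Subgroup.centralizer ({z} : Set (Sz F m)) = Subgroup.centralizer ({x} : Set (Sz F m)) := by
  have : Finite (Sz F m) := finite_Sz hF hm
  have hd1 : orderOf x ≠ 1 := fun h => hx.ne_one (orderOf_eq_one_iff.1 h)
  set p := (orderOf x).minFac with hp
  have hpp : p.Prime := Nat.minFac_prime hd1
  have hpd : p ∣ orderOf x := Nat.minFac_dvd _
  set z := x ^ (orderOf x / p) with hz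
  have hzo : orderOf z = p := orderOf_pow_orderOf_div (orderOf_pos x).ne' hpd
  have hz1 : z ≠ 1 := by
    intro h
    rw [← orderOf_eq_one_iff, hzo] at h
    exact hpp.one_lt.ne' h
  have hcz : Commute x z := (Commute.refl x).pow_right _
  have hzf : Fpf z := hx.of_commute hF hm hz1 hcz
  have hd := hzf.prime_dvd hF hpp hzo
  refine ⟨z, p, hpp, hzo, hd, ?_⟩
  exact hx.centralizer_eq hF hm (Subgroup.mem_centralizer_singleton_iff.2 hcz.symm.eq) hz1

include hF hm in
/-- the normaliser of the centraliser of a fixed-point-free element has index at most four -/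
theorem Fpf.card_normalizer_le {x₀ : Sz F m} (hx₀ : Fpf x₀) :
    Nat.card (Subgroup.normalizer
        ((Subgroup.centralizer ({x₀} : Set (Sz F m)) : Subgroup (Sz F m)) : Set (Sz F m))) ≤
      4 * cOrd x₀ := by
  classical
  have : Finite (Sz F m) := finite_Sz hF hm
  have : Fintype (Sz F m) := Fintype.ofFinite _
  obtain ⟨z, p, hpp, hzo, hd, hCz⟩ := hx₀.exists_prime_elt hF hm
  set U : Subgroup (Sz F m) := Subgroup.centralizer ({x₀} : Set (Sz F m)) with hU
  have hcyc : IsCyclic U := hx₀.centralizer_isCyclic hF hm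
  obtain ⟨g₀, hg₀⟩ := IsCyclic.exists_generator (α := U)
  have hx₀U : x₀ ∈ U := Subgroup.mem_centralizer_singleton_iff.2 rfl
  have hg₀1 : (g₀ : Sz F m) ≠ 1 := by
    intro h
    have h1 : g₀ = 1 := Subtype.ext h
    have := hg₀ ⟨x₀, hx₀U⟩
    rw [h1, Subgroup.zpowers_one_eq_bot, Subgroup.mem_bot] at this
    exact hx₀.ne_one (congrArg Subtype.val this)
  have hCg : Subgroup.centralizer ({(g₀ : Sz F m)} : Set (Sz F m)) = U :=
    hx₀.centralizer_eq hF hm g₀.2 hg₀1
  -- the algebra
  set A : Subalgebra F (Matrix (Fin 4) (Fin 4) F) :=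
    Subalgebra.centralizer F ({szMat z} : Set (Matrix (Fin 4) (Fin 4) F)) with hA
  have hfield : IsField A := centralizer_algebra_isField hF hm z hpp hzo hd
  let _ : CommRing A := { (inferInstance : Ring A) with mul_comm := hfield.mul_comm }
  have hdomA : IsDomain A := by
    have : Nontrivial A := ⟨hfield.exists_pair_ne⟩
    have : NoZeroDivisors A := by
      constructor
      intro a b hab
      by_contra hcon
      rw [not_or] at hcon
      obtain ⟨ha, hb⟩ := hcon
      obtain ⟨a', ha'⟩ := hfield.mul_inv_cancel ha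
      apply hb
      calc b = (a' * a) * b := by rw [mul_comm a' a, ha', one_mul]
        _ = 0 := by rw [mul_assoc, hab, mul_zero]
    exact NoZeroDivisors.to_isDomain A
  have hUA : ∀ y : Sz F m, y ∈ U → szMat y ∈ A := by
    intro y hy
    rw [hA, mem_centralizer_algebra_iff]
    rw [← hCz, Subgroup.mem_centralizer_singleton_iff] at hy
    rw [← szMat_mul, ← szMat_mul, hy]
  -- the polynomial
  set P : Polynomial F := (szMat (g₀ : Sz F m)).charpoly with hP
  have hPdeg : P.natDegree = 4 := by
    rw [hP, Matrix.charpoly_natDegree_eq_dim, Fintype.card_fin]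
  set R : Finset A := (P.aroots A).toFinset with hR
  have hRcard : R.card ≤ 4 := by
    calc R.card ≤ Multiset.card (P.aroots A) := Multiset.toFinset_card_le _
      _ ≤ (P.map (algebraMap F A)).natDegree := Polynomial.card_roots' _
      _ ≤ P.natDegree := Polynomial.natDegree_map_le
      _ = 4 := hPdeg
  -- the finsets
  set Nm : Finset (Sz F m) := univ.filter (fun n => n ∈ Subgroup.normalizer (U : Set (Sz F m)))
    with hNm
  set Uf : Finset (Sz F m) := univ.filter (fun u => u ∈ U) with hUf
  set f : Sz F m → Sz F m := fun n => n * (g₀ : Sz F m) * n⁻¹ with hf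
  have hfU : ∀ n ∈ Nm, f n ∈ U := by
    intro n hn
    simp only [hNm, Finset.mem_filter, Finset.mem_univ, true_and] at hn
    exact (Subgroup.mem_normalizer_iff.1 hn _).1 g₀.2
  set θ : Sz F m → A := fun y => if h : szMat y ∈ A then ⟨szMat y, h⟩ else 0 with hθ
  have himg : (Nm.image f).card ≤ 4 := by
    refine le_trans (Finset.card_le_card_of_injOn θ ?_ ?_) hRcard
    · intro y hy
      rw [Finset.mem_coe, Finset.mem_image] at hy
      obtain ⟨n, hn, rfl⟩ := hy
      have hmem := hUA _ (hfU n hn)
      rw [Finset.mem_coe, hR, Multiset.mem_toFinset, Polynomial.mem_aroots]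
      constructor
      · exact (Matrix.charpoly_monic (szMat (g₀ : Sz F m))).ne_zero
      · simp only [hθ, dif_pos hmem]
        apply Subtype.ext
        rw [Polynomial.aeval_subalgebra_coe]
        simp only [ZeroMemClass.coe_zero]
        -- conjugate matrices have the same characteristic polynomial
        let Nu : (Matrix (Fin 4) (Fin 4) F)ˣ :=
          ⟨szMat n, szMat n⁻¹, by rw [← szMat_mul, mul_inv_cancel, szMat_one],
            by rw [← szMat_mul, inv_mul_cancel, szMat_one]⟩
        have e1 : szMat (f n) = Nu.val * szMat (g₀ : Sz F m) * Nu.val⁻¹ := by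
          rw [← Matrix.coe_units_inv]
          simp only [hf, szMat_mul]
          rfl
        have e2 : (szMat (f n)).charpoly = P := by
          rw [e1, Matrix.charpoly_units_conj]
        rw [← e2]
        exact Matrix.aeval_self_charpoly _
    · intro y hy y' hy' hyy
      rw [Finset.mem_coe, Finset.mem_image] at hy hy'
      obtain ⟨n, hn, rfl⟩ := hy
      obtain ⟨n', hn', rfl⟩ := hy'
      have hmem := hUA _ (hfU n hn)
      have hmem' := hUA _ (hfU n' hn')
      simp only [hθ, dif_pos hmem, dif_pos hmem'] at hyy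
      have h3 := congrArg (fun a : A => (a : Matrix (Fin 4) (Fin 4) F)) hyy
      exact szMat_injective h3
  have hfib : ∀ y ∈ Nm.image f, (Nm.filter (fun n => f n = y)).card ≤ Uf.card := by
    intro y hy
    rw [Finset.mem_image] at hy
    obtain ⟨n₁, hn₁, rfl⟩ := hy
    apply Finset.card_le_card_of_injOn (fun n => n₁⁻¹ * n)
    · intro n hn
      rw [Finset.mem_coe, Finset.mem_filter] at hn
      simp only [hUf, Finset.mem_coe, Finset.mem_filter, Finset.mem_univ, true_and]
      rw [← hCg, Subgroup.mem_centralizer_singleton_iff]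
      have h2 : n * (g₀ : Sz F m) * n⁻¹ = n₁ * (g₀ : Sz F m) * n₁⁻¹ := hn.2
      calc n₁⁻¹ * n * (g₀ : Sz F m) = n₁⁻¹ * (n * (g₀ : Sz F m) * n⁻¹) * n := by group
        _ = n₁⁻¹ * (n₁ * (g₀ : Sz F m) * n₁⁻¹) * n := by rw [h2]
        _ = (g₀ : Sz F m) * (n₁⁻¹ * n) := by group
    · intro n _ n' _ h
      exact mul_left_cancel h
  have hmain := Finset.card_le_mul_card_image Nm Uf.card hfib
  have hcardN : Nm.card = Nat.card (Subgroup.normalizer (U : Set (Sz F m))) := by
    rw [hNm, Nat.card_eq_fintype_card, Fintype.card_subtype]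
  have hcardU : Uf.card = cOrd x₀ := by
    unfold cOrd
    rw [hUf, Nat.card_eq_fintype_card, Fintype.card_subtype]
  rw [hcardN, hcardU] at hmain
  calc Nat.card (Subgroup.normalizer (U : Set (Sz F m))) ≤ cOrd x₀ * (Nm.image f).card := hmain
    _ ≤ cOrd x₀ * 4 := Nat.mul_le_mul_left _ himg
    _ = 4 * cOrd x₀ := mul_comm _ _

end

end Cfsg.Agent.Lib.helper3
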