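import Mathlib
import Cfsg.Prelude.Def_LieExceptional
import Cfsg.Agent.Lib.helper3.SuzukiNorm

set_option autoImplicit false

namespace Cfsg.Agent.Lib.helper3

open Finset

theorem two_class_arith (q t₁ t₂ : ℤ) (w₁ w₂ : ℕ) (hq8 : 8 ≤ q) (h51 : 5 ≤ t₁) (h52 : 5 ≤ t₂)
    (hprod : t₁ * t₂ = q ^ 2 + 1) (hw1l : 1 ≤ w₁) (hw1u : w₁ ≤ 4) (hw2l : 1 ≤ w₂) (hw2u : w₂ ≤ 4)
    (hstar : (w₁ : ℤ) * (w₂ : ℤ) * (q ^ 2 - q) =
        2 * ((w₂ : ℤ) * (q ^ 2 + 1 - t₂) + (w₁ : ℤ) * (q ^ 2 + 1 - t₁))) :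
    w₁ = 4 ∧ w₂ = 4 := by
  have hbound : 5 * (t₁ + t₂) ≤ q ^ 2 + 26 := by
    nlinarith [mul_nonneg (sub_nonneg.2 h51) (sub_nonneg.2 h52)]
  have hqq : 8 * q ≤ q ^ 2 := by nlinarith
  have hc1 : w₁ = 1 ∨ w₁ = 2 ∨ w₁ = 3 ∨ w₁ = 4 := by omega
  have hc2 : w₂ = 1 ∨ w₂ = 2 ∨ w₂ = 3 ∨ w₂ = 4 := by omega
  rcases hc1 with rfl | rfl | rfl | rfl <;> rcases hc2 with rfl | rfl | rfl | rfl <;>
    first
    | exact ⟨rfl, rfl⟩
    | (exfalso; push_cast at hstar; linarith)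

theorem sz_class_arith (Q : ℕ) (hQ : 8 ≤ Q) (T : Finset ℕ) (a w : ℕ → ℕ) (Acard G : ℕ)
    (hG : (G : ℤ) = (Q : ℤ) ^ 2 * ((Q : ℤ) ^ 2 + 1) * ((Q : ℤ) - 1))
    (hA : 2 * (Acard : ℤ) = (Q : ℤ) ^ 3 * ((Q : ℤ) - 1) ^ 2)
    (hsum : ∑ t ∈ T, a t = Acard)
    (ht5 : ∀ t ∈ T, 5 ≤ t)
    (hdvd : ∀ t ∈ T, t ∣ Q ^ 2 + 1)
    (hcop : ∀ t ∈ T, ∀ t' ∈ T, t ≠ t' → Nat.Coprime t t')
    (hcover : ∀ p k : ℕ, p.Prime → 1 ≤ k → p ^ k ∣ Q ^ 2 + 1 → ∃ t ∈ T, p ^ k ∣ t)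
    (hw : ∀ t ∈ T, 1 ≤ w t ∧ w t ≤ 4)
    (heq : ∀ t ∈ T, (a t : ℤ) * ((w t : ℤ) * (t : ℤ)) = (G : ℤ) * ((t : ℤ) - 1)) :
    ∃ t₁ t₂ : ℕ, T = {t₁, t₂} ∧ t₁ + t₂ = 2 * Q + 2 ∧ t₁ * t₂ = Q ^ 2 + 1 ∧
      w t₁ = 4 ∧ w t₂ = 4 := by
  set q : ℤ := (Q : ℤ) with hq
  have hq8 : (8 : ℤ) ≤ q := by rw [hq]; exact_mod_cast hQ
  have hGpos : (0 : ℤ) < G := by
    rw [hG]
    have h1 : (0 : ℤ) < q ^ 2 := by positivity
    have h2 : (0 : ℤ) < q ^ 2 + 1 := by positivity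
    have h3 : (0 : ℤ) < q - 1 := by linarith
    positivity
  -- Step A
  have hA5 : ∀ t ∈ T, (G : ℤ) ≤ 5 * (a t : ℤ) := by
    intro t ht
    have h5 : (5 : ℤ) ≤ (t : ℤ) := by exact_mod_cast ht5 t ht
    have hw4 : (w t : ℤ) ≤ 4 := by exact_mod_cast (hw t ht).2
    have ha0 : (0 : ℤ) ≤ (a t : ℤ) := by positivity
    have e := heq t ht
    by_contra hlt
    push Not at hlt
    have h1 : (a t : ℤ) * ((w t : ℤ) * (t : ℤ)) ≤ (a t : ℤ) * (4 * (t : ℤ)) := by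
      apply mul_le_mul_of_nonneg_left _ ha0
      nlinarith
    have h2 : (G : ℤ) * (4 * (t : ℤ)) ≤ 5 * ((G : ℤ) * ((t : ℤ) - 1)) := by nlinarith
    nlinarith
  -- Step B
  have hB : (T.card : ℤ) * (G : ℤ) ≤ 5 * (Acard : ℤ) := by
    have h1 : ∑ t ∈ T, (G : ℤ) ≤ ∑ t ∈ T, 5 * (a t : ℤ) := Finset.sum_le_sum hA5
    rw [Finset.sum_const, ← Finset.mul_sum, nsmul_eq_mul] at h1
    have h2 : (∑ t ∈ T, (a t : ℤ)) = (Acard : ℤ) := by
      rw [← hsum]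
      push_cast
      rfl
    rw [h2] at h1
    exact h1
  have hX : (0 : ℤ) < q ^ 2 * (q - 1) := by
    have h1 : (0 : ℤ) < q ^ 2 := by positivity
    have h3 : (0 : ℤ) < q - 1 := by linarith
    positivity
  -- Step C
  have hC : T.card ≤ 2 := by
    by_contra hlt
    push Not at hlt
    have h3 : (3 : ℤ) ≤ (T.card : ℤ) := by exact_mod_cast hlt
    have h4 : 3 * (G : ℤ) ≤ 5 * (Acard : ℤ) := by nlinarith
    rw [hG] at h4
    have h5 : (0 : ℤ) < q ^ 2 + 5 * q + 6 := by positivity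
    nlinarith [mul_pos hX h5]
  have hApos : (0 : ℤ) < (Acard : ℤ) := by
    have h1 : (0 : ℤ) < q ^ 3 := by positivity
    have h3 : (0 : ℤ) < (q - 1) ^ 2 := by
      have : (0 : ℤ) < q - 1 := by linarith
      positivity
    nlinarith [mul_pos h1 h3]
  have hN1 : (Q : ℤ) ^ 2 + 1 = ((Q ^ 2 + 1 : ℕ) : ℤ) := by push_cast; ring
  have hcases : T.card = 0 ∨ T.card = 1 ∨ T.card = 2 := by omega
  rcases hcases with h0 | h1 | h2
  · exfalso
    rw [Finset.card_eq_zero] at h0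
    rw [h0, Finset.sum_empty] at hsum
    rw [← hsum] at hApos
    simp at hApos
  · exfalso
    obtain ⟨t, rfl⟩ := Finset.card_eq_one.1 h1
    have ht : t ∈ ({t} : Finset ℕ) := Finset.mem_singleton_self t
    have hNt : Q ^ 2 + 1 ∣ t := by
      rw [Nat.dvd_iff_prime_pow_dvd_dvd]
      intro p k hp hpk
      rcases Nat.eq_zero_or_pos k with rfl | hk
      · simp
      obtain ⟨t', ht', h⟩ := hcover p k hp hk hpk
      rw [Finset.mem_singleton] at ht'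
      rw [← ht']
      exact h
    have htN : t = Q ^ 2 + 1 := Nat.dvd_antisymm (hdvd t ht) hNt
    have e := heq t ht
    rw [Finset.sum_singleton] at hsum
    obtain ⟨hw1, hw4⟩ := hw t ht
    have htz : (t : ℤ) = q ^ 2 + 1 := by rw [htN]; push_cast; ring
    rw [htz, hG] at e
    have e2 : ((a t : ℤ) * (w t : ℤ)) * (q ^ 2 + 1) = (q ^ 4 * (q - 1)) * (q ^ 2 + 1) := by
      linear_combination e
    have hne : (q ^ 2 + 1 : ℤ) ≠ 0 := by positivity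
    have e3 : (a t : ℤ) * (w t : ℤ) = q ^ 4 * (q - 1) := mul_right_cancel₀ hne e2
    have hat : (a t : ℤ) = (Acard : ℤ) := by exact_mod_cast hsum
    have e4 : (q ^ 3 * (q - 1)) * (2 * q) = (q ^ 3 * (q - 1)) * ((w t : ℤ) * (q - 1)) := by
      have : 2 * ((a t : ℤ) * (w t : ℤ)) = (w t : ℤ) * (q ^ 3 * (q - 1) ^ 2) := by
        rw [hat, ← hA]; ring
      rw [e3] at this
      linear_combination this
    have hne2 : (q ^ 3 * (q - 1) : ℤ) ≠ 0 := by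
      have h1 : (0 : ℤ) < q ^ 3 := by positivity
      have h3 : (0 : ℤ) < q - 1 := by linarith
      positivity
    have e5 : 2 * q = (w t : ℤ) * (q - 1) := mul_left_cancel₀ hne2 e4
    generalize w t = w₁ at *
    interval_cases w₁ <;> simp at e5 <;> linarith
  · obtain ⟨t₁, t₂, hne, rfl⟩ := Finset.card_eq_two.1 h2
    have ht₁ : t₁ ∈ ({t₁, t₂} : Finset ℕ) := by simp
    have ht₂ : t₂ ∈ ({t₁, t₂} : Finset ℕ) := by simp
    have hcp : Nat.Coprime t₁ t₂ := hcop t₁ ht₁ t₂ ht₂ hne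
    have hd1 : t₁ * t₂ ∣ Q ^ 2 + 1 :=
      Nat.Coprime.mul_dvd_of_dvd_of_dvd hcp (hdvd t₁ ht₁) (hdvd t₂ ht₂)
    have hd2 : Q ^ 2 + 1 ∣ t₁ * t₂ := by
      rw [Nat.dvd_iff_prime_pow_dvd_dvd]
      intro p k hp hpk
      rcases Nat.eq_zero_or_pos k with rfl | hk
      · simp
      obtain ⟨t', ht', h⟩ := hcover p k hp hk hpk
      rw [Finset.mem_insert, Finset.mem_singleton] at ht'
      rcases ht' with rfl | rfl
      · exact Dvd.dvd.mul_right h _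
      · exact Dvd.dvd.mul_left h _
    have hprod : t₁ * t₂ = Q ^ 2 + 1 := Nat.dvd_antisymm hd1 hd2
    have hprodz : (t₁ : ℤ) * (t₂ : ℤ) = q ^ 2 + 1 := by
      have : ((t₁ * t₂ : ℕ) : ℤ) = ((Q ^ 2 + 1 : ℕ) : ℤ) := by rw [hprod]
      push_cast at this
      rw [this]
    have h51 : (5 : ℤ) ≤ (t₁ : ℤ) := by exact_mod_cast ht5 t₁ ht₁
    have h52 : (5 : ℤ) ≤ (t₂ : ℤ) := by exact_mod_cast ht5 t₂ ht₂
    have e1 := heq t₁ ht₁
    have e2 := heq t₂ ht₂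
    rw [Finset.sum_pair hne] at hsum
    have hsumz : (a t₁ : ℤ) + (a t₂ : ℤ) = (Acard : ℤ) := by exact_mod_cast hsum
    obtain ⟨hw1l, hw1u⟩ := hw t₁ ht₁
    obtain ⟨hw2l, hw2u⟩ := hw t₂ ht₂
    rw [hG, ← hprodz] at e1 e2
    have hne1 : (t₁ : ℤ) ≠ 0 := by positivity
    have hne2 : (t₂ : ℤ) ≠ 0 := by positivity
    have f1 : (a t₁ : ℤ) * (w t₁ : ℤ) = q ^ 2 * (q - 1) * ((t₂ : ℤ) * ((t₁ : ℤ) - 1)) := by
      apply mul_right_cancel₀ hne1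
      linear_combination e1
    have f2 : (a t₂ : ℤ) * (w t₂ : ℤ) = q ^ 2 * (q - 1) * ((t₁ : ℤ) * ((t₂ : ℤ) - 1)) := by
      apply mul_right_cancel₀ hne2
      linear_combination e2
    have hstar : (w t₁ : ℤ) * (w t₂ : ℤ) * (q * (q - 1)) =
        2 * ((w t₂ : ℤ) * ((t₂ : ℤ) * ((t₁ : ℤ) - 1)) + (w t₁ : ℤ) * ((t₁ : ℤ) * ((t₂ : ℤ) - 1))) := by
      apply mul_left_cancel₀ hX.ne'
      have : (w t₁ : ℤ) * (w t₂ : ℤ) * (2 * (Acard : ℤ)) =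
          2 * (w t₂ : ℤ) * ((a t₁ : ℤ) * (w t₁ : ℤ)) + 2 * (w t₁ : ℤ) * ((a t₂ : ℤ) * (w t₂ : ℤ)) := by
        rw [← hsumz]; ring
      rw [hA, f1, f2] at this
      linear_combination this
    have hbound : 5 * ((t₁ : ℤ) + (t₂ : ℤ)) ≤ q ^ 2 + 26 := by
      nlinarith [mul_nonneg (sub_nonneg.2 h51) (sub_nonneg.2 h52)]
    have hqq : 8 * q ≤ q ^ 2 := by nlinarith
    have hstar' : (w t₁ : ℤ) * (w t₂ : ℤ) * (q ^ 2 - q) =
        2 * ((w t₂ : ℤ) * (q ^ 2 + 1 - (t₂ : ℤ)) + (w t₁ : ℤ) * (q ^ 2 + 1 - (t₁ : ℤ))) := by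
      rw [← hprodz]
      linear_combination hstar
    have hw44 : w t₁ = 4 ∧ w t₂ = 4 :=
      two_class_arith q t₁ t₂ (w t₁) (w t₂) hq8 h51 h52 hprodz hw1l hw1u hw2l hw2u hstar'
    obtain ⟨hw1, hw2⟩ := hw44
    rw [hw1, hw2] at hstar'
    push_cast at hstar'
    refine ⟨t₁, t₂, rfl, ?_, hprod, hw1, hw2⟩
    have : (t₁ : ℤ) + (t₂ : ℤ) = 2 * q + 2 := by linarith
    rw [hq] at this
    exact_mod_cast this

theorem sz_roots (m t₁ t₂ : ℕ) (hs : t₁ + t₂ = 2 * 2 ^ (2 * m + 1) + 2)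
    (hp : t₁ * t₂ = (2 ^ (2 * m + 1)) ^ 2 + 1) :
    (t₁ = 2 ^ (2 * m + 1) + 2 ^ (m + 1) + 1 ∧ t₂ = 2 ^ (2 * m + 1) - 2 ^ (m + 1) + 1) ∨
      (t₂ = 2 ^ (2 * m + 1) + 2 ^ (m + 1) + 1 ∧ t₁ = 2 ^ (2 * m + 1) - 2 ^ (m + 1) + 1) := by
  have hrQ : 2 * 2 ^ (2 * m + 1) = (2 ^ (m + 1)) ^ 2 := by
    rw [← pow_mul, ← pow_succ']
    congr 1
    ring
  have hle : 2 ^ (m + 1) ≤ 2 ^ (2 * m + 1) := Nat.pow_le_pow_right (by norm_num) (by omega)
  generalize 2 ^ (2 * m + 1) = Q at *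
  generalize 2 ^ (m + 1) = r at *
  have hsz : (t₁ : ℤ) + (t₂ : ℤ) = 2 * (Q : ℤ) + 2 := by exact_mod_cast hs
  have hpz : (t₁ : ℤ) * (t₂ : ℤ) = (Q : ℤ) ^ 2 + 1 := by exact_mod_cast hp
  have hrz : 2 * (Q : ℤ) = (r : ℤ) ^ 2 := by exact_mod_cast hrQ
  have key : ((t₁ : ℤ) - (t₂ : ℤ) - 2 * (r : ℤ)) * ((t₁ : ℤ) - (t₂ : ℤ) + 2 * (r : ℤ)) = 0 := by
    have e : ((t₁ : ℤ) - (t₂ : ℤ)) ^ 2 = ((t₁ : ℤ) + (t₂ : ℤ)) ^ 2 - 4 * ((t₁ : ℤ) * (t₂ : ℤ)) := by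
      ring
    rw [hsz, hpz] at e
    have e2 : ((t₁ : ℤ) - (t₂ : ℤ)) ^ 2 = (2 * (r : ℤ)) ^ 2 := by
      rw [e]
      linear_combination 4 * hrz
    linear_combination e2
  rcases mul_eq_zero.1 key with h | h
  · left
    have h1 : (t₁ : ℤ) = (Q : ℤ) + (r : ℤ) + 1 := by linarith
    have h1' : t₁ = Q + r + 1 := by exact_mod_cast h1
    exact ⟨h1', by omega⟩
  · right
    have h1 : (t₂ : ℤ) = (Q : ℤ) + (r : ℤ) + 1 := by linarith
    have h1' : t₂ = Q + r + 1 := by exact_mod_cast h1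
    exact ⟨h1', by omega⟩

open Cfsg Matrix

section

variable {F : Type*} [Field F] [Fintype F] {m : ℕ} (hF : Fintype.card F = 2 ^ (2 * m + 1))
  (hm : 1 ≤ m)

include hF hm in
/-- every prime power dividing `q ^ 2 + 1` divides the order of the centraliser of some
fixed-point-free element -/
theorem exists_fpf_of_prime_pow {p k : ℕ} (hp : p.Prime) (hk : 1 ≤ k)
    (hd : p ^ k ∣ (2 ^ (2 * m + 1)) ^ 2 + 1) : ∃ z : Sz F m, Fpf z ∧ p ^ k ∣ cOrd z := by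
  have : Finite (Sz F m) := finite_Sz hF hm
  have : Fact p.Prime := ⟨hp⟩
  have hpd : p ∣ (2 ^ (2 * m + 1)) ^ 2 + 1 := dvd_trans (dvd_pow_self p (by omega)) hd
  have hdG : p ^ k ∣ Nat.card (Sz F m) := by
    rw [card_Sz hm hF]
    exact Dvd.dvd.mul_right (Dvd.dvd.mul_left hd _) _
  obtain ⟨H, hH⟩ := Sylow.exists_subgroup_card_pow_prime p hdG
  have hHp : IsPGroup p H := IsPGroup.of_card hH
  obtain ⟨P, hP⟩ := hHp.exists_le_sylow
  have hcyc : IsCyclic P := sylow_cyclic_of_dvd_sq_add_one hF hm hpd P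
  have hpH : p ∣ Nat.card H := by
    rw [hH]
    exact dvd_pow_self p (by omega)
  obtain ⟨z, hz⟩ := exists_prime_orderOf_dvd_card' p hpH
  have ho : orderOf (z : Sz F m) = p := by rw [Subgroup.orderOf_coe, hz]
  have hzf : Fpf (z : Sz F m) := fun a => no_fixed_point_of_prime hF hm _ hp ho hpd a
  refine ⟨z, hzf, ?_⟩
  have hle : H ≤ Subgroup.centralizer ({(z : Sz F m)} : Set (Sz F m)) := by
    intro y hy
    rw [Subgroup.mem_centralizer_singleton_iff]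
    let _ : CommGroup P := IsCyclic.commGroup
    have := mul_comm (⟨y, hP hy⟩ : P) ⟨(z : Sz F m), hP z.2⟩
    exact congrArg Subtype.val this
  unfold cOrd
  rw [← hH]
  exact Subgroup.card_dvd_of_le hle

include hF hm in
/-- the cyclic subgroups of orders `q ± 2r + 1` of the Suzuki group -/
theorem sz_tori : ∀ k ∈ ({2 ^ (2 * m + 1) + 2 ^ (m + 1) + 1,
      2 ^ (2 * m + 1) - 2 ^ (m + 1) + 1} : Set ℕ),
    ∃ U : Subgroup (Sz F m), IsCyclic U ∧ Nat.card U = k ∧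
      (∀ u ∈ U, u ≠ 1 → Subgroup.centralizer {u} = U) ∧
      Nat.card (Subgroup.normalizer (U : Set (Sz F m))) = 4 * k := by
  classical
  have hfin : Finite (Sz F m) := finite_Sz hF hm
  have : Fintype (Sz F m) := Fintype.ofFinite _
  set Q : ℕ := 2 ^ (2 * m + 1) with hQ
  have hQ8 : 8 ≤ Q := by
    have : 2 ^ 3 ≤ 2 ^ (2 * m + 1) := Nat.pow_le_pow_right (by norm_num) (by omega)
    exact this
  have hQe : Even Q := ⟨2 ^ (2 * m), by rw [hQ, pow_succ]; ring⟩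
  set A : Finset (Sz F m) := univ.filter (fun x => Fpf x) with hA
  set T : Finset ℕ := A.image cOrd with hT
  have hmemA : ∀ x, x ∈ A ↔ Fpf x := by
    intro x
    simp only [hA, Finset.mem_filter, Finset.mem_univ, true_and]
  have hrep : ∀ t ∈ T, ∃ x : Sz F m, Fpf x ∧ cOrd x = t := by
    intro t ht
    obtain ⟨x, hx, hxt⟩ := Finset.mem_image.1 ht
    exact ⟨x, (hmemA x).1 hx, hxt⟩
  set rep : ℕ → Sz F m := fun t => if h : t ∈ T then Classical.choose (hrep t h) else 1 with hrepdef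
  have hrep1 : ∀ t ∈ T, Fpf (rep t) := by
    intro t ht
    simp only [hrepdef, dif_pos ht]
    exact (Classical.choose_spec (hrep t ht)).1
  have hrep2 : ∀ t ∈ T, cOrd (rep t) = t := by
    intro t ht
    simp only [hrepdef, dif_pos ht]
    exact (Classical.choose_spec (hrep t ht)).2
  set ν : ℕ → ℕ := fun t => Nat.card (Subgroup.normalizer
    ((Subgroup.centralizer ({rep t} : Set (Sz F m)) : Subgroup (Sz F m)) : Set (Sz F m))) with hν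
  set w : ℕ → ℕ := fun t => ν t / t with hw
  set a : ℕ → ℕ := fun t => (A.filter (fun x => cOrd x = t)).card with ha
  -- the basic facts
  have ht5 : ∀ t ∈ T, 5 ≤ t := by
    intro t ht
    have h1 := (hrep1 t ht).card_centralizer_dvd hF hm
    have h2 := (hrep1 t ht).cOrd_ne_one hF hm
    have h3 := hrep2 t ht
    unfold cOrd at h2 h3
    rw [h3] at h1 h2
    exact five_le_of_dvd_sq_add_one hQe h1 h2
  have hdvd : ∀ t ∈ T, t ∣ Q ^ 2 + 1 := by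
    intro t ht
    have h1 := (hrep1 t ht).card_centralizer_dvd hF hm
    have h3 := hrep2 t ht
    unfold cOrd at h3
    rw [h3] at h1
    exact h1
  have hcop : ∀ t ∈ T, ∀ t' ∈ T, t ≠ t' → Nat.Coprime t t' := by
    intro t ht t' ht' hne
    by_contra hnc
    obtain ⟨p, hp, hpt, hpt'⟩ := Nat.Prime.not_coprime_iff_dvd.1 hnc
    rw [← hrep2 t ht] at hpt
    rw [← hrep2 t' ht'] at hpt'
    obtain ⟨g, hg⟩ := (hrep1 t ht).exists_conj_of_prime hF hm (hrep1 t' ht') hp hpt hpt'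
    apply hne
    rw [← hrep2 t ht, ← hrep2 t' ht']
    unfold cOrd
    rw [hg, Subgroup.card_map_of_injective (MulAut.conj g).injective]
  have hcover : ∀ p k : ℕ, p.Prime → 1 ≤ k → p ^ k ∣ Q ^ 2 + 1 → ∃ t ∈ T, p ^ k ∣ t := by
    intro p k hp hk hd
    obtain ⟨z, hzf, hz⟩ := exists_fpf_of_prime_pow hF hm hp hk hd
    exact ⟨cOrd z, Finset.mem_image.2 ⟨z, (hmemA z).2 hzf, rfl⟩, hz⟩
  have hνfacts : ∀ t ∈ T, t ∣ ν t ∧ 0 < ν t ∧ ν t ≤ 4 * t := by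
    intro t ht
    have h1 := (hrep1 t ht).card_normalizer_le hF hm
    rw [hrep2 t ht] at h1
    refine ⟨?_, Nat.card_pos, h1⟩
    have := Subgroup.card_dvd_of_le (Subgroup.le_normalizer
      (H := Subgroup.centralizer ({rep t} : Set (Sz F m))))
    have h3 := hrep2 t ht
    unfold cOrd at h3
    rw [h3] at this
    exact this
  have hwfacts : ∀ t ∈ T, 1 ≤ w t ∧ w t ≤ 4 := by
    intro t ht
    obtain ⟨h1, h2, h3⟩ := hνfacts t ht
    have ht0 : 0 < t := by have := ht5 t ht; omega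
    constructor
    · exact Nat.div_pos (Nat.le_of_dvd h2 h1) ht0
    · exact Nat.div_le_of_le_mul (by rw [mul_comm]; exact h3)
  have hwν : ∀ t ∈ T, w t * t = ν t := by
    intro t ht
    exact Nat.div_mul_cancel (hνfacts t ht).1
  have hsum : ∑ t ∈ T, a t = A.card := (Finset.card_eq_sum_card_image cOrd A).symm
  have hAcard : A.card = Nat.card {x : Sz F m // Fpf x} := by
    rw [hA, card_filter_eq_natCard]
  have hAeq : 2 * ((A.card : ℕ) : ℤ) = (Q : ℤ) ^ 3 * ((Q : ℤ) - 1) ^ 2 := by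
    have := card_fpf hF hm
    rw [← hAcard] at this
    have h1 : ((2 * A.card : ℕ) : ℤ) = ((Q ^ 3 * (Q - 1) ^ 2 : ℕ) : ℤ) := by rw [this]
    push_cast [Nat.cast_sub (show 1 ≤ Q by omega)] at h1
    exact h1
  have hGeq : ((Nat.card (Sz F m) : ℕ) : ℤ) = (Q : ℤ) ^ 2 * ((Q : ℤ) ^ 2 + 1) * ((Q : ℤ) - 1) := by
    have h0 : Nat.card (Sz F m) = Q ^ 2 * (Q ^ 2 + 1) * (Q - 1) := card_Sz hm hF
    rw [h0]
    push_cast [Nat.cast_sub (show 1 ≤ Q by omega)]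
    ring
  have heq : ∀ t ∈ T, (a t : ℤ) * ((w t : ℤ) * (t : ℤ)) =
      ((Nat.card (Sz F m) : ℕ) : ℤ) * ((t : ℤ) - 1) := by
    intro t ht
    have key := card_type_class hF hm (hrep1 t ht)
    rw [hrep2 t ht] at key
    have hat : a t = Nat.card {x : Sz F m // Fpf x ∧ cOrd x = t} := by
      simp only [ha, hA]
      rw [Finset.filter_filter, card_filter_eq_natCard]
    have ht1 : 1 ≤ t := by have := ht5 t ht; omega
    have h2 : ((a t * (w t * t) : ℕ) : ℤ) = ((Nat.card (Sz F m) * (t - 1) : ℕ) : ℤ) := by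
      rw [hwν t ht, hat, ← key]
    push_cast [Nat.cast_sub ht1] at h2
    exact h2
  obtain ⟨t₁, t₂, hTeq, hs, hp, hw1, hw2⟩ :=
    sz_class_arith Q hQ8 T a w A.card (Nat.card (Sz F m)) hGeq hAeq hsum ht5 hdvd hcop hcover
      hwfacts heq
  have hroots := sz_roots m t₁ t₂ hs hp
  have hfinal : ∀ t ∈ T, w t = 4 → ∃ U : Subgroup (Sz F m), IsCyclic U ∧ Nat.card U = t ∧
      (∀ u ∈ U, u ≠ 1 → Subgroup.centralizer {u} = U) ∧
      Nat.card (Subgroup.normalizer (U : Set (Sz F m))) = 4 * t := by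
    intro t ht hw4
    refine ⟨Subgroup.centralizer ({rep t} : Set (Sz F m)),
      (hrep1 t ht).centralizer_isCyclic hF hm, hrep2 t ht, ?_, ?_⟩
    · intro u hu hu1
      exact (hrep1 t ht).centralizer_eq hF hm hu hu1
    · have := hwν t ht
      rw [hw4] at this
      exact this.symm
  have ht₁ : t₁ ∈ T := by rw [hTeq]; simp
  have ht₂ : t₂ ∈ T := by rw [hTeq]; simp
  intro k hk
  rw [Set.mem_insert_iff, Set.mem_singleton_iff] at hk
  rcases hroots with ⟨e1, e2⟩ | ⟨e2, e1⟩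
  · rcases hk with rfl | rfl
    · rw [← e1]
      exact hfinal t₁ ht₁ hw1
    · rw [← e2]
      exact hfinal t₂ ht₂ hw2
  · rcases hk with rfl | rfl
    · rw [← e2]
      exact hfinal t₂ ht₂ hw2
    · rw [← e1]
      exact hfinal t₁ ht₁ hw1

end

end Cfsg.Agent.Lib.helper3
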