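import Mathlib
import Cfsg.Prelude.Def_LieExceptional
import Cfsg.Agent.Lib.helper3.SuzukiTori

set_option autoImplicit false

namespace Cfsg.Agent.Lib.helper3

open Cfsg Matrix Finset

section

variable {F : Type*} [Field F] [Fintype F] {m : ℕ} (hF : Fintype.card F = 2 ^ (2 * m + 1))
  (hm : 1 ≤ m)

include hF hm in
/-- the centraliser of a fixed-point-free element has order `q + 2r + 1` or `q - 2r + 1` -/
theorem Fpf.cOrd_eq {x₀ : Sz F m} (hx₀ : Fpf x₀) :
    cOrd x₀ = 2 ^ (2 * m + 1) + 2 ^ (m + 1) + 1 ∨ cOrd x₀ = 2 ^ (2 * m + 1) - 2 ^ (m + 1) + 1 := by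
  classical
  have hfin : Finite (Sz F m) := finite_Sz hF hm
  have : Fintype (Sz F m) := Fintype.ofFinite _
  set Q : ℕ := 2 ^ (2 * m + 1) with hQ
  have hQ8 : 8 ≤ Q := by
    have : 2 ^ 3 ≤ 2 ^ (2 * m + 1) := Nat.pow_le_pow_right (by norm_num) (by omega)
    exact this
  have hQe : Even Q := ⟨2 ^ (2 * m), by rw [hQ, pow_succ]; ring⟩
  set A : Finset (Sz F m) := univ.filter (fun x => Fpf x) with hA
  set T : Finset ℕ := A.image cOrd with hT
  have hmemA : ∀ x, x ∈ A ↔ Fpf x := by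
    intro x
    simp only [hA, Finset.mem_filter, Finset.mem_univ, true_and]
  have hrep : ∀ t ∈ T, ∃ x : Sz F m, Fpf x ∧ cOrd x = t := by
    intro t ht
    obtain ⟨x, hx, hxt⟩ := Finset.mem_image.1 ht
    exact ⟨x, (hmemA x).1 hx, hxt⟩
  set rep : ℕ → Sz F m := fun t => if h : t ∈ T then Classical.choose (hrep t h) else 1 with hrepdef
  have hrep1 : ∀ t ∈ T, Fpf (rep t) := by
    intro t ht
    simp only [hrepdef, dif_pos ht]
    exact (Classical.choose_spec (hrep t ht)).1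
  have hrep2 : ∀ t ∈ T, cOrd (rep t) = t := by
    intro t ht
    simp only [hrepdef, dif_pos ht]
    exact (Classical.choose_spec (hrep t ht)).2
  set ν : ℕ → ℕ := fun t => Nat.card (Subgroup.normalizer
    ((Subgroup.centralizer ({rep t} : Set (Sz F m)) : Subgroup (Sz F m)) : Set (Sz F m))) with hν
  set w : ℕ → ℕ := fun t => ν t / t with hw
  set a : ℕ → ℕ := fun t => (A.filter (fun x => cOrd x = t)).card with ha
  -- the basic facts
  have ht5 : ∀ t ∈ T, 5 ≤ t := by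
    intro t ht
    have h1 := (hrep1 t ht).card_centralizer_dvd hF hm
    have h2 := (hrep1 t ht).cOrd_ne_one hF hm
    have h3 := hrep2 t ht
    unfold cOrd at h2 h3
    rw [h3] at h1 h2
    exact five_le_of_dvd_sq_add_one hQe h1 h2
  have hdvd : ∀ t ∈ T, t ∣ Q ^ 2 + 1 := by
    intro t ht
    have h1 := (hrep1 t ht).card_centralizer_dvd hF hm
    have h3 := hrep2 t ht
    unfold cOrd at h3
    rw [h3] at h1
    exact h1
  have hcop : ∀ t ∈ T, ∀ t' ∈ T, t ≠ t' → Nat.Coprime t t' := by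
    intro t ht t' ht' hne
    by_contra hnc
    obtain ⟨p, hp, hpt, hpt'⟩ := Nat.Prime.not_coprime_iff_dvd.1 hnc
    rw [← hrep2 t ht] at hpt
    rw [← hrep2 t' ht'] at hpt'
    obtain ⟨g, hg⟩ := (hrep1 t ht).exists_conj_of_prime hF hm (hrep1 t' ht') hp hpt hpt'
    apply hne
    rw [← hrep2 t ht, ← hrep2 t' ht']
    unfold cOrd
    rw [hg, Subgroup.card_map_of_injective (MulAut.conj g).injective]
  have hcover : ∀ p k : ℕ, p.Prime → 1 ≤ k → p ^ k ∣ Q ^ 2 + 1 → ∃ t ∈ T, p ^ k ∣ t := by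
    intro p k hp hk hd
    obtain ⟨z, hzf, hz⟩ := exists_fpf_of_prime_pow hF hm hp hk hd
    exact ⟨cOrd z, Finset.mem_image.2 ⟨z, (hmemA z).2 hzf, rfl⟩, hz⟩
  have hνfacts : ∀ t ∈ T, t ∣ ν t ∧ 0 < ν t ∧ ν t ≤ 4 * t := by
    intro t ht
    have h1 := (hrep1 t ht).card_normalizer_le hF hm
    rw [hrep2 t ht] at h1
    refine ⟨?_, Nat.card_pos, h1⟩
    have := Subgroup.card_dvd_of_le (Subgroup.le_normalizer
      (H := Subgroup.centralizer ({rep t} : Set (Sz F m))))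
    have h3 := hrep2 t ht
    unfold cOrd at h3
    rw [h3] at this
    exact this
  have hwfacts : ∀ t ∈ T, 1 ≤ w t ∧ w t ≤ 4 := by
    intro t ht
    obtain ⟨h1, h2, h3⟩ := hνfacts t ht
    have ht0 : 0 < t := by have := ht5 t ht; omega
    constructor
    · exact Nat.div_pos (Nat.le_of_dvd h2 h1) ht0
    · exact Nat.div_le_of_le_mul (by rw [mul_comm]; exact h3)
  have hwν : ∀ t ∈ T, w t * t = ν t := by
    intro t ht
    exact Nat.div_mul_cancel (hνfacts t ht).1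
  have hsum : ∑ t ∈ T, a t = A.card := (Finset.card_eq_sum_card_image cOrd A).symm
  have hAcard : A.card = Nat.card {x : Sz F m // Fpf x} := by
    rw [hA, card_filter_eq_natCard]
  have hAeq : 2 * ((A.card : ℕ) : ℤ) = (Q : ℤ) ^ 3 * ((Q : ℤ) - 1) ^ 2 := by
    have := card_fpf hF hm
    rw [← hAcard] at this
    have h1 : ((2 * A.card : ℕ) : ℤ) = ((Q ^ 3 * (Q - 1) ^ 2 : ℕ) : ℤ) := by rw [this]
    push_cast [Nat.cast_sub (show 1 ≤ Q by omega)] at h1
    exact h1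
  have hGeq : ((Nat.card (Sz F m) : ℕ) : ℤ) = (Q : ℤ) ^ 2 * ((Q : ℤ) ^ 2 + 1) * ((Q : ℤ) - 1) := by
    have h0 : Nat.card (Sz F m) = Q ^ 2 * (Q ^ 2 + 1) * (Q - 1) := card_Sz hm hF
    rw [h0]
    push_cast [Nat.cast_sub (show 1 ≤ Q by omega)]
    ring
  have heq : ∀ t ∈ T, (a t : ℤ) * ((w t : ℤ) * (t : ℤ)) =
      ((Nat.card (Sz F m) : ℕ) : ℤ) * ((t : ℤ) - 1) := by
    intro t ht
    have key := card_type_class hF hm (hrep1 t ht)
    rw [hrep2 t ht] at key
    have hat : a t = Nat.card {x : Sz F m // Fpf x ∧ cOrd x = t} := by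
      simp only [ha, hA]
      rw [Finset.filter_filter, card_filter_eq_natCard]
    have ht1 : 1 ≤ t := by have := ht5 t ht; omega
    have h2 : ((a t * (w t * t) : ℕ) : ℤ) = ((Nat.card (Sz F m) * (t - 1) : ℕ) : ℤ) := by
      rw [hwν t ht, hat, ← key]
    push_cast [Nat.cast_sub ht1] at h2
    exact h2
  obtain ⟨t₁, t₂, hTeq, hs, hp, hw1, hw2⟩ :=
    sz_class_arith Q hQ8 T a w A.card (Nat.card (Sz F m)) hGeq hAeq hsum ht5 hdvd hcop hcover
      hwfacts heq
  have hroots := sz_roots m t₁ t₂ hs hp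
  have hx₀T : cOrd x₀ ∈ T := Finset.mem_image.2 ⟨x₀, (hmemA x₀).2 hx₀, rfl⟩
  rw [hTeq, Finset.mem_insert, Finset.mem_singleton] at hx₀T
  rcases hroots with ⟨e1, e2⟩ | ⟨e2, e1⟩
  · rcases hx₀T with h | h
    · left; rw [h, e1]
    · right; rw [h, e2]
  · rcases hx₀T with h | h
    · right; rw [h, e1]
    · left; rw [h, e2]

end

end Cfsg.Agent.Lib.helper3
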