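import Mathlib
import Cfsg.Prelude.Def_LieExceptional
import Cfsg.Agent.Lib.helper3.SuzukiTori2

set_option autoImplicit false

namespace Cfsg.Agent.Lib.helper3

open Cfsg Matrix

section

variable {F : Type*} [Field F] [Fintype F] {m : ℕ} (hF : Fintype.card F = 2 ^ (2 * m + 1))
  (hm : 1 ≤ m)

include hF in
/-- a nontrivial translation fixes only the point at infinity -/
theorem gT_fixed {a b : F} (hab : ¬ (a = 0 ∧ b = 0)) {p : suzukiOvoid F m}
    (h : gT hF a b • p = p) : p = oInf F m := by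
  have h2 := sz_two hF
  rcases ovoid_cases p with h' | ⟨x, y, h'⟩
  · exact h'
  · exfalso
    rw [h', gT_oPt] at h
    obtain ⟨e1, e2⟩ := szPt_inj m (congrArg Subtype.val h)
    apply hab
    have ha : a = 0 := by linear_combination e1
    subst ha
    rw [szθ_zero] at e2
    exact ⟨rfl, by linear_combination e2⟩

include hF hm in
/-- every nontrivial element is a conjugate of a translation or of a torus element, or fixes no
point -/
theorem sz_trichotomy {g : Sz F m} (hg : g ≠ 1) :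
    (∃ (u : Sz F m) (a b : F), ¬ (a = 0 ∧ b = 0) ∧ g = u * gT hF a b * u⁻¹) ∨
      (∃ (u : Sz F m) (k : Fˣ), k ≠ 1 ∧ g = u * gD hF k * u⁻¹) ∨ Fpf g := by
  by_cases hf : Fpf g
  · exact Or.inr (Or.inr hf)
  · unfold Fpf at hf
    push Not at hf
    obtain ⟨p, hp⟩ := hf
    obtain ⟨u, rfl⟩ := ovoid_eq_smul_inf hF p
    have hfix : (u⁻¹ * g * u) • oInf F m = oInf F m := by
      rw [mul_smul, mul_smul, hp, inv_smul_smul]
    have hge : g = u * (u⁻¹ * g * u) * u⁻¹ := by group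
    obtain ⟨a, b, k, hk⟩ := stab_decomp hF hm hfix
    by_cases hk1 : k = 1
    · left
      subst hk1
      rw [gD_one, mul_one] at hk
      refine ⟨u, a, b, ?_, by rw [← hk]; exact hge⟩
      rintro ⟨rfl, rfl⟩
      apply hg
      rw [hge, hk, gT_zero]
      group
    · right
      left
      obtain ⟨x, y, e⟩ := exists_conj_gD hF a b hk1
      refine ⟨u * gT hF x y, k, hk1, ?_⟩
      rw [hge, hk, e]
      group

theorem gT_pow_four (a b : F) : gT hF a b ^ 4 = 1 := by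
  have := congrArg Subtype.val (qT_pow_four hF a b)
  rw [Subgroup.coe_pow, Subgroup.coe_one] at this
  exact this

include hF in
theorem gD_pow_card (k : Fˣ) : gD hF k ^ (2 ^ (2 * m + 1) - 1) = 1 := by
  have h1 : k ^ (2 ^ (2 * m + 1) - 1) = 1 := by
    have := pow_card_eq_one' (G := Fˣ) (x := k)
    rwa [Nat.card_units, Nat.card_eq_fintype_card, hF] at this
  have h2 : gDhom hF (k ^ (2 ^ (2 * m + 1) - 1)) = (gDhom hF k) ^ (2 ^ (2 * m + 1) - 1) :=
    map_pow _ _ _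
  rw [h1, map_one] at h2
  exact h2.symm

theorem conj_pow' {G : Type*} [Group G] (u x : G) (n : ℕ) :
    (u * x * u⁻¹) ^ n = u * x ^ n * u⁻¹ := conj_pow

/-- arithmetic: the three odd orders -/
theorem sz_orders_arith (m : ℕ) :
    Odd (2 ^ (2 * m + 1) - 1) ∧ Odd ((2 ^ (2 * m + 1)) ^ 2 + 1) ∧
      Nat.Coprime (2 ^ (2 * m + 1) - 1) ((2 ^ (2 * m + 1)) ^ 2 + 1) := by
  have hQ : Even (2 ^ (2 * m + 1)) := ⟨2 ^ (2 * m), by rw [pow_succ]; ring⟩
  have hQ1 : 1 ≤ 2 ^ (2 * m + 1) := Nat.one_le_two_pow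
  refine ⟨?_, ?_, ?_⟩
  · obtain ⟨k, hk⟩ := hQ
    rw [hk]
    exact ⟨k - 1, by omega⟩
  · obtain ⟨k, hk⟩ := hQ
    rw [hk]
    exact ⟨2 * k * k, by ring⟩
  · apply Nat.coprime_of_dvd
    intro p hp h1 h2
    obtain ⟨_, _, h3, _, _⟩ := sz_prime_arith hQ hQ1 hp h2
    exact h3 h1

/-- arithmetic of the two exceptional orders -/
theorem sz_k_arith {m : ℕ} (hm : 1 ≤ m) :
    (2 ^ (2 * m + 1) + 2 ^ (m + 1) + 1) * (2 ^ (2 * m + 1) - 2 ^ (m + 1) + 1) =
        (2 ^ (2 * m + 1)) ^ 2 + 1 ∧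
      Nat.Coprime (2 ^ (2 * m + 1) + 2 ^ (m + 1) + 1) (2 ^ (2 * m + 1) - 2 ^ (m + 1) + 1) ∧
      1 < 2 ^ (2 * m + 1) - 2 ^ (m + 1) + 1 ∧ 1 < 2 ^ (2 * m + 1) + 2 ^ (m + 1) + 1 := by
  have hrQ : (2 ^ (m + 1)) ^ 2 = 2 * 2 ^ (2 * m + 1) := by
    rw [← pow_mul, ← pow_succ']
    congr 1
    ring
  have hlt : 2 ^ (m + 1) < 2 ^ (2 * m + 1) := Nat.pow_lt_pow_right (by norm_num) (by omega)
  have hr2 : 2 ^ (m + 1) = 2 * 2 ^ m := by rw [pow_succ]; ring
  generalize 2 ^ (2 * m + 1) = Q at *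
  generalize 2 ^ (m + 1) = r at *
  obtain ⟨d, rfl⟩ : ∃ d, Q = r + d := ⟨Q - r, by omega⟩
  have e1 : r + d - r + 1 = d + 1 := by omega
  rw [e1]
  refine ⟨?_, ?_, by omega, by omega⟩
  · nlinarith [hrQ]
  · have e2 : r + d + r + 1 = 2 * r + (d + 1) := by ring
    rw [e2, Nat.coprime_add_self_left]
    have hd : Odd (d + 1) := by
      subst hr2
      have h4 : 4 * (2 ^ m) ^ 2 = 2 * (2 * 2 ^ m + d) := by rw [← hrQ]; ring
      generalize (2 ^ m) ^ 2 = s at h4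
      generalize 2 ^ m = t at h4
      exact ⟨s - t, by omega⟩
    have h2 : Nat.Coprime 2 (d + 1) := Nat.coprime_two_left.2 hd
    have e3 : 2 * r = 2 ^ (m + 2) := by rw [hr2]; ring
    rw [e3]
    exact Nat.Coprime.pow_left _ h2

include hF hm in
/-- elements of the point stabiliser normalise the translation group -/
theorem conj_mem_Qs {n : Sz F m} (hn : n • oInf F m = oInf F m) {h : Sz F m}
    (hh : h ∈ Qs hF) : n * h * n⁻¹ ∈ Qs hF := by
  obtain ⟨a', b', k, rfl⟩ := stab_decomp hF hm hn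
  obtain ⟨a, b, rfl⟩ := (mem_Qs hF).1 hh
  have e : gT hF a' b' * gD hF k * gT hF a b * (gT hF a' b' * gD hF k)⁻¹ =
      gT hF a' b' * gT hF ((k : F) ^ 2 * a) ((k : F) ^ 2 * szθ m (k : F) ^ 2 * b) *
        (gT hF a' b')⁻¹ := by
    have e1 : gT hF a' b' * gD hF k * gT hF a b * (gT hF a' b' * gD hF k)⁻¹ =
        gT hF a' b' * (gD hF k * gT hF a b) * (gD hF k)⁻¹ * (gT hF a' b')⁻¹ := by group
    rw [e1, gD_gT]
    group
  rw [e]
  exact (Qs hF).mul_mem ((Qs hF).mul_mem (gT_mem_Qs hF _ _) (gT_mem_Qs hF _ _))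
    ((Qs hF).inv_mem (gT_mem_Qs hF _ _))

include hF hm in
/-- every Sylow 2-subgroup is a conjugate of the translation group -/
theorem sylow_two_conj (P : Sylow 2 (Sz F m)) :
    ∃ x : Sz F m, ∀ g : Sz F m, g ∈ P ↔ x⁻¹ * g * x ∈ Qs hF := by
  have : Finite (Sz F m) := finite_Sz hF hm
  obtain ⟨x, hx⟩ := MulAction.exists_smul_eq (Sz F m) (QsSylow hF hm) P
  refine ⟨x, fun g => ?_⟩
  rw [← hx]
  change g ∈ ((x • QsSylow hF hm : Sylow 2 (Sz F m)) : Subgroup (Sz F m)) ↔ _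
  rw [Sylow.coe_subgroup_smul, Subgroup.mem_pointwise_smul_iff_inv_smul_mem, coe_QsSylow,
    MulAut.smul_def, ← map_inv, MulAut.conj_apply, inv_inv]

include hF hm in
/-- distinct Sylow 2-subgroups meet trivially -/
theorem sylow_two_eq_of_mem {P P' : Sylow 2 (Sz F m)} {g : Sz F m} (hg : g ≠ 1) (h : g ∈ P)
    (h' : g ∈ P') : P = P' := by
  obtain ⟨x, hx⟩ := sylow_two_conj hF hm P
  obtain ⟨y, hy⟩ := sylow_two_conj hF hm P'
  obtain ⟨a, b, hab⟩ := (mem_Qs hF).1 ((hx g).1 h)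
  obtain ⟨a', b', hab'⟩ := (mem_Qs hF).1 ((hy g).1 h')
  have hne : ¬ (a = 0 ∧ b = 0) := by
    rintro ⟨rfl, rfl⟩
    rw [gT_zero] at hab
    apply hg
    calc g = x * (x⁻¹ * g * x) * x⁻¹ := by group
      _ = 1 := by rw [hab]; group
  -- `x⁻¹ * y` fixes the point at infinity
  have hfix : (x⁻¹ * y) • oInf F m = oInf F m := by
    apply gT_fixed hF hne
    rw [← hab]
    have e : x⁻¹ * g * x * (x⁻¹ * y) = x⁻¹ * y * (y⁻¹ * g * y) := by group
    rw [← mul_smul, e, hab', mul_smul, gT_oInf]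
  have hfix' : (x⁻¹ * y)⁻¹ • oInf F m = oInf F m := by
    rw [inv_smul_eq_iff, hfix]
  apply Sylow.ext
  apply Subgroup.ext
  intro c
  change c ∈ P ↔ c ∈ P'
  rw [hx c, hy c]
  constructor
  · intro hc
    have := conj_mem_Qs hF hm hfix' hc
    have e : (x⁻¹ * y)⁻¹ * (x⁻¹ * c * x) * (x⁻¹ * y)⁻¹⁻¹ = y⁻¹ * c * y := by group
    rwa [e] at this
  · intro hc
    have := conj_mem_Qs hF hm hfix hc
    have e : x⁻¹ * y * (y⁻¹ * c * y) * (x⁻¹ * y)⁻¹ = x⁻¹ * c * x := by group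
    rwa [e] at this

theorem orderOf_eq_one_of_dvd_coprime {G : Type*} [Group G] {g : G} {a b : ℕ}
    (ha : orderOf g ∣ a) (hb : orderOf g ∣ b) (hab : Nat.Coprime a b) : g = 1 := by
  rw [← orderOf_eq_one_iff]
  exact Nat.eq_one_of_dvd_coprimes hab ha hb

theorem le_centralizer_of_isCyclic {G : Type*} [Group G] {U : Subgroup G} (hU : IsCyclic U)
    {g : G} (hg : g ∈ U) : U ≤ Subgroup.centralizer ({g} : Set G) := by
  intro c hc
  rw [Subgroup.mem_centralizer_singleton_iff]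
  let _ : CommGroup U := IsCyclic.commGroup
  have := mul_comm (⟨c, hc⟩ : U) ⟨g, hg⟩
  exact congrArg Subtype.val this

/-- the conjugate torus -/
def torusConj (u : Sz F m) : Subgroup (Sz F m) :=
  ((gDhom hF : Fˣ →* Sz F m).range).map (MulAut.conj u).toMonoidHom

include hF in
theorem card_torusConj (u : Sz F m) : Nat.card (torusConj hF u) = 2 ^ (2 * m + 1) - 1 := by
  unfold torusConj
  rw [Subgroup.card_map_of_injective (MulAut.conj u).injective, card_gDhom_range hF]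

theorem isCyclic_torusConj (u : Sz F m) : IsCyclic (torusConj hF u) := by
  have h1 : IsCyclic (gDhom hF : Fˣ →* Sz F m).range :=
    isCyclic_of_surjective (gDhom hF : Fˣ →* Sz F m).rangeRestrict
      (MonoidHom.rangeRestrict_surjective _)
  unfold torusConj
  exact isCyclic_of_surjective ((MulAut.conj u).toMonoidHom.subgroupMap _)
    (MonoidHom.subgroupMap_surjective _ _)

theorem mem_torusConj (u : Sz F m) (k : Fˣ) : u * gD hF k * u⁻¹ ∈ torusConj hF u :=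
  ⟨gD hF k, ⟨k, rfl⟩, by simp [MulAut.conj_apply]⟩

include hF hm in
/-- a cyclic subgroup of order `q - 1` containing a nontrivial torus element is the torus -/
theorem eq_torusConj {u : Sz F m} {k : Fˣ} (hk : k ≠ 1) {U : Subgroup (Sz F m)}
    (hU : IsCyclic U) (hcard : Nat.card U = 2 ^ (2 * m + 1) - 1)
    (hg : u * gD hF k * u⁻¹ ∈ U) : U = torusConj hF u := by
  have : Finite (Sz F m) := finite_Sz hF hm
  have hle : U ≤ torusConj hF u := by
    refine le_trans (le_centralizer_of_isCyclic hU hg) ?_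
    rw [centralizer_conj_eq]
    unfold torusConj
    exact Subgroup.map_mono (centralizer_gD_le hF hm hk)
  apply Subgroup.eq_of_le_of_card_ge hle
  rw [hcard, card_torusConj hF]

include hF hm in
/-- a cyclic subgroup of order `q ± 2r + 1` containing a fixed-point-free element is its
centraliser -/
theorem eq_centralizer_of_fpf {g : Sz F m} (hg : Fpf g) {U : Subgroup (Sz F m)}
    (hU : IsCyclic U)
    (hcard : Nat.card U = 2 ^ (2 * m + 1) + 2 ^ (m + 1) + 1 ∨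
      Nat.card U = 2 ^ (2 * m + 1) - 2 ^ (m + 1) + 1)
    (hgU : g ∈ U) : U = Subgroup.centralizer ({g} : Set (Sz F m)) := by
  have : Finite (Sz F m) := finite_Sz hF hm
  have hle := le_centralizer_of_isCyclic hU hgU
  have hdvd := Subgroup.card_dvd_of_le hle
  obtain ⟨hprod, hcop, h2, h1⟩ := sz_k_arith hm
  have hc := hg.cOrd_eq hF hm
  unfold cOrd at hc
  apply Subgroup.eq_of_le_of_card_ge hle
  rcases hcard with h | h <;> rcases hc with h' | h'
  · rw [h, h']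
  · exfalso
    rw [h, h'] at hdvd
    have := hcop.eq_one_of_dvd hdvd
    omega
  · exfalso
    rw [h, h'] at hdvd
    have := hcop.symm.eq_one_of_dvd hdvd
    omega
  · rw [h, h']

theorem orderOf_two_pow_of_mem_sylow {G : Type*} [Group G] (P : Sylow 2 G) {g : G} (hg : g ∈ P) :
    ∃ j : ℕ, orderOf g = 2 ^ j := by
  obtain ⟨j, hj⟩ := (IsPGroup.iff_orderOf.1 P.isPGroup') ⟨g, hg⟩
  exact ⟨j, by rw [← hj, Subgroup.orderOf_mk]⟩

theorem eq_one_of_two_pow_of_odd {G : Type*} [Group G] {g : G} {j N : ℕ}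
    (hj : orderOf g = 2 ^ j) (hd : orderOf g ∣ N) (hN : Odd N) : g = 1 := by
  rw [← orderOf_eq_one_iff, hj]
  rcases Nat.eq_zero_or_pos j with rfl | hpos
  · rfl
  · exfalso
    rw [hj] at hd
    have h2 : 2 ∣ N := dvd_trans (dvd_pow_self 2 hpos.ne') hd
    obtain ⟨c, hc⟩ := hN
    omega

include hF hm in
/-- the partition of the Suzuki group by its Sylow 2-subgroups and cyclic tori -/
theorem sz_partition (g : Sz F m) (hg : g ≠ 1) :
    ∃! U : Subgroup (Sz F m), ((∃ P : Sylow 2 (Sz F m), U = (P : Subgroup (Sz F m))) ∨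
      (IsCyclic U ∧ Nat.card U ∈ ({2 ^ (2 * m + 1) - 1, 2 ^ (2 * m + 1) + 2 ^ (m + 1) + 1,
        2 ^ (2 * m + 1) - 2 ^ (m + 1) + 1} : Set ℕ))) ∧ g ∈ U := by
  have hfin : Finite (Sz F m) := finite_Sz hF hm
  obtain ⟨hodd1, hodd2, hcop⟩ := sz_orders_arith m
  obtain ⟨hprod, hcopk, hk2, hk1⟩ := sz_k_arith hm
  have hd1 : 2 ^ (2 * m + 1) + 2 ^ (m + 1) + 1 ∣ (2 ^ (2 * m + 1)) ^ 2 + 1 :=
    ⟨_, hprod.symm⟩
  have hd2 : 2 ^ (2 * m + 1) - 2 ^ (m + 1) + 1 ∣ (2 ^ (2 * m + 1)) ^ 2 + 1 :=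
    Dvd.intro_left _ hprod
  -- what membership in a piece says about the order
  have hpiece : ∀ U : Subgroup (Sz F m), g ∈ U →
      (IsCyclic U ∧ Nat.card U ∈ ({2 ^ (2 * m + 1) - 1, 2 ^ (2 * m + 1) + 2 ^ (m + 1) + 1,
        2 ^ (2 * m + 1) - 2 ^ (m + 1) + 1} : Set ℕ)) →
      (Nat.card U = 2 ^ (2 * m + 1) - 1 ∧ orderOf g ∣ 2 ^ (2 * m + 1) - 1) ∨
      ((Nat.card U = 2 ^ (2 * m + 1) + 2 ^ (m + 1) + 1 ∨
        Nat.card U = 2 ^ (2 * m + 1) - 2 ^ (m + 1) + 1) ∧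
        orderOf g ∣ (2 ^ (2 * m + 1)) ^ 2 + 1) := by
    intro U hgU hU
    have hdvd : orderOf g ∣ Nat.card U := Subgroup.orderOf_dvd_natCard U hgU
    rcases hU.2 with h | h | h
    · left
      exact ⟨h, h ▸ hdvd⟩
    · right
      exact ⟨Or.inl h, dvd_trans (h ▸ hdvd) hd1⟩
    · right
      rw [Set.mem_singleton_iff] at h
      exact ⟨Or.inr h, dvd_trans (h ▸ hdvd) hd2⟩
  rcases sz_trichotomy hF hm hg with ⟨u, a, b, hab, rfl⟩ | ⟨u, k, hk, rfl⟩ | hfpf
  · -- a 2-element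
    have hpow : (u * gT hF a b * u⁻¹) ^ 4 = 1 := by
      rw [conj_pow', gT_pow_four]
      group
    have hord : orderOf (u * gT hF a b * u⁻¹) ∣ 4 := orderOf_dvd_of_pow_eq_one hpow
    have hord2 : ∃ j, orderOf (u * gT hF a b * u⁻¹) = 2 ^ j := by
      have : orderOf (u * gT hF a b * u⁻¹) ∣ 2 ^ 2 := hord
      obtain ⟨j, _, hj⟩ := (Nat.dvd_prime_pow Nat.prime_two).1 this
      exact ⟨j, hj⟩
    obtain ⟨j, hj⟩ := hord2
    have hmemP : u * gT hF a b * u⁻¹ ∈ (u • QsSylow hF hm : Sylow 2 (Sz F m)) := by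
      change _ ∈ ((u • QsSylow hF hm : Sylow 2 (Sz F m)) : Subgroup (Sz F m))
      rw [Sylow.coe_subgroup_smul, coe_QsSylow]
      have := Subgroup.smul_mem_pointwise_smul _ (MulAut.conj u) _ (gT_mem_Qs hF a b)
      rwa [MulAut.smul_def, MulAut.conj_apply] at this
    refine ⟨((u • QsSylow hF hm : Sylow 2 (Sz F m)) : Subgroup (Sz F m)),
      ⟨Or.inl ⟨_, rfl⟩, hmemP⟩, ?_⟩
    rintro U ⟨hU | hU, hgU⟩
    · obtain ⟨P', rfl⟩ := hU
      rw [sylow_two_eq_of_mem hF hm hg hgU hmemP]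
    · exfalso
      rcases hpiece U hgU hU with ⟨_, hd⟩ | ⟨_, hd⟩
      · exact hg (eq_one_of_two_pow_of_odd hj hd hodd1)
      · exact hg (eq_one_of_two_pow_of_odd hj hd hodd2)
  · -- a torus element
    have hpow : (u * gD hF k * u⁻¹) ^ (2 ^ (2 * m + 1) - 1) = 1 := by
      rw [conj_pow', gD_pow_card hF]
      group
    have hord : orderOf (u * gD hF k * u⁻¹) ∣ 2 ^ (2 * m + 1) - 1 :=
      orderOf_dvd_of_pow_eq_one hpow
    refine ⟨torusConj hF u, ⟨Or.inr ⟨isCyclic_torusConj hF u, ?_⟩, mem_torusConj hF u k⟩, ?_⟩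
    · rw [card_torusConj hF]
      exact Set.mem_insert _ _
    rintro U ⟨hU | hU, hgU⟩
    · exfalso
      obtain ⟨P', rfl⟩ := hU
      obtain ⟨j, hj⟩ := orderOf_two_pow_of_mem_sylow P' hgU
      exact hg (eq_one_of_two_pow_of_odd hj hord hodd1)
    · rcases hpiece U hgU hU with ⟨hc, _⟩ | ⟨_, hd⟩
      · exact eq_torusConj hF hm hk hU.1 hc hgU
      · exfalso
        exact hg (orderOf_eq_one_of_dvd_coprime hord hd hcop)
  · -- a fixed-point-free element
    have hgC : g ∈ Subgroup.centralizer ({g} : Set (Sz F m)) :=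
      Subgroup.mem_centralizer_singleton_iff.2 rfl
    have hord : orderOf g ∣ (2 ^ (2 * m + 1)) ^ 2 + 1 :=
      dvd_trans (Subgroup.orderOf_dvd_natCard _ hgC) (hfpf.card_centralizer_dvd hF hm)
    have hc := hfpf.cOrd_eq hF hm
    unfold cOrd at hc
    refine ⟨Subgroup.centralizer ({g} : Set (Sz F m)),
      ⟨Or.inr ⟨hfpf.centralizer_isCyclic hF hm, ?_⟩, hgC⟩, ?_⟩
    · rcases hc with h | h
      · rw [h]
        exact Set.mem_insert_of_mem _ (Set.mem_insert _ _)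
      · rw [h]
        exact Set.mem_insert_of_mem _ (Set.mem_insert_of_mem _ rfl)
    rintro U ⟨hU | hU, hgU⟩
    · exfalso
      obtain ⟨P', rfl⟩ := hU
      obtain ⟨j, hj⟩ := orderOf_two_pow_of_mem_sylow P' hgU
      exact hg (eq_one_of_two_pow_of_odd hj hord hodd2)
    · rcases hpiece U hgU hU with ⟨_, hd⟩ | ⟨hcard, _⟩
      · exfalso
        exact hg (orderOf_eq_one_of_dvd_coprime hd hord hcop)
      · exact eq_centralizer_of_fpf hF hm hfpf hU.1 hcard hgU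

end

end Cfsg.Agent.Lib.helper3
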