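import Mathlib
import Cfsg.Prelude.Def_LieExceptional
import Cfsg.Agent.Lib.helper3.SuzukiSimple
import Cfsg.Agent.Lib.helper3.SuzukiSylow

set_option autoImplicit false

namespace Cfsg.Agent.Lib.helper3

open Cfsg Matrix Polynomial

variable {F : Type*} [Field F] [Fintype F] {m : ℕ} (hF : Fintype.card F = 2 ^ (2 * m + 1))
variable (K' : Subfield F) {k : ℕ} (hK' : Nat.card K' = 2 ^ (2 * k + 1))

include hK' in
omit [Fintype F] in
theorem subK_pow_card {x : F} (hx : x ∈ K') : x ^ (2 ^ (2 * k + 1)) = x := by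
  classical
  have : Finite K' := Nat.finite_of_card_ne_zero (by rw [hK']; positivity)
  have : Fintype K' := Fintype.ofFinite K'
  have h := FiniteField.pow_card (⟨x, hx⟩ : K')
  rw [← Nat.card_eq_fintype_card, hK'] at h
  exact congrArg Subtype.val h

include hK' in
/-- the roots of `X ^ s - X` are the elements of the subfield of order `s` -/
theorem subK_of_pow_card {x : F} (hx : x ^ (2 ^ (2 * k + 1)) = x) : x ∈ K' := by
  classical
  have hfin : Finite K' := Nat.finite_of_card_ne_zero (by rw [hK']; positivity)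
  have hs : 1 < 2 ^ (2 * k + 1) := Nat.one_lt_two_pow (by omega)
  set p : F[X] := X ^ (2 ^ (2 * k + 1)) - X with hp
  have hp0 : p ≠ 0 := FiniteField.X_pow_card_sub_X_ne_zero F hs
  have hdeg : p.natDegree = 2 ^ (2 * k + 1) := FiniteField.X_pow_card_sub_X_natDegree_eq F hs
  set A : Finset F := Finset.univ.filter (fun y => y ∈ K') with hA
  have hAcard : A.card = 2 ^ (2 * k + 1) := by
    rw [← hK', hA, ← Fintype.card_subtype, Nat.card_eq_fintype_card]
  have hAsub : A ⊆ p.roots.toFinset := by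
    intro y hy
    rw [hA, Finset.mem_filter] at hy
    rw [Multiset.mem_toFinset, mem_roots hp0, IsRoot, hp, eval_sub, eval_pow, eval_X,
      subK_pow_card K' hK' hy.2, sub_self]
  have hle : p.roots.toFinset.card ≤ A.card := by
    rw [hAcard, ← hdeg]
    exact (Multiset.toFinset_card_le _).trans (card_roots' p)
  have heq := Finset.eq_of_subset_of_card_le hAsub hle
  have hx' : x ∈ p.roots.toFinset := by
    rw [Multiset.mem_toFinset, mem_roots hp0, IsRoot, hp, eval_sub, eval_pow, eval_X, hx,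
      sub_self]
  rw [← heq, hA, Finset.mem_filter] at hx'
  exact hx'.2

include hF hK' in
theorem subK_of_sq {x : F} (hx : x ^ 2 ∈ K') : x ∈ K' := by
  have h2 := sz_two hF
  have h1 : (x ^ 2) ^ (2 ^ (2 * k)) ∈ K' := pow_mem hx _
  have h3 : ((x ^ 2) ^ (2 ^ (2 * k))) ^ 2 = x ^ 2 := by
    rw [← pow_mul, ← pow_succ]
    exact subK_pow_card K' hK' hx
  have h4 : (x ^ 2) ^ (2 ^ (2 * k)) = x := by
    have : ((x ^ 2) ^ (2 ^ (2 * k)) - x) ^ 2 = 0 := by
      linear_combination h3 + (x ^ 2 - (x ^ 2) ^ (2 ^ (2 * k)) * x) * h2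
    exact sub_eq_zero.1 (pow_eq_zero_iff (two_ne_zero) |>.1 this)
  rw [← h4]
  exact h1

omit [Fintype F] in
theorem subK_szθ {x : F} (hx : x ∈ K') : szθ m x ∈ K' := pow_mem hx _

include hK' in
omit [Fintype F] in
/-- square roots in the subfield -/
theorem subK_exists_sqrt {x : F} (hx : x ∈ K') : ∃ y ∈ K', y ^ 2 = x := by
  refine ⟨x ^ (2 ^ (2 * k)), pow_mem hx _, ?_⟩
  rw [← pow_mul, ← pow_succ]
  exact subK_pow_card K' hK' hx

include hK' in
omit [Fintype F] in
/-- for `k ≥ 1` the subfield has an element other than `0` and `1` -/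
theorem subK_exists_ne (hk : 1 ≤ k) : ∃ μ ∈ K', μ ≠ 0 ∧ μ ≠ 1 := by
  classical
  have hfin : Finite K' := Nat.finite_of_card_ne_zero (by rw [hK']; positivity)
  have : Fintype K' := Fintype.ofFinite K'
  have hc : 2 < Fintype.card K' := by
    rw [← Nat.card_eq_fintype_card, hK']
    calc 2 < 2 ^ 3 := by norm_num
      _ ≤ 2 ^ (2 * k + 1) := Nat.pow_le_pow_right (by norm_num) (by omega)
  have hc' : ({(0 : K'), 1} : Finset K').card < (Finset.univ : Finset K').card := by
    rw [Finset.card_univ]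
    exact lt_of_le_of_lt (Finset.card_insert_le _ _) (by simpa using hc)
  obtain ⟨μ, _, hμ⟩ := Finset.exists_mem_notMem_of_card_lt_card hc'
  rw [Finset.mem_insert, Finset.mem_singleton, not_or] at hμ
  refine ⟨μ, μ.2, ?_, ?_⟩
  · intro h
    exact hμ.1 (Subtype.ext h)
  · intro h
    exact hμ.2 (Subtype.ext h)

include hF in
/-- only `0` and `1` are fixed by the Tits endomorphism -/
theorem szθ_add_self_ne_zero {μ : F} (h0 : μ ≠ 0) (h1 : μ ≠ 1) : μ + szθ m μ ≠ 0 := by
  have h2 := sz_two hF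
  intro h
  have e1 : szθ m μ = μ := by linear_combination h - μ * h2
  have e2 : μ ^ 2 = μ := by
    rw [← szθ_szθ hF, e1, e1]
  have : μ * (μ - 1) = 0 := by linear_combination e2
  rcases mul_eq_zero.1 this with h' | h'
  · exact h0 h'
  · exact h1 (sub_eq_zero.1 h')

include hF in
/-- the inverse of the norm-like map `a ↦ a θ(a)` -/
theorem szθ_div_self_mul {β : F} (hβ : β ≠ 0) :
    (szθ m β / β) * szθ m (szθ m β / β) = β := by
  have hθ : szθ m β ≠ 0 := szθ_ne_zero m hβ
  rw [szθ_div, szθ_szθ hF]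
  field_simp

end Cfsg.Agent.Lib.helper3
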