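import Mathlib
import Cfsg.Prelude.Def_LieExceptional
import Cfsg.Agent.Lib.helper3.SuzukiSimple

set_option autoImplicit false

namespace Cfsg.Agent.Lib.helper3

open Cfsg Matrix

variable {F : Type*} [Field F] [Fintype F] {m : ℕ}

omit [Fintype F] in
theorem map_szθ (σ : F ≃+* F) (a : F) : σ (szθ m a) = szθ m (σ a) := map_pow σ a _

omit [Fintype F] in
theorem map_szf (σ : F ≃+* F) (a b : F) : σ (szf m a b) = szf m (σ a) (σ b) := by
  unfold szf
  simp only [map_add, map_mul, map_pow]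

/-- the entrywise action of a field automorphism on `SL₄` -/
def slMap (σ : F ≃+* F) :
    Matrix.SpecialLinearGroup (Fin 4) F →* Matrix.SpecialLinearGroup (Fin 4) F :=
  Matrix.SpecialLinearGroup.map (σ : F →+* F)

omit [Fintype F] in
theorem slMap_apply (σ : F ≃+* F) (g : Matrix.SpecialLinearGroup (Fin 4) F) (i j : Fin 4) :
    (slMap σ g : Matrix (Fin 4) (Fin 4) F) i j = σ ((g : Matrix (Fin 4) (Fin 4) F) i j) := rfl

omit [Fintype F] in
theorem slMap_szT (σ : F ≃+* F) (a b : F) : slMap σ (szT m a b) = szT m (σ a) (σ b) := by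
  apply Subtype.ext
  ext i j
  rw [slMap_apply]
  change σ (szTmat m a b i j) = szTmat m (σ a) (σ b) i j
  fin_cases i <;> fin_cases j <;>
    simp [szTmat, map_szθ, map_szf]

omit [Fintype F] in
theorem slMap_szJ (σ : F ≃+* F) : slMap σ (szJ F) = szJ F := by
  apply Subtype.ext
  ext i j
  rw [slMap_apply]
  change σ (szJmat F i j) = szJmat F i j
  fin_cases i <;> fin_cases j <;> simp [szJmat]

omit [Fintype F] in
theorem slMap_szD (σ : F ≃+* F) (k : Fˣ) :
    slMap σ (szD m k) = szD m (Units.map (σ : F →* F) k) := by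
  apply Subtype.ext
  ext i j
  rw [slMap_apply]
  change σ (szDmat m (k : F) i j) = szDmat m (σ (k : F)) i j
  fin_cases i <;> fin_cases j <;>
    simp [szDmat, map_szθ]

variable (hF : Fintype.card F = 2 ^ (2 * m + 1)) (hm : 1 ≤ m)

include hF hm in
theorem slMap_mem (σ : F ≃+* F) {g : Matrix.SpecialLinearGroup (Fin 4) F} (hg : g ∈ Sz F m) :
    slMap σ g ∈ Sz F m := by
  rcases Sz_decomp hm hF hg with ⟨a, b, k, h⟩ | ⟨a, b, a', b', k, h⟩
  · rw [h, map_mul, slMap_szT, slMap_szD]
    exact (Sz F m).mul_mem (szT_mem hF _ _) (szD_mem hF _)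
  · rw [h, map_mul, map_mul, map_mul, slMap_szT, slMap_szT, slMap_szJ, slMap_szD]
    exact (Sz F m).mul_mem ((Sz F m).mul_mem (szT_mem hF _ _) (szJ_mem hF))
      ((Sz F m).mul_mem (szT_mem hF _ _) (szD_mem hF _))

/-- the action of a field automorphism on the Suzuki group, as a homomorphism -/
def fieldHom (σ : F ≃+* F) : Sz F m →* Sz F m :=
  ((slMap σ).comp (Sz F m).subtype).codRestrict (Sz F m) (fun g => slMap_mem hF hm σ g.2)

theorem fieldHom_coe (σ : F ≃+* F) (g : Sz F m) :
    ((fieldHom hF hm σ g : Sz F m) : Matrix.SpecialLinearGroup (Fin 4) F) = slMap σ g.1 := rfl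

theorem fieldHom_symm (σ : F ≃+* F) (g : Sz F m) :
    fieldHom hF hm σ.symm (fieldHom hF hm σ g) = g := by
  apply Subtype.ext
  apply Subtype.ext
  ext i j
  rw [fieldHom_coe, slMap_apply, fieldHom_coe, slMap_apply, RingEquiv.symm_apply_apply]

/-- the action of a field automorphism on the Suzuki group -/
def fieldAut (σ : F ≃+* F) : MulAut (Sz F m) :=
  MonoidHom.toMulEquiv (fieldHom hF hm σ) (fieldHom hF hm σ.symm)
    (MonoidHom.ext (fieldHom_symm hF hm σ))
    (MonoidHom.ext (by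
      intro g
      have := fieldHom_symm hF hm σ.symm g
      rwa [RingEquiv.symm_symm] at this))

theorem fieldAut_apply (σ : F ≃+* F) (g : Sz F m) : fieldAut hF hm σ g = fieldHom hF hm σ g := rfl

theorem fieldAut_gT (σ : F ≃+* F) (a b : F) :
    fieldAut hF hm σ (gT hF a b) = gT hF (σ a) (σ b) :=
  Subtype.ext (slMap_szT σ a b)

theorem fieldAut_gJ (σ : F ≃+* F) : fieldAut hF hm σ (gJ hF) = gJ hF :=
  Subtype.ext (slMap_szJ σ)

theorem fieldAut_gD (σ : F ≃+* F) (k : Fˣ) :
    fieldAut hF hm σ (gD hF k) = gD hF (Units.map (σ : F →* F) k) :=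
  Subtype.ext (slMap_szD σ k)

end Cfsg.Agent.Lib.helper3
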