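import Mathlib
import Cfsg.Prelude.Def_Sz
import Cfsg.Prelude.Def_LieExceptional
import Cfsg.Agent.Lib.helper3.SuzukiAlg
import Cfsg.Agent.Lib.helper3.SuzukiGroup

set_option autoImplicit false

namespace Cfsg.Agent.Lib.helper3

open Cfsg Cfsg.Lie Matrix

variable {F : Type*} [Field F]

/-- the Pluecker coordinate of the pair `v`, `u` at the index pair `p` -/
def plk (v u : Fin 4 → F) (p : Fin 4) : F :=
  v (pairOf p).1 * u (pairOf p).2 - v (pairOf p).2 * u (pairOf p).1

/-- absolute points of the Tits polarity -/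
def IsAbs (m : ℕ) (v : Fin 4 → F) : Prop :=
  ∃ (u : Fin 4 → F) (c : F), c ≠ 0 ∧ altForm4 v u = 0 ∧ ∀ p : Fin 4, plk v u p = c * szθ m (v p)

theorem plk_zero (v u : Fin 4 → F) : plk v u 0 = v 0 * u 1 - v 1 * u 0 := rfl
theorem plk_one (v u : Fin 4 → F) : plk v u 1 = v 0 * u 2 - v 2 * u 0 := rfl
theorem plk_two (v u : Fin 4 → F) : plk v u 2 = v 1 * u 3 - v 3 * u 1 := rfl
theorem plk_three (v u : Fin 4 → F) : plk v u 3 = v 2 * u 3 - v 3 * u 2 := rfl

theorem isAbs_e0 (m : ℕ) : IsAbs m (szE0 F) := by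
  refine ⟨![0, 1, 0, 0], 1, one_ne_zero, ?_, ?_⟩
  · simp [altForm4, szE0]
  · intro p
    fin_cases p <;> simp [plk, pairOf, szE0, szθ_zero, szθ_one]

variable [Fintype F] {m : ℕ}

theorem isAbs_szvec (hF : Fintype.card F = 2 ^ (2 * m + 1)) (x y : F) : IsAbs m (szvec m x y) := by
  have h2 := sz_two hF
  refine ⟨![szθ m x * x + y, szθ m x, 1, 0], 1, one_ne_zero, ?_, ?_⟩
  · simp only [altForm4, szvec, Matrix.cons_val_zero, Matrix.cons_val_one, Matrix.cons_val]
    linear_combination (y + x * szθ m x) * h2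
  · intro p
    fin_cases p
    · change plk (szvec m x y) _ 0 = 1 * szθ m (szvec m x y 0)
      rw [plk_zero, one_mul]
      simp only [szvec, Matrix.cons_val_zero, Matrix.cons_val_one]
      rw [szf_eq, szθ_add hF, szθ_add hF, szθ_mul, szθ_mul, szθ_szθ hF, szθ_szθ hF,
        show szθ m (x ^ 2) = szθ m x ^ 2 by rw [sq, szθ_mul, sq]]
      linear_combination (-y ^ 2) * h2
    · change plk (szvec m x y) _ 1 = 1 * szθ m (szvec m x y 1)
      rw [plk_one, one_mul]
      simp only [szvec, Matrix.cons_val_zero, Matrix.cons_val_one, Matrix.cons_val]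
      rw [szf_eq]
      ring
    · change plk (szvec m x y) _ 2 = 1 * szθ m (szvec m x y 2)
      rw [plk_two, one_mul]
      simp only [szvec, Matrix.cons_val_zero, Matrix.cons_val_one, Matrix.cons_val]
      linear_combination (-szθ m x) * h2
    · change plk (szvec m x y) _ 3 = 1 * szθ m (szvec m x y 3)
      rw [plk_three, one_mul]
      simp only [szvec, Matrix.cons_val]
      rw [szθ_one]
      linear_combination (-1 : F) * h2

omit [Fintype F] in
theorem IsAbs.smul {v : Fin 4 → F} (h : IsAbs m v) {t : F} (ht : t ≠ 0) : IsAbs m (t • v) := by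
  obtain ⟨u, c, hc, hB, hp⟩ := h
  refine ⟨u, t * c / szθ m t, ?_, ?_, ?_⟩
  · exact div_ne_zero (mul_ne_zero ht hc) (szθ_ne_zero m ht)
  · simp only [altForm4, Pi.smul_apply, smul_eq_mul] at hB ⊢
    linear_combination t * hB
  · intro p
    have := hp p
    simp only [plk, Pi.smul_apply, smul_eq_mul] at this ⊢
    rw [szθ_mul]
    have hθ : szθ m t ≠ 0 := szθ_ne_zero m ht
    have e : t * c / szθ m t * (szθ m t * szθ m (v p)) = t * (c * szθ m (v p)) := by
      field_simp
    rw [e, ← this]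
    ring

/-- absolute vectors lie on the ovoid -/
theorem IsAbs.eq_smul (hF : Fintype.card F = 2 ^ (2 * m + 1)) {v : Fin 4 → F} (h : IsAbs m v) :
    ∃ c : F, v = c • szE0 F ∨ ∃ x y : F, v = c • szvec m x y := by
  have h2 := sz_two hF
  by_cases h3 : v 3 = 0
  · obtain ⟨u, c, hc, hB, hp⟩ := h
    have e1 := hp 1
    have e2 := hp 2
    have e3 := hp 3
    rw [plk_one] at e1
    rw [plk_two] at e2
    rw [plk_three, h3, szθ_zero, mul_zero, zero_mul, sub_zero] at e3
    rw [h3, zero_mul, sub_zero] at e2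
    simp only [altForm4, h3, zero_mul, add_zero] at hB
    have hv2 : v 2 = 0 := by
      by_contra hne
      have hu3 : u 3 = 0 := by
        rcases mul_eq_zero.1 e3 with h | h
        · exact absurd h hne
        · exact h
      rw [hu3, mul_zero] at e2
      rcases mul_eq_zero.1 e2.symm with h | h
      · exact hc h
      · exact hne (szθ_eq_zero m h)
    rw [hv2, szθ_zero, mul_zero] at e2
    rw [hv2, zero_mul, sub_zero] at e1
    rw [hv2, zero_mul, add_zero] at hB
    have hv1 : v 1 = 0 := by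
      by_contra hne
      have hu3 : u 3 = 0 := by
        rcases mul_eq_zero.1 e2 with h | h
        · exact absurd h hne
        · exact h
      rw [hu3, mul_zero, zero_add] at hB
      have hu2 : u 2 = 0 := by
        rcases mul_eq_zero.1 hB with h | h
        · exact absurd h hne
        · exact h
      rw [hu2, mul_zero] at e1
      rcases mul_eq_zero.1 e1.symm with h | h
      · exact hc h
      · exact hne (szθ_eq_zero m h)
    refine ⟨v 0, Or.inl ?_⟩
    ext i
    fin_cases i <;> simp [szE0, h3, hv2, hv1]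
  · -- normalise the last coordinate
    have h' := h.smul (t := (v 3)⁻¹) (inv_ne_zero h3)
    obtain ⟨u, c, hc, hB, hp⟩ := h'
    set w : Fin 4 → F := (v 3)⁻¹ • v with hw
    have hw3 : w 3 = 1 := by
      rw [hw, Pi.smul_apply, smul_eq_mul, inv_mul_cancel₀ h3]
    have e1 := hp 1
    have e2 := hp 2
    have e3 := hp 3
    rw [plk_one] at e1
    rw [plk_two, hw3, one_mul] at e2
    rw [plk_three, hw3, one_mul, szθ_one, mul_one] at e3
    simp only [altForm4, hw3, one_mul] at hB
    have key : c * (w 0 + w 1 * w 2 + w 2 ^ 2 * szθ m (w 2) + szθ m (w 1)) = 0 := by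
      linear_combination -e1 - w 2 * hB - (w 0 + w 1 * w 2) * e3 - w 2 ^ 2 * e2 +
        (w 0 * w 2 * u 3 + w 1 * w 2 ^ 2 * u 3) * h2
    have key' : w 0 = szf m (w 2) (w 1) := by
      rcases mul_eq_zero.1 key with h | h
      · exact absurd h hc
      · rw [szf_eq]
        linear_combination h - (w 1 * w 2 + w 2 ^ 2 * szθ m (w 2) + szθ m (w 1)) * h2
    refine ⟨v 3, Or.inr ⟨w 2, w 1, ?_⟩⟩
    have hvw : v = v 3 • w := by
      rw [hw, smul_smul, mul_inv_cancel₀ h3, one_smul]
    have hws : w = szvec m (w 2) (w 1) := by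
      ext i
      fin_cases i
      · exact key'
      · rfl
      · rfl
      · exact hw3
    exact hvw.trans (congrArg (fun z => v 3 • z) hws)

omit [Fintype F] in
/-- the `2 × 2` Cauchy–Binet formula, the two missing index pairs cancelling -/
theorem plk_mulVec (h2 : (2 : F) = 0) (M : Matrix (Fin 4) (Fin 4) F) (p : Fin 4)
    (hR : M (pairOf p).1 0 * M (pairOf p).2 3 + M (pairOf p).1 1 * M (pairOf p).2 2 +
      M (pairOf p).1 2 * M (pairOf p).2 1 + M (pairOf p).1 3 * M (pairOf p).2 0 = 0)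
    (v u : Fin 4 → F) (hB : altForm4 v u = 0) :
    plk (M *ᵥ v) (M *ᵥ u) p = ∑ r, star4 M p r * plk v u r := by
  simp only [plk, star4, Matrix.of_apply, Fin.sum_univ_four, Matrix.mulVec, dotProduct,
    altForm4] at hB ⊢
  generalize (pairOf p).1 = k at *
  generalize (pairOf p).2 = l at *
  simp only [pairOf, Matrix.cons_val_zero, Matrix.cons_val_one, Matrix.cons_val] at hB ⊢
  linear_combination (v 1 * u 2 - v 2 * u 1) * hR - (M k 0 * M l 3 + M l 0 * M k 3 + 2 * (M l 1 * M k 2)) * hB +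
    (M k 0 * M l 3 * (v 0 * u 3) + M l 0 * M k 3 * (v 3 * u 0) + M k 0 * M l 3 * (v 2 * u 1) +
      M l 0 * M k 3 * (v 2 * u 1) + M l 1 * M k 2 * (v 0 * u 3) + M l 1 * M k 2 * (v 3 * u 0) +
      2 * (M l 1 * M k 2 * (v 2 * u 1))) * h2

/-- matrices preserving the form `altForm4` -/
def IsSp4 (M : Matrix (Fin 4) (Fin 4) F) : Prop :=
  ∀ u v, altForm4 (M *ᵥ u) (M *ᵥ v) = altForm4 u v

omit [Fintype F] in
theorem altForm4_single (i j : Fin 4) :
    altForm4 (Pi.single i (1 : F)) (Pi.single j (1 : F)) = szJmat F i j := by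
  fin_cases i <;> fin_cases j <;> simp [altForm4, szJmat]

omit [Fintype F] in
theorem transpose_J_mul_apply (M : Matrix (Fin 4) (Fin 4) F) (i j : Fin 4) :
    (Mᵀ * szJmat F * M) i j = altForm4 (M.col i) (M.col j) := by
  simp only [Matrix.mul_apply, Fin.sum_univ_four, altForm4, Matrix.transpose_apply, Matrix.col_apply]
  simp [szJmat]
  ring

omit [Fintype F] in
theorem J_mul_transpose_apply (M : Matrix (Fin 4) (Fin 4) F) (k l : Fin 4) :
    (M * szJmat F * Mᵀ) k l = M k 0 * M l 3 + M k 1 * M l 2 + M k 2 * M l 1 + M k 3 * M l 0 := by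
  simp only [Matrix.mul_apply, Fin.sum_univ_four, Matrix.transpose_apply]
  simp [szJmat]
  ring

omit [Fintype F] in
theorem szJmat_mul_self : szJmat F * szJmat F = 1 := by
  ext i j
  fin_cases i <;> fin_cases j <;> simp [szJmat, Matrix.mul_apply, Fin.sum_univ_four]

omit [Fintype F] in
theorem IsSp4.transpose_mul {M : Matrix (Fin 4) (Fin 4) F} (hM : IsSp4 M) :
    Mᵀ * szJmat F * M = szJmat F := by
  ext i j
  rw [transpose_J_mul_apply, ← altForm4_single, ← hM (Pi.single i 1) (Pi.single j 1),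
    Matrix.mulVec_single_one, Matrix.mulVec_single_one]

omit [Fintype F] in
theorem IsSp4.det_eq_one (h2 : (2 : F) = 0) {M : Matrix (Fin 4) (Fin 4) F} (hM : IsSp4 M) :
    M.det = 1 := by
  have h := congrArg Matrix.det hM.transpose_mul
  rw [Matrix.det_mul, Matrix.det_mul, Matrix.det_transpose, szJmat_det, mul_one] at h
  have h' : (M.det - 1) ^ 2 = 0 := by linear_combination h + (1 - M.det) * h2
  have := pow_eq_zero_iff (two_ne_zero) |>.1 h'
  linear_combination this

omit [Fintype F] in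
theorem IsSp4.mul_transpose {M : Matrix (Fin 4) (Fin 4) F} (hM : IsSp4 M) :
    M * szJmat F * Mᵀ = szJmat F := by
  have h1 : (szJmat F * Mᵀ * szJmat F) * M = 1 := by
    rw [Matrix.mul_assoc, Matrix.mul_assoc, ← Matrix.mul_assoc Mᵀ, hM.transpose_mul,
      szJmat_mul_self]
  have h2 : M * (szJmat F * Mᵀ * szJmat F) = 1 := mul_eq_one_comm.1 h1
  calc M * szJmat F * Mᵀ = M * (szJmat F * Mᵀ * szJmat F) * szJmat F := by
        simp only [Matrix.mul_assoc]
        rw [szJmat_mul_self, Matrix.mul_one]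
    _ = szJmat F := by rw [h2, Matrix.one_mul]

omit [Fintype F] in
theorem IsSp4.row_rel {M : Matrix (Fin 4) (Fin 4) F} (hM : IsSp4 M) (p : Fin 4) :
    M (pairOf p).1 0 * M (pairOf p).2 3 + M (pairOf p).1 1 * M (pairOf p).2 2 +
      M (pairOf p).1 2 * M (pairOf p).2 1 + M (pairOf p).1 3 * M (pairOf p).2 0 = 0 := by
  rw [← J_mul_transpose_apply, hM.mul_transpose]
  fin_cases p <;> simp [pairOf, szJmat]

/-- elements of the generating set of the Lie-type Suzuki group preserve absolute vectors -/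
theorem IsAbs.mulVec (hF : Fintype.card F = 2 ^ (2 * m + 1)) {M : Matrix (Fin 4) (Fin 4) F}
    (hM : IsSp4 M) (hs : star4 M = M.map (fun x => x ^ 2 ^ (m + 1))) {v : Fin 4 → F}
    (hv : IsAbs m v) : IsAbs m (M *ᵥ v) := by
  have h2 := sz_two hF
  obtain ⟨u, c, hc, hB, hp⟩ := hv
  refine ⟨M *ᵥ u, c, hc, by rw [hM, hB], fun p => ?_⟩
  rw [plk_mulVec h2 M p (hM.row_rel p) v u hB, hs]
  simp only [hp, Matrix.map_apply, Fin.sum_univ_four, Matrix.mulVec, dotProduct]
  rw [szθ_add hF, szθ_add hF, szθ_add hF, szθ_mul, szθ_mul, szθ_mul, szθ_mul]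
  unfold szθ
  ring

end Cfsg.Agent.Lib.helper3
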