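import Mathlib
import Cfsg.Prelude.Def_Sz
import Cfsg.Prelude.Def_LieExceptional
import Cfsg.Agent.Lib.helper3.SuzukiAlg
import Cfsg.Agent.Lib.helper3.SuzukiGroup
import Cfsg.Agent.Lib.helper3.SuzukiLieAbs

set_option autoImplicit false

namespace Cfsg.Agent.Lib.helper3

open Cfsg Cfsg.Lie Matrix

variable {F : Type*} [Field F] [Fintype F] {m : ℕ}

theorem szθ_szf (hF : Fintype.card F = 2 ^ (2 * m + 1)) (a b : F) :
    szθ m (szf m a b) = szθ m a * szθ m b + a ^ 2 * szθ m a ^ 2 + b ^ 2 := by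
  rw [szf_eq, szθ_add hF, szθ_add hF, szθ_mul, szθ_mul, szθ_szθ hF, szθ_szθ hF,
    show szθ m (a ^ 2) = szθ m a ^ 2 by rw [sq, szθ_mul, sq]]

theorem isSp4_szTmat (hF : Fintype.card F = 2 ^ (2 * m + 1)) (a b : F) : IsSp4 (szTmat m a b) := by
  have h2 := sz_two hF
  intro u v
  simp only [altForm4, szTmat, Matrix.mulVec, dotProduct, Fin.sum_univ_four, Matrix.of_apply,
    Matrix.cons_val', Matrix.cons_val_zero, Matrix.cons_val_one, Matrix.cons_val,
    Matrix.cons_val_fin_one]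
  linear_combination (a * u 1 * v 3 + a * b * u 3 * v 3 + a * szθ m a * u 2 * v 3 +
    a * szθ m a * u 3 * v 2 + a * u 3 * v 1 + b * u 2 * v 3 + b * u 3 * v 2 + szθ m a * u 2 * v 2 +
    szf m a b * u 3 * v 3) * h2

theorem star4_szTmat (hF : Fintype.card F = 2 ^ (2 * m + 1)) (a b : F) :
    star4 (szTmat m a b) = (szTmat m a b).map (fun x => x ^ 2 ^ (m + 1)) := by
  have h2 := sz_two hF
  have hf := szθ_szf hF a b
  have hab : szθ m (b + a * szθ m a) = szθ m b + szθ m a * a ^ 2 := by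
    rw [szθ_add hF, szθ_mul, szθ_szθ hF]
  have haa := szθ_szθ hF a
  have hfe := szf_eq m a b
  have e : ∀ x : F, x ^ 2 ^ (m + 1) = szθ m x := fun x => rfl
  ext i j
  fin_cases i <;> fin_cases j <;>
    simp [star4, pairOf, szTmat, Matrix.map_apply] <;> simp only [e]
  · rw [hab, hfe]
    linear_combination (-(szθ m a * a ^ 2) - szθ m b) * h2
  · rw [hf, hfe]
    linear_combination (-(szθ m a * szθ m b) - a ^ 2 * szθ m a ^ 2) * h2
  · rw [haa, sq]
  · rw [hfe]
    linear_combination (-szθ m b) * h2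

omit [Fintype F] in
theorem isSp4_szJmat : IsSp4 (szJmat F) := by
  intro u v
  simp only [altForm4, szJmat, Matrix.mulVec, dotProduct, Fin.sum_univ_four, Matrix.of_apply,
    Matrix.cons_val', Matrix.cons_val_zero, Matrix.cons_val_one, Matrix.cons_val,
    Matrix.cons_val_fin_one]
  ring

theorem star4_szJmat (hF : Fintype.card F = 2 ^ (2 * m + 1)) :
    star4 (szJmat F) = (szJmat F).map (fun x => x ^ 2 ^ (m + 1)) := by
  have h2 := sz_two hF
  have h1 : (-1 : F) = 1 := by linear_combination (-1 : F) * h2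
  ext i j
  fin_cases i <;> fin_cases j <;>
    simp [star4, pairOf, szJmat, Matrix.map_apply, h1]

omit [Fintype F] in
theorem isSp4_szDmat {k : F} (hk : k ≠ 0) : IsSp4 (szDmat m k) := by
  have hθ : szθ m k ≠ 0 := szθ_ne_zero m hk
  intro u v
  simp only [altForm4, szDmat, Matrix.mulVec, dotProduct, Fin.sum_univ_four, Matrix.of_apply,
    Matrix.cons_val', Matrix.cons_val_zero, Matrix.cons_val_one, Matrix.cons_val,
    Matrix.cons_val_fin_one]
  field_simp
  ring

theorem star4_szDmat (hF : Fintype.card F = 2 ^ (2 * m + 1)) {k : F} (hk : k ≠ 0) :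
    star4 (szDmat m k) = (szDmat m k).map (fun x => x ^ 2 ^ (m + 1)) := by
  have hθ : szθ m k ≠ 0 := szθ_ne_zero m hk
  have hkk := szθ_szθ hF k
  have e : ∀ x : F, x ^ 2 ^ (m + 1) = szθ m x := fun x => rfl
  have hinv : ∀ x : F, szθ m x⁻¹ = (szθ m x)⁻¹ := fun x => inv_pow x _
  have hsq : szθ m (k ^ 2) = szθ m k ^ 2 := by rw [sq, szθ_mul, sq]
  ext i j
  fin_cases i <;> fin_cases j <;>
    simp [star4, pairOf, szDmat, Matrix.map_apply] <;> simp only [e]
  · rw [szθ_mul, hsq, hkk]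
    ring
  · rw [hkk]
    field_simp
  · rw [hkk]
    field_simp
  · rw [szθ_mul, hinv, hinv, hsq, hkk]
    ring

end Cfsg.Agent.Lib.helper3
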