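import Mathlib
import Cfsg.Prelude.Def_Sz
import Cfsg.Prelude.Def_LieExceptional
import Cfsg.Agent.Lib.helper3.SuzukiSimple
import Cfsg.Agent.Lib.helper3.SuzukiLieAbs
import Cfsg.Agent.Lib.helper3.SuzukiLieGen

set_option autoImplicit false

namespace Cfsg.Agent.Lib.helper3

open Cfsg Cfsg.Lie Matrix

variable {F : Type*} [Field F] [Fintype F] {m : ℕ}

/-- the generating set of the Lie-type Suzuki group -/
def lieGen (F : Type*) [Field F] (m : ℕ) : Set (GL (Fin 4) F) :=
  {g | g ∈ Sp4 F ∧ star4 (g : Matrix (Fin 4) (Fin 4) F) =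
    (g : Matrix (Fin 4) (Fin 4) F).map (fun x => x ^ 2 ^ (m + 1))}

omit [Fintype F] in
theorem lieSz_eq : Cfsg.Lie.Sz F (2 ^ (m + 1)) = Subgroup.closure (lieGen F m) := rfl

omit [Fintype F] in
theorem mem_Sp4_iff (g : GL (Fin 4) F) : g ∈ Sp4 F ↔ IsSp4 (g : Matrix (Fin 4) (Fin 4) F) :=
  Iff.rfl

/-- the embedding of the ovoid stabiliser into the general linear group -/
def szToGL (F : Type*) [Field F] (m : ℕ) : Sz F m →* GL (Fin 4) F :=
  (Matrix.SpecialLinearGroup.toGL).comp (Sz F m).subtype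

omit [Fintype F] in
theorem szToGL_injective : Function.Injective (szToGL F m) := by
  intro g h hgh
  exact Subtype.ext (Matrix.SpecialLinearGroup.toGL_injective hgh)

omit [Fintype F] in
theorem szToGL_coe (g : Sz F m) :
    ((szToGL F m g : GL (Fin 4) F) : Matrix (Fin 4) (Fin 4) F) =
      ((g : Matrix.SpecialLinearGroup (Fin 4) F) : Matrix (Fin 4) (Fin 4) F) := rfl

variable (hF : Fintype.card F = 2 ^ (2 * m + 1))

theorem gT_mem_lieGen (a b : F) : szToGL F m (gT hF a b) ∈ lieGen F m :=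
  ⟨(mem_Sp4_iff _).2 (isSp4_szTmat hF a b), star4_szTmat hF a b⟩

theorem gJ_mem_lieGen : szToGL F m (gJ hF) ∈ lieGen F m :=
  ⟨(mem_Sp4_iff _).2 isSp4_szJmat, star4_szJmat hF⟩

theorem gD_mem_lieGen (k : Fˣ) : szToGL F m (gD hF k) ∈ lieGen F m :=
  ⟨(mem_Sp4_iff _).2 (isSp4_szDmat k.ne_zero), star4_szDmat hF k.ne_zero⟩

include hF in
/-- every element of the generating set comes from the ovoid stabiliser -/
theorem exists_of_mem_lieGen {g : GL (Fin 4) F} (hg : g ∈ lieGen F m) :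
    ∃ h : Sz F m, szToGL F m h = g := by
  have h2 := sz_two hF
  have hsp : IsSp4 (g : Matrix (Fin 4) (Fin 4) F) := (mem_Sp4_iff g).1 hg.1
  have hdet : (g : Matrix (Fin 4) (Fin 4) F).det = 1 := hsp.det_eq_one h2
  let g' : Matrix.SpecialLinearGroup (Fin 4) F := ⟨(g : Matrix (Fin 4) (Fin 4) F), hdet⟩
  have hmem : g' ∈ Sz F m := by
    apply mem_Sz_of_maps
    intro p hp
    have key : ∀ v : Fin 4 → F, ∀ hv : v ≠ 0, IsAbs m v →
        g' • Projectivization.mk F v hv ∈ suzukiOvoid F m := by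
      intro v hv habs
      rw [Projectivization.smul_mk]
      have h1 : IsAbs m (g' • v) := habs.mulVec hF hsp hg.2
      obtain ⟨c, h | ⟨x, y, h⟩⟩ := h1.eq_smul hF
      · rw [mk_eq_szInf _ h]
        exact szInf_mem m
      · rw [mk_eq_szPt m _ h]
        exact szPt_mem m x y
    rcases (mem_ovoid_iff m p).1 hp with rfl | ⟨x, y, rfl⟩
    · exact key _ _ (isAbs_e0 m)
    · exact key _ _ (isAbs_szvec hF x y)
  exact ⟨⟨g', hmem⟩, Units.ext rfl⟩

variable (hm : 1 ≤ m)

include hF hm in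
theorem range_szToGL : (szToGL F m).range = Cfsg.Lie.Sz F (2 ^ (m + 1)) := by
  rw [lieSz_eq]
  apply le_antisymm
  · rintro _ ⟨g, rfl⟩
    have hT : ∀ a b : F, szToGL F m (gT hF a b) ∈ Subgroup.closure (lieGen F m) := fun a b =>
      Subgroup.subset_closure (gT_mem_lieGen hF a b)
    have hJ : szToGL F m (gJ hF) ∈ Subgroup.closure (lieGen F m) :=
      Subgroup.subset_closure (gJ_mem_lieGen hF)
    have hD : ∀ k : Fˣ, szToGL F m (gD hF k) ∈ Subgroup.closure (lieGen F m) := fun k =>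
      Subgroup.subset_closure (gD_mem_lieGen hF k)
    rcases full_decomp hF hm g with ⟨a, b, k, rfl⟩ | ⟨a, b, a', b', k, rfl⟩
    · rw [map_mul]
      exact Subgroup.mul_mem _ (hT a b) (hD k)
    · rw [map_mul, map_mul, map_mul]
      exact Subgroup.mul_mem _ (Subgroup.mul_mem _ (hT a b) hJ)
        (Subgroup.mul_mem _ (hT a' b') (hD k))
  · rw [Subgroup.closure_le]
    intro g hg
    obtain ⟨h, rfl⟩ := exists_of_mem_lieGen hF hg
    exact ⟨h, rfl⟩

/-- the two descriptions of the Suzuki group agree -/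
noncomputable def szLieEquiv : Sz F m ≃* Cfsg.Lie.Sz F (2 ^ (m + 1)) :=
  (MonoidHom.ofInjective (szToGL_injective (F := F) (m := m))).trans
    (MulEquiv.subgroupCongr (range_szToGL hF hm))

theorem szLieEquiv_coe (g : Sz F m) :
    ((szLieEquiv hF hm g : Cfsg.Lie.Sz F (2 ^ (m + 1))) : GL (Fin 4) F) = szToGL F m g := rfl

end Cfsg.Agent.Lib.helper3
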