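import Mathlib
import Cfsg.Prelude.Def_Sz
import Cfsg.Prelude.Def_LieExceptional
import Cfsg.Agent.Lib.helper3.SuzukiSimple
import Cfsg.Agent.Lib.helper3.SuzukiSylow
import Cfsg.Agent.Lib.helper3.SuzukiPartition
import Cfsg.Agent.Lib.helper3.SuzukiLieIso

set_option autoImplicit false

namespace Cfsg.Agent.Lib.helper3

open Cfsg Cfsg.Lie Matrix

section abstract

variable {L Ω : Type*} [Group L] [MulAction L Ω]

/-- a doubly transitive action is equivalent to the action on the cosets of a point stabiliser -/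
theorem coset_action_of_two_trans (pt : Ω) (h2 : MulAction.IsMultiplyPretransitive L Ω 2)
    (N : Subgroup L) (hN : N = MulAction.stabilizer L pt) (Q : Subgroup L)
    (hQ : ∀ x y : Ω, x ≠ pt → y ≠ pt → ∃! s : Q, (s : L) • x = y) :
    MulAction.IsMultiplyPretransitive L (L ⧸ N) 2 ∧
    ∀ x y : L ⧸ N, x ≠ QuotientGroup.mk 1 → y ≠ QuotientGroup.mk 1 →
      ∃! s : Q, (s : L) • x = y := by
  subst hN
  have hinj := MulAction.injective_ofQuotientStabilizer L pt
  have hsmul := MulAction.ofQuotientStabilizer_smul (G := L) pt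
  have hone : MulAction.ofQuotientStabilizer L pt (QuotientGroup.mk 1) = pt := by
    rw [MulAction.ofQuotientStabilizer_mk, one_smul]
  constructor
  · rw [MulAction.isMultiplyPretransitive_iff] at h2 ⊢
    intro x y
    obtain ⟨g, hg⟩ := h2 (x.trans ⟨_, hinj⟩) (y.trans ⟨_, hinj⟩)
    refine ⟨g, ?_⟩
    ext i
    apply hinj
    have := congrArg (fun z => z i) hg
    simp only [Function.Embedding.smul_apply, Function.Embedding.trans_apply,
      Function.Embedding.coeFn_mk] at this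
    rw [Function.Embedding.smul_apply, hsmul]
    exact this
  · intro x y hx hy
    have hx' : MulAction.ofQuotientStabilizer L pt x ≠ pt := fun h => hx (hinj (h.trans hone.symm))
    have hy' : MulAction.ofQuotientStabilizer L pt y ≠ pt := fun h => hy (hinj (h.trans hone.symm))
    obtain ⟨s, hs, hs'⟩ := hQ _ _ hx' hy'
    refine ⟨s, ?_, ?_⟩
    · apply hinj
      rw [hsmul]
      exact hs
    · intro t ht
      apply hs'
      rw [← hsmul, ht]

end abstract

section concrete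

variable {F : Type*} [Field F] [Fintype F] {m : ℕ} (hF : Fintype.card F = 2 ^ (2 * m + 1))
  (hm : 1 ≤ m)

include hm in
/-- the normaliser of the group of translations is the stabiliser of the point at infinity -/
theorem normalizer_Qs :
    Subgroup.normalizer ((Qs hF : Subgroup (Sz F m)) : Set (Sz F m)) =
      MulAction.stabilizer (Sz F m) (oInf F m) := by
  ext n
  rw [MulAction.mem_stabilizer_iff, Subgroup.mem_normalizer_iff]
  constructor
  · intro hn
    have hmem := (hn _).1 (gT_mem_Qs hF 1 0)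
    obtain ⟨a', b', hab⟩ := (mem_Qs hF).1 hmem
    have hne : ¬ (a' = 0 ∧ b' = 0) := by
      rintro ⟨rfl, rfl⟩
      rw [gT_zero] at hab
      have h1 : gT hF (1 : F) 0 = 1 := by
        calc gT hF (1 : F) 0 = n⁻¹ * (n * gT hF 1 0 * n⁻¹) * n := by group
          _ = 1 := by rw [hab]; group
      exact one_ne_zero (gT_injective hF (h1.trans (gT_zero hF).symm)).1
    apply gT_fixed hF hne
    rw [← hab, ← mul_smul, inv_mul_cancel_right, mul_smul, gT_oInf]
  · intro hn h
    have hn' : n⁻¹ • oInf F m = oInf F m := by rw [inv_smul_eq_iff, hn]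
    constructor
    · exact conj_mem_Qs hF hm hn
    · intro hh
      have := conj_mem_Qs hF hm hn' hh
      have e : n⁻¹ * (n * h * n⁻¹) * n⁻¹⁻¹ = h := by group
      rwa [e] at this

include hF hm in
theorem card_stab_oInf :
    Nat.card (MulAction.stabilizer (Sz F m) (oInf F m)) =
      (2 ^ (2 * m + 1)) ^ 2 * (2 ^ (2 * m + 1) - 1) := by
  rw [← card_stab_inf hm hF]
  have : MulAction.stabilizer (Sz F m) (oInf F m) =
      MulAction.stabilizer (Sz F m) (suzukiPointInfinity F) := by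
    ext g
    rw [MulAction.mem_stabilizer_iff, MulAction.mem_stabilizer_iff]
    constructor
    · intro h
      exact congrArg Subtype.val h
    · intro h
      exact Subtype.ext h
  rw [this]

include hF in
/-- the translations act regularly on the affine points of the ovoid -/
theorem Qs_regular (x y : suzukiOvoid F m) (hx : x ≠ oInf F m) (hy : y ≠ oInf F m) :
    ∃! s : Qs hF, (s : Sz F m) • x = y := by
  have h2 := sz_two hF
  rcases ovoid_cases x with rfl | ⟨x1, y1, rfl⟩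
  · exact absurd rfl hx
  rcases ovoid_cases y with rfl | ⟨x2, y2, rfl⟩
  · exact absurd rfl hy
  refine ⟨⟨gT hF (x1 + x2) (y1 + y2 + szθ m (x1 + x2) * x1), gT_mem_Qs hF _ _⟩, ?_, ?_⟩
  · change gT hF _ _ • oPt m x1 y1 = oPt m x2 y2
    rw [gT_oPt]
    congr 1
    · linear_combination x1 * h2
    · linear_combination (y1 + szθ m (x1 + x2) * x1) * h2
  · rintro ⟨s, hs⟩ hsxy
    obtain ⟨a, b, rfl⟩ := (mem_Qs hF).1 hs
    change gT hF a b • oPt m x1 y1 = oPt m x2 y2 at hsxy
    rw [gT_oPt] at hsxy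
    obtain ⟨e1, e2⟩ := szPt_inj m (congrArg Subtype.val hsxy)
    apply Subtype.ext
    change gT hF a b = gT hF _ _
    have ha : a = x1 + x2 := by linear_combination e1 - x1 * h2
    subst ha
    congr 1
    linear_combination e2 - (y1 + szθ m (x1 + x2) * x1) * h2

end concrete

section lie

variable {F : Type*} [Field F] [Fintype F] {m : ℕ} (hF : Fintype.card F = 2 ^ (2 * m + 1))
  (hm : 1 ≤ m)

/-- the action of the Lie-type Suzuki group on the ovoid -/
@[instance_reducible]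
noncomputable def lieSzAction :
    MulAction (Cfsg.Lie.Sz F (2 ^ (m + 1))) (suzukiOvoid F m) :=
  MulAction.compHom _ (szLieEquiv hF hm).symm.toMonoidHom

include hF hm in
theorem card_lieSz :
    Nat.card (Cfsg.Lie.Sz F (2 ^ (m + 1))) =
      (2 ^ (2 * m + 1)) ^ 2 * (2 ^ (2 * m + 1) - 1) * ((2 ^ (2 * m + 1)) ^ 2 + 1) := by
  rw [Nat.card_congr (szLieEquiv hF hm).symm.toEquiv, card_Sz hm hF]
  ring

include hF hm in
theorem lieSz_two_transitive :
    ∃ S : Sylow 2 ↥(Cfsg.Lie.Sz F (2 ^ (m + 1))),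
      Nat.card (Subgroup.normalizer ((S : Subgroup ↥(Cfsg.Lie.Sz F (2 ^ (m + 1)))) :
        Set ↥(Cfsg.Lie.Sz F (2 ^ (m + 1))))) = (2 ^ (2 * m + 1)) ^ 2 * (2 ^ (2 * m + 1) - 1) ∧
      (Subgroup.normalizer ((S : Subgroup ↥(Cfsg.Lie.Sz F (2 ^ (m + 1)))) :
        Set ↥(Cfsg.Lie.Sz F (2 ^ (m + 1))))).index = (2 ^ (2 * m + 1)) ^ 2 + 1 ∧
      MulAction.IsMultiplyPretransitive ↥(Cfsg.Lie.Sz F (2 ^ (m + 1)))
        (↥(Cfsg.Lie.Sz F (2 ^ (m + 1))) ⧸ Subgroup.normalizer
          ((S : Subgroup ↥(Cfsg.Lie.Sz F (2 ^ (m + 1)))) : Set ↥(Cfsg.Lie.Sz F (2 ^ (m + 1))))) 2 ∧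
      ∀ x y : ↥(Cfsg.Lie.Sz F (2 ^ (m + 1))) ⧸ Subgroup.normalizer
          ((S : Subgroup ↥(Cfsg.Lie.Sz F (2 ^ (m + 1)))) : Set ↥(Cfsg.Lie.Sz F (2 ^ (m + 1)))),
        x ≠ (QuotientGroup.mk 1) → y ≠ (QuotientGroup.mk 1) →
          ∃! s : ↥(S : Subgroup ↥(Cfsg.Lie.Sz F (2 ^ (m + 1)))),
            (s : ↥(Cfsg.Lie.Sz F (2 ^ (m + 1)))) • x = y := by
  have hfin : Finite (Sz F m) := finite_Sz hF hm
  set e := szLieEquiv hF hm with he
  set σ : ↥(Cfsg.Lie.Sz F (2 ^ (m + 1))) →* Sz F m := e.symm.toMonoidHom with hσ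
  have hσsurj : Function.Surjective σ := e.symm.surjective
  have hσinj : Function.Injective σ := e.symm.injective
  let _ : MulAction (Cfsg.Lie.Sz F (2 ^ (m + 1))) (suzukiOvoid F m) := lieSzAction hF hm
  have hact : ∀ (l : ↥(Cfsg.Lie.Sz F (2 ^ (m + 1)))) (p : suzukiOvoid F m), l • p = σ l • p :=
    fun l p => rfl
  let S : Sylow 2 ↥(Cfsg.Lie.Sz F (2 ^ (m + 1))) :=
    (QsSylow hF hm).comapOfInjective σ hσinj (by
      rw [MonoidHom.range_eq_top.2 hσsurj]
      exact le_top)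
  have hS : (S : Subgroup ↥(Cfsg.Lie.Sz F (2 ^ (m + 1)))) = (Qs hF).comap σ := rfl
  have hN : Subgroup.normalizer ((S : Subgroup ↥(Cfsg.Lie.Sz F (2 ^ (m + 1)))) :
      Set ↥(Cfsg.Lie.Sz F (2 ^ (m + 1)))) =
      (MulAction.stabilizer (Sz F m) (oInf F m)).comap σ := by
    rw [hS, ← Subgroup.comap_normalizer_eq_of_surjective _ hσsurj, normalizer_Qs hF hm]
  have hN' : (MulAction.stabilizer (Sz F m) (oInf F m)).comap σ =
      MulAction.stabilizer ↥(Cfsg.Lie.Sz F (2 ^ (m + 1))) (oInf F m) := by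
    ext l
    rfl
  refine ⟨S, ?_, ?_, ?_⟩
  · rw [hN, hσ, Subgroup.comap_equiv_eq_map_symm', Subgroup.card_map_of_injective
      (MulEquiv.injective _), card_stab_oInf hF hm]
  · rw [hN, Subgroup.index_comap_of_surjective _ hσsurj]
    have h1 := Subgroup.card_mul_index (MulAction.stabilizer (Sz F m) (oInf F m))
    rw [card_stab_oInf hF hm, card_Sz hm hF] at h1
    have h1' : (2 ^ (2 * m + 1)) ^ 2 * (2 ^ (2 * m + 1) - 1) *
        (MulAction.stabilizer (Sz F m) (oInf F m)).index =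
        (2 ^ (2 * m + 1)) ^ 2 * (2 ^ (2 * m + 1) - 1) * ((2 ^ (2 * m + 1)) ^ 2 + 1) := by
      rw [h1]
      ring
    have hpos : 0 < (2 ^ (2 * m + 1)) ^ 2 * (2 ^ (2 * m + 1) - 1) := by
      have : 2 ^ 1 ≤ 2 ^ (2 * m + 1) := Nat.pow_le_pow_right (by norm_num) (by omega)
      have h3 : 0 < 2 ^ (2 * m + 1) - 1 := by omega
      positivity
    exact Nat.eq_of_mul_eq_mul_left hpos h1'
  · have h2 : MulAction.IsMultiplyPretransitive ↥(Cfsg.Lie.Sz F (2 ^ (m + 1)))
        (suzukiOvoid F m) 2 := by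
      have h2' : MulAction.IsMultiplyPretransitive (Sz F m) (suzukiOvoid F m) 2 :=
        (Sz_isZassenhaus hm hF).2.1
      rw [MulAction.isMultiplyPretransitive_iff] at h2' ⊢
      intro x y
      obtain ⟨g, hg⟩ := h2' x y
      obtain ⟨l, rfl⟩ := hσsurj g
      exact ⟨l, hg⟩
    apply coset_action_of_two_trans (oInf F m) h2 _ (hN.trans hN')
    intro x y hx hy
    obtain ⟨s, hs, hs'⟩ := Qs_regular hF x y hx hy
    obtain ⟨l, hl⟩ := hσsurj s.1
    refine ⟨⟨l, ?_⟩, ?_, ?_⟩
    · change σ l ∈ Qs hF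
      rw [hl]
      exact s.2
    · change σ l • x = y
      rw [hl]
      exact hs
    · rintro ⟨t, ht⟩ hty
      have := hs' ⟨σ t, ht⟩ hty
      apply Subtype.ext
      apply hσinj
      change σ t = σ l
      rw [hl, ← this]

end lie

end Cfsg.Agent.Lib.helper3
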