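import Mathlib
import Cfsg.Prelude.Def_LieExceptional
import Cfsg.Agent.Lib.helper3.SuzukiPartition

set_option autoImplicit false

namespace Cfsg.Agent.Lib.helper3

open Cfsg Matrix

section

variable {F : Type*} [Field F] [Fintype F] {m : ℕ} (hF : Fintype.card F = 2 ^ (2 * m + 1))
  (hm : 1 ≤ m)

include hF hm in
theorem map_conj_Qs {n : Sz F m} (hn : n • oInf F m = oInf F m) :
    (Qs hF).map (MulAut.conj n).toMonoidHom = Qs hF := by
  have hn' : n⁻¹ • oInf F m = oInf F m := by rw [inv_smul_eq_iff, hn]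
  apply le_antisymm
  · rintro _ ⟨h, hh, rfl⟩
    simp only [MulEquiv.coe_toMonoidHom, MulAut.conj_apply]
    exact conj_mem_Qs hF hm hn hh
  · intro h hh
    refine ⟨n⁻¹ * h * n, ?_, ?_⟩
    · have := conj_mem_Qs hF hm hn' hh
      rwa [inv_inv] at this
    · simp only [MulEquiv.coe_toMonoidHom, MulAut.conj_apply]
      group

/-- the opposite translation group -/
def Qz : Subgroup (Sz F m) := (Qs hF).map (MulAut.conj (gJ hF)).toMonoidHom

theorem map_conj_map_conj {G : Type*} [Group G] (a b : G) (H : Subgroup G) :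
    (H.map (MulAut.conj b).toMonoidHom).map (MulAut.conj a).toMonoidHom =
      H.map (MulAut.conj (a * b)).toMonoidHom := by
  rw [Subgroup.map_map]
  congr 1
  ext x
  simp [MulAut.conj_apply, mul_assoc]

include hF hm in
/-- two opposite translation groups generate the Suzuki group -/
theorem Qs_sup_Qz : Qs hF ⊔ Qz hF = ⊤ := by
  set H₀ : Subgroup (Sz F m) := Qs hF ⊔ Qz hF with hH₀
  have hJJ : gJ hF * gJ hF = 1 := gJ_mul_self hF
  have hJ : gJ hF ∈ Subgroup.normalizer (H₀ : Set (Sz F m)) := by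
    apply mem_normalizer_of_map_conj_eq
    rw [hH₀, Subgroup.map_sup]
    unfold Qz
    rw [map_conj_map_conj, hJJ]
    have : (Qs hF).map (MulAut.conj (1 : Sz F m)).toMonoidHom = Qs hF := by
      ext x
      simp
    rw [this, sup_comm]
  have hD : ∀ k : Fˣ, gD hF k ∈ Subgroup.normalizer (H₀ : Set (Sz F m)) := by
    intro k
    apply mem_normalizer_of_map_conj_eq
    rw [hH₀, Subgroup.map_sup, map_conj_Qs hF hm (gD_oInf hF k)]
    unfold Qz
    have e : gD hF k * gJ hF = gJ hF * gD hF k⁻¹ := by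
      have := gJ_gD hF k⁻¹
      rw [inv_inv] at this
      exact this.symm
    rw [map_conj_map_conj, e, ← map_conj_map_conj, map_conj_Qs hF hm (gD_oInf hF k⁻¹)]
  have hT : ∀ a b : F, gT hF a b ∈ Subgroup.normalizer (H₀ : Set (Sz F m)) := by
    intro a b
    exact Subgroup.le_normalizer (le_sup_left (a := Qs hF) (b := Qz hF) (gT_mem_Qs hF a b))
  have htop : Subgroup.normalizer (H₀ : Set (Sz F m)) = ⊤ := by
    rw [eq_top_iff]
    intro g _
    rcases full_decomp hF hm g with ⟨a, b, k, rfl⟩ | ⟨a, b, a', b', k, rfl⟩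
    · exact Subgroup.mul_mem _ (hT a b) (hD k)
    · exact Subgroup.mul_mem _ (Subgroup.mul_mem _ (hT a b) hJ)
        (Subgroup.mul_mem _ (hT a' b') (hD k))
  have hnormal : H₀.Normal := Subgroup.normalizer_eq_top_iff.1 htop
  exact eq_top_of_Qs_le hF hm H₀ le_sup_left

include hF hm in
/-- a subgroup containing the translations and an element moving infinity is everything -/
theorem eq_top_of_Qs_le_of_move {K : Subgroup (Sz F m)} (hQ : Qs hF ≤ K) {g : Sz F m}
    (hg : g ∈ K) (hmove : g • oInf F m ≠ oInf F m) : K = ⊤ := by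
  rcases ovoid_cases (g • oInf F m) with h | ⟨x, y, h⟩
  · exact absurd h hmove
  · -- `g' = (gT x y)⁻¹ * g` maps infinity to zero
    set g' := (gT hF x y)⁻¹ * g with hg'
    have hg'K : g' ∈ K := K.mul_mem (K.inv_mem (hQ (gT_mem_Qs hF x y))) hg
    have h0 : g' • oInf F m = oPt m 0 0 := by
      rw [hg', mul_smul, h, inv_smul_eq_iff, gT_oZero]
    have hfix : (gJ hF * g') • oInf F m = oInf F m := by
      rw [mul_smul, h0, gJ_oZero]
    have hQz : Qz hF ≤ K := by
      rintro _ ⟨q, hq, rfl⟩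
      simp only [MulEquiv.coe_toMonoidHom, MulAut.conj_apply]
      -- `gJ * q * gJ⁻¹ = g' * (n⁻¹ * q * n) * g'⁻¹` with `n = gJ * g'`
      have hn' : (gJ hF * g')⁻¹ • oInf F m = oInf F m := by rw [inv_smul_eq_iff, hfix]
      have hq' := conj_mem_Qs hF hm hn' hq
      have e : gJ hF * q * (gJ hF)⁻¹ =
          g' * ((gJ hF * g')⁻¹ * q * (gJ hF * g')⁻¹⁻¹) * g'⁻¹ := by
        have hJJ : gJ hF * gJ hF = 1 := gJ_mul_self hF
        have hJinv : (gJ hF)⁻¹ = gJ hF := gJ_inv hF
        rw [inv_inv, _root_.mul_inv_rev, hJinv]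
        calc gJ hF * q * gJ hF = (g' * g'⁻¹) * (gJ hF * q * gJ hF) * (g' * g'⁻¹) := by group
          _ = g' * (g'⁻¹ * gJ hF * q * (gJ hF * g')) * g'⁻¹ := by group
      rw [e]
      exact K.mul_mem (K.mul_mem hg'K (hQ hq')) (K.inv_mem hg'K)
    rw [eq_top_iff, ← Qs_sup_Qz hF hm]
    exact sup_le hQ hQz

include hF hm in
/-- the normaliser of a Sylow 2-subgroup is the unique maximal subgroup containing it -/
theorem sylow_two_normalizer_max (P : Sylow 2 (Sz F m)) :
    IsCoatom (Subgroup.normalizer ((P : Subgroup (Sz F m)) : Set (Sz F m))) ∧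
      ∀ M : Subgroup (Sz F m), IsCoatom M → (P : Subgroup (Sz F m)) ≤ M →
        M = Subgroup.normalizer ((P : Subgroup (Sz F m)) : Set (Sz F m)) := by
  obtain ⟨x, hx⟩ := sylow_two_conj hF hm P
  set a : suzukiOvoid F m := x • oInf F m with ha
  -- the normaliser is the point stabiliser
  have hnorm : Subgroup.normalizer ((P : Subgroup (Sz F m)) : Set (Sz F m)) =
      MulAction.stabilizer (Sz F m) a := by
    ext n
    rw [MulAction.mem_stabilizer_iff]
    constructor
    · intro hn
      rw [Subgroup.mem_normalizer_iff] at hn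
      -- a nontrivial element of `P`
      have h10 : ¬ ((1 : F) = 0 ∧ (0 : F) = 0) := fun h => one_ne_zero h.1
      have hmem : x * gT hF 1 0 * x⁻¹ ∈ P := by
        rw [hx]
        have e : x⁻¹ * (x * gT hF 1 0 * x⁻¹) * x = gT hF 1 0 := by group
        rw [e]
        exact gT_mem_Qs hF 1 0
      have hmem' := (hn _).1 hmem
      change n * (x * gT hF 1 0 * x⁻¹) * n⁻¹ ∈ P at hmem'
      rw [hx] at hmem'
      obtain ⟨a', b', hab⟩ := (mem_Qs hF).1 hmem'
      have hne : ¬ (a' = 0 ∧ b' = 0) := by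
        rintro ⟨rfl, rfl⟩
        rw [gT_zero] at hab
        have e : gT hF (1 : F) 0 = (x⁻¹ * n * x)⁻¹ *
            (x⁻¹ * (n * (x * gT hF 1 0 * x⁻¹) * n⁻¹) * x) * (x⁻¹ * n * x) := by group
        rw [hab, mul_one, inv_mul_cancel] at e
        have := gT_injective hF (e.trans (gT_zero hF).symm)
        exact one_ne_zero this.1
      -- `x⁻¹ n x` fixes infinity
      have hfix : (x⁻¹ * n * x) • oInf F m = oInf F m := by
        apply gT_fixed hF hne
        rw [← hab, ← mul_smul]
        have e : x⁻¹ * (n * (x * gT hF 1 0 * x⁻¹) * n⁻¹) * x * (x⁻¹ * n * x) =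
            x⁻¹ * n * x * gT hF 1 0 := by group
        rw [e, mul_smul, gT_oInf]
      rw [ha]
      calc n • x • oInf F m = x • ((x⁻¹ * n * x) • oInf F m) := by
            simp only [mul_smul, smul_inv_smul]
        _ = x • oInf F m := by rw [hfix]
    · intro hn
      have hfix : (x⁻¹ * n * x) • oInf F m = oInf F m := by
        rw [mul_smul, mul_smul, ← ha, hn, ha, inv_smul_smul]
      have hfix' : (x⁻¹ * n * x)⁻¹ • oInf F m = oInf F m := by rw [inv_smul_eq_iff, hfix]
      rw [Subgroup.mem_normalizer_iff]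
      intro h
      change h ∈ P ↔ n * h * n⁻¹ ∈ P
      rw [hx, hx]
      constructor
      · intro hh
        have := conj_mem_Qs hF hm hfix hh
        have e : x⁻¹ * n * x * (x⁻¹ * h * x) * (x⁻¹ * n * x)⁻¹ = x⁻¹ * (n * h * n⁻¹) * x := by
          group
        rwa [e] at this
      · intro hh
        have := conj_mem_Qs hF hm hfix' hh
        have e : (x⁻¹ * n * x)⁻¹ * (x⁻¹ * (n * h * n⁻¹) * x) * (x⁻¹ * n * x)⁻¹⁻¹ =
            x⁻¹ * h * x := by group
        rwa [e] at this
  have h2 : MulAction.IsMultiplyPretransitive (Sz F m) (suzukiOvoid F m) 2 :=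
    (Sz_isZassenhaus hm hF).2.1
  have hprim : MulAction.IsPreprimitive (Sz F m) (suzukiOvoid F m) :=
    MulAction.isPreprimitive_of_is_two_pretransitive h2
  have hnt : Nontrivial (suzukiOvoid F m) :=
    ⟨⟨oPt m 0 0, oInf F m, oPt_ne_oInf 0 0⟩⟩
  have hco : IsCoatom (MulAction.stabilizer (Sz F m) a) :=
    MulAction.IsPreprimitive.isCoatom_stabilizer_of_isPreprimitive (G := Sz F m) a
  rw [hnorm]
  refine ⟨hco, ?_⟩
  intro M hM hPM
  by_cases hle : M ≤ MulAction.stabilizer (Sz F m) a
  · by_contra hne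
    have hlt : M < MulAction.stabilizer (Sz F m) a := lt_of_le_of_ne hle hne
    exact hco.1 (hM.2 _ hlt)
  · exfalso
    rw [SetLike.not_le_iff_exists] at hle
    obtain ⟨g, hgM, hga⟩ := hle
    rw [MulAction.mem_stabilizer_iff] at hga
    -- transport to the standard position
    set K : Subgroup (Sz F m) := M.comap (MulAut.conj x).toMonoidHom with hK
    have hQK : Qs hF ≤ K := by
      intro q hq
      rw [hK, Subgroup.mem_comap]
      simp only [MulEquiv.coe_toMonoidHom, MulAut.conj_apply]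
      apply hPM
      change x * q * x⁻¹ ∈ P
      rw [hx]
      have e : x⁻¹ * (x * q * x⁻¹) * x = q := by group
      rwa [e]
    have hgK : x⁻¹ * g * x ∈ K := by
      rw [hK, Subgroup.mem_comap]
      simp only [MulEquiv.coe_toMonoidHom, MulAut.conj_apply]
      have e : x * (x⁻¹ * g * x) * x⁻¹ = g := by group
      rwa [e]
    have hmove : (x⁻¹ * g * x) • oInf F m ≠ oInf F m := by
      intro h
      apply hga
      rw [ha]
      calc g • x • oInf F m = x • ((x⁻¹ * g * x) • oInf F m) := by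
            simp only [mul_smul, smul_inv_smul]
        _ = x • oInf F m := by rw [h]
    have hKtop := eq_top_of_Qs_le_of_move hF hm hQK hgK hmove
    apply hM.1
    rw [eq_top_iff]
    intro h _
    have : x⁻¹ * h * x ∈ K := by rw [hKtop]; exact Subgroup.mem_top _
    rw [hK, Subgroup.mem_comap] at this
    simp only [MulEquiv.coe_toMonoidHom, MulAut.conj_apply] at this
    have e : x * (x⁻¹ * h * x) * x⁻¹ = h := by group
    rwa [e] at this

end

end Cfsg.Agent.Lib.helper3
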