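import Mathlib
import Cfsg.Prelude.Def_LieExceptional
import Cfsg.Agent.Lib.helper3.SuzukiFieldAut
import Cfsg.Agent.Lib.helper3.SuzukiMaximal
import Cfsg.Agent.Lib.helper3.SuzukiLieTrans

set_option autoImplicit false

namespace Cfsg.Agent.Lib.helper3

open Cfsg Matrix

variable {F : Type*} [Field F] [Fintype F] {m : ℕ} (hF : Fintype.card F = 2 ^ (2 * m + 1))
  (hm : 1 ≤ m)

/-- first coordinate of a translation -/
def cA (g : Sz F m) : F := szMat g 2 3

/-- second coordinate of a translation -/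
def cB (g : Sz F m) : F := szMat g 1 3

theorem cA_gT (a b : F) : cA (gT hF a b) = a := by
  change szTmat m a b 2 3 = a
  simp [szTmat]

theorem cB_gT (a b : F) : cB (gT hF a b) = b := by
  change szTmat m a b 1 3 = b
  simp [szTmat]

theorem eq_gT_of_mem_Qs {g : Sz F m} (hg : g ∈ Qs hF) : g = gT hF (cA g) (cB g) := by
  obtain ⟨a, b, rfl⟩ := (mem_Qs hF).1 hg
  rw [cA_gT, cB_gT]

theorem gT_split (a b : F) : gT hF a b = gT hF a 0 * gT hF 0 b := by
  rw [gT_mul, add_zero, zero_add, mul_zero, add_zero]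

include hF in
theorem gT_sq (a b : F) : gT hF a b * gT hF a b = gT hF 0 (szθ m a * a) := by
  have h2 := sz_two hF
  rw [gT_mul]
  congr 1
  · linear_combination a * h2
  · linear_combination b * h2

theorem gT_sq_eq_one {a b : F} (h : gT hF a b * gT hF a b = 1) : a = 0 := by
  rw [gT_sq, ← gT_zero hF] at h
  have := (gT_injective hF h).2
  rcases mul_eq_zero.1 this with h' | h'
  · exact szθ_eq_zero m h'
  · exact h'

theorem gD_conj_gT (k : Fˣ) (a b : F) :
    gD hF k * gT hF a b * (gD hF k)⁻¹ =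
      gT hF ((k : F) ^ 2 * a) ((k : F) ^ 2 * szθ m (k : F) ^ 2 * b) := by
  rw [gD_gT, mul_inv_cancel_right]

include hm in
/-- the stabiliser of the two base points is the torus -/
theorem two_point_stab {g : Sz F m} (hinf : g • oInf F m = oInf F m)
    (hzero : g • oPt m (0 : F) 0 = oPt m 0 0) : ∃ k : Fˣ, g = gD hF k := by
  obtain ⟨a, b, k, rfl⟩ := stab_decomp hF hm hinf
  rw [mul_smul, gD_oZero, gT_oZero] at hzero
  obtain ⟨rfl, rfl⟩ := szPt_inj m (congrArg Subtype.val hzero)
  rw [gT_zero, one_mul]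
  exact ⟨k, rfl⟩

include hm in
/-- the normaliser of the opposite translation group is the stabiliser of the origin -/
theorem normalizer_Qz :
    Subgroup.normalizer ((Qz hF : Subgroup (Sz F m)) : Set (Sz F m)) =
      MulAction.stabilizer (Sz F m) (oPt m (0 : F) 0) := by
  unfold Qz
  rw [← Subgroup.map_equiv_normalizer_eq, normalizer_Qs hF hm]
  ext n
  rw [Subgroup.mem_map_equiv, MulAction.mem_stabilizer_iff, MulAction.mem_stabilizer_iff,
    MulAut.conj_symm_apply, mul_smul, mul_smul, gJ_oInf, inv_smul_eq_iff, gJ_oInf]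

/-- automorphisms normalising the two opposite translation groups -/
def IsGoodAut (α : MulAut (Sz F m)) : Prop :=
  (Qs hF).map α.toMonoidHom = Qs hF ∧ (Qz hF).map α.toMonoidHom = Qz hF

section good

variable {hF} {α : MulAut (Sz F m)} (hα : IsGoodAut hF α)

include hα in
theorem IsGoodAut.mem_Qs {g : Sz F m} (hg : g ∈ Qs hF) : α g ∈ Qs hF := by
  rw [← hα.1]
  exact ⟨g, hg, rfl⟩

include hα in
theorem IsGoodAut.mem_Qs_iff {g : Sz F m} : α g ∈ Qs hF ↔ g ∈ Qs hF := by
  constructor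
  · intro h
    rw [← hα.1] at h
    obtain ⟨g', hg', e⟩ := h
    have : g' = g := α.injective e
    rwa [← this]
  · exact hα.mem_Qs

include hα hm in
theorem IsGoodAut.stab_inf {g : Sz F m} (hg : g • oInf F m = oInf F m) :
    α g • oInf F m = oInf F m := by
  have h1 : g ∈ Subgroup.normalizer ((Qs hF : Subgroup (Sz F m)) : Set (Sz F m)) := by
    rw [normalizer_Qs hF hm]
    exact hg
  have h2 : α g ∈ (Subgroup.normalizer ((Qs hF : Subgroup (Sz F m)) : Set (Sz F m))).map
      α.toMonoidHom := ⟨g, h1, rfl⟩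
  rw [Subgroup.map_equiv_normalizer_eq, hα.1, normalizer_Qs hF hm] at h2
  exact h2

include hα hm in
theorem IsGoodAut.stab_zero {g : Sz F m} (hg : g • oPt m (0 : F) 0 = oPt m 0 0) :
    α g • oPt m (0 : F) 0 = oPt m 0 0 := by
  have h1 : g ∈ Subgroup.normalizer ((Qz hF : Subgroup (Sz F m)) : Set (Sz F m)) := by
    rw [normalizer_Qz hF hm]
    exact hg
  have h2 : α g ∈ (Subgroup.normalizer ((Qz hF : Subgroup (Sz F m)) : Set (Sz F m))).map
      α.toMonoidHom := ⟨g, h1, rfl⟩
  rw [Subgroup.map_equiv_normalizer_eq, hα.2, normalizer_Qz hF hm] at h2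
  exact h2

include hα hm in
theorem IsGoodAut.map_gD (k : Fˣ) : ∃ k' : Fˣ, α (gD hF k) = gD hF k' :=
  two_point_stab hF hm (hα.stab_inf hm (gD_oInf hF k)) (hα.stab_zero hm (gD_oZero hF k))

include hα in
theorem IsGoodAut.map_gT (a b : F) : α (gT hF a b) = gT hF (cA (α (gT hF a b))) (cB (α (gT hF a b))) :=
  eq_gT_of_mem_Qs hF (hα.mem_Qs (gT_mem_Qs hF a b))

include hα in
theorem IsGoodAut.cA_zero (b : F) : cA (α (gT hF 0 b)) = 0 := by
  have h1 := hα.map_gT 0 b
  have h2 : α (gT hF 0 b) * α (gT hF 0 b) = 1 := by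
    rw [← map_mul, gT_sq, szθ_zero, mul_zero, Cfsg.Agent.Lib.helper3.gT_zero, map_one]
  rw [h1] at h2
  exact gT_sq_eq_one hF h2

end good

end Cfsg.Agent.Lib.helper3
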