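import Mathlib
import Cfsg.Prelude.Def_LieExceptional
import Cfsg.Agent.Lib.helper3.SuzukiAutBase

set_option autoImplicit false

namespace Cfsg.Agent.Lib.helper3

open Cfsg Matrix

variable {F : Type*} [Field F] [Fintype F] {m : ℕ} {hF : Fintype.card F = 2 ^ (2 * m + 1)}
  (hm : 1 ≤ m)

theorem gD_oPt (hF : Fintype.card F = 2 ^ (2 * m + 1)) (k : Fˣ) (a b : F) :
    gD hF k • oPt m a b = oPt m ((k : F) ^ 2 * a) ((k : F) ^ 2 * szθ m (k : F) ^ 2 * b) := by
  rw [← gT_oZero hF a b, ← mul_smul, gD_gT, mul_smul, gD_oZero, gT_oZero]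

include hm in
/-- an automorphism normalising both translation groups and inducing the identity on the
quotient of the translation group by its centre fixes every translation and the torus -/
theorem IsGoodAut.fix_QD {α : MulAut (Sz F m)} (hα : IsGoodAut hF α)
    (hA : ∀ a : F, cA (α (gT hF a 0)) = a) :
    (∀ a b : F, α (gT hF a b) = gT hF a b) ∧ ∀ k : Fˣ, α (gD hF k) = gD hF k := by
  have h2 := sz_two hF
  set β : F → F := fun a => cB (α (gT hF a 0)) with hβ
  set C : F → F := fun b => cB (α (gT hF 0 b)) with hC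
  have hTa : ∀ a, α (gT hF a 0) = gT hF a (β a) := by
    intro a
    have := hα.map_gT a 0
    rwa [hA a] at this
  have hTz : ∀ b, α (gT hF 0 b) = gT hF 0 (C b) := by
    intro b
    have := hα.map_gT 0 b
    rwa [hα.cA_zero b] at this
  have hT : ∀ a b, α (gT hF a b) = gT hF a (β a + C b) := by
    intro a b
    rw [gT_split hF a b, map_mul, hTa, hTz, gT_mul, add_zero, mul_zero, add_zero]
  -- the torus is fixed
  have hD : ∀ k : Fˣ, α (gD hF k) = gD hF k := by
    intro k
    obtain ⟨k', hk'⟩ := hα.map_gD hm k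
    have e := congrArg α (gD_conj_gT hF k 1 0)
    rw [map_mul, map_mul, map_inv, hk', hTa, gD_conj_gT, hT] at e
    have e1 := (gT_injective hF e).1
    rw [mul_one, mul_one] at e1
    have hk0 : (k : F) ≠ 0 := k.ne_zero
    have : ((k' : F) / (k : F)) ^ 2 = 1 := by
      rw [div_pow, e1, div_self (pow_ne_zero 2 hk0)]
    have h1 := sz_sq_eq_one hF this
    rw [div_eq_one_iff_eq hk0] at h1
    rw [hk', Units.ext h1]
  -- the centre is fixed
  have hCid : ∀ c, C c = c := by
    intro c
    obtain ⟨a, ha⟩ := norm_surj hF c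
    have e := congrArg α (gT_sq hF a 0)
    rw [map_mul, hTa, gT_sq, hTz] at e
    have := (gT_injective hF e).2
    rw [mul_comm] at ha
    rw [ha] at this
    exact this.symm
  -- `β` is additive
  have hβadd : ∀ a a', β (a + a') = β a + β a' := by
    intro a a'
    have e := congrArg α (gT_mul hF a 0 a' 0)
    rw [map_mul, hTa, hTa, hT, gT_mul, hCid] at e
    have := (gT_injective hF e).2
    linear_combination -this
  have hβ0 : β 0 = 0 := by
    have := hβadd 0 0
    rw [add_zero] at this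
    linear_combination -this
  -- `β` is semilinear for the norm
  have hβk : ∀ (k : Fˣ) (a : F), β ((k : F) ^ 2 * a) = (k : F) ^ 2 * szθ m (k : F) ^ 2 * β a := by
    intro k a
    have e := congrArg α (gD_conj_gT hF k a 0)
    rw [map_mul, map_mul, map_inv, hD, hTa, gD_conj_gT, hT, mul_zero, hCid, add_zero] at e
    exact ((gT_injective hF e).2).symm
  have hβu : ∀ c : Fˣ, β (c : F) = (c : F) * szθ m (c : F) * β 1 := by
    intro c
    obtain ⟨k, hk⟩ := exists_sqrt_unit hF c
    have := hβk k 1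
    rw [mul_one] at this
    have hc : (c : F) = (k : F) ^ 2 := by rw [← hk, Units.val_mul, sq]
    have hθ : szθ m ((k : F) ^ 2) = szθ m (k : F) ^ 2 := by rw [sq, szθ_mul, sq]
    rw [hc, this, hθ]
  have hβ1 : β 1 = 0 := by
    obtain ⟨t, ht, ht0⟩ := exists_szθ_ne hF hm
    have ht1 : t + 1 ≠ 0 := by
      intro h
      apply ht
      have : t = 1 := by linear_combination h - h2
      rw [this, szθ_one]
    have e1 := hβu (Units.mk0 t ht0)
    have e2 := hβu (Units.mk0 (t + 1) ht1)
    rw [Units.val_mk0] at e1 e2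
    rw [hβadd, e1, szθ_add hF, szθ_one] at e2
    have e3 : (t + szθ m t) * β 1 = 0 := by linear_combination -e2
    rcases mul_eq_zero.1 e3 with h | h
    · exfalso
      apply ht
      linear_combination h - t * h2
    · exact h
  have hβz : ∀ a, β a = 0 := by
    intro a
    by_cases ha : a = 0
    · rw [ha, hβ0]
    · have := hβu (Units.mk0 a ha)
      rw [Units.val_mk0, hβ1, mul_zero] at this
      exact this
  refine ⟨fun a b => ?_, hD⟩
  rw [hT, hβz, hCid, zero_add]

include hm in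
/-- rigidity: such an automorphism is the identity -/
theorem IsGoodAut.rigid {α : MulAut (Sz F m)} (hα : IsGoodAut hF α)
    (hA : ∀ a : F, cA (α (gT hF a 0)) = a) : α = 1 := by
  have h2 := sz_two hF
  obtain ⟨hT, hD⟩ := hα.fix_QD hm hA
  set J' := α (gJ hF) with hJ'
  have hJ'sq : J' * J' = 1 := by rw [hJ', ← map_mul, gJ_mul_self, map_one]
  have hJ'inv : J'⁻¹ = J' := by rw [inv_eq_iff_mul_eq_one, hJ'sq]
  have h10 : ¬ ((1 : F) = 0 ∧ (0 : F) = 0) := fun h => one_ne_zero h.1
  -- `J'` maps infinity to the origin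
  have hJ'inf : J' • oInf F m = oPt m (0 : F) 0 := by
    have hmem : gJ hF * gT hF 1 0 * (gJ hF)⁻¹ ∈ Qz hF := ⟨gT hF 1 0, gT_mem_Qs hF 1 0, rfl⟩
    have hmem' : α (gJ hF * gT hF 1 0 * (gJ hF)⁻¹) ∈ Qz hF := by
      rw [← hα.2]
      exact ⟨_, hmem, rfl⟩
    rw [map_mul, map_mul, map_inv, hT, ← hJ'] at hmem'
    have hfix0 : (J' * gT hF 1 0 * J'⁻¹) • oPt m (0 : F) 0 = oPt m 0 0 := by
      have : J' * gT hF 1 0 * J'⁻¹ ∈
          Subgroup.normalizer ((Qz hF : Subgroup (Sz F m)) : Set (Sz F m)) :=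
        Subgroup.le_normalizer hmem'
      rw [normalizer_Qz hF hm] at this
      exact this
    have hfix : gT hF 1 0 • (J'⁻¹ • oPt m (0 : F) 0) = J'⁻¹ • oPt m (0 : F) 0 := by
      have := congrArg (fun p => J'⁻¹ • p) hfix0
      simp only [mul_smul, inv_smul_smul] at this
      exact this
    have := gT_fixed hF h10 hfix
    rw [hJ'inv] at this
    rw [← this, ← mul_smul, hJ'sq, one_smul]
  have hJ'zero : J' • oPt m (0 : F) 0 = oInf F m := by
    rw [← hJ'inf, ← mul_smul, hJ'sq, one_smul]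
  -- `J' = J d`
  obtain ⟨k₁, hk₁⟩ : ∃ k₁ : Fˣ, (gJ hF)⁻¹ * J' = gD hF k₁ := by
    apply two_point_stab hF hm
    · rw [mul_smul, hJ'inf, gJ_inv, gJ_oZero]
    · rw [mul_smul, hJ'zero, gJ_inv, gJ_oInf]
  have hJ'eq : J' = gJ hF * gD hF k₁ := by rw [← hk₁, mul_inv_cancel_left]
  -- compare the images of infinity
  have hk1 : k₁ = 1 := by
    set g₁ := gJ hF * gT hF 1 0 * gJ hF with hg₁
    have hp : g₁ • oInf F m = gJ hF • oPt m (1 : F) 0 := by
      rw [hg₁, mul_smul, mul_smul, gJ_oInf, gT_oZero]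
    rcases ovoid_cases (gJ hF • oPt m (1 : F) 0) with h | ⟨x, y, hxy⟩
    · exfalso
      have : oPt m (1 : F) 0 = gJ hF • oInf F m := by
        rw [← h, ← mul_smul, gJ_mul_self, one_smul]
      rw [gJ_oInf] at this
      have := (szPt_inj m (congrArg Subtype.val this)).1
      exact one_ne_zero this
    · have hv : (gT hF x y * gJ hF) • oInf F m = g₁ • oInf F m := by
        rw [hp, hxy, mul_smul, gJ_oInf, gT_oZero]
      have hfix : ((gT hF x y * gJ hF)⁻¹ * g₁) • oInf F m = oInf F m := by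
        rw [mul_smul, ← hv, inv_smul_smul]
      have hfix' := hα.stab_inf hm hfix
      rw [map_mul, map_inv, map_mul, hT, ← hJ', mul_smul, inv_smul_eq_iff, mul_smul, hJ'inf,
        gT_oZero, ← hxy] at hfix'
      rw [hg₁, map_mul, map_mul, hT, ← hJ', hJ'eq] at hfix'
      have e : (gJ hF * gD hF k₁ * gT hF 1 0 * (gJ hF * gD hF k₁)) • oInf F m =
          gJ hF • oPt m ((k₁ : F) ^ 2 * 1) ((k₁ : F) ^ 2 * szθ m (k₁ : F) ^ 2 * 0) := by
        rw [mul_smul, mul_smul, mul_smul, mul_smul, gD_oInf, gJ_oInf, gT_oZero, gD_oPt]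
      rw [e] at hfix'
      have e' := congrArg (fun p => gJ hF • p) hfix'
      simp only [← mul_smul, gJ_mul_self, one_smul] at e'
      have := (szPt_inj m (congrArg Subtype.val e')).1
      rw [mul_one] at this
      have h1 := sz_sq_eq_one hF this
      exact Units.ext h1
  have hJ : α (gJ hF) = gJ hF := by
    rw [← hJ', hJ'eq, hk1, gD_one, mul_one]
  ext g
  rw [MulAut.one_apply]
  rcases full_decomp hF hm g with ⟨a, b, k, rfl⟩ | ⟨a, b, a', b', k, rfl⟩
  · rw [map_mul, hT, hD]
  · rw [map_mul, map_mul, map_mul, hT, hT, hD, hJ]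

end Cfsg.Agent.Lib.helper3
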