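import Mathlib
import Cfsg.Prelude.Def_LieExceptional
import Cfsg.Agent.Lib.helper3.SuzukiSubK
import Cfsg.Agent.Lib.helper3.SuzukiAutBase
import Cfsg.Agent.Lib.helper3.SuzukiAutRigid
import Cfsg.Agent.Lib.helper3.SuzukiOddSylow
import Cfsg.Agent.Lib.helper3.SuzukiCard

set_option autoImplicit false

namespace Cfsg.Agent.Lib.helper3

open Cfsg Matrix
open scoped Pointwise

variable {F : Type*} [Field F] [Fintype F] {m : ℕ} (hF : Fintype.card F = 2 ^ (2 * m + 1))
  (hm : 1 ≤ m)

/-- the points of the ovoid with coordinates in a subfield -/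
def subOvoid (m : ℕ) (K' : Subfield F) : Set (suzukiOvoid F m) :=
  {p | p = oInf F m ∨ ∃ a ∈ K', ∃ b ∈ K', p = oPt m a b}

/-- the stabiliser of the sub-ovoid -/
def subStab (m : ℕ) (K' : Subfield F) : Subgroup (Sz F m) :=
  MulAction.stabilizer (Sz F m) (subOvoid m K')

include hF in
/-- uniqueness of the decomposition in the point stabiliser -/
theorem gT_gD_inj {a b a' b' : F} {l l' : Fˣ} (h : gT hF a b * gD hF l = gT hF a' b' * gD hF l') :
    a = a' ∧ b = b' ∧ l = l' := by
  have h1 := congrArg (fun g : Sz F m => g • oPt m (0 : F) 0) h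
  simp only [mul_smul, gD_oZero, gT_oZero] at h1
  obtain ⟨e1, e2⟩ := szPt_inj m (congrArg Subtype.val h1)
  subst e1 e2
  refine ⟨rfl, rfl, ?_⟩
  exact gDhom_injective hF (mul_left_cancel h)

variable (K' : Subfield F) {k : ℕ} (hK' : Nat.card K' = 2 ^ (2 * k + 1))

include hF hm hK' in
/-- a subgroup of the right order containing the translations and the torus over the subfield and
an element moving the point at infinity to the origin is the stabiliser of the sub-ovoid -/
theorem eq_subStab (R : Subgroup (Sz F m))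
    (hc : Nat.card R = (2 ^ (2 * k + 1)) ^ 2 * ((2 ^ (2 * k + 1)) ^ 2 + 1) * (2 ^ (2 * k + 1) - 1))
    (hT : ∀ a ∈ K', ∀ b ∈ K', gT hF a b ∈ R)
    (hD : ∀ l : Fˣ, (l : F) ∈ K' → gD hF l ∈ R)
    (w : Sz F m) (hw : w ∈ R) (hw0 : w • oInf F m = oPt m 0 0) :
    R = subStab m K' := by
  classical
  have hfin : Finite K' := Nat.finite_of_card_ne_zero (by rw [hK']; positivity)
  have hfinG : Finite (Sz F m) := finite_Sz hF hm
  have hs : 1 < 2 ^ (2 * k + 1) := Nat.one_lt_two_pow (by omega)
  set s := 2 ^ (2 * k + 1) with hsdef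
  -- the sub-ovoid lies in the orbit
  have t1 : subOvoid m K' ⊆ MulAction.orbit R (oInf F m) := by
    rintro p (rfl | ⟨a, ha, b, hb, rfl⟩)
    · exact MulAction.mem_orbit_self _
    · refine ⟨⟨gT hF a b * w, R.mul_mem (hT a ha b hb) hw⟩, ?_⟩
      change (gT hF a b * w) • oInf F m = oPt m a b
      rw [mul_smul, hw0, gT_oZero]
  -- the stabiliser is large
  set H' : Subgroup (Sz F m) := R ⊓ MulAction.stabilizer (Sz F m) (oInf F m) with hH'
  have hcard := card_eq_orbit_mul' R H' (oInf F m) (by
    intro g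
    rw [hH', Subgroup.mem_inf, MulAction.mem_stabilizer_iff])
  have t2 : s * (s * (s - 1)) ≤ Nat.card H' := by
    let f : K' × K' × {x : K' // x ≠ 0} → H' := fun p =>
      ⟨gT hF (p.1 : F) (p.2.1 : F) * gD hF (Units.mk0 (p.2.2.1 : F) (fun h => p.2.2.2 (Subtype.ext h))),
        by
          rw [hH', Subgroup.mem_inf, MulAction.mem_stabilizer_iff]
          refine ⟨R.mul_mem (hT _ p.1.2 _ p.2.1.2) (hD _ (by rw [Units.val_mk0]; exact p.2.2.1.2)), ?_⟩
          rw [mul_smul, gD_oInf, gT_oInf]⟩
    have hinj : Function.Injective f := by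
      intro p p' h
      obtain ⟨e1, e2, e3⟩ := gT_gD_inj hF (congrArg Subtype.val h)
      have e3' : (p.2.2.1 : F) = p'.2.2.1 := by
        have := congrArg Units.val e3
        simpa using this
      exact Prod.ext (Subtype.ext e1) (Prod.ext (Subtype.ext e2) (Subtype.ext (Subtype.ext e3')))
    have hle := Nat.card_le_card_of_injective f hinj
    have hc0 : Nat.card {x : K' // x ≠ 0} = s - 1 := by
      have : Fintype K' := Fintype.ofFinite K'
      rw [Nat.card_eq_fintype_card, Fintype.card_subtype_compl, Fintype.card_subtype_eq,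
        ← Nat.card_eq_fintype_card, hK']
    rwa [Nat.card_prod, Nat.card_prod, hK', hc0] at hle
  -- so the orbit is small
  have t3 : Nat.card (MulAction.orbit R (oInf F m)) ≤ s ^ 2 + 1 := by
    have hpos : 0 < s * (s * (s - 1)) := by
      have : 0 < s - 1 := by omega
      positivity
    apply Nat.le_of_mul_le_mul_right _ hpos
    calc Nat.card (MulAction.orbit R (oInf F m)) * (s * (s * (s - 1)))
        ≤ Nat.card (MulAction.orbit R (oInf F m)) * Nat.card H' := Nat.mul_le_mul_left _ t2
      _ = Nat.card R := hcard.symm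
      _ = (s ^ 2 + 1) * (s * (s * (s - 1))) := by rw [hc]; ring
  -- the sub-ovoid is large
  have t4 : s ^ 2 + 1 ≤ Nat.card (subOvoid m K') := by
    let f : Option (K' × K') → subOvoid m K' := fun o =>
      match o with
      | none => ⟨oInf F m, Or.inl rfl⟩
      | some p => ⟨oPt m (p.1 : F) (p.2 : F), Or.inr ⟨_, p.1.2, _, p.2.2, rfl⟩⟩
    have hinj : Function.Injective f := by
      intro o o' h
      have h' := congrArg Subtype.val h
      match o, o' with
      | none, none => rfl
      | none, some p => exact absurd h'.symm (oPt_ne_oInf _ _)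
      | some p, none => exact absurd h' (oPt_ne_oInf _ _)
      | some p, some p' =>
        obtain ⟨e1, e2⟩ := szPt_inj m (congrArg Subtype.val h')
        exact congrArg some (Prod.ext (Subtype.ext e1) (Subtype.ext e2))
    have hle := Nat.card_le_card_of_injective f hinj
    rwa [Finite.card_option, Nat.card_prod, hK', ← pow_two] at hle
  have t5 : subOvoid m K' = MulAction.orbit R (oInf F m) := by
    apply Set.eq_of_subset_of_ncard_le t1 _ (Set.toFinite _)
    rw [← Nat.card_coe_set_eq, ← Nat.card_coe_set_eq]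
    exact t3.trans t4
  -- the subgroup stabilises the sub-ovoid
  have t6 : R ≤ subStab m K' := by
    intro g hg
    unfold subStab
    rw [MulAction.mem_stabilizer_iff, t5]
    ext p
    rw [Set.mem_smul_set_iff_inv_smul_mem, MulAction.mem_orbit_iff, MulAction.mem_orbit_iff]
    constructor
    · rintro ⟨x, hx⟩
      refine ⟨⟨g, hg⟩ * x, ?_⟩
      rw [mul_smul, hx]
      change g • g⁻¹ • p = p
      rw [smul_inv_smul]
    · rintro ⟨x, hx⟩
      refine ⟨⟨g, hg⟩⁻¹ * x, ?_⟩
      rw [mul_smul, hx]
      rfl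
  apply le_antisymm t6
  -- the stabiliser of the sub-ovoid lies in the subgroup
  intro g hg
  have hg' : g • subOvoid m K' = subOvoid m K' := hg
  have hinf : oInf F m ∈ subOvoid m K' := Or.inl rfl
  have h1 : g • oInf F m ∈ MulAction.orbit R (oInf F m) := by
    rw [← t5, ← hg']
    exact Set.smul_mem_smul_set hinf
  obtain ⟨σ, hσ⟩ := MulAction.mem_orbit_iff.1 h1
  have hσ' : (σ : Sz F m) • oInf F m = g • oInf F m := hσ
  set h := (σ : Sz F m)⁻¹ * g with hh
  have hfix : h • oInf F m = oInf F m := by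
    rw [hh, mul_smul, ← hσ', inv_smul_smul]
  have hmem : h ∈ subStab m K' := (subStab m K').mul_mem ((subStab m K').inv_mem (t6 σ.2)) hg
  have hmem' : h • subOvoid m K' = subOvoid m K' := hmem
  obtain ⟨a, b, l, habl⟩ := stab_decomp hF hm hfix
  have hzero : oPt m (0 : F) 0 ∈ subOvoid m K' := Or.inr ⟨0, zero_mem _, 0, zero_mem _, rfl⟩
  have h2 : oPt m a b ∈ subOvoid m K' := by
    have := Set.smul_mem_smul_set (a := h) hzero
    rw [hmem', habl, mul_smul, gD_oZero, gT_oZero] at this
    exact this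
  have hab : a ∈ K' ∧ b ∈ K' := by
    rcases h2 with h2 | ⟨a', ha', b', hb', h2⟩
    · exact absurd h2 (oPt_ne_oInf _ _)
    · obtain ⟨e1, e2⟩ := szPt_inj m (congrArg Subtype.val h2)
      rw [e1, e2]
      exact ⟨ha', hb'⟩
  have hTR : gT hF a b ∈ R := hT a hab.1 b hab.2
  have hDmem : gD hF l ∈ subStab m K' := by
    have : gD hF l = (gT hF a b)⁻¹ * h := by rw [habl]; group
    rw [this]
    exact (subStab m K').mul_mem ((subStab m K').inv_mem (t6 hTR)) hmem
  have hDmem' : gD hF l • subOvoid m K' = subOvoid m K' := hDmem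
  have hone : oPt m (1 : F) 0 ∈ subOvoid m K' := Or.inr ⟨1, one_mem _, 0, zero_mem _, rfl⟩
  have h3 : oPt m ((l : F) ^ 2 * 1) ((l : F) ^ 2 * szθ m (l : F) ^ 2 * 0) ∈ subOvoid m K' := by
    have := Set.smul_mem_smul_set (a := gD hF l) hone
    rwa [hDmem', gD_oPt] at this
  have hl : (l : F) ∈ K' := by
    rcases h3 with h3 | ⟨a', ha', b', hb', h3⟩
    · exact absurd h3 (oPt_ne_oInf _ _)
    · obtain ⟨e1, e2⟩ := szPt_inj m (congrArg Subtype.val h3)
      rw [mul_one] at e1
      apply subK_of_sq hF K' hK'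
      rw [e1]
      exact ha'
  have hhR : h ∈ R := by
    rw [habl]
    exact R.mul_mem hTR (hD l hl)
  have : g = (σ : Sz F m) * h := by rw [hh]; group
  rw [this]
  exact R.mul_mem σ.2 hhR

end Cfsg.Agent.Lib.helper3
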