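import Mathlib
import Cfsg.Prelude.Def_LieExceptional
import Cfsg.Agent.Lib.helper3.SuzukiSubK
import Cfsg.Agent.Lib.helper3.SuzukiAutBase

set_option autoImplicit false

namespace Cfsg.Agent.Lib.helper3

open Cfsg Matrix

variable {F : Type*} [Field F] [Fintype F] {m : ℕ} (hF : Fintype.card F = 2 ^ (2 * m + 1))
variable (K' : Subfield F) {k : ℕ} (hK' : Nat.card K' = 2 ^ (2 * k + 1)) (hk : 1 ≤ k)

include hK' hk in
/-- a group of translations of order `s ^ 2` normalised by the torus over the subfield of order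
`s` and containing a translation with first coordinate `1` is the translation group over the
subfield -/
theorem sub_translation_group (P : Subgroup (Sz F m)) (hP : P ≤ Qs hF)
    (hc : Nat.card P = (2 ^ (2 * k + 1)) ^ 2)
    (hn : ∀ l : Fˣ, (l : F) ∈ K' → ∀ x ∈ P, gD hF l * x * (gD hF l)⁻¹ ∈ P)
    (b₁ : F) (h1 : gT hF 1 b₁ ∈ P) (x : Sz F m) :
    x ∈ P ↔ ∃ a ∈ K', ∃ b ∈ K', x = gT hF a b := by
  have h2 := sz_two hF
  have hfin : Finite K' := Nat.finite_of_card_ne_zero (by rw [hK']; positivity)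
  -- step 1
  have s1 : ∀ a ∈ K', a ≠ 0 → gT hF a (a * szθ m a * b₁) ∈ P := by
    intro a ha ha0
    obtain ⟨y, hy, hy2⟩ := subK_exists_sqrt K' hK' ha
    have hy0 : y ≠ 0 := by
      rintro rfl
      apply ha0
      rw [← hy2]
      ring
    have := hn (Units.mk0 y hy0) hy _ h1
    rw [gD_conj_gT, Units.val_mk0, mul_one, hy2] at this
    have e : szθ m y ^ 2 = szθ m a := by
      rw [← hy2, pow_two, pow_two, szθ_mul]
    rwa [e] at this
  -- step 2
  have s2 : ∀ β ∈ K', gT hF 0 β ∈ P := by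
    intro β hβ
    by_cases hβ0 : β = 0
    · rw [hβ0, gT_zero]
      exact P.one_mem
    · have ha : szθ m β / β ∈ K' := div_mem (subK_szθ K' hβ) hβ
      have ha0 : szθ m β / β ≠ 0 := div_ne_zero (szθ_ne_zero m hβ0) hβ0
      have hx := s1 _ ha ha0
      have := P.mul_mem hx hx
      rw [gT_sq, mul_comm (szθ m (szθ m β / β)), szθ_div_self_mul hF hβ0] at this
      exact this
  -- step 3
  have s3 : ∀ a ∈ K', ∀ β ∈ K', gT hF a (a * szθ m a * b₁ + β) ∈ P := by
    intro a ha β hβ
    by_cases ha0 : a = 0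
    · rw [ha0, zero_mul, zero_mul, zero_add]
      exact s2 β hβ
    · have := P.mul_mem (s1 a ha ha0) (s2 β hβ)
      rw [gT_mul, add_zero, mul_zero, add_zero] at this
      exact this
  -- step 4
  have s4 : ∀ x ∈ P, ∃ a ∈ K', ∃ β ∈ K', x = gT hF a (a * szθ m a * b₁ + β) := by
    let f : K' × K' → P := fun p => ⟨gT hF (p.1 : F) ((p.1 : F) * szθ m (p.1 : F) * b₁ + (p.2 : F)), s3 _ p.1.2 _ p.2.2⟩
    have hinj : Function.Injective f := by
      intro p p' h
      have h' := gT_injective hF (congrArg Subtype.val h)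
      have e1 : p.1 = p'.1 := Subtype.ext h'.1
      have e2 : (p.2 : F) = p'.2 := by
        have := h'.2
        rw [h'.1] at this
        exact add_left_cancel this
      exact Prod.ext e1 (Subtype.ext e2)
    have hfinP : Finite P := Nat.finite_of_card_ne_zero (by rw [hc]; positivity)
    have hbij : Function.Bijective f := by
      apply hinj.bijective_of_nat_card_le
      rw [Nat.card_prod, hK', hc, pow_two]
    intro x hx
    obtain ⟨p, hp⟩ := hbij.2 ⟨x, hx⟩
    exact ⟨p.1, p.1.2, p.2, p.2.2, (congrArg Subtype.val hp).symm⟩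
  -- step 5
  have s5 : b₁ ∈ K' := by
    obtain ⟨μ, hμ, hμ0, hμ1⟩ := subK_exists_ne K' hK' hk
    have hx := P.mul_mem h1 (s1 μ hμ hμ0)
    rw [gT_mul] at hx
    obtain ⟨a, ha, β, hβ, h⟩ := s4 _ hx
    obtain ⟨e1, e2⟩ := gT_injective hF h
    rw [← e1, szθ_add hF, szθ_one] at e2
    have hne := szθ_add_self_ne_zero hF hμ0 hμ1
    have hmem : μ + szθ m μ ∈ K' := add_mem hμ (subK_szθ K' hμ)
    have e3 : b₁ = (μ - β) / (μ + szθ m μ) := by
      rw [eq_div_iff hne]
      linear_combination (-1 : F) * e2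
    rw [e3]
    exact div_mem (sub_mem hμ hβ) hmem
  constructor
  · intro hx
    obtain ⟨a, ha, β, hβ, h⟩ := s4 x hx
    exact ⟨a, ha, _, add_mem (mul_mem (mul_mem ha (subK_szθ K' ha)) s5) hβ, h⟩
  · rintro ⟨a, ha, b, hb, rfl⟩
    have := s3 a ha (b - a * szθ m a * b₁)
      (sub_mem hb (mul_mem (mul_mem ha (subK_szθ K' ha)) s5))
    rwa [add_sub_cancel] at this

end Cfsg.Agent.Lib.helper3
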