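import Mathlib
import Cfsg.Prelude.Def_LieExceptional
import Cfsg.Agent.Lib.helper3.SuzukiSubK
import Cfsg.Agent.Lib.helper3.SuzukiSubP
import Cfsg.Agent.Lib.helper3.SuzukiSubOrbit
import Cfsg.Agent.Lib.helper3.SuzukiCN
import Cfsg.Agent.Lib.helper3.SuzukiPartition

set_option autoImplicit false

namespace Cfsg.Agent.Lib.helper3

open Cfsg Matrix
open scoped Pointwise

variable {F : Type*} [Field F] [Fintype F] {m : ℕ} (hF : Fintype.card F = 2 ^ (2 * m + 1))
  (hm : 1 ≤ m)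
variable {K : Type*} [Field K] [Fintype K] {k : ℕ} (hK : Fintype.card K = 2 ^ (2 * k + 1))
  (hk : 1 ≤ k)
variable (K' : Subfield F) (hK' : Nat.card K' = 2 ^ (2 * k + 1))

theorem sz_s_ge (hk : 1 ≤ k) : 8 ≤ 2 ^ (2 * k + 1) :=
  calc 8 = 2 ^ 3 := by norm_num
    _ ≤ 2 ^ (2 * k + 1) := Nat.pow_le_pow_right (by norm_num) (by omega)

theorem gD_orderOf (l : Fˣ) : orderOf (gD hF l) = orderOf l :=
  orderOf_injective (gDhom hF) (gDhom_injective hF) l

theorem gD_pow' (l : Fˣ) (i : ℕ) : gD hF (l ^ i) = gD hF l ^ i := map_pow (gDhom hF) l i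

theorem gD_inv' (l : Fˣ) : gD hF l⁻¹ = (gD hF l)⁻¹ := map_inv (gDhom hF) l

include hF hm hK hk hK' in
/-- the normalised case: an embedded copy of the small Suzuki group whose translations are
translations, whose torus generator is a torus element and which contains a translation with first
coordinate `1` is the stabiliser of the sub-ovoid -/
theorem range_eq_subStab (ψ : Sz K k →* Sz F m) (hψ : Function.Injective ψ)
    (h1 : ∀ a b : K, ψ (gT hK a b) ∈ Qs hF)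
    (κ₀ : Kˣ) (hκ₀ : orderOf κ₀ = 2 ^ (2 * k + 1) - 1) (κ : Fˣ) (h2 : ψ (gD hK κ₀) = gD hF κ)
    (a₁ b₁' : K) (b₁ : F) (h3 : ψ (gT hK a₁ b₁') = gT hF 1 b₁) :
    ψ.range = subStab m K' := by
  have hfinK : Finite (Sz K k) := finite_Sz hK hk
  have hs8 := sz_s_ge hk
  set s := 2 ^ (2 * k + 1) with hsdef
  -- the order of the torus generator
  have hoκ : orderOf κ = s - 1 := by
    rw [← gD_orderOf hF, ← h2, orderOf_injective ψ hψ, gD_orderOf hK, hκ₀]
  have hκK : (κ : F) ∈ K' := by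
    apply subK_of_pow_card K' hK'
    have : κ ^ (s - 1) = 1 := by rw [← hoκ]; exact pow_orderOf_eq_one κ
    have h' : (κ : F) ^ (s - 1) = 1 := by
      rw [← Units.val_pow_eq_pow_val, this, Units.val_one]
    have e : s = (s - 1) + 1 := by omega
    rw [← hsdef, e, pow_succ, h', one_mul]
  -- torus elements over the subfield are powers of the generator
  have hpow : ∀ l : Fˣ, (l : F) ∈ K' → ∃ i : ℕ, l = κ ^ i := by
    intro l hl
    have hprim : IsPrimitiveRoot (κ : F) (s - 1) := by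
      rw [← hoκ, ← orderOf_units]
      exact IsPrimitiveRoot.orderOf _
    have hl1 : (l : F) ^ (s - 1) = 1 := by
      have h' := subK_pow_card K' hK' hl
      have e : s = (s - 1) + 1 := by omega
      rw [← hsdef, e, pow_succ] at h'
      have hl0 : (l : F) ≠ 0 := l.ne_zero
      exact mul_right_cancel₀ hl0 (by rw [h', one_mul])
    have hne : NeZero (s - 1) := ⟨by omega⟩
    obtain ⟨i, _, hi⟩ := hprim.eq_pow_of_pow_eq_one hl1
    refine ⟨i, Units.ext ?_⟩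
    rw [Units.val_pow_eq_pow_val, hi]
  have hDψ : ∀ l : Fˣ, (l : F) ∈ K' → ∃ i : ℕ, gD hF l = ψ (gD hK (κ₀ ^ i)) := by
    intro l hl
    obtain ⟨i, rfl⟩ := hpow l hl
    exact ⟨i, by rw [gD_pow', gD_pow', map_pow, h2]⟩
  have hD : ∀ l : Fˣ, (l : F) ∈ K' → gD hF l ∈ ψ.range := by
    intro l hl
    obtain ⟨i, hi⟩ := hDψ l hl
    exact ⟨_, hi.symm⟩
  -- the translation group
  set P : Subgroup (Sz F m) := (Qs hK).map ψ with hP
  have hPQ : P ≤ Qs hF := by
    rintro _ ⟨x, hx, rfl⟩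
    obtain ⟨a, b, rfl⟩ := (mem_Qs hK).1 hx
    exact h1 a b
  have hPc : Nat.card P = s ^ 2 := by
    rw [hP, Subgroup.card_map_of_injective hψ, card_Qs hK]
  have hPn : ∀ l : Fˣ, (l : F) ∈ K' → ∀ x ∈ P, gD hF l * x * (gD hF l)⁻¹ ∈ P := by
    intro l hl x hx
    obtain ⟨i, hi⟩ := hDψ l hl
    obtain ⟨y, hy, rfl⟩ := hx
    obtain ⟨a, b, rfl⟩ := (mem_Qs hK).1 hy
    rw [hi, ← map_inv, ← map_mul, ← map_mul, gD_conj_gT]
    exact ⟨_, gT_mem_Qs hK _ _, rfl⟩
  have hP1 : gT hF 1 b₁ ∈ P := ⟨_, gT_mem_Qs hK a₁ b₁', h3⟩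
  have hPiff := sub_translation_group hF K' hK' hk P hPQ hPc hPn b₁ hP1
  have hT : ∀ a ∈ K', ∀ b ∈ K', gT hF a b ∈ ψ.range := by
    intro a ha b hb
    obtain ⟨x, _, hx⟩ := (hPiff (gT hF a b)).2 ⟨a, ha, b, hb, rfl⟩
    exact ⟨x, hx⟩
  -- the inversion
  have hκ1 : κ⁻¹ ≠ 1 := by
    intro h
    rw [inv_eq_one] at h
    rw [h, orderOf_one] at hoκ
    omega
  have hκ2 : κ ≠ κ⁻¹ := by
    intro h
    have h' : κ ^ 2 = 1 := by
      rw [pow_two]
      nth_rewrite 2 [h]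
      exact mul_inv_cancel κ
    have hd := orderOf_dvd_of_pow_eq_one h'
    rw [hoκ] at hd
    have := Nat.le_of_dvd (by norm_num) hd
    omega
  have hw : ψ (gJ hK) * gD hF κ = gD hF κ⁻¹ * ψ (gJ hK) := by
    rw [← h2, ← map_mul, gJ_gD, map_mul, gD_inv', map_inv, h2, gD_inv']
  have hwfix : gD hF κ⁻¹ • (ψ (gJ hK) • oInf F m) = ψ (gJ hK) • oInf F m := by
    rw [← mul_smul, ← hw, mul_smul, gD_oInf]
  have hw0 : ψ (gJ hK) • oInf F m = oPt m 0 0 := by
    rcases gD_fixed hF hκ1 hwfix with h | h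
    · exfalso
      obtain ⟨a, b, l, habl⟩ := stab_decomp hF hm h
      rw [habl, mul_assoc, ← gD_mul, ← mul_assoc, gD_gT, mul_assoc, ← gD_mul] at hw
      obtain ⟨_, _, e⟩ := gT_gD_inj hF hw
      rw [mul_comm] at e
      exact hκ2 (mul_right_cancel e)
    · exact h
  apply eq_subStab hF hm K' hK' ψ.range _ hT hD (ψ (gJ hK)) ⟨_, rfl⟩ hw0
  rw [← Nat.card_congr (MonoidHom.ofInjective hψ).toEquiv, card_Sz hk hK]

end Cfsg.Agent.Lib.helper3
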