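import Mathlib
import Cfsg.Prelude.Def_LieExceptional
import Cfsg.Agent.Lib.helper3.SuzukiSimple
import Cfsg.Agent.Lib.helper3.SuzukiForm

set_option autoImplicit false

namespace Cfsg.Agent.Lib.helper3

open Cfsg Matrix

variable {F : Type*} [Field F] [Fintype F] {m : ℕ} {K : Type*} [Field K] [Fintype K] {k : ℕ}

/-- a field of order `2 ^ (2 k + 1)` embeds into one of order `2 ^ (2 m + 1)` when the degrees
divide -/
theorem exists_ringHom_of_dvd (hF : Fintype.card F = 2 ^ (2 * m + 1))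
    (hK : Fintype.card K = 2 ^ (2 * k + 1)) (hdiv : 2 * k + 1 ∣ 2 * m + 1) :
    Nonempty (K →+* F) := by
  have hcF : CharP F 2 := CharTwo.of_one_ne_zero_of_two_eq_zero one_ne_zero (sz_two hF)
  have hcK : CharP K 2 := CharTwo.of_one_ne_zero_of_two_eq_zero one_ne_zero (sz_two hK)
  have : Fact (Nat.Prime 2) := ⟨Nat.prime_two⟩
  let _ : Algebra (ZMod 2) F := ZMod.algebra F 2
  let _ : Algebra (ZMod 2) K := ZMod.algebra K 2
  have h1 : Module.finrank (ZMod 2) F = 2 * m + 1 := by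
    have := FiniteField.pow_finrank_eq_card 2 F
    rw [hF] at this
    exact Nat.pow_right_injective (le_refl 2) this
  have h2 : Module.finrank (ZMod 2) K = 2 * k + 1 := by
    have := FiniteField.pow_finrank_eq_card 2 K
    rw [hK] at this
    exact Nat.pow_right_injective (le_refl 2) this
  obtain ⟨f⟩ := FiniteField.nonempty_algHom_of_finrank_dvd (F := ZMod 2) (K := K) (L := F)
    (by rw [h1, h2]; exact hdiv)
  exact ⟨f.toRingHom⟩

theorem pow_pow_card_eq {x : F} {s : ℕ} (hx : x ^ s = x) (j : ℕ) : x ^ (s ^ j) = x := by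
  induction j with
  | zero => rw [pow_zero, pow_one]
  | succ j ih => rw [pow_succ, pow_mul, ih, hx]

/-- the two Tits endomorphisms agree on the subfield -/
theorem szθ_eq_of_pow_eq (hdiv : 2 * k + 1 ∣ 2 * m + 1) {x : F} (hx : x ^ (2 ^ (2 * k + 1)) = x) :
    szθ m x = szθ k x := by
  obtain ⟨d, hd⟩ := hdiv
  have hodd : d % 2 = 1 := by
    rcases Nat.even_or_odd d with ⟨c, hc⟩ | ⟨c, hc⟩
    · exfalso
      rw [hc] at hd
      have : 2 * m + 1 = 2 * ((2 * k + 1) * c) := by rw [hd]; ring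
      omega
    · omega
  obtain ⟨j, hj⟩ : ∃ j, d = 2 * j + 1 := ⟨d / 2, by omega⟩
  have hm1 : m + 1 = (k + 1) + (2 * k + 1) * j := by
    rw [hj] at hd
    nlinarith
  unfold szθ
  rw [hm1, pow_add, mul_comm, pow_mul, pow_mul, pow_pow_card_eq hx]

theorem szθ_map (hK : Fintype.card K = 2 ^ (2 * k + 1)) (hdiv : 2 * k + 1 ∣ 2 * m + 1)
    (ι : K →+* F) (a : K) : ι (szθ k a) = szθ m (ι a) := by
  have hx : (ι a) ^ (2 ^ (2 * k + 1)) = ι a := by
    rw [← map_pow, ← hK, FiniteField.pow_card]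
  rw [szθ_eq_of_pow_eq hdiv hx]
  unfold szθ
  rw [map_pow]

theorem map_szT (hK : Fintype.card K = 2 ^ (2 * k + 1)) (hdiv : 2 * k + 1 ∣ 2 * m + 1)
    (ι : K →+* F) (a b : K) :
    Matrix.SpecialLinearGroup.map ι (szT k a b) = szT m (ι a) (ι b) := by
  apply Subtype.ext
  rw [Matrix.SpecialLinearGroup.map_apply_coe]
  ext i j
  have e1 := szθ_map (m := m) hK hdiv ι a
  have e2 := szθ_map (m := m) hK hdiv ι b
  change ι ((szTmat k a b) i j) = szTmat m (ι a) (ι b) i j
  fin_cases i <;> fin_cases j <;> simp [szTmat, szf_eq, e1, e2]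

theorem map_szJ (ι : K →+* F) :
    Matrix.SpecialLinearGroup.map ι (szJ K) = szJ F := by
  apply Subtype.ext
  rw [Matrix.SpecialLinearGroup.map_apply_coe]
  ext i j
  change ι ((szJmat K) i j) = szJmat F i j
  fin_cases i <;> fin_cases j <;> simp [szJmat]

theorem map_szD (hK : Fintype.card K = 2 ^ (2 * k + 1)) (hdiv : 2 * k + 1 ∣ 2 * m + 1)
    (ι : K →+* F) (κ : Kˣ) :
    Matrix.SpecialLinearGroup.map ι (szD k κ) = szD m (Units.map ι.toMonoidHom κ) := by
  apply Subtype.ext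
  rw [Matrix.SpecialLinearGroup.map_apply_coe]
  ext i j
  have e1 := szθ_map (m := m) hK hdiv ι (κ : K)
  change ι ((szDmat k (κ : K)) i j) = szDmat m (ι (κ : K)) i j
  fin_cases i <;> fin_cases j <;> simp [szDmat, e1]

/-- the subfield embedding of Suzuki groups -/
noncomputable def szSubHom (hF : Fintype.card F = 2 ^ (2 * m + 1))
    (hK : Fintype.card K = 2 ^ (2 * k + 1)) (hk : 1 ≤ k) (hdiv : 2 * k + 1 ∣ 2 * m + 1)
    (ι : K →+* F) : Sz K k →* Sz F m :=
  ((Matrix.SpecialLinearGroup.map ι).comp (Sz K k).subtype).codRestrict (Sz F m) (by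
    intro g
    rcases Sz_decomp hk hK g.2 with ⟨a, b, κ, h⟩ | ⟨a, b, a', b', κ, h⟩
    · rw [MonoidHom.comp_apply, Subgroup.subtype_apply, h, map_mul, map_szT hK hdiv,
        map_szD hK hdiv]
      exact (Sz F m).mul_mem (szT_mem hF _ _) (szD_mem hF _)
    · rw [MonoidHom.comp_apply, Subgroup.subtype_apply, h, map_mul, map_mul, map_mul,
        map_szT hK hdiv, map_szT hK hdiv, map_szD hK hdiv, map_szJ]
      exact (Sz F m).mul_mem ((Sz F m).mul_mem (szT_mem hF _ _) (szJ_mem hF))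
        ((Sz F m).mul_mem (szT_mem hF _ _) (szD_mem hF _)))

theorem szSubHom_injective (hF : Fintype.card F = 2 ^ (2 * m + 1))
    (hK : Fintype.card K = 2 ^ (2 * k + 1)) (hk : 1 ≤ k) (hdiv : 2 * k + 1 ∣ 2 * m + 1)
    (ι : K →+* F) : Function.Injective (szSubHom hF hK hk hdiv ι) := by
  intro g h hgh
  have h1 : Matrix.SpecialLinearGroup.map ι (g : Matrix.SpecialLinearGroup (Fin 4) K) =
      Matrix.SpecialLinearGroup.map ι (h : Matrix.SpecialLinearGroup (Fin 4) K) :=
    congrArg Subtype.val hgh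
  apply Subtype.ext
  apply Subtype.ext
  ext i j
  have h2 := congrArg (fun M : Matrix.SpecialLinearGroup (Fin 4) F =>
    (M : Matrix (Fin 4) (Fin 4) F) i j) h1
  simp only [Matrix.SpecialLinearGroup.map_apply_coe, RingHom.mapMatrix_apply,
    Matrix.map_apply] at h2
  exact ι.injective h2

/-- a Suzuki group over a subfield embeds as a subgroup -/
theorem exists_subfield_subgroup (hF : Fintype.card F = 2 ^ (2 * m + 1))
    (hK : Fintype.card K = 2 ^ (2 * k + 1)) (hk : 1 ≤ k) (hdiv : 2 * k + 1 ∣ 2 * m + 1) :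
    ∃ S : Subgroup (Sz F m), Nonempty (S ≃* Sz K k) := by
  obtain ⟨ι⟩ := exists_ringHom_of_dvd hF hK hdiv
  exact ⟨(szSubHom hF hK hk hdiv ι).range,
    ⟨(MonoidHom.ofInjective (szSubHom_injective hF hK hk hdiv ι)).symm⟩⟩

end Cfsg.Agent.Lib.helper3
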