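import Mathlib
import Cfsg.Prelude.Def_LieExceptional
import Cfsg.Agent.Lib.helper3.SuzukiSubConj
import Cfsg.Agent.Lib.helper3.SuzukiSubfield

set_option autoImplicit false

namespace Cfsg.Agent.Lib.helper3

open Cfsg Matrix
open scoped Pointwise

variable {F : Type*} [Field F] [Fintype F] {m : ℕ} (hF : Fintype.card F = 2 ^ (2 * m + 1))
  (hm : 1 ≤ m)
variable {K : Type*} [Field K] [Fintype K] {k : ℕ} (hK : Fintype.card K = 2 ^ (2 * k + 1))
  (hk : 1 ≤ k)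

include hF hm hK in
/-- first normalisation: the translations land in the translation group -/
theorem sub_step1 (ψ : Sz K k →* Sz F m) (hψ : Function.Injective ψ) :
    ∃ g : Sz F m, ∀ a b : K, g * ψ (gT hK a b) * g⁻¹ ∈ Qs hF := by
  have hfin : Finite (Sz F m) := finite_Sz hF hm
  set P : Subgroup (Sz F m) := (Qs hK).map ψ with hP
  have hPc : Nat.card P = 2 ^ ((2 * k + 1) * 2) := by
    rw [hP, Subgroup.card_map_of_injective hψ, card_Qs hK, ← pow_mul]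
  have hP2 : IsPGroup 2 P := IsPGroup.of_card hPc
  obtain ⟨S2, hS2⟩ := hP2.exists_le_sylow
  obtain ⟨x, hx⟩ := sylow_two_conj hF hm S2
  refine ⟨x⁻¹, fun a b => ?_⟩
  rw [inv_inv]
  exact (hx _).1 (hS2 ⟨_, gT_mem_Qs hK a b, rfl⟩)

include hF hm hK hk in
/-- second normalisation: the torus generator becomes a torus element -/
theorem sub_step2 (ψ : Sz K k →* Sz F m) (hψ : Function.Injective ψ)
    (h1 : ∀ a b : K, ψ (gT hK a b) ∈ Qs hF)
    (κ₀ : Kˣ) (hκ₀ : orderOf κ₀ = 2 ^ (2 * k + 1) - 1) :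
    ∃ u : Sz F m, (∀ a b : K, u * ψ (gT hK a b) * u⁻¹ ∈ Qs hF) ∧
      ∃ κ : Fˣ, u * ψ (gD hK κ₀) * u⁻¹ = gD hF κ := by
  have hs8 := sz_s_ge hk
  set c := ψ (gD hK κ₀) with hc
  have hoc : orderOf c = 2 ^ (2 * k + 1) - 1 := by
    rw [hc, orderOf_injective ψ hψ, gD_orderOf hK, hκ₀]
  -- a nontrivial translation and its conjugate
  obtain ⟨a, b, hab⟩ := (mem_Qs hF).1 (h1 1 0)
  have hne : ¬ (a = 0 ∧ b = 0) := by
    rintro ⟨rfl, rfl⟩
    rw [gT_zero, ← map_one ψ] at hab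
    have := hψ hab
    rw [← gT_zero hK] at this
    exact one_ne_zero (gT_injective hK this).1
  have hconj : c * ψ (gT hK 1 0) * c⁻¹ ∈ Qs hF := by
    rw [hc, ← map_inv, ← map_mul, ← map_mul, gD_conj_gT]
    exact h1 _ _
  obtain ⟨a', b', hab'⟩ := (mem_Qs hF).1 hconj
  have hne' : ¬ (a' = 0 ∧ b' = 0) := by
    rintro ⟨rfl, rfl⟩
    rw [gT_zero] at hab'
    have h' : ψ (gT hK 1 0) = 1 := by
      have : ψ (gT hK 1 0) = c⁻¹ * (c * ψ (gT hK 1 0) * c⁻¹) * c := by group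
      rw [this, hab']
      group
    rw [hab, ← gT_zero hF] at h'
    exact hne (gT_injective hF h')
  have hfix : gT hF a' b' • (c • oInf F m) = c • oInf F m := by
    rw [← hab', mul_smul, mul_smul, inv_smul_smul, hab, gT_oInf]
  have hcinf : c • oInf F m = oInf F m := gT_fixed hF hne' hfix
  obtain ⟨a'', b'', κ, hcd⟩ := stab_decomp hF hm hcinf
  have hκ : κ ≠ 1 := by
    rintro rfl
    rw [gD_one, mul_one] at hcd
    have h4 : c ^ 4 = 1 := by rw [hcd, gT_pow_four]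
    have hd := orderOf_dvd_of_pow_eq_one h4
    rw [hoc] at hd
    have := Nat.le_of_dvd (by norm_num) hd
    omega
  obtain ⟨x, y, hxy⟩ := exists_conj_gD hF a'' b'' hκ
  refine ⟨(gT hF x y)⁻¹, fun a b => ?_, κ, ?_⟩
  · exact (Qs hF).mul_mem ((Qs hF).mul_mem ((Qs hF).inv_mem (gT_mem_Qs hF x y)) (h1 a b))
      ((Qs hF).inv_mem ((Qs hF).inv_mem (gT_mem_Qs hF x y)))
  · rw [hcd, hxy]
    group

include hF hK in
/-- third normalisation: a translation with first coordinate `1` -/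
theorem sub_step3 (ψ : Sz K k →* Sz F m) (hψ : Function.Injective ψ)
    (h1 : ∀ a b : K, ψ (gT hK a b) ∈ Qs hF) (κ₀ : Kˣ) (κ : Fˣ)
    (h2 : ψ (gD hK κ₀) = gD hF κ) :
    ∃ d : Sz F m, (∀ a b : K, d * ψ (gT hK a b) * d⁻¹ ∈ Qs hF) ∧
      d * ψ (gD hK κ₀) * d⁻¹ = gD hF κ ∧ ∃ b₁ : F, d * ψ (gT hK 1 0) * d⁻¹ = gT hF 1 b₁ := by
  obtain ⟨a₀, b₀, hab⟩ := (mem_Qs hF).1 (h1 1 0)
  have ha₀ : a₀ ≠ 0 := by
    rintro rfl
    have h' : ψ (gT hK 1 0 * gT hK 1 0) = 1 := by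
      rw [map_mul, hab, gT_sq, szθ_zero, mul_zero, gT_zero]
    rw [← map_one ψ] at h'
    have := hψ h'
    rw [gT_sq, szθ_one, mul_one, ← gT_zero hK] at this
    exact one_ne_zero (gT_injective hK this).2
  obtain ⟨l, hl⟩ := exists_sqrt_unit hF (Units.mk0 a₀⁻¹ (inv_ne_zero ha₀))
  have hl2 : (l : F) ^ 2 * a₀ = 1 := by
    have := congrArg Units.val hl
    rw [Units.val_mul, Units.val_mk0] at this
    rw [pow_two, this]
    exact inv_mul_cancel₀ ha₀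
  refine ⟨gD hF l, fun a b => ?_, ?_, ?_⟩
  · obtain ⟨a', b', h⟩ := (mem_Qs hF).1 (h1 a b)
    rw [h, gD_conj_gT]
    exact gT_mem_Qs hF _ _
  · rw [h2, ← gD_inv', ← gD_mul, ← gD_mul, mul_comm l κ, mul_inv_cancel_right]
  · refine ⟨(l : F) ^ 2 * szθ m (l : F) ^ 2 * b₀, ?_⟩
    rw [hab, gD_conj_gT, hl2]

variable (K' : Subfield F) (hK' : Nat.card K' = 2 ^ (2 * k + 1))

include hF hm hK hk hK' in
/-- every embedded copy of the small Suzuki group is conjugate to the stabiliser of the sub-ovoid -/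
theorem exists_conj_eq_subStab (ψ : Sz K k →* Sz F m) (hψ : Function.Injective ψ) :
    ∃ g : Sz F m, (ψ.range).map (MulAut.conj g).toMonoidHom = subStab m K' := by
  classical
  -- a generator of the multiplicative group of the small field
  obtain ⟨κ₀, hκ₀⟩ := IsCyclic.exists_ofOrder_eq_natCard (α := Kˣ)
  rw [Nat.card_units, Nat.card_eq_fintype_card, hK] at hκ₀
  obtain ⟨g₁, hg₁⟩ := sub_step1 hF hm hK ψ hψ
  set ψ₁ : Sz K k →* Sz F m := (MulAut.conj g₁).toMonoidHom.comp ψ with hψ₁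
  have hinj₁ : Function.Injective ψ₁ := (MulAut.conj g₁).injective.comp hψ
  have h1₁ : ∀ a b : K, ψ₁ (gT hK a b) ∈ Qs hF := fun a b => hg₁ a b
  obtain ⟨u, hu, κ, hκ⟩ := sub_step2 hF hm hK hk ψ₁ hinj₁ h1₁ κ₀ hκ₀
  set ψ₂ : Sz K k →* Sz F m := (MulAut.conj u).toMonoidHom.comp ψ₁ with hψ₂
  have hinj₂ : Function.Injective ψ₂ := (MulAut.conj u).injective.comp hinj₁
  have h1₂ : ∀ a b : K, ψ₂ (gT hK a b) ∈ Qs hF := fun a b => hu a b
  have h2₂ : ψ₂ (gD hK κ₀) = gD hF κ := hκ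
  obtain ⟨d, hd1, hd2, b₁, hd3⟩ := sub_step3 hF hK ψ₂ hinj₂ h1₂ κ₀ κ h2₂
  set ψ₃ : Sz K k →* Sz F m := (MulAut.conj d).toMonoidHom.comp ψ₂ with hψ₃
  have hinj₃ : Function.Injective ψ₃ := (MulAut.conj d).injective.comp hinj₂
  have h1₃ : ∀ a b : K, ψ₃ (gT hK a b) ∈ Qs hF := fun a b => hd1 a b
  have h2₃ : ψ₃ (gD hK κ₀) = gD hF κ := hd2
  have h3₃ : ψ₃ (gT hK 1 0) = gT hF 1 b₁ := hd3
  have key := range_eq_subStab hF hm hK hk K' hK' ψ₃ hinj₃ h1₃ κ₀ hκ₀ κ h2₃ 1 0 b₁ h3₃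
  refine ⟨d * u * g₁, ?_⟩
  rw [← key, ← MonoidHom.range_comp]
  congr 1
  ext x
  simp [hψ₃, hψ₂, hψ₁, MulAut.conj_apply, mul_assoc]

include hF hm hK hk in
/-- subgroups isomorphic to the small Suzuki group are conjugate -/
theorem sub_suzuki_conj (hdiv : 2 * k + 1 ∣ 2 * m + 1) (S₁ S₂ : Subgroup (Sz F m))
    (e₁ : S₁ ≃* Sz K k) (e₂ : S₂ ≃* Sz K k) :
    ∃ g : Sz F m, S₂ = S₁.map (MulAut.conj g).toMonoidHom := by
  obtain ⟨ι⟩ := exists_ringHom_of_dvd hF hK hdiv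
  set K' : Subfield F := ι.fieldRange with hK'def
  have hK' : Nat.card K' = 2 ^ (2 * k + 1) := by
    rw [← hK, ← Nat.card_eq_fintype_card]
    exact (Nat.card_congr ι.rangeRestrictFieldEquiv.toEquiv).symm
  have hr : ∀ (S : Subgroup (Sz F m)) (e : S ≃* Sz K k),
      ∃ g : Sz F m, S.map (MulAut.conj g).toMonoidHom = subStab m K' := by
    intro S e
    have hinj : Function.Injective (S.subtype.comp e.symm.toMonoidHom) :=
      S.subtype_injective.comp e.symm.injective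
    obtain ⟨g, hg⟩ := exists_conj_eq_subStab hF hm hK hk K' hK' _ hinj
    refine ⟨g, ?_⟩
    rw [← hg]
    congr 1
    rw [MonoidHom.range_comp]
    have : e.symm.toMonoidHom.range = ⊤ := MonoidHom.range_eq_top.2 e.symm.surjective
    rw [this, ← MonoidHom.range_eq_map, Subgroup.range_subtype]
  obtain ⟨g₁, hg₁⟩ := hr S₁ e₁
  obtain ⟨g₂, hg₂⟩ := hr S₂ e₂
  refine ⟨g₂⁻¹ * g₁, ?_⟩
  have : S₁.map (MulAut.conj (g₂⁻¹ * g₁)).toMonoidHom =
      (S₁.map (MulAut.conj g₁).toMonoidHom).map (MulAut.conj g₂⁻¹).toMonoidHom := by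
    rw [Subgroup.map_map]
    congr 1
    ext x
    simp [MulAut.conj_apply, mul_assoc]
  rw [this, hg₁, ← hg₂, Subgroup.map_map]
  have : (MulAut.conj g₂⁻¹).toMonoidHom.comp (MulAut.conj g₂).toMonoidHom =
      MonoidHom.id (Sz F m) := by
    ext x
    simp [MulAut.conj_apply, mul_assoc]
  rw [this, Subgroup.map_id]

end Cfsg.Agent.Lib.helper3
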