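import Mathlib
import Cfsg.Prelude.Def_LieExceptional
import Cfsg.Agent.Lib.helper3.SuzukiPartition
import Cfsg.Agent.Lib.helper3.SuzukiAutBase
import Cfsg.Agent.Lib.helper3.SuzukiOddSylow

set_option autoImplicit false

namespace Cfsg.Agent.Lib.helper3

open Cfsg Matrix

variable {F : Type*} [Field F] [Fintype F] {m : ℕ} (hF : Fintype.card F = 2 ^ (2 * m + 1))
  (hm : 1 ≤ m)

theorem gJ_oPt (x y : F) (h : ¬ (x = 0 ∧ y = 0)) :
    gJ hF • oPt m x y = oPt m (y / szf m x y) (x / szf m x y) :=
  Subtype.ext (szJ_smul_pt hF x y h)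

include hF hm in
/-- involutions are conjugates of central translations -/
theorem invol_eq_conj {z : Sz F m} (h1 : z ≠ 1) (h2 : z * z = 1) :
    ∃ (x : Sz F m) (b : F), b ≠ 0 ∧ z = x * gT hF 0 b * x⁻¹ := by
  rcases sz_trichotomy hF hm h1 with ⟨u, a, b, hab, rfl⟩ | ⟨u, k, hk, rfl⟩ | hfpf
  · have h3 : gT hF a b * gT hF a b = 1 := by
      calc gT hF a b * gT hF a b
          = u⁻¹ * ((u * gT hF a b * u⁻¹) * (u * gT hF a b * u⁻¹)) * u := by group
        _ = u⁻¹ * 1 * u := by rw [h2]
        _ = 1 := by group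
    have ha := gT_sq_eq_one hF h3
    subst ha
    refine ⟨u, b, ?_, rfl⟩
    rintro rfl
    exact hab ⟨rfl, rfl⟩
  · exfalso
    apply hk
    have h3 : gD hF k * gD hF k = 1 := by
      calc gD hF k * gD hF k
          = u⁻¹ * ((u * gD hF k * u⁻¹) * (u * gD hF k * u⁻¹)) * u := by group
        _ = u⁻¹ * 1 * u := by rw [h2]
        _ = 1 := by group
    rw [← gD_mul, ← gD_one hF] at h3
    have h4 : k * k = 1 := gDhom_injective hF h3
    have h5 : ((k : F)) ^ 2 = 1 := by
      rw [pow_two, ← Units.val_mul, h4, Units.val_one]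
    exact Units.ext (sz_sq_eq_one hF h5)
  · exfalso
    have ho : orderOf z = 2 := orderOf_eq_prime (by rw [pow_two]; exact h2) h1
    have hd := hfpf.prime_dvd hF Nat.prime_two ho
    have : (2 : ℕ) ∣ (2 ^ (2 * m + 1)) ^ 2 := by
      rw [← pow_mul]
      exact dvd_pow_self 2 (by omega)
    have h1 : (2 : ℕ) ∣ 1 := (Nat.dvd_add_right this).1 hd
    omega

include hF hm in
/-- an involution fixes exactly one point of the ovoid -/
theorem invol_fixed_unique {z : Sz F m} (h1 : z ≠ 1) (h2 : z * z = 1) :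
    ∃ p : suzukiOvoid F m, z • p = p ∧ ∀ p' : suzukiOvoid F m, z • p' = p' → p' = p := by
  obtain ⟨x, b, hb, rfl⟩ := invol_eq_conj hF hm h1 h2
  refine ⟨x • oInf F m, ?_, ?_⟩
  · rw [mul_smul, mul_smul, inv_smul_smul, gT_oInf]
  · intro p' hp'
    have : gT hF 0 b • (x⁻¹ • p') = x⁻¹ • p' := by
      rw [mul_smul, mul_smul] at hp'
      have h4 := congrArg (fun q => x⁻¹ • q) hp'
      simpa only [inv_smul_smul] using h4
    have h3 := gT_fixed hF (a := 0) (b := b) (fun h => hb h.2) this
    rw [← h3, smul_inv_smul]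

include hF hm in
theorem invol_fixed_eq {z : Sz F m} (h1 : z ≠ 1) (h2 : z * z = 1) {p p' : suzukiOvoid F m}
    (hp : z • p = p) (hp' : z • p' = p') : p = p' := by
  obtain ⟨q, _, hq⟩ := invol_fixed_unique hF hm h1 h2
  rw [hq p hp, hq p' hp']

include hF hm in
/-- two involutions with distinct fixed points are conjugate by an involution of the group they
generate, which swaps the two fixed points -/
theorem dihedral_swap {H : Subgroup (Sz F m)} {u u' : Sz F m} (hu : u ∈ H) (hu' : u' ∈ H)
    (hu1 : u ≠ 1) (hu2 : u * u = 1) (hu'1 : u' ≠ 1) (hu'2 : u' * u' = 1)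
    {p p' : suzukiOvoid F m} (hp : u • p = p) (hp' : u' • p' = p') (hne : p ≠ p') :
    ∃ w ∈ H, w * w = 1 ∧ w • p = p' ∧ w * u * w = u' := by
  have hfin : Finite (Sz F m) := finite_Sz hF hm
  have hui : u⁻¹ = u := inv_eq_of_mul_eq_one_left hu2
  have hu'i : u'⁻¹ = u' := inv_eq_of_mul_eq_one_left hu'2
  set v := u * u' with hv
  have hvi : v⁻¹ = u' * u := by rw [hv, _root_.mul_inv_rev, hui, hu'i]
  have hconj : u * v * u⁻¹ = v⁻¹ := by
    rw [hvi, hui, hv]
    calc u * (u * u') * u = (u * u) * u' * u := by group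
      _ = u' * u := by rw [hu2, one_mul]
  have hconj' : u' * v * u'⁻¹ = v⁻¹ := by
    rw [hvi, hu'i, hv]
    calc u' * (u * u') * u' = u' * u * (u' * u') := by group
      _ = u' * u := by rw [hu'2, mul_one]
  have hpow : ∀ j : ℕ, u * v ^ j * u⁻¹ = (v ^ j)⁻¹ := by
    intro j
    rw [← conj_pow, hconj, inv_pow]
  have hpow' : ∀ j : ℕ, u' * v ^ j * u'⁻¹ = (v ^ j)⁻¹ := by
    intro j
    rw [← conj_pow, hconj', inv_pow]
  have hn : 0 < orderOf v := orderOf_pos v
  rcases Nat.even_or_odd' (orderOf v) with ⟨l, hl | hl⟩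
  · -- even order: impossible
    exfalso
    have hl0 : 0 < l := by omega
    set z := v ^ l with hz
    have hz1 : z ≠ 1 := pow_ne_one_of_lt_orderOf hl0.ne' (by omega)
    have hz2 : z * z = 1 := by
      rw [hz, ← pow_add, ← two_mul, ← hl, pow_orderOf_eq_one]
    have hzi : z⁻¹ = z := inv_eq_of_mul_eq_one_left hz2
    have hc : u * z = z * u := by
      have := hpow l
      rw [← hz, hzi] at this
      calc u * z = (u * z * u⁻¹) * u := by group
        _ = z * u := by rw [this]
    have hc' : u' * z = z * u' := by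
      have := hpow' l
      rw [← hz, hzi] at this
      calc u' * z = (u' * z * u'⁻¹) * u' := by group
        _ = z * u' := by rw [this]
    have hzp : z • p = p := by
      apply invol_fixed_eq hF hm hu1 hu2 _ hp
      rw [← mul_smul, hc, mul_smul, hp]
    have hzp' : z • p' = p' := by
      apply invol_fixed_eq hF hm hu'1 hu'2 _ hp'
      rw [← mul_smul, hc', mul_smul, hp']
    exact hne (invol_fixed_eq hF hm hz1 hz2 hzp hzp')
  · -- odd order
    set g := v ^ l with hg
    have hgH : g ∈ H := H.pow_mem (H.mul_mem hu hu') l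
    have hugu : u * g * u = g⁻¹ := by
      have := hpow l
      rwa [hui] at this
    have hgg : g * g = v⁻¹ := by
      rw [hg, ← pow_add, ← two_mul]
      have : v ^ (2 * l) * v = 1 := by
        rw [← pow_succ, ← hl, pow_orderOf_eq_one]
      exact eq_inv_of_mul_eq_one_left this
    have hggu : g * g * u = u' := by
      rw [hgg, hvi, mul_assoc, hu2, mul_one]
    refine ⟨g * u, H.mul_mem hgH hu, ?_, ?_, ?_⟩
    · calc g * u * (g * u) = g * (u * g * u) := by group
        _ = 1 := by rw [hugu, mul_inv_cancel]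
    · rw [mul_smul, hp]
      apply invol_fixed_eq hF hm hu'1 hu'2 _ hp'
      have e : u' * g = g * u := by
        rw [← hggu]
        calc g * g * u * g = g * (g * (u * g * u) * u⁻¹) := by group
          _ = g * u := by rw [hugu, mul_inv_cancel, one_mul, hui]
      rw [← mul_smul, e, mul_smul, hp]
    · calc g * u * u * (g * u) = g * (u * u) * g * u := by group
        _ = g * g * u := by rw [hu2, mul_one]
        _ = u' := hggu

end Cfsg.Agent.Lib.helper3
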