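import Mathlib
import Cfsg.Prelude.Def_LieExceptional
import Cfsg.Agent.Lib.helper3.SuzukiPartition
import Cfsg.Agent.Lib.helper3.SuzukiOddSylow
import Cfsg.Agent.Lib.helper3.SuzukiClassEq

set_option autoImplicit false

namespace Cfsg.Agent.Lib.helper3

open Cfsg Matrix

variable {F : Type*} [Field F] [Fintype F] {m : ℕ} (hF : Fintype.card F = 2 ^ (2 * m + 1))
  (hm : 1 ≤ m)

/-- being a torus of the Suzuki group: cyclic of order `q - 1` or `q ± r + 1` -/
def IsTorus (m : ℕ) (U : Subgroup (Sz F m)) : Prop :=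
  IsCyclic U ∧ Nat.card U ∈ ({2 ^ (2 * m + 1) - 1, 2 ^ (2 * m + 1) + 2 ^ (m + 1) + 1,
    2 ^ (2 * m + 1) - 2 ^ (m + 1) + 1} : Set ℕ)

omit [Fintype F] in
theorem IsTorus.map_conj {U : Subgroup (Sz F m)} (hU : IsTorus m U) (g : Sz F m) :
    IsTorus m (U.map (MulAut.conj g).toMonoidHom) := by
  constructor
  · have := hU.1
    exact isCyclic_of_surjective ((MulAut.conj g).toMonoidHom.subgroupMap U)
      (MonoidHom.subgroupMap_surjective _ _)
  · rw [Subgroup.card_map_of_injective (MulAut.conj g).injective]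
    exact hU.2

include hF hm in
/-- a group normalising the cyclic group generated by a nontrivial element of odd order
normalises a torus -/
theorem le_normalizer_torus {M : Subgroup (Sz F m)} {x : Sz F m} (hx1 : x ≠ 1)
    (hodd : Odd (orderOf x)) (hnorm : ∀ g ∈ M, ∃ j : ℕ, g * x * g⁻¹ = x ^ j) :
    ∃ U : Subgroup (Sz F m), IsTorus m U ∧ M ≤ Subgroup.normalizer (U : Set (Sz F m)) := by
  obtain ⟨U, ⟨hU, hxU⟩, _⟩ := sz_partition hF hm x hx1
  rcases hU with ⟨P, rfl⟩ | hU
  · exfalso
    obtain ⟨j, hj⟩ := orderOf_two_pow_of_mem_sylow P hxU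
    apply hx1
    exact eq_one_of_two_pow_of_odd hj dvd_rfl hodd
  · refine ⟨U, hU, fun g hg => ?_⟩
    apply mem_normalizer_of_map_conj_eq
    obtain ⟨j, hj⟩ := hnorm g hg
    have hy1 : g * x * g⁻¹ ≠ 1 := by
      intro h
      apply hx1
      calc x = g⁻¹ * (g * x * g⁻¹) * g := by group
        _ = 1 := by rw [h]; group
    obtain ⟨V, _, hV⟩ := sz_partition hF hm (g * x * g⁻¹) hy1
    have h1 : U.map (MulAut.conj g).toMonoidHom = V := by
      apply hV
      refine ⟨Or.inr (IsTorus.map_conj (U := U) hU g), ⟨x, hxU, ?_⟩⟩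
      simp [MulAut.conj_apply]
    have h2 : U = V := by
      apply hV
      refine ⟨Or.inr hU, ?_⟩
      rw [hj]
      exact U.pow_mem hxU j
    rw [h1, h2]

include hF hm in
/-- subgroups of odd order have cyclic Sylow subgroups -/
theorem isZGroup_of_odd (N : Subgroup (Sz F m)) (hodd : Odd (Nat.card N)) : IsZGroup N := by
  have hfin : Finite (Sz F m) := finite_Sz hF hm
  rw [isZGroup_iff]
  intro p hp P
  have : Fact p.Prime := ⟨hp⟩
  by_cases hp2 : p = 2
  · subst hp2
    obtain ⟨n, hn⟩ := P.isPGroup'.exists_card_eq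
    have hd : Nat.card P ∣ Nat.card N := Subgroup.card_subgroup_dvd_card _
    have hn0 : n = 0 := by
      by_contra h0
      rw [hn] at hd
      have h2 : 2 ∣ Nat.card N := dvd_trans (dvd_pow_self 2 h0) hd
      obtain ⟨c, hc⟩ := hodd
      omega
    rw [hn0, pow_zero] at hn
    have : Subsingleton P := (Nat.card_eq_one_iff_unique.1 hn).1
    exact isCyclic_of_subsingleton
  · set P' : Subgroup (Sz F m) := (P : Subgroup N).map N.subtype with hP'
    have hP'p : IsPGroup p P' := P.isPGroup'.map _
    obtain ⟨P₀, hP₀⟩ := hP'p.exists_le_sylow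
    have hcyc : IsCyclic P₀ := sylow_cyclic_of_odd hF hm hp2 P₀
    let f : (P : Subgroup N) →* (P₀ : Subgroup (Sz F m)) :=
      (N.subtype.comp (P : Subgroup N).subtype).codRestrict (P₀ : Subgroup (Sz F m))
        (fun x => hP₀ ⟨x.1, x.2, rfl⟩)
    have hf : Function.Injective f := by
      intro a b hab
      have := congrArg Subtype.val hab
      exact Subtype.ext (Subtype.ext this)
    exact isCyclic_of_injective f hf

include hF hm in
/-- a group normalising a nontrivial subgroup of odd order normalises a torus -/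
theorem le_normalizer_torus_of_odd {M N : Subgroup (Sz F m)} (hN : N ≠ ⊥)
    (hodd : Odd (Nat.card N)) (hMN : M ≤ Subgroup.normalizer (N : Set (Sz F m))) :
    ∃ U : Subgroup (Sz F m), IsTorus m U ∧ M ≤ Subgroup.normalizer (U : Set (Sz F m)) := by
  have hfin : Finite (Sz F m) := finite_Sz hF hm
  have hZ : IsZGroup N := isZGroup_of_odd hF hm N hodd
  -- a characteristic cyclic subgroup
  have key : ∃ c : Subgroup N, c.Characteristic ∧ IsCyclic c ∧ c ≠ ⊥ := by
    by_cases hc : commutator N = ⊥
    · refine ⟨⊤, inferInstance, ?_, ?_⟩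
      · have hcomm : ∀ a b : N, a * b = b * a := by
          intro a b
          have h1 : (⊤ : Subgroup N) ≤ Subgroup.centralizer ((⊤ : Subgroup N) : Set N) :=
            Subgroup.commutator_eq_bot_iff_le_centralizer.1 hc
          have h2 := h1 (Subgroup.mem_top b)
          rw [Subgroup.mem_centralizer_iff] at h2
          exact h2 a (Subgroup.mem_top a)
        let _ : CommGroup N := { (inferInstance : Group N) with mul_comm := hcomm }
        have : IsCyclic N := inferInstance
        exact isCyclic_of_surjective (Subgroup.topEquiv (G := N)).symm.toMonoidHom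
          (Subgroup.topEquiv (G := N)).symm.surjective
      · intro h
        apply hN
        rw [eq_bot_iff]
        intro x hx
        have : (⟨x, hx⟩ : N) ∈ (⊤ : Subgroup N) := Subgroup.mem_top _
        rw [h, Subgroup.mem_bot] at this
        rw [Subgroup.mem_bot]
        exact congrArg Subtype.val this
    · exact ⟨commutator N, inferInstance, IsZGroup.isCyclic_commutator N, hc⟩
  obtain ⟨c, hchar, hcyc, hcne⟩ := key
  obtain ⟨y, hy⟩ := hcyc.exists_generator
  have hy1 : (y : N) ≠ 1 := by
    intro h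
    apply hcne
    rw [eq_bot_iff]
    intro z hz
    obtain ⟨j, hj⟩ := Subgroup.mem_zpowers_iff.1 (hy ⟨z, hz⟩)
    have h' : y = 1 := Subtype.ext h
    rw [h', _root_.one_zpow] at hj
    rw [Subgroup.mem_bot]
    exact (congrArg Subtype.val hj).symm
  set x : Sz F m := ((y : N) : Sz F m) with hx
  have hx1 : x ≠ 1 := fun h => hy1 (Subtype.ext h)
  have hxodd : Odd (orderOf x) := by
    have h1 : orderOf x ∣ Nat.card N := by
      rw [hx, Subgroup.orderOf_coe]
      exact orderOf_dvd_natCard _
    exact Odd.of_dvd_nat hodd h1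
  apply le_normalizer_torus hF hm hx1 hxodd
  intro g hg
  set α : MulAut N := N.normalizerMonoidHom ⟨g, hMN hg⟩ with hα
  have hmap : c.map α.toMonoidHom = c := Subgroup.characteristic_iff_map_eq.1 hchar α
  have hmem : α (y : N) ∈ c := by
    have h' : α (y : N) ∈ c.map α.toMonoidHom := ⟨(y : N), y.2, rfl⟩
    rwa [hmap] at h'
  obtain ⟨j, hj⟩ := Subgroup.mem_zpowers_iff.1 (hy ⟨α (y : N), hmem⟩)
  have hj' : ((y : N) : Sz F m) ^ j = g * x * g⁻¹ := by
    have h3 := congrArg (fun t : c => ((t : N) : Sz F m)) hj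
    have e : ((α (y : N) : N) : Sz F m) = g * x * g⁻¹ := rfl
    rw [← e]
    simpa using h3
  -- turn the integer power into a natural power
  have hfinx : IsOfFinOrder x := isOfFinOrder_of_finite x
  refine ⟨(j % (orderOf x : ℤ)).toNat, ?_⟩
  rw [← hj', ← hx, ← zpow_natCast, Int.toNat_of_nonneg
    (Int.emod_nonneg _ (by exact_mod_cast (orderOf_pos x).ne')), zpow_mod_orderOf]

end Cfsg.Agent.Lib.helper3
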