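import Mathlib
import Cfsg.Prelude.Def_LieExceptional
import Cfsg.Agent.Lib.helper3.SuzukiSubTN
import Cfsg.Agent.Lib.helper3.SuzukiAutBase

set_option autoImplicit false

namespace Cfsg.Agent.Lib.helper3

open Cfsg Matrix

variable {F : Type*} [Field F] [Fintype F] {m : ℕ} (hF : Fintype.card F = 2 ^ (2 * m + 1))
  (hm : 1 ≤ m)

include hF in
/-- the norm-like map `a ↦ a θ(a)` is injective -/
theorem sz_norm_inj {a a' : F} (h : a * szθ m a = a' * szθ m a') : a = a' := by
  by_cases ha' : a' = 0
  · subst ha'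
    rw [zero_mul] at h
    rcases mul_eq_zero.1 h with h' | h'
    · exact h'
    · exact szθ_eq_zero m h'
  · have hθ : szθ m a' ≠ 0 := szθ_ne_zero m ha'
    have h1 : (a / a') * szθ m (a / a') = 1 := by
      rw [szθ_div]
      field_simp
      exact h
    have := sz_norm_eq_one hF h1
    exact (div_eq_one_iff_eq ha').1 this

include hF in
/-- the scaling factor of the torus on the centre of the translation group is injective -/
theorem sz_nu_inj {l l' : Fˣ}
    (h : (l : F) ^ 2 * szθ m (l : F) ^ 2 = (l' : F) ^ 2 * szθ m (l' : F) ^ 2) : l = l' := by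
  have h1 : ((l : F) * szθ m (l : F)) ^ 2 = ((l' : F) * szθ m (l' : F)) ^ 2 := by
    rw [mul_pow, mul_pow]
    exact h
  have h2 : (l : F) * szθ m (l : F) = (l' : F) * szθ m (l' : F) := by
    have h0 : (l' : F) * szθ m (l' : F) ≠ 0 :=
      mul_ne_zero l'.ne_zero (szθ_ne_zero m l'.ne_zero)
    have h3 : (((l : F) * szθ m (l : F)) / ((l' : F) * szθ m (l' : F))) ^ 2 = 1 := by
      rw [div_pow, h1]
      exact div_self (pow_ne_zero 2 h0)
    have := sz_sq_eq_one hF h3
    exact (div_eq_one_iff_eq h0).1 this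
  exact Units.ext (sz_norm_inj hF h2)

include hF hm in
/-- a subgroup containing the inversion whose translation subgroup has a unique involution
normalises a torus -/
theorem le_normalizer_torus_of_unique_invol (H : Subgroup (Sz F m)) (hJ : gJ hF ∈ H)
    (b₁ : F) (hb₁ : b₁ ≠ 0) (h1 : gT hF 0 b₁ ∈ H)
    (huniq : ∀ b : F, b ≠ 0 → gT hF 0 b ∈ H → b = b₁) :
    ∃ U : Subgroup (Sz F m), IsTorus m U ∧ H ≤ Subgroup.normalizer (U : Set (Sz F m)) := by
  classical
  have hfin : Finite (Sz F m) := finite_Sz hF hm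
  have h2 := sz_two hF
  set T : Subgroup (Sz F m) := H ⊓ Qs hF with hT
  -- elements of T
  have hTB : ∀ b : F, gT hF 0 b ∈ H → b = 0 ∨ b = b₁ := by
    intro b hb
    by_cases h0 : b = 0
    · exact Or.inl h0
    · exact Or.inr (huniq b h0 hb)
  have hsq : ∀ a b : F, gT hF a b ∈ H → a = 0 ∨ szθ m a * a = b₁ := by
    intro a b hab
    have := H.mul_mem hab hab
    rw [gT_sq] at this
    rcases hTB _ this with h | h
    · left
      rcases mul_eq_zero.1 h with h' | h'
      · exact szθ_eq_zero m h'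
      · exact h'
    · exact Or.inr h
  -- T is cyclic
  have hTcyc : ∃ x₀ : Sz F m, x₀ ∈ T ∧ ∀ x ∈ T, x ∈ Subgroup.zpowers x₀ := by
    by_cases hex : ∃ a₁ c₁ : F, a₁ ≠ 0 ∧ gT hF a₁ c₁ ∈ H
    · obtain ⟨a₁, c₁, ha₁, hx⟩ := hex
      have hn₁ : szθ m a₁ * a₁ = b₁ := (hsq a₁ c₁ hx).resolve_left ha₁
      refine ⟨gT hF a₁ c₁, ⟨hx, gT_mem_Qs hF _ _⟩, ?_⟩
      rintro x ⟨hxH, hxQ⟩
      obtain ⟨a, b, rfl⟩ := (mem_Qs hF).1 hxQ
      have hx2 : gT hF a₁ c₁ ^ 2 = gT hF 0 b₁ := by rw [pow_two, gT_sq, hn₁]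
      rcases hsq a b hxH with ha | ha
      · subst ha
        rcases hTB b hxH with hb | hb
        · rw [hb, gT_zero]
          exact Subgroup.one_mem _
        · rw [hb, ← hx2]
          exact Subgroup.npow_mem_zpowers _ 2
      · have haa : a = a₁ := by
          apply sz_norm_inj hF
          rw [mul_comm, ha, mul_comm, hn₁]
        subst haa
        have hdiff : gT hF 0 (b + c₁) ∈ H := by
          have := H.mul_mem (H.inv_mem hx) hxH
          rw [gT_inv, gT_mul] at this
          have e : gT hF (a + a) (c₁ + a * szθ m a + b + szθ m a * a) = gT hF 0 (b + c₁) := by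
            congr 1
            · linear_combination a * h2
            · linear_combination (a * szθ m a) * h2
          rwa [e] at this
        rcases hTB _ hdiff with hb | hb
        · have : b = c₁ := by linear_combination hb - c₁ * h2
          rw [this]
          exact Subgroup.mem_zpowers _
        · have e : gT hF a b = gT hF a c₁ ^ 3 := by
            rw [pow_succ, hx2, gT_mul, szθ_zero, zero_mul, add_zero, zero_add]
            congr 1
            linear_combination hb - c₁ * h2
          rw [e]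
          exact Subgroup.npow_mem_zpowers _ 3
    · push Not at hex
      refine ⟨gT hF 0 b₁, ⟨h1, gT_mem_Qs hF _ _⟩, ?_⟩
      rintro x ⟨hxH, hxQ⟩
      obtain ⟨a, b, rfl⟩ := (mem_Qs hF).1 hxQ
      have ha : a = 0 := by
        by_contra h
        exact hex a b h hxH
      subst ha
      rcases hTB b hxH with hb | hb
      · rw [hb, gT_zero]
        exact Subgroup.one_mem _
      · rw [hb]
        exact Subgroup.mem_zpowers _
  obtain ⟨x₀, hx₀T, hx₀⟩ := hTcyc
  -- the Sylow 2-subgroup of H
  set T' : Subgroup H := T.subgroupOf H with hT'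
  have hT'2 : IsPGroup 2 T' := by
    have hQ2 : IsPGroup 2 (Qs hF) := by
      apply IsPGroup.of_card (n := (2 * m + 1) * 2)
      rw [card_Qs hF, ← pow_mul]
    have hT2 : IsPGroup 2 T := hQ2.to_le inf_le_right
    exact hT2.comap_of_injective H.subtype H.subtype_injective
  obtain ⟨P, hP⟩ := hT'2.exists_le_sylow
  have hPle : (P : Subgroup H) ≤ T' := by
    have hP2 : IsPGroup 2 ((P : Subgroup H).map H.subtype) := P.isPGroup'.map _
    obtain ⟨P₂, hP₂⟩ := hP2.exists_le_sylow
    have hu1 : gT hF 0 b₁ ≠ 1 := by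
      intro h
      rw [← gT_zero hF] at h
      exact hb₁ (gT_injective hF h).2
    have hmem1 : gT hF 0 b₁ ∈ P₂ := by
      apply hP₂
      refine ⟨⟨gT hF 0 b₁, h1⟩, hP ?_, rfl⟩
      rw [hT', Subgroup.mem_subgroupOf]
      exact ⟨h1, gT_mem_Qs hF _ _⟩
    have hmem2 : gT hF 0 b₁ ∈ QsSylow hF hm := by
      change gT hF 0 b₁ ∈ ((QsSylow hF hm : Sylow 2 (Sz F m)) : Subgroup (Sz F m))
      rw [coe_QsSylow]
      exact gT_mem_Qs hF _ _
    have heq := sylow_two_eq_of_mem hF hm hu1 hmem1 hmem2
    intro x hx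
    rw [hT', Subgroup.mem_subgroupOf]
    refine ⟨x.2, ?_⟩
    have : (x : Sz F m) ∈ P₂ := hP₂ ⟨x, hx, rfl⟩
    rw [heq] at this
    change (x : Sz F m) ∈ ((QsSylow hF hm : Sylow 2 (Sz F m)) : Subgroup (Sz F m)) at this
    rwa [coe_QsSylow] at this
  have hPeq : (P : Subgroup H) = T' := le_antisymm hPle hP
  have hPcyc : IsCyclic P := by
    have : IsCyclic T' := by
      refine ⟨⟨⟨⟨x₀, hx₀T.1⟩, by rw [hT', Subgroup.mem_subgroupOf]; exact hx₀T⟩, ?_⟩⟩
      rintro ⟨⟨x, hxH⟩, hx⟩
      rw [hT', Subgroup.mem_subgroupOf] at hx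
      obtain ⟨j, hj⟩ := Subgroup.mem_zpowers_iff.1 (hx₀ x hx)
      refine Subgroup.mem_zpowers_iff.2 ⟨j, ?_⟩
      apply Subtype.ext
      apply Subtype.ext
      simpa using hj
    rw [← hPeq] at this
    exact this
  -- the normal complement
  have hdvd : 2 ∣ Nat.card H := by
    have h3 : orderOf (⟨gT hF 0 b₁, h1⟩ : H) = 2 := by
      apply orderOf_eq_prime
      · apply Subtype.ext
        simp only [Subgroup.coe_pow, Subgroup.coe_one]
        rw [pow_two, gT_sq, szθ_zero, zero_mul, gT_zero]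
      · intro h
        have := congrArg Subtype.val h
        simp only [Subgroup.coe_one] at this
        rw [← gT_zero hF] at this
        exact hb₁ (gT_injective hF this).2
    rw [← h3]
    exact orderOf_dvd_natCard _
  have hmin : (Nat.card H).minFac = 2 := (Nat.minFac_eq_two_iff _).2 hdvd
  have hcomp := IsCyclic.isComplement' hmin hPcyc
  set N' : Subgroup H := (MonoidHom.transferSylow P (hPcyc.normalizer_le_centralizer hmin)).ker
    with hN'
  have hN'normal : N'.Normal := MonoidHom.normal_ker _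
  have hN'card : Nat.card N' = (P : Subgroup H).index := hcomp.index_eq_card.symm
  have hN'odd : Odd (Nat.card N') := by
    rw [hN'card]
    have := P.not_dvd_index
    exact Nat.odd_iff.2 (Nat.two_dvd_ne_zero.1 this)
  set N : Subgroup (Sz F m) := N'.map H.subtype with hN
  have hNodd : Odd (Nat.card N) := by
    rw [hN, Subgroup.card_map_of_injective H.subtype_injective]
    exact hN'odd
  have hNne : N ≠ ⊥ := by
    intro h
    have hN'bot : N' = ⊥ := by
      rw [eq_bot_iff]
      intro x hx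
      have : (x : Sz F m) ∈ N := ⟨x, hx, rfl⟩
      rw [h, Subgroup.mem_bot] at this
      rw [Subgroup.mem_bot]
      exact Subtype.ext this
    have hcm := hcomp.card_mul_card
    have hc1 : Nat.card N' = 1 := by
      rw [hN'bot]
      exact Subgroup.card_bot
    rw [hc1, one_mul] at hcm
    have hPtop : (P : Subgroup H) = ⊤ := (Subgroup.card_eq_iff_eq_top _).1 hcm
    have hJmem : (⟨gJ hF, hJ⟩ : H) ∈ (P : Subgroup H) := by
      rw [hPtop]
      exact Subgroup.mem_top _
    rw [hPeq, hT', Subgroup.mem_subgroupOf] at hJmem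
    obtain ⟨a, b, hab⟩ := (mem_Qs hF).1 hJmem.2
    have h3 : gJ hF • oInf F m = oInf F m := by
      change (⟨gJ hF, hJ⟩ : H).1 • oInf F m = oInf F m
      rw [hab, gT_oInf]
    rw [gJ_oInf] at h3
    exact oPt_ne_oInf _ _ h3
  have hHN : H ≤ Subgroup.normalizer (N : Set (Sz F m)) := by
    have h3 := Subgroup.le_normalizer_map (H := N') H.subtype
    rw [Subgroup.normalizer_eq_top, ← MonoidHom.range_eq_map, Subgroup.range_subtype] at h3
    exact h3
  exact le_normalizer_torus_of_odd hF hm hNne hNodd hHN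

end Cfsg.Agent.Lib.helper3
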