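import Mathlib
import Cfsg.Prelude.Def_LieExceptional
import Cfsg.Agent.Lib.helper3.SuzukiInvol
import Cfsg.Agent.Lib.helper3.SuzukiSubCyc
import Cfsg.Agent.Lib.helper3.SuzukiCN

set_option autoImplicit false

namespace Cfsg.Agent.Lib.helper3

open Cfsg Matrix

variable {F : Type*} [Field F] [Fintype F] {m : ℕ} (hF : Fintype.card F = 2 ^ (2 * m + 1))
  (hm : 1 ≤ m)

theorem gT_central (a b β : F) : gT hF a b * gT hF 0 β = gT hF 0 β * gT hF a b := by
  rw [gT_mul, gT_mul, szθ_zero, zero_mul, mul_zero, add_zero, add_zero, add_zero, zero_add,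
    add_comm b β]

theorem gT_zero_ne_one {b : F} (hb : b ≠ 0) : gT hF 0 b ≠ 1 := by
  intro h
  rw [← gT_zero hF] at h
  exact hb (gT_injective hF h).2

theorem gT_zero_sq (b : F) : gT hF 0 b * gT hF 0 b = 1 := by
  rw [gT_sq, szθ_zero, zero_mul, gT_zero]

/-- conjugating a central translation by an element of the point stabiliser -/
theorem conj_gT_zero (a b β : F) (l : Fˣ) :
    (gT hF a b * gD hF l) * gT hF 0 β * (gT hF a b * gD hF l)⁻¹ =
      gT hF 0 ((l : F) ^ 2 * szθ m (l : F) ^ 2 * β) := by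
  have h1 := gD_conj_gT hF l 0 β
  rw [mul_zero] at h1
  calc (gT hF a b * gD hF l) * gT hF 0 β * (gT hF a b * gD hF l)⁻¹
      = gT hF a b * (gD hF l * gT hF 0 β * (gD hF l)⁻¹) * (gT hF a b)⁻¹ := by group
    _ = gT hF a b * gT hF 0 ((l : F) ^ 2 * szθ m (l : F) ^ 2 * β) * (gT hF a b)⁻¹ := by rw [h1]
    _ = gT hF 0 ((l : F) ^ 2 * szθ m (l : F) ^ 2 * β) := by
      rw [gT_central, mul_inv_cancel_right]

include hF in
theorem sz_nu_ne_one {l : Fˣ} (hl : l ≠ 1) : (l : F) ^ 2 * szθ m (l : F) ^ 2 ≠ 1 := by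
  intro h
  apply hl
  apply sz_nu_inj hF
  rw [h, Units.val_one, szθ_one]
  ring

include hF hm in
/-- a subgroup containing the inversion and two central translations is doubly transitive on
the fixed points of its involutions: the translations in it move the origin to any such point -/
theorem sub_transitive (H : Subgroup (Sz F m)) (hJ : gJ hF ∈ H) (b₁ b₂ : F) (hb₁ : b₁ ≠ 0)
    (hb₂ : b₂ ≠ 0) (hne : b₁ ≠ b₂) (h1 : gT hF 0 b₁ ∈ H) (h2' : gT hF 0 b₂ ∈ H) :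
    ∀ u ∈ H, u ≠ 1 → u * u = 1 → ∀ δ : suzukiOvoid F m, u • δ = δ → δ ≠ oInf F m →
      ∃ a b : F, gT hF a b ∈ H ∧ δ = oPt m a b := by
  classical
  have hfin : Finite (Sz F m) := finite_Sz hF hm
  have h2 := sz_two hF
  set Λ : Set Fˣ := {l | ∃ a b : F, gT hF a b * gD hF l ∈ H} with hΛ
  set C' : Set Fˣ := {l | gD hF l ∈ H} with hC'
  set B' : Set F := {b | b ≠ 0 ∧ gT hF 0 b ∈ H} with hB'
  have hCΛ : C' ⊆ Λ := by
    intro l hl
    refine ⟨0, 0, ?_⟩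
    rw [gT_zero, one_mul]
    exact hl
  -- the inversion
  have hJJ : gJ hF * gJ hF = 1 := gJ_mul_self hF
  set u' := gJ hF * gT hF 0 b₁ * gJ hF with hu'
  have hu'H : u' ∈ H := H.mul_mem (H.mul_mem hJ h1) hJ
  have hu'2 : u' * u' = 1 := by
    calc u' * u' = gJ hF * gT hF 0 b₁ * (gJ hF * gJ hF) * gT hF 0 b₁ * gJ hF := by
          rw [hu']; group
      _ = gJ hF * (gT hF 0 b₁ * gT hF 0 b₁) * gJ hF := by rw [hJJ]; group
      _ = 1 := by rw [gT_zero_sq, mul_one, hJJ]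
  have hu'1 : u' ≠ 1 := by
    intro h
    apply gT_zero_ne_one hF hb₁
    calc gT hF 0 b₁ = (gJ hF * gJ hF) * gT hF 0 b₁ * (gJ hF * gJ hF) := by
          rw [hJJ, one_mul, mul_one]
      _ = gJ hF * u' * gJ hF := by rw [hu']; group
      _ = 1 := by rw [h, mul_one, hJJ]
  have hu'0 : u' • oPt m (0 : F) 0 = oPt m 0 0 := by
    rw [hu', mul_smul, mul_smul, gJ_oZero, gT_oInf, gJ_oInf]
  -- first injection
  have hT1 : Nat.card Λ ≤ Nat.card B' := by
    let f : Λ → B' := fun l => ⟨(l.1 : F) ^ 2 * szθ m (l.1 : F) ^ 2 * b₁, by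
      obtain ⟨a, b, hab⟩ := l.2
      refine ⟨mul_ne_zero (mul_ne_zero (pow_ne_zero 2 l.1.ne_zero)
        (pow_ne_zero 2 (szθ_ne_zero m l.1.ne_zero))) hb₁, ?_⟩
      rw [← conj_gT_zero hF a b b₁ l.1]
      exact H.mul_mem (H.mul_mem hab h1) (H.inv_mem hab)⟩
    apply Nat.card_le_card_of_injective f
    intro l l' hll
    have h3 := congrArg Subtype.val hll
    have h4 : (l.1 : F) ^ 2 * szθ m (l.1 : F) ^ 2 = (l'.1 : F) ^ 2 * szθ m (l'.1 : F) ^ 2 :=
      mul_right_cancel₀ hb₁ h3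
    exact Subtype.ext (sz_nu_inj hF h4)
  -- second injection
  have hR : ∀ b : B', ∃ l : C', ∃ w : Sz F m, w * w = 1 ∧ w * gT hF 0 b.1 * w = u' ∧
      gJ hF * w = gD hF l.1 := by
    intro b
    obtain ⟨w, hwH, hw2, hwinf, hwu⟩ := dihedral_swap hF hm b.2.2 hu'H
      (gT_zero_ne_one hF b.2.1) (gT_zero_sq hF b.1) hu'1 hu'2 (gT_oInf hF 0 b.1) hu'0
      (oPt_ne_oInf (0 : F) 0).symm
    have hf1 : (gJ hF * w) • oInf F m = oInf F m := by
      rw [mul_smul, hwinf, gJ_oZero]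
    have hw0 : w • oPt m (0 : F) 0 = oInf F m := by
      rw [← hwinf, ← mul_smul, hw2, one_smul]
    have hf2 : (gJ hF * w) • oPt m (0 : F) 0 = oPt m 0 0 := by
      rw [mul_smul, hw0, gJ_oInf]
    obtain ⟨l, hl⟩ := two_point_stab hF hm hf1 hf2
    refine ⟨⟨l, ?_⟩, w, hw2, hwu, hl⟩
    change gD hF l ∈ H
    rw [← hl]
    exact H.mul_mem hJ hwH
  choose f₂ hf₂ using hR
  have hT2 : Nat.card B' ≤ Nat.card C' := by
    apply Nat.card_le_card_of_injective f₂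
    intro b b' hbb
    obtain ⟨w, hw2, hwu, hl⟩ := hf₂ b
    obtain ⟨w', hw'2, hwu', hl'⟩ := hf₂ b'
    rw [hbb] at hl
    have hww : w = w' := mul_left_cancel (hl.trans hl'.symm)
    subst hww
    have e1 : gT hF 0 b.1 = w * u' * w := by
      rw [← hwu]
      calc gT hF 0 b.1 = (w * w) * gT hF 0 b.1 * (w * w) := by rw [hw2, one_mul, mul_one]
        _ = w * (w * gT hF 0 b.1 * w) * w := by group
    have e2 : gT hF 0 b'.1 = w * u' * w := by
      rw [← hwu']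
      calc gT hF 0 b'.1 = (w * w) * gT hF 0 b'.1 * (w * w) := by rw [hw2, one_mul, mul_one]
        _ = w * (w * gT hF 0 b'.1 * w) * w := by group
    exact Subtype.ext (gT_injective hF (e1.trans e2.symm)).2
  have hCeq : C' = Λ := by
    apply Set.eq_of_subset_of_ncard_le hCΛ _ (Set.toFinite _)
    rw [← Nat.card_coe_set_eq, ← Nat.card_coe_set_eq]
    exact hT1.trans hT2
  -- transitivity
  intro u huH hu1 hu2 δ hδ hδinf
  obtain ⟨w₁, hw₁H, hw₁2, hw₁inf, hw₁u⟩ := dihedral_swap hF hm h1 huH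
    (gT_zero_ne_one hF hb₁) (gT_zero_sq hF b₁) hu1 hu2 (gT_oInf hF 0 b₁) hδ hδinf.symm
  obtain ⟨w₂, hw₂H, hw₂2, hw₂inf, hw₂u⟩ := dihedral_swap hF hm h2' huH
    (gT_zero_ne_one hF hb₂) (gT_zero_sq hF b₂) hu1 hu2 (gT_oInf hF 0 b₂) hδ hδinf.symm
  have hw12 : w₁ ≠ w₂ := by
    intro h
    subst h
    apply hne
    have e1 : gT hF 0 b₁ = w₁ * u * w₁ := by
      rw [← hw₁u]
      calc gT hF 0 b₁ = (w₁ * w₁) * gT hF 0 b₁ * (w₁ * w₁) := by rw [hw₁2, one_mul, mul_one]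
        _ = w₁ * (w₁ * gT hF 0 b₁ * w₁) * w₁ := by group
    have e2 : gT hF 0 b₂ = w₁ * u * w₁ := by
      rw [← hw₂u]
      calc gT hF 0 b₂ = (w₁ * w₁) * gT hF 0 b₂ * (w₁ * w₁) := by rw [hw₁2, one_mul, mul_one]
        _ = w₁ * (w₁ * gT hF 0 b₂ * w₁) * w₁ := by group
    exact (gT_injective hF (e1.trans e2.symm)).2
  set c := w₁ * w₂ with hc
  have hcH : c ∈ H := H.mul_mem hw₁H hw₂H
  have hc1 : c ≠ 1 := by
    intro h
    apply hw12
    calc w₁ = w₁ * (w₂ * w₂) := by rw [hw₂2, mul_one]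
      _ = (w₁ * w₂) * w₂ := by group
      _ = w₂ := by rw [← hc, h, one_mul]
  have hw₁δ : w₁ • δ = oInf F m := by
    rw [← hw₁inf, ← mul_smul, hw₁2, one_smul]
  have hw₂δ : w₂ • δ = oInf F m := by
    rw [← hw₂inf, ← mul_smul, hw₂2, one_smul]
  have hcinf : c • oInf F m = oInf F m := by
    rw [hc, mul_smul, hw₂inf, hw₁δ]
  have hcδ : c • δ = δ := by
    rw [hc, mul_smul, hw₂δ, hw₁inf]
  obtain ⟨a, b, l, hcd⟩ := stab_decomp hF hm hcinf
  have hlΛ : l ∈ Λ := ⟨a, b, by rw [← hcd]; exact hcH⟩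
  have hlC : gD hF l ∈ H := by
    rw [← hCeq] at hlΛ
    exact hlΛ
  have hτH : gT hF a b ∈ H := by
    have : gT hF a b = c * (gD hF l)⁻¹ := by rw [hcd, mul_inv_cancel_right]
    rw [this]
    exact H.mul_mem hcH (H.inv_mem hlC)
  have hl1 : l ≠ 1 := by
    rintro rfl
    rw [gD_one, mul_one] at hcd
    have hab : ¬ (a = 0 ∧ b = 0) := by
      rintro ⟨rfl, rfl⟩
      rw [gT_zero] at hcd
      exact hc1 hcd
    rw [hcd] at hcδ
    exact hδinf (gT_fixed hF hab hcδ)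
  -- the conjugation trick
  set T : Subgroup (Sz F m) := H ⊓ Qs hF with hT
  set d := gD hF l with hd
  let φ : T → T := fun x => ⟨x.1 * (d * x.1⁻¹ * d⁻¹), by
    obtain ⟨a', b', hx⟩ := (mem_Qs hF).1 x.2.2
    refine ⟨H.mul_mem x.2.1 (H.mul_mem (H.mul_mem hlC (H.inv_mem x.2.1)) (H.inv_mem hlC)), ?_⟩
    apply (Qs hF).mul_mem x.2.2
    rw [hx, gT_inv, hd, gD_conj_gT]
    exact gT_mem_Qs hF _ _⟩
  have hφinj : Function.Injective φ := by
    intro x y hxy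
    have h3 : x.1 * (d * x.1⁻¹ * d⁻¹) = y.1 * (d * y.1⁻¹ * d⁻¹) := congrArg Subtype.val hxy
    have h4 : d * (y.1⁻¹ * x.1) * d⁻¹ = y.1⁻¹ * x.1 := by
      have h5 : x.1 * d * x.1⁻¹ = y.1 * d * y.1⁻¹ := by
        calc x.1 * d * x.1⁻¹ = x.1 * (d * x.1⁻¹ * d⁻¹) * d := by group
          _ = y.1 * (d * y.1⁻¹ * d⁻¹) * d := by rw [h3]
          _ = y.1 * d * y.1⁻¹ := by group
      calc d * (y.1⁻¹ * x.1) * d⁻¹ = y.1⁻¹ * (y.1 * d * y.1⁻¹) * x.1 * d⁻¹ := by group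
        _ = y.1⁻¹ * (x.1 * d * x.1⁻¹) * x.1 * d⁻¹ := by rw [h5]
        _ = y.1⁻¹ * x.1 := by group
    have hz : y.1⁻¹ * x.1 ∈ Qs hF := (Qs hF).mul_mem ((Qs hF).inv_mem y.2.2) x.2.2
    obtain ⟨a', b', hz'⟩ := (mem_Qs hF).1 hz
    rw [hz', hd, gD_conj_gT] at h4
    obtain ⟨e1, e2⟩ := gT_injective hF h4
    have ha' : a' = 0 := by
      have hl2 : (l : F) ^ 2 ≠ 1 := by
        intro h
        apply hl1
        exact Units.ext (sz_sq_eq_one hF h)
      have : ((l : F) ^ 2 - 1) * a' = 0 := by linear_combination e1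
      rcases mul_eq_zero.1 this with h | h
      · exact absurd (sub_eq_zero.1 h) hl2
      · exact h
    have hb' : b' = 0 := by
      have hν := sz_nu_ne_one hF hl1
      have : ((l : F) ^ 2 * szθ m (l : F) ^ 2 - 1) * b' = 0 := by linear_combination e2
      rcases mul_eq_zero.1 this with h | h
      · exact absurd (sub_eq_zero.1 h) hν
      · exact h
    rw [ha', hb', gT_zero] at hz'
    apply Subtype.ext
    calc x.1 = y.1 * (y.1⁻¹ * x.1) := by group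
      _ = y.1 := by rw [hz', mul_one]
  have hfinT : Finite T := inferInstance
  have hφsurj : Function.Surjective φ := Finite.injective_iff_surjective.1 hφinj
  obtain ⟨x, hx⟩ := hφsurj ⟨gT hF a b, hτH, gT_mem_Qs hF a b⟩
  have hx' : x.1 * (d * x.1⁻¹ * d⁻¹) = gT hF a b := congrArg Subtype.val hx
  have hxc : x.1 * d * x.1⁻¹ = c := by
    rw [hcd, ← hx']
    group
  have hfix : d • (x.1⁻¹ • δ) = x.1⁻¹ • δ := by
    have : d = x.1⁻¹ * c * x.1 := by rw [← hxc]; group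
    rw [this, mul_smul, mul_smul, smul_inv_smul, hcδ]
  obtain ⟨a'', b'', hxab⟩ := (mem_Qs hF).1 x.2.2
  rcases gD_fixed hF hl1 hfix with h | h
  · exfalso
    apply hδinf
    have : δ = x.1 • oInf F m := by rw [← h, smul_inv_smul]
    rw [this, hxab, gT_oInf]
  · refine ⟨a'', b'', ?_, ?_⟩
    · rw [← hxab]
      exact x.2.1
    · have : δ = x.1 • oPt m (0 : F) 0 := by rw [← h, smul_inv_smul]
      rw [this, hxab, gT_oZero]

end Cfsg.Agent.Lib.helper3
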