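import Mathlib
import Cfsg.Prelude.Def_LieExceptional
import Cfsg.Agent.Lib.helper3.SuzukiSubTrans
import Cfsg.Agent.Lib.helper3.SuzukiSubOrbit
import Cfsg.Agent.Lib.helper3.SuzukiMaximal

set_option autoImplicit false

namespace Cfsg.Agent.Lib.helper3

open Cfsg Matrix
open scoped Pointwise

variable {F : Type*} [Field F] [Fintype F] {m : ℕ} (hF : Fintype.card F = 2 ^ (2 * m + 1))
  (hm : 1 ≤ m)

include hF in
/-- Hua's identity in the commutative case -/
theorem hua_identity {a b : F} (ha : a ≠ 0) (hb : b ≠ 0) (hab : b⁻¹ - a ≠ 0) :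
    (a⁻¹ + (b⁻¹ - a)⁻¹) * (a - a ^ 2 * b) = 1 := by
  have h1 : 1 - a * b ≠ 0 := by
    intro h
    apply hab
    field_simp
    linear_combination h
  field_simp
  ring

include hF hm in
/-- a proper subgroup containing the inversion and acting transitively (through its translations)
on the fixed points of its involutions lies in the stabiliser of a sub-ovoid -/
theorem sub_le_subStab (H : Subgroup (Sz F m)) (hH : H ≠ ⊤) (hJ : gJ hF ∈ H) (b₁ b₂ : F)
    (hb₁ : b₁ ≠ 0) (hb₂ : b₂ ≠ 0) (hne : b₁ ≠ b₂) (h1 : gT hF 0 b₁ ∈ H) (h2' : gT hF 0 b₂ ∈ H)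
    (trans : ∀ u ∈ H, u ≠ 1 → u * u = 1 → ∀ δ : suzukiOvoid F m, u • δ = δ → δ ≠ oInf F m →
      ∃ a b : F, gT hF a b ∈ H ∧ δ = oPt m a b) :
    ∃ (K' : Subfield F) (k : ℕ), 1 ≤ k ∧ k < m ∧ Nat.card K' = 2 ^ (2 * k + 1) ∧
      H ≤ subStab m K' := by
  classical
  have hfin : Finite (Sz F m) := finite_Sz hF hm
  have h2 := sz_two hF
  have hJJ : gJ hF * gJ hF = 1 := gJ_mul_self hF
  have hJ1 : gJ hF ≠ 1 := by
    intro h
    have := gJ_oInf hF (m := m)
    rw [h, one_smul] at this
    exact oPt_ne_oInf _ _ this.symm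
  -- an involution fixing the origin
  set u₀ := gJ hF * gT hF 0 b₁ * gJ hF with hu₀
  have hu₀H : u₀ ∈ H := H.mul_mem (H.mul_mem hJ h1) hJ
  have hu₀2 : u₀ * u₀ = 1 := by
    calc u₀ * u₀ = gJ hF * gT hF 0 b₁ * (gJ hF * gJ hF) * gT hF 0 b₁ * gJ hF := by
          rw [hu₀]; group
      _ = gJ hF * (gT hF 0 b₁ * gT hF 0 b₁) * gJ hF := by rw [hJJ]; group
      _ = 1 := by rw [gT_zero_sq, mul_one, hJJ]
  have hu₀1 : u₀ ≠ 1 := by
    intro h
    apply gT_zero_ne_one hF hb₁
    calc gT hF 0 b₁ = (gJ hF * gJ hF) * gT hF 0 b₁ * (gJ hF * gJ hF) := by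
          rw [hJJ, one_mul, mul_one]
      _ = gJ hF * u₀ * gJ hF := by rw [hu₀]; group
      _ = 1 := by rw [h, mul_one, hJJ]
  have hu₀0 : u₀ • oPt m (0 : F) 0 = oPt m 0 0 := by
    rw [hu₀, mul_smul, mul_smul, gJ_oZero, gT_oInf, gJ_oInf]
  -- conjugates of involutions
  have hconj : ∀ (g u : Sz F m), g ∈ H → u ∈ H → u ≠ 1 → u * u = 1 →
      ∀ p : suzukiOvoid F m, u • p = p → g • p ≠ oInf F m →
      ∃ a b : F, gT hF a b ∈ H ∧ g • p = oPt m a b := by
    intro g u hg hu hu1 hu2 p hp hgp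
    apply trans (g * u * g⁻¹) (H.mul_mem (H.mul_mem hg hu) (H.inv_mem hg)) _ _ _ _ hgp
    · intro h
      apply hu1
      calc u = g⁻¹ * (g * u * g⁻¹) * g := by group
        _ = 1 := by rw [h]; group
    · calc g * u * g⁻¹ * (g * u * g⁻¹) = g * (u * u) * g⁻¹ := by group
        _ = 1 := by rw [hu2]; group
    · rw [mul_smul, mul_smul, inv_smul_smul, hp]
  -- closure of the set of fixed points
  have hS1 : ∀ g ∈ H, ∀ a b : F, gT hF a b ∈ H → g • oPt m a b ≠ oInf F m →
      ∃ a' b' : F, gT hF a' b' ∈ H ∧ g • oPt m a b = oPt m a' b' := by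
    intro g hg a b hab hne'
    have h3 := hconj (g * gT hF a b) u₀ (H.mul_mem hg hab) hu₀H hu₀1 hu₀2 (oPt m 0 0) hu₀0
    rw [mul_smul, gT_oZero] at h3
    exact h3 hne'
  have hS1inf : ∀ g ∈ H, g • oInf F m ≠ oInf F m →
      ∃ a' b' : F, gT hF a' b' ∈ H ∧ g • oInf F m = oPt m a' b' := by
    intro g hg hne'
    exact hconj g (gT hF 0 b₁) hg h1 (gT_zero_ne_one hF hb₁) (gT_zero_sq hF b₁) (oInf F m)
      (gT_oInf hF 0 b₁) hne'
  -- closure under the inversion
  have hS2 : ∀ a b : F, gT hF a b ∈ H → ¬ (a = 0 ∧ b = 0) →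
      gT hF (b / szf m a b) (a / szf m a b) ∈ H := by
    intro a b hab h0
    have h3 := hS1 (gJ hF) hJ a b hab
    rw [gJ_oPt hF a b h0] at h3
    obtain ⟨a', b', hab', he⟩ := h3 (oPt_ne_oInf _ _)
    obtain ⟨e1, e2⟩ := szPt_inj m (congrArg Subtype.val he)
    rw [e1, e2]
    exact hab'
  -- the set of central coordinates
  set B : Set F := {b | gT hF 0 b ∈ H} with hB
  have hB0 : (0 : F) ∈ B := by
    change gT hF 0 0 ∈ H
    rw [gT_zero]
    exact H.one_mem
  have hBadd : ∀ {a b : F}, a ∈ B → b ∈ B → a + b ∈ B := by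
    intro a b ha hb
    have := H.mul_mem ha hb
    rw [gT_mul, szθ_zero, zero_mul, add_zero, add_zero] at this
    exact this
  have hBneg : ∀ {a : F}, a ∈ B → -a ∈ B := by
    intro a ha
    have : -a = a := by linear_combination (-a) * h2
    rw [this]
    exact ha
  -- the point fixed by the inversion
  have h11 : gT hF 1 1 ∈ H := by
    have hf : szf m (1 : F) 1 = 1 := by
      rw [szf_eq, szθ_one]
      linear_combination h2
    have hfix : gJ hF • oPt m (1 : F) 1 = oPt m 1 1 := by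
      rw [gJ_oPt hF 1 1 (fun h => one_ne_zero h.1), hf, div_one]
    obtain ⟨a, b, hab, he⟩ := trans (gJ hF) hJ hJ1 hJJ _ hfix (oPt_ne_oInf _ _)
    obtain ⟨e1, e2⟩ := szPt_inj m (congrArg Subtype.val he)
    rw [← e1, ← e2] at hab
    exact hab
  have hB1 : (1 : F) ∈ B := by
    have := H.mul_mem h11 h11
    rw [gT_sq, szθ_one, mul_one] at this
    exact this
  -- closure under inversion
  have hBinv : ∀ {b : F}, b ∈ B → b ≠ 0 → b⁻¹ ∈ B := by
    intro b hb hb0
    have h3 := hS2 0 b hb (fun h => hb0 h.2)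
    have hf : szf m 0 b = szθ m b := by
      rw [szf_eq, szθ_zero]
      ring
    rw [hf, zero_div] at h3
    have h4 := H.mul_mem h3 h3
    rw [gT_sq] at h4
    have hθ : szθ m b ≠ 0 := szθ_ne_zero m hb0
    have e : szθ m (b / szθ m b) * (b / szθ m b) = b⁻¹ := by
      rw [szθ_div, szθ_szθ hF]
      field_simp
    rw [e] at h4
    exact h4
  -- Hua's identity
  have hBhua : ∀ {a b : F}, a ∈ B → b ∈ B → a ^ 2 * b ∈ B := by
    intro a b ha hb
    by_cases ha0 : a = 0
    · rw [ha0]
      simpa using hB0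
    by_cases hb0 : b = 0
    · rw [hb0]
      simpa using hB0
    by_cases hab : b⁻¹ - a = 0
    · have : a ^ 2 * b = a := by
        have hba : b⁻¹ = a := sub_eq_zero.1 hab
        rw [← hba]
        field_simp
      rw [this]
      exact ha
    · have hc : b⁻¹ - a ∈ B := by
        rw [sub_eq_add_neg]
        exact hBadd (hBinv hb hb0) (hBneg ha)
      have he : a⁻¹ + (b⁻¹ - a)⁻¹ ∈ B := hBadd (hBinv ha ha0) (hBinv hc hab)
      have hmul := hua_identity hF ha0 hb0 hab
      have he0 : a⁻¹ + (b⁻¹ - a)⁻¹ ≠ 0 := by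
        intro h
        rw [h, zero_mul] at hmul
        exact zero_ne_one hmul
      have hinv : (a⁻¹ + (b⁻¹ - a)⁻¹)⁻¹ = a - a ^ 2 * b := inv_eq_of_mul_eq_one_right hmul
      have h5 := hBinv he he0
      rw [hinv] at h5
      have : a ^ 2 * b = a + -(a - a ^ 2 * b) := by ring
      rw [this]
      exact hBadd ha (hBneg h5)
  have hBsq : ∀ {a : F}, a ∈ B → a ^ 2 ∈ B := by
    intro a ha
    have := hBhua ha hB1
    rwa [mul_one] at this
  -- square roots
  have hBsqrt : ∀ {c : F}, c ∈ B → ∃ a ∈ B, a ^ 2 = c := by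
    let σ : B → B := fun x => ⟨x.1 ^ 2, hBsq x.2⟩
    have hσ : Function.Injective σ := by
      intro x y hxy
      have h3 : x.1 ^ 2 = y.1 ^ 2 := congrArg Subtype.val hxy
      have h4 : (x.1 - y.1) ^ 2 = 0 := by
        linear_combination h3 + (y.1 ^ 2 - x.1 * y.1) * h2
      exact Subtype.ext (sub_eq_zero.1 (pow_eq_zero_iff (two_ne_zero) |>.1 h4))
    have hσs : Function.Surjective σ := Finite.injective_iff_surjective.1 hσ
    intro c hc
    obtain ⟨x, hx⟩ := hσs ⟨c, hc⟩
    exact ⟨x.1, x.2, congrArg Subtype.val hx⟩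
  have hBmul : ∀ {a b : F}, a ∈ B → b ∈ B → a * b ∈ B := by
    intro a b ha hb
    obtain ⟨c, hc, hca⟩ := hBsqrt ha
    rw [← hca]
    exact hBhua hc hb
  -- the subfield
  let K' : Subfield F :=
    { carrier := B
      mul_mem' := fun ha hb => hBmul ha hb
      one_mem' := hB1
      add_mem' := fun ha hb => hBadd ha hb
      zero_mem' := hB0
      neg_mem' := fun ha => hBneg ha
      inv_mem' := fun x hx => by
        by_cases hx0 : x = 0
        · rw [hx0, _root_.inv_zero]
          exact hB0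
        · exact hBinv hx hx0 }
  have hK'mem : ∀ x : F, x ∈ K' ↔ gT hF 0 x ∈ H := fun x => Iff.rfl
  -- the translations in the subgroup
  have hTa : ∀ a : F, a ∈ K' → gT hF a 0 ∈ H := by
    intro a ha
    by_cases ha0 : a = 0
    · rw [ha0, gT_zero]
      exact H.one_mem
    · have hθa : szθ m a ∈ K' := pow_mem ha _
      have hθ0 : szθ m a ≠ 0 := szθ_ne_zero m ha0
      have hb' : (a * szθ m a)⁻¹ ∈ K' := inv_mem (mul_mem ha hθa)
      have hb'0 : (a * szθ m a)⁻¹ ≠ 0 := inv_ne_zero (mul_ne_zero ha0 hθ0)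
      have h3 := hS2 0 _ ((hK'mem _).1 hb') (fun h => hb'0 h.2)
      have hf : szf m 0 (a * szθ m a)⁻¹ = szθ m (a * szθ m a)⁻¹ := by
        rw [szf_eq, szθ_zero]
        ring
      rw [hf, zero_div] at h3
      have e : (a * szθ m a)⁻¹ / szθ m (a * szθ m a)⁻¹ = a := by
        have : szθ m (a * szθ m a)⁻¹ = (szθ m a * a ^ 2)⁻¹ := by
          unfold szθ
          rw [inv_pow]
          congr 1
          change szθ m (a * szθ m a) = szθ m a * a ^ 2
          rw [szθ_mul, szθ_szθ hF]
        rw [this]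
        field_simp
      rw [e] at h3
      exact h3
  have hT₀ : ∀ a b : F, gT hF a b ∈ H ↔ a ∈ K' ∧ b ∈ K' := by
    intro a b
    constructor
    · intro hab
      have hβ : szθ m a * a ∈ K' := by
        rw [hK'mem]
        have := H.mul_mem hab hab
        rwa [gT_sq] at this
      have ha : a ∈ K' := by
        by_cases ha0 : a = 0
        · rw [ha0]
          exact zero_mem _
        · have hθ0 : szθ m a ≠ 0 := szθ_ne_zero m ha0
          have e : a = szθ m (szθ m a * a) / (szθ m a * a) := by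
            rw [szθ_mul, szθ_szθ hF]
            field_simp
          rw [e]
          exact div_mem (pow_mem hβ _) hβ
      refine ⟨ha, ?_⟩
      rw [hK'mem]
      have h3 := H.mul_mem (H.inv_mem (hTa a ha)) hab
      rw [gT_split hF a b, inv_mul_cancel_left] at h3
      exact h3
    · rintro ⟨ha, hb⟩
      rw [gT_split hF a b]
      exact H.mul_mem (hTa a ha) ((hK'mem b).1 hb)
  -- the subgroup preserves the sub-ovoid
  have hpres : ∀ g ∈ H, ∀ p ∈ subOvoid m K', g • p ∈ subOvoid m K' := by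
    intro g hg p hp
    by_cases hgp : g • p = oInf F m
    · exact Or.inl hgp
    · rcases hp with rfl | ⟨a, ha, b, hb, rfl⟩
      · obtain ⟨a', b', hab', he⟩ := hS1inf g hg hgp
        obtain ⟨ha', hb'⟩ := (hT₀ a' b').1 hab'
        exact Or.inr ⟨a', ha', b', hb', he⟩
      · obtain ⟨a', b', hab', he⟩ := hS1 g hg a b ((hT₀ a b).2 ⟨ha, hb⟩) hgp
        obtain ⟨ha', hb'⟩ := (hT₀ a' b').1 hab'
        exact Or.inr ⟨a', ha', b', hb', he⟩
  have hle : H ≤ subStab m K' := by
    intro g hg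
    unfold subStab
    rw [MulAction.mem_stabilizer_iff]
    ext p
    rw [Set.mem_smul_set_iff_inv_smul_mem]
    constructor
    · intro hp
      have := hpres g hg _ hp
      rwa [smul_inv_smul] at this
    · intro hp
      exact hpres g⁻¹ (H.inv_mem hg) p hp
  -- the order of the subfield
  have hfinK : Finite K' := inferInstance
  have hcardF : Nat.card F = Nat.card K' ^ Module.finrank K' F :=
    Module.natCard_eq_pow_finrank (K := K') (V := F)
  rw [Nat.card_eq_fintype_card, hF] at hcardF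
  set d := Module.finrank K' F with hd
  have hd0 : d ≠ 0 := by
    intro h
    rw [h, pow_zero] at hcardF
    have : 1 < 2 ^ (2 * m + 1) := Nat.one_lt_two_pow (by omega)
    omega
  have hdvd : Nat.card K' ∣ 2 ^ (2 * m + 1) := by
    rw [hcardF]
    exact dvd_pow_self _ hd0
  obtain ⟨e, he, hKe⟩ := (Nat.dvd_prime_pow Nat.prime_two).1 hdvd
  have hed : 2 * m + 1 = e * d := by
    rw [hKe, ← pow_mul] at hcardF
    exact Nat.pow_right_injective (le_refl 2) hcardF
  -- the subfield has at least three elements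
  have hK3 : 3 ≤ Nat.card K' := by
    have : Fintype K' := Fintype.ofFinite K'
    rw [Nat.card_eq_fintype_card]
    have hc : ({⟨0, zero_mem K'⟩, ⟨b₁, (hK'mem b₁).2 h1⟩, ⟨b₂, (hK'mem b₂).2 h2'⟩} :
        Finset K').card = 3 := by
      rw [Finset.card_eq_three]
      refine ⟨_, _, _, ?_, ?_, ?_, rfl⟩
      · intro h
        exact hb₁ (congrArg Subtype.val h).symm
      · intro h
        exact hb₂ (congrArg Subtype.val h).symm
      · intro h
        exact hne (congrArg Subtype.val h)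
    rw [← hc]
    exact Finset.card_le_univ _
  have he2 : 2 ≤ e := by
    by_contra h
    have he1 : e ≤ 1 := by omega
    have : Nat.card K' ≤ 2 := by
      rw [hKe]
      calc 2 ^ e ≤ 2 ^ 1 := Nat.pow_le_pow_right (by norm_num) he1
        _ = 2 := by norm_num
    omega
  have heodd : e % 2 = 1 := by
    rcases Nat.even_or_odd e with ⟨c, hc⟩ | ⟨c, hc⟩
    · exfalso
      rw [hc] at hed
      have : 2 * m + 1 = 2 * (c * d) := by rw [hed]; ring
      omega
    · omega
  have hdodd : d % 2 = 1 := by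
    rcases Nat.even_or_odd d with ⟨c, hc⟩ | ⟨c, hc⟩
    · exfalso
      rw [hc] at hed
      have : 2 * m + 1 = 2 * (e * c) := by rw [hed]; ring
      omega
    · omega
  have hd1 : d ≠ 1 := by
    intro h
    apply hH
    -- the subfield is everything
    have hcard : Nat.card K' = Nat.card F := by
      rw [Nat.card_eq_fintype_card (α := F), hF, hcardF, h, pow_one]
    have htop : ∀ x : F, x ∈ K' := by
      intro x
      have hsurj : Function.Surjective (K'.subtype : K' → F) := by
        have hinj : Function.Injective (K'.subtype : K' → F) := Subtype.val_injective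
        exact (hinj.bijective_of_nat_card_le (le_of_eq hcard.symm)).2
      obtain ⟨y, hy⟩ := hsurj x
      rw [← hy]
      exact y.2
    have hQ : Qs hF ≤ H := by
      intro x hx
      obtain ⟨a, b, rfl⟩ := (mem_Qs hF).1 hx
      exact (hT₀ a b).2 ⟨htop a, htop b⟩
    have hQz : Qz hF ≤ H := by
      rintro _ ⟨x, hx, rfl⟩
      simp only [MulEquiv.coe_toMonoidHom, MulAut.conj_apply]
      exact H.mul_mem (H.mul_mem hJ (hQ hx)) (H.inv_mem hJ)
    rw [eq_top_iff, ← Qs_sup_Qz hF hm]
    exact sup_le hQ hQz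
  obtain ⟨k, hk⟩ : ∃ k, e = 2 * k + 1 := ⟨e / 2, by omega⟩
  refine ⟨K', k, by omega, ?_, by rw [hKe, hk], hle⟩
  have hd3 : 3 ≤ d := by omega
  have : 3 * e ≤ e * d := by
    rw [mul_comm]
    exact Nat.mul_le_mul_left e hd3
  omega

end Cfsg.Agent.Lib.helper3
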