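import Mathlib
import Cfsg.Prelude.Def_LieExceptional
import Cfsg.Agent.Lib.helper3.SuzukiSubHua
import Cfsg.Agent.Lib.helper3.SuzukiSubConj2
import Cfsg.Agent.Lib.helper3.SuzukiZass

set_option autoImplicit false

namespace Cfsg.Agent.Lib.helper3

open Cfsg Matrix
open scoped Pointwise

variable {F : Type*} [Field F] [Fintype F] {m : ℕ} (hF : Fintype.card F = 2 ^ (2 * m + 1))
  (hm : 1 ≤ m)

include hF hm in
/-- the normalised case of the subgroup theorem -/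
theorem sub_main_normalized (H : Subgroup (Sz F m)) (hH : H ≠ ⊤) (hJ : gJ hF ∈ H) (b₁ : F)
    (hb₁ : b₁ ≠ 0) (h1 : gT hF 0 b₁ ∈ H) :
    (∃ U : Subgroup (Sz F m), IsTorus m U ∧ H ≤ Subgroup.normalizer (U : Set (Sz F m))) ∨
    (∃ (K' : Subfield F) (k : ℕ), 1 ≤ k ∧ k < m ∧ Nat.card K' = 2 ^ (2 * k + 1) ∧
      H ≤ subStab m K') := by
  by_cases huniq : ∀ b : F, b ≠ 0 → gT hF 0 b ∈ H → b = b₁
  · exact Or.inl (le_normalizer_torus_of_unique_invol hF hm H hJ b₁ hb₁ h1 huniq)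
  · push Not at huniq
    obtain ⟨b₂, hb₂, h2', hne⟩ := huniq
    right
    exact sub_le_subStab hF hm H hH hJ b₁ b₂ hb₁ hb₂ (Ne.symm hne) h1 h2'
      (sub_transitive hF hm H hJ b₁ b₂ hb₁ hb₂ (Ne.symm hne) h1 h2')

theorem mem_map_conj_iff {G : Type*} [Group G] (U : Subgroup G) (g h : G) :
    h ∈ U.map (MulAut.conj g).toMonoidHom ↔ g⁻¹ * h * g ∈ U := by
  constructor
  · rintro ⟨u, hu, rfl⟩
    simp only [MulEquiv.coe_toMonoidHom, MulAut.conj_apply]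
    have : g⁻¹ * (g * u * g⁻¹) * g = u := by group
    rw [this]
    exact hu
  · intro hh
    refine ⟨g⁻¹ * h * g, hh, ?_⟩
    simp only [MulEquiv.coe_toMonoidHom, MulAut.conj_apply]
    group

/-- transporting a normaliser inclusion along a conjugation -/
theorem le_normalizer_of_map_conj {G : Type*} [Group G] {M U : Subgroup G} (g : G)
    (h : M.map (MulAut.conj g).toMonoidHom ≤ Subgroup.normalizer (U : Set G)) :
    M ≤ Subgroup.normalizer ((U.map (MulAut.conj g⁻¹).toMonoidHom : Subgroup G) : Set G) := by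
  intro x hx
  have hx' : g * x * g⁻¹ ∈ Subgroup.normalizer (U : Set G) :=
    h ⟨x, hx, by simp [MulAut.conj_apply]⟩
  rw [Subgroup.mem_normalizer_iff] at hx' ⊢
  intro y
  rw [mem_map_conj_iff, mem_map_conj_iff, inv_inv]
  have := hx' (g * y * g⁻¹)
  have e : g * x * g⁻¹ * (g * y * g⁻¹) * (g * x * g⁻¹)⁻¹ = g * (x * y * x⁻¹) * g⁻¹ := by group
  rw [e] at this
  exact this

theorem le_map_conj_of_map_conj_le {G : Type*} [Group G] {M S : Subgroup G} (g : G)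
    (h : M.map (MulAut.conj g).toMonoidHom ≤ S) :
    M ≤ S.map (MulAut.conj g⁻¹).toMonoidHom := by
  intro x hx
  rw [mem_map_conj_iff, inv_inv]
  exact h ⟨x, hx, by simp [MulAut.conj_apply]⟩

include hF hm in
/-- an involution fixing the point at infinity is a central translation -/
theorem invol_fix_inf {t : Sz F m} (ht1 : t ≠ 1) (ht2 : t * t = 1) (hinf : t • oInf F m = oInf F m) :
    ∃ b : F, b ≠ 0 ∧ t = gT hF 0 b := by
  obtain ⟨x, b, hb, rfl⟩ := invol_eq_conj hF hm ht1 ht2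
  have hx : x • oInf F m = oInf F m := by
    have h3 : gT hF 0 b • (x⁻¹ • oInf F m) = x⁻¹ • oInf F m := by
      rw [mul_smul, mul_smul] at hinf
      have h4 := congrArg (fun q => x⁻¹ • q) hinf
      simpa only [inv_smul_smul] using h4
    have h5 := gT_fixed hF (a := 0) (b := b) (fun h => hb h.2) h3
    calc x • oInf F m = x • (x⁻¹ • oInf F m) := by rw [h5]
      _ = oInf F m := smul_inv_smul _ _
  obtain ⟨a', b', l, hx'⟩ := stab_decomp hF hm hx
  refine ⟨(l : F) ^ 2 * szθ m (l : F) ^ 2 * b, ?_, ?_⟩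
  · exact mul_ne_zero (mul_ne_zero (pow_ne_zero 2 l.ne_zero)
      (pow_ne_zero 2 (szθ_ne_zero m l.ne_zero))) hb
  · rw [hx', conj_gT_zero]

include hF hm in
/-- reduction of the case of two involutions with distinct fixed points to the normalised case -/
theorem exists_conj_normalized (M : Subgroup (Sz F m)) {t₁ t₂ : Sz F m} (h₁ : t₁ ∈ M)
    (h₂ : t₂ ∈ M) (ht₁1 : t₁ ≠ 1) (ht₁2 : t₁ * t₁ = 1) (ht₂1 : t₂ ≠ 1) (ht₂2 : t₂ * t₂ = 1)
    {p₁ p₂ : suzukiOvoid F m} (hp₁ : t₁ • p₁ = p₁) (hp₂ : t₂ • p₂ = p₂) (hne : p₁ ≠ p₂) :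
    ∃ g : Sz F m, gJ hF ∈ M.map (MulAut.conj g).toMonoidHom ∧
      ∃ b : F, b ≠ 0 ∧ gT hF 0 b ∈ M.map (MulAut.conj g).toMonoidHom := by
  obtain ⟨w, hwM, hw2, hwp, _⟩ := dihedral_swap hF hm h₁ h₂ ht₁1 ht₁2 ht₂1 ht₂2 hp₁ hp₂ hne
  have hwp₂ : w • p₂ = p₁ := by rw [← hwp, ← mul_smul, hw2, one_smul]
  -- move the two points to the standard position
  obtain ⟨u, hu, hu1, hu2⟩ := sz_move_pair hF p₁.2 p₂.2 (fun h => hne (Subtype.ext h))
  set g₀ : Sz F m := ⟨u, hu⟩ with hg₀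
  have hg₁ : g₀ • p₁ = oInf F m := Subtype.ext hu1
  have hg₂ : g₀ • p₂ = oPt m 0 0 := Subtype.ext hu2
  -- the conjugated involution and swapping element
  set t := g₀ * t₁ * g₀⁻¹ with ht
  have ht1 : t ≠ 1 := by
    intro h
    apply ht₁1
    calc t₁ = g₀⁻¹ * (g₀ * t₁ * g₀⁻¹) * g₀ := by group
      _ = 1 := by rw [← ht, h]; group
  have ht2 : t * t = 1 := by
    calc t * t = g₀ * (t₁ * t₁) * g₀⁻¹ := by rw [ht]; group
      _ = 1 := by rw [ht₁2]; group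
  have htinf : t • oInf F m = oInf F m := by
    rw [ht, ← hg₁, mul_smul, mul_smul, inv_smul_smul, hp₁]
  obtain ⟨b, hb, htb⟩ := invol_fix_inf hF hm ht1 ht2 htinf
  set w' := g₀ * w * g₀⁻¹ with hw'
  have hw'inf : w' • oInf F m = oPt m 0 0 := by
    rw [hw', ← hg₁, mul_smul, mul_smul, inv_smul_smul, hwp, hg₂]
  have hw'zero : w' • oPt m (0 : F) 0 = oInf F m := by
    rw [hw', ← hg₂, mul_smul, mul_smul, inv_smul_smul, hwp₂, hg₁]
  have hf1 : (gJ hF * w') • oInf F m = oInf F m := by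
    rw [mul_smul, hw'inf, gJ_oZero]
  have hf2 : (gJ hF * w') • oPt m (0 : F) 0 = oPt m 0 0 := by
    rw [mul_smul, hw'zero, gJ_oInf]
  obtain ⟨l, hl⟩ := two_point_stab hF hm hf1 hf2
  have hJJ : gJ hF * gJ hF = 1 := gJ_mul_self hF
  have hw'eq : w' = gJ hF * gD hF l := by
    rw [← hl, ← mul_assoc, hJJ, one_mul]
  obtain ⟨μ, hμ⟩ := exists_sqrt_unit hF l
  set d := gD hF μ with hd
  have hdw : d * w' * d⁻¹ = gJ hF := by
    have e1 : gD hF μ * gJ hF = gJ hF * gD hF μ⁻¹ := by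
      have := gJ_gD hF μ⁻¹
      rw [inv_inv] at this
      exact this.symm
    rw [hw'eq, hd, ← mul_assoc, e1, ← gD_inv', mul_assoc, mul_assoc, ← gD_mul, ← gD_mul]
    have : μ⁻¹ * (l * μ⁻¹) = 1 := by
      rw [← hμ]
      group
    rw [this, gD_one, mul_one]
  refine ⟨d * g₀, ?_, (μ : F) ^ 2 * szθ m (μ : F) ^ 2 * b, ?_, ?_⟩
  · refine ⟨w, hwM, ?_⟩
    simp only [MulEquiv.coe_toMonoidHom, MulAut.conj_apply]
    rw [← hdw, hw']
    group
  · exact mul_ne_zero (mul_ne_zero (pow_ne_zero 2 μ.ne_zero)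
      (pow_ne_zero 2 (szθ_ne_zero m μ.ne_zero))) hb
  · refine ⟨t₁, h₁, ?_⟩
    simp only [MulEquiv.coe_toMonoidHom, MulAut.conj_apply]
    have h3 := gD_conj_gT hF μ 0 b
    rw [mul_zero] at h3
    rw [← h3, ← htb, ht, hd]
    group

end Cfsg.Agent.Lib.helper3
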