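import Mathlib
import Cfsg.Prelude.Def_LieExceptional
import Cfsg.Agent.Lib.helper3.SuzukiSubMain

set_option autoImplicit false

namespace Cfsg.Agent.Lib.helper3

open Cfsg Matrix
open scoped Pointwise

variable {F : Type*} [Field F] [Fintype F] {m : ℕ} (hF : Fintype.card F = 2 ^ (2 * m + 1))
  (hm : 1 ≤ m)

include hF hm in
/-- a subgroup fixing a point of the ovoid normalises a Sylow 2-subgroup -/
theorem le_normalizer_sylow_of_fix (M : Subgroup (Sz F m)) (p : suzukiOvoid F m)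
    (hfix : ∀ g ∈ M, g • p = p) :
    ∃ P : Sylow 2 (Sz F m),
      M ≤ Subgroup.normalizer ((P : Subgroup (Sz F m)) : Set (Sz F m)) := by
  have hfin : Finite (Sz F m) := finite_Sz hF hm
  obtain ⟨x, rfl⟩ := ovoid_eq_smul_inf hF p
  have hmem : ∀ h : Sz F m, h ∈ ((x • QsSylow hF hm : Sylow 2 (Sz F m)) : Subgroup (Sz F m)) ↔
      x⁻¹ * h * x ∈ Qs hF := by
    intro h
    rw [Sylow.coe_subgroup_smul, Subgroup.mem_pointwise_smul_iff_inv_smul_mem, coe_QsSylow,
      MulAut.smul_def, ← map_inv, MulAut.conj_apply, inv_inv]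
  refine ⟨x • QsSylow hF hm, fun g hg => ?_⟩
  have h1 : (x⁻¹ * g * x) • oInf F m = oInf F m := by
    rw [mul_smul, mul_smul, hfix g hg, inv_smul_smul]
  have h2 : x⁻¹ * g * x ∈ Subgroup.normalizer ((Qs hF : Subgroup (Sz F m)) : Set (Sz F m)) := by
    rw [normalizer_Qs hF hm]
    exact h1
  rw [Subgroup.mem_normalizer_iff] at h2 ⊢
  intro h
  rw [hmem, hmem, h2 (x⁻¹ * h * x)]
  have e : x⁻¹ * g * x * (x⁻¹ * h * x) * (x⁻¹ * g * x)⁻¹ = x⁻¹ * (g * h * g⁻¹) * x := by group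
  rw [e]

include hF hm in
/-- the subgroup theorem, with the subfield case in conjugated form -/
theorem sz_subgroup_cases (M : Subgroup (Sz F m)) (hM : M ≠ ⊤) :
    (∃ P : Sylow 2 (Sz F m),
      M ≤ Subgroup.normalizer ((P : Subgroup (Sz F m)) : Set (Sz F m))) ∨
    (∃ U : Subgroup (Sz F m), IsTorus m U ∧ M ≤ Subgroup.normalizer (U : Set (Sz F m))) ∨
    (∃ (K' : Subfield F) (k : ℕ) (g : Sz F m), 1 ≤ k ∧ k < m ∧ Nat.card K' = 2 ^ (2 * k + 1) ∧
      M.map (MulAut.conj g).toMonoidHom ≤ subStab m K') := by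
  have hfin : Finite (Sz F m) := finite_Sz hF hm
  by_cases hodd : Odd (Nat.card M)
  · by_cases hbot : M = ⊥
    · left
      refine ⟨QsSylow hF hm, ?_⟩
      rw [hbot]
      exact bot_le
    · right; left
      exact le_normalizer_torus_of_odd hF hm hbot hodd Subgroup.le_normalizer
  · rw [Nat.not_odd_iff_even] at hodd
    haveI : Fact (Nat.Prime 2) := ⟨Nat.prime_two⟩
    obtain ⟨t, ht⟩ := exists_prime_orderOf_dvd_card' (G := M) 2 hodd.two_dvd
    have ht1 : (t : Sz F m) ≠ 1 := by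
      intro h
      have : t = 1 := Subtype.ext h
      rw [this, orderOf_one] at ht
      omega
    have ht2 : (t : Sz F m) * (t : Sz F m) = 1 := by
      have h := pow_orderOf_eq_one t
      rw [ht, pow_two] at h
      exact congrArg Subtype.val h
    obtain ⟨p, hp, hpu⟩ := invol_fixed_unique hF hm ht1 ht2
    by_cases hall : ∀ g ∈ M, g • p = p
    · left
      exact le_normalizer_sylow_of_fix hF hm M p hall
    · right
      push Not at hall
      obtain ⟨g, hgM, hgp⟩ := hall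
      set t₂ : Sz F m := g * (t : Sz F m) * g⁻¹ with ht₂
      have ht₂M : t₂ ∈ M := M.mul_mem (M.mul_mem hgM t.2) (M.inv_mem hgM)
      have ht₂1 : t₂ ≠ 1 := by
        intro h
        apply ht1
        calc (t : Sz F m) = g⁻¹ * (g * (t : Sz F m) * g⁻¹) * g := by group
          _ = 1 := by rw [← ht₂, h]; group
      have ht₂2 : t₂ * t₂ = 1 := by
        calc t₂ * t₂ = g * ((t : Sz F m) * (t : Sz F m)) * g⁻¹ := by rw [ht₂]; group
          _ = 1 := by rw [ht2]; group
      have hp₂ : t₂ • (g • p) = g • p := by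
        rw [ht₂, mul_smul, mul_smul, inv_smul_smul, hp]
      obtain ⟨g₀, hJ, b, hb, h1⟩ := exists_conj_normalized hF hm M t.2 ht₂M ht1 ht2 ht₂1 ht₂2
        hp hp₂ (Ne.symm hgp)
      have hH : M.map (MulAut.conj g₀).toMonoidHom ≠ ⊤ := by
        intro h
        apply hM
        rw [eq_top_iff]
        intro x _
        have hx : g₀ * x * g₀⁻¹ ∈ M.map (MulAut.conj g₀).toMonoidHom := by
          rw [h]
          exact Subgroup.mem_top _
        rw [mem_map_conj_iff] at hx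
        have e : g₀⁻¹ * (g₀ * x * g₀⁻¹) * g₀ = x := by group
        rw [e] at hx
        exact hx
      rcases sub_main_normalized hF hm _ hH hJ b hb h1 with ⟨U, hU, hle⟩ | ⟨K', k, hk1, hk2, hK', hle⟩
      · left
        exact ⟨U.map (MulAut.conj g₀⁻¹).toMonoidHom, hU.map_conj g₀⁻¹,
          le_normalizer_of_map_conj g₀ hle⟩
      · right
        exact ⟨K', k, g₀, hk1, hk2, hK', hle⟩

include hF hm in
/-- the stabiliser of a sub-ovoid over a subfield is a Suzuki group over a field of that order -/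
theorem subStab_iso (K' : Subfield F) (k : ℕ) (hk : 1 ≤ k) (hK' : Nat.card K' = 2 ^ (2 * k + 1)) :
    ∃ (K : Type) (_ : Field K) (_ : Fintype K), Fintype.card K = 2 ^ (2 * k + 1) ∧
      2 * k + 1 ∣ 2 * m + 1 ∧ Nonempty (subStab m K' ≃* Sz K k) := by
  classical
  haveI : Fact (Nat.Prime 2) := ⟨Nat.prime_two⟩
  have hn : 2 * k + 1 ≠ 0 := by omega
  haveI : Finite (GaloisField 2 (2 * k + 1)) := Nat.finite_of_card_ne_zero (by
    rw [GaloisField.card 2 (2 * k + 1) hn]
    positivity)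
  letI : Fintype (GaloisField 2 (2 * k + 1)) := Fintype.ofFinite _
  have hK : Fintype.card (GaloisField 2 (2 * k + 1)) = 2 ^ (2 * k + 1) := by
    rw [← Nat.card_eq_fintype_card, GaloisField.card 2 (2 * k + 1) hn]
  have hdiv : 2 * k + 1 ∣ 2 * m + 1 := by
    have h1 := Module.natCard_eq_pow_finrank (K := K') (V := F)
    rw [Nat.card_eq_fintype_card, hF, hK', ← pow_mul] at h1
    have h2 := Nat.pow_right_injective (le_refl 2) h1
    exact ⟨_, h2⟩
  obtain ⟨S₀, ⟨e⟩⟩ := exists_subfield_subgroup (K := GaloisField 2 (2 * k + 1)) hF hK hk hdiv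
  have hinj : Function.Injective (S₀.subtype.comp e.symm.toMonoidHom) :=
    S₀.subtype_injective.comp e.symm.injective
  obtain ⟨g', hg'⟩ := exists_conj_eq_subStab hF hm hK hk K' hK' _ hinj
  refine ⟨GaloisField 2 (2 * k + 1), inferInstance, inferInstance, hK, hdiv, ⟨?_⟩⟩
  exact ((MulEquiv.subgroupCongr hg'.symm).trans
    ((Subgroup.equivMapOfInjective _ _ (MulAut.conj g').injective).symm.trans
      (MonoidHom.ofInjective hinj).symm))

include hF hm in
/-- Suzuki's theorem on the subgroups of the Suzuki groups -/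
theorem sz_subgroup_theorem (M : Subgroup (Sz F m)) (hM : M ≠ ⊤) :
    (∃ P : Sylow 2 (Sz F m),
      M ≤ Subgroup.normalizer ((P : Subgroup (Sz F m)) : Set (Sz F m))) ∨
    (∃ U : Subgroup (Sz F m), IsCyclic U ∧ Nat.card U ∈ ({2 ^ (2 * m + 1) - 1,
        2 ^ (2 * m + 1) + 2 ^ (m + 1) + 1, 2 ^ (2 * m + 1) - 2 ^ (m + 1) + 1} : Set ℕ) ∧
      M ≤ Subgroup.normalizer (U : Set (Sz F m))) ∨
    (∃ (K : Type) (_ : Field K) (_ : Fintype K) (k : ℕ), 1 ≤ k ∧ k < m ∧
      Fintype.card K = 2 ^ (2 * k + 1) ∧ 2 * k + 1 ∣ 2 * m + 1 ∧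
      ∃ S : Subgroup (Sz F m), Nonempty (S ≃* Sz K k) ∧ M ≤ S) := by
  rcases sz_subgroup_cases hF hm M hM with h | ⟨U, hU, hle⟩ | ⟨K', k, g, hk1, hk2, hK', hle⟩
  · exact Or.inl h
  · exact Or.inr (Or.inl ⟨U, hU.1, hU.2, hle⟩)
  · right; right
    obtain ⟨K, iK, iK', hK, hdiv, ⟨e⟩⟩ := subStab_iso hF hm K' k hk1 hK'
    refine ⟨K, iK, iK', k, hk1, hk2, hK, hdiv,
      (subStab m K').map (MulAut.conj g⁻¹).toMonoidHom, ⟨?_⟩, le_map_conj_of_map_conj_le g hle⟩
    exact (Subgroup.equivMapOfInjective _ _ (MulAut.conj g⁻¹).injective).symm.trans e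

end Cfsg.Agent.Lib.helper3
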