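import Mathlib
import Cfsg.Prelude.Def_LieExceptional
import Cfsg.Agent.Lib.helper3.SuzukiSubFinal
import Cfsg.Agent.Lib.helper3.SuzukiTori2

set_option autoImplicit false

namespace Cfsg.Agent.Lib.helper3

open Cfsg Matrix
open scoped Pointwise commutatorElement

/-! ### General lemmas on solvable subgroups -/

theorem isSolvable_of_le_sub {G : Type*} [Group G] {H K : Subgroup G} (h : H ≤ K)
    (hK : Group.IsSolvable K) : Group.IsSolvable H :=
  Group.isSolvable_of_isSolvable_injective (Subgroup.inclusion_injective h)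

theorem isSolvable_of_commutator_le_sub {G : Type*} [Group G] {H A : Subgroup G}
    (hA : Group.IsSolvable A) (h : ⁅H, H⁆ ≤ A) : Group.IsSolvable H := by
  have h1 : Group.IsSolvable (commutator H) := by
    have hle : ∀ x : commutator H, ((x : H) : G) ∈ A := by
      intro x
      apply h
      rw [← Subgroup.map_subtype_commutator]
      exact ⟨x.1, x.2, rfl⟩
    let φ : commutator H →* A :=
      { toFun := fun x => ⟨((x : H) : G), hle x⟩
        map_one' := rfl
        map_mul' := fun _ _ => rfl }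
    have hφ : Function.Injective φ := by
      intro x y hxy
      have := congrArg Subtype.val hxy
      exact Subtype.ext (Subtype.ext this)
    exact Group.isSolvable_of_isSolvable_injective hφ
  refine Group.isSolvable_of_ker_le_range (commutator H).subtype (Abelianization.of (G := H)) ?_
  rw [Abelianization.ker_of, Subgroup.range_subtype]

theorem isSolvable_map_conj {G : Type*} [Group G] {H : Subgroup G} (g : G)
    (hH : Group.IsSolvable H) : Group.IsSolvable (H.map (MulAut.conj g).toMonoidHom) := by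
  have := hH
  exact Group.isSolvable_of_surjective
    (MonoidHom.subgroupMap_surjective (MulAut.conj g).toMonoidHom H)


/-- the derived subgroup of the normaliser of a cyclic subgroup centralises it -/
theorem commutator_normalizer_cyclic_le {G : Type*} [Group G] {U : Subgroup G} (hU : IsCyclic U) :
    ⁅Subgroup.normalizer (U : Set G), Subgroup.normalizer (U : Set G)⁆ ≤
      Subgroup.centralizer (U : Set G) := by
  obtain ⟨u₀, hu₀⟩ := IsCyclic.exists_generator (α := U)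
  set u : G := (u₀ : G) with hu
  have huU : u ∈ U := u₀.2
  have hgen : ∀ v ∈ U, ∃ i : ℤ, u ^ i = v := by
    intro v hv
    obtain ⟨i, hi⟩ := Subgroup.mem_zpowers_iff.1 (hu₀ ⟨v, hv⟩)
    refine ⟨i, ?_⟩
    have := congrArg Subtype.val hi
    simpa using this
  -- conjugation by a normalising element is a power map
  have hpow : ∀ n ∈ Subgroup.normalizer (U : Set G), ∃ j : ℤ, ∀ v ∈ U, n * v * n⁻¹ = v ^ j := by
    intro n hn
    have h1 : n * u * n⁻¹ ∈ U := (Subgroup.mem_normalizer_iff.1 hn u).1 huU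
    obtain ⟨j, hj⟩ := hgen _ h1
    refine ⟨j, fun v hv => ?_⟩
    obtain ⟨i, rfl⟩ := hgen v hv
    have e : n * u ^ i * n⁻¹ = (n * u * n⁻¹) ^ i := by
      have := (MulAut.conj n).toMonoidHom.map_zpow u i
      simpa [MulAut.conj_apply] using this
    rw [e, ← hj, ← _root_.zpow_mul, ← _root_.zpow_mul, mul_comm]
  rw [Subgroup.commutator_le]
  intro n₁ hn₁ n₂ hn₂
  obtain ⟨j₁, hj₁⟩ := hpow n₁ hn₁
  obtain ⟨j₂, hj₂⟩ := hpow n₂ hn₂
  rw [Subgroup.mem_centralizer_iff]
  intro v hv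
  have hv' : v ∈ U := hv
  -- both products act in the same way
  have key : ∀ w ∈ U, (n₁ * n₂) * w * (n₁ * n₂)⁻¹ = (n₂ * n₁) * w * (n₂ * n₁)⁻¹ := by
    intro w hw
    have e1 : (n₁ * n₂) * w * (n₁ * n₂)⁻¹ = n₁ * (n₂ * w * n₂⁻¹) * n₁⁻¹ := by group
    have e2 : (n₂ * n₁) * w * (n₂ * n₁)⁻¹ = n₂ * (n₁ * w * n₁⁻¹) * n₂⁻¹ := by group
    rw [e1, e2, hj₂ w hw, hj₁ w hw, hj₁ _ (U.zpow_mem hw _), hj₂ _ (U.zpow_mem hw _),
      ← _root_.zpow_mul, ← _root_.zpow_mul, mul_comm]
  have hmem : (n₂ * n₁)⁻¹ * v * (n₂ * n₁) ∈ U := by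
    have hn : n₂ * n₁ ∈ Subgroup.normalizer (U : Set G) := Subgroup.mul_mem _ hn₂ hn₁
    have := (Subgroup.mem_normalizer_iff.1 (Subgroup.inv_mem _ hn) v).1 hv'
    simpa using this
  have h3 := key _ hmem
  have h4 : (n₂ * n₁) * ((n₂ * n₁)⁻¹ * v * (n₂ * n₁)) * (n₂ * n₁)⁻¹ = v := by group
  rw [h4] at h3
  have h5 : ⁅n₁, n₂⁆ * v * ⁅n₁, n₂⁆⁻¹ = v := by
    have h6 : ⁅n₁, n₂⁆ * v * ⁅n₁, n₂⁆⁻¹ =
        n₁ * n₂ * ((n₂ * n₁)⁻¹ * v * (n₂ * n₁)) * (n₁ * n₂)⁻¹ := by
      rw [commutatorElement_def]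
      group
    rw [h6, h3]
  calc v * ⁅n₁, n₂⁆ = (⁅n₁, n₂⁆ * v * ⁅n₁, n₂⁆⁻¹) * ⁅n₁, n₂⁆ := by rw [h5]
    _ = ⁅n₁, n₂⁆ * v := by group

section

variable {F : Type*} [Field F] [Fintype F] {m : ℕ} (hF : Fintype.card F = 2 ^ (2 * m + 1))
  (hm : 1 ≤ m)

theorem stab_mul_form (a b a' b' : F) (k k' : Fˣ) :
    ∃ a'' b'' : F, (gT hF a b * gD hF k) * (gT hF a' b' * gD hF k') =
      gT hF a'' b'' * gD hF (k * k') := by
  refine ⟨a + (k : F) ^ 2 * a', b + (k : F) ^ 2 * szθ m (k : F) ^ 2 * b' +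
    szθ m a * ((k : F) ^ 2 * a'), ?_⟩
  rw [mul_assoc, ← mul_assoc (gD hF k), gD_gT, mul_assoc, ← gD_mul, ← mul_assoc, gT_mul]

include hF hm in
/-- the stabiliser of the point at infinity is solvable -/
theorem isSolvable_stab_inf :
    Group.IsSolvable (MulAction.stabilizer (Sz F m) (oInf F m)) := by
  have hQ : Group.IsSolvable (Qs hF) := by
    have := isNilpotent_Qs hF hm
    infer_instance
  apply isSolvable_of_commutator_le_sub hQ
  rw [Subgroup.commutator_le]
  intro g₁ hg₁ g₂ hg₂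
  obtain ⟨a₁, b₁, k₁, rfl⟩ := stab_decomp hF hm (MulAction.mem_stabilizer_iff.1 hg₁)
  obtain ⟨a₂, b₂, k₂, rfl⟩ := stab_decomp hF hm (MulAction.mem_stabilizer_iff.1 hg₂)
  obtain ⟨a, b, e⟩ := stab_mul_form hF a₁ b₁ a₂ b₂ k₁ k₂
  obtain ⟨a', b', e'⟩ := stab_mul_form hF a₂ b₂ a₁ b₁ k₂ k₁
  have hc : ⁅gT hF a₁ b₁ * gD hF k₁, gT hF a₂ b₂ * gD hF k₂⁆ =
      (gT hF a₁ b₁ * gD hF k₁ * (gT hF a₂ b₂ * gD hF k₂)) *
        (gT hF a₂ b₂ * gD hF k₂ * (gT hF a₁ b₁ * gD hF k₁))⁻¹ := by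
    rw [commutatorElement_def]
    group
  rw [hc, e, e', mul_comm k₂ k₁]
  have : gT hF a b * gD hF (k₁ * k₂) * (gT hF a' b' * gD hF (k₁ * k₂))⁻¹ =
      gT hF a b * (gT hF a' b')⁻¹ := by group
  rw [this]
  exact (Qs hF).mul_mem (gT_mem_Qs hF a b) ((Qs hF).inv_mem (gT_mem_Qs hF a' b'))

include hF hm in
/-- point stabilisers are solvable -/
theorem isSolvable_stab (p : suzukiOvoid F m) :
    Group.IsSolvable (MulAction.stabilizer (Sz F m) p) := by
  obtain ⟨h, rfl⟩ := ovoid_eq_smul_inf hF p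
  rw [MulAction.stabilizer_smul_eq_stabilizer_map_conj]
  exact isSolvable_map_conj h (isSolvable_stab_inf hF hm)

include hF hm in
/-- the Suzuki group is not solvable -/
theorem not_isSolvable_Sz : ¬ Group.IsSolvable (Sz F m) := by
  intro hs
  haveI := Sz_isSimple hF hm
  have hcomm := (IsSimpleGroup.comm_iff_isSolvable (G := Sz F m)).2 hs
  have h2 := sz_two hF
  have h1 := hcomm (gT hF 1 0) (gT hF 0 1 * gD hF 1)
  obtain ⟨t, ht, ht0⟩ := exists_szθ_ne hF hm
  have h3 := hcomm (gT hF 1 0) (gT hF t 0)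
  rw [gT_mul, gT_mul] at h3
  have h4 := (gT_injective hF h3).2
  rw [szθ_one, one_mul, zero_add, zero_add, zero_add, mul_one] at h4
  exact ht h4.symm

include hF hm in
/-- normalisers of tori are solvable -/
theorem isSolvable_normalizer_torus {U : Subgroup (Sz F m)} (hU : IsTorus m U) :
    Group.IsSolvable (Subgroup.normalizer (U : Set (Sz F m))) := by
  have hfin : Finite (Sz F m) := finite_Sz hF hm
  have hcard : 1 < Nat.card U := by
    obtain ⟨_, _, h1, h2⟩ := sz_k_arith hm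
    have h8 : 2 ^ 3 ≤ 2 ^ (2 * m + 1) := Nat.pow_le_pow_right (by norm_num) (by omega)
    rcases hU.2 with h | h | h <;> rw [h] <;> omega
  obtain ⟨u, hu1⟩ : ∃ u : U, u ≠ 1 := by
    haveI : Nontrivial U := Finite.one_lt_card_iff_nontrivial.1 hcard
    exact exists_ne 1
  have hu1' : (u : Sz F m) ≠ 1 := fun h => hu1 (Subtype.ext h)
  have hnil := Sz_isCNGroup hF hm (u : Sz F m) hu1'
  have hsol : Group.IsSolvable (Subgroup.centralizer ({(u : Sz F m)} : Set (Sz F m))) :=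
    inferInstance
  apply isSolvable_of_commutator_le_sub hsol
  refine le_trans (commutator_normalizer_cyclic_le hU.1) ?_
  apply Subgroup.centralizer_le
  intro x hx
  rw [Set.mem_singleton_iff] at hx
  rw [hx]
  exact u.2

end

end Cfsg.Agent.Lib.helper3
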