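import Mathlib
import Cfsg.Prelude.Def_LieExceptional
import Cfsg.Agent.Lib.helper3.SuzukiSolA

set_option autoImplicit false

namespace Cfsg.Agent.Lib.helper3

open Cfsg Matrix
open scoped Pointwise

variable {F : Type*} [Field F] [Fintype F] {m : ℕ} (hF : Fintype.card F = 2 ^ (2 * m + 1))
  (hm : 1 ≤ m)

include hF hm in
/-- the normaliser of a Sylow 2-subgroup fixes a point of the ovoid -/
theorem normalizer_sylow_fix (P : Sylow 2 (Sz F m)) :
    ∃ p : suzukiOvoid F m, ∀ n ∈ Subgroup.normalizer ((P : Subgroup (Sz F m)) : Set (Sz F m)),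
      n • p = p := by
  obtain ⟨x, hx⟩ := sylow_two_conj hF hm P
  refine ⟨x • oInf F m, fun n hn => ?_⟩
  have h1 : x⁻¹ * n * x ∈ Subgroup.normalizer ((Qs hF : Subgroup (Sz F m)) : Set (Sz F m)) := by
    rw [Subgroup.mem_normalizer_iff]
    intro h
    have e1 : ∀ h : Sz F m, h ∈ Qs hF ↔ x * h * x⁻¹ ∈ P := by
      intro h
      rw [hx]
      have : x⁻¹ * (x * h * x⁻¹) * x = h := by group
      rw [this]
    rw [e1 h, e1 (x⁻¹ * n * x * h * (x⁻¹ * n * x)⁻¹)]
    have e2 : x * (x⁻¹ * n * x * h * (x⁻¹ * n * x)⁻¹) * x⁻¹ = n * (x * h * x⁻¹) * n⁻¹ := by group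
    rw [e2]
    exact (Subgroup.mem_normalizer_iff.1 hn) _
  rw [normalizer_Qs hF hm, MulAction.mem_stabilizer_iff, mul_smul, mul_smul,
    inv_smul_eq_iff] at h1
  exact h1

include hF hm in
/-- when `2m+1` is prime, every proper subgroup fixes a point or normalises a torus -/
theorem sz_proper_cases (hp : (2 * m + 1).Prime) (M : Subgroup (Sz F m)) (hM : M ≠ ⊤) :
    (∃ p : suzukiOvoid F m, ∀ g ∈ M, g • p = p) ∨
    (∃ U : Subgroup (Sz F m), IsTorus m U ∧ M ≤ Subgroup.normalizer (U : Set (Sz F m))) := by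
  rcases sz_subgroup_cases hF hm M hM with ⟨P, hP⟩ | h | ⟨K', k, g, hk1, hk2, hK', hle⟩
  · left
    obtain ⟨p, hp'⟩ := normalizer_sylow_fix hF hm P
    exact ⟨p, fun g hg => hp' g (hP hg)⟩
  · exact Or.inr h
  · exfalso
    have hdiv : 2 * k + 1 ∣ 2 * m + 1 := by
      have h1 := Module.natCard_eq_pow_finrank (K := K') (V := F)
      rw [Nat.card_eq_fintype_card, hF, hK', ← pow_mul] at h1
      have h2 := Nat.pow_right_injective (le_refl 2) h1
      exact ⟨_, h2⟩
    rcases (Nat.dvd_prime hp).1 hdiv with h | h <;> omega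

include hF hm in
/-- the solubilizer condition, when `2m+1` is prime -/
theorem sol_iff (hp : (2 * m + 1).Prime) (x y : Sz F m) :
    Group.IsSolvable (Subgroup.closure ({x, y} : Set (Sz F m))) ↔
      (∃ p : suzukiOvoid F m, x • p = p ∧ y • p = p) ∨
      (∃ U : Subgroup (Sz F m), IsTorus m U ∧ x ∈ Subgroup.normalizer (U : Set (Sz F m)) ∧
        y ∈ Subgroup.normalizer (U : Set (Sz F m))) := by
  have hx : x ∈ Subgroup.closure ({x, y} : Set (Sz F m)) :=
    Subgroup.subset_closure (Set.mem_insert _ _)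
  have hy : y ∈ Subgroup.closure ({x, y} : Set (Sz F m)) :=
    Subgroup.subset_closure (Set.mem_insert_of_mem _ rfl)
  constructor
  · intro hs
    have hne : Subgroup.closure ({x, y} : Set (Sz F m)) ≠ ⊤ := by
      intro h
      rw [h] at hs
      apply not_isSolvable_Sz hF hm
      exact Group.isSolvable_of_surjective (G := (⊤ : Subgroup (Sz F m)))
        (f := (⊤ : Subgroup (Sz F m)).subtype) (fun g => ⟨⟨g, Subgroup.mem_top g⟩, rfl⟩)
    rcases sz_proper_cases hF hm hp _ hne with ⟨p, hp'⟩ | ⟨U, hU, hle⟩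
    · exact Or.inl ⟨p, hp' x hx, hp' y hy⟩
    · exact Or.inr ⟨U, hU, hle hx, hle hy⟩
  · rintro (⟨p, hxp, hyp⟩ | ⟨U, hU, hxU, hyU⟩)
    · apply isSolvable_of_le_sub _ (isSolvable_stab hF hm p)
      rw [Subgroup.closure_le]
      intro g hg
      rcases hg with rfl | hg
      · exact MulAction.mem_stabilizer_iff.2 hxp
      · rw [Set.mem_singleton_iff] at hg
        rw [hg]
        exact MulAction.mem_stabilizer_iff.2 hyp
    · apply isSolvable_of_le_sub _ (isSolvable_normalizer_torus hF hm hU)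
      rw [Subgroup.closure_le]
      intro g hg
      rcases hg with rfl | hg
      · exact hxU
      · rw [Set.mem_singleton_iff] at hg
        rw [hg]
        exact hyU

end Cfsg.Agent.Lib.helper3
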