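import Mathlib
import Cfsg.Prelude.Def_LieExceptional
import Cfsg.Agent.Lib.helper3.SuzukiSolB

set_option autoImplicit false

namespace Cfsg.Agent.Lib.helper3

open Cfsg Matrix
open scoped Pointwise

variable {F : Type*} [Field F] [Fintype F] {m : ℕ} (hF : Fintype.card F = 2 ^ (2 * m + 1))
  (hm : 1 ≤ m)

theorem coprime_four_of_odd {n : ℕ} (h : Odd n) : Nat.Coprime 4 n := by
  have : (4 : ℕ) = 2 ^ 2 := by norm_num
  rw [this]
  exact Nat.Coprime.pow_left 2 (Nat.coprime_two_left.2 h)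

include hF hm in
/-- the three types of nonidentity elements, with their orders -/
theorem elt_type {u : Sz F m} (hu : u ≠ 1) :
    (orderOf u ∣ 4 ∧ ∃ (w : Sz F m) (a b : F), ¬ (a = 0 ∧ b = 0) ∧ u = w * gT hF a b * w⁻¹) ∨
    (orderOf u ∣ 2 ^ (2 * m + 1) - 1 ∧
      ∃ (w : Sz F m) (k : Fˣ), k ≠ 1 ∧ u = w * gD hF k * w⁻¹) ∨
    (orderOf u ∣ (2 ^ (2 * m + 1)) ^ 2 + 1 ∧ Fpf u) := by
  have hfin : Finite (Sz F m) := finite_Sz hF hm
  rcases sz_trichotomy hF hm hu with ⟨w, a, b, hab, rfl⟩ | ⟨w, k, hk, rfl⟩ | hf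
  · left
    refine ⟨?_, w, a, b, hab, rfl⟩
    apply orderOf_dvd_of_pow_eq_one
    rw [conj_pow', gT_pow_four]
    group
  · right; left
    refine ⟨?_, w, k, hk, rfl⟩
    apply orderOf_dvd_of_pow_eq_one
    rw [conj_pow', gD_pow_card hF]
    group
  · right; right
    refine ⟨?_, hf⟩
    refine dvd_trans ?_ (hf.card_centralizer_dvd hF hm)
    exact Subgroup.orderOf_dvd_natCard _ (Subgroup.mem_centralizer_singleton_iff.2 rfl)

include hF hm in
theorem dtype_of_order {u : Sz F m} (hu : u ≠ 1) (ho : orderOf u ∣ 2 ^ (2 * m + 1) - 1) :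
    ∃ (w : Sz F m) (k : Fˣ), k ≠ 1 ∧ u = w * gD hF k * w⁻¹ := by
  obtain ⟨hodd1, hodd2, hcop⟩ := sz_orders_arith m
  rcases elt_type hF hm hu with ⟨h4, _⟩ | ⟨_, h⟩ | ⟨h2, _⟩
  · exact absurd (orderOf_eq_one_of_dvd_coprime h4 ho (coprime_four_of_odd hodd1)) hu
  · exact h
  · exact absurd (orderOf_eq_one_of_dvd_coprime ho h2 hcop) hu

include hF hm in
theorem fpf_of_order {u : Sz F m} (hu : u ≠ 1) (ho : orderOf u ∣ (2 ^ (2 * m + 1)) ^ 2 + 1) :
    Fpf u := by
  obtain ⟨hodd1, hodd2, hcop⟩ := sz_orders_arith m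
  rcases elt_type hF hm hu with ⟨h4, _⟩ | ⟨h1, _⟩ | ⟨_, h⟩
  · exact absurd (orderOf_eq_one_of_dvd_coprime h4 ho (coprime_four_of_odd hodd2)) hu
  · exact absurd (orderOf_eq_one_of_dvd_coprime h1 ho hcop) hu
  · exact h

include hF hm in
/-- fixed-point-free elements have odd order -/
theorem Fpf.odd_order {u : Sz F m} (hu : Fpf u) : Odd (orderOf u) := by
  have hfin : Finite (Sz F m) := finite_Sz hF hm
  obtain ⟨_, hodd2, _⟩ := sz_orders_arith m
  have h1 : orderOf u ∣ (2 ^ (2 * m + 1)) ^ 2 + 1 := by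
    refine dvd_trans ?_ (hu.card_centralizer_dvd hF hm)
    exact Subgroup.orderOf_dvd_natCard _ (Subgroup.mem_centralizer_singleton_iff.2 rfl)
  exact Odd.of_dvd_nat hodd2 h1

include hF hm in
/-- a torus of order `q - 1` is a conjugate of the diagonal torus -/
theorem torus_dtype {U : Subgroup (Sz F m)} (hU : IsCyclic U)
    (hc : Nat.card U = 2 ^ (2 * m + 1) - 1) : ∃ w : Sz F m, U = torusConj hF w := by
  have hfin : Finite (Sz F m) := finite_Sz hF hm
  obtain ⟨u₀, hu₀⟩ := IsCyclic.exists_generator (α := U)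
  have ho : orderOf u₀ = Nat.card U := orderOf_eq_card_of_forall_mem_zpowers hu₀
  have ho' : orderOf (u₀ : Sz F m) = 2 ^ (2 * m + 1) - 1 := by
    rw [Subgroup.orderOf_coe, ho, hc]
  have h8 : 2 ^ 3 ≤ 2 ^ (2 * m + 1) := Nat.pow_le_pow_right (by norm_num) (by omega)
  have hu1 : (u₀ : Sz F m) ≠ 1 := by
    intro h
    rw [h, orderOf_one] at ho'
    omega
  obtain ⟨w, k, hk, e⟩ := dtype_of_order hF hm hu1 (by rw [ho'])
  refine ⟨w, eq_torusConj hF hm hk hU hc ?_⟩
  rw [← e]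
  exact u₀.2

include hF hm in
/-- nonidentity elements of a torus of order `q ± r + 1` are fixed-point-free, and the torus
is their centraliser -/
theorem torus_pm {U : Subgroup (Sz F m)} (hU : IsCyclic U)
    (hc : Nat.card U = 2 ^ (2 * m + 1) + 2 ^ (m + 1) + 1 ∨
      Nat.card U = 2 ^ (2 * m + 1) - 2 ^ (m + 1) + 1) {u : Sz F m} (huU : u ∈ U) (hu1 : u ≠ 1) :
    Fpf u ∧ U = Subgroup.centralizer ({u} : Set (Sz F m)) := by
  have hfin : Finite (Sz F m) := finite_Sz hF hm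
  obtain ⟨hprod, _, _, _⟩ := sz_k_arith hm
  have h1 : orderOf u ∣ Nat.card U := Subgroup.orderOf_dvd_natCard U huU
  have h2 : Nat.card U ∣ (2 ^ (2 * m + 1)) ^ 2 + 1 := by
    rcases hc with h | h <;> rw [h, ← hprod]
    · exact Dvd.intro _ rfl
    · exact Dvd.intro_left _ rfl
  have hf := fpf_of_order hF hm hu1 (dvd_trans h1 h2)
  exact ⟨hf, eq_centralizer_of_fpf hF hm hf hU hc huU⟩

include hF hm in
/-- a torus is the centraliser of each of its nonidentity elements -/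
theorem torus_centralizer {U : Subgroup (Sz F m)} (hU : IsTorus m U) {u : Sz F m} (huU : u ∈ U)
    (hu1 : u ≠ 1) : Subgroup.centralizer ({u} : Set (Sz F m)) = U := by
  rcases hU.2 with h | h | h
  · obtain ⟨w, rfl⟩ := torus_dtype hF hm hU.1 h
    apply le_antisymm _ (le_centralizer_of_isCyclic hU.1 huU)
    obtain ⟨d, ⟨k, rfl⟩, hd⟩ := huU
    have hk : k ≠ 1 := by
      rintro rfl
      apply hu1
      rw [← hd]
      change (MulAut.conj w) (gD hF 1) = 1
      rw [gD_one, map_one]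
    have e : u = w * gD hF k * w⁻¹ := by
      rw [← hd]
      rfl
    rw [e, centralizer_conj_eq]
    unfold torusConj
    exact Subgroup.map_mono (centralizer_gD_le hF hm hk)
  · exact (torus_pm hF hm hU.1 (Or.inl h) huU hu1).2.symm
  · exact (torus_pm hF hm hU.1 (Or.inr h) huU hu1).2.symm

include hF hm in
/-- two tori sharing a nonidentity element are equal -/
theorem torus_unique {U U' : Subgroup (Sz F m)} (hU : IsTorus m U) (hU' : IsTorus m U')
    {u : Sz F m} (huU : u ∈ U) (huU' : u ∈ U') (hu1 : u ≠ 1) : U = U' := by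
  rw [← torus_centralizer hF hm hU huU hu1, ← torus_centralizer hF hm hU' huU' hu1]

omit [Fintype F] in
theorem odd_card_torus {U : Subgroup (Sz F m)} (hm : 1 ≤ m) (hU : IsTorus m U) :
    Odd (Nat.card U) := by
  obtain ⟨hodd1, hodd2, _⟩ := sz_orders_arith m
  obtain ⟨hprod, _, _, _⟩ := sz_k_arith hm
  rcases hU.2 with h | h | h
  · rw [h]; exact hodd1
  · rw [h]
    exact Odd.of_dvd_nat hodd2 (hprod ▸ Dvd.intro _ rfl)
  · rw [h]
    exact Odd.of_dvd_nat hodd2 (hprod ▸ Dvd.intro_left _ rfl)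

omit [Fintype F] in
theorem one_lt_card_torus {U : Subgroup (Sz F m)} (hm : 1 ≤ m) (hU : IsTorus m U) :
    1 < Nat.card U := by
  obtain ⟨_, _, h1, h2⟩ := sz_k_arith hm
  have h8 : 2 ^ 3 ≤ 2 ^ (2 * m + 1) := Nat.pow_le_pow_right (by norm_num) (by omega)
  rcases hU.2 with h | h | h <;> rw [h] <;> omega

end Cfsg.Agent.Lib.helper3
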