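import Mathlib
import Cfsg.Prelude.Def_LieExceptional
import Cfsg.Agent.Lib.helper3.SuzukiSolC

set_option autoImplicit false

namespace Cfsg.Agent.Lib.helper3

open Cfsg Matrix
open scoped Pointwise

/-- powers of normalising elements, from the order of the normaliser -/
theorem pow_mem_of_card_normalizer {G : Type*} [Group G] [Finite G] {U : Subgroup G} {n : ℕ}
    (h : Nat.card (Subgroup.normalizer (U : Set G)) = n * Nat.card U) {g : G}
    (hg : g ∈ Subgroup.normalizer (U : Set G)) : g ^ n ∈ U := by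
  set N := Subgroup.normalizer (U : Set G) with hN
  have hle : U ≤ N := Subgroup.le_normalizer
  have h1 := Subgroup.pow_index_mem (U.subgroupOf N) (⟨g, hg⟩ : N)
  have hcard : Nat.card (U.subgroupOf N) = Nat.card U :=
    Nat.card_congr (Subgroup.subgroupOfEquivOfLe hle).toEquiv
  have h2 := Subgroup.card_mul_index (U.subgroupOf N)
  rw [hcard, h, mul_comm] at h2
  have hpos : 0 < Nat.card U := Nat.card_pos
  have h3 : (U.subgroupOf N).index = n := Nat.eq_of_mul_eq_mul_right hpos h2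
  rw [h3, Subgroup.mem_subgroupOf] at h1
  simpa using h1

theorem mem_of_pow_mem_of_coprime {G : Type*} [Group G] {U : Subgroup G} {g : G} {n : ℕ}
    (h : g ^ n ∈ U) (hc : Nat.Coprime n (orderOf g)) : g ∈ U := by
  obtain ⟨j, hj⟩ := exists_pow_eq_self_of_coprime hc
  rw [← hj]
  exact U.pow_mem h j

variable {F : Type*} [Field F] [Fintype F] {m : ℕ} (hF : Fintype.card F = 2 ^ (2 * m + 1))
  (hm : 1 ≤ m)

include hF hm in
/-- elements normalising the diagonal torus fix or swap its two fixed points -/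
theorem normalizer_gD_cases {g : Sz F m}
    (hg : g ∈ Subgroup.normalizer (((gDhom hF : Fˣ →* Sz F m).range : Subgroup (Sz F m)) :
      Set (Sz F m))) :
    (g • oInf F m = oInf F m ∧ g • oPt m (0 : F) 0 = oPt m 0 0) ∨
      (g • oInf F m = oPt m (0 : F) 0 ∧ g • oPt m (0 : F) 0 = oInf F m) := by
  obtain ⟨k, hk⟩ := exists_unit_ne_one hm hF
  have h1 : g * gD hF k * g⁻¹ ∈ (gDhom hF : Fˣ →* Sz F m).range :=
    (Subgroup.mem_normalizer_iff.1 hg _).1 ⟨k, rfl⟩
  obtain ⟨k', hk'⟩ := h1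
  have hk'1 : k' ≠ 1 := by
    rintro rfl
    apply hk
    apply gDhom_injective hF
    have h2 : g * gD hF k * g⁻¹ = 1 := by rw [← hk']; exact map_one _
    have h3 : gD hF k = g⁻¹ * (g * gD hF k * g⁻¹) * g := by group
    rw [map_one]
    change gD hF k = 1
    rw [h3, h2]
    group
  have hk'' : gD hF k' = g * gD hF k * g⁻¹ := hk'
  have f1 : gD hF k' • (g • oInf F m) = g • oInf F m := by
    rw [hk'', mul_smul, mul_smul, inv_smul_smul, gD_oInf]
  have f2 : gD hF k' • (g • oPt m (0 : F) 0) = g • oPt m (0 : F) 0 := by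
    rw [hk'', mul_smul, mul_smul, inv_smul_smul, gD_oZero]
  have hne : g • oInf F m ≠ g • oPt m (0 : F) 0 := by
    intro h
    exact (oPt_ne_oInf (m := m) (0 : F) 0) (MulAction.injective g h).symm
  rcases gD_fixed hF hk'1 f1 with h1 | h1 <;> rcases gD_fixed hF hk'1 f2 with h2 | h2
  · exact absurd (h1.trans h2.symm) hne
  · exact Or.inl ⟨h1, h2⟩
  · exact Or.inr ⟨h1, h2⟩
  · exact absurd (h1.trans h2.symm) hne

include hF hm in
theorem sq_mem_of_normalizer_gD {g : Sz F m}
    (hg : g ∈ Subgroup.normalizer (((gDhom hF : Fˣ →* Sz F m).range : Subgroup (Sz F m)) :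
      Set (Sz F m))) : g ^ 2 ∈ (gDhom hF : Fˣ →* Sz F m).range := by
  have h1 : g ^ 2 • oInf F m = oInf F m ∧ g ^ 2 • oPt m (0 : F) 0 = oPt m 0 0 := by
    rw [pow_two, mul_smul, mul_smul]
    rcases normalizer_gD_cases hF hm hg with ⟨h1, h2⟩ | ⟨h1, h2⟩
    · exact ⟨by rw [h1, h1], by rw [h2, h2]⟩
    · exact ⟨by rw [h1, h2], by rw [h2, h1]⟩
  obtain ⟨k, hk⟩ := two_point_stab hF hm h1.1 h1.2
  exact ⟨k, hk.symm⟩

include hF hm in
/-- the square of an element normalising a torus of order `q - 1` lies in the torus -/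
theorem sq_mem_torus_dtype {U : Subgroup (Sz F m)} (hU : IsCyclic U)
    (hc : Nat.card U = 2 ^ (2 * m + 1) - 1) {g : Sz F m}
    (hg : g ∈ Subgroup.normalizer (U : Set (Sz F m))) : g ^ 2 ∈ U := by
  obtain ⟨w, rfl⟩ := torus_dtype hF hm hU hc
  unfold torusConj at hg ⊢
  rw [← Subgroup.map_equiv_normalizer_eq] at hg
  obtain ⟨g', hg', rfl⟩ := hg
  refine ⟨g' ^ 2, sq_mem_of_normalizer_gD hF hm hg', ?_⟩
  rw [map_pow]

include hF hm in
/-- the normaliser of the centraliser of a fixed-point-free element -/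
theorem Fpf.card_normalizer_eq {x : Sz F m} (hx : Fpf x) :
    Nat.card (Subgroup.normalizer
        ((Subgroup.centralizer ({x} : Set (Sz F m)) : Subgroup (Sz F m)) : Set (Sz F m))) =
      4 * cOrd x := by
  have hfin : Finite (Sz F m) := finite_Sz hF hm
  have hk : cOrd x ∈ ({2 ^ (2 * m + 1) + 2 ^ (m + 1) + 1,
      2 ^ (2 * m + 1) - 2 ^ (m + 1) + 1} : Set ℕ) := hx.cOrd_eq hF hm
  obtain ⟨U₀, hcyc, hcard, hcent, hnorm⟩ := sz_tori hF hm (cOrd x) hk
  have h1 : 1 < Nat.card U₀ := by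
    rw [hcard]
    have := hx.cOrd_ne_one hF hm
    have hpos : 0 < cOrd x := Nat.card_pos
    omega
  obtain ⟨x₁, hx₁⟩ : ∃ u : U₀, u ≠ 1 := by
    haveI : Nontrivial U₀ := Finite.one_lt_card_iff_nontrivial.1 h1
    exact exists_ne 1
  have hx₁1 : (x₁ : Sz F m) ≠ 1 := fun h => hx₁ (Subtype.ext h)
  have hcx₁ := hcent _ x₁.2 hx₁1
  have hfx₁ : Fpf (x₁ : Sz F m) := by
    have hc' : Nat.card U₀ = 2 ^ (2 * m + 1) + 2 ^ (m + 1) + 1 ∨
        Nat.card U₀ = 2 ^ (2 * m + 1) - 2 ^ (m + 1) + 1 := by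
      rw [hcard]; exact hk
    exact (torus_pm hF hm hcyc hc' x₁.2 hx₁1).1
  have hco : cOrd (x₁ : Sz F m) = cOrd x := by
    unfold cOrd
    rw [hcx₁, hcard]
    rfl
  have e1 := card_type_class hF hm hx
  have e2 := card_type_class hF hm hfx₁
  rw [hco, hcx₁, hnorm] at e2
  have hpos : 0 < Nat.card {y : Sz F m // Fpf y ∧ cOrd y = cOrd x} :=
    Nat.card_pos_iff.2 ⟨⟨⟨x, hx, rfl⟩⟩, inferInstance⟩
  rw [← e2] at e1
  exact Nat.eq_of_mul_eq_mul_left hpos e1

include hF hm in
/-- the fourth power of an element normalising a torus lies in the torus -/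
theorem pow_four_mem_torus {U : Subgroup (Sz F m)} (hU : IsTorus m U) {g : Sz F m}
    (hg : g ∈ Subgroup.normalizer (U : Set (Sz F m))) : g ^ 4 ∈ U := by
  have hfin : Finite (Sz F m) := finite_Sz hF hm
  have key : ∀ hc : Nat.card U = 2 ^ (2 * m + 1) + 2 ^ (m + 1) + 1 ∨
      Nat.card U = 2 ^ (2 * m + 1) - 2 ^ (m + 1) + 1, g ^ 4 ∈ U := by
    intro hc
    obtain ⟨u, hu⟩ : ∃ u : U, u ≠ 1 := by
      haveI : Nontrivial U := Finite.one_lt_card_iff_nontrivial.1 (one_lt_card_torus hm hU)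
      exact exists_ne 1
    have hu1 : (u : Sz F m) ≠ 1 := fun h => hu (Subtype.ext h)
    obtain ⟨hf, hUc⟩ := torus_pm hF hm hU.1 hc u.2 hu1
    have h4 := hf.card_normalizer_eq hF hm
    unfold cOrd at h4
    rw [← hUc] at h4
    exact pow_mem_of_card_normalizer h4 hg
  rcases hU.2 with h | h | h
  · have h2 := sq_mem_torus_dtype hF hm hU.1 h hg
    have : g ^ 4 = (g ^ 2) ^ 2 := by rw [← pow_mul]
    rw [this]
    exact U.pow_mem h2 2
  · exact key (Or.inl h)
  · exact key (Or.inr h)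

include hF hm in
/-- elements of odd order normalising a torus lie in it -/
theorem mem_torus_of_odd {U : Subgroup (Sz F m)} (hU : IsTorus m U) {g : Sz F m}
    (hg : g ∈ Subgroup.normalizer (U : Set (Sz F m))) (hodd : Odd (orderOf g)) : g ∈ U :=
  mem_of_pow_mem_of_coprime (pow_four_mem_torus hF hm hU hg) (coprime_four_of_odd hodd)

include hF hm in
/-- an involution normalising a torus inverts it -/
theorem invol_inverts_torus {U : Subgroup (Sz F m)} (hU : IsTorus m U) {z : Sz F m}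
    (hz : z ∈ Subgroup.normalizer (U : Set (Sz F m))) (hz1 : z ≠ 1) (hz2 : z * z = 1)
    {t : Sz F m} (ht : t ∈ U) : z * t * z⁻¹ = t⁻¹ := by
  have hfin : Finite (Sz F m) := finite_Sz hF hm
  have hzi : z⁻¹ = z := inv_eq_of_mul_eq_one_left hz2
  have hzt : z * t * z⁻¹ ∈ U := (Subgroup.mem_normalizer_iff.1 hz t).1 ht
  set s := t * (z * t * z⁻¹) with hs
  have hsU : s ∈ U := U.mul_mem ht hzt
  have hcomm : t * (z * t * z⁻¹) = (z * t * z⁻¹) * t := by
    have := le_centralizer_of_isCyclic hU.1 ht hzt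
    rw [Subgroup.mem_centralizer_singleton_iff] at this
    exact this.symm
  have hzs : z * s = s * z := by
    rw [hs, hcomm, hzi]
    calc z * (z * t * z * t) = (z * z) * t * z * t := by group
      _ = t * z * t := by rw [hz2, one_mul]
      _ = t * z * t * (z * z) := by rw [hz2, mul_one]
      _ = z * t * z * t * z := by
        rw [hzi] at hcomm
        calc t * z * t * (z * z) = (t * (z * t * z)) * z := by group
          _ = (z * t * z * t) * z := by rw [hcomm]
  by_contra hne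
  have hs1 : s ≠ 1 := by
    intro h
    apply hne
    rw [hs] at h
    exact (eq_inv_of_mul_eq_one_right h)
  have hc := torus_centralizer hF hm hU hsU hs1
  have hzU : z ∈ U := by
    rw [← hc, Subgroup.mem_centralizer_singleton_iff]
    exact hzs
  have ho : orderOf z = 2 := orderOf_eq_prime (by rw [pow_two]; exact hz2) hz1
  have hd : orderOf z ∣ Nat.card U := Subgroup.orderOf_dvd_natCard U hzU
  rw [ho] at hd
  obtain ⟨c, hc'⟩ := odd_card_torus hm hU
  omega

end Cfsg.Agent.Lib.helper3
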