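import Mathlib
import Cfsg.Prelude.Def_LieExceptional
import Cfsg.Agent.Lib.helper3.SuzukiSolD

set_option autoImplicit false

namespace Cfsg.Agent.Lib.helper3

open Cfsg Matrix
open scoped Pointwise

/-! ### Counting helpers -/

theorem natCard_or_add_and {α : Type*} [Finite α] (p q : α → Prop) :
    Nat.card {a // p a ∨ q a} + Nat.card {a // p a ∧ q a} =
      Nat.card {a // p a} + Nat.card {a // q a} := by
  classical
  have : Fintype α := Fintype.ofFinite α
  rw [← card_filter_eq_natCard, ← card_filter_eq_natCard, ← card_filter_eq_natCard,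
    ← card_filter_eq_natCard, Finset.filter_or, Finset.filter_and]
  exact Finset.card_union_add_card_inter _ _

theorem natCard_or_of_disjoint {α : Type*} [Finite α] (p q : α → Prop)
    (h : ∀ a, ¬ (p a ∧ q a)) :
    Nat.card {a // p a ∨ q a} = Nat.card {a // p a} + Nat.card {a // q a} := by
  have h1 := natCard_or_add_and p q
  have h2 : Nat.card {a // p a ∧ q a} = 0 := by
    have : IsEmpty {a // p a ∧ q a} := ⟨fun a => h a.1 a.2⟩
    exact Nat.card_of_isEmpty
  omega

/-! ### Transfer of the solubilizer along isomorphisms -/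

theorem isSolvable_map_equiv_iff {G H : Type*} [Group G] [Group H] (e : G ≃* H)
    (K : Subgroup G) : Group.IsSolvable (K.map e.toMonoidHom) ↔ Group.IsSolvable K := by
  have f := Subgroup.equivMapOfInjective K e.toMonoidHom e.injective
  constructor
  · intro h
    exact Group.isSolvable_of_isSolvable_injective (f := f.toMonoidHom) f.injective
  · intro h
    exact Group.isSolvable_of_surjective (f := f.toMonoidHom) f.surjective

theorem sol_equiv_iff {G H : Type*} [Group G] [Group H] (e : G ≃* H) (x y : G) :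
    Group.IsSolvable (Subgroup.closure ({e x, e y} : Set H)) ↔
      Group.IsSolvable (Subgroup.closure ({x, y} : Set G)) := by
  rw [← isSolvable_map_equiv_iff e, MonoidHom.map_closure]
  have : (e.toMonoidHom : G → H) '' {x, y} = {e x, e y} := by
    rw [Set.image_pair]
    rfl
  rw [this]

theorem card_sol_equiv {G H : Type*} [Group G] [Group H] (e : G ≃* H) (x : G) :
    Nat.card {y : H // Group.IsSolvable (Subgroup.closure ({e x, y} : Set H))} =
      Nat.card {y : G // Group.IsSolvable (Subgroup.closure ({x, y} : Set G))} := by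
  apply Nat.card_congr
  refine (Equiv.subtypeEquiv e.toEquiv ?_).symm
  intro y
  exact (sol_equiv_iff e x y).symm

theorem card_sol_conj {G : Type*} [Group G] (g x : G) :
    Nat.card {y : G // Group.IsSolvable (Subgroup.closure ({g * x * g⁻¹, y} : Set G))} =
      Nat.card {y : G // Group.IsSolvable (Subgroup.closure ({x, y} : Set G))} :=
  card_sol_equiv (MulAut.conj g) x

variable {F : Type*} [Field F] [Fintype F] {m : ℕ} (hF : Fintype.card F = 2 ^ (2 * m + 1))
  (hm : 1 ≤ m)

include hF hm in
theorem Fpf.isTorus_centralizer {x : Sz F m} (hx : Fpf x) :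
    IsTorus m (Subgroup.centralizer ({x} : Set (Sz F m))) := by
  refine ⟨hx.centralizer_isCyclic hF hm, ?_⟩
  have := hx.cOrd_eq hF hm
  unfold cOrd at this
  rcases this with h | h
  · exact Or.inr (Or.inl h)
  · exact Or.inr (Or.inr h)

include hF hm in
/-- the solubilizer of a fixed-point-free element is the normaliser of its centraliser -/
theorem sol_fpf_iff (hp : (2 * m + 1).Prime) {x : Sz F m} (hx : Fpf x) (y : Sz F m) :
    Group.IsSolvable (Subgroup.closure ({x, y} : Set (Sz F m))) ↔
      y ∈ Subgroup.normalizer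
        ((Subgroup.centralizer ({x} : Set (Sz F m)) : Subgroup (Sz F m)) : Set (Sz F m)) := by
  have hfin : Finite (Sz F m) := finite_Sz hF hm
  rw [sol_iff hF hm hp]
  have hxc : x ∈ Subgroup.centralizer ({x} : Set (Sz F m)) :=
    Subgroup.mem_centralizer_singleton_iff.2 rfl
  constructor
  · rintro (⟨p, hxp, _⟩ | ⟨U, hU, hxU, hyU⟩)
    · exact absurd hxp (hx p)
    · have hxU' : x ∈ U := mem_torus_of_odd hF hm hU hxU (hx.odd_order hF hm)
      rw [torus_centralizer hF hm hU hxU' hx.ne_one]
      exact hyU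
  · intro hy
    right
    exact ⟨_, hx.isTorus_centralizer hF hm, Subgroup.le_normalizer hxc, hy⟩

include hF hm in
theorem card_sol_fpf (hp : (2 * m + 1).Prime) {x : Sz F m} (hx : Fpf x) :
    Nat.card {y : Sz F m // Group.IsSolvable (Subgroup.closure ({x, y} : Set (Sz F m)))} =
      4 * cOrd x := by
  rw [← hx.card_normalizer_eq hF hm]
  apply Nat.card_congr
  exact Equiv.subtypeEquivRight (sol_fpf_iff hF hm hp hx)

include hF hm in
theorem card_sol_plus (hp : (2 * m + 1).Prime) {x : Sz F m} (hx1 : x ≠ 1)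
    (ho : orderOf x ∣ 2 ^ (2 * m + 1) + 2 ^ (m + 1) + 1) :
    Nat.card {y : Sz F m // Group.IsSolvable (Subgroup.closure ({x, y} : Set (Sz F m)))} =
      4 * (2 ^ (2 * m + 1) + 2 ^ (m + 1) + 1) := by
  have hfin : Finite (Sz F m) := finite_Sz hF hm
  obtain ⟨hprod, hcop, _, _⟩ := sz_k_arith hm
  have hx : Fpf x := fpf_of_order hF hm hx1 (dvd_trans ho (hprod ▸ Dvd.intro _ rfl))
  rw [card_sol_fpf hF hm hp hx]
  have hd : orderOf x ∣ cOrd x :=
    Subgroup.orderOf_dvd_natCard _ (Subgroup.mem_centralizer_singleton_iff.2 rfl)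
  rcases hx.cOrd_eq hF hm with h | h
  · rw [h]
  · rw [h] at hd
    exact absurd (orderOf_eq_one_of_dvd_coprime ho hd hcop) hx1

include hF hm in
theorem card_sol_minus (hp : (2 * m + 1).Prime) {x : Sz F m} (hx1 : x ≠ 1)
    (ho : orderOf x ∣ 2 ^ (2 * m + 1) - 2 ^ (m + 1) + 1) :
    Nat.card {y : Sz F m // Group.IsSolvable (Subgroup.closure ({x, y} : Set (Sz F m)))} =
      4 * (2 ^ (2 * m + 1) - 2 ^ (m + 1) + 1) := by
  have hfin : Finite (Sz F m) := finite_Sz hF hm
  obtain ⟨hprod, hcop, _, _⟩ := sz_k_arith hm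
  have hx : Fpf x := fpf_of_order hF hm hx1 (dvd_trans ho (hprod ▸ Dvd.intro_left _ rfl))
  rw [card_sol_fpf hF hm hp hx]
  have hd : orderOf x ∣ cOrd x :=
    Subgroup.orderOf_dvd_natCard _ (Subgroup.mem_centralizer_singleton_iff.2 rfl)
  rcases hx.cOrd_eq hF hm with h | h
  · rw [h] at hd
    exact absurd (orderOf_eq_one_of_dvd_coprime hd ho hcop) hx1
  · rw [h]

end Cfsg.Agent.Lib.helper3
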