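import Mathlib
import Cfsg.Prelude.Def_LieExceptional
import Cfsg.Agent.Lib.helper3.SuzukiSolE

set_option autoImplicit false

namespace Cfsg.Agent.Lib.helper3

open Cfsg Matrix
open scoped Pointwise

variable {F : Type*} [Field F] [Fintype F] {m : ℕ} (hF : Fintype.card F = 2 ^ (2 * m + 1))
  (hm : 1 ≤ m)

include hF in
theorem isTorus_gD : IsTorus m ((gDhom hF : Fˣ →* Sz F m).range) := by
  refine ⟨?_, Or.inl (card_gDhom_range hF)⟩
  exact isCyclic_of_surjective (gDhom hF : Fˣ →* Sz F m).rangeRestrict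
    (MonoidHom.rangeRestrict_surjective _)

theorem gJ_mem_normalizer_gD :
    gJ hF ∈ Subgroup.normalizer (((gDhom hF : Fˣ →* Sz F m).range : Subgroup (Sz F m)) :
      Set (Sz F m)) := by
  rw [Subgroup.mem_normalizer_iff]
  intro h
  constructor
  · rintro ⟨k, rfl⟩
    refine ⟨k⁻¹, ?_⟩
    change gD hF k⁻¹ = gJ hF * gD hF k * (gJ hF)⁻¹
    rw [gJ_gD]
    group
  · rintro ⟨k, hk⟩
    refine ⟨k⁻¹, ?_⟩
    change gD hF k = gJ hF * h * (gJ hF)⁻¹ at hk
    change gD hF k⁻¹ = h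
    have : h = (gJ hF)⁻¹ * (gJ hF * h * (gJ hF)⁻¹) * gJ hF := by group
    rw [this, ← hk, gJ_inv, gJ_gD, mul_assoc, gJ_mul_self, mul_one]

include hF hm in
/-- the solubilizer of a nontrivial element of the diagonal torus -/
theorem sol_gD_iff (hp : (2 * m + 1).Prime) {k : Fˣ} (hk : k ≠ 1) (y : Sz F m) :
    Group.IsSolvable (Subgroup.closure ({gD hF k, y} : Set (Sz F m))) ↔
      (y • oInf F m = oInf F m ∨ y • oPt m (0 : F) 0 = oPt m 0 0) ∨
        (y • oInf F m = oPt m (0 : F) 0 ∧ y • oPt m (0 : F) 0 = oInf F m) := by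
  have hfin : Finite (Sz F m) := finite_Sz hF hm
  rw [sol_iff hF hm hp]
  have hxD : gD hF k ∈ (gDhom hF : Fˣ →* Sz F m).range := ⟨k, rfl⟩
  have hx1 : gD hF k ≠ 1 := by
    intro h
    apply hk
    apply gDhom_injective hF
    rw [map_one]
    exact h
  have hodd : Odd (orderOf (gD hF k)) := by
    obtain ⟨hodd1, _, _⟩ := sz_orders_arith m
    exact Odd.of_dvd_nat hodd1 (orderOf_dvd_of_pow_eq_one (gD_pow_card hF k))
  constructor
  · rintro (⟨p, hxp, hyp⟩ | ⟨U, hU, hxU, hyU⟩)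
    · left
      rcases gD_fixed hF hk hxp with rfl | rfl
      · exact Or.inl hyp
      · exact Or.inr hyp
    · have hxU' : gD hF k ∈ U := mem_torus_of_odd hF hm hU hxU hodd
      have hUD : U = (gDhom hF : Fˣ →* Sz F m).range :=
        torus_unique hF hm hU (isTorus_gD hF) hxU' hxD hx1
      rw [hUD] at hyU
      rcases normalizer_gD_cases hF hm hyU with h | h
      · exact Or.inl (Or.inl h.1)
      · exact Or.inr h
  · rintro ((h | h) | ⟨h1, h2⟩)
    · exact Or.inl ⟨_, gD_oInf hF k, h⟩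
    · exact Or.inl ⟨_, gD_oZero hF k, h⟩
    · right
      refine ⟨_, isTorus_gD hF, Subgroup.le_normalizer hxD, ?_⟩
      have f1 : (gJ hF * y) • oInf F m = oInf F m := by rw [mul_smul, h1, gJ_oZero]
      have f2 : (gJ hF * y) • oPt m (0 : F) 0 = oPt m 0 0 := by rw [mul_smul, h2, gJ_oInf]
      obtain ⟨k', hk'⟩ := two_point_stab hF hm f1 f2
      have e : y = gJ hF * gD hF k' := by
        rw [← hk', ← mul_assoc, gJ_mul_self, one_mul]
      rw [e]
      exact Subgroup.mul_mem _ (gJ_mem_normalizer_gD hF) (Subgroup.le_normalizer ⟨k', rfl⟩)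

include hF hm in
theorem card_sol_gD (hp : (2 * m + 1).Prime) {k : Fˣ} (hk : k ≠ 1) :
    Nat.card {y : Sz F m // Group.IsSolvable (Subgroup.closure ({gD hF k, y} : Set (Sz F m)))} =
      2 * (2 ^ (2 * m + 1)) ^ 2 * (2 ^ (2 * m + 1) - 1) := by
  have hfin : Finite (Sz F m) := finite_Sz hF hm
  rw [Nat.card_congr (Equiv.subtypeEquivRight (sol_gD_iff hF hm hp hk))]
  have hne : oPt m (0 : F) 0 ≠ oInf F m := oPt_ne_oInf (m := m) (0 : F) 0
  rw [natCard_or_of_disjoint]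
  swap
  · rintro y ⟨h | h, h1, h2⟩
    · exact hne (h1.symm.trans h)
    · exact hne (h.symm.trans h2)
  have h1 := natCard_or_add_and (fun y : Sz F m => y • oInf F m = oInf F m)
    (fun y : Sz F m => y • oPt m (0 : F) 0 = oPt m 0 0)
  have hA : Nat.card {y : Sz F m // y • oInf F m = oInf F m} =
      (2 ^ (2 * m + 1)) ^ 2 * (2 ^ (2 * m + 1) - 1) := by
    rw [← card_stab_pt hF hm (oInf F m)]
    exact Nat.card_congr (Equiv.subtypeEquivRight (fun y => MulAction.mem_stabilizer_iff.symm))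
  have hB : Nat.card {y : Sz F m // y • oPt m (0 : F) 0 = oPt m 0 0} =
      (2 ^ (2 * m + 1)) ^ 2 * (2 ^ (2 * m + 1) - 1) := by
    rw [← card_stab_pt hF hm (oPt m (0 : F) 0)]
    exact Nat.card_congr (Equiv.subtypeEquivRight (fun y => MulAction.mem_stabilizer_iff.symm))
  have hAB : Nat.card {y : Sz F m // y • oInf F m = oInf F m ∧ y • oPt m (0 : F) 0 = oPt m 0 0} =
      2 ^ (2 * m + 1) - 1 := by
    rw [← card_stab_two hF hm hne.symm]
    apply Nat.card_congr
    apply Equiv.subtypeEquivRight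
    intro y
    rw [Subgroup.mem_inf, MulAction.mem_stabilizer_iff, MulAction.mem_stabilizer_iff]
  have hC : Nat.card {y : Sz F m // y • oInf F m = oPt m (0 : F) 0 ∧
      y • oPt m (0 : F) 0 = oInf F m} = 2 ^ (2 * m + 1) - 1 := by
    rw [← hAB]
    apply Nat.card_congr
    refine Equiv.subtypeEquiv (Equiv.mulLeft (gJ hF)) ?_
    intro y
    simp only [Equiv.coe_mulLeft, mul_smul]
    constructor
    · rintro ⟨h1, h2⟩
      rw [h1, h2]
      exact ⟨gJ_oZero hF, gJ_oInf hF⟩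
    · rintro ⟨h1, h2⟩
      have e1 : y • oInf F m = gJ hF • (gJ hF • (y • oInf F m)) := by
        rw [← mul_smul, gJ_mul_self, one_smul]
      have e2 : y • oPt m (0 : F) 0 = gJ hF • (gJ hF • (y • oPt m (0 : F) 0)) := by
        rw [← mul_smul, gJ_mul_self, one_smul]
      rw [e1, e2, h1, h2]
      exact ⟨gJ_oInf hF, gJ_oZero hF⟩
  rw [hC]
  rw [hA, hB, hAB] at h1
  have : 2 * (2 ^ (2 * m + 1)) ^ 2 * (2 ^ (2 * m + 1) - 1) =
      (2 ^ (2 * m + 1)) ^ 2 * (2 ^ (2 * m + 1) - 1) + (2 ^ (2 * m + 1)) ^ 2 * (2 ^ (2 * m + 1) - 1) := by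
    ring
  rw [this]
  exact h1

include hF hm in
theorem card_sol_dtype (hp : (2 * m + 1).Prime) {x : Sz F m} (hx1 : x ≠ 1)
    (ho : orderOf x ∣ 2 ^ (2 * m + 1) - 1) :
    Nat.card {y : Sz F m // Group.IsSolvable (Subgroup.closure ({x, y} : Set (Sz F m)))} =
      2 * (2 ^ (2 * m + 1)) ^ 2 * (2 ^ (2 * m + 1) - 1) := by
  obtain ⟨w, k, hk, rfl⟩ := dtype_of_order hF hm hx1 ho
  rw [card_sol_conj, card_sol_gD hF hm hp hk]

end Cfsg.Agent.Lib.helper3
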