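import Mathlib
import Cfsg.Prelude.Def_LieExceptional
import Cfsg.Agent.Lib.helper3.SuzukiSolF

set_option autoImplicit false

namespace Cfsg.Agent.Lib.helper3

open Cfsg Matrix
open scoped Pointwise

variable {F : Type*} [Field F] [Fintype F] {m : ℕ} (hF : Fintype.card F = 2 ^ (2 * m + 1))
  (hm : 1 ≤ m)

/-- the normaliser of the centraliser of an element -/
abbrev NC (w : Sz F m) : Subgroup (Sz F m) :=
  Subgroup.normalizer
    ((Subgroup.centralizer ({w} : Set (Sz F m)) : Subgroup (Sz F m)) : Set (Sz F m))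

include hF hm in
/-- the product of two involutions normalising a torus lies in the torus -/
theorem invol_mul_mem_torus {U : Subgroup (Sz F m)} (hU : IsTorus m U) {a b : Sz F m}
    (ha : a ∈ Subgroup.normalizer (U : Set (Sz F m))) (ha1 : a ≠ 1) (ha2 : a * a = 1)
    (hb : b ∈ Subgroup.normalizer (U : Set (Sz F m))) (hb1 : b ≠ 1) (hb2 : b * b = 1) :
    a * b ∈ U := by
  have hfin : Finite (Sz F m) := finite_Sz hF hm
  obtain ⟨u, hu⟩ : ∃ u : U, u ≠ 1 := by
    haveI : Nontrivial U := Finite.one_lt_card_iff_nontrivial.1 (one_lt_card_torus hm hU)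
    exact exists_ne 1
  have hu1 : (u : Sz F m) ≠ 1 := fun h => hu (Subtype.ext h)
  have h1 := invol_inverts_torus hF hm hU hb hb1 hb2 u.2
  have h2 := invol_inverts_torus hF hm hU ha ha1 ha2 (U.inv_mem u.2)
  rw [← torus_centralizer hF hm hU u.2 hu1, Subgroup.mem_centralizer_singleton_iff]
  have e : a * b * (u : Sz F m) * (a * b)⁻¹ = u := by
    calc a * b * (u : Sz F m) * (a * b)⁻¹ = a * (b * u * b⁻¹) * a⁻¹ := by group
      _ = a * (u : Sz F m)⁻¹ * a⁻¹ := by rw [h1]
      _ = ((u : Sz F m)⁻¹)⁻¹ := h2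
      _ = u := inv_inv _
  calc a * b * (u : Sz F m) = (a * b * (u : Sz F m) * (a * b)⁻¹) * (a * b) := by group
    _ = (u : Sz F m) * (a * b) := by rw [e]

include hF hm in
/-- the normaliser of a torus of order `q ± r + 1` contains an element of order four -/
theorem Fpf.exists_order_four {w : Sz F m} (hw : Fpf w) :
    ∃ f ∈ NC w, f * f ≠ 1 ∧ (f * f) * (f * f) = 1 := by
  classical
  have hfin : Finite (Sz F m) := finite_Sz hF hm
  haveI : Fact (Nat.Prime 2) := ⟨Nat.prime_two⟩
  have hT := hw.isTorus_centralizer hF hm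
  have hcard := hw.card_normalizer_eq hF hm
  have hdvd : 2 ^ 2 ∣ Nat.card (NC w) := by
    rw [hcard]
    exact Dvd.intro _ rfl
  obtain ⟨S, hS⟩ := Sylow.exists_subgroup_card_pow_prime 2 hdvd
  have : Fintype S := Fintype.ofFinite _
  have h3 : 2 < Fintype.card S := by
    rw [← Nat.card_eq_fintype_card, hS]
    norm_num
  have hpow : ∀ s : S, s ^ 4 = 1 := by
    intro s
    have := pow_card_eq_one' (G := S) (x := s)
    rwa [hS] at this
  by_contra hcon
  push Not at hcon
  -- every element of `S` squares to the identity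
  have hsq : ∀ s : S, ((s : NC w) : Sz F m) * ((s : NC w) : Sz F m) = 1 := by
    intro s
    by_contra hne
    apply hne
    have h4 := hpow s
    have h5 : (((s : NC w) : Sz F m)) ^ 4 = 1 := by
      have := congrArg (fun t : S => ((t : NC w) : Sz F m)) h4
      simpa using this
    have := hcon _ (s : NC w).2 hne
    apply absurd _ this
    calc ((s : NC w) : Sz F m) * (s : NC w) * (((s : NC w) : Sz F m) * (s : NC w))
        = (((s : NC w) : Sz F m)) ^ 4 := by
          rw [pow_succ, pow_succ, pow_succ, pow_one]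
          group
      _ = 1 := h5
  -- two distinct nonidentity elements
  obtain ⟨a, b, ha1, hb1, hab⟩ : ∃ a b : S, a ≠ 1 ∧ b ≠ 1 ∧ a ≠ b := by
    obtain ⟨a, b, c, hab, hac, hbc⟩ := Fintype.two_lt_card_iff.1 h3
    by_cases ha : a = 1
    · subst ha
      exact ⟨b, c, fun h => hab h.symm, fun h => hac h.symm, hbc⟩
    · by_cases hb : b = 1
      · subst hb
        exact ⟨a, c, ha, fun h => hbc h.symm, hac⟩
      · exact ⟨a, b, ha, hb, hab⟩
  have ha1' : ((a : NC w) : Sz F m) ≠ 1 := fun h => ha1 (Subtype.ext (Subtype.ext h))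
  have hb1' : ((b : NC w) : Sz F m) ≠ 1 := fun h => hb1 (Subtype.ext (Subtype.ext h))
  have hmem := invol_mul_mem_torus hF hm hT (a : NC w).2 ha1' (hsq a) (b : NC w).2 hb1' (hsq b)
  have hab2 := hsq (a * b)
  have hab2' : (((a : NC w) : Sz F m) * (b : NC w)) ^ 2 = 1 := by
    rw [pow_two]
    exact hab2
  have hodd : Odd (orderOf (((a : NC w) : Sz F m) * (b : NC w))) :=
    Odd.of_dvd_nat (odd_card_torus hm hT) (Subgroup.orderOf_dvd_natCard _ hmem)
  have hd : orderOf (((a : NC w) : Sz F m) * (b : NC w)) ∣ 2 := orderOf_dvd_of_pow_eq_one hab2'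
  have h1 : ((a : NC w) : Sz F m) * (b : NC w) = 1 := by
    rw [← orderOf_eq_one_iff]
    rcases (Nat.dvd_prime Nat.prime_two).1 hd with h | h
    · exact h
    · rw [h] at hodd
      exact absurd hodd (by decide)
  apply hab
  apply Subtype.ext
  apply Subtype.ext
  have hb' := hsq b
  calc ((a : NC w) : Sz F m) = (a : NC w) * ((b : NC w) * (b : NC w)) := by rw [hb', mul_one]
    _ = ((a : NC w) * (b : NC w)) * (b : NC w) := by group
    _ = (b : NC w) := by rw [h1, one_mul]


include hF hm in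
/-- every involution of the normaliser of a torus of order `q ± r + 1` is a square there -/
theorem Fpf.exists_sqrt {w : Sz F m} (hw : Fpf w) {z : Sz F m} (hz1 : z ≠ 1) (hz2 : z * z = 1)
    (hzN : z ∈ NC w) : ∃ y₀ ∈ NC w, y₀ * y₀ = z := by
  have hfin : Finite (Sz F m) := finite_Sz hF hm
  have hT := hw.isTorus_centralizer hF hm
  obtain ⟨f, hfN, hf1, hf2⟩ := hw.exists_order_four hF hm
  set z₀ := f * f with hz₀
  have hz₀N : z₀ ∈ NC w := Subgroup.mul_mem _ hfN hfN
  have ht' := invol_mul_mem_torus hF hm hT hzN hz1 hz2 hz₀N hf1 hf2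
  set t' := z * z₀ with ht'def
  have hodd : Odd (orderOf t') :=
    Odd.of_dvd_nat (odd_card_torus hm hT) (Subgroup.orderOf_dvd_natCard _ ht')
  obtain ⟨j, hj⟩ := exists_pow_eq_self_of_coprime (Nat.coprime_two_left.2 hodd)
  set s := t' ^ j with hs
  have hsT : s ∈ Subgroup.centralizer ({w} : Set (Sz F m)) := Subgroup.pow_mem _ ht' j
  have hss : s * s = t' := by
    rw [hs, ← pow_add, ← two_mul, pow_mul]
    exact hj
  have hsN : s ∈ NC w := Subgroup.le_normalizer hsT
  refine ⟨s * f * s⁻¹, Subgroup.mul_mem _ (Subgroup.mul_mem _ hsN hfN) (Subgroup.inv_mem _ hsN), ?_⟩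
  have hinv := invol_inverts_torus hF hm hT hz₀N hf1 hf2 (Subgroup.inv_mem _ hsT)
  rw [inv_inv] at hinv
  have hz₀i : z₀⁻¹ = z₀ := inv_eq_of_mul_eq_one_left hf2
  have e1 : z₀ * s⁻¹ = s * z₀ := by
    calc z₀ * s⁻¹ = (z₀ * s⁻¹ * z₀⁻¹) * z₀ := by group
      _ = s * z₀ := by rw [hinv]
  calc s * f * s⁻¹ * (s * f * s⁻¹) = s * (f * f) * s⁻¹ := by group
    _ = s * (z₀ * s⁻¹) := by rw [← hz₀]; group
    _ = s * (s * z₀) := by rw [e1]
    _ = (s * s) * z₀ := by group
    _ = z * (z₀ * z₀) := by rw [hss, ht'def]; group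
    _ = z := by rw [hf2, mul_one]

include hF hm in
/-- an involution of the normaliser of a torus of order `q ± r + 1` has exactly two square roots
in that normaliser -/
theorem Fpf.card_sqrt {w : Sz F m} (hw : Fpf w) {z : Sz F m} (hz1 : z ≠ 1) (hz2 : z * z = 1)
    (hzN : z ∈ NC w) : Nat.card {y : Sz F m // y ∈ NC w ∧ y * y = z} = 2 := by
  classical
  have hfin : Finite (Sz F m) := finite_Sz hF hm
  have hT := hw.isTorus_centralizer hF hm
  set T := Subgroup.centralizer ({w} : Set (Sz F m)) with hTdef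
  obtain ⟨y₀, hy₀N, hy₀⟩ := hw.exists_sqrt hF hm hz1 hz2 hzN
  set A : Subgroup (Sz F m) := NC w ⊓ Subgroup.centralizer ({z} : Set (Sz F m)) with hA
  have hdisj : Disjoint A T := by
    rw [Subgroup.disjoint_def]
    intro x hxA hxT
    have hc : z * x = x * z := (Subgroup.mem_centralizer_singleton_iff.1 hxA.2).symm
    have hinv := invol_inverts_torus hF hm hT hzN hz1 hz2 hxT
    have hx2 : x * x = 1 := by
      have : z * x * z⁻¹ = x := by rw [hc]; group
      rw [this] at hinv
      calc x * x = x * x⁻¹ := by rw [← hinv]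
        _ = 1 := mul_inv_cancel x
    have hodd : Odd (orderOf x) :=
      Odd.of_dvd_nat (odd_card_torus hm hT) (Subgroup.orderOf_dvd_natCard _ hxT)
    have hd : orderOf x ∣ 2 := orderOf_dvd_of_pow_eq_one (by rw [pow_two]; exact hx2)
    rw [← orderOf_eq_one_iff]
    rcases (Nat.dvd_prime Nat.prime_two).1 hd with h | h
    · exact h
    · rw [h] at hodd
      exact absurd hodd (by decide)
  have hcardA : Nat.card A ≤ 4 := by
    let φ : A × T → NC w := fun p =>
      ⟨(p.1 : Sz F m) * (p.2 : Sz F m),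
        Subgroup.mul_mem _ p.1.2.1 (Subgroup.le_normalizer p.2.2)⟩
    have hφ : Function.Injective φ := by
      intro p q hpq
      apply Subgroup.mul_injective_of_disjoint hdisj
      exact congrArg Subtype.val hpq
    have h1 := Nat.card_le_card_of_injective φ hφ
    rw [Nat.card_prod, hw.card_normalizer_eq hF hm] at h1
    unfold cOrd at h1
    have hpos : 0 < Nat.card T := Nat.card_pos
    exact Nat.le_of_mul_le_mul_right h1 hpos
  have hy₀4 : y₀ ^ 2 ^ (1 + 1) = 1 := by
    have : y₀ ^ 2 ^ (1 + 1) = (y₀ * y₀) * (y₀ * y₀) := by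
      norm_num
      rw [pow_succ, pow_succ, pow_succ, pow_one]
      group
    rw [this, hy₀, hz2]
  have hord : orderOf y₀ = 2 ^ (1 + 1) := by
    haveI : Fact (Nat.Prime 2) := ⟨Nat.prime_two⟩
    apply orderOf_eq_prime_pow _ hy₀4
    rw [pow_one, pow_two, hy₀]
    exact hz1
  have hy₀A : y₀ ∈ A := by
    refine ⟨hy₀N, ?_⟩
    apply Subgroup.mem_centralizer_singleton_iff.2
    rw [← hy₀]
    group
  have hzp : Subgroup.zpowers y₀ = A := by
    apply Subgroup.eq_of_le_of_card_ge
    · rw [Subgroup.zpowers_le]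
      exact hy₀A
    · rw [Nat.card_zpowers, hord]
      exact hcardA
  have hy₀i : y₀⁻¹ * y₀⁻¹ = z := by
    have : y₀⁻¹ * y₀⁻¹ = (y₀ * y₀)⁻¹ := by group
    rw [this, hy₀]
    exact inv_eq_of_mul_eq_one_left hz2
  have hkey : ∀ y : Sz F m, y ∈ NC w → y * y = z → y = y₀ ∨ y = y₀⁻¹ := by
    intro y hyN hy
    have hyA : y ∈ A := by
      refine ⟨hyN, ?_⟩
      apply Subgroup.mem_centralizer_singleton_iff.2
      rw [← hy]
      group
    rw [← hzp, mem_zpowers_iff_mem_range_orderOf, hord] at hyA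
    obtain ⟨j, hj, rfl⟩ := Finset.mem_image.1 hyA
    rw [Finset.mem_range] at hj
    have hj' : j < 4 := by norm_num at hj; exact hj
    interval_cases j
    · exfalso
      rw [pow_zero, one_mul] at hy
      exact hz1 hy.symm
    · left; exact pow_one _
    · exfalso
      have : y₀ ^ 2 = z := by rw [pow_two]; exact hy₀
      rw [this, hz2] at hy
      exact hz1 hy.symm
    · right
      have h4 : y₀ ^ 4 = 1 := by
        have := hy₀4
        norm_num at this
        exact this
      have : y₀ ^ 3 * y₀ = 1 := by rw [← pow_succ]; exact h4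
      exact eq_inv_of_mul_eq_one_left this
  rw [Nat.card_eq_two_iff]
  refine ⟨⟨y₀, hy₀N, hy₀⟩, ⟨y₀⁻¹, Subgroup.inv_mem _ hy₀N, hy₀i⟩, ?_, ?_⟩
  · intro h
    have h1 : y₀ = y₀⁻¹ := congrArg Subtype.val h
    apply hz1
    rw [← hy₀]
    calc y₀ * y₀ = y₀ * y₀⁻¹ := by rw [← h1]
      _ = 1 := mul_inv_cancel _
  · ext y
    simp only [Set.mem_insert_iff, Set.mem_singleton_iff, Set.mem_univ, iff_true]
    rcases hkey y.1 y.2.1 y.2.2 with h | h
    · left; exact Subtype.ext h
    · right; exact Subtype.ext h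

end Cfsg.Agent.Lib.helper3
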