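import Mathlib
import Cfsg.Prelude.Def_LieExceptional
import Cfsg.Agent.Lib.helper3.SuzukiSolG

set_option autoImplicit false

namespace Cfsg.Agent.Lib.helper3

open Cfsg Matrix
open scoped Pointwise

variable {F : Type*} [Field F] [Fintype F] {m : ℕ} (hF : Fintype.card F = 2 ^ (2 * m + 1))
  (hm : 1 ≤ m)

include hF in
theorem finite_ovoid : Finite (suzukiOvoid F m) := by
  apply Nat.finite_of_card_ne_zero
  rw [card_ovoid hF]
  positivity

include hF hm in
/-- the product of two involutions with distinct fixed points has odd order -/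
theorem odd_order_invol_mul {u u' : Sz F m}
    (hu1 : u ≠ 1) (hu2 : u * u = 1) (hu'1 : u' ≠ 1) (hu'2 : u' * u' = 1)
    {p p' : suzukiOvoid F m} (hp : u • p = p) (hp' : u' • p' = p') (hne : p ≠ p') :
    Odd (orderOf (u * u')) := by
  have hfin : Finite (Sz F m) := finite_Sz hF hm
  have hui : u⁻¹ = u := inv_eq_of_mul_eq_one_left hu2
  have hu'i : u'⁻¹ = u' := inv_eq_of_mul_eq_one_left hu'2
  set v := u * u' with hv
  have hvi : v⁻¹ = u' * u := by rw [hv, _root_.mul_inv_rev, hui, hu'i]
  have hconj : u * v * u⁻¹ = v⁻¹ := by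
    rw [hvi, hui, hv]
    calc u * (u * u') * u = (u * u) * u' * u := by group
      _ = u' * u := by rw [hu2, one_mul]
  have hconj' : u' * v * u'⁻¹ = v⁻¹ := by
    rw [hvi, hu'i, hv]
    calc u' * (u * u') * u' = u' * u * (u' * u') := by group
      _ = u' * u := by rw [hu'2, mul_one]
  have hpow : ∀ j : ℕ, u * v ^ j * u⁻¹ = (v ^ j)⁻¹ := by
    intro j
    rw [← conj_pow, hconj, inv_pow]
  have hpow' : ∀ j : ℕ, u' * v ^ j * u'⁻¹ = (v ^ j)⁻¹ := by
    intro j
    rw [← conj_pow, hconj', inv_pow]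
  have hn : 0 < orderOf v := orderOf_pos v
  rcases Nat.even_or_odd' (orderOf v) with ⟨l, hl | hl⟩
  · exfalso
    have hl0 : 0 < l := by omega
    set z := v ^ l with hz
    have hz1 : z ≠ 1 := pow_ne_one_of_lt_orderOf hl0.ne' (by omega)
    have hz2 : z * z = 1 := by
      rw [hz, ← pow_add, ← two_mul, ← hl, pow_orderOf_eq_one]
    have hzi : z⁻¹ = z := inv_eq_of_mul_eq_one_left hz2
    have hc : u * z = z * u := by
      have := hpow l
      rw [← hz, hzi] at this
      calc u * z = (u * z * u⁻¹) * u := by group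
        _ = z * u := by rw [this]
    have hc' : u' * z = z * u' := by
      have := hpow' l
      rw [← hz, hzi] at this
      calc u' * z = (u' * z * u'⁻¹) * u' := by group
        _ = z * u' := by rw [this]
    have hzp : z • p = p := by
      apply invol_fixed_eq hF hm hu1 hu2 _ hp
      rw [← mul_smul, hc, mul_smul, hp]
    have hzp' : z • p' = p' := by
      apply invol_fixed_eq hF hm hu'1 hu'2 _ hp'
      rw [← mul_smul, hc', mul_smul, hp']
    exact hne (invol_fixed_eq hF hm hz1 hz2 hzp hzp')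
  · exact ⟨l, hl⟩

include hF hm in
/-- two-point stabilisers are tori -/
theorem stab_two_eq_torusConj {a b : suzukiOvoid F m} (hab : a ≠ b) :
    ∃ w : Sz F m, MulAction.stabilizer (Sz F m) a ⊓ MulAction.stabilizer (Sz F m) b =
      torusConj hF w ∧ a = w • oInf F m ∧ b = w • oPt m (0 : F) 0 := by
  obtain ⟨u, hu, hua, hub⟩ := sz_move_pair hF a.2 b.2 (fun h => hab (Subtype.ext h))
  set g : Sz F m := ⟨u, hu⟩ with hg
  have ha : a = g⁻¹ • oInf F m := by
    rw [eq_inv_smul_iff]
    exact Subtype.ext hua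
  have hb : b = g⁻¹ • oPt m 0 0 := by
    rw [eq_inv_smul_iff]
    exact Subtype.ext hub
  refine ⟨g⁻¹, ?_, ha, hb⟩
  rw [ha, hb, MulAction.stabilizer_smul_eq_stabilizer_map_conj,
    MulAction.stabilizer_smul_eq_stabilizer_map_conj,
    ← Subgroup.map_inf _ _ _ (MulAut.conj g⁻¹).injective]
  unfold torusConj
  congr 1
  ext c
  rw [Subgroup.mem_inf, MulAction.mem_stabilizer_iff, MulAction.mem_stabilizer_iff]
  constructor
  · rintro ⟨h1, h0⟩
    obtain ⟨k', hk'⟩ := two_point_stab hF hm h1 h0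
    exact ⟨k', hk'.symm⟩
  · rintro ⟨k, rfl⟩
    exact ⟨gD_oInf hF k, gD_oZero hF k⟩

include hF hm in
theorem isTorus_stab_two {a b : suzukiOvoid F m} (hab : a ≠ b) :
    IsTorus m (MulAction.stabilizer (Sz F m) a ⊓ MulAction.stabilizer (Sz F m) b) := by
  obtain ⟨w, hw, _, _⟩ := stab_two_eq_torusConj hF hm hab
  rw [hw]
  exact ⟨isCyclic_torusConj hF w, Or.inl (card_torusConj hF w)⟩

include hF hm in
/-- a nonidentity element fixing two distinct points fixes no further point -/
theorem fixed_of_two {y : Sz F m} (hy1 : y ≠ 1) {a b c : suzukiOvoid F m} (hab : a ≠ b)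
    (ha : y • a = a) (hb : y • b = b) (hc : y • c = c) : c = a ∨ c = b := by
  by_contra hcon
  push Not at hcon
  apply hy1
  apply Subtype.ext
  exact sz_three_fixed hm hF y.2 a.2 b.2 c.2 (fun h => hab (Subtype.ext h))
    (fun h => hcon.2 (Subtype.ext h).symm) (fun h => hcon.1 (Subtype.ext h).symm)
    (congrArg Subtype.val ha) (congrArg Subtype.val hb) (congrArg Subtype.val hc)

include hF hm in
/-- elements of odd order with a fixed point have order dividing `q - 1` and two fixed points -/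
theorem two_fixed_of_odd {y : Sz F m} (hy1 : y ≠ 1) (hodd : Odd (orderOf y))
    {a : suzukiOvoid F m} (ha : y • a = a) :
    orderOf y ∣ 2 ^ (2 * m + 1) - 1 ∧ ∃ b : suzukiOvoid F m, b ≠ a ∧ y • b = b := by
  rcases elt_type hF hm hy1 with ⟨h4, _⟩ | ⟨h1, w, k, hk, rfl⟩ | ⟨_, hf⟩
  · exact absurd (orderOf_eq_one_of_dvd_coprime h4 dvd_rfl (coprime_four_of_odd hodd)) hy1
  · refine ⟨h1, ?_⟩
    have f1 : (w * gD hF k * w⁻¹) • (w • oInf F m) = w • oInf F m := by
      rw [mul_smul, mul_smul, inv_smul_smul, gD_oInf]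
    have f2 : (w * gD hF k * w⁻¹) • (w • oPt m (0 : F) 0) = w • oPt m (0 : F) 0 := by
      rw [mul_smul, mul_smul, inv_smul_smul, gD_oZero]
    have hne : w • oInf F m ≠ w • oPt m (0 : F) 0 := fun h =>
      (oPt_ne_oInf (m := m) (0 : F) 0) (MulAction.injective w h).symm
    by_cases h : a = w • oInf F m
    · exact ⟨_, fun h' => hne (h.symm ▸ h'.symm), f2⟩
    · exact ⟨_, fun h' => h h'.symm, f1⟩
  · exact absurd ha (hf a)

include hF hm in
/-- the involutions fixing a given point -/
theorem card_invol_fix (a : suzukiOvoid F m) :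
    Nat.card {z : Sz F m // z ≠ 1 ∧ z * z = 1 ∧ z • a = a} = 2 ^ (2 * m + 1) - 1 := by
  have hfin : Finite (Sz F m) := finite_Sz hF hm
  obtain ⟨h, rfl⟩ := ovoid_eq_smul_inf hF a
  have e1 : Nat.card {z : Sz F m // z ≠ 1 ∧ z * z = 1 ∧ z • (h • oInf F m) = h • oInf F m} =
      Nat.card {z : Sz F m // z ≠ 1 ∧ z * z = 1 ∧ z • oInf F m = oInf F m} := by
    apply Nat.card_congr
    refine Equiv.subtypeEquiv (MulAut.conj h⁻¹).toEquiv ?_
    intro z
    simp only [MulEquiv.toEquiv_eq_coe, MulEquiv.coe_toEquiv, MulAut.conj_apply, inv_inv]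
    constructor
    · rintro ⟨h1, h2, h3⟩
      refine ⟨?_, ?_, ?_⟩
      · intro hc
        apply h1
        calc z = h * (h⁻¹ * z * h) * h⁻¹ := by group
          _ = 1 := by rw [hc]; group
      · calc h⁻¹ * z * h * (h⁻¹ * z * h) = h⁻¹ * (z * z) * h := by group
          _ = 1 := by rw [h2]; group
      · rw [mul_smul, mul_smul, h3, inv_smul_smul]
    · rintro ⟨h1, h2, h3⟩
      refine ⟨?_, ?_, ?_⟩
      · rintro rfl
        apply h1
        group
      · calc z * z = h * (h⁻¹ * z * h * (h⁻¹ * z * h)) * h⁻¹ := by group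
          _ = 1 := by rw [h2]; group
      · rw [mul_smul, mul_smul, inv_smul_eq_iff] at h3
        exact h3
  rw [e1]
  have h2 := sz_two hF
  have e2 : {z : Sz F m // z ≠ 1 ∧ z * z = 1 ∧ z • oInf F m = oInf F m} ≃ {b : F // b ≠ 0} :=
    (Equiv.ofBijective (fun b : {b : F // b ≠ 0} =>
      (⟨gT hF 0 b.1, by
        refine ⟨?_, ?_, gT_oInf hF 0 b.1⟩
        · intro hc
          rw [← gT_zero hF] at hc
          exact b.2 (gT_injective hF hc).2
        · rw [gT_mul, szθ_zero, zero_mul, add_zero, add_zero, ← two_mul, h2, zero_mul,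
            gT_zero]⟩ :
        {z : Sz F m // z ≠ 1 ∧ z * z = 1 ∧ z • oInf F m = oInf F m})) (by
      constructor
      · intro b b' hbb
        have := congrArg Subtype.val hbb
        exact Subtype.ext (gT_injective hF this).2
      · rintro ⟨z, hz1, hz2, hz3⟩
        obtain ⟨b, hb, rfl⟩ := invol_fix_inf hF hm hz1 hz2 hz3
        exact ⟨⟨b, hb⟩, rfl⟩)).symm
  rw [Nat.card_congr e2]
  classical
  rw [Nat.card_eq_fintype_card, Fintype.card_subtype_compl, Fintype.card_subtype_eq, hF]

end Cfsg.Agent.Lib.helper3
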