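import Mathlib
import Cfsg.Prelude.Def_LieExceptional
import Cfsg.Agent.Lib.helper3.SuzukiSolH

set_option autoImplicit false

namespace Cfsg.Agent.Lib.helper3

open Cfsg Matrix
open scoped Pointwise

/-- double counting, for cardinalities of subtypes -/
theorem double_count_natCard {α β : Type*} [Finite α] [Finite β] (P : α → Prop) (Q : β → Prop)
    (r : α → β → Prop) (c d : ℕ)
    (h1 : ∀ a, P a → Nat.card {b // Q b ∧ r a b} = c)
    (h2 : ∀ b, Q b → Nat.card {a // P a ∧ r a b} = d) :
    Nat.card {a // P a} * c = Nat.card {b // Q b} * d := by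
  classical
  have : Fintype α := Fintype.ofFinite α
  have : Fintype β := Fintype.ofFinite β
  have key := Finset.sum_card_bipartiteAbove_eq_sum_card_bipartiteBelow
    (s := Finset.univ.filter P) (t := Finset.univ.filter Q) r
  have e1 : ∀ a ∈ Finset.univ.filter P, ((Finset.univ.filter Q).bipartiteAbove r a).card = c := by
    intro a ha
    rw [Finset.mem_filter] at ha
    rw [← h1 a ha.2, ← card_filter_eq_natCard]
    congr 1
    ext b
    simp [Finset.mem_bipartiteAbove]
  have e2 : ∀ b ∈ Finset.univ.filter Q, ((Finset.univ.filter P).bipartiteBelow r b).card = d := by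
    intro b hb
    rw [Finset.mem_filter] at hb
    rw [← h2 b hb.2, ← card_filter_eq_natCard]
    congr 1
    ext a
    simp [Finset.mem_bipartiteBelow]
  rw [Finset.sum_congr rfl e1, Finset.sum_congr rfl e2, Finset.sum_const, Finset.sum_const,
    smul_eq_mul, smul_eq_mul, card_filter_eq_natCard, card_filter_eq_natCard] at key
  exact key

theorem card_ne_one_subgroup {G : Type*} [Group G] [Finite G] (H : Subgroup G) :
    Nat.card {y : G // y ∈ H ∧ y ≠ 1} = Nat.card H - 1 := by
  classical
  have e : {y : G // y ∈ H ∧ y ≠ 1} ≃ {y : H // y ≠ 1} :=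
    { toFun := fun y => ⟨⟨y.1, y.2.1⟩, fun h => y.2.2 (congrArg Subtype.val h)⟩
      invFun := fun y => ⟨y.1.1, y.1.2, fun h => y.2 (Subtype.ext h)⟩
      left_inv := fun _ => rfl
      right_inv := fun _ => rfl }
  rw [Nat.card_congr e]
  have : Fintype H := Fintype.ofFinite H
  rw [Nat.card_eq_fintype_card, Fintype.card_subtype_compl, Fintype.card_subtype_eq,
    Nat.card_eq_fintype_card]

theorem card_ne_point {α : Type*} [Finite α] (p : α) :
    Nat.card {a : α // a ≠ p} = Nat.card α - 1 := by
  classical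
  have : Fintype α := Fintype.ofFinite α
  rw [Nat.card_eq_fintype_card, Fintype.card_subtype_compl, Fintype.card_subtype_eq,
    Nat.card_eq_fintype_card]

variable {F : Type*} [Field F] [Fintype F] {m : ℕ} (hF : Fintype.card F = 2 ^ (2 * m + 1))
  (hm : 1 ≤ m)

include hF hm in
/-- the involutions not fixing a given point -/
theorem card_invol_not_fix (p : suzukiOvoid F m) :
    Nat.card {z : Sz F m // z ≠ 1 ∧ z * z = 1 ∧ z • p ≠ p} =
      (2 ^ (2 * m + 1)) ^ 2 * (2 ^ (2 * m + 1) - 1) := by
  have hfin : Finite (Sz F m) := finite_Sz hF hm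
  have hfinΩ : Finite (suzukiOvoid F m) := finite_ovoid hF
  have key := double_count_natCard (fun z : Sz F m => z ≠ 1 ∧ z * z = 1 ∧ z • p ≠ p)
    (fun a : suzukiOvoid F m => a ≠ p) (fun z a => z • a = a) 1 (2 ^ (2 * m + 1) - 1) ?_ ?_
  · rw [mul_one, card_ne_point, card_ovoid hF, Nat.add_sub_cancel] at key
    exact key
  · rintro z ⟨hz1, hz2, hzp⟩
    obtain ⟨a, ha, hau⟩ := invol_fixed_unique hF hm hz1 hz2
    rw [Nat.card_eq_one_iff_exists]
    refine ⟨⟨a, fun h => hzp (h ▸ ha), ha⟩, ?_⟩
    rintro ⟨b, _, hb⟩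
    exact Subtype.ext (hau b hb)
  · intro a ha
    rw [← card_invol_fix hF hm a]
    apply Nat.card_congr
    apply Equiv.subtypeEquivRight
    intro z
    constructor
    · rintro ⟨⟨h1, h2, _⟩, h3⟩
      exact ⟨h1, h2, h3⟩
    · rintro ⟨h1, h2, h3⟩
      exact ⟨⟨h1, h2, fun h => ha (invol_fixed_eq hF hm h1 h2 h3 h)⟩, h3⟩

include hF hm in
/-- a nonidentity element of odd order inverted by an involution does not fix its fixed point -/
theorem inverted_odd_not_fix {x : Sz F m} (hx1 : x ≠ 1) (hx2 : x * x = 1)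
    {p : suzukiOvoid F m} (hp : x • p = p) {y : Sz F m} (hy1 : y ≠ 1)
    (hodd : Odd (orderOf y)) (hinv : x * y * x⁻¹ = y⁻¹) : y • p ≠ p := by
  intro hyp
  obtain ⟨_, b, hbp, hyb⟩ := two_fixed_of_odd hF hm hy1 hodd hyp
  have hxi : x⁻¹ = x := inv_eq_of_mul_eq_one_left hx2
  have hyib : y⁻¹ • b = b := by rw [inv_smul_eq_iff, hyb]
  have hxb : y • (x • b) = x • b := by
    have e : y * x = x * y⁻¹ := by
      rw [← hinv, hxi]
      calc y * x = (x * x) * y * x := by rw [hx2, one_mul]
        _ = x * (x * y * x) := by group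
    rw [← mul_smul, e, mul_smul, hyib]
  rcases fixed_of_two hF hm hy1 (Ne.symm hbp) hyp hyb hxb with h | h
  · apply hbp
    have : x • b = x • p := by rw [h, hp]
    exact MulAction.injective x this
  · exact hbp (invol_fixed_eq hF hm hx1 hx2 h hp)

include hF hm in
/-- the elements of odd order inverted by an involution correspond to the involutions with a
different fixed point -/
theorem card_inverted_odd {x : Sz F m} (hx1 : x ≠ 1) (hx2 : x * x = 1)
    {p : suzukiOvoid F m} (hp : x • p = p) :
    Nat.card {y : Sz F m // y ≠ 1 ∧ Odd (orderOf y) ∧ x * y * x⁻¹ = y⁻¹} =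
      (2 ^ (2 * m + 1)) ^ 2 * (2 ^ (2 * m + 1) - 1) := by
  have hfin : Finite (Sz F m) := finite_Sz hF hm
  rw [← card_invol_not_fix hF hm p]
  have hxi : x⁻¹ = x := inv_eq_of_mul_eq_one_left hx2
  apply Nat.card_congr
  refine Equiv.subtypeEquiv (Equiv.mulLeft x) ?_
  intro y
  simp only [Equiv.coe_mulLeft]
  constructor
  · rintro ⟨hy1, hodd, hinv⟩
    have hnf := inverted_odd_not_fix hF hm hx1 hx2 hp hy1 hodd hinv
    refine ⟨?_, ?_, ?_⟩
    · intro h
      have hy : y = x := by
        calc y = x⁻¹ * (x * y) := by group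
          _ = x := by rw [h, mul_one, hxi]
      have ho : orderOf x = 2 := orderOf_eq_prime (by rw [pow_two]; exact hx2) hx1
      rw [hy, ho] at hodd
      exact absurd hodd (by decide)
    · calc x * y * (x * y) = (x * y * x⁻¹) * y := by rw [hxi]; group
        _ = 1 := by rw [hinv, inv_mul_cancel]
    · intro h
      apply hnf
      have : y = x * (x * y) := by
        calc y = (x * x) * y := by rw [hx2, one_mul]
          _ = x * (x * y) := by group
      rw [this, mul_smul, h, hp]
  · rintro ⟨hz1, hz2, hzp⟩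
    obtain ⟨p', hp', _⟩ := invol_fixed_unique hF hm hz1 hz2
    have hne : p ≠ p' := fun h => hzp (h ▸ hp')
    have hy : y = x * (x * y) := by
      calc y = (x * x) * y := by rw [hx2, one_mul]
        _ = x * (x * y) := by group
    have hodd := odd_order_invol_mul hF hm hx1 hx2 hz1 hz2 hp hp' hne
    rw [← hy] at hodd
    refine ⟨?_, hodd, ?_⟩
    · rintro rfl
      rw [mul_one] at hzp
      exact hzp hp
    · have hzi : (x * y)⁻¹ = x * y := inv_eq_of_mul_eq_one_left hz2
      calc x * y * x⁻¹ = (x * y) * x := by rw [hxi]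
        _ = (x * y)⁻¹ * x⁻¹⁻¹ := by rw [hzi, inv_inv]
        _ = y⁻¹ := by group

end Cfsg.Agent.Lib.helper3
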