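import Mathlib
import Cfsg.Prelude.Def_LieExceptional
import Cfsg.Agent.Lib.helper3.SuzukiSolI

set_option autoImplicit false

namespace Cfsg.Agent.Lib.helper3

open Cfsg Matrix
open scoped Pointwise

variable {F : Type*} [Field F] [Fintype F] {m : ℕ} (hF : Fintype.card F = 2 ^ (2 * m + 1))
  (hm : 1 ≤ m)

omit [Fintype F] in
theorem invol_conj_fix {x : Sz F m} (hx2 : x * x = 1) {y : Sz F m} (hinv : x * y * x⁻¹ = y⁻¹)
    {a : suzukiOvoid F m} (ha : y • a = a) : y • (x • a) = x • a := by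
  have hxi : x⁻¹ = x := inv_eq_of_mul_eq_one_left hx2
  have hyia : y⁻¹ • a = a := by rw [inv_smul_eq_iff, ha]
  have e : y * x = x * y⁻¹ := by
    rw [← hinv, hxi]
    calc y * x = (x * x) * y * x := by rw [hx2, one_mul]
      _ = x * (x * y * x) := by group
  rw [← mul_smul, e, mul_smul, hyia]

include hF hm in
/-- the nonidentity elements of order dividing `q - 1` inverted by an involution -/
theorem card_inverted_dtype {x : Sz F m} (hx1 : x ≠ 1) (hx2 : x * x = 1)
    {p : suzukiOvoid F m} (hp : x • p = p) :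
    Nat.card {y : Sz F m // y ≠ 1 ∧ orderOf y ∣ 2 ^ (2 * m + 1) - 1 ∧ x * y * x⁻¹ = y⁻¹} * 2 =
      (2 ^ (2 * m + 1)) ^ 2 * (2 ^ (2 * m + 1) - 2) := by
  have hfin : Finite (Sz F m) := finite_Sz hF hm
  have hfinΩ : Finite (suzukiOvoid F m) := finite_ovoid hF
  have hxi : x⁻¹ = x := inv_eq_of_mul_eq_one_left hx2
  obtain ⟨hodd1, _, _⟩ := sz_orders_arith m
  have key := double_count_natCard
    (fun y : Sz F m => y ≠ 1 ∧ orderOf y ∣ 2 ^ (2 * m + 1) - 1 ∧ x * y * x⁻¹ = y⁻¹)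
    (fun a : suzukiOvoid F m => a ≠ p) (fun y a => y • a = a) 2 (2 ^ (2 * m + 1) - 2) ?_ ?_
  · rw [card_ne_point, card_ovoid hF, Nat.add_sub_cancel] at key
    exact key
  · rintro y ⟨hy1, ho, hinv⟩
    have hodd : Odd (orderOf y) := Odd.of_dvd_nat hodd1 ho
    have hnf : ∀ a : suzukiOvoid F m, y • a = a → a ≠ p := by
      rintro a ha rfl
      exact inverted_odd_not_fix hF hm hx1 hx2 hp hy1 hodd hinv ha
    obtain ⟨w, k, hk, rfl⟩ := dtype_of_order hF hm hy1 ho
    have f1 : (w * gD hF k * w⁻¹) • (w • oInf F m) = w • oInf F m := by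
      rw [mul_smul, mul_smul, inv_smul_smul, gD_oInf]
    have f2 : (w * gD hF k * w⁻¹) • (w • oPt m (0 : F) 0) = w • oPt m (0 : F) 0 := by
      rw [mul_smul, mul_smul, inv_smul_smul, gD_oZero]
    have hne : w • oInf F m ≠ w • oPt m (0 : F) 0 := fun h =>
      (oPt_ne_oInf (m := m) (0 : F) 0) (MulAction.injective w h).symm
    rw [Nat.card_eq_two_iff]
    refine ⟨⟨_, hnf _ f1, f1⟩, ⟨_, hnf _ f2, f2⟩, fun h => hne (congrArg Subtype.val h), ?_⟩
    ext c
    simp only [Set.mem_insert_iff, Set.mem_singleton_iff, Set.mem_univ, iff_true]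
    rcases fixed_of_two hF hm hy1 hne f1 f2 c.2.2 with h | h
    · left; exact Subtype.ext h
    · right; exact Subtype.ext h
  · intro a ha
    have hab : a ≠ x • a := fun h => ha (invol_fixed_eq hF hm hx1 hx2 h.symm hp)
    set H := MulAction.stabilizer (Sz F m) a ⊓ MulAction.stabilizer (Sz F m) (x • a) with hH
    have hT : IsTorus m H := isTorus_stab_two hF hm hab
    have hcard : Nat.card H = 2 ^ (2 * m + 1) - 1 := card_stab_two hF hm hab
    have hxN : x ∈ Subgroup.normalizer (H : Set (Sz F m)) := by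
      have half : ∀ h : Sz F m, h ∈ H → x * h * x⁻¹ ∈ H := by
        intro h hh
        rw [hH, Subgroup.mem_inf, MulAction.mem_stabilizer_iff, MulAction.mem_stabilizer_iff]
          at hh ⊢
        constructor
        · rw [hxi, mul_smul, mul_smul, hh.2, ← mul_smul, hx2, one_smul]
        · rw [mul_smul, mul_smul, inv_smul_smul, hh.1]
      rw [Subgroup.mem_normalizer_iff]
      intro h
      constructor
      · exact half h
      · intro hh
        have := half _ hh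
        have e : x * (x * h * x⁻¹) * x⁻¹ = h := by
          rw [hxi]
          calc x * (x * h * x) * x = (x * x) * h * (x * x) := by group
            _ = h := by rw [hx2, one_mul, mul_one]
        rwa [e] at this
    have e : Nat.card {y : Sz F m // (y ≠ 1 ∧ orderOf y ∣ 2 ^ (2 * m + 1) - 1 ∧
        x * y * x⁻¹ = y⁻¹) ∧ y • a = a} = Nat.card {y : Sz F m // y ∈ H ∧ y ≠ 1} := by
      apply Nat.card_congr
      apply Equiv.subtypeEquivRight
      intro y
      constructor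
      · rintro ⟨⟨hy1, _, hinv⟩, hya⟩
        exact ⟨⟨MulAction.mem_stabilizer_iff.2 hya,
          MulAction.mem_stabilizer_iff.2 (invol_conj_fix hx2 hinv hya)⟩, hy1⟩
      · rintro ⟨hyH, hy1⟩
        refine ⟨⟨hy1, ?_, invol_inverts_torus hF hm hT hxN hx1 hx2 hyH⟩,
          MulAction.mem_stabilizer_iff.1 hyH.1⟩
        rw [← hcard]
        exact Subgroup.orderOf_dvd_natCard H hyH
    rw [e, card_ne_one_subgroup, hcard]
    omega

include hF hm in
/-- the fixed-point-free elements inverted by an involution -/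
theorem card_inverted_fpf {x : Sz F m} (hx1 : x ≠ 1) (hx2 : x * x = 1) :
    2 * Nat.card {w : Sz F m // Fpf w ∧ x * w * x⁻¹ = w⁻¹} = (2 ^ (2 * m + 1)) ^ 3 := by
  have hfin : Finite (Sz F m) := finite_Sz hF hm
  obtain ⟨p, hp, _⟩ := invol_fixed_unique hF hm hx1 hx2
  obtain ⟨hodd1, hodd2, hcop⟩ := sz_orders_arith m
  have h1 := card_inverted_odd hF hm hx1 hx2 hp
  have h2 := card_inverted_dtype hF hm hx1 hx2 hp
  have h3 : Nat.card {y : Sz F m // y ≠ 1 ∧ Odd (orderOf y) ∧ x * y * x⁻¹ = y⁻¹} =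
      Nat.card {y : Sz F m // y ≠ 1 ∧ orderOf y ∣ 2 ^ (2 * m + 1) - 1 ∧ x * y * x⁻¹ = y⁻¹} +
      Nat.card {w : Sz F m // Fpf w ∧ x * w * x⁻¹ = w⁻¹} := by
    rw [← natCard_or_of_disjoint]
    · apply Nat.card_congr
      apply Equiv.subtypeEquivRight
      intro y
      constructor
      · rintro ⟨hy1, hodd, hinv⟩
        rcases elt_type hF hm hy1 with ⟨h4, _⟩ | ⟨hd, _⟩ | ⟨_, hf⟩
        · exact absurd (orderOf_eq_one_of_dvd_coprime h4 dvd_rfl (coprime_four_of_odd hodd)) hy1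
        · exact Or.inl ⟨hy1, hd, hinv⟩
        · exact Or.inr ⟨hf, hinv⟩
      · rintro (⟨hy1, hd, hinv⟩ | ⟨hf, hinv⟩)
        · exact ⟨hy1, Odd.of_dvd_nat hodd1 hd, hinv⟩
        · exact ⟨hf.ne_one, hf.odd_order hF hm, hinv⟩
    · rintro y ⟨⟨hy1, hd, _⟩, hf, _⟩
      have hd2 : orderOf y ∣ (2 ^ (2 * m + 1)) ^ 2 + 1 := by
        refine dvd_trans ?_ (hf.card_centralizer_dvd hF hm)
        exact Subgroup.orderOf_dvd_natCard _ (Subgroup.mem_centralizer_singleton_iff.2 rfl)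
      exact hy1 (orderOf_eq_one_of_dvd_coprime hd hd2 hcop)
  rw [h1] at h3
  have h8 : 2 ^ 3 ≤ 2 ^ (2 * m + 1) := Nat.pow_le_pow_right (by norm_num) (by omega)
  generalize Nat.card {w : Sz F m // Fpf w ∧ x * w * x⁻¹ = w⁻¹} = SF at *
  generalize Nat.card {y : Sz F m // y ≠ 1 ∧ orderOf y ∣ 2 ^ (2 * m + 1) - 1 ∧
    x * y * x⁻¹ = y⁻¹} = SD at *
  generalize 2 ^ (2 * m + 1) = Q at *
  obtain ⟨k, rfl⟩ : ∃ k, Q = k + 2 := ⟨Q - 2, by omega⟩
  have e1 : k + 2 - 1 = k + 1 := by omega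
  have e2 : k + 2 - 2 = k := by omega
  rw [e1] at h3
  rw [e2] at h2
  have : 2 * SF + SD * 2 = 2 * ((k + 2) ^ 2 * (k + 1)) := by rw [h3]; ring
  rw [h2] at this
  have h5 : (k + 2) ^ 3 + (k + 2) ^ 2 * k = 2 * ((k + 2) ^ 2 * (k + 1)) := by ring
  omega

end Cfsg.Agent.Lib.helper3
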