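import Mathlib
import Cfsg.Prelude.Def_LieExceptional
import Cfsg.Agent.Lib.helper3.SuzukiSolJ

set_option autoImplicit false

namespace Cfsg.Agent.Lib.helper3

open Cfsg Matrix
open scoped Pointwise

variable {F : Type*} [Field F] [Fintype F] {m : ℕ} (hF : Fintype.card F = 2 ^ (2 * m + 1))
  (hm : 1 ≤ m)

include hF hm in
/-- every nonidentity element of odd order lies in a torus -/
theorem exists_torus_of_odd {y : Sz F m} (hy1 : y ≠ 1) (hodd : Odd (orderOf y)) :
    ∃ U : Subgroup (Sz F m), IsTorus m U ∧ y ∈ U := by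
  rcases elt_type hF hm hy1 with ⟨h4, _⟩ | ⟨_, w, k, _, rfl⟩ | ⟨_, hf⟩
  · exact absurd (orderOf_eq_one_of_dvd_coprime h4 dvd_rfl (coprime_four_of_odd hodd)) hy1
  · exact ⟨torusConj hF w, ⟨isCyclic_torusConj hF w, Or.inl (card_torusConj hF w)⟩,
      mem_torusConj hF w k⟩
  · exact ⟨_, hf.isTorus_centralizer hF hm, Subgroup.mem_centralizer_singleton_iff.2 rfl⟩

include hF hm in
/-- an element inverting a nonidentity element of a torus normalises the torus -/
theorem mem_normalizer_of_inverts {U : Subgroup (Sz F m)} (hU : IsTorus m U) {y : Sz F m}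
    (hyU : y ∈ U) (hy1 : y ≠ 1) {x : Sz F m} (hinv : x * y * x⁻¹ = y⁻¹) :
    x ∈ Subgroup.normalizer (U : Set (Sz F m)) := by
  apply mem_normalizer_of_map_conj_eq
  apply torus_unique hF hm (hU.map_conj x) hU (u := y⁻¹)
  · refine ⟨y, hyU, ?_⟩
    rw [← hinv]
    rfl
  · exact U.inv_mem hyU
  · exact inv_ne_one.2 hy1

include hF hm in
theorem Fpf.mem_NC_of_inverts {w : Sz F m} (hw : Fpf w) {x : Sz F m}
    (hinv : x * w * x⁻¹ = w⁻¹) : x ∈ NC w :=
  mem_normalizer_of_inverts hF hm (hw.isTorus_centralizer hF hm)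
    (Subgroup.mem_centralizer_singleton_iff.2 rfl) hw.ne_one hinv

omit [Fintype F] in
theorem invol_mul_inverts {x z : Sz F m} (hx2 : x * x = 1) (hz2 : z * z = 1) :
    x * (x * z) * x⁻¹ = (x * z)⁻¹ ∧ z * (x * z) * z⁻¹ = (x * z)⁻¹ := by
  have hxi : x⁻¹ = x := inv_eq_of_mul_eq_one_left hx2
  have hzi : z⁻¹ = z := inv_eq_of_mul_eq_one_left hz2
  have e : (x * z)⁻¹ = z * x := by rw [_root_.mul_inv_rev, hxi, hzi]
  constructor
  · rw [e, hxi]
    calc x * (x * z) * x = (x * x) * z * x := by group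
      _ = z * x := by rw [hx2, one_mul]
  · rw [e, hzi]
    calc z * (x * z) * z = z * x * (z * z) := by group
      _ = z * x := by rw [hz2, mul_one]

include hF hm in
/-- an element of order four normalising a torus: the torus has order `q ± r + 1` -/
theorem torus_pm_of_order_four {U : Subgroup (Sz F m)} (hU : IsTorus m U) {y : Sz F m}
    (hyN : y ∈ Subgroup.normalizer (U : Set (Sz F m))) (hy2 : y * y ≠ 1)
    (hy4 : (y * y) * (y * y) = 1) :
    Nat.card U = 2 ^ (2 * m + 1) + 2 ^ (m + 1) + 1 ∨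
      Nat.card U = 2 ^ (2 * m + 1) - 2 ^ (m + 1) + 1 := by
  have hfin : Finite (Sz F m) := finite_Sz hF hm
  rcases hU.2 with h | h | h
  · exfalso
    have h2 := sq_mem_torus_dtype hF hm hU.1 h hyN
    rw [pow_two] at h2
    have hodd : Odd (orderOf (y * y)) :=
      Odd.of_dvd_nat (odd_card_torus hm hU) (Subgroup.orderOf_dvd_natCard _ h2)
    have hd : orderOf (y * y) ∣ 2 := orderOf_dvd_of_pow_eq_one (by rw [pow_two]; exact hy4)
    apply hy2
    rw [← orderOf_eq_one_iff]
    rcases (Nat.dvd_prime Nat.prime_two).1 hd with h' | h'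
    · exact h'
    · rw [h'] at hodd
      exact absurd hodd (by decide)
  · exact Or.inl h
  · exact Or.inr h

include hF hm in
/-- the elements of order four generating a solvable group with an involution, away from its
fixed point -/
theorem card_sol_invol_four {x : Sz F m} (hx1 : x ≠ 1) (hx2 : x * x = 1)
    {p : suzukiOvoid F m} (hp : x • p = p) :
    Nat.card {y : Sz F m // y * y ≠ 1 ∧ (y * y) * (y * y) = 1 ∧ y • p ≠ p ∧
      ∃ U : Subgroup (Sz F m), IsTorus m U ∧ x ∈ Subgroup.normalizer (U : Set (Sz F m)) ∧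
        y ∈ Subgroup.normalizer (U : Set (Sz F m))} = (2 ^ (2 * m + 1)) ^ 3 := by
  have hfin : Finite (Sz F m) := finite_Sz hF hm
  have hxi : x⁻¹ = x := inv_eq_of_mul_eq_one_left hx2
  -- the basic analysis of such an element
  have basic : ∀ y : Sz F m, y * y ≠ 1 → (y * y) * (y * y) = 1 → y • p ≠ p →
      ∀ U : Subgroup (Sz F m), IsTorus m U → x ∈ Subgroup.normalizer (U : Set (Sz F m)) →
        y ∈ Subgroup.normalizer (U : Set (Sz F m)) →
        x * (y * y) ∈ U ∧ x * (y * y) ≠ 1 ∧ Fpf (x * (y * y)) := by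
    intro y hy2 hy4 hyp U hU hxU hyU
    have hne : x * (y * y) ≠ 1 := by
      intro h
      have hyy : y * y = x := by
        calc y * y = x⁻¹ * (x * (y * y)) := by group
          _ = x := by rw [h, mul_one, hxi]
      apply hyp
      apply invol_fixed_eq hF hm hx1 hx2 _ hp
      rw [← hyy, ← mul_smul]
      have : y * y * y = y * (y * y) := by group
      rw [this, hyy, mul_smul, hp]
    have hmem := invol_mul_mem_torus hF hm hU hxU hx1 hx2 (Subgroup.mul_mem _ hyU hyU) hy2 hy4
    have hpm := torus_pm_of_order_four hF hm hU hyU hy2 hy4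
    exact ⟨hmem, hne, (torus_pm hF hm hU.1 hpm hmem hne).1⟩
  have key := double_count_natCard
    (fun y : Sz F m => y * y ≠ 1 ∧ (y * y) * (y * y) = 1 ∧ y • p ≠ p ∧
      ∃ U : Subgroup (Sz F m), IsTorus m U ∧ x ∈ Subgroup.normalizer (U : Set (Sz F m)) ∧
        y ∈ Subgroup.normalizer (U : Set (Sz F m)))
    (fun w : Sz F m => Fpf w ∧ x * w * x⁻¹ = w⁻¹) (fun y w => w = x * (y * y)) 1 2 ?_ ?_
  · rw [mul_one, mul_comm, card_inverted_fpf hF hm hx1 hx2] at key
    exact key
  · rintro y ⟨hy2, hy4, hyp, U, hU, hxU, hyU⟩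
    obtain ⟨hmem, hne, hf⟩ := basic y hy2 hy4 hyp U hU hxU hyU
    rw [Nat.card_eq_one_iff_exists]
    refine ⟨⟨x * (y * y), ⟨hf, (invol_mul_inverts hx2 hy4).1⟩, rfl⟩, ?_⟩
    rintro ⟨w, _, rfl⟩
    rfl
  · rintro w ⟨hw, hinv⟩
    have hxN : x ∈ NC w := hw.mem_NC_of_inverts hF hm hinv
    have hwN : w ∈ NC w := Subgroup.le_normalizer (Subgroup.mem_centralizer_singleton_iff.2 rfl)
    have hz2 : (x * w) * (x * w) = 1 := by
      calc x * w * (x * w) = (x * w * x⁻¹) * w := by rw [hxi]; group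
        _ = 1 := by rw [hinv, inv_mul_cancel]
    have hz1 : x * w ≠ 1 := by
      intro h
      have : w = x := by
        calc w = x⁻¹ * (x * w) := by group
          _ = x := by rw [h, mul_one, hxi]
      exact hw p (this ▸ hp)
    rw [← hw.card_sqrt hF hm hz1 hz2 (Subgroup.mul_mem _ hxN hwN)]
    apply Nat.card_congr
    apply Equiv.subtypeEquivRight
    intro y
    constructor
    · rintro ⟨⟨hy2, hy4, hyp, U, hU, hxU, hyU⟩, hwy⟩
      obtain ⟨hmem, hne, hf⟩ := basic y hy2 hy4 hyp U hU hxU hyU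
      rw [← hwy] at hmem
      have hUc := torus_centralizer hF hm hU hmem hw.ne_one
      refine ⟨?_, ?_⟩
      · change y ∈ Subgroup.normalizer _
        rw [hUc]
        exact hyU
      · rw [hwy]
        calc y * y = (x * x) * (y * y) := by rw [hx2, one_mul]
          _ = x * (x * (y * y)) := by group
    · rintro ⟨hyN, hyy⟩
      have hwy : w = x * (y * y) := by
        rw [hyy]
        calc w = (x * x) * w := by rw [hx2, one_mul]
          _ = x * (x * w) := by group
      refine ⟨⟨?_, ?_, ?_, _, hw.isTorus_centralizer hF hm, hxN, hyN⟩, hwy⟩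
      · rw [hyy]; exact hz1
      · rw [hyy]; exact hz2
      · intro hyp
        apply hw p
        rw [hwy, mul_smul, mul_smul, hyp, hyp, hp]

end Cfsg.Agent.Lib.helper3
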