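import Mathlib
import Cfsg.Prelude.Def_LieExceptional
import Cfsg.Agent.Lib.helper3.SuzukiSolK

set_option autoImplicit false

namespace Cfsg.Agent.Lib.helper3

open Cfsg Matrix
open scoped Pointwise

variable {F : Type*} [Field F] [Fintype F] {m : ℕ} (hF : Fintype.card F = 2 ^ (2 * m + 1))
  (hm : 1 ≤ m)

theorem mul_self_mul_self_eq_pow_four {G : Type*} [Group G] (y : G) :
    (y * y) * (y * y) = y ^ 4 := by
  rw [pow_succ, pow_succ, pow_succ, pow_one]
  group

include hF hm in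
/-- the solubilizer of an involution, by types of elements -/
theorem sol_invol_iff (hp' : (2 * m + 1).Prime) {x : Sz F m} (hx1 : x ≠ 1) (hx2 : x * x = 1)
    {p : suzukiOvoid F m} (hp : x • p = p) (y : Sz F m) :
    Group.IsSolvable (Subgroup.closure ({x, y} : Set (Sz F m))) ↔
      (y • p = p) ∨ ((y ≠ 1 ∧ Odd (orderOf y) ∧ x * y * x⁻¹ = y⁻¹) ∨
        ((y ≠ 1 ∧ y * y = 1 ∧ y • p ≠ p) ∨
          (y * y ≠ 1 ∧ (y * y) * (y * y) = 1 ∧ y • p ≠ p ∧
            ∃ U : Subgroup (Sz F m), IsTorus m U ∧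
              x ∈ Subgroup.normalizer (U : Set (Sz F m)) ∧
              y ∈ Subgroup.normalizer (U : Set (Sz F m))))) := by
  have hfin : Finite (Sz F m) := finite_Sz hF hm
  obtain ⟨hodd1, hodd2, hcop⟩ := sz_orders_arith m
  rw [sol_iff hF hm hp']
  constructor
  · rintro (⟨p₁, hxp, hyp⟩ | ⟨U, hU, hxU, hyU⟩)
    · left
      rw [invol_fixed_eq hF hm hx1 hx2 hp hxp]
      exact hyp
    · by_cases hyp : y • p = p
      · exact Or.inl hyp
      · right
        have hy1 : y ≠ 1 := by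
          rintro rfl
          exact hyp (one_smul _ _)
        have oddcase : Odd (orderOf y) → (y ≠ 1 ∧ Odd (orderOf y) ∧ x * y * x⁻¹ = y⁻¹) := by
          intro hodd
          have hyU' := mem_torus_of_odd hF hm hU hyU hodd
          exact ⟨hy1, hodd, invol_inverts_torus hF hm hU hxU hx1 hx2 hyU'⟩
        rcases elt_type hF hm hy1 with ⟨h4, _⟩ | ⟨hd, _⟩ | ⟨hd, _⟩
        · right
          by_cases hyy : y * y = 1
          · exact Or.inl ⟨hy1, hyy, hyp⟩
          · right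
            refine ⟨hyy, ?_, hyp, U, hU, hxU, hyU⟩
            rw [mul_self_mul_self_eq_pow_four]
            exact orderOf_dvd_iff_pow_eq_one.1 h4
        · exact Or.inl (oddcase (Odd.of_dvd_nat hodd1 hd))
        · exact Or.inl (oddcase (Odd.of_dvd_nat hodd2 hd))
  · rintro (hyp | ⟨hy1, hodd, hinv⟩ | ⟨hy1, hy2, hyp⟩ | ⟨_, _, _, U, hU, hxU, hyU⟩)
    · exact Or.inl ⟨p, hp, hyp⟩
    · right
      obtain ⟨U, hU, hyU⟩ := exists_torus_of_odd hF hm hy1 hodd
      exact ⟨U, hU, mem_normalizer_of_inverts hF hm hU hyU hy1 hinv, Subgroup.le_normalizer hyU⟩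
    · right
      obtain ⟨p₁, hp₁, _⟩ := invol_fixed_unique hF hm hy1 hy2
      have hne : p ≠ p₁ := fun h => hyp (h ▸ hp₁)
      have hodd := odd_order_invol_mul hF hm hx1 hx2 hy1 hy2 hp hp₁ hne
      have hv1 : x * y ≠ 1 := by
        intro h
        have hxi : x⁻¹ = x := inv_eq_of_mul_eq_one_left hx2
        have : y = x := by
          calc y = x⁻¹ * (x * y) := by group
            _ = x := by rw [h, mul_one, hxi]
        exact hyp (this ▸ hp)
      obtain ⟨U, hU, hvU⟩ := exists_torus_of_odd hF hm hv1 hodd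
      obtain ⟨i1, i2⟩ := invol_mul_inverts hx2 hy2
      exact ⟨U, hU, mem_normalizer_of_inverts hF hm hU hvU hv1 i1,
        mem_normalizer_of_inverts hF hm hU hvU hv1 i2⟩
    · exact Or.inr ⟨U, hU, hxU, hyU⟩

include hF hm in
/-- the solubilizer of an involution has `q² (4q - 3)` elements -/
theorem card_sol_invol (hp' : (2 * m + 1).Prime) {x : Sz F m} (hx1 : x ≠ 1) (hx2 : x * x = 1) :
    Nat.card {y : Sz F m // Group.IsSolvable (Subgroup.closure ({x, y} : Set (Sz F m)))} =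
      (2 ^ (2 * m + 1)) ^ 2 * (4 * 2 ^ (2 * m + 1) - 3) := by
  have hfin : Finite (Sz F m) := finite_Sz hF hm
  obtain ⟨p, hp, _⟩ := invol_fixed_unique hF hm hx1 hx2
  rw [Nat.card_congr (Equiv.subtypeEquivRight (sol_invol_iff hF hm hp' hx1 hx2 hp))]
  have hodd_two : ∀ y : Sz F m, y ≠ 1 → y * y = 1 → ¬ Odd (orderOf y) := by
    intro y hy1 hy2 hodd
    have ho : orderOf y = 2 := orderOf_eq_prime (by rw [pow_two]; exact hy2) hy1
    rw [ho] at hodd
    exact absurd hodd (by decide)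
  have hodd_four : ∀ y : Sz F m, (y * y) * (y * y) = 1 → Odd (orderOf y) → y = 1 := by
    intro y hy4 hodd
    rw [mul_self_mul_self_eq_pow_four] at hy4
    exact orderOf_eq_one_of_dvd_coprime (orderOf_dvd_of_pow_eq_one hy4) dvd_rfl
      (coprime_four_of_odd hodd)
  rw [natCard_or_of_disjoint, natCard_or_of_disjoint, natCard_or_of_disjoint]
  · have hA : Nat.card {y : Sz F m // y • p = p} =
        (2 ^ (2 * m + 1)) ^ 2 * (2 ^ (2 * m + 1) - 1) := by
      rw [← card_stab_pt hF hm p]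
      exact Nat.card_congr (Equiv.subtypeEquivRight (fun y => MulAction.mem_stabilizer_iff.symm))
    rw [hA, card_inverted_odd hF hm hx1 hx2 hp, card_invol_not_fix hF hm p,
      card_sol_invol_four hF hm hx1 hx2 hp]
    have h8 : 2 ^ 3 ≤ 2 ^ (2 * m + 1) := Nat.pow_le_pow_right (by norm_num) (by omega)
    generalize 2 ^ (2 * m + 1) = Q at *
    obtain ⟨k, rfl⟩ : ∃ k, Q = k + 1 := ⟨Q - 1, by omega⟩
    have e1 : k + 1 - 1 = k := by omega
    have e2 : 4 * (k + 1) - 3 = 4 * k + 1 := by omega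
    rw [e1, e2]
    ring
  · rintro y ⟨⟨_, hy2, _⟩, hyy, _⟩
    exact hyy hy2
  · rintro y ⟨⟨hy1, hodd, _⟩, ⟨hy1', hy2, _⟩ | ⟨hyy, hy4, _⟩⟩
    · exact hodd_two y hy1 hy2 hodd
    · apply hyy
      rw [hodd_four y hy4 hodd, mul_one]
  · rintro y ⟨hyp, ⟨hy1, hodd, hinv⟩ | ⟨_, _, hnp⟩ | ⟨_, _, hnp, _⟩⟩
    · exact inverted_odd_not_fix hF hm hx1 hx2 hp hy1 hodd hinv hyp
    · exact hnp hyp
    · exact hnp hyp

end Cfsg.Agent.Lib.helper3
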