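import Mathlib
import Cfsg.Prelude.Def_LieExceptional
import Cfsg.Agent.Lib.helper3.SuzukiSolL

set_option autoImplicit false

namespace Cfsg.Agent.Lib.helper3

open Cfsg Matrix
open scoped Pointwise

variable {F : Type*} [Field F] [Fintype F] {m : ℕ} (hF : Fintype.card F = 2 ^ (2 * m + 1))
  (hm : 1 ≤ m)

/-- the number of tori-elements whose torus is normalised by `x` -/
noncomputable def sOne (x : Sz F m) : ℕ := Nat.card {w : Sz F m // Fpf w ∧ x ∈ NC w}

include hF hm in
/-- an element commuting with an involution fixes its fixed point -/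
theorem fix_of_commute_invol {z : Sz F m} (hz1 : z ≠ 1) (hz2 : z * z = 1)
    {p : suzukiOvoid F m} (hp : z • p = p) {y : Sz F m} (hc : y * z = z * y) : y • p = p := by
  apply invol_fixed_eq hF hm hz1 hz2 _ hp
  rw [← mul_smul, ← hc, mul_smul, hp]

include hF hm in
/-- analysis of a pair of involutions normalising a torus of order `q ± r + 1` -/
theorem torus_of_two_invol {U : Subgroup (Sz F m)} (hU : IsTorus m U)
    (hpm : Nat.card U = 2 ^ (2 * m + 1) + 2 ^ (m + 1) + 1 ∨
      Nat.card U = 2 ^ (2 * m + 1) - 2 ^ (m + 1) + 1) {z t : Sz F m}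
    (hzU : z ∈ Subgroup.normalizer (U : Set (Sz F m))) (hz1 : z ≠ 1) (hz2 : z * z = 1)
    (htU : t ∈ Subgroup.normalizer (U : Set (Sz F m))) (ht1 : t ≠ 1) (ht2 : t * t = 1)
    (hne : t ≠ z) :
    Fpf (z * t) ∧ U = Subgroup.centralizer ({z * t} : Set (Sz F m)) := by
  have hmem := invol_mul_mem_torus hF hm hU hzU hz1 hz2 htU ht1 ht2
  have hne1 : z * t ≠ 1 := by
    intro h
    apply hne
    have hzi : z⁻¹ = z := inv_eq_of_mul_eq_one_left hz2
    calc t = z⁻¹ * (z * t) := by group
      _ = z := by rw [h, mul_one, hzi]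
  exact torus_pm hF hm hU.1 hpm hmem hne1

include hF hm in
/-- the solubilizer of an element of order four, by types of elements -/
theorem sol_four_iff (hp' : (2 * m + 1).Prime) {x : Sz F m} (hx2 : x * x ≠ 1)
    (hx4 : (x * x) * (x * x) = 1) {p : suzukiOvoid F m} (hp : (x * x) • p = p) (y : Sz F m) :
    Group.IsSolvable (Subgroup.closure ({x, y} : Set (Sz F m))) ↔
      (y • p = p) ∨ ((Fpf y ∧ x ∈ NC y) ∨
        ((y ≠ 1 ∧ y * y = 1 ∧ y • p ≠ p ∧
            ∃ U : Subgroup (Sz F m), IsTorus m U ∧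
              x ∈ Subgroup.normalizer (U : Set (Sz F m)) ∧
              y ∈ Subgroup.normalizer (U : Set (Sz F m))) ∨
          (y * y ≠ 1 ∧ (y * y) * (y * y) = 1 ∧ y • p ≠ p ∧
            ∃ U : Subgroup (Sz F m), IsTorus m U ∧
              x ∈ Subgroup.normalizer (U : Set (Sz F m)) ∧
              y ∈ Subgroup.normalizer (U : Set (Sz F m))))) := by
  have hfin : Finite (Sz F m) := finite_Sz hF hm
  obtain ⟨hodd1, hodd2, hcop⟩ := sz_orders_arith m
  obtain ⟨hprod, _, _, _⟩ := sz_k_arith hm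
  have hxp : x • p = p := fix_of_commute_invol hF hm hx2 hx4 hp (by group)
  rw [sol_iff hF hm hp']
  constructor
  · rintro (⟨p₁, hxp₁, hyp⟩ | ⟨U, hU, hxU, hyU⟩)
    · left
      have : (x * x) • p₁ = p₁ := by rw [mul_smul, hxp₁, hxp₁]
      rw [invol_fixed_eq hF hm hx2 hx4 hp this]
      exact hyp
    · by_cases hyp : y • p = p
      · exact Or.inl hyp
      · right
        have hy1 : y ≠ 1 := by
          rintro rfl
          exact hyp (one_smul _ _)
        have hpm := torus_pm_of_order_four hF hm hU hxU hx2 hx4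
        have hcardU : Nat.card U ∣ (2 ^ (2 * m + 1)) ^ 2 + 1 := by
          rcases hpm with h | h <;> rw [h, ← hprod]
          · exact Dvd.intro _ rfl
          · exact Dvd.intro_left _ rfl
        rcases elt_type hF hm hy1 with ⟨h4, _⟩ | ⟨hd, _⟩ | ⟨hd, hf⟩
        · right
          by_cases hyy : y * y = 1
          · exact Or.inl ⟨hy1, hyy, hyp, U, hU, hxU, hyU⟩
          · right
            refine ⟨hyy, ?_, hyp, U, hU, hxU, hyU⟩
            rw [mul_self_mul_self_eq_pow_four]
            exact orderOf_dvd_iff_pow_eq_one.1 h4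
        · exfalso
          have hyU' := mem_torus_of_odd hF hm hU hyU (Odd.of_dvd_nat hodd1 hd)
          have hd2 : orderOf y ∣ (2 ^ (2 * m + 1)) ^ 2 + 1 :=
            dvd_trans (Subgroup.orderOf_dvd_natCard U hyU') hcardU
          exact hy1 (orderOf_eq_one_of_dvd_coprime hd hd2 hcop)
        · left
          have hyU' := mem_torus_of_odd hF hm hU hyU (Odd.of_dvd_nat hodd2 hd)
          refine ⟨hf, ?_⟩
          change x ∈ Subgroup.normalizer _
          rw [torus_centralizer hF hm hU hyU' hy1]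
          exact hxU
  · rintro (hyp | ⟨hf, hxN⟩ | ⟨_, _, _, U, hU, hxU, hyU⟩ | ⟨_, _, _, U, hU, hxU, hyU⟩)
    · exact Or.inl ⟨p, hxp, hyp⟩
    · exact Or.inr ⟨_, hf.isTorus_centralizer hF hm, hxN,
        Subgroup.le_normalizer (Subgroup.mem_centralizer_singleton_iff.2 rfl)⟩
    · exact Or.inr ⟨U, hU, hxU, hyU⟩
    · exact Or.inr ⟨U, hU, hxU, hyU⟩

include hF hm in
/-- the involutions generating a solvable group with an element of order four -/
theorem card_sol_four_invol {x : Sz F m} (hx2 : x * x ≠ 1)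
    (hx4 : (x * x) * (x * x) = 1) {p : suzukiOvoid F m} (hp : (x * x) • p = p) :
    Nat.card {y : Sz F m // y ≠ 1 ∧ y * y = 1 ∧ y • p ≠ p ∧
      ∃ U : Subgroup (Sz F m), IsTorus m U ∧ x ∈ Subgroup.normalizer (U : Set (Sz F m)) ∧
        y ∈ Subgroup.normalizer (U : Set (Sz F m))} = sOne x := by
  have hfin : Finite (Sz F m) := finite_Sz hF hm
  set z := x * x with hz
  have hzi : z⁻¹ = z := inv_eq_of_mul_eq_one_left hx4
  unfold sOne
  apply Nat.card_congr
  refine Equiv.subtypeEquiv (Equiv.mulLeft z) ?_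
  intro y
  simp only [Equiv.coe_mulLeft]
  constructor
  · rintro ⟨hy1, hy2, hyp, U, hU, hxU, hyU⟩
    have hpm := torus_pm_of_order_four hF hm hU hxU hx2 hx4
    have hzU : z ∈ Subgroup.normalizer (U : Set (Sz F m)) := Subgroup.mul_mem _ hxU hxU
    have hne : y ≠ z := fun h => hyp (h ▸ hp)
    obtain ⟨hf, hUc⟩ := torus_of_two_invol hF hm hU hpm hzU hx2 hx4 hyU hy1 hy2 hne
    refine ⟨hf, ?_⟩
    change x ∈ Subgroup.normalizer _
    rw [← hUc]
    exact hxU
  · rintro ⟨hf, hxN⟩
    obtain ⟨w, rfl⟩ : ∃ w, y = z * w := ⟨z * y, by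
      calc y = (z * z) * y := by rw [hx4, one_mul]
        _ = z * (z * y) := by group⟩
    have e : z * (z * w) = w := by
      calc z * (z * w) = (z * z) * w := by group
        _ = w := by rw [hx4, one_mul]
    rw [e] at hf hxN
    have hzN : z ∈ NC w := Subgroup.mul_mem _ hxN hxN
    have hT := hf.isTorus_centralizer hF hm
    have hwT : w ∈ Subgroup.centralizer ({w} : Set (Sz F m)) :=
      Subgroup.mem_centralizer_singleton_iff.2 rfl
    have hinv := invol_inverts_torus hF hm hT hzN hx2 hx4 hwT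
    have hy2 : (z * w) * (z * w) = 1 := by
      calc z * w * (z * w) = (z * w * z⁻¹) * w := by rw [hzi]; group
        _ = 1 := by rw [hinv, inv_mul_cancel]
    have hy1 : z * w ≠ 1 := by
      intro h
      have : w = z := by
        calc w = z⁻¹ * (z * w) := by group
          _ = z := by rw [h, mul_one, hzi]
      exact hf p (this ▸ hp)
    have hyp : (z * w) • p ≠ p := by
      intro h
      apply hf p
      rw [mul_smul, smul_eq_iff_eq_inv_smul, hzi, hp] at h
      exact h
    exact ⟨hy1, hy2, hyp, _, hT, hxN, Subgroup.mul_mem _ hzN (Subgroup.le_normalizer hwT)⟩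

include hF hm in
/-- the elements of order four generating a solvable group with an element of order four -/
theorem card_sol_four_four {x : Sz F m} (hx2 : x * x ≠ 1)
    (hx4 : (x * x) * (x * x) = 1) {p : suzukiOvoid F m} (hp : (x * x) • p = p) :
    Nat.card {y : Sz F m // y * y ≠ 1 ∧ (y * y) * (y * y) = 1 ∧ y • p ≠ p ∧
      ∃ U : Subgroup (Sz F m), IsTorus m U ∧ x ∈ Subgroup.normalizer (U : Set (Sz F m)) ∧
        y ∈ Subgroup.normalizer (U : Set (Sz F m))} = 2 * sOne x := by
  have hfin : Finite (Sz F m) := finite_Sz hF hm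
  set z := x * x with hz
  have hzi : z⁻¹ = z := inv_eq_of_mul_eq_one_left hx4
  have basic : ∀ y : Sz F m, y * y ≠ 1 → (y * y) * (y * y) = 1 → y • p ≠ p →
      ∀ U : Subgroup (Sz F m), IsTorus m U → x ∈ Subgroup.normalizer (U : Set (Sz F m)) →
        y ∈ Subgroup.normalizer (U : Set (Sz F m)) →
        Fpf (z * (y * y)) ∧ U = Subgroup.centralizer ({z * (y * y)} : Set (Sz F m)) := by
    intro y hy2 hy4 hyp U hU hxU hyU
    have hpm := torus_pm_of_order_four hF hm hU hxU hx2 hx4
    have hzU : z ∈ Subgroup.normalizer (U : Set (Sz F m)) := Subgroup.mul_mem _ hxU hxU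
    have hne : y * y ≠ z := by
      intro h
      apply hyp
      apply fix_of_commute_invol hF hm hx2 hx4 hp
      rw [← h]
      group
    exact torus_of_two_invol hF hm hU hpm hzU hx2 hx4 (Subgroup.mul_mem _ hyU hyU) hy2 hy4 hne
  have key := double_count_natCard
    (fun y : Sz F m => y * y ≠ 1 ∧ (y * y) * (y * y) = 1 ∧ y • p ≠ p ∧
      ∃ U : Subgroup (Sz F m), IsTorus m U ∧ x ∈ Subgroup.normalizer (U : Set (Sz F m)) ∧
        y ∈ Subgroup.normalizer (U : Set (Sz F m)))
    (fun w : Sz F m => Fpf w ∧ x ∈ NC w) (fun y w => w = z * (y * y)) 1 2 ?_ ?_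
  · rw [mul_one, mul_comm] at key
    exact key
  · rintro y ⟨hy2, hy4, hyp, U, hU, hxU, hyU⟩
    obtain ⟨hf, hUc⟩ := basic y hy2 hy4 hyp U hU hxU hyU
    rw [Nat.card_eq_one_iff_exists]
    refine ⟨⟨z * (y * y), ⟨hf, ?_⟩, rfl⟩, ?_⟩
    · change x ∈ Subgroup.normalizer _
      rw [← hUc]
      exact hxU
    · rintro ⟨w, _, rfl⟩
      rfl
  · rintro w ⟨hw, hxN⟩
    have hzN : z ∈ NC w := Subgroup.mul_mem _ hxN hxN
    have hT := hw.isTorus_centralizer hF hm
    have hwT : w ∈ Subgroup.centralizer ({w} : Set (Sz F m)) :=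
      Subgroup.mem_centralizer_singleton_iff.2 rfl
    have hwN : w ∈ NC w := Subgroup.le_normalizer hwT
    have hinv := invol_inverts_torus hF hm hT hzN hx2 hx4 hwT
    have hz2 : (z * w) * (z * w) = 1 := by
      calc z * w * (z * w) = (z * w * z⁻¹) * w := by rw [hzi]; group
        _ = 1 := by rw [hinv, inv_mul_cancel]
    have hz1 : z * w ≠ 1 := by
      intro h
      have : w = z := by
        calc w = z⁻¹ * (z * w) := by group
          _ = z := by rw [h, mul_one, hzi]
      exact hw p (this ▸ hp)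
    rw [← hw.card_sqrt hF hm hz1 hz2 (Subgroup.mul_mem _ hzN hwN)]
    apply Nat.card_congr
    apply Equiv.subtypeEquivRight
    intro y
    constructor
    · rintro ⟨⟨hy2, hy4, hyp, U, hU, hxU, hyU⟩, hwy⟩
      obtain ⟨hf, hUc⟩ := basic y hy2 hy4 hyp U hU hxU hyU
      rw [← hwy] at hUc
      refine ⟨?_, ?_⟩
      · change y ∈ Subgroup.normalizer _
        rw [← hUc]
        exact hyU
      · rw [hwy]
        calc y * y = (z * z) * (y * y) := by rw [hx4, one_mul]
          _ = z * (z * (y * y)) := by group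
    · rintro ⟨hyN, hyy⟩
      have hwy : w = z * (y * y) := by
        rw [hyy]
        calc w = (z * z) * w := by rw [hx4, one_mul]
          _ = z * (z * w) := by group
      refine ⟨⟨?_, ?_, ?_, _, hT, hxN, hyN⟩, hwy⟩
      · rw [hyy]; exact hz1
      · rw [hyy]; exact hz2
      · intro hyp
        apply hw p
        rw [hwy, mul_smul z, mul_smul y, hyp, hyp, hp]

include hF hm in
/-- the solubilizer of an element of order four, in terms of `sOne` -/
theorem card_sol_four_eq (hp' : (2 * m + 1).Prime) {x : Sz F m} (hx2 : x * x ≠ 1)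
    (hx4 : (x * x) * (x * x) = 1) :
    Nat.card {y : Sz F m // Group.IsSolvable (Subgroup.closure ({x, y} : Set (Sz F m)))} =
      (2 ^ (2 * m + 1)) ^ 2 * (2 ^ (2 * m + 1) - 1) + 4 * sOne x := by
  have hfin : Finite (Sz F m) := finite_Sz hF hm
  obtain ⟨p, hp, _⟩ := invol_fixed_unique hF hm hx2 hx4
  rw [Nat.card_congr (Equiv.subtypeEquivRight (sol_four_iff hF hm hp' hx2 hx4 hp))]
  rw [natCard_or_of_disjoint, natCard_or_of_disjoint, natCard_or_of_disjoint]
  · have hA : Nat.card {y : Sz F m // y • p = p} =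
        (2 ^ (2 * m + 1)) ^ 2 * (2 ^ (2 * m + 1) - 1) := by
      rw [← card_stab_pt hF hm p]
      exact Nat.card_congr (Equiv.subtypeEquivRight (fun y => MulAction.mem_stabilizer_iff.symm))
    rw [hA, card_sol_four_invol hF hm hx2 hx4 hp, card_sol_four_four hF hm hx2 hx4 hp]
    have : Nat.card {y : Sz F m // Fpf y ∧ x ∈ NC y} = sOne x := rfl
    rw [this]
    ring
  · rintro y ⟨⟨_, hy2, _⟩, hyy, _⟩
    exact hyy hy2
  · rintro y ⟨⟨hf, _⟩, ⟨hy1, hy2, _⟩ | ⟨hyy, hy4, _⟩⟩
    · have hodd := hf.odd_order hF hm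
      have ho : orderOf y = 2 := orderOf_eq_prime (by rw [pow_two]; exact hy2) hy1
      rw [ho] at hodd
      exact absurd hodd (by decide)
    · have hodd := hf.odd_order hF hm
      rw [mul_self_mul_self_eq_pow_four] at hy4
      apply hf.ne_one
      exact orderOf_eq_one_of_dvd_coprime (orderOf_dvd_of_pow_eq_one hy4) dvd_rfl
        (coprime_four_of_odd hodd)
  · rintro y ⟨hyp, ⟨hf, _⟩ | ⟨_, _, hnp, _⟩ | ⟨_, _, hnp, _⟩⟩
    · exact hf p hyp
    · exact hnp hyp
    · exact hnp hyp

end Cfsg.Agent.Lib.helper3
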