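import Mathlib
import Cfsg.Prelude.Def_LieExceptional
import Cfsg.Agent.Lib.helper3.SuzukiSolM

set_option autoImplicit false

namespace Cfsg.Agent.Lib.helper3

open Cfsg Matrix
open scoped Pointwise commutatorElement

variable {F : Type*} [Field F] [Fintype F] {m : ℕ} (hF : Fintype.card F = 2 ^ (2 * m + 1))
  (hm : 1 ≤ m)

include hF in
theorem szθ_fixed {u : F} (h : szθ m u = u) : u = 0 ∨ u = 1 := by
  have h1 : u ^ 2 = u := by
    rw [← szθ_szθ hF, h, h]
  have h2 : u * (u - 1) = 0 := by
    rw [mul_sub, mul_one, ← pow_two, h1, sub_self]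
  rcases mul_eq_zero.1 h2 with h3 | h3
  · exact Or.inl h3
  · exact Or.inr (sub_eq_zero.1 h3)

include hF in
theorem norm_inj {a b : F} (hab : a * szθ m a = b * szθ m b) : a = b := by
  by_cases hb : b = 0
  · rw [hb, szθ_zero, mul_zero] at hab
    rcases mul_eq_zero.1 hab with h | h
    · rw [h, hb]
    · rw [szθ_eq_zero m h, hb]
  · have hθb : szθ m b ≠ 0 := szθ_ne_zero m hb
    have h1 : (a / b) * szθ m (a / b) = 1 := by
      rw [szθ_div]
      field_simp
      exact hab
    have := sz_norm_eq_one hF h1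
    field_simp at this
    exact this

/-- the Artin–Schreier-like map attached to `θ` -/
noncomputable def asHom (hF : Fintype.card F = 2 ^ (2 * m + 1)) : F →+ F where
  toFun u := szθ m u + u
  map_zero' := by rw [szθ_zero, add_zero]
  map_add' u v := by rw [szθ_add hF]; ring

include hF in
/-- every element is, up to adding one, of the form `θ u + u` -/
theorem as_cover (δ : F) : ∃ u : F, szθ m u + u = δ ∨ szθ m u + u = δ + 1 := by
  have h2 := sz_two hF
  have hneg : ∀ a : F, -a = a := by
    intro a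
    have : a + a = 0 := by rw [← two_mul, h2, zero_mul]
    exact neg_eq_of_add_eq_zero_left this
  set f := asHom (m := m) hF with hf
  have hfa : ∀ u, f u = szθ m u + u := fun u => rfl
  -- the kernel
  have hker : ∀ u : F, u ∈ f.ker ↔ u = 0 ∨ u = 1 := by
    intro u
    rw [AddMonoidHom.mem_ker, hfa]
    constructor
    · intro h
      apply szθ_fixed hF
      have := eq_neg_of_add_eq_zero_left h
      rw [this, hneg]
    · rintro (rfl | rfl)
      · rw [szθ_zero, add_zero]
      · rw [szθ_one, ← two_mul, h2, zero_mul]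
  have hcardker : Nat.card f.ker = 2 := by
    rw [Nat.card_eq_two_iff]
    refine ⟨⟨0, (hker 0).2 (Or.inl rfl)⟩, ⟨1, (hker 1).2 (Or.inr rfl)⟩, ?_, ?_⟩
    · intro h
      exact zero_ne_one (congrArg Subtype.val h)
    · ext u
      simp only [Set.mem_insert_iff, Set.mem_singleton_iff, Set.mem_univ, iff_true]
      rcases (hker u.1).1 u.2 with h | h
      · left; exact Subtype.ext h
      · right; exact Subtype.ext h
  -- one is not in the range
  have hone : (1 : F) ∉ f.range := by
    rintro ⟨u, hu⟩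
    rw [hfa] at hu
    have h1 : szθ m u = u + 1 := by
      have : szθ m u = 1 - u := eq_sub_of_add_eq hu
      rw [this, sub_eq_add_neg, hneg, add_comm]
    have h3 : szθ m (szθ m u) = u := by
      rw [h1, szθ_add hF, szθ_one, h1, add_assoc, ← two_mul, h2, zero_mul, add_zero]
    rw [szθ_szθ hF] at h3
    have h4 : u * (u - 1) = 0 := by
      rw [mul_sub, mul_one, ← pow_two, h3, sub_self]
    have h5 : szθ m u + u = 0 := by
      rcases mul_eq_zero.1 h4 with h | h
      · rw [h, szθ_zero, add_zero]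
      · rw [sub_eq_zero.1 h, szθ_one, ← two_mul, h2, zero_mul]
    rw [h5] at hu
    exact zero_ne_one hu
  -- the range has index two
  have hindex : f.range.index = 2 := by
    have e1 := AddSubgroup.card_mul_index f.ker
    rw [AddSubgroup.index_ker, hcardker] at e1
    have e2 := AddSubgroup.card_mul_index f.range
    rw [← e1] at e2
    have hpos : 0 < Nat.card f.range := Nat.card_pos
    have : Nat.card f.range * f.range.index = Nat.card f.range * 2 := by
      rw [e2]; ring
    exact Nat.eq_of_mul_eq_mul_left hpos this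
  obtain ⟨a₀, ha₀⟩ := AddSubgroup.index_eq_two_iff.1 hindex
  by_cases hδ : δ ∈ f.range
  · obtain ⟨u, hu⟩ := hδ
    exact ⟨u, Or.inl hu⟩
  · have h1 : δ + a₀ ∈ f.range := by
      rcases ha₀ δ with ⟨h, _⟩ | ⟨h, _⟩
      · exact h
      · exact absurd h hδ
    have h2' : 1 + a₀ ∈ f.range := by
      rcases ha₀ 1 with ⟨h, _⟩ | ⟨h, _⟩
      · exact h
      · exact absurd h hone
    have h3 : δ + 1 ∈ f.range := by
      have := f.range.sub_mem h1 h2'
      have e : δ + a₀ - (1 + a₀) = δ + 1 := by
        rw [sub_eq_add_neg, hneg]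
        have : a₀ + a₀ = 0 := by rw [← two_mul, h2, zero_mul]
        calc δ + a₀ + (1 + a₀) = δ + 1 + (a₀ + a₀) := by ring
          _ = δ + 1 := by rw [this, add_zero]
      rwa [e] at this
    obtain ⟨u, hu⟩ := h3
    exact ⟨u, Or.inr hu⟩

include hF in
/-- translations with the same first coordinate are conjugate up to inversion -/
theorem gT_conj_or_inv {a : F} (ha : a ≠ 0) (b b₀ : F) :
    ∃ c : F, gT hF c 0 * gT hF a b * (gT hF c 0)⁻¹ = gT hF a b₀ ∨
      gT hF c 0 * gT hF a b * (gT hF c 0)⁻¹ = (gT hF a b₀)⁻¹ := by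
  have h2 := sz_two hF
  have hθa : szθ m a ≠ 0 := szθ_ne_zero m ha
  have hconj : ∀ c : F, gT hF c 0 * gT hF a b * (gT hF c 0)⁻¹ =
      gT hF a (b + (szθ m c * a + szθ m a * c)) := by
    intro c
    have h1 : gT hF c 0 * gT hF a b * (gT hF c 0)⁻¹ = ⁅gT hF c 0, gT hF a b⁆ * gT hF a b := by
      rw [commutatorElement_def]
      group
    rw [h1, gT_comm, gT_mul, szθ_zero, zero_mul, zero_add, add_zero, add_comm]
  obtain ⟨u, hu⟩ := as_cover (m := m) hF ((b + b₀) / (a * szθ m a))
  refine ⟨a * u, ?_⟩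
  rw [hconj, gT_inv]
  have hne : a * szθ m a ≠ 0 := mul_ne_zero ha hθa
  have key : szθ m (a * u) * a + szθ m a * (a * u) = (a * szθ m a) * (szθ m u + u) := by
    rw [szθ_mul]; ring
  have hbb : ∀ t : F, b + (b + t) = t := by
    intro t
    rw [← add_assoc, ← two_mul, h2, zero_mul, zero_add]
  rcases hu with hu | hu
  · left
    rw [key, hu, mul_div_cancel₀ _ hne, hbb]
  · right
    rw [key, hu, mul_add, mul_div_cancel₀ _ hne, mul_one, add_assoc, hbb]

include hF in
theorem gT_gD_unique {a b a' b' : F} {k k' : Fˣ}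
    (h : gT hF a b * gD hF k = gT hF a' b' * gD hF k') : a = a' ∧ b = b' ∧ k = k' := by
  have h1 := congrArg (fun g : Sz F m => g • oPt m (0 : F) 0) h
  simp only [mul_smul, gD_oZero, gT_oZero] at h1
  obtain ⟨rfl, rfl⟩ := szPt_inj m (congrArg Subtype.val h1)
  refine ⟨rfl, rfl, ?_⟩
  have h3 : gD hF k = gD hF k' := mul_left_cancel h
  exact szD_injective hF (congrArg Subtype.val h3)

include hF hm in
/-- the square roots of a central translation -/
theorem sqrt_gT {a : F} (ha : a ≠ 0) {y : Sz F m} (hy : y * y = gT hF 0 (szθ m a * a)) :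
    ∃ b : F, y = gT hF a b := by
  have h2 := sz_two hF
  have he : szθ m a * a ≠ 0 := mul_ne_zero (szθ_ne_zero m ha) ha
  have hne : ¬ ((0 : F) = 0 ∧ szθ m a * a = 0) := fun h => he h.2
  have hfix : y • oInf F m = oInf F m := by
    apply gT_fixed hF hne
    rw [← hy, ← mul_smul]
    have : y * y * y = y * (y * y) := by group
    rw [this, hy, mul_smul, gT_oInf]
  obtain ⟨a', b', k, rfl⟩ := stab_decomp hF hm hfix
  obtain ⟨a'', b'', e⟩ := stab_mul_form hF a' b' a' b' k k
  rw [e] at hy
  have hy' : gT hF a'' b'' * gD hF (k * k) = gT hF 0 (szθ m a * a) * gD hF 1 := by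
    rw [hy, gD_one, mul_one]
  obtain ⟨_, _, hk⟩ := gT_gD_unique hF hy'
  have hk1 : k = 1 := by
    apply Units.ext
    apply sz_sq_eq_one hF
    rw [pow_two, ← Units.val_mul, hk, Units.val_one]
  subst hk1
  rw [gD_one, mul_one] at e ⊢
  refine ⟨b', ?_⟩
  have h3 : gT hF a' b' * gT hF a' b' = gT hF 0 (szθ m a' * a') := by
    rw [gT_mul]
    congr 1
    · rw [← two_mul, h2, zero_mul]
    · rw [← two_mul, h2, zero_mul, zero_add]
  rw [mul_one, gD_one, mul_one] at hy
  rw [mul_one, gD_one, mul_one, h3, hy] at e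
  have h4 := (gT_injective hF e).2
  have : a' = a := by
    apply norm_inj hF
    rw [mul_comm a', mul_comm a]
    exact h4
  rw [this]

end Cfsg.Agent.Lib.helper3
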