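import Mathlib
import Cfsg.Prelude.Def_LieExceptional
import Cfsg.Agent.Lib.helper3.SuzukiSolN

set_option autoImplicit false

namespace Cfsg.Agent.Lib.helper3

open Cfsg Matrix
open scoped Pointwise

variable {F : Type*} [Field F] [Fintype F] {m : ℕ} (hF : Fintype.card F = 2 ^ (2 * m + 1))
  (hm : 1 ≤ m)

omit [Fintype F] in
theorem mem_NC_conj (g : Sz F m) {x w : Sz F m} (h : x ∈ NC w) :
    g * x * g⁻¹ ∈ NC (g * w * g⁻¹) := by
  show g * x * g⁻¹ ∈ Subgroup.normalizer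
    ((Subgroup.centralizer ({g * w * g⁻¹} : Set (Sz F m)) : Subgroup (Sz F m)) : Set (Sz F m))
  rw [centralizer_conj_eq, ← Subgroup.map_equiv_normalizer_eq]
  exact ⟨x, h, rfl⟩

omit [Fintype F] in
theorem sOne_conj (g x : Sz F m) : sOne (g * x * g⁻¹) = sOne x := by
  unfold sOne
  apply Nat.card_congr
  refine (Equiv.subtypeEquiv (MulAut.conj g).toEquiv ?_).symm
  intro w
  show (Fpf w ∧ x ∈ NC w) ↔ (Fpf (g * w * g⁻¹) ∧ g * x * g⁻¹ ∈ NC (g * w * g⁻¹))
  constructor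
  · rintro ⟨h1, h2⟩
    exact ⟨h1.conj g, mem_NC_conj g h2⟩
  · rintro ⟨h1, h2⟩
    have e1 : g⁻¹ * (g * w * g⁻¹) * g⁻¹⁻¹ = w := by group
    have e2 : g⁻¹ * (g * x * g⁻¹) * g⁻¹⁻¹ = x := by group
    have h3 := mem_NC_conj g⁻¹ h2
    rw [e1, e2] at h3
    refine ⟨?_, h3⟩
    have h4 := h1.conj g⁻¹
    rwa [e1] at h4

omit [Fintype F] in
theorem sOne_inv (x : Sz F m) : sOne x⁻¹ = sOne x := by
  unfold sOne
  apply Nat.card_congr
  apply Equiv.subtypeEquivRight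
  intro w
  rw [Subgroup.inv_mem_iff]

include hF in
theorem sOne_gT_const {a : F} (ha : a ≠ 0) (b b₀ : F) :
    sOne (gT hF a b) = sOne (gT hF a b₀) := by
  obtain ⟨c, hc | hc⟩ := gT_conj_or_inv hF ha b b₀
  · rw [← hc, sOne_conj]
  · rw [← sOne_inv (gT hF a b₀), ← hc, sOne_conj]

include hF hm in
/-- the number of tori of order `q ± r + 1` normalised by an element of order four -/
theorem sOne_gT {a : F} (ha : a ≠ 0) (b₀ : F) :
    sOne (gT hF a b₀) = (2 ^ (2 * m + 1)) ^ 2 := by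
  have hfin : Finite (Sz F m) := finite_Sz hF hm
  have he : szθ m a * a ≠ 0 := mul_ne_zero (szθ_ne_zero m ha) ha
  set z : Sz F m := gT hF 0 (szθ m a * a) with hz
  have hz1 : z ≠ 1 := gT_zero_ne_one hF he
  have hz2 : z * z = 1 := gT_zero_sq hF _
  have hsq : ∀ b : F, gT hF a b * gT hF a b = z := fun b => gT_sq hF a b
  -- first count
  have h1 : ∀ b : F, True →
      Nat.card {w : Sz F m // (Fpf w ∧ z * w * z⁻¹ = w⁻¹) ∧ gT hF a b ∈ NC w} =
        sOne (gT hF a b₀) := by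
    intro b _
    rw [← sOne_gT_const hF ha b b₀]
    unfold sOne
    apply Nat.card_congr
    apply Equiv.subtypeEquivRight
    intro w
    constructor
    · rintro ⟨⟨h1, _⟩, h3⟩
      exact ⟨h1, h3⟩
    · rintro ⟨h1, h3⟩
      refine ⟨⟨h1, ?_⟩, h3⟩
      have hzN : z ∈ NC w := by
        rw [← hsq b]
        exact (NC w).mul_mem h3 h3
      exact invol_inverts_torus hF hm (h1.isTorus_centralizer hF hm) hzN hz1 hz2
        (Subgroup.mem_centralizer_singleton_iff.2 rfl)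
  -- second count
  have h2 : ∀ w : Sz F m, (Fpf w ∧ z * w * z⁻¹ = w⁻¹) →
      Nat.card {b : F // True ∧ gT hF a b ∈ NC w} = 2 := by
    rintro w ⟨hw, hinv⟩
    have hzN : z ∈ NC w := hw.mem_NC_of_inverts hF hm hinv
    rw [← hw.card_sqrt hF hm hz1 hz2 hzN]
    apply Nat.card_congr
    refine Equiv.ofBijective
      (fun b => ⟨gT hF a b.1, b.2.2, hsq b.1⟩) ⟨?_, ?_⟩
    · intro b b' h
      apply Subtype.ext
      exact (gT_injective hF (congrArg Subtype.val h)).2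
    · rintro ⟨y, hyN, hy⟩
      obtain ⟨b, rfl⟩ := sqrt_gT hF hm ha hy
      exact ⟨⟨b, trivial, hyN⟩, rfl⟩
  have key := double_count_natCard (α := F) (β := Sz F m) (fun _ => True)
    (fun w => Fpf w ∧ z * w * z⁻¹ = w⁻¹) (fun b w => gT hF a b ∈ NC w)
    (sOne (gT hF a b₀)) 2 h1 h2
  have hcF : Nat.card {b : F // True} = 2 ^ (2 * m + 1) := by
    rw [Nat.card_congr (Equiv.subtypeUnivEquiv (fun _ => trivial)), Nat.card_eq_fintype_card, hF]
  have h3 := card_inverted_fpf hF hm hz1 hz2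
  rw [hcF] at key
  have hpos : 0 < 2 ^ (2 * m + 1) := pow_pos (by norm_num) _
  apply Nat.eq_of_mul_eq_mul_left hpos
  rw [key, mul_comm, h3]
  ring

include hF hm in
/-- the solubilizer of an element of order four -/
theorem card_sol_four (hp' : (2 * m + 1).Prime) {x : Sz F m} (hx2 : x * x ≠ 1)
    (hx4 : (x * x) * (x * x) = 1) :
    Nat.card {y : Sz F m // Group.IsSolvable (Subgroup.closure ({x, y} : Set (Sz F m)))} =
      (2 ^ (2 * m + 1)) ^ 2 * (2 ^ (2 * m + 1) + 3) := by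
  have hfin : Finite (Sz F m) := finite_Sz hF hm
  obtain ⟨hodd1, hodd2, hcop⟩ := sz_orders_arith m
  have hx1 : x ≠ 1 := by
    rintro rfl
    exact hx2 (mul_one 1)
  have ho4 : orderOf x ∣ 4 := by
    apply orderOf_dvd_of_pow_eq_one
    rw [← mul_self_mul_self_eq_pow_four, hx4]
  rcases elt_type hF hm hx1 with ⟨_, w, a, b, hab, rfl⟩ | ⟨h1, _⟩ | ⟨h2, _⟩
  · have ha : a ≠ 0 := by
      intro ha
      apply hx2
      subst ha
      calc w * gT hF 0 b * w⁻¹ * (w * gT hF 0 b * w⁻¹)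
          = w * (gT hF 0 b * gT hF 0 b) * w⁻¹ := by group
        _ = 1 := by rw [gT_zero_sq]; group
    rw [card_sol_four_eq hF hm hp' hx2 hx4, sOne_conj, sOne_gT hF hm ha]
    have h1 : 1 ≤ 2 ^ (2 * m + 1) := Nat.one_le_two_pow
    obtain ⟨k, hk⟩ : ∃ k, 2 ^ (2 * m + 1) = k + 1 := ⟨2 ^ (2 * m + 1) - 1, by omega⟩
    rw [hk]
    simp only [Nat.add_sub_cancel]
    ring
  · exact absurd (orderOf_eq_one_of_dvd_coprime ho4 h1 (coprime_four_of_odd hodd1)) hx1
  · exact absurd (orderOf_eq_one_of_dvd_coprime ho4 h2 (coprime_four_of_odd hodd2)) hx1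

end Cfsg.Agent.Lib.helper3
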