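import Mathlib
import Cfsg.Prelude.Def_LieExceptional
import Cfsg.Agent.Lib.helper3.SuzukiSolO

set_option autoImplicit false

namespace Cfsg.Agent.Lib.helper3

open Cfsg Matrix
open scoped Pointwise

section general

variable {G : Type*} [Group G]

/-- conjugacy of two elements -/
def Cj (x y : G) : Prop := ∃ u : G, y = u * x * u⁻¹

theorem Cj.refl (x : G) : Cj x x := ⟨1, by group⟩

theorem Cj.symm {x y : G} (h : Cj x y) : Cj y x := by
  obtain ⟨u, rfl⟩ := h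
  exact ⟨u⁻¹, by group⟩

theorem Cj.trans {x y z : G} (h : Cj x y) (h' : Cj y z) : Cj x z := by
  obtain ⟨u, rfl⟩ := h
  obtain ⟨v, rfl⟩ := h'
  exact ⟨v * u, by group⟩

theorem Cj.conj (x u : G) : Cj x (u * x * u⁻¹) := ⟨u, rfl⟩

theorem Cj.inv {x y : G} (h : Cj x y) : Cj x⁻¹ y⁻¹ := by
  obtain ⟨u, rfl⟩ := h
  exact ⟨u, by group⟩

theorem Cj.mul_self {x y : G} (h : Cj x y) : Cj (x * x) (y * y) := by
  obtain ⟨u, rfl⟩ := h
  exact ⟨u, by group⟩

theorem Cj.ne_one {x y : G} (h : Cj x y) (hx : x ≠ 1) : y ≠ 1 := by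
  obtain ⟨u, rfl⟩ := h
  intro h1
  apply hx
  calc x = u⁻¹ * (u * x * u⁻¹) * u := by group
    _ = 1 := by rw [h1]; group

/-- `g` is a product of two conjugates of `x` -/
def Cov (x g : G) : Prop := ∃ u v : G, g = (u * x * u⁻¹) * (v * x * v⁻¹)

theorem Cov.of_mul {x x₁ x₂ : G} (h1 : Cj x x₁) (h2 : Cj x x₂) : Cov x (x₁ * x₂) := by
  obtain ⟨u, rfl⟩ := h1
  obtain ⟨v, rfl⟩ := h2
  exact ⟨u, v, rfl⟩

theorem Cov.conj_right {x g g' : G} (h : Cov x g) (hg : Cj g g') : Cov x g' := by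
  obtain ⟨u, v, rfl⟩ := h
  obtain ⟨w, rfl⟩ := hg
  exact ⟨w * u, w * v, by group⟩

theorem Cov.conj_left {x x' g : G} (h : Cov x g) (hx : Cj x x') : Cov x' g := by
  obtain ⟨u, v, rfl⟩ := h
  obtain ⟨w, rfl⟩ := hx
  exact ⟨u * w⁻¹, v * w⁻¹, by group⟩

end general

variable {F : Type*} [Field F] [Fintype F] {m : ℕ} (hF : Fintype.card F = 2 ^ (2 * m + 1))
  (hm : 1 ≤ m)

include hF hm in
/-- a nonidentity element moves some point of the ovoid -/
theorem exists_moved {x : Sz F m} (hx : x ≠ 1) : ∃ p : suzukiOvoid F m, x • p ≠ p := by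
  rcases sz_trichotomy hF hm hx with ⟨u, a, b, hab, rfl⟩ | ⟨u, k, hk, rfl⟩ | hf
  · refine ⟨u • oPt m (0 : F) 0, ?_⟩
    intro h
    rw [mul_smul, mul_smul, inv_smul_smul] at h
    have h1 : gT hF a b • oPt m (0 : F) 0 = oPt m 0 0 := smul_left_cancel u h
    exact oPt_ne_oInf (m := m) (0 : F) 0 (gT_fixed hF hab h1)
  · refine ⟨u • oPt m (1 : F) 0, ?_⟩
    intro h
    rw [mul_smul, mul_smul, inv_smul_smul] at h
    have h1 : gD hF k • oPt m (1 : F) 0 = oPt m 1 0 := smul_left_cancel u h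
    rcases gD_fixed hF hk h1 with h2 | h2
    · exact oPt_ne_oInf (m := m) (1 : F) 0 h2
    · have := (szPt_inj m (congrArg Subtype.val h2)).1
      exact one_ne_zero this
  · exact ⟨oInf F m, hf _⟩

include hF hm in
/-- two-transitivity, in a normalised form -/
theorem exists_map_pair {p p' : suzukiOvoid F m} (h : p ≠ p') :
    ∃ g : Sz F m, g • p = oPt m (0 : F) 0 ∧ g • p' = oInf F m := by
  obtain ⟨h₁, hp'⟩ := ovoid_eq_smul_inf hF p'
  have hq : h₁⁻¹ • p ≠ oInf F m := by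
    intro hq
    apply h
    rw [hp', ← hq, smul_inv_smul]
  rcases ovoid_cases (h₁⁻¹ • p) with hq' | ⟨x, y, hq'⟩
  · exact absurd hq' hq
  · refine ⟨(gT hF x y)⁻¹ * h₁⁻¹, ?_, ?_⟩
    · rw [mul_smul, hq', inv_smul_eq_iff, gT_oZero]
    · rw [mul_smul, hp', inv_smul_smul, inv_smul_eq_iff, gT_oInf]

include hF in
theorem gD_ne_one {k : Fˣ} (hk : k ≠ 1) : gD hF k ≠ 1 := by
  intro h
  apply hk
  rw [← gD_one hF] at h
  exact szD_injective hF (congrArg Subtype.val h)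

include hF in
/-- conjugating a Bruhat normal form by a torus element -/
theorem gD_conj_bruhat (c k : Fˣ) (a b : F) :
    gD hF c * (gT hF a b * gD hF k * gJ hF) * (gD hF c)⁻¹ =
      gT hF ((c : F) ^ 2 * a) ((c : F) ^ 2 * szθ m (c : F) ^ 2 * b) * gD hF (c * k * c) * gJ hF := by
  have e1 : gJ hF * (gD hF c)⁻¹ = gD hF c * gJ hF := by
    rw [gD_inv, gJ_gD, inv_inv]
  calc gD hF c * (gT hF a b * gD hF k * gJ hF) * (gD hF c)⁻¹
      = (gD hF c * gT hF a b) * gD hF k * (gJ hF * (gD hF c)⁻¹) := by group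
    _ = (gT hF ((c : F) ^ 2 * a) ((c : F) ^ 2 * szθ m (c : F) ^ 2 * b) * gD hF c) * gD hF k *
          (gD hF c * gJ hF) := by rw [gD_gT, e1]
    _ = gT hF ((c : F) ^ 2 * a) ((c : F) ^ 2 * szθ m (c : F) ^ 2 * b) *
          (gD hF c * gD hF k * gD hF c) * gJ hF := by group
    _ = _ := by rw [← gD_mul, ← gD_mul]

include hF hm in
/-- every nonidentity class contains Bruhat normal forms with prescribed torus part -/
theorem exists_bruhat_conj {x : Sz F m} (hx : x ≠ 1) (d : Fˣ) :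
    ∃ a b : F, Cj x (gT hF a b * gD hF d * gJ hF) := by
  obtain ⟨p, hp⟩ := exists_moved hF hm hx
  obtain ⟨h, h1, h2⟩ := exists_map_pair hF hm (Ne.symm hp)
  -- `x' = h x h⁻¹` maps the zero point to infinity
  have hx' : (h * x * h⁻¹ * gJ hF) • oInf F m = oInf F m := by
    rw [mul_smul, gJ_oInf, ← h1, mul_smul, mul_smul, inv_smul_smul, h2]
  obtain ⟨a, b, k, hk⟩ := stab_decomp hF hm hx'
  have hxe : h * x * h⁻¹ = gT hF a b * gD hF k * gJ hF := by
    calc h * x * h⁻¹ = (h * x * h⁻¹ * gJ hF) * gJ hF := by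
          rw [mul_assoc _ (gJ hF), gJ_mul_self, mul_one]
      _ = gT hF a b * gD hF k * gJ hF := by rw [hk]
  obtain ⟨c, hc⟩ := exists_sqrt_unit hF (d * k⁻¹)
  refine ⟨(c : F) ^ 2 * a, (c : F) ^ 2 * szθ m (c : F) ^ 2 * b, ?_⟩
  have hckc : c * k * c = d := by
    calc c * k * c = (c * c) * k := by rw [mul_comm c k, mul_assoc, mul_comm k]
      _ = d := by rw [hc, inv_mul_cancel_right]
  refine (Cj.conj x h).trans ?_
  rw [hxe, ← hckc, ← gD_conj_bruhat]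
  exact Cj.conj _ _

include hF in
theorem cj_gD_of_borel (a b : F) {k : Fˣ} (hk : k ≠ 1) : Cj (gD hF k) (gT hF a b * gD hF k) := by
  obtain ⟨x, y, e⟩ := exists_conj_gD hF a b hk
  exact ⟨gT hF x y, e⟩

include hF hm in
/-- torus elements are products of two conjugates of any nonidentity element -/
theorem cov_gD {x : Sz F m} (hx : x ≠ 1) {l : Fˣ} (hl : l ≠ 1) : Cov x (gD hF l) := by
  obtain ⟨a₁, b₁, h₁⟩ := exists_bruhat_conj hF hm hx l
  obtain ⟨a₂, b₂, h₂⟩ := exists_bruhat_conj hF hm hx 1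
  rw [gD_one, mul_one] at h₂
  have h₂' : Cj x (gJ hF * gT hF a₂ b₂) := by
    refine h₂.trans ⟨gJ hF, ?_⟩
    rw [gJ_inv]
    calc gJ hF * gT hF a₂ b₂ = gJ hF * gT hF a₂ b₂ * (gJ hF * gJ hF) := by
          rw [gJ_mul_self, mul_one]
      _ = gJ hF * (gT hF a₂ b₂ * gJ hF) * gJ hF := by group
  have hcov := Cov.of_mul h₁ h₂'
  have e : gT hF a₁ b₁ * gD hF l * gJ hF * (gJ hF * gT hF a₂ b₂) =
      gT hF a₁ b₁ * gT hF ((l : F) ^ 2 * a₂) ((l : F) ^ 2 * szθ m (l : F) ^ 2 * b₂) * gD hF l := by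
    calc gT hF a₁ b₁ * gD hF l * gJ hF * (gJ hF * gT hF a₂ b₂)
        = gT hF a₁ b₁ * gD hF l * (gJ hF * gJ hF) * gT hF a₂ b₂ := by group
      _ = gT hF a₁ b₁ * (gD hF l * gT hF a₂ b₂) := by rw [gJ_mul_self, mul_one, mul_assoc]
      _ = _ := by rw [gD_gT]; group
  rw [e, gT_mul] at hcov
  exact hcov.conj_right (cj_gD_of_borel hF _ _ hl).symm

include hF hm in
/-- every nonidentity element is a product of two conjugates of a nonidentity torus element -/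
theorem cov_of_gD {k : Fˣ} (hk : k ≠ 1) {g : Sz F m} (hg : g ≠ 1) : Cov (gD hF k) g := by
  obtain ⟨a, b, hg'⟩ := exists_bruhat_conj hF hm hg k
  obtain ⟨a₁, b₁, h₁⟩ := exists_bruhat_conj hF hm (gD_ne_one hF hk) 1
  rw [gD_one, mul_one] at h₁
  -- second factor
  have h₂ : Cj (gD hF k) ((gT hF a₁ b₁ * gJ hF)⁻¹ * (gT hF a b * gD hF k * gJ hF)) := by
    have e : (gT hF a₁ b₁ * gJ hF)⁻¹ * (gT hF a b * gD hF k * gJ hF) =
        gJ hF * ((gT hF a₁ b₁)⁻¹ * gT hF a b * gD hF k) * (gJ hF)⁻¹ := by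
      rw [_root_.mul_inv_rev, gJ_inv]
      group
    rw [e, gT_inv, gT_mul]
    exact (cj_gD_of_borel hF _ _ hk).trans (Cj.conj _ _)
  have hcov := Cov.of_mul h₁ h₂
  rw [mul_inv_cancel_left] at hcov
  exact hcov.conj_right hg'.symm

end Cfsg.Agent.Lib.helper3
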