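import Mathlib
import Cfsg.Prelude.Def_LieExceptional
import Cfsg.Agent.Lib.helper3.SuzukiCovA

set_option autoImplicit false

namespace Cfsg.Agent.Lib.helper3

open Cfsg Matrix
open scoped Pointwise

variable {F : Type*} [Field F] [Fintype F] {m : ℕ} (hF : Fintype.card F = 2 ^ (2 * m + 1))
  (hm : 1 ≤ m)

include hF in
/-- the norm map is onto -/
theorem exists_norm_eq (c : F) : ∃ e : F, e * szθ m e = c := by
  have hinj : Function.Injective (fun e : F => e * szθ m e) := fun a b h => norm_inj hF h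
  exact Finite.surjective_of_injective hinj c

include hF in
/-- square roots in the field -/
theorem exists_sqrt_field (c : F) : ∃ e : F, e ^ 2 = c := by
  have h2 := sz_two hF
  have hchar : CharP F 2 := CharTwo.of_one_ne_zero_of_two_eq_zero one_ne_zero h2
  obtain ⟨r, hr⟩ := isSquare_of_charTwo' c
  exact ⟨r, by rw [pow_two, hr]⟩

include hF in
/-- the scaling factors of the torus on the centre are all nonzero elements -/
theorem exists_nu_eq {c : F} (hc : c ≠ 0) :
    ∃ k : Fˣ, (k : F) ^ 2 * szθ m (k : F) ^ 2 = c := by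
  obtain ⟨r, hr⟩ := exists_sqrt_field hF c
  obtain ⟨e, he⟩ := exists_norm_eq (m := m) hF r
  have he0 : e ≠ 0 := by
    rintro rfl
    rw [zero_mul] at he
    rw [← he] at hr
    apply hc
    rw [← hr]
    ring
  refine ⟨Units.mk0 e he0, ?_⟩
  rw [Units.val_mk0, ← mul_pow, he, hr]

include hF in
/-- translations with nonzero first coordinates are conjugate to ones with any prescribed
nonzero first coordinate -/
theorem cj_gT_scale {a a' : F} (ha : a ≠ 0) (ha' : a' ≠ 0) (b : F) :
    ∃ b' : F, Cj (gT hF a b) (gT hF a' b') := by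
  obtain ⟨r, hr⟩ := exists_sqrt_field hF (a' / a)
  have hr0 : r ≠ 0 := by
    rintro rfl
    have : a' / a = 0 := by rw [← hr]; ring
    exact div_ne_zero ha' ha this
  refine ⟨(r ^ 2 * szθ m r ^ 2 * b), ⟨gD hF (Units.mk0 r hr0), ?_⟩⟩
  rw [gD_conj_gT, Units.val_mk0, hr, div_mul_cancel₀ _ ha]

include hF in
/-- conjugating a translation by a translation with zero second coordinate -/
theorem gT_conj_gT (c a b : F) :
    gT hF c 0 * gT hF a b * (gT hF c 0)⁻¹ = gT hF a (b + (szθ m c * a + szθ m a * c)) := by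
  have h2 := sz_two hF
  rw [gT_inv, gT_mul, gT_mul]
  congr 1
  · linear_combination c * h2
  · rw [szθ_add hF]
    linear_combination (c * szθ m c) * h2

include hF in
/-- an element of order four of the translation group is, up to inversion, conjugate to any
other one -/
theorem order_four_cases {a a' : F} (ha : a ≠ 0) (ha' : a' ≠ 0) (b b' : F) :
    Cj (gT hF a b) (gT hF a' b') ∨ Cj (gT hF a b)⁻¹ (gT hF a' b') := by
  obtain ⟨b'', hb''⟩ := cj_gT_scale hF ha ha' b
  obtain ⟨c, hc | hc⟩ := gT_conj_or_inv hF ha' b'' b'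
  · left
    exact hb''.trans ⟨gT hF c 0, hc.symm⟩
  · right
    have h1 : Cj (gT hF a b) (gT hF a' b')⁻¹ := hb''.trans ⟨gT hF c 0, hc.symm⟩
    have h2 := h1.inv
    rwa [inv_inv] at h2

include hF in
theorem as_ne_one (u : F) : szθ m u + u ≠ 1 := by
  have h2 := sz_two hF
  intro hu
  have hneg : ∀ a : F, -a = a := by
    intro a
    have : a + a = 0 := by rw [← two_mul, h2, zero_mul]
    exact neg_eq_of_add_eq_zero_left this
  have h1 : szθ m u = u + 1 := by
    have : szθ m u = 1 - u := eq_sub_of_add_eq hu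
    rw [this, sub_eq_add_neg, hneg, add_comm]
  have h3 : szθ m (szθ m u) = u := by
    rw [h1, szθ_add hF, szθ_one, h1, add_assoc, ← two_mul, h2, zero_mul, add_zero]
  rw [szθ_szθ hF] at h3
  have h4 : u * (u - 1) = 0 := by
    rw [mul_sub, mul_one, ← pow_two, h3, sub_self]
  have h5 : szθ m u + u = 0 := by
    rcases mul_eq_zero.1 h4 with h | h
    · rw [h, szθ_zero, add_zero]
    · rw [sub_eq_zero.1 h, szθ_one, ← two_mul, h2, zero_mul]
  rw [h5] at hu
  exact zero_ne_one hu

include hF hm in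
/-- there is an element of the field other than `0` and `1` -/
theorem exists_ne_zero_one : ∃ u : F, u ≠ 0 ∧ u ≠ 1 := by
  have hcard : 2 < Fintype.card F := by
    rw [hF]
    calc 2 < 2 ^ 2 := by norm_num
      _ ≤ 2 ^ (2 * m + 1) := Nat.pow_le_pow_right (by norm_num) (by omega)
  obtain ⟨a, b, c, hab, hac, hbc⟩ := Fintype.two_lt_card_iff.1 hcard
  by_cases ha0 : a = 0
  · by_cases hb1 : b = 1
    · refine ⟨c, ?_, ?_⟩
      · rw [← ha0]; exact Ne.symm hac
      · rw [← hb1]; exact Ne.symm hbc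
    · refine ⟨b, ?_, hb1⟩
      rw [← ha0]; exact Ne.symm hab
  · by_cases ha1 : a = 1
    · by_cases hb0 : b = 0
      · refine ⟨c, ?_, ?_⟩
        · rw [← hb0]; exact Ne.symm hbc
        · rw [← ha1]; exact Ne.symm hac
      · refine ⟨b, hb0, ?_⟩
        rw [← ha1]; exact Ne.symm hab
    · exact ⟨a, ha0, ha1⟩

include hF hm in
/-- the square of the class of an element of order four contains all elements of order four -/
theorem cov_four_four {a₀ a' : F} (ha₀ : a₀ ≠ 0) (ha' : a' ≠ 0) (b₀ b' : F) :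
    Cov (gT hF a₀ b₀) (gT hF a' b') := by
  have h2 := sz_two hF
  obtain ⟨u₀, hu0, hu1⟩ := exists_ne_zero_one (F := F) hF hm
  set w₀ := szθ m u₀ + u₀ with hw₀
  have hw0 : w₀ ≠ 0 := by
    intro h
    have h1 : szθ m u₀ = u₀ := by
      have : szθ m u₀ = -u₀ := eq_neg_of_add_eq_zero_left h
      rw [this]
      have : u₀ + u₀ = 0 := by rw [← two_mul, h2, zero_mul]
      exact neg_eq_of_add_eq_zero_left this
    rcases szθ_fixed hF h1 with h | h
    · exact hu0 h
    · exact hu1 h
  have hw1 : w₀ ≠ 1 := as_ne_one hF u₀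
  obtain ⟨e, he⟩ := exists_norm_eq (m := m) hF w₀
  have he0 : e ≠ 0 := by
    rintro rfl
    rw [zero_mul] at he
    exact hw0 he.symm
  have he1 : e ≠ 1 := by
    rintro rfl
    rw [szθ_one, mul_one] at he
    exact hw1 he.symm
  have he1' : e + 1 ≠ 0 := by
    intro h
    apply he1
    have : e = -1 := eq_neg_of_add_eq_zero_left h
    rw [this]
    have : (1 : F) + 1 = 0 := by rw [← two_mul, h2, zero_mul]
    exact neg_eq_of_add_eq_zero_left this
  set a := (e + 1)⁻¹ with ha
  have ha0 : a ≠ 0 := inv_ne_zero he1'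
  have hae : a * e = a + 1 := by
    have : a * (e + 1) = 1 := inv_mul_cancel₀ he1'
    calc a * e = a * (e + 1) + a := by
          rw [mul_add, mul_one, add_assoc, ← two_mul, h2, zero_mul, add_zero]
      _ = a + 1 := by rw [this, add_comm]
  have ha1 : a + 1 ≠ 0 := by
    rw [← hae]
    exact mul_ne_zero ha0 he0
  -- the two factors
  obtain ⟨b₂, hx₂⟩ := cj_gT_scale hF ha₀ (one_ne_zero (α := F)) b₀
  obtain ⟨b₁, hx₁⟩ := cj_gT_scale hF ha₀ ha0 b₀
  have hx₁' : Cj (gT hF a₀ b₀) (gT hF a (b₁ + (szθ m (a * u₀) * a + szθ m a * (a * u₀)))) := by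
    rw [← gT_conj_gT]
    exact hx₁.trans (Cj.conj _ _)
  have hc1 := Cov.of_mul hx₁ hx₂
  have hc2 := Cov.of_mul hx₁' hx₂
  rw [gT_mul] at hc1 hc2
  have hinv : gT hF (a + 1) (b₁ + (szθ m (a * u₀) * a + szθ m a * (a * u₀)) + b₂ + szθ m a * 1) =
      (gT hF (a + 1) (b₁ + b₂ + szθ m a * 1))⁻¹ := by
    rw [gT_inv]
    congr 1
    have e1 : szθ m (a * u₀) * a + szθ m a * (a * u₀) = (a + 1) * szθ m (a + 1) := by
      have e2 : (a + 1) * szθ m (a + 1) = a * szθ m a * (szθ m u₀ + u₀) := by
        rw [← hae, szθ_mul]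
        calc a * e * (szθ m a * szθ m e) = a * szθ m a * (e * szθ m e) := by ring
          _ = _ := by rw [he]
      rw [e2, szθ_mul]
      ring
    rw [e1]
    ring
  rw [hinv] at hc2
  rcases order_four_cases hF ha1 ha' (b₁ + b₂ + szθ m a * 1) b' with h | h
  · exact hc1.conj_right h
  · exact hc2.conj_right h

include hF in
/-- involutions of the centre of the translation group are conjugate -/
theorem cj_gT_zero {c c' : F} (hc : c ≠ 0) (hc' : c' ≠ 0) : Cj (gT hF 0 c) (gT hF 0 c') := by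
  obtain ⟨k, hk⟩ := exists_nu_eq (m := m) hF (div_ne_zero hc' hc)
  refine ⟨gD hF k, ?_⟩
  rw [gD_conj_gT, mul_zero, hk, div_mul_cancel₀ _ hc]

include hF in
/-- the square of the class of an element of order four contains the involutions -/
theorem cov_four_invol {a : F} (ha : a ≠ 0) (b : F) {c : F} (hc : c ≠ 0) :
    Cov (gT hF a b) (gT hF 0 c) := by
  have h1 : Cov (gT hF a b) (gT hF a b * gT hF a b) := Cov.of_mul (Cj.refl _) (Cj.refl _)
  rw [gT_sq] at h1
  exact h1.conj_right (cj_gT_zero hF (mul_ne_zero (szθ_ne_zero m ha) ha) hc)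

end Cfsg.Agent.Lib.helper3
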