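import Mathlib
import Cfsg.Prelude.Def_LieExceptional
import Cfsg.Agent.Lib.helper3.SuzukiCovB

set_option autoImplicit false

namespace Cfsg.Agent.Lib.helper3

open Cfsg Matrix
open scoped Pointwise

variable {F : Type*} [Field F] [Fintype F] {m : ℕ} (hF : Fintype.card F = 2 ^ (2 * m + 1))
  (hm : 1 ≤ m)

/-- the central involutions of the opposite translation group -/
noncomputable def zm (hF : Fintype.card F = 2 ^ (2 * m + 1)) (b : F) : Sz F m :=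
  gJ hF * gT hF 0 b * gJ hF

include hF in
theorem gT_zero_comm (a b c : F) : gT hF a b * gT hF 0 c = gT hF 0 c * gT hF a b := by
  rw [gT_mul, gT_mul, szθ_zero, zero_mul, mul_zero, add_zero, add_zero, zero_add, add_zero,
    add_comm b c]

include hF in
theorem zm_mul_self (b : F) : zm hF b * zm hF b = 1 := by
  unfold zm
  calc gJ hF * gT hF 0 b * gJ hF * (gJ hF * gT hF 0 b * gJ hF)
      = gJ hF * gT hF 0 b * (gJ hF * gJ hF) * gT hF 0 b * gJ hF := by group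
    _ = gJ hF * (gT hF 0 b * gT hF 0 b) * gJ hF := by rw [gJ_mul_self, mul_one]; group
    _ = 1 := by rw [gT_zero_sq, mul_one, gJ_mul_self]

include hF in
theorem gJ_ne_one : gJ hF ≠ 1 := by
  intro h
  have h1 := gJ_oInf (m := m) hF
  rw [h, one_smul] at h1
  exact oPt_ne_oInf (m := m) (0 : F) 0 h1.symm

include hF hm in
/-- all involutions are conjugate -/
theorem invol_conj {z z' : Sz F m} (h1 : z ≠ 1) (h2 : z * z = 1) (h1' : z' ≠ 1)
    (h2' : z' * z' = 1) : Cj z z' := by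
  obtain ⟨x, b, hb, rfl⟩ := invol_eq_conj hF hm h1 h2
  obtain ⟨x', b', hb', rfl⟩ := invol_eq_conj hF hm h1' h2'
  exact ((Cj.conj _ x).symm.trans (cj_gT_zero hF hb hb')).trans (Cj.conj _ x')

include hF hm in
/-- a fixed-point-free element is inverted by an involution -/
theorem Fpf.exists_invol_inverts {w : Sz F m} (hw : Fpf w) :
    ∃ z : Sz F m, z ≠ 1 ∧ z * z = 1 ∧ z * w * z⁻¹ = w⁻¹ := by
  obtain ⟨f, hfN, hf1, hf2⟩ := hw.exists_order_four hF hm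
  refine ⟨f * f, hf1, hf2, ?_⟩
  exact invol_inverts_torus hF hm (hw.isTorus_centralizer hF hm) ((NC w).mul_mem hfN hfN) hf1 hf2
    (Subgroup.mem_centralizer_singleton_iff.2 rfl)

include hF hm in
/-- a fixed-point-free element is a product of two involutions -/
theorem Fpf.exists_pair {w : Sz F m} (hw : Fpf w) :
    ∃ z z₂ : Sz F m, z ≠ 1 ∧ z * z = 1 ∧ z₂ ≠ 1 ∧ z₂ * z₂ = 1 ∧ w = z * z₂ := by
  obtain ⟨z, hz1, hz2, hinv⟩ := hw.exists_invol_inverts hF hm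
  have hzi : z⁻¹ = z := inv_eq_of_mul_eq_one_left hz2
  refine ⟨z, z * w, hz1, hz2, ?_, ?_, ?_⟩
  · intro h
    have hwz : w = z := by
      calc w = z⁻¹ * (z * w) := by group
        _ = z := by rw [h, mul_one, hzi]
    obtain ⟨p, hp, _⟩ := invol_fixed_unique hF hm hz1 hz2
    rw [← hwz] at hp
    exact hw p hp
  · calc z * w * (z * w) = (z * w * z⁻¹) * w := by rw [hzi]; group
      _ = 1 := by rw [hinv, inv_mul_cancel]
  · rw [← mul_assoc, hz2, one_mul]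

include hF hm in
/-- the first normal form of a fixed-point-free element as a product of two involutions -/
theorem Fpf.exists_pair_std {w : Sz F m} (hw : Fpf w) :
    ∃ b b' : F, b ≠ 0 ∧ b' ≠ 0 ∧ Cj w (gT hF 0 b * zm hF b') := by
  obtain ⟨z, z₂, hz1, hz2, hz₂1, hz₂2, rfl⟩ := hw.exists_pair hF hm
  obtain ⟨p₁, hp₁, _⟩ := invol_fixed_unique hF hm hz1 hz2
  obtain ⟨p₂, hp₂, _⟩ := invol_fixed_unique hF hm hz₂1 hz₂2
  have hne : p₂ ≠ p₁ := by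
    intro h
    apply hw p₁
    rw [mul_smul, ← h, hp₂, h, hp₁]
  obtain ⟨g, hg2, hg1⟩ := exists_map_pair hF hm hne
  -- the first involution
  have hz' : (g * z * g⁻¹) • oInf F m = oInf F m := by
    rw [mul_smul, mul_smul, ← hg1, inv_smul_smul, hp₁]
  have hz'1 : g * z * g⁻¹ ≠ 1 := (Cj.conj z g).ne_one hz1
  have hz'2 : (g * z * g⁻¹) * (g * z * g⁻¹) = 1 := by
    calc (g * z * g⁻¹) * (g * z * g⁻¹) = g * (z * z) * g⁻¹ := by group
      _ = 1 := by rw [hz2]; group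
  obtain ⟨b, hb, hzb⟩ := invol_fix_inf hF hm hz'1 hz'2 hz'
  -- the second involution
  have hz₂' : (gJ hF * (g * z₂ * g⁻¹) * gJ hF) • oInf F m = oInf F m := by
    rw [mul_smul, mul_smul, gJ_oInf, mul_smul, mul_smul, ← hg2, inv_smul_smul, hp₂, hg2, gJ_oZero]
  have hz₂'1 : gJ hF * (g * z₂ * g⁻¹) * gJ hF ≠ 1 := by
    have : Cj z₂ (gJ hF * (g * z₂ * g⁻¹) * gJ hF) := by
      refine (Cj.conj z₂ g).trans ⟨gJ hF, ?_⟩
      rw [gJ_inv]
    exact this.ne_one hz₂1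
  have hz₂'2 : (gJ hF * (g * z₂ * g⁻¹) * gJ hF) * (gJ hF * (g * z₂ * g⁻¹) * gJ hF) = 1 := by
    calc (gJ hF * (g * z₂ * g⁻¹) * gJ hF) * (gJ hF * (g * z₂ * g⁻¹) * gJ hF)
        = gJ hF * (g * z₂ * g⁻¹) * (gJ hF * gJ hF) * (g * z₂ * g⁻¹) * gJ hF := by group
      _ = gJ hF * (g * (z₂ * z₂) * g⁻¹) * gJ hF := by rw [gJ_mul_self, mul_one]; group
      _ = 1 := by rw [hz₂2, mul_one, mul_inv_cancel, mul_one, gJ_mul_self]
  obtain ⟨b', hb', hzb'⟩ := invol_fix_inf hF hm hz₂'1 hz₂'2 hz₂'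
  refine ⟨b, b', hb, hb', ⟨g, ?_⟩⟩
  have e : g * z₂ * g⁻¹ = zm hF b' := by
    unfold zm
    rw [← hzb']
    calc g * z₂ * g⁻¹ = (gJ hF * gJ hF) * (g * z₂ * g⁻¹) * (gJ hF * gJ hF) := by
          rw [gJ_mul_self, one_mul, mul_one]
      _ = _ := by group
  rw [← hzb, ← e]
  group

include hF in
/-- the torus scales pairs of opposite central involutions -/
theorem pair_scale (k : Fˣ) (b b' : F) :
    gD hF k * (gT hF 0 b * zm hF b') * (gD hF k)⁻¹ =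
      gT hF 0 ((k : F) ^ 2 * szθ m (k : F) ^ 2 * b) *
        zm hF (((k⁻¹ : Fˣ) : F) ^ 2 * szθ m ((k⁻¹ : Fˣ) : F) ^ 2 * b') := by
  have e1 : gD hF k * gJ hF = gJ hF * gD hF k⁻¹ := by
    have := gJ_gD hF k⁻¹
    rw [inv_inv] at this
    exact this.symm
  have e2 : gJ hF * (gD hF k)⁻¹ = gD hF k * gJ hF := by
    rw [gD_inv, e1]
  have e3 : gD hF k * zm hF b' * (gD hF k)⁻¹ =
      zm hF (((k⁻¹ : Fˣ) : F) ^ 2 * szθ m ((k⁻¹ : Fˣ) : F) ^ 2 * b') := by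
    unfold zm
    calc gD hF k * (gJ hF * gT hF 0 b' * gJ hF) * (gD hF k)⁻¹
        = (gD hF k * gJ hF) * gT hF 0 b' * (gJ hF * (gD hF k)⁻¹) := by group
      _ = gJ hF * (gD hF k⁻¹ * gT hF 0 b' * (gD hF k⁻¹)⁻¹) * gJ hF := by
          rw [e1, e2, gD_inv, inv_inv]; group
      _ = _ := by rw [gD_conj_gT, mul_zero]
  calc gD hF k * (gT hF 0 b * zm hF b') * (gD hF k)⁻¹
      = (gD hF k * gT hF 0 b * (gD hF k)⁻¹) * (gD hF k * zm hF b' * (gD hF k)⁻¹) := by group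
    _ = _ := by rw [e3, gD_conj_gT, mul_zero]

include hF in
/-- pairs of opposite central involutions with the same invariant are conjugate -/
theorem pair_conj {b b' c c' : F} (hb : b ≠ 0) (hc : c ≠ 0)
    (h : b * b' = c * c') : Cj (gT hF 0 b * zm hF b') (gT hF 0 c * zm hF c') := by
  obtain ⟨k, hk⟩ := exists_nu_eq (m := m) hF (div_ne_zero hc hb)
  refine ⟨gD hF k, ?_⟩
  rw [pair_scale]
  have e1 : (k : F) ^ 2 * szθ m (k : F) ^ 2 * b = c := by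
    rw [hk, div_mul_cancel₀ _ hb]
  have e2 : ((k⁻¹ : Fˣ) : F) ^ 2 * szθ m ((k⁻¹ : Fˣ) : F) ^ 2 * b' = c' := by
    have hk' : ((k⁻¹ : Fˣ) : F) ^ 2 * szθ m ((k⁻¹ : Fˣ) : F) ^ 2 = b / c := by
      rw [Units.val_inv_eq_inv_val, ← one_div, szθ_div, szθ_one, div_pow, div_pow, one_pow,
        div_mul_div_comm, one_mul, hk, one_div, inv_div]
    rw [hk', div_mul_eq_mul_div, h, mul_div_cancel_left₀ _ hc]
  rw [e1, e2]

include hF hm in
/-- products of two conjugates of a product of two opposite central involutions -/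
theorem cov_pair_pair {b₁' b₂' c c' : F} (hb₁' : b₁' ≠ 0) (hb₂' : b₂' ≠ 0) (hc : c ≠ 0)
    (hc' : c' ≠ 0) : Cov (gT hF 0 b₂' * zm hF b₁') (gT hF 0 c * zm hF c') := by
  have h2 := sz_two hF
  set t := gT hF (1 : F) 0 with ht
  set s := gJ hF * t * gJ hF with hs
  -- decompose `s`
  have hsinf : s • oInf F m ≠ oInf F m := by
    intro h
    rw [hs, mul_smul, mul_smul, gJ_oInf, ht, gT_oZero] at h
    have h' : oPt m (1 : F) 0 = gJ hF • oInf F m := by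
      rw [← h, ← mul_smul, gJ_mul_self, one_smul]
    rw [gJ_oInf] at h'
    exact one_ne_zero (szPt_inj m (congrArg Subtype.val h')).1
  obtain ⟨a₁, e₁, a₂, e₂, k, hk⟩ : ∃ (a b a' b' : F) (k : Fˣ),
      s = gT hF a b * gJ hF * (gT hF a' b' * gD hF k) := by
    rcases full_decomp hF hm s with ⟨a, b, k, h⟩ | h
    · exfalso
      apply hsinf
      rw [h, mul_smul, gD_oInf, gT_oInf]
    · exact h
  set ν := (k : F) ^ 2 * szθ m (k : F) ^ 2 with hν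
  have hν0 : ν ≠ 0 :=
    mul_ne_zero (pow_ne_zero _ k.ne_zero) (pow_ne_zero _ (szθ_ne_zero m k.ne_zero))
  -- conjugating a central involution by `s`
  have hconj : ∀ b : F, s * gT hF 0 b * s⁻¹ = gT hF a₁ e₁ * zm hF (ν * b) * (gT hF a₁ e₁)⁻¹ := by
    intro b
    have e1 : gT hF a₂ e₂ * gD hF k * gT hF 0 b * (gT hF a₂ e₂ * gD hF k)⁻¹ = gT hF 0 (ν * b) := by
      calc gT hF a₂ e₂ * gD hF k * gT hF 0 b * (gT hF a₂ e₂ * gD hF k)⁻¹
          = gT hF a₂ e₂ * (gD hF k * gT hF 0 b * (gD hF k)⁻¹) * (gT hF a₂ e₂)⁻¹ := by group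
        _ = gT hF a₂ e₂ * gT hF 0 (ν * b) * (gT hF a₂ e₂)⁻¹ := by rw [gD_conj_gT, mul_zero]
        _ = gT hF 0 (ν * b) := by rw [gT_zero_comm, mul_inv_cancel_right]
    unfold zm
    rw [← e1, hk]
    have : (gJ hF)⁻¹ = gJ hF := gJ_inv hF
    simp only [_root_.mul_inv_rev, this]
    group
  -- the parameters
  obtain ⟨b₁, hb₁⟩ := exists_sqrt_field hF (c * c' / ν)
  have hb₁0 : b₁ ≠ 0 := by
    rintro rfl
    have : c * c' / ν = 0 := by rw [← hb₁]; ring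
    exact div_ne_zero (mul_ne_zero hc hc') hν0 this
  set b₂ := b₁' * b₂' / b₁ with hb₂
  have hb₂0 : b₂ ≠ 0 := div_ne_zero (mul_ne_zero hb₁' hb₂') hb₁0
  -- the two factors
  have hx₁' : Cj (gT hF 0 b₂' * zm hF b₁') (gT hF 0 b₂ * zm hF b₁) := by
    apply pair_conj hF hb₂' hb₂0
    rw [hb₂, div_mul_cancel₀ _ hb₁0, mul_comm]
  have hx₁ : Cj (gT hF 0 b₂' * zm hF b₁') (zm hF b₁ * gT hF 0 b₂) := by
    refine hx₁'.trans ⟨(gT hF 0 b₂)⁻¹, ?_⟩
    group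
  have hx₂ : Cj (gT hF 0 b₂' * zm hF b₁') (t * (gT hF 0 b₂ * zm hF b₁) * t⁻¹) :=
    hx₁'.trans (Cj.conj _ _)
  have hcov := Cov.of_mul hx₁ hx₂
  -- compute the product
  have hprod : zm hF b₁ * gT hF 0 b₂ * (t * (gT hF 0 b₂ * zm hF b₁) * t⁻¹) =
      gJ hF * (gT hF 0 b₁ * (s * gT hF 0 b₁ * s⁻¹)) * (gJ hF)⁻¹ := by
    have e1 : gT hF 0 b₂ * t = t * gT hF 0 b₂ := (gT_zero_comm hF 1 0 b₂).symm
    have e2 : zm hF b₁ * gT hF 0 b₂ * (t * (gT hF 0 b₂ * zm hF b₁) * t⁻¹) =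
        zm hF b₁ * t * zm hF b₁ * t⁻¹ := by
      calc zm hF b₁ * gT hF 0 b₂ * (t * (gT hF 0 b₂ * zm hF b₁) * t⁻¹)
          = zm hF b₁ * (gT hF 0 b₂ * t) * gT hF 0 b₂ * zm hF b₁ * t⁻¹ := by group
        _ = zm hF b₁ * t * (gT hF 0 b₂ * gT hF 0 b₂) * zm hF b₁ * t⁻¹ := by rw [e1]; group
        _ = _ := by rw [gT_zero_sq, mul_one]
    rw [e2]
    have hsi : s⁻¹ = gJ hF * t⁻¹ * gJ hF := by
      rw [hs, _root_.mul_inv_rev, _root_.mul_inv_rev, gJ_inv, mul_assoc]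
    rw [hsi, hs, gJ_inv]
    unfold zm
    have hJ : gJ hF * gJ hF = 1 := gJ_mul_self hF
    calc gJ hF * gT hF 0 b₁ * gJ hF * t * (gJ hF * gT hF 0 b₁ * gJ hF) * t⁻¹
        = gJ hF * gT hF 0 b₁ * gJ hF * t * (gJ hF * gT hF 0 b₁ * gJ hF) * t⁻¹ * (gJ hF * gJ hF) := by
          rw [hJ, mul_one]
      _ = _ := by group
  rw [hprod, hconj] at hcov
  have h3 : Cj (gJ hF * (gT hF 0 b₁ * (gT hF a₁ e₁ * zm hF (ν * b₁) * (gT hF a₁ e₁)⁻¹)) * (gJ hF)⁻¹)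
      (gT hF 0 c * zm hF c') := by
    refine (Cj.conj _ (gJ hF)).symm.trans ?_
    have e : gT hF 0 b₁ * (gT hF a₁ e₁ * zm hF (ν * b₁) * (gT hF a₁ e₁)⁻¹) =
        gT hF a₁ e₁ * (gT hF 0 b₁ * zm hF (ν * b₁)) * (gT hF a₁ e₁)⁻¹ := by
      calc gT hF 0 b₁ * (gT hF a₁ e₁ * zm hF (ν * b₁) * (gT hF a₁ e₁)⁻¹)
          = (gT hF 0 b₁ * gT hF a₁ e₁) * zm hF (ν * b₁) * (gT hF a₁ e₁)⁻¹ := by group
        _ = (gT hF a₁ e₁ * gT hF 0 b₁) * zm hF (ν * b₁) * (gT hF a₁ e₁)⁻¹ := by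
            rw [gT_zero_comm]
        _ = _ := by group
    rw [e]
    refine (Cj.conj _ _).symm.trans ?_
    apply pair_conj hF hb₁0 hc
    calc b₁ * (ν * b₁) = ν * b₁ ^ 2 := by ring
      _ = c * c' := by rw [hb₁, mul_div_cancel₀ _ hν0]
  exact hcov.conj_right h3

end Cfsg.Agent.Lib.helper3
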