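import Mathlib
import Cfsg.Prelude.Def_LieExceptional
import Cfsg.Agent.Lib.helper3.SuzukiCovC

set_option autoImplicit false

namespace Cfsg.Agent.Lib.helper3

open Cfsg Matrix
open scoped Pointwise

variable {F : Type*} [Field F] [Fintype F] {m : ℕ} (hF : Fintype.card F = 2 ^ (2 * m + 1))
  (hm : 1 ≤ m)

include hF hm in
/-- an element fixing three distinct points is trivial -/
theorem eq_one_of_three_fixed {g : Sz F m} {p p' p'' : suzukiOvoid F m} (h1 : p ≠ p')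
    (h2 : p ≠ p'') (h3 : p' ≠ p'') (hp : g • p = p) (hp' : g • p' = p') (hp'' : g • p'' = p'') :
    g = 1 := by
  obtain ⟨h, hh1, hh2⟩ := exists_map_pair hF hm h1
  have hinf : (h * g * h⁻¹) • oInf F m = oInf F m := by
    rw [mul_smul, mul_smul, ← hh2, inv_smul_smul, hp']
  have hzero : (h * g * h⁻¹) • oPt m (0 : F) 0 = oPt m 0 0 := by
    rw [mul_smul, mul_smul, ← hh1, inv_smul_smul, hp]
  obtain ⟨k, hk⟩ := two_point_stab hF hm hinf hzero
  have hq : (h * g * h⁻¹) • (h • p'') = h • p'' := by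
    rw [mul_smul, mul_smul, inv_smul_smul, hp'']
  have hk1 : k = 1 := by
    by_contra hk1
    rw [hk] at hq
    rcases gD_fixed hF hk1 hq with h' | h'
    · rw [← hh2] at h'
      exact h3 (smul_left_cancel h h').symm
    · rw [← hh1] at h'
      exact h2 (smul_left_cancel h h').symm
  rw [hk1, gD_one] at hk
  calc g = h⁻¹ * (h * g * h⁻¹) * h := by group
    _ = 1 := by rw [hk]; group

include hF hm in
/-- the first factor of a product of a central involution and a fixed involution is determined by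
the conjugacy class of the product -/
theorem pair_unique {b b' : F} {z : Sz F m} (hz1 : z ≠ 1) (hz2 : z * z = 1)
    (hzinf : z • oInf F m ≠ oInf F m) (hw : Fpf (gT hF 0 b * z))
    (h : Cj (gT hF 0 b * z) (gT hF 0 b' * z)) : b = b' := by
  have hfin : Finite (Sz F m) := finite_Sz hF hm
  obtain ⟨h, hh⟩ := h
  have hw' : Fpf (gT hF 0 b' * z) := hh ▸ hw.conj h
  obtain ⟨pz, hpz, hpzu⟩ := invol_fixed_unique hF hm hz1 hz2
  have hb : b ≠ 0 := by
    rintro rfl
    apply hw pz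
    rw [gT_zero, one_mul, hpz]
  have hb' : b' ≠ 0 := by
    rintro rfl
    apply hw' pz
    rw [gT_zero, one_mul, hpz]
  obtain ⟨w', hw'def⟩ : ∃ w', w' = gT hF 0 b' * z := ⟨_, rfl⟩
  rw [← hw'def] at hw' hh
  have hT' := hw'.isTorus_centralizer hF hm
  obtain ⟨T', hT'def⟩ : ∃ T', T' = Subgroup.centralizer ({w'} : Set (Sz F m)) := ⟨_, rfl⟩
  rw [← hT'def] at hT'
  -- the four involutions
  obtain ⟨j₁, hj₁⟩ : ∃ j₁, j₁ = gT hF 0 b' := ⟨_, rfl⟩
  obtain ⟨i₁, hi₁⟩ : ∃ i₁, i₁ = h * gT hF 0 b * h⁻¹ := ⟨_, rfl⟩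
  obtain ⟨i₂, hi₂⟩ : ∃ i₂, i₂ = h * z * h⁻¹ := ⟨_, rfl⟩
  have hwj : w' = j₁ * z := by rw [hw'def, hj₁]
  have hj₁1 : j₁ ≠ 1 := by rw [hj₁]; exact gT_zero_ne_one hF hb'
  have hj₁2 : j₁ * j₁ = 1 := by rw [hj₁]; exact gT_zero_sq hF b'
  have hi₁1 : i₁ ≠ 1 := by rw [hi₁]; exact (Cj.conj _ h).ne_one (gT_zero_ne_one hF hb)
  have hi₁2 : i₁ * i₁ = 1 := by
    calc i₁ * i₁ = h * (gT hF 0 b * gT hF 0 b) * h⁻¹ := by rw [hi₁]; group
      _ = 1 := by rw [gT_zero_sq]; group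
  have hi₂2 : i₂ * i₂ = 1 := by
    calc i₂ * i₂ = h * (z * z) * h⁻¹ := by rw [hi₂]; group
      _ = 1 := by rw [hz2]; group
  have hi12 : i₁ * i₂ = w' := by
    rw [hh, hi₁, hi₂]
    group
  have hjN := invol_mul_inverts (x := j₁) (z := z) hj₁2 hz2
  rw [← hwj] at hjN
  have hiN := invol_mul_inverts (x := i₁) (z := i₂) hi₁2 hi₂2
  rw [hi12] at hiN
  have hj₁N : j₁ ∈ NC w' := hw'.mem_NC_of_inverts hF hm hjN.1
  have hzN : z ∈ NC w' := hw'.mem_NC_of_inverts hF hm hjN.2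
  have hi₁N : i₁ ∈ NC w' := hw'.mem_NC_of_inverts hF hm hiN.1
  have hj₁N' : j₁ ∈ Subgroup.normalizer (T' : Set (Sz F m)) := by rw [hT'def]; exact hj₁N
  have hzN' : z ∈ Subgroup.normalizer (T' : Set (Sz F m)) := by rw [hT'def]; exact hzN
  have hi₁N' : i₁ ∈ Subgroup.normalizer (T' : Set (Sz F m)) := by rw [hT'def]; exact hi₁N
  -- the torus element relating them
  obtain ⟨t, ht⟩ : ∃ t, t = i₁ * j₁ := ⟨_, rfl⟩
  have htT : t ∈ T' := by
    rw [ht]
    exact invol_mul_mem_torus hF hm hT' hi₁N' hi₁1 hi₁2 hj₁N' hj₁1 hj₁2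
  have hodd : Odd (orderOf t) :=
    Odd.of_dvd_nat (odd_card_torus hm hT') (Subgroup.orderOf_dvd_natCard _ htT)
  obtain ⟨n, hn⟩ := hodd
  obtain ⟨s, hs⟩ : ∃ s, s = t ^ (n + 1) := ⟨_, rfl⟩
  have hsT : s ∈ T' := by rw [hs]; exact T'.pow_mem htT _
  have hss : s * s = t := by
    rw [hs, ← pow_add]
    have : n + 1 + (n + 1) = orderOf t + 1 := by omega
    rw [this, pow_succ, pow_orderOf_eq_one, one_mul]
  have hj₁i : j₁⁻¹ = j₁ := inv_eq_of_mul_eq_one_left hj₁2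
  have hzi : z⁻¹ = z := inv_eq_of_mul_eq_one_left hz2
  have hi₁i : i₁⁻¹ = i₁ := inv_eq_of_mul_eq_one_left hi₁2
  have hinv1 := invol_inverts_torus hF hm hT' hj₁N' hj₁1 hj₁2 hsT
  have hinv2 := invol_inverts_torus hF hm hT' hzN' hz1 hz2 hsT
  have hsj : s * j₁ * s⁻¹ = i₁ := by
    have e : j₁ * s⁻¹ * j₁⁻¹ = s := by
      calc j₁ * s⁻¹ * j₁⁻¹ = (j₁ * s * j₁⁻¹)⁻¹ := by
            simp only [_root_.mul_inv_rev, inv_inv, mul_assoc]
        _ = s := by rw [hinv1, inv_inv]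
    calc s * j₁ * s⁻¹ = s * (j₁ * s⁻¹ * j₁⁻¹) * j₁ := by
          simp only [mul_assoc, inv_mul_cancel, mul_one]
      _ = (s * s) * j₁ := by rw [e]
      _ = i₁ := by rw [hss, ht, mul_assoc, hj₁2, mul_one]
  have hsz : s * z * s⁻¹ = i₂ := by
    have e : z * s⁻¹ * z⁻¹ = s := by
      calc z * s⁻¹ * z⁻¹ = (z * s * z⁻¹)⁻¹ := by
            simp only [_root_.mul_inv_rev, inv_inv, mul_assoc]
        _ = s := by rw [hinv2, inv_inv]
    have e2 : i₂ = t * z := by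
      calc i₂ = i₁⁻¹ * (i₁ * i₂) := by rw [inv_mul_cancel_left]
        _ = i₁ * (j₁ * z) := by rw [hi12, hi₁i, hwj]
        _ = t * z := by rw [ht, mul_assoc]
    calc s * z * s⁻¹ = s * (z * s⁻¹ * z⁻¹) * z := by
          simp only [mul_assoc, inv_mul_cancel, mul_one]
      _ = (s * s) * z := by rw [e]
      _ = i₂ := by rw [hss, e2]
  -- the element conjugating one pair to the other
  obtain ⟨g₀, hg₀⟩ : ∃ g₀, g₀ = s⁻¹ * h := ⟨_, rfl⟩
  have hg1 : g₀ * gT hF 0 b * g₀⁻¹ = gT hF 0 b' := by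
    calc g₀ * gT hF 0 b * g₀⁻¹ = s⁻¹ * (h * gT hF 0 b * h⁻¹) * s := by rw [hg₀]; group
      _ = s⁻¹ * (s * j₁ * s⁻¹) * s := by rw [hsj, hi₁]
      _ = gT hF 0 b' := by rw [hj₁]; group
  have hg2 : g₀ * z * g₀⁻¹ = z := by
    calc g₀ * z * g₀⁻¹ = s⁻¹ * (h * z * h⁻¹) * s := by rw [hg₀]; group
      _ = s⁻¹ * (s * z * s⁻¹) * s := by rw [hsz, hi₂]
      _ = z := by group
  -- `g₀` fixes three points
  have hfix1 : g₀ • oInf F m = oInf F m := by
    have h3 : gT hF 0 b • (g₀⁻¹ • oInf F m) = g₀⁻¹ • oInf F m := by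
      have e : gT hF 0 b = g₀⁻¹ * gT hF 0 b' * g₀ := by rw [← hg1]; group
      rw [e, mul_smul, mul_smul, smul_inv_smul, gT_oInf]
    have h4 := gT_fixed hF (a := 0) (b := b) (fun h => hb h.2) h3
    calc g₀ • oInf F m = g₀ • (g₀⁻¹ • oInf F m) := by rw [h4]
      _ = oInf F m := smul_inv_smul _ _
  have hcomm : g₀ * z = z * g₀ := by
    calc g₀ * z = (g₀ * z * g₀⁻¹) * g₀ := by group
      _ = z * g₀ := by rw [hg2]
  have hfix2 : g₀ • pz = pz := by
    apply hpzu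
    rw [← mul_smul, ← hcomm, mul_smul, hpz]
  have hfix3 : g₀ • (z • oInf F m) = z • oInf F m := by
    rw [← mul_smul, hcomm, mul_smul, hfix1]
  have hne1 : oInf F m ≠ pz := by
    intro h
    apply hzinf
    rw [h, hpz]
  have hne3 : pz ≠ z • oInf F m := by
    intro h
    apply hne1
    have : z • pz = z • (z • oInf F m) := congrArg (fun q => z • q) h
    rw [hpz, ← mul_smul, hz2, one_smul] at this
    exact this.symm
  have hg₀1 : g₀ = 1 := eq_one_of_three_fixed hF hm hne1 (Ne.symm hzinf) hne3 hfix1 hfix2 hfix3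
  rw [hg₀1, one_mul, inv_one, mul_one] at hg1
  exact (gT_injective hF hg1).2

/-- the conjugates of `x` sending the zero point to the point at infinity -/
def SS (hF : Fintype.card F = 2 ^ (2 * m + 1)) (x : Sz F m) : Type _ :=
  {h : Sz F m // Cj x h ∧ h • oPt m (0 : F) 0 = oInf F m}

include hF hm in
/-- the class equation for a single class -/
theorem card_class_mul (x : Sz F m) :
    Nat.card {h : Sz F m // Cj x h} * cOrd x = Nat.card (Sz F m) := by
  have hfin : Finite (Sz F m) := finite_Sz hF hm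
  have key := double_count_natCard (α := Sz F m) (β := Sz F m) (fun _ => True)
    (fun h => Cj x h) (fun u h => h = u * x * u⁻¹) 1 (cOrd x) ?_ ?_
  · rw [mul_one] at key
    rw [← key]
    exact Nat.card_congr (Equiv.subtypeUnivEquiv (fun _ => trivial))
  · intro u _
    rw [Nat.card_eq_one_iff_unique]
    refine ⟨⟨?_⟩, ⟨⟨u * x * u⁻¹, Cj.conj x u, rfl⟩⟩⟩
    rintro ⟨h, _, rfl⟩ ⟨h', _, rfl⟩
    rfl
  · rintro h ⟨u₀, rfl⟩
    unfold cOrd
    apply Nat.card_congr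
    refine ⟨fun u => ⟨u₀⁻¹ * u.1, ?_⟩, fun c => ⟨u₀ * c.1, trivial, ?_⟩, ?_, ?_⟩
    · apply Subgroup.mem_centralizer_singleton_iff.2
      have e := u.2.2
      calc u₀⁻¹ * u.1 * x = u₀⁻¹ * (u.1 * x * u.1⁻¹) * u.1 := by group
        _ = u₀⁻¹ * (u₀ * x * u₀⁻¹) * u.1 := by rw [← e]
        _ = x * (u₀⁻¹ * u.1) := by group
    · have e := Subgroup.mem_centralizer_singleton_iff.1 c.2
      calc u₀ * x * u₀⁻¹ = u₀ * (x * c.1) * c.1⁻¹ * u₀⁻¹ := by group
        _ = u₀ * (c.1 * x) * c.1⁻¹ * u₀⁻¹ := by rw [e]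
        _ = u₀ * c.1 * x * (u₀ * c.1)⁻¹ := by group
    · intro u
      apply Subtype.ext
      show u₀ * (u₀⁻¹ * u.1) = u.1
      group
    · intro c
      apply Subtype.ext
      show u₀⁻¹ * (u₀ * c.1) = c.1
      group

include hF hm in
/-- the class of a fixed-point-free element, counted by the image of the zero point -/
theorem card_class_eq {x : Sz F m} (hx : Fpf x) :
    Nat.card {h : Sz F m // Cj x h} = Nat.card (SS hF x) * (2 ^ (2 * m + 1)) ^ 2 := by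
  have hfin : Finite (Sz F m) := finite_Sz hF hm
  have key := double_count_natCard (α := Sz F m) (β := F × F) (fun h => Cj x h)
    (fun _ => True) (fun h ae => h • oPt m (0 : F) 0 = gJ hF • oPt m ae.1 ae.2) 1
    (Nat.card (SS hF x)) ?_ ?_
  · rw [mul_one] at key
    rw [key, Nat.card_congr (Equiv.subtypeUnivEquiv (fun _ => trivial)), Nat.card_prod,
      Nat.card_eq_fintype_card, hF, mul_comm]
    ring
  · rintro h ⟨u, rfl⟩
    have hf : Fpf (u * x * u⁻¹) := hx.conj u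
    have hne : gJ hF • ((u * x * u⁻¹) • oPt m (0 : F) 0) ≠ oInf F m := by
      intro h'
      apply hf (oPt m (0 : F) 0)
      rw [← gJ_oZero hF] at h'
      exact smul_left_cancel _ h'
    rcases ovoid_cases (gJ hF • ((u * x * u⁻¹) • oPt m (0 : F) 0)) with h' | ⟨a, e, h'⟩
    · exact absurd h' hne
    · have h'' : (u * x * u⁻¹) • oPt m (0 : F) 0 = gJ hF • oPt m a e := by
        rw [← h', ← mul_smul, gJ_mul_self, one_smul]
      rw [Nat.card_eq_one_iff_unique]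
      refine ⟨⟨?_⟩, ⟨⟨(a, e), trivial, h''⟩⟩⟩
      rintro ⟨⟨a₁, e₁⟩, _, h₁⟩ ⟨⟨a₂, e₂⟩, _, h₂⟩
      apply Subtype.ext
      have h3 : gJ hF • oPt m a₁ e₁ = gJ hF • oPt m a₂ e₂ := by rw [← h₁, ← h₂]
      have h4 := smul_left_cancel _ h3
      obtain ⟨r1, r2⟩ := szPt_inj m (congrArg Subtype.val h4)
      show (a₁, e₁) = (a₂, e₂)
      rw [r1, r2]
  · rintro ⟨a, e⟩ _
    apply Nat.card_congr
    set s := gJ hF * gT hF a e * gJ hF with hs
    have hs0 : s • oPt m (0 : F) 0 = oPt m 0 0 := by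
      rw [hs, mul_smul, mul_smul, gJ_oZero, gT_oInf, gJ_oInf]
    have hsinf : s • oInf F m = gJ hF • oPt m a e := by
      rw [hs, mul_smul, mul_smul, gJ_oInf, gT_oZero]
    refine ⟨fun h => ⟨s⁻¹ * h.1 * s, ?_, ?_⟩, fun h => ⟨s * h.1 * s⁻¹, ?_, ?_⟩, ?_, ?_⟩
    · refine h.2.1.trans ⟨s⁻¹, ?_⟩
      rw [inv_inv]
    · have := h.2.2
      simp only at this
      rw [mul_smul, mul_smul, hs0, this, ← hsinf, inv_smul_smul]
    · exact h.2.1.trans (Cj.conj _ _)
    · show (s * h.1 * s⁻¹) • oPt m (0 : F) 0 = gJ hF • oPt m a e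
      have h0 : s⁻¹ • oPt m (0 : F) 0 = oPt m 0 0 := by
        rw [inv_smul_eq_iff, hs0]
      rw [mul_smul, mul_smul, h0, h.2.2, hsinf]
    · intro h
      apply Subtype.ext
      show s * (s⁻¹ * h.1 * s) * s⁻¹ = h.1
      group
    · intro h
      apply Subtype.ext
      show s⁻¹ * (s * h.1 * s⁻¹) * s = h.1
      group

include hF in
theorem gD_gJ_invol (k : Fˣ) : (gD hF k * gJ hF) * (gD hF k * gJ hF) = 1 := by
  calc (gD hF k * gJ hF) * (gD hF k * gJ hF) = gD hF k * (gJ hF * gD hF k) * gJ hF := by group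
    _ = gD hF k * (gD hF k⁻¹ * gJ hF) * gJ hF := by rw [gJ_gD]
    _ = (gD hF k * gD hF k⁻¹) * (gJ hF * gJ hF) := by group
    _ = 1 := by rw [← gD_mul, mul_inv_cancel, gD_one, gJ_mul_self, mul_one]

include hF in
theorem gD_gJ_oInf (k : Fˣ) : (gD hF k * gJ hF) • oInf F m = oPt m (0 : F) 0 := by
  rw [mul_smul, gJ_oInf, gD_oZero]

include hF hm in
/-- if no conjugate of `x` has a Bruhat form with nonzero first coordinate and trivial torus
part, the special conjugates have a restricted shape -/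
theorem SS_form {x : Sz F m} (hyp : ∀ a b : F, Cj x (gT hF a b * gJ hF) → a = 0) (h : SS hF x) :
    ∃ (b : F) (k : Fˣ), h.1 = gT hF 0 b * gD hF k * gJ hF := by
  have h1 : (h.1 * gJ hF) • oInf F m = oInf F m := by
    rw [mul_smul, gJ_oInf, h.2.2]
  obtain ⟨a, b, k, hk⟩ := stab_decomp hF hm h1
  have he : h.1 = gT hF a b * gD hF k * gJ hF := by
    calc h.1 = (h.1 * gJ hF) * gJ hF := by rw [mul_assoc, gJ_mul_self, mul_one]
      _ = _ := by rw [hk]
  obtain ⟨c, hc⟩ := exists_sqrt_unit hF k⁻¹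
  have hckc : c * k * c = 1 := by
    calc c * k * c = (c * c) * k := by rw [mul_comm c k, mul_assoc, mul_comm k]
      _ = 1 := by rw [hc, inv_mul_cancel]
  have h2 : Cj x (gT hF ((c : F) ^ 2 * a) ((c : F) ^ 2 * szθ m (c : F) ^ 2 * b) * gJ hF) := by
    have := gD_conj_bruhat hF c k a b
    rw [hckc, gD_one, mul_one] at this
    rw [← this, ← he]
    exact h.2.1.trans (Cj.conj _ _)
  have h3 := hyp _ _ h2
  have ha : a = 0 := by
    rcases mul_eq_zero.1 h3 with h4 | h4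
    · exact absurd ((pow_eq_zero_iff two_ne_zero).1 h4) c.ne_zero
    · exact h4
  exact ⟨b, k, by rw [he, ha]⟩

include hF hm in
/-- under the same hypothesis there are few special conjugates -/
theorem card_SS_le {x : Sz F m} (hx : Fpf x)
    (hyp : ∀ a b : F, Cj x (gT hF a b * gJ hF) → a = 0) :
    Nat.card (SS hF x) ≤ 2 ^ (2 * m + 1) - 1 := by
  classical
  have hfin : Finite (Sz F m) := finite_Sz hF hm
  have hcu : Nat.card Fˣ = 2 ^ (2 * m + 1) - 1 := by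
    rw [Nat.card_eq_fintype_card, Fintype.card_units, hF]
  rw [← hcu]
  choose fb fk hfk using SS_form hF hm hyp
  apply Nat.card_le_card_of_injective fk
  intro h h' hkk
  have e1 := hfk h
  have e2 := hfk h'
  rw [hkk] at e1
  set z := gD hF (fk h') * gJ hF with hz
  have hz2 : z * z = 1 := gD_gJ_invol hF _
  have hzinf : z • oInf F m ≠ oInf F m := by
    rw [hz, gD_gJ_oInf]
    exact oPt_ne_oInf (m := m) (0 : F) 0
  have hz1 : z ≠ 1 := by
    intro h1
    apply hzinf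
    rw [h1, one_smul]
  have e1' : h.1 = gT hF 0 (fb h) * z := by rw [e1, hz, mul_assoc]
  have e2' : h'.1 = gT hF 0 (fb h') * z := by rw [e2, hz, mul_assoc]
  have hcj : Cj (gT hF 0 (fb h) * z) (gT hF 0 (fb h') * z) := by
    rw [← e1', ← e2']
    exact h.2.1.symm.trans h'.2.1
  have hw : Fpf (gT hF 0 (fb h) * z) := by
    rw [← e1']
    obtain ⟨u, hu⟩ := h.2.1
    rw [hu]
    exact hx.conj u
  have hbb := pair_unique hF hm hz1 hz2 hzinf hw hcj
  apply Subtype.ext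
  rw [e1', e2', hbb]

theorem cov_arith {Q r S c : ℕ} (hQ : 8 ≤ Q) (hr : r < Q) (hS : S ≤ Q - 1) (hc : c ≤ Q + r + 1)
    (h : S * Q ^ 2 * c = Q ^ 2 * (Q ^ 2 + 1) * (Q - 1)) : False := by
  have hQ2 : 0 < Q ^ 2 := by positivity
  have e1 : S * c = (Q ^ 2 + 1) * (Q - 1) := by
    apply Nat.eq_of_mul_eq_mul_left hQ2
    calc Q ^ 2 * (S * c) = S * Q ^ 2 * c := by ring
      _ = Q ^ 2 * (Q ^ 2 + 1) * (Q - 1) := h
      _ = Q ^ 2 * ((Q ^ 2 + 1) * (Q - 1)) := by ring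
  have e2 : S * c ≤ (Q - 1) * (Q + r + 1) := Nat.mul_le_mul hS hc
  rw [e1] at e2
  have hQ1 : 0 < Q - 1 := by omega
  have e3 : Q ^ 2 + 1 ≤ Q + r + 1 := by
    apply Nat.le_of_mul_le_mul_left _ hQ1
    calc (Q - 1) * (Q ^ 2 + 1) = (Q ^ 2 + 1) * (Q - 1) := by ring
      _ ≤ (Q - 1) * (Q + r + 1) := e2
  nlinarith

include hF hm in
/-- a fixed-point-free element is conjugate to a product of an element of order four and the
standard involution -/
theorem Fpf.exists_four_mul_gJ {x : Sz F m} (hx : Fpf x) :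
    ∃ a b : F, a ≠ 0 ∧ Cj x (gT hF a b * gJ hF) := by
  by_contra hcon
  push Not at hcon
  have hyp : ∀ a b : F, Cj x (gT hF a b * gJ hF) → a = 0 := by
    intro a b h
    by_contra ha
    exact hcon a b ha h
  have h1 := card_class_mul hF hm x
  have h2 := card_class_eq hF hm hx
  have h3 := card_SS_le hF hm hx hyp
  have h4 := card_Sz hm hF
  have h5 := hx.cOrd_eq hF hm
  have hlt : 2 ^ (m + 1) < 2 ^ (2 * m + 1) := Nat.pow_lt_pow_right (by norm_num) (by omega)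
  have h8 : 2 ^ 3 ≤ 2 ^ (2 * m + 1) := Nat.pow_le_pow_right (by norm_num) (by omega)
  rw [h2, h4] at h1
  have hc : cOrd x ≤ 2 ^ (2 * m + 1) + 2 ^ (m + 1) + 1 := by
    clear h1 h2 h3 h4 h8 hyp hcon
    generalize 2 ^ (2 * m + 1) = Q at h5 hlt ⊢
    generalize 2 ^ (m + 1) = r at h5 hlt ⊢
    rcases h5 with h | h <;> rw [h] <;> omega
  exact cov_arith (by norm_num at h8; exact h8) hlt h3 hc h1

end Cfsg.Agent.Lib.helper3
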