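import Mathlib
import Cfsg.Prelude.Def_LieExceptional
import Cfsg.Agent.Lib.helper3.SuzukiCovD
import Cfsg.Agent.Lib.helper3.SuzukiLieIso

set_option autoImplicit false

namespace Cfsg.Agent.Lib.helper3

open Cfsg Matrix
open scoped Pointwise

variable {F : Type*} [Field F] [Fintype F] {m : ℕ} (hF : Fintype.card F = 2 ^ (2 * m + 1))
  (hm : 1 ≤ m)

include hF hm in
theorem Fpf.cj_inv {x : Sz F m} (hx : Fpf x) : Cj x x⁻¹ := by
  obtain ⟨z, _, _, hinv⟩ := hx.exists_invol_inverts hF hm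
  exact ⟨z, hinv.symm⟩

include hF in
theorem cj_gJ_mul (y : Sz F m) : Cj (y * gJ hF) (gJ hF * y) := by
  refine ⟨gJ hF, ?_⟩
  rw [gJ_inv]
  calc gJ hF * y = gJ hF * y * (gJ hF * gJ hF) := by rw [gJ_mul_self, mul_one]
    _ = _ := by group

include hF hm in
/-- both an element of order four and its inverse occur as first factors -/
theorem Fpf.exists_four_mul_gJ' {x : Sz F m} (hx : Fpf x) :
    ∃ a b : F, a ≠ 0 ∧ Cj x (gT hF a b * gJ hF) ∧ Cj x ((gT hF a b)⁻¹ * gJ hF) := by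
  obtain ⟨a, b, ha, h⟩ := hx.exists_four_mul_gJ hF hm
  refine ⟨a, b, ha, h, ?_⟩
  have h1 : Cj x (gJ hF * gT hF a b) := h.trans (cj_gJ_mul hF _)
  have h2 : Cj x⁻¹ (gJ hF * gT hF a b)⁻¹ := h1.inv
  rw [_root_.mul_inv_rev, gJ_inv] at h2
  exact (hx.cj_inv hF hm).trans h2

include hF hm in
/-- the second normal form of a fixed-point-free element as a product of two involutions -/
theorem Fpf.exists_pair_gJ {x : Sz F m} (hx : Fpf x) :
    ∃ β : F, β ≠ 0 ∧ Cj x (gT hF 0 β * gJ hF) := by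
  obtain ⟨z, z₂, hz1, hz2, hz₂1, hz₂2, rfl⟩ := hx.exists_pair hF hm
  obtain ⟨v, hv⟩ := invol_conj hF hm hz₂1 hz₂2 (gJ_ne_one hF) (gJ_mul_self hF)
  -- conjugate so that the second involution is the standard one
  obtain ⟨z', hz'⟩ : ∃ z', z' = v * z * v⁻¹ := ⟨_, rfl⟩
  have hx' : v * (z * z₂) * v⁻¹ = z' * gJ hF := by
    rw [hz', hv]
    group
  have hf' : Fpf (z' * gJ hF) := by
    rw [← hx']
    exact hx.conj v
  have hz'1 : z' ≠ 1 := by rw [hz']; exact (Cj.conj z v).ne_one hz1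
  have hz'2 : z' * z' = 1 := by
    calc z' * z' = v * (z * z) * v⁻¹ := by rw [hz']; group
      _ = 1 := by rw [hz2]; group
  obtain ⟨p', hp', _⟩ := invol_fixed_unique hF hm hz'1 hz'2
  obtain ⟨x₀, b₀, hb₀, hJ⟩ := invol_eq_conj hF hm (gJ_ne_one hF) (gJ_mul_self hF)
  -- the two relevant points, seen from the centre of the standard involution
  have hJfix : gJ hF • (x₀ • oInf F m) = x₀ • oInf F m := by
    rw [hJ, mul_smul, mul_smul, inv_smul_smul, gT_oInf]
  have hq₁ : x₀⁻¹ • p' ≠ oInf F m := by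
    intro h
    have hp'e : p' = x₀ • oInf F m := by rw [← h, smul_inv_smul]
    apply hf' p'
    rw [mul_smul, hp'e, hJfix, ← hp'e, hp']
  have hq₂ : x₀⁻¹ • oInf F m ≠ oInf F m := by
    intro h
    have he : x₀ • oInf F m = oInf F m := by
      calc x₀ • oInf F m = x₀ • (x₀⁻¹ • oInf F m) := by rw [h]
        _ = oInf F m := smul_inv_smul _ _
    rw [he, gJ_oInf] at hJfix
    exact oPt_ne_oInf (m := m) (0 : F) 0 hJfix
  obtain ⟨x₁, y₁, hq₁'⟩ : ∃ x₁ y₁ : F, x₀⁻¹ • p' = oPt m x₁ y₁ := by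
    rcases ovoid_cases (x₀⁻¹ • p') with h | h
    · exact absurd h hq₁
    · exact h
  obtain ⟨x₂, y₂, hq₂'⟩ : ∃ x₂ y₂ : F, x₀⁻¹ • oInf F m = oPt m x₂ y₂ := by
    rcases ovoid_cases (x₀⁻¹ • oInf F m) with h | h
    · exact absurd h hq₂
    · exact h
  -- a translation moving one to the other
  obtain ⟨ta, tb, ht⟩ : ∃ ta tb : F, gT hF x₂ y₂ * (gT hF x₁ y₁)⁻¹ = gT hF ta tb := by
    rw [gT_inv, gT_mul]
    exact ⟨_, _, rfl⟩
  have htq : gT hF ta tb • (x₀⁻¹ • p') = x₀⁻¹ • oInf F m := by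
    rw [← ht, hq₁', hq₂', mul_smul, inv_smul_eq_iff.2 (gT_oZero hF x₁ y₁).symm, gT_oZero]
  obtain ⟨c, hc⟩ : ∃ c, c = x₀ * gT hF ta tb * x₀⁻¹ := ⟨_, rfl⟩
  have hcp : c • p' = oInf F m := by
    rw [hc, mul_smul, mul_smul, htq, smul_inv_smul]
  have hcJ : c * gJ hF * c⁻¹ = gJ hF := by
    rw [hc]
    calc x₀ * gT hF ta tb * x₀⁻¹ * gJ hF * (x₀ * gT hF ta tb * x₀⁻¹)⁻¹
        = x₀ * gT hF ta tb * (x₀⁻¹ * gJ hF * x₀) * (gT hF ta tb)⁻¹ * x₀⁻¹ := by group
      _ = x₀ * (gT hF ta tb * gT hF 0 b₀) * (gT hF ta tb)⁻¹ * x₀⁻¹ := by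
          rw [hJ]; group
      _ = x₀ * gT hF 0 b₀ * x₀⁻¹ := by rw [gT_zero_comm]; group
      _ = gJ hF := hJ.symm
  -- the conjugated first involution fixes the point at infinity
  have hz''inf : (c * z' * c⁻¹) • oInf F m = oInf F m := by
    rw [mul_smul, mul_smul, ← hcp, inv_smul_smul, hp']
  have hz''1 : c * z' * c⁻¹ ≠ 1 := (Cj.conj z' c).ne_one hz'1
  have hz''2 : (c * z' * c⁻¹) * (c * z' * c⁻¹) = 1 := by
    calc (c * z' * c⁻¹) * (c * z' * c⁻¹) = c * (z' * z') * c⁻¹ := by group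
      _ = 1 := by rw [hz'2]; group
  obtain ⟨β, hβ, hzβ⟩ := invol_fix_inf hF hm hz''1 hz''2 hz''inf
  refine ⟨β, hβ, ⟨c * v, ?_⟩⟩
  calc gT hF 0 β * gJ hF = (c * z' * c⁻¹) * (c * gJ hF * c⁻¹) := by rw [← hzβ, hcJ]
    _ = c * (z' * gJ hF) * c⁻¹ := by group
    _ = c * (v * (z * z₂) * v⁻¹) * c⁻¹ := by rw [hx']
    _ = c * v * (z * z₂) * (c * v)⁻¹ := by group

include hF hm in
/-- products of two conjugates of an element of order four cover the fixed-point-free elements -/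
theorem cov_four_fpf {a : F} (ha : a ≠ 0) (b : F) {g : Sz F m} (hg : Fpf g) :
    Cov (gT hF a b) g := by
  have hfin : Finite (Sz F m) := finite_Sz hF hm
  -- a square root of `g`
  obtain ⟨n, hn⟩ := hg.odd_order hF hm
  obtain ⟨g₁, hg₁⟩ : ∃ g₁, g₁ = g ^ (n + 1) := ⟨_, rfl⟩
  have hsq : g₁ * g₁ = g := by
    rw [hg₁, ← pow_add]
    have : n + 1 + (n + 1) = orderOf g + 1 := by omega
    rw [this, pow_succ, pow_orderOf_eq_one, one_mul]
  have hg₁1 : g₁ ≠ 1 := by
    intro h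
    apply hg.ne_one
    rw [← hsq, h, one_mul]
  have hg₁f : Fpf g₁ := by
    apply hg.of_commute hF hm hg₁1
    rw [hg₁]
    exact (Commute.refl g).pow_right _
  obtain ⟨a₁, b₁, ha₁, hc1, hc2⟩ := hg₁f.exists_four_mul_gJ' hF hm
  have key : ∀ y : Sz F m, Cj g₁ (y * gJ hF) → Cov y g := by
    intro y hy
    have h1 : Cov y (y * (gJ hF * y * (gJ hF)⁻¹)) := Cov.of_mul (Cj.refl y) (Cj.conj y _)
    have e : y * (gJ hF * y * (gJ hF)⁻¹) = (y * gJ hF) * (y * gJ hF) := by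
      rw [gJ_inv]; group
    rw [e] at h1
    have h2 := hy.mul_self
    rw [hsq] at h2
    exact h1.conj_right h2.symm
  rcases order_four_cases hF ha₁ ha b₁ b with h | h
  · exact (key _ hc1).conj_left h
  · exact (key _ hc2).conj_left h

include hF hm in
/-- products of two conjugates of a fixed-point-free element cover the involutions -/
theorem cov_fpf_invol {x : Sz F m} (hx : Fpf x) {c : F} (hc : c ≠ 0) : Cov x (gT hF 0 c) := by
  obtain ⟨a, b, ha, h⟩ := hx.exists_four_mul_gJ hF hm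
  have h1 : Cov (gT hF a b * gJ hF) ((gT hF a b * gJ hF) * (gJ hF * gT hF a b)) :=
    Cov.of_mul (Cj.refl _) (cj_gJ_mul hF _)
  have e : (gT hF a b * gJ hF) * (gJ hF * gT hF a b) = gT hF 0 (szθ m a * a) := by
    calc (gT hF a b * gJ hF) * (gJ hF * gT hF a b)
        = gT hF a b * (gJ hF * gJ hF) * gT hF a b := by group
      _ = gT hF 0 (szθ m a * a) := by rw [gJ_mul_self, mul_one, gT_sq]
  rw [e] at h1
  exact (h1.conj_left h.symm).conj_right
    (cj_gT_zero hF (mul_ne_zero (szθ_ne_zero m ha) ha) hc)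

include hF hm in
/-- products of two conjugates of a fixed-point-free element cover the elements of order four -/
theorem cov_fpf_four {x : Sz F m} (hx : Fpf x) {a' : F} (ha' : a' ≠ 0) (b' : F) :
    Cov x (gT hF a' b') := by
  obtain ⟨β, hβ, hP⟩ := hx.exists_pair_gJ hF hm
  obtain ⟨a, b, ha, hc1, hc2⟩ := hx.exists_four_mul_gJ' hF hm
  have key : ∀ y : Sz F m, Cj x (y * gJ hF) → Cov x (gT hF 0 β * y) := by
    intro y hy
    have h1 := Cov.of_mul hP (hy.trans (cj_gJ_mul hF y))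
    have e : gT hF 0 β * gJ hF * (gJ hF * y) = gT hF 0 β * y := by
      calc gT hF 0 β * gJ hF * (gJ hF * y) = gT hF 0 β * (gJ hF * gJ hF) * y := by group
        _ = gT hF 0 β * y := by rw [gJ_mul_self, mul_one]
    rwa [e] at h1
  have hy₀ : gT hF 0 β * gT hF a b = gT hF a (β + b) := by
    rw [gT_mul, szθ_zero, zero_mul, add_zero, zero_add]
  have hy₀' : gT hF 0 β * (gT hF a b)⁻¹ = (gT hF a (β + b))⁻¹ := by
    have hβi : (gT hF 0 β)⁻¹ = gT hF 0 β := inv_eq_of_mul_eq_one_left (gT_zero_sq hF β)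
    rw [← hy₀, _root_.mul_inv_rev, hβi, gT_inv, gT_zero_comm]
  have k1 := key _ hc1
  have k2 := key _ hc2
  rw [hy₀] at k1
  rw [hy₀'] at k2
  rcases order_four_cases hF ha ha' (β + b) b' with h | h
  · exact k1.conj_right h
  · exact k2.conj_right h

include hF hm in
/-- in the Suzuki group, the square of the class of an element of order greater than two
contains every nonidentity element -/
theorem sz_cov {x g : Sz F m} (hx : 2 < orderOf x) (hg : g ≠ 1) : Cov x g := by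
  have hx1 : x ≠ 1 := by
    rintro rfl
    rw [orderOf_one] at hx
    omega
  rcases sz_trichotomy hF hm hx1 with ⟨u, a, b, hab, rfl⟩ | ⟨u, k, hk, rfl⟩ | hxf
  · -- `x` of order four
    have ha : a ≠ 0 := by
      rintro rfl
      have h1 : (u * gT hF 0 b * u⁻¹) ^ 2 = 1 := by
        rw [pow_two]
        calc u * gT hF 0 b * u⁻¹ * (u * gT hF 0 b * u⁻¹)
            = u * (gT hF 0 b * gT hF 0 b) * u⁻¹ := by group
          _ = 1 := by rw [gT_zero_sq]; group
      have := orderOf_le_of_pow_eq_one (by norm_num) h1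
      omega
    apply Cov.conj_left _ (Cj.conj _ u)
    rcases sz_trichotomy hF hm hg with ⟨v, a', b', hab', rfl⟩ | ⟨v, l, hl, rfl⟩ | hgf
    · apply Cov.conj_right _ (Cj.conj _ v)
      by_cases ha' : a' = 0
      · subst ha'
        exact cov_four_invol hF ha b (fun h => hab' ⟨rfl, h⟩)
      · exact cov_four_four hF hm ha ha' b b'
    · apply Cov.conj_right _ (Cj.conj _ v)
      refine cov_gD hF hm ?_ hl
      intro h
      rw [← gT_zero hF] at h
      exact ha (gT_injective hF h).1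
    · exact cov_four_fpf hF hm ha b hgf
  · -- `x` in a split torus
    exact (cov_of_gD hF hm hk hg).conj_left (Cj.conj _ u)
  · -- `x` fixed-point-free
    rcases sz_trichotomy hF hm hg with ⟨v, a', b', hab', rfl⟩ | ⟨v, l, hl, rfl⟩ | hgf
    · apply Cov.conj_right _ (Cj.conj _ v)
      by_cases ha' : a' = 0
      · subst ha'
        exact cov_fpf_invol hF hm hxf (fun h => hab' ⟨rfl, h⟩)
      · exact cov_fpf_four hF hm hxf ha' b'
    · exact (cov_gD hF hm hx1 hl).conj_right (Cj.conj _ v)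
    · obtain ⟨b₂, b₁, hb₂, hb₁, hxP⟩ := hxf.exists_pair_std hF hm
      obtain ⟨c, c', hc, hc', hgP⟩ := hgf.exists_pair_std hF hm
      exact ((cov_pair_pair hF hm hb₁ hb₂ hc hc').conj_left hxP.symm).conj_right hgP.symm

include hF hm in
/-- the statement for the Suzuki group as defined in the list of groups of Lie type -/
theorem lieSz_cov (x : Cfsg.Lie.Sz F (2 ^ (m + 1))) (hx2 : 2 < orderOf x)
    (g : Cfsg.Lie.Sz F (2 ^ (m + 1))) (hg : g ≠ 1) :
    ∃ u v : Cfsg.Lie.Sz F (2 ^ (m + 1)), g = (u * x * u⁻¹) * (v * x * v⁻¹) := by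
  obtain ⟨e, he⟩ : ∃ e, e = szLieEquiv hF hm := ⟨_, rfl⟩
  obtain ⟨x', rfl⟩ : ∃ x', e x' = x := ⟨e.symm x, e.apply_symm_apply x⟩
  obtain ⟨g', rfl⟩ : ∃ g', e g' = g := ⟨e.symm g, e.apply_symm_apply g⟩
  have ho : orderOf (e x') = orderOf x' := MulEquiv.orderOf_eq e x'
  rw [ho] at hx2
  have hg' : g' ≠ 1 := by
    rintro rfl
    exact hg (map_one e)
  obtain ⟨u, v, h⟩ := sz_cov hF hm hx2 hg'
  refine ⟨e u, e v, ?_⟩
  rw [h]
  simp only [map_mul, map_inv]

end Cfsg.Agent.Lib.helper3
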