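import Mathlib
import Cfsg.Prelude.Def_LieExceptional
import Cfsg.Agent.Lib.helper3.SuzukiCovE

set_option autoImplicit false

namespace Cfsg.Agent.Lib.helper3

open Cfsg Matrix
open scoped Pointwise

theorem three_le_card_of_mem {Ω : Type*} [Finite Ω] (S : Set Ω) {a b c : Ω} (ha : a ∈ S)
    (hb : b ∈ S) (hc : c ∈ S) (hab : a ≠ b) (hac : a ≠ c) (hbc : b ≠ c) : 3 ≤ Nat.card S := by
  have hinj : Function.Injective (fun i : Fin 3 => (![⟨a, ha⟩, ⟨b, hb⟩, ⟨c, hc⟩] i : S)) := by
    intro i j hij
    fin_cases i <;> fin_cases j <;> simp_all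
  have := Nat.card_le_card_of_injective _ hinj
  simpa using this

/-- if `α`, `x α`, `x² α` lie in a set with at most two elements then `x² α = α` -/
theorem sq_fix_of_card_le_two {G Ω : Type*} [Group G] [MulAction G Ω] [Finite Ω] {S : Set Ω}
    (hS : Nat.card S ≤ 2) {x : G} {α : Ω} (h0 : α ∈ S) (h1 : x • α ∈ S)
    (h2 : (x * x) • α ∈ S) : (x * x) • α = α := by
  by_contra h
  have h3 : x • α ≠ α := by
    intro h3
    apply h
    rw [mul_smul, h3, h3]
  have h4 : (x * x) • α ≠ x • α := by
    intro h4
    apply h3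
    rw [mul_smul] at h4
    exact smul_left_cancel x h4
  have := three_le_card_of_mem S h0 h1 h2 (Ne.symm h3) (Ne.symm h) (Ne.symm h4)
  omega

section fix

variable {G Ω : Type*} [Group G] [MulAction G Ω] [Finite Ω]
  (hfix : ∀ g : G, g ≠ 1 → Nat.card (MulAction.fixedBy Ω g) ≤ 2)

include hfix in
theorem fix_sq {g x : G} {α : Ω} (hg1 : g ≠ 1) (h0 : g • α = α) (h1 : g • (x • α) = x • α)
    (h2 : g • ((x * x) • α) = (x * x) • α) : (x * x) • α = α :=
  sq_fix_of_card_le_two (hfix g hg1) (S := MulAction.fixedBy Ω g) h0 h1 h2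

include hfix in
/-- squares of elements commuting with a nonidentity element of a point stabiliser lie in the
stabiliser -/
theorem fix_sq_of_commute {g x : G} {α : Ω} (hg1 : g ≠ 1) (h0 : g • α = α)
    (hc : x * g = g * x) : (x * x) • α = α := by
  apply fix_sq hfix hg1 h0
  · rw [← mul_smul, ← hc, mul_smul, h0]
  · have hc2 : (x * x) * g = g * (x * x) := by
      calc x * x * g = x * (x * g) := by group
        _ = x * (g * x) := by rw [hc]
        _ = (x * g) * x := by group
        _ = g * (x * x) := by rw [hc]; group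
    rw [← mul_smul, ← hc2, mul_smul, h0]

end fix

variable {F : Type*} [Field F] [Fintype F] {m : ℕ} (hF : Fintype.card F = 2 ^ (2 * m + 1))
  (hm : 1 ≤ m)

variable {Ω : Type*} [Fintype Ω] [MulAction (Sz F m) Ω]

include hF hm in
/-- if a central translation fixes a point `α` of a set on which nonidentity elements fix at most
two points, the whole point stabiliser of the ovoid fixes `α` -/
theorem borel_fixes (hfix : ∀ g : Sz F m, g ≠ 1 → Nat.card (MulAction.fixedBy Ω g) ≤ 2) {α : Ω}
    {b₀ : F} (hb₀ : b₀ ≠ 0) (hz : gT hF 0 b₀ • α = α) :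
    ∀ g : Sz F m, g • oInf F m = oInf F m → g • α = α := by
  have hz1 : gT hF 0 b₀ ≠ 1 := gT_zero_ne_one hF hb₀
  -- the centre of the translation group fixes `α`
  have hZ : ∀ c : F, gT hF 0 c • α = α := by
    intro c
    obtain ⟨e, he⟩ := exists_norm_eq (m := m) hF c
    have h1 := fix_sq_of_commute hfix hz1 hz (x := gT hF e 0) (gT_zero_comm hF e 0 b₀)
    rw [gT_sq, mul_comm, he] at h1
    exact h1
  -- squares of elements of the stabiliser of infinity fix `α`
  have hsq : ∀ g : Sz F m, g • oInf F m = oInf F m → (g * g) • α = α := by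
    intro g hg
    obtain ⟨a, b, k, rfl⟩ := stab_decomp hF hm hg
    have hconj : ∀ x : Sz F m, x • oInf F m = oInf F m →
        ∃ c : F, x⁻¹ * gT hF 0 b₀ * x = gT hF 0 c := by
      intro x hx
      obtain ⟨a', b', k', rfl⟩ := stab_decomp hF hm hx
      refine ⟨((k'⁻¹ : Fˣ) : F) ^ 2 * szθ m ((k'⁻¹ : Fˣ) : F) ^ 2 * b₀, ?_⟩
      calc (gT hF a' b' * gD hF k')⁻¹ * gT hF 0 b₀ * (gT hF a' b' * gD hF k')
          = (gD hF k')⁻¹ * ((gT hF a' b')⁻¹ * (gT hF 0 b₀ * gT hF a' b')) * gD hF k' := by group
        _ = (gD hF k')⁻¹ * gT hF 0 b₀ * gD hF k' := by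
            rw [← gT_zero_comm, inv_mul_cancel_left]
        _ = gD hF k'⁻¹ * gT hF 0 b₀ * (gD hF k'⁻¹)⁻¹ := by rw [gD_inv, gD_inv, inv_inv]
        _ = _ := by rw [gD_conj_gT, mul_zero]
    have key : ∀ x : Sz F m, x • oInf F m = oInf F m → gT hF 0 b₀ • (x • α) = x • α := by
      intro x hx
      obtain ⟨c, hc⟩ := hconj x hx
      calc gT hF 0 b₀ • (x • α) = x • ((x⁻¹ * gT hF 0 b₀ * x) • α) := by
            simp only [mul_smul, smul_inv_smul]
        _ = x • α := by rw [hc, hZ]
    apply fix_sq hfix hz1 hz (key _ hg)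
    apply key
    rw [mul_smul, hg, hg]
  -- the torus fixes `α`
  have hD : ∀ k : Fˣ, gD hF k • α = α := by
    intro k
    obtain ⟨k', hk'⟩ := exists_sqrt_unit hF k
    have := hsq (gD hF k') (gD_oInf hF k')
    rwa [← gD_mul, hk'] at this
  have hDc : ∀ (x y : F) (k : Fˣ), (gT hF x y * gD hF k * (gT hF x y)⁻¹) • α = α := by
    intro x y k
    obtain ⟨k', hk'⟩ := exists_sqrt_unit hF k
    have h1 : (gT hF x y * gD hF k' * (gT hF x y)⁻¹) • oInf F m = oInf F m := by
      rw [mul_smul, mul_smul, inv_smul_eq_iff.2 (gT_oInf hF x y).symm, gD_oInf, gT_oInf]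
    have := hsq _ h1
    have e : gT hF x y * gD hF k' * (gT hF x y)⁻¹ * (gT hF x y * gD hF k' * (gT hF x y)⁻¹) =
        gT hF x y * gD hF k * (gT hF x y)⁻¹ := by
      rw [← hk', gD_mul]
      group
    rwa [e] at this
  -- the translations fix `α`
  obtain ⟨u, hu0, hu1⟩ := exists_ne_zero_one (F := F) hF hm
  have hk1 : Units.mk0 u hu0 ≠ 1 := by
    intro h
    apply hu1
    have := congrArg Units.val h
    simpa using this
  have hT : ∀ a b : F, gT hF a b • α = α := by
    intro a b
    obtain ⟨x, y, e⟩ := exists_conj_gD hF a b hk1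
    have e' : gT hF a b = (gT hF x y * gD hF (Units.mk0 u hu0) * (gT hF x y)⁻¹) *
        (gD hF (Units.mk0 u hu0))⁻¹ := by
      rw [← e, mul_inv_cancel_right]
    rw [e', mul_smul, gD_inv, hD, hDc]
  intro g hg
  obtain ⟨a, b, k, rfl⟩ := stab_decomp hF hm hg
  rw [mul_smul, hD, hT]

include hF hm in
/-- the main dichotomy for actions of fixity two -/
theorem sz_fixity_two (htr : MulAction.IsPretransitive (Sz F m) Ω)
    (hfix : ∀ g : Sz F m, g ≠ 1 → Nat.card (MulAction.fixedBy Ω g) ≤ 2)
    (hex : ∃ g : Sz F m, g ≠ 1 ∧ Nat.card (MulAction.fixedBy Ω g) = 2) :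
    (Fintype.card Ω = (2 ^ (2 * m + 1)) ^ 2 + 1 ∧
      ∀ a b c d : Ω, a ≠ b → c ≠ d → ∃ g : Sz F m, g • a = c ∧ g • b = d) ∨
    (Fintype.card Ω = (2 ^ (2 * m + 1)) ^ 2 * ((2 ^ (2 * m + 1)) ^ 2 + 1) ∧
      ∀ α : Ω, Nat.card (MulAction.stabilizer (Sz F m) α) = 2 ^ (2 * m + 1) - 1) := by
  classical
  have hfin : Finite (Sz F m) := finite_Sz hF hm
  obtain ⟨g₀, hg₀1, hg₀c⟩ := hex
  obtain ⟨⟨α₀, hα₀⟩, ⟨β₀, hβ₀⟩, hne, _⟩ := Nat.card_eq_two_iff.1 hg₀c
  have hαβ : α₀ ≠ β₀ := fun h => hne (Subtype.ext h)
  have hcardG := card_Sz hm hF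
  have hindex : ∀ α : Ω, Nat.card (MulAction.stabilizer (Sz F m) α) * Fintype.card Ω =
      Nat.card (Sz F m) := by
    intro α
    rw [← Nat.card_eq_fintype_card, ← MulAction.index_stabilizer_of_transitive (Sz F m) α]
    exact Subgroup.card_mul_index _
  have h8 : 2 ^ 3 ≤ 2 ^ (2 * m + 1) := Nat.pow_le_pow_right (by norm_num) (by omega)
  by_cases hinv : ∃ (α : Ω) (z : Sz F m), z ≠ 1 ∧ z * z = 1 ∧ z • α = α
  · -- some involution has a fixed point: the two-transitive action
    left
    obtain ⟨α₁, z, hz1, hz2, hzα⟩ := hinv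
    obtain ⟨x, b₀, hb₀, rfl⟩ := invol_eq_conj hF hm hz1 hz2
    obtain ⟨α, hα⟩ : ∃ α, α = x⁻¹ • α₁ := ⟨_, rfl⟩
    have hzα' : gT hF 0 b₀ • α = α := by
      rw [hα, ← mul_smul]
      have : gT hF 0 b₀ * x⁻¹ = x⁻¹ * (x * gT hF 0 b₀ * x⁻¹) := by group
      rw [this, mul_smul, hzα]
    have hB := borel_fixes hF hm hfix hb₀ hzα'
    -- the stabiliser of `α` is the stabiliser of the point at infinity
    have hJ : gJ hF • α ≠ α := by
      intro hJ
      have hall : ∀ g : Sz F m, g • α = α := by
        intro g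
        rcases full_decomp hF hm g with ⟨a, b, k, rfl⟩ | ⟨a, b, a', b', k, rfl⟩
        · apply hB
          rw [mul_smul, gD_oInf, gT_oInf]
        · rw [mul_smul, mul_smul]
          have h1 : (gT hF a' b' * gD hF k) • α = α := by
            apply hB
            rw [mul_smul, gD_oInf, gT_oInf]
          rw [h1, hJ]
          exact hB _ (gT_oInf hF a b)
      obtain ⟨g, hg⟩ := MulAction.exists_smul_eq (Sz F m) α α₀
      obtain ⟨g', hg'⟩ := MulAction.exists_smul_eq (Sz F m) α β₀
      apply hαβ
      rw [← hg, ← hg', hall, hall]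
    have hstab : ∀ g : Sz F m, g • α = α ↔ g • oInf F m = oInf F m := by
      intro g
      constructor
      · intro hg
        by_contra hginf
        rcases full_decomp hF hm g with ⟨a, b, k, rfl⟩ | ⟨a, b, a', b', k, rfl⟩
        · apply hginf
          rw [mul_smul, gD_oInf, gT_oInf]
        · apply hJ
          have h1 : (gT hF a' b' * gD hF k) • α = α := by
            apply hB
            rw [mul_smul, gD_oInf, gT_oInf]
          rw [mul_smul, mul_smul, h1] at hg
          have h2 : (gT hF a b)⁻¹ • α = α := by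
            apply hB
            rw [inv_smul_eq_iff, gT_oInf]
          calc gJ hF • α = (gT hF a b)⁻¹ • (gT hF a b • gJ hF • α) := by rw [inv_smul_smul]
            _ = α := by rw [hg, h2]
      · exact hB g
    have hstabeq : MulAction.stabilizer (Sz F m) α = MulAction.stabilizer (Sz F m) (oInf F m) := by
      ext g
      rw [MulAction.mem_stabilizer_iff, MulAction.mem_stabilizer_iff]
      exact hstab g
    constructor
    · have h1 := hindex α
      rw [hstabeq, card_stab_pt hF hm, hcardG] at h1
      have hpos : 0 < (2 ^ (2 * m + 1)) ^ 2 * (2 ^ (2 * m + 1) - 1) := by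
        have : 0 < 2 ^ (2 * m + 1) - 1 := by omega
        positivity
      apply Nat.eq_of_mul_eq_mul_left hpos
      rw [h1]
      ring
    · -- two-transitivity
      have hH : ∀ β : Ω, β ≠ α → ∃ t : Sz F m, t • α = α ∧ β = t • (gJ hF • α) := by
        intro β hβ
        obtain ⟨g, hg⟩ := MulAction.exists_smul_eq (Sz F m) α β
        rcases full_decomp hF hm g with ⟨a, b, k, rfl⟩ | ⟨a, b, a', b', k, rfl⟩
        · exfalso
          apply hβ
          rw [← hg]
          apply hB
          rw [mul_smul, gD_oInf, gT_oInf]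
        · refine ⟨gT hF a b, hB _ (gT_oInf hF a b), ?_⟩
          have h1 : (gT hF a' b' * gD hF k) • α = α := by
            apply hB
            rw [mul_smul, gD_oInf, gT_oInf]
          rw [← hg, mul_smul, mul_smul, h1]
      intro a b c d hab hcd
      obtain ⟨g₁, hg₁⟩ := MulAction.exists_smul_eq (Sz F m) a α
      obtain ⟨g₂, hg₂⟩ := MulAction.exists_smul_eq (Sz F m) c α
      have hb' : g₁ • b ≠ α := by
        intro h
        apply hab
        rw [← h] at hg₁
        exact smul_left_cancel g₁ hg₁
      have hd' : g₂ • d ≠ α := by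
        intro h
        apply hcd
        rw [← h] at hg₂
        exact smul_left_cancel g₂ hg₂
      obtain ⟨t₁, ht₁, e₁⟩ := hH _ hb'
      obtain ⟨t₂, ht₂, e₂⟩ := hH _ hd'
      refine ⟨g₂⁻¹ * (t₂ * t₁⁻¹) * g₁, ?_, ?_⟩
      · have ht₁' : t₁⁻¹ • α = α := by rw [inv_smul_eq_iff, ht₁]
        rw [mul_smul, mul_smul, hg₁, mul_smul, ht₁', ht₂, inv_smul_eq_iff, hg₂]
      · rw [mul_smul, mul_smul, e₁, mul_smul, inv_smul_smul, ← e₂, inv_smul_smul]
  · -- no involution has a fixed point: the regular torus action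
    right
    push Not at hinv
    have key : ∀ α : Ω, ∀ g : Sz F m, g ≠ 1 → g • α = α →
        Nat.card (MulAction.stabilizer (Sz F m) α) = 2 ^ (2 * m + 1) - 1 := by
      intro α g hg1 hgα
      -- elements of the stabiliser are of torus type
      have htype : ∀ h : Sz F m, h ≠ 1 → h • α = α →
          ∃ (u : Sz F m) (k : Fˣ), k ≠ 1 ∧ h = u * gD hF k * u⁻¹ := by
        intro h hh1 hhα
        rcases sz_trichotomy hF hm hh1 with ⟨u, a, b, hab, rfl⟩ | h' | hf
        · exfalso
          by_cases ha : a = 0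
          · subst ha
            refine hinv α _ hh1 ?_ hhα
            calc u * gT hF 0 b * u⁻¹ * (u * gT hF 0 b * u⁻¹)
                = u * (gT hF 0 b * gT hF 0 b) * u⁻¹ := by group
              _ = 1 := by rw [gT_zero_sq]; group
          · have e : u * gT hF a b * u⁻¹ * (u * gT hF a b * u⁻¹) =
                u * gT hF 0 (szθ m a * a) * u⁻¹ := by
              rw [← gT_sq hF a b]; group
            refine hinv α (u * gT hF 0 (szθ m a * a) * u⁻¹) ?_ ?_ ?_
            · exact (Cj.conj _ u).ne_one
                (gT_zero_ne_one hF (mul_ne_zero (szθ_ne_zero m ha) ha))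
            · calc u * gT hF 0 (szθ m a * a) * u⁻¹ * (u * gT hF 0 (szθ m a * a) * u⁻¹)
                  = u * (gT hF 0 (szθ m a * a) * gT hF 0 (szθ m a * a)) * u⁻¹ := by group
                _ = 1 := by rw [gT_zero_sq]; group
            · rw [← e, mul_smul, hhα, hhα]
        · exact h'
        · exfalso
          -- the centraliser of `h` fixes `α`
          have hT := hf.isTorus_centralizer hF hm
          have hTα : ∀ t ∈ Subgroup.centralizer ({h} : Set (Sz F m)), t • α = α := by
            intro t ht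
            have hodd : Odd (orderOf t) :=
              Odd.of_dvd_nat (odd_card_torus hm hT) (Subgroup.orderOf_dvd_natCard _ ht)
            obtain ⟨n, hn⟩ := hodd
            have hs : t ^ (n + 1) ∈ Subgroup.centralizer ({h} : Set (Sz F m)) :=
              Subgroup.pow_mem _ ht _
            have h1 := fix_sq_of_commute hfix hh1 hhα (x := t ^ (n + 1))
              (Subgroup.mem_centralizer_singleton_iff.1 hs)
            have e : t ^ (n + 1) * t ^ (n + 1) = t := by
              rw [← pow_add]
              have : n + 1 + (n + 1) = orderOf t + 1 := by omega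
              rw [this, pow_succ, pow_orderOf_eq_one, one_mul]
            rwa [e] at h1
          obtain ⟨f, hfN, hf1, hf2⟩ := hf.exists_order_four hF hm
          have hmem : h ∈ Subgroup.centralizer ({h} : Set (Sz F m)) :=
            Subgroup.mem_centralizer_singleton_iff.2 rfl
          have hk : ∀ y ∈ NC h, h • (y • α) = y • α := by
            intro y hy
            have hy' : y⁻¹ * h * y⁻¹⁻¹ ∈ Subgroup.centralizer ({h} : Set (Sz F m)) :=
              (Subgroup.mem_normalizer_iff.1 ((NC h).inv_mem hy) h).1 hmem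
            rw [inv_inv] at hy'
            calc h • (y • α) = y • ((y⁻¹ * h * y) • α) := by
                  simp only [mul_smul, smul_inv_smul]
              _ = y • α := by rw [hTα _ hy']
          have h1 := fix_sq hfix hh1 hhα (hk f hfN) (hk (f * f) ((NC h).mul_mem hfN hfN))
          exact hinv α (f * f) hf1 hf2 h1
      obtain ⟨u, k, hk, rfl⟩ := htype g hg1 hgα
      have hU : IsTorus m (torusConj hF u) :=
        ⟨isCyclic_torusConj hF u, Or.inl (card_torusConj hF u)⟩
      have hgU : u * gD hF k * u⁻¹ ∈ torusConj hF u := mem_torusConj hF u k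
      -- the torus fixes `α`
      have hUα : ∀ t ∈ torusConj hF u, t • α = α := by
        intro t ht
        have hodd : Odd (orderOf t) :=
          Odd.of_dvd_nat (odd_card_torus hm hU) (Subgroup.orderOf_dvd_natCard _ ht)
        obtain ⟨n, hn⟩ := hodd
        have hs : t ^ (n + 1) ∈ torusConj hF u := Subgroup.pow_mem _ ht _
        have hc := le_centralizer_of_isCyclic hU.1 hgU hs
        have h1 := fix_sq_of_commute hfix hg1 hgα (x := t ^ (n + 1))
          (Subgroup.mem_centralizer_singleton_iff.1 hc)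
        have e : t ^ (n + 1) * t ^ (n + 1) = t := by
          rw [← pow_add]
          have : n + 1 + (n + 1) = orderOf t + 1 := by omega
          rw [this, pow_succ, pow_orderOf_eq_one, one_mul]
        rwa [e] at h1
      -- the stabiliser has odd order
      set H := MulAction.stabilizer (Sz F m) α with hH
      have hHodd : Odd (Nat.card H) := by
        rw [← Nat.not_even_iff_odd]
        intro heven
        haveI : Fact (Nat.Prime 2) := ⟨Nat.prime_two⟩
        obtain ⟨t, ht⟩ := exists_prime_orderOf_dvd_card' (G := H) 2 heven.two_dvd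
        have ht1 : (t : Sz F m) ≠ 1 := by
          intro h
          have : t = 1 := Subtype.ext h
          rw [this, orderOf_one] at ht
          omega
        have ht2 : (t : Sz F m) * (t : Sz F m) = 1 := by
          have h := pow_orderOf_eq_one t
          rw [ht, pow_two] at h
          exact congrArg Subtype.val h
        exact hinv α t ht1 ht2 t.2
      have hHbot : H ≠ ⊥ := by
        intro h
        have : u * gD hF k * u⁻¹ ∈ H := hgα
        rw [h, Subgroup.mem_bot] at this
        exact hg1 this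
      obtain ⟨U', hU', hHU'⟩ := le_normalizer_torus_of_odd hF hm hHbot hHodd
        (Subgroup.le_normalizer (H := H))
      have hHle : H ≤ U' := by
        intro h hh
        apply mem_torus_of_odd hF hm hU' (hHU' hh)
        exact Odd.of_dvd_nat hHodd (Subgroup.orderOf_dvd_natCard _ hh)
      have hUU' : torusConj hF u = U' := torus_unique hF hm hU hU' hgU (hHle hgα) hg1
      have hHeq : H = torusConj hF u := by
        apply le_antisymm
        · rw [hUU']; exact hHle
        · intro t ht
          exact hUα t ht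
      rw [hHeq, card_torusConj]
    have hα₀ := key α₀ g₀ hg₀1 hα₀
    constructor
    · have h1 := hindex α₀
      rw [hα₀, hcardG] at h1
      have hpos : 0 < 2 ^ (2 * m + 1) - 1 := by omega
      apply Nat.eq_of_mul_eq_mul_left hpos
      rw [h1]
      ring
    · intro α
      obtain ⟨g, hg⟩ := MulAction.exists_smul_eq (Sz F m) α₀ α
      rw [← hg, MulAction.stabilizer_smul_eq_stabilizer_map_conj,
        Subgroup.card_map_of_injective (MulAut.conj g).injective, hα₀]

end Cfsg.Agent.Lib.helper3
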