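import Mathlib

set_option autoImplicit false

namespace Cfsg.Agent.Lib.helper3

/-- a group with a small cover by proper subgroups and a large family of elements no two of which
lie in a common nilpotent subgroup has no nilpotent minimal cover -/
theorem no_nilpotent_minimal_cover {L : Type*} [Group L] {I J : Type*} [Fintype I] [Fintype J]
    (f : I → L) (g : J → Subgroup L) (hcard : Fintype.card J < Fintype.card I)
    (hg1 : ∀ j, g j ≠ ⊤) (hg2 : ∀ x : L, ∃ j, x ∈ g j)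
    (hf : ∀ i i' : I, i ≠ i' → ∀ A : Subgroup L, Group.IsNilpotent A → f i ∈ A → f i' ∈ A → False) :
    ¬ ∃ 𝓐 : Finset (Subgroup L), ((∀ A ∈ 𝓐, A ≠ ⊤) ∧ (∀ x : L, ∃ A ∈ 𝓐, x ∈ A)) ∧
      (∀ 𝓑 : Finset (Subgroup L), (∀ A ∈ 𝓑, A ≠ ⊤) ∧ (∀ x : L, ∃ A ∈ 𝓑, x ∈ A) →
        𝓐.card ≤ 𝓑.card) ∧
      (∀ A ∈ 𝓐, Group.IsNilpotent ↥A) := by
  classical
  rintro ⟨𝓐, ⟨_, h2⟩, hmin, hnil⟩
  set 𝓑 : Finset (Subgroup L) := Finset.univ.image g with h𝓑
  have hB1 : 𝓑.card ≤ Fintype.card J := by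
    rw [h𝓑]
    exact Finset.card_image_le.trans (le_of_eq Finset.card_univ)
  have hB2 : 𝓐.card ≤ 𝓑.card := by
    apply hmin
    constructor
    · intro A hA
      rw [h𝓑, Finset.mem_image] at hA
      obtain ⟨j, _, rfl⟩ := hA
      exact hg1 j
    · intro x
      obtain ⟨j, hj⟩ := hg2 x
      exact ⟨g j, Finset.mem_image_of_mem g (Finset.mem_univ j), hj⟩
  choose φ hφ using fun i => h2 (f i)
  have hinj : Function.Injective (fun i : I => (⟨φ i, (hφ i).1⟩ : ↥𝓐)) := by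
    intro i i' h
    by_contra hne
    have heq : φ i = φ i' := congrArg Subtype.val h
    exact hf i i' hne (φ i) (hnil _ (hφ i).1) (hφ i).2 (by rw [heq]; exact (hφ i').2)
  have hI : Fintype.card I ≤ 𝓐.card := by
    have := Fintype.card_le_of_injective _ hinj
    rwa [Fintype.card_coe] at this
  omega

/-- transport along an isomorphism -/
theorem no_nilpotent_minimal_cover_of_equiv {G L : Type*} [Group G] [Group L] (e : G ≃* L)
    {I J : Type*} [Fintype I] [Fintype J]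
    (f : I → G) (g : J → Subgroup G) (hcard : Fintype.card J < Fintype.card I)
    (hg1 : ∀ j, g j ≠ ⊤) (hg2 : ∀ x : G, ∃ j, x ∈ g j)
    (hf : ∀ i i' : I, i ≠ i' → ∀ A : Subgroup G, Group.IsNilpotent A → f i ∈ A → f i' ∈ A → False) :
    ¬ ∃ 𝓐 : Finset (Subgroup L), ((∀ A ∈ 𝓐, A ≠ ⊤) ∧ (∀ x : L, ∃ A ∈ 𝓐, x ∈ A)) ∧
      (∀ 𝓑 : Finset (Subgroup L), (∀ A ∈ 𝓑, A ≠ ⊤) ∧ (∀ x : L, ∃ A ∈ 𝓑, x ∈ A) →
        𝓐.card ≤ 𝓑.card) ∧
      (∀ A ∈ 𝓐, Group.IsNilpotent ↥A) := by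
  apply no_nilpotent_minimal_cover (fun i => e (f i)) (fun j => (g j).map e.toMonoidHom) hcard
  · intro j h
    apply hg1 j
    rw [eq_top_iff]
    intro x _
    have : e x ∈ (g j).map e.toMonoidHom := by rw [h]; exact Subgroup.mem_top _
    obtain ⟨y, hy, hyx⟩ := this
    have : y = x := e.injective hyx
    rwa [← this]
  · intro x
    obtain ⟨j, hj⟩ := hg2 (e.symm x)
    exact ⟨j, e.symm x, hj, e.apply_symm_apply x⟩
  · intro i i' hne A hA hi hi'
    have hnil : Group.IsNilpotent (A.comap e.toMonoidHom) := by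
      have e1 : A.comap e.toMonoidHom = A.map e.symm.toMonoidHom :=
        Subgroup.comap_equiv_eq_map_symm' e A
      rw [e1]
      exact Group.nilpotent_of_mulEquiv (Subgroup.equivMapOfInjective A e.symm.toMonoidHom
        e.symm.injective)
    exact hf i i' hne _ hnil hi hi'

end Cfsg.Agent.Lib.helper3
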