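import Mathlib
import Cfsg.Prelude.Def_LieExceptional
import Cfsg.Agent.Lib.helper3.SuzukiAutRigid

set_option autoImplicit false

namespace Cfsg.Agent.Lib.helper3

open Cfsg Matrix

variable {F : Type*} [Field F] [Fintype F] {m : ℕ} (hF : Fintype.card F = 2 ^ (2 * m + 1))
  (hm : 1 ≤ m)

theorem map_mulAut_mul {G : Type*} [Group G] (H : Subgroup G) (φ ψ : MulAut G) :
    H.map (φ * ψ).toMonoidHom = (H.map ψ.toMonoidHom).map φ.toMonoidHom := by
  rw [Subgroup.map_map]
  rfl

theorem map_mulAut_inv {G : Type*} [Group G] {H : Subgroup G} {φ : MulAut G}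
    (h : H.map φ.toMonoidHom = H) : H.map (φ⁻¹).toMonoidHom = H := by
  have h1 := map_mulAut_mul H φ⁻¹ φ
  rw [h, inv_mul_cancel] at h1
  rw [← h1]
  ext g
  simp

theorem IsGoodAut.mul {α β : MulAut (Sz F m)} (hα : IsGoodAut hF α) (hβ : IsGoodAut hF β) :
    IsGoodAut hF (α * β) :=
  ⟨by rw [map_mulAut_mul, hβ.1, hα.1], by rw [map_mulAut_mul, hβ.2, hα.2]⟩

theorem IsGoodAut.inv {α : MulAut (Sz F m)} (hα : IsGoodAut hF α) : IsGoodAut hF α⁻¹ :=
  ⟨map_mulAut_inv hα.1, map_mulAut_inv hα.2⟩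

theorem isGoodAut_fieldAut (σ : F ≃+* F) : IsGoodAut hF (fieldAut hF hm σ) := by
  have h1 : (Qs hF).map (fieldAut hF hm σ).toMonoidHom = Qs hF := by
    apply le_antisymm
    · rintro _ ⟨g, hg, rfl⟩
      obtain ⟨a, b, rfl⟩ := (mem_Qs hF).1 hg
      change fieldAut hF hm σ (gT hF a b) ∈ Qs hF
      rw [fieldAut_gT]
      exact gT_mem_Qs hF _ _
    · intro g hg
      obtain ⟨a, b, rfl⟩ := (mem_Qs hF).1 hg
      refine ⟨gT hF (σ.symm a) (σ.symm b), gT_mem_Qs hF _ _, ?_⟩
      change fieldAut hF hm σ (gT hF _ _) = _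
      rw [fieldAut_gT, RingEquiv.apply_symm_apply, RingEquiv.apply_symm_apply]
  refine ⟨h1, ?_⟩
  unfold Qz
  rw [Subgroup.map_map]
  have e : (fieldAut hF hm σ).toMonoidHom.comp (MulAut.conj (gJ hF)).toMonoidHom =
      (MulAut.conj (gJ hF)).toMonoidHom.comp (fieldAut hF hm σ).toMonoidHom := by
    ext g
    simp only [MonoidHom.coe_comp, MulEquiv.coe_toMonoidHom, Function.comp_apply,
      MulAut.conj_apply, map_mul, map_inv, fieldAut_gJ]
  rw [e, ← Subgroup.map_map, h1]

include hm in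
theorem isGoodAut_conj_gD (k : Fˣ) : IsGoodAut hF (MulAut.conj (gD hF k)) := by
  refine ⟨map_conj_Qs hF hm (gD_oInf hF k), ?_⟩
  unfold Qz
  rw [map_conj_map_conj]
  have e : gD hF k * gJ hF = gJ hF * gD hF k⁻¹ := by
    rw [gJ_gD, inv_inv]
  rw [e, ← map_conj_map_conj, map_conj_Qs hF hm (gD_oInf hF k⁻¹)]

section good

variable {hF} {α : MulAut (Sz F m)} (hα : IsGoodAut hF α)

include hα in
theorem IsGoodAut.cA_gT (a b : F) : cA (α (gT hF a b)) = cA (α (gT hF a 0)) := by
  rw [gT_split hF a b, map_mul, hα.map_gT a 0, hα.map_gT 0 b, hα.cA_zero b, gT_mul,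
    Cfsg.Agent.Lib.helper3.cA_gT, Cfsg.Agent.Lib.helper3.cA_gT, add_zero]

include hα in
theorem IsGoodAut.cA_add (a a' : F) :
    cA (α (gT hF (a + a') 0)) = cA (α (gT hF a 0)) + cA (α (gT hF a' 0)) := by
  have e := congrArg α (gT_mul hF a 0 a' 0)
  rw [map_mul, hα.map_gT a 0, hα.map_gT a' 0, gT_mul] at e
  have e' := congrArg cA e
  rw [Cfsg.Agent.Lib.helper3.cA_gT, hα.cA_gT (a + a') _] at e'
  exact e'.symm

include hα in
theorem IsGoodAut.cA_eq_zero {a : F} (h : cA (α (gT hF a 0)) = 0) : a = 0 := by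
  have e := hα.map_gT a 0
  rw [h] at e
  have e2 : α (gT hF a 0 * gT hF a 0) = 1 := by
    rw [map_mul, e, gT_sq, szθ_zero, mul_zero, gT_zero]
  rw [← map_one α] at e2
  exact gT_sq_eq_one hF (α.injective e2)

include hα hm in
theorem IsGoodAut.cA_mul (k : Fˣ) : ∃ k' : Fˣ, ∀ a : F,
    cA (α (gT hF ((k : F) ^ 2 * a) 0)) = (k' : F) ^ 2 * cA (α (gT hF a 0)) := by
  obtain ⟨k', hk'⟩ := hα.map_gD hm k
  refine ⟨k', fun a => ?_⟩
  have e := congrArg α (gD_conj_gT hF k a 0)
  rw [map_mul, map_mul, map_inv, hk', hα.map_gT a 0, gD_conj_gT] at e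
  have e' := congrArg cA e
  rw [Cfsg.Agent.Lib.helper3.cA_gT, hα.cA_gT ((k : F) ^ 2 * a) _] at e'
  exact e'.symm

include hα hm in
/-- the induced map on the quotient of the translation group by its centre is a field
automorphism, once normalised -/
theorem IsGoodAut.exists_ringEquiv (h1 : cA (α (gT hF 1 0)) = 1) :
    ∃ σ : F ≃+* F, ∀ a : F, cA (α (gT hF a 0)) = σ a := by
  have hzero : cA (α (gT hF 0 0)) = 0 := by
    rw [gT_zero, map_one, ← gT_zero hF, Cfsg.Agent.Lib.helper3.cA_gT]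
  have hmul : ∀ c a : F, cA (α (gT hF (c * a) 0)) = cA (α (gT hF c 0)) * cA (α (gT hF a 0)) := by
    intro c a
    by_cases hc : c = 0
    · rw [hc, zero_mul, hzero, zero_mul]
    · obtain ⟨k, hk⟩ := exists_sqrt_unit hF (Units.mk0 c hc)
      have hck : c = (k : F) ^ 2 := by
        have := congrArg Units.val hk
        rw [Units.val_mul, Units.val_mk0] at this
        rw [← this, sq]
      obtain ⟨k', hk'⟩ := hα.cA_mul hm k
      have e1 := hk' 1
      rw [mul_one, h1, mul_one] at e1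
      rw [hck, hk' a, e1]
  let f : F →+* F :=
    { toFun := fun a => cA (α (gT hF a 0))
      map_one' := h1
      map_mul' := hmul
      map_zero' := hzero
      map_add' := hα.cA_add }
  have hinj : Function.Injective f := f.injective
  have hbij : Function.Bijective f := ⟨hinj, Finite.injective_iff_surjective.1 hinj⟩
  exact ⟨RingEquiv.ofBijective f hbij, fun a => rfl⟩

include hα hm in
theorem IsGoodAut.eq_fieldAut :
    ∃ (k : Fˣ) (σ : F ≃+* F), MulAut.conj (gD hF k) * α = fieldAut hF hm σ := by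
  -- normalise
  have hc : cA (α (gT hF 1 0)) ≠ 0 := fun h => one_ne_zero (hα.cA_eq_zero h)
  obtain ⟨k, hk⟩ := exists_sqrt_unit hF (Units.mk0 _ (inv_ne_zero hc))
  have hk2 : (k : F) ^ 2 * cA (α (gT hF 1 0)) = 1 := by
    have := congrArg Units.val hk
    rw [Units.val_mul, Units.val_mk0] at this
    rw [sq, this, inv_mul_cancel₀ hc]
  set α' := MulAut.conj (gD hF k) * α with hα'
  have hgood : IsGoodAut hF α' := (isGoodAut_conj_gD hF hm k).mul hF hα
  have hα'1 : ∀ a, cA (α' (gT hF a 0)) = (k : F) ^ 2 * cA (α (gT hF a 0)) := by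
    intro a
    rw [hα', MulAut.mul_apply, MulAut.conj_apply, hα.map_gT a 0, gD_conj_gT,
      Cfsg.Agent.Lib.helper3.cA_gT, Cfsg.Agent.Lib.helper3.cA_gT]
  obtain ⟨σ, hσ⟩ := hgood.exists_ringEquiv hm (by rw [hα'1, hk2])
  refine ⟨k, σ, ?_⟩
  have hgood' : IsGoodAut hF ((fieldAut hF hm σ)⁻¹ * α') :=
    ((isGoodAut_fieldAut hF hm σ).inv hF).mul hF hgood
  have hid : ∀ a : F, cA (((fieldAut hF hm σ)⁻¹ * α') (gT hF a 0)) = a := by
    intro a
    rw [MulAut.mul_apply, hgood.map_gT a 0, MulAut.inv_apply]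
    have e : (fieldAut hF hm σ).symm (gT hF (cA (α' (gT hF a 0))) (cB (α' (gT hF a 0)))) =
        gT hF (σ.symm (cA (α' (gT hF a 0)))) (σ.symm (cB (α' (gT hF a 0)))) := by
      rw [MulEquiv.symm_apply_eq, fieldAut_gT, RingEquiv.apply_symm_apply,
        RingEquiv.apply_symm_apply]
    rw [e, Cfsg.Agent.Lib.helper3.cA_gT, hσ, RingEquiv.symm_apply_apply]
  have := hgood'.rigid hm hid
  rw [inv_mul_eq_one] at this
  exact this.symm

end good

include hm in
/-- step 1: move the image of the translation group back -/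
theorem exists_conj_map_Qs (α : MulAut (Sz F m)) :
    ∃ x : Sz F m, (Qs hF).map (MulAut.conj x * α).toMonoidHom = Qs hF := by
  have hfin : Finite (Sz F m) := finite_Sz hF hm
  let P : Sylow 2 (Sz F m) :=
    (QsSylow hF hm).comapOfInjective α.symm.toMonoidHom α.symm.injective (by
      rw [MonoidHom.range_eq_top.2 α.symm.surjective]
      exact le_top)
  have hP : ∀ g, g ∈ P ↔ α.symm g ∈ Qs hF := fun g => Iff.rfl
  obtain ⟨y, hy⟩ := sylow_two_conj hF hm P
  refine ⟨y⁻¹, ?_⟩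
  apply le_antisymm
  · rintro _ ⟨h, hh, rfl⟩
    change MulAut.conj y⁻¹ (α h) ∈ Qs hF
    rw [MulAut.conj_apply, inv_inv, ← hy, hP, MulEquiv.symm_apply_apply]
    exact hh
  · intro g hg
    have h1 : y * g * y⁻¹ ∈ P := by
      rw [hy]
      have e : y⁻¹ * (y * g * y⁻¹) * y = g := by group
      rwa [e]
    rw [hP] at h1
    refine ⟨α.symm (y * g * y⁻¹), h1, ?_⟩
    change MulAut.conj y⁻¹ (α (α.symm (y * g * y⁻¹))) = g
    rw [MulEquiv.apply_symm_apply, MulAut.conj_apply]
    group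

include hm in
theorem stab_inf_of_map_Qs {α : MulAut (Sz F m)}
    (hα : (Qs hF).map α.toMonoidHom = Qs hF) {g : Sz F m} :
    α g • oInf F m = oInf F m ↔ g • oInf F m = oInf F m := by
  have key : ∀ {β : MulAut (Sz F m)}, (Qs hF).map β.toMonoidHom = Qs hF → ∀ {g : Sz F m},
      g • oInf F m = oInf F m → β g • oInf F m = oInf F m := by
    intro β hβ g hg
    have h1 : g ∈ Subgroup.normalizer ((Qs hF : Subgroup (Sz F m)) : Set (Sz F m)) := by
      rw [normalizer_Qs hF hm]
      exact hg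
    have h2 : β g ∈ (Subgroup.normalizer ((Qs hF : Subgroup (Sz F m)) : Set (Sz F m))).map
        β.toMonoidHom := ⟨g, h1, rfl⟩
    rw [Subgroup.map_equiv_normalizer_eq, hβ, normalizer_Qs hF hm] at h2
    exact h2
  constructor
  · intro h
    have := key (map_mulAut_inv hα) h
    rwa [MulAut.inv_apply, MulEquiv.symm_apply_apply] at this
  · exact key hα

include hm in
/-- step 2: move the image of the opposite translation group back -/
theorem exists_conj_good (α : MulAut (Sz F m)) :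
    ∃ g : Sz F m, IsGoodAut hF (MulAut.conj g * α) := by
  obtain ⟨x, hx⟩ := exists_conj_map_Qs hF hm α
  set α₁ := MulAut.conj x * α with hα₁
  set y := α₁ (gJ hF) with hy
  -- the image of the opposite group
  have hQz : (Qz hF).map α₁.toMonoidHom = (Qs hF).map (MulAut.conj y).toMonoidHom := by
    unfold Qz
    rw [Subgroup.map_map]
    have e : α₁.toMonoidHom.comp (MulAut.conj (gJ hF)).toMonoidHom =
        (MulAut.conj y).toMonoidHom.comp α₁.toMonoidHom := by
      ext g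
      simp only [MonoidHom.coe_comp, MulEquiv.coe_toMonoidHom, Function.comp_apply,
        MulAut.conj_apply, map_mul, map_inv, hy]
    rw [e, ← Subgroup.map_map, hx]
  have hyinf : y • oInf F m ≠ oInf F m := by
    intro h
    rw [hy, stab_inf_of_map_Qs hF hm hx, gJ_oInf] at h
    exact oPt_ne_oInf 0 0 h
  rcases ovoid_cases (y • oInf F m) with h | ⟨a, b, hab⟩
  · exact absurd h hyinf
  set u := gT hF a b with hu
  have hn : ((u * gJ hF)⁻¹ * y) • oInf F m = oInf F m := by
    rw [mul_smul, hab, inv_smul_eq_iff, mul_smul, gJ_oInf, hu, gT_oZero]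
  have hyu : (Qs hF).map (MulAut.conj y).toMonoidHom = (Qz hF).map (MulAut.conj u).toMonoidHom := by
    have e : y = u * gJ hF * ((u * gJ hF)⁻¹ * y) := by group
    unfold Qz
    rw [map_conj_map_conj]
    conv_lhs => rw [e]
    rw [← map_conj_map_conj, map_conj_Qs hF hm hn]
  have hu_inv : u⁻¹ • oInf F m = oInf F m := by
    rw [inv_smul_eq_iff, hu, gT_oInf]
  refine ⟨u⁻¹ * x, ?_⟩
  have e : MulAut.conj (u⁻¹ * x) * α = MulAut.conj u⁻¹ * α₁ := by
    rw [hα₁, map_mul, mul_assoc]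
  rw [e]
  refine ⟨?_, ?_⟩
  · rw [map_mulAut_mul, hx, map_conj_Qs hF hm hu_inv]
  · rw [map_mulAut_mul, hQz, hyu, map_conj_map_conj, inv_mul_cancel]
    ext g
    simp

include hm in
/-- every automorphism of the Suzuki group is an inner automorphism times a field
automorphism -/
theorem aut_eq_conj_mul_fieldAut (α : MulAut (Sz F m)) :
    ∃ (g : Sz F m) (σ : F ≃+* F), α = MulAut.conj g * fieldAut hF hm σ := by
  obtain ⟨g, hg⟩ := exists_conj_good hF hm α
  obtain ⟨k, σ, h⟩ := hg.eq_fieldAut hm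
  refine ⟨(gD hF k * g)⁻¹, σ, ?_⟩
  rw [← h, ← mul_assoc, ← mul_assoc, ← map_mul, ← map_mul, mul_assoc, inv_mul_cancel, map_one,
    one_mul]

end Cfsg.Agent.Lib.helper3
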