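import Mathlib
import Cfsg.Prelude.Def_LieExceptional
import Cfsg.Agent.Lib.helper3.SuzukiAutReduce

set_option autoImplicit false

namespace Cfsg.Agent.Lib.helper3

open Cfsg Matrix

/-- number of automorphisms of a finite field of characteristic two -/
theorem card_ringAut_of_card {F : Type*} [Field F] [Fintype F] {n : ℕ}
    (hF : Fintype.card F = 2 ^ n) (hn : n ≠ 0) : Nat.card (F ≃+* F) = n := by
  have h2 : (2 : F) = 0 := by
    have h := FiniteField.cast_card_eq_zero F
    rw [hF] at h
    push_cast at h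
    exact pow_eq_zero_iff hn |>.1 h
  have : CharP F 2 := CharTwo.of_one_ne_zero_of_two_eq_zero one_ne_zero h2
  have : Fact (Nat.Prime 2) := ⟨Nat.prime_two⟩
  let _ : Algebra (ZMod 2) F := ZMod.algebra F 2
  have hcomm : ∀ (σ : F ≃+* F) (x : ZMod 2),
      σ (algebraMap (ZMod 2) F x) = algebraMap (ZMod 2) F x := by
    intro σ x
    have : (σ : F →+* F).comp (algebraMap (ZMod 2) F) = algebraMap (ZMod 2) F :=
      Subsingleton.elim _ _
    exact DFunLike.congr_fun this x
  let e : (F ≃+* F) ≃ (F ≃ₐ[ZMod 2] F) :=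
    { toFun := fun σ => AlgEquiv.ofRingEquiv (f := σ) (hcomm σ)
      invFun := fun τ => τ.toRingEquiv
      left_inv := fun σ => by ext; rfl
      right_inv := fun τ => by ext; rfl }
  rw [Nat.card_congr e, IsGalois.card_aut_eq_finrank]
  have hcard : Fintype.card F = Fintype.card (ZMod 2) ^ Module.finrank (ZMod 2) F :=
    Module.card_eq_pow_finrank
  rw [hF, ZMod.card] at hcard
  exact (Nat.pow_right_injective (le_refl 2) hcard).symm

variable {F : Type*} [Field F] [Fintype F] {m : ℕ} (hF : Fintype.card F = 2 ^ (2 * m + 1))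
  (hm : 1 ≤ m)

include hm in
theorem conj_mul_fieldAut_injective :
    Function.Injective (fun p : Sz F m × (F ≃+* F) => MulAut.conj p.1 * fieldAut hF hm p.2) := by
  rintro ⟨g, σ⟩ ⟨g', σ'⟩ h
  simp only at h
  set w := g'⁻¹ * g with hw
  have h1 : MulAut.conj w = fieldAut hF hm σ' * (fieldAut hF hm σ)⁻¹ := by
    rw [hw, map_mul, map_inv]
    calc (MulAut.conj g')⁻¹ * MulAut.conj g =
        (MulAut.conj g')⁻¹ * (MulAut.conj g * fieldAut hF hm σ) * (fieldAut hF hm σ)⁻¹ := by group
      _ = fieldAut hF hm σ' * (fieldAut hF hm σ)⁻¹ := by rw [h]; group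
  have hgood : IsGoodAut hF (MulAut.conj w) := by
    rw [h1]
    exact (isGoodAut_fieldAut hF hm σ').mul hF ((isGoodAut_fieldAut hF hm σ).inv hF)
  have hinf : w • oInf F m = oInf F m := by
    have := mem_normalizer_of_map_conj_eq hgood.1
    rwa [normalizer_Qs hF hm] at this
  have hzero : w • oPt m (0 : F) 0 = oPt m 0 0 := by
    have := mem_normalizer_of_map_conj_eq hgood.2
    rwa [normalizer_Qz hF hm] at this
  obtain ⟨k, hk⟩ := two_point_stab hF hm hinf hzero
  have e1 := DFunLike.congr_fun h1 (gT hF 1 0)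
  have e2 : (fieldAut hF hm σ).symm (gT hF 1 0) = gT hF 1 0 := by
    rw [MulEquiv.symm_apply_eq, fieldAut_gT, map_one, map_zero]
  rw [MulAut.conj_apply, hk, gD_conj_gT, MulAut.mul_apply, MulAut.inv_apply, e2, fieldAut_gT,
    map_one, map_zero] at e1
  have hk1 := (gT_injective hF e1).1
  rw [mul_one] at hk1
  have hk' : k = 1 := Units.ext (sz_sq_eq_one hF hk1)
  have hgg : g = g' := by
    rw [hk', gD_one] at hk
    have : g' * w = g' := by rw [hk, mul_one]
    rw [hw, mul_inv_cancel_left] at this
    exact this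
  subst hgg
  have hσ := mul_left_cancel h
  have : σ = σ' := by
    ext a
    have := DFunLike.congr_fun hσ (gT hF a 0)
    rw [fieldAut_gT, fieldAut_gT] at this
    exact (gT_injective hF this).1
  rw [this]

include hF hm in
/-- the order of the automorphism group of the Suzuki group -/
theorem card_mulAut_Sz : Nat.card (MulAut (Sz F m)) = Nat.card (Sz F m) * (2 * m + 1) := by
  have hbij : Function.Bijective
      (fun p : Sz F m × (F ≃+* F) => MulAut.conj p.1 * fieldAut hF hm p.2) := by
    refine ⟨conj_mul_fieldAut_injective hF hm, ?_⟩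
    intro α
    obtain ⟨g, σ, h⟩ := aut_eq_conj_mul_fieldAut hF hm α
    exact ⟨(g, σ), h.symm⟩
  rw [← Nat.card_congr (Equiv.ofBijective _ hbij), Nat.card_prod,
    card_ringAut_of_card hF (by omega)]

end Cfsg.Agent.Lib.helper3
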