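import Mathlib
import Cfsg.Prelude.Def_Sz
import Cfsg.Prelude.Def_KGroupFacts
import Cfsg.Prelude.Def_LieExceptional
import Cfsg.Agent.Lib.helper3.SuzukiAutCount
import Cfsg.Agent.Lib.helper3.SuzukiLieIso

set_option autoImplicit false

namespace Cfsg.Agent.Lib.helper3

open Cfsg Matrix

/-- for a finite group with trivial centre, `|Out| * |G| = |Aut|` -/
theorem card_out_mul_card {L : Type*} [Group L] [Finite L] (hc : Subgroup.center L = ⊥) :
    Nat.card (Cfsg.Out L) * Nat.card L = Nat.card (MulAut L) := by
  have hinj : Function.Injective (MulAut.conj : L →* MulAut L) := by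
    rw [← MonoidHom.ker_eq_bot_iff]
    ext g
    rw [MonoidHom.mem_ker, Subgroup.mem_bot]
    constructor
    · intro h
      have hg : g ∈ Subgroup.center L := by
        rw [Subgroup.mem_center_iff]
        intro x
        have := DFunLike.congr_fun h x
        rw [MulAut.conj_apply, MulAut.one_apply] at this
        calc x * g = g * x * g⁻¹ * g := by rw [this]
          _ = g * x := by group
      rw [hc, Subgroup.mem_bot] at hg
      exact hg
    · rintro rfl
      exact map_one _
  have h1 : Nat.card (Cfsg.Inn L) = Nat.card L :=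
    (Nat.card_congr (MonoidHom.ofInjective hinj).toEquiv).symm
  have h2 := Subgroup.card_eq_card_quotient_mul_card_subgroup (Cfsg.Inn L)
  rw [h1] at h2
  exact h2.symm

variable {F : Type*} [Field F] [Fintype F] {m : ℕ} (hF : Fintype.card F = 2 ^ (2 * m + 1))
  (hm : 1 ≤ m)

include hF hm in
theorem center_Sz : Subgroup.center (Sz F m) = ⊥ := by
  have hs : IsSimpleGroup (Sz F m) := Sz_isSimple hF hm
  rcases (Subgroup.Normal.eq_bot_or_eq_top (H := Subgroup.center (Sz F m)) inferInstance) with h | h
  · exact h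
  · exfalso
    obtain ⟨k, hk⟩ := exists_unit_ne_one hm hF
    have hmem : gD hF k ∈ Subgroup.center (Sz F m) := by
      rw [h]
      exact Subgroup.mem_top _
    rw [Subgroup.mem_center_iff] at hmem
    have e := hmem (gT hF 1 0)
    have e2 := gD_conj_gT hF k 1 0
    rw [← e, mul_inv_cancel_right] at e2
    have := (gT_injective hF e2).1
    rw [mul_one] at this
    exact hk (Units.ext (sz_sq_eq_one hF this.symm))

include hF hm in
/-- the outer automorphism group of the Suzuki group has order `2 m + 1` -/
theorem card_out_lieSz : Nat.card (Cfsg.Out ↥(Cfsg.Lie.Sz F (2 ^ (m + 1)))) = 2 * m + 1 := by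
  have hfin : Finite (Sz F m) := finite_Sz hF hm
  set e := szLieEquiv hF hm with he
  have hfinL : Finite ↥(Cfsg.Lie.Sz F (2 ^ (m + 1))) := Finite.of_equiv _ e.toEquiv
  have hcL : Subgroup.center ↥(Cfsg.Lie.Sz F (2 ^ (m + 1))) = ⊥ := by
    rw [eq_bot_iff]
    intro g hg
    rw [Subgroup.mem_bot]
    have : e.symm g ∈ Subgroup.center (Sz F m) := by
      rw [Subgroup.mem_center_iff] at hg ⊢
      intro x
      have := hg (e x)
      apply e.injective
      rw [map_mul, map_mul, MulEquiv.apply_symm_apply]
      exact this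
    rw [center_Sz hF hm, Subgroup.mem_bot] at this
    rw [← e.apply_symm_apply g, this, map_one]
  have h1 := card_out_mul_card hcL
  have h2 : Nat.card (MulAut ↥(Cfsg.Lie.Sz F (2 ^ (m + 1)))) = Nat.card (MulAut (Sz F m)) :=
    (Nat.card_congr (MulAut.congr e).toEquiv).symm
  have h3 : Nat.card ↥(Cfsg.Lie.Sz F (2 ^ (m + 1))) = Nat.card (Sz F m) :=
    (Nat.card_congr e.toEquiv).symm
  rw [h2, h3, card_mulAut_Sz hF hm, mul_comm] at h1
  have hpos : 0 < Nat.card (Sz F m) := Nat.card_pos
  exact Nat.eq_of_mul_eq_mul_left hpos h1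

end Cfsg.Agent.Lib.helper3
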