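import Mathlib
import Cfsg.Prelude.Def_LieExceptional
import Cfsg.Agent.Lib.helper3.SuzukiPartition
import Cfsg.Agent.Lib.helper3.SuzukiOut
import Cfsg.Agent.Lib.helper3.NilCover

set_option autoImplicit false

namespace Cfsg.Agent.Lib.helper3

open Cfsg Matrix

variable {F : Type*} [Field F] [Fintype F] {m : ℕ} (hF : Fintype.card F = 2 ^ (2 * m + 1))
  (hm : 1 ≤ m)

omit [Fintype F] in
theorem conj_smul_eq_iff (u c : Sz F m) (q : suzukiOvoid F m) :
    (u * c * u⁻¹) • q = q ↔ c • (u⁻¹ • q) = u⁻¹ • q := by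
  rw [mul_smul, mul_smul, smul_eq_iff_eq_inv_smul]

include hF in
theorem conj_gT_fixed_iff (u : Sz F m) {a b : F} (hab : ¬ (a = 0 ∧ b = 0))
    (q : suzukiOvoid F m) : (u * gT hF a b * u⁻¹) • q = q ↔ q = u • oInf F m := by
  rw [conj_smul_eq_iff]
  constructor
  · intro h
    have := gT_fixed hF hab h
    rw [inv_smul_eq_iff] at this
    exact this
  · rintro rfl
    rw [inv_smul_smul, gT_oInf]

include hF in
theorem conj_gD_fixed_iff (u : Sz F m) {k : Fˣ} (hk : k ≠ 1)
    (q : suzukiOvoid F m) :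
    (u * gD hF k * u⁻¹) • q = q ↔ (q = u • oInf F m ∨ q = u • oPt m (0 : F) 0) := by
  rw [conj_smul_eq_iff]
  constructor
  · intro h
    rcases gD_fixed hF hk h with h' | h'
    · left
      rwa [inv_smul_eq_iff] at h'
    · right
      rwa [inv_smul_eq_iff] at h'
  · rintro (rfl | rfl)
    · rw [inv_smul_smul, gD_oInf]
    · rw [inv_smul_smul, gD_oZero]

include hF hm in
/-- two nontrivial elements of a nilpotent subgroup have the same fixed points, and the same
centraliser when they have no fixed points -/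
theorem nilpotent_pair (A : Subgroup (Sz F m)) (hA : Group.IsNilpotent A) {x y : Sz F m}
    (hx : x ∈ A) (hy : y ∈ A) (hx1 : x ≠ 1) (hy1 : y ≠ 1) :
    (∀ q : suzukiOvoid F m, x • q = q ↔ y • q = q) ∧
      (Fpf x → Subgroup.centralizer ({x} : Set (Sz F m)) =
        Subgroup.centralizer ({y} : Set (Sz F m))) := by
  have hnt : Nontrivial A := ⟨⟨⟨x, hx⟩, 1, fun h => hx1 (congrArg Subtype.val h)⟩⟩
  have hc := Group.IsNilpotent.center_ne_bot (G := A)
  obtain ⟨⟨z, hzc⟩, hz1⟩ := (Subgroup.ne_bot_iff_exists_ne_one).1 hc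
  have hz1' : (z : Sz F m) ≠ 1 := fun h => hz1 (Subtype.ext (Subtype.ext h))
  rw [Subgroup.mem_center_iff] at hzc
  have hzx : x * (z : Sz F m) = (z : Sz F m) * x := congrArg Subtype.val (hzc ⟨x, hx⟩)
  have hzy : y * (z : Sz F m) = (z : Sz F m) * y := congrArg Subtype.val (hzc ⟨y, hy⟩)
  have hxC : x ∈ Subgroup.centralizer ({(z : Sz F m)} : Set (Sz F m)) :=
    Subgroup.mem_centralizer_singleton_iff.2 hzx
  have hyC : y ∈ Subgroup.centralizer ({(z : Sz F m)} : Set (Sz F m)) :=
    Subgroup.mem_centralizer_singleton_iff.2 hzy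
  rcases sz_trichotomy hF hm hz1' with ⟨u, a, b, hab, hz⟩ | ⟨u, k, hk, hz⟩ | hzf
  · -- translations
    rw [hz, centralizer_conj_eq] at hxC hyC
    have key : ∀ w : Sz F m, w ≠ 1 →
        w ∈ (Subgroup.centralizer ({gT hF a b} : Set (Sz F m))).map (MulAut.conj u).toMonoidHom →
        ∀ q : suzukiOvoid F m, w • q = q ↔ q = u • oInf F m := by
      rintro _ hw1 ⟨c, hc, rfl⟩ q
      obtain ⟨a', b', rfl⟩ := (mem_Qs hF).1 (centralizer_gT_le hF hm hab hc)
      have hab' : ¬ (a' = 0 ∧ b' = 0) := by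
        rintro ⟨rfl, rfl⟩
        apply hw1
        rw [gT_zero, map_one]
      exact conj_gT_fixed_iff hF u hab' q
    refine ⟨fun q => by rw [key x hx1 hxC q, key y hy1 hyC q], fun hf => ?_⟩
    exact absurd ((key x hx1 hxC _).2 rfl) (hf _)
  · -- torus
    rw [hz, centralizer_conj_eq] at hxC hyC
    have key : ∀ w : Sz F m, w ≠ 1 →
        w ∈ (Subgroup.centralizer ({gD hF k} : Set (Sz F m))).map (MulAut.conj u).toMonoidHom →
        ∀ q : suzukiOvoid F m, w • q = q ↔ (q = u • oInf F m ∨ q = u • oPt m (0 : F) 0) := by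
      rintro _ hw1 ⟨c, hc, rfl⟩ q
      obtain ⟨k', rfl⟩ := centralizer_gD_le hF hm hk hc
      have hk' : k' ≠ 1 := by
        rintro rfl
        apply hw1
        rw [map_one, map_one]
      exact conj_gD_fixed_iff hF u hk' q
    refine ⟨fun q => by rw [key x hx1 hxC q, key y hy1 hyC q], fun hf => ?_⟩
    exact absurd ((key x hx1 hxC _).2 (Or.inl rfl)) (hf _)
  · -- fixed-point-free
    have hxf : Fpf x := hzf.of_commute hF hm hx1 (Subgroup.mem_centralizer_singleton_iff.1 hxC).symm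
    have hyf : Fpf y := hzf.of_commute hF hm hy1 (Subgroup.mem_centralizer_singleton_iff.1 hyC).symm
    refine ⟨fun q => ⟨fun h => absurd h (hxf q), fun h => absurd h (hyf q)⟩, fun _ => ?_⟩
    rw [hzf.centralizer_eq hF hm hxC hx1, hzf.centralizer_eq hF hm hyC hy1]

/-- centralisers of fixed-point-free elements -/
def FpfCent (F : Type*) [Field F] [Fintype F] (m : ℕ) : Type _ :=
  {C : Subgroup (Sz F m) // ∃ x : Sz F m, Fpf x ∧ C = Subgroup.centralizer ({x} : Set (Sz F m))}

include hF hm in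
/-- the Suzuki group has no nilpotent minimal cover; stated for any isomorphic group -/
theorem sz_no_nilpotent_minimal_cover {L : Type*} [Group L] (e : Sz F m ≃* L) :
    ¬ ∃ 𝓐 : Finset (Subgroup L), ((∀ A ∈ 𝓐, A ≠ ⊤) ∧ (∀ x : L, ∃ A ∈ 𝓐, x ∈ A)) ∧
      (∀ 𝓑 : Finset (Subgroup L), (∀ A ∈ 𝓑, A ≠ ⊤) ∧ (∀ x : L, ∃ A ∈ 𝓑, x ∈ A) →
        𝓐.card ≤ 𝓑.card) ∧
      (∀ A ∈ 𝓐, Group.IsNilpotent ↥A) := by
  have hfin : Finite (Sz F m) := finite_Sz hF hm
  have hΩ : Finite (suzukiOvoid F m) := by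
    apply Nat.finite_of_card_ne_zero
    rw [card_ovoid hF]
    positivity
  have hfinC : Finite (FpfCent F m) := by
    unfold FpfCent
    infer_instance
  let _ : Fintype (FpfCent F m) := Fintype.ofFinite _
  let _ : Fintype (suzukiOvoid F m) := Fintype.ofFinite _
  choose xC hxC using (fun C : FpfCent F m => C.2)
  choose h hh using (fun p : suzukiOvoid F m => ovoid_eq_smul_inf hF p)
  obtain ⟨k₀, hk₀⟩ := exists_unit_ne_one hm hF
  have h10 : ¬ ((1 : F) = 0 ∧ (0 : F) = 0) := fun h => one_ne_zero h.1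
  let f : Option (FpfCent F m ⊕ suzukiOvoid F m) → Sz F m := fun i =>
    match i with
    | none => gD hF k₀
    | some (Sum.inl C) => xC C
    | some (Sum.inr p) => h p * gT hF 1 0 * (h p)⁻¹
  let g : FpfCent F m ⊕ suzukiOvoid F m → Subgroup (Sz F m) := fun j =>
    match j with
    | Sum.inl C => C.1
    | Sum.inr p => MulAction.stabilizer (Sz F m) p
  -- fixed points of the chosen elements
  have hfixU : ∀ p q : suzukiOvoid F m, (h p * gT hF 1 0 * (h p)⁻¹) • q = q ↔ q = p := by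
    intro p q
    rw [conj_gT_fixed_iff hF (h p) h10 q, ← hh p]
  have hU1 : ∀ p : suzukiOvoid F m, h p * gT hF 1 0 * (h p)⁻¹ ≠ 1 := by
    intro p hp
    have : gT hF (1 : F) 0 = 1 := by
      calc gT hF (1 : F) 0 = (h p)⁻¹ * (h p * gT hF 1 0 * (h p)⁻¹) * h p := by group
        _ = 1 := by rw [hp]; group
    exact one_ne_zero (gT_injective hF (this.trans (gT_zero hF).symm)).1
  have hD1 : gD hF k₀ ≠ 1 := by
    intro hd
    apply hk₀
    apply gDhom_injective hF
    change gD hF k₀ = gD hF 1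
    rw [hd, gD_one]
  apply no_nilpotent_minimal_cover_of_equiv e f g
  · rw [Fintype.card_option]
    exact Nat.lt_succ_self _
  · -- proper
    rintro (C | p) htop
    · obtain ⟨hf, hC⟩ := hxC C
      change C.1 = ⊤ at htop
      have hcen : xC C ∈ Subgroup.center (Sz F m) := by
        rw [Subgroup.mem_center_iff]
        intro y
        have hy : y ∈ C.1 := by rw [htop]; exact Subgroup.mem_top _
        rw [hC, Subgroup.mem_centralizer_singleton_iff] at hy
        exact hy
      rw [center_Sz hF hm, Subgroup.mem_bot] at hcen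
      exact hf.ne_one hcen
    · change MulAction.stabilizer (Sz F m) p = ⊤ at htop
      have hmem : h p * gJ hF * (h p)⁻¹ ∈ MulAction.stabilizer (Sz F m) p := by
        rw [htop]; exact Subgroup.mem_top _
      rw [MulAction.mem_stabilizer_iff, conj_smul_eq_iff] at hmem
      have e1 : (h p)⁻¹ • p = oInf F m := by rw [inv_smul_eq_iff]; exact hh p
      rw [e1, gJ_oInf] at hmem
      exact oPt_ne_oInf 0 0 hmem
  · -- cover
    intro x
    by_cases hx1 : x = 1
    · exact ⟨Sum.inr (oInf F m), by rw [hx1]; exact Subgroup.one_mem _⟩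
    rcases sz_trichotomy hF hm hx1 with ⟨u, a, b, hab, hx⟩ | ⟨u, k, hk, hx⟩ | hxf
    · refine ⟨Sum.inr (u • oInf F m), ?_⟩
      change x ∈ MulAction.stabilizer (Sz F m) (u • oInf F m)
      rw [MulAction.mem_stabilizer_iff, hx, conj_gT_fixed_iff hF u hab]
    · refine ⟨Sum.inr (u • oInf F m), ?_⟩
      change x ∈ MulAction.stabilizer (Sz F m) (u • oInf F m)
      rw [MulAction.mem_stabilizer_iff, hx, conj_gD_fixed_iff hF u hk]
      exact Or.inl rfl
    · refine ⟨Sum.inl ⟨Subgroup.centralizer ({x} : Set (Sz F m)), x, hxf, rfl⟩, ?_⟩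
      change x ∈ Subgroup.centralizer ({x} : Set (Sz F m))
      rw [Subgroup.mem_centralizer_singleton_iff]
  · -- independence
    intro i i' hne A hA hi hi'
    have hfi1 : ∀ i, f i ≠ 1 := by
      rintro (_ | C | p)
      · exact hD1
      · exact (hxC C).1.ne_one
      · exact hU1 p
    obtain ⟨hfix, hcent⟩ := nilpotent_pair hF hm A hA hi hi' (hfi1 i) (hfi1 i')
    rcases i with _ | C | p <;> rcases i' with _ | C' | p'
    · exact hne rfl
    · exact (hxC C').1 _ ((hfix (oInf F m)).1 (gD_oInf hF k₀))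
    · have e1 := (hfixU p' _).1 ((hfix (oInf F m)).1 (gD_oInf hF k₀))
      have e2 := (hfixU p' _).1 ((hfix (oPt m 0 0)).1 (gD_oZero hF k₀))
      exact oPt_ne_oInf 0 0 (e2.trans e1.symm)
    · exact (hxC C).1 _ ((hfix (oInf F m)).2 (gD_oInf hF k₀))
    · have := hcent (hxC C).1
      apply hne
      have hCC : C = C' := Subtype.ext (by rw [(hxC C).2, (hxC C').2]; exact this)
      rw [hCC]
    · exact (hxC C).1 _ ((hfix p').2 ((hfixU p' p').2 rfl))
    · have e1 := (hfixU p _).1 ((hfix (oInf F m)).2 (gD_oInf hF k₀))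
      have e2 := (hfixU p _).1 ((hfix (oPt m 0 0)).2 (gD_oZero hF k₀))
      exact oPt_ne_oInf 0 0 (e2.trans e1.symm)
    · exact (hxC C').1 _ ((hfix p).1 ((hfixU p p).2 rfl))
    · have := (hfixU p' p).1 ((hfix p).1 ((hfixU p p).2 rfl))
      apply hne
      rw [this]

end Cfsg.Agent.Lib.helper3
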