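import Mathlib
import Cfsg.Agent.Lib.helper3.SuzukiPartition
import Cfsg.Agent.Lib.helper3.SuzukiClassEq
import Cfsg.Prelude.Def_Transfer

set_option autoImplicit false
open Cfsg

namespace Cfsg.Agent.Lib.helper3

section subfield

variable {F : Type*} [Field F] [Fintype F]

/-- number of fixed points of a power of the Frobenius map -/
theorem card_pow_two_pow_eq_self {k n : ℕ} (hF : Fintype.card F = 2 ^ k) (hn : n ∣ k)
    (hn0 : n ≠ 0) : Nat.card {x : F // x ^ (2 ^ n) = x} = 2 ^ n := by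
  classical
  rw [Nat.card_eq_fintype_card, Fintype.card_subtype]
  apply le_antisymm
  · have hdeg : (Polynomial.X ^ 2 ^ n - Polynomial.X : Polynomial F).natDegree = 2 ^ n :=
      FiniteField.X_pow_card_pow_sub_X_natDegree_eq F hn0 (by norm_num)
    have hne : (Polynomial.X ^ 2 ^ n - Polynomial.X : Polynomial F) ≠ 0 :=
      FiniteField.X_pow_card_pow_sub_X_ne_zero F hn0 (by norm_num)
    calc (Finset.univ.filter (fun x : F => x ^ (2 ^ n) = x)).card
        ≤ (Polynomial.X ^ 2 ^ n - Polynomial.X : Polynomial F).roots.toFinset.card := by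
          apply Finset.card_le_card
          intro x hx
          rw [Finset.mem_filter] at hx
          rw [Multiset.mem_toFinset, Polynomial.mem_roots hne]
          simp [hx.2]
      _ ≤ Multiset.card (Polynomial.X ^ 2 ^ n - Polynomial.X : Polynomial F).roots :=
          Multiset.toFinset_card_le _
      _ ≤ (Polynomial.X ^ 2 ^ n - Polynomial.X : Polynomial F).natDegree :=
          Polynomial.card_roots' _
      _ = 2 ^ n := hdeg
  · have hcardU : Fintype.card Fˣ = 2 ^ k - 1 := by rw [Fintype.card_units, hF]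
    obtain ⟨g, hg⟩ := IsCyclic.exists_generator (α := Fˣ)
    have hog : orderOf g = 2 ^ k - 1 := by
      rw [orderOf_eq_card_of_forall_mem_zpowers hg, Nat.card_eq_fintype_card, hcardU]
    have hd : 2 ^ n - 1 ∣ 2 ^ k - 1 := Nat.pow_sub_one_dvd_pow_sub_one 2 hn
    have hNpos : 0 < 2 ^ k - 1 := by rw [← hcardU]; exact Fintype.card_pos
    have hdpos : 0 < 2 ^ n - 1 := by
      have : 2 ^ 1 ≤ 2 ^ n := Nat.pow_le_pow_right (by norm_num) (Nat.one_le_iff_ne_zero.2 hn0)
      omega
    set d := 2 ^ n - 1 with hd_def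
    set N := 2 ^ k - 1 with hN_def
    have hquot : N / d ≠ 0 := by
      intro h0
      rw [Nat.div_eq_zero_iff] at h0
      rcases h0 with h0 | h0
      · omega
      · exact absurd (Nat.le_of_dvd hNpos hd) (by omega)
    have hoh : orderOf (g ^ (N / d)) = d := by
      rw [orderOf_pow_of_dvd hquot (by rw [hog]; exact Nat.div_dvd_of_dvd hd), hog,
        Nat.div_div_self hd hNpos.ne']
    set h := g ^ (N / d) with hh
    have hsub : insert (0 : F) ((Finset.range d).image (fun i => ((h ^ i : Fˣ) : F))) ⊆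
        Finset.univ.filter (fun x : F => x ^ (2 ^ n) = x) := by
      intro x hx
      rw [Finset.mem_insert, Finset.mem_image] at hx
      rw [Finset.mem_filter]
      refine ⟨Finset.mem_univ _, ?_⟩
      rcases hx with rfl | ⟨i, -, rfl⟩
      · exact zero_pow (by positivity)
      · have h1 : (h ^ i) ^ d = 1 := by
          rw [← pow_mul, mul_comm, pow_mul, ← hoh, pow_orderOf_eq_one, one_pow]
        have h2 : (2 : ℕ) ^ n = d + 1 := by omega
        rw [h2, pow_succ, ← Units.val_pow_eq_pow_val, h1, Units.val_one, one_mul]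
    have hcard : (insert (0 : F) ((Finset.range d).image (fun i => ((h ^ i : Fˣ) : F)))).card =
        d + 1 := by
      rw [Finset.card_insert_of_notMem, Finset.card_image_of_injOn, Finset.card_range]
      · intro i hi j hj hij
        have hij' : h ^ i = h ^ j := Units.ext hij
        rw [Finset.coe_range, Set.mem_Iio] at hi hj
        exact pow_injOn_Iio_orderOf (by rwa [hoh]) (by rwa [hoh]) hij'
      · rw [Finset.mem_image]
        rintro ⟨i, -, hi⟩
        exact (h ^ i).ne_zero hi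
    calc 2 ^ n = d + 1 := by omega
      _ = _ := hcard.symm
      _ ≤ _ := Finset.card_le_card hsub

end subfield

section ti

variable {F : Type*} [Field F] [Fintype F] {m : ℕ} (hF : Fintype.card F = 2 ^ (2 * m + 1))
  (hm : 1 ≤ m)

/-- a conjugate of a central translation -/
def zT (x : Sz F m) (b : F) : Sz F m := x * gT hF 0 b * x⁻¹

theorem gT_zero_add (b b' : F) : gT hF 0 (b + b') = gT hF 0 b * gT hF 0 b' := by
  rw [gT_mul, add_zero, mul_zero, add_zero]

theorem zT_add (x : Sz F m) (b b' : F) : zT hF x (b + b') = zT hF x b * zT hF x b' := by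
  unfold zT
  rw [gT_zero_add]
  group

theorem zT_zero (x : Sz F m) : zT hF x 0 = 1 := by
  unfold zT
  rw [gT_zero]
  group

theorem zT_injective (x : Sz F m) : Function.Injective (zT hF x) := by
  intro b b' h
  unfold zT at h
  have h' : gT hF 0 b = gT hF 0 b' := by
    have := congrArg (fun g => x⁻¹ * g * x) h
    calc gT hF 0 b = x⁻¹ * (x * gT hF 0 b * x⁻¹) * x := by group
      _ = x⁻¹ * (x * gT hF 0 b' * x⁻¹) * x := this
      _ = gT hF 0 b' := by group
  exact (gT_injective hF h').2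

theorem zT_eq_one {x : Sz F m} {b : F} (h : zT hF x b = 1) : b = 0 :=
  zT_injective hF x (h.trans (zT_zero hF x).symm)

theorem zT_conj (x : Sz F m) (k : Fˣ) (b : F) :
    (x * gD hF k * x⁻¹) * zT hF x b * (x * gD hF k * x⁻¹)⁻¹ =
      zT hF x ((k : F) ^ 2 * szθ m (k : F) ^ 2 * b) := by
  unfold zT
  have e : gD hF k * gT hF 0 b * (gD hF k)⁻¹ =
      gT hF 0 ((k : F) ^ 2 * szθ m (k : F) ^ 2 * b) := by
    rw [gD_gT, mul_zero]
    group
  calc (x * gD hF k * x⁻¹) * (x * gT hF 0 b * x⁻¹) * (x * gD hF k * x⁻¹)⁻¹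
      = x * (gD hF k * gT hF 0 b * (gD hF k)⁻¹) * x⁻¹ := by group
    _ = _ := by rw [e]

include hF in
theorem exists_mult (μ : Fˣ) : ∃ k : Fˣ, (k : F) ^ 2 * szθ m (k : F) ^ 2 = μ := by
  obtain ⟨c, hc⟩ := exists_sqrt_unit hF μ
  obtain ⟨a, ha⟩ := norm_surj hF (c : F)
  have ha0 : a ≠ 0 := by
    rintro rfl
    rw [zero_mul] at ha
    exact c.ne_zero ha.symm
  refine ⟨Units.mk0 a ha0, ?_⟩
  rw [Units.val_mk0, ← mul_pow, ha, ← hc, Units.val_mul, sq]

/-- involutions in conjugates of the standard Sylow subgroup are central translations -/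
theorem eq_zT_of_sq {x g : Sz F m} (hg : x⁻¹ * g * x ∈ Qs hF) (h2 : g ^ 2 = 1) :
    ∃ b, g = zT hF x b := by
  obtain ⟨a, b, hab⟩ := (mem_Qs hF).1 hg
  have hsq : gT hF a b * gT hF a b = 1 := by
    rw [← hab]
    calc x⁻¹ * g * x * (x⁻¹ * g * x) = x⁻¹ * g ^ 2 * x := by rw [sq]; group
      _ = 1 := by rw [h2]; group
  rw [gT_mul, ← gT_zero hF] at hsq
  have h := (gT_injective hF hsq).2
  have htwo := sz_two hF
  have ha : szθ m a * a = 0 := by linear_combination h - b * htwo
  have ha0 : a = 0 := by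
    rcases mul_eq_zero.1 ha with h' | h'
    · exact szθ_eq_zero m h'
    · exact h'
  refine ⟨b, ?_⟩
  unfold zT
  rw [← ha0, ← hab]
  group

end ti

section ti2

variable {F : Type*} [Field F] [Fintype F] {m : ℕ} (hF : Fintype.card F = 2 ^ (2 * m + 1))
  (hm : 1 ≤ m)

include hF in
/-- an additive subgroup closed under "multiplication whenever it meets itself" and containing
a nonzero element is a multiple of a subfield -/
theorem card_of_mult_closed (V : AddSubgroup F) {n : ℕ} (hcard : Nat.card V = 2 ^ n) (hn : 1 ≤ n)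
    (hV : ∀ μ : Fˣ, ∀ b ∈ V, b ≠ 0 → (μ : F) * b ∈ V → ∀ c ∈ V, (μ : F) * c ∈ V) :
    n ∣ 2 * m + 1 := by
  have hne : V ≠ ⊥ := by
    rintro rfl
    rw [AddSubgroup.card_bot] at hcard
    have : 2 ^ 1 ≤ 2 ^ n := Nat.pow_le_pow_right (by norm_num) hn
    omega
  obtain ⟨⟨v, hv⟩, hv0'⟩ := (AddSubgroup.ne_bot_iff_exists_ne_zero).1 hne
  have hv0 : v ≠ 0 := fun h => hv0' (Subtype.ext h)
  -- the subring
  let W : Subring F :=
    { carrier := {w | v * w ∈ V}
      mul_mem' := by
        intro a b ha hb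
        simp only [Set.mem_ofPred_eq] at ha hb ⊢
        by_cases ha0 : a = 0
        · rw [ha0, zero_mul, mul_zero]
          exact V.zero_mem
        · have := hV (Units.mk0 a ha0) v hv hv0 (by rw [Units.val_mk0, mul_comm]; exact ha)
            (v * b) hb
          rw [Units.val_mk0] at this
          have e : a * (v * b) = v * (a * b) := by ring
          rwa [e] at this
      one_mem' := by
        simp only [Set.mem_ofPred_eq, mul_one]
        exact hv
      add_mem' := by
        intro a b ha hb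
        simp only [Set.mem_ofPred_eq] at ha hb ⊢
        rw [mul_add]
        exact V.add_mem ha hb
      zero_mem' := by
        simp only [Set.mem_ofPred_eq, mul_zero]
        exact V.zero_mem
      neg_mem' := by
        intro a ha
        simp only [Set.mem_ofPred_eq] at ha ⊢
        rw [mul_neg]
        exact V.neg_mem ha }
  let K : Subfield F :=
    { W with
      inv_mem' := by
        intro a ha
        by_cases ha0 : a = 0
        · rw [ha0, inv_zero]
          exact W.zero_mem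
        · have h1 : a ^ (Fintype.card F - 1) = 1 := FiniteField.pow_card_sub_one_eq_one a ha0
          have h2 : a⁻¹ = a ^ (Fintype.card F - 2) := by
            have hc : 2 ≤ Fintype.card F := Fintype.one_lt_card
            have : a * a ^ (Fintype.card F - 2) = 1 := by
              rw [← pow_succ', show Fintype.card F - 2 + 1 = Fintype.card F - 1 by omega, h1]
            exact inv_eq_of_mul_eq_one_right this
          rw [h2]
          exact W.pow_mem ha _ }
  have hKV : Nat.card K = Nat.card V := by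
    refine Nat.card_congr (Equiv.ofBijective (fun w : K => (⟨v * w.1, w.2⟩ : V)) ⟨?_, ?_⟩)
    · intro a b hab
      have := congrArg Subtype.val hab
      simp only at this
      exact Subtype.ext (mul_left_cancel₀ hv0 this)
    · intro c
      refine ⟨⟨v⁻¹ * c.1, ?_⟩, ?_⟩
      · change v * (v⁻¹ * c.1) ∈ V
        rw [mul_inv_cancel_left₀ hv0]
        exact c.2
      · apply Subtype.ext
        change v * (v⁻¹ * c.1) = c.1
        rw [mul_inv_cancel_left₀ hv0]
  have hpow : Nat.card F = Nat.card K ^ Module.finrank K F := Module.natCard_eq_pow_finrank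
  rw [hKV, hcard, Nat.card_eq_fintype_card, hF, ← pow_mul] at hpow
  have := Nat.pow_right_injective (le_refl 2) hpow
  exact ⟨_, this⟩

include hF hm in
/-- an elementary abelian TI-subgroup of order `2 ^ n` forces `n ∣ 2 * m + 1` -/
theorem ti_imp_dvd {n : ℕ} (hn : 2 ≤ n) (E : Subgroup (Sz F m))
    (hE : Cfsg.IsElementaryAbelian 2 E) (hcard : Nat.card E = 2 ^ n)
    (hTI : ∀ x : Sz F m, E ⊓ E.map (MulAut.conj x).toMonoidHom ≠ ⊥ →
      x ∈ Subgroup.normalizer (E : Set (Sz F m))) : n ∣ 2 * m + 1 := by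
  have := finite_Sz hF hm
  have : Fact (Nat.Prime 2) := ⟨Nat.prime_two⟩
  have hp : IsPGroup 2 E := IsPGroup.of_card hcard
  obtain ⟨P, hP⟩ := hp.exists_le_sylow
  obtain ⟨x, hx⟩ := sylow_two_conj hF hm P
  have key1 : ∀ g ∈ E, ∃ b, g = zT hF x b := fun g hg =>
    eq_zT_of_sq hF ((hx g).1 (hP hg)) (hE.2 g hg)
  let V : AddSubgroup F :=
    { carrier := {b | zT hF x b ∈ E}
      add_mem' := by
        intro a b ha hb
        simp only [Set.mem_ofPred_eq] at ha hb ⊢
        rw [zT_add]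
        exact E.mul_mem ha hb
      zero_mem' := by
        simp only [Set.mem_ofPred_eq]
        rw [zT_zero]
        exact E.one_mem
      neg_mem' := by
        intro a ha
        simp only [Set.mem_ofPred_eq] at ha ⊢
        have : zT hF x (-a) = (zT hF x a)⁻¹ := by
          rw [eq_inv_iff_mul_eq_one, ← zT_add, neg_add_cancel, zT_zero]
        rw [this]
        exact E.inv_mem ha }
  have hVE : Nat.card V = Nat.card E := by
    refine Nat.card_congr (Equiv.ofBijective (fun b : V => (⟨zT hF x b.1, b.2⟩ : E)) ⟨?_, ?_⟩)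
    · intro a b hab
      exact Subtype.ext (zT_injective hF x (congrArg Subtype.val hab))
    · intro g
      obtain ⟨b, hb⟩ := key1 g.1 g.2
      exact ⟨⟨b, by change zT hF x b ∈ E; rw [← hb]; exact g.2⟩, Subtype.ext hb.symm⟩
  apply card_of_mult_closed hF V (hVE.trans hcard) (by omega)
  intro μ b hb hb0 hμb c hc
  obtain ⟨k, hk⟩ := exists_mult hF μ
  have hy : x * gD hF k * x⁻¹ ∈ Subgroup.normalizer (E : Set (Sz F m)) := by
    apply hTI
    intro hbot
    have hmem : zT hF x ((μ : F) * b) ∈ E ⊓ E.map (MulAut.conj (x * gD hF k * x⁻¹)).toMonoidHom := by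
      refine ⟨hμb, zT hF x b, hb, ?_⟩
      change (x * gD hF k * x⁻¹) * zT hF x b * (x * gD hF k * x⁻¹)⁻¹ = _
      rw [zT_conj, hk]
    rw [hbot, Subgroup.mem_bot] at hmem
    have := zT_eq_one hF hmem
    rcases mul_eq_zero.1 this with h | h
    · exact μ.ne_zero h
    · exact hb0 h
  rw [Subgroup.mem_normalizer_iff] at hy
  have := (hy (zT hF x c)).1 hc
  rw [zT_conj, hk] at this
  exact this

end ti2

section ti3

variable {F : Type*} [Field F] [Fintype F] {m : ℕ} (hF : Fintype.card F = 2 ^ (2 * m + 1))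
  (hm : 1 ≤ m)

/-- the central translations with parameter fixed by a Frobenius power -/
def tiE (n : ℕ) : Subgroup (Sz F m) where
  carrier := {g | ∃ b : F, b ^ (2 ^ n) = b ∧ g = gT hF 0 b}
  mul_mem' := by
    rintro _ _ ⟨b, hb, rfl⟩ ⟨b', hb', rfl⟩
    refine ⟨b + b', ?_, (gT_zero_add hF b b').symm⟩
    have : CharP F 2 := CharTwo.of_one_ne_zero_of_two_eq_zero one_ne_zero (sz_two hF)
    have : Fact (Nat.Prime 2) := ⟨Nat.prime_two⟩
    rw [add_pow_char_pow, hb, hb']
  one_mem' := ⟨0, zero_pow (by positivity), (gT_zero hF).symm⟩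
  inv_mem' := by
    rintro _ ⟨b, hb, rfl⟩
    refine ⟨b, hb, ?_⟩
    rw [gT_inv, zero_mul, add_zero]

theorem mem_tiE {n : ℕ} {g : Sz F m} :
    g ∈ tiE hF n ↔ ∃ b : F, b ^ (2 ^ n) = b ∧ g = gT hF 0 b := Iff.rfl

theorem tiE_elementary (n : ℕ) : Cfsg.IsElementaryAbelian 2 (tiE hF n) := by
  refine ⟨⟨⟨?_⟩⟩, ?_⟩
  · rintro ⟨_, b, hb, rfl⟩ ⟨_, b', hb', rfl⟩
    apply Subtype.ext
    change gT hF 0 b * gT hF 0 b' = gT hF 0 b' * gT hF 0 b
    rw [← gT_zero_add, ← gT_zero_add, add_comm]
  · rintro _ ⟨b, hb, rfl⟩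
    rw [sq, ← gT_zero_add, ← gT_zero hF]
    congr 1
    linear_combination b * sz_two hF

theorem card_tiE {n : ℕ} (hn : n ∣ 2 * m + 1) (hn0 : n ≠ 0) : Nat.card (tiE hF n) = 2 ^ n := by
  rw [← card_pow_two_pow_eq_self hF hn hn0]
  symm
  refine Nat.card_congr (Equiv.ofBijective
    (fun b : {x : F // x ^ (2 ^ n) = x} => (⟨gT hF 0 b.1, b.1, b.2, rfl⟩ : tiE hF n)) ⟨?_, ?_⟩)
  · intro a b hab
    exact Subtype.ext (gT_injective hF (congrArg Subtype.val hab)).2
  · rintro ⟨_, b, hb, rfl⟩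
    exact ⟨⟨b, hb⟩, rfl⟩

include hm in
theorem tiE_ti (n : ℕ) (x : Sz F m)
    (hx : tiE hF n ⊓ (tiE hF n).map (MulAut.conj x).toMonoidHom ≠ ⊥) :
    x ∈ Subgroup.normalizer ((tiE hF n : Subgroup (Sz F m)) : Set (Sz F m)) := by
  obtain ⟨⟨g, hg1, hg2⟩, hg⟩ := (Subgroup.ne_bot_iff_exists_ne_one).1 hx
  have hg' : g ≠ 1 := fun h => hg (Subtype.ext h)
  obtain ⟨b, hb, rfl⟩ := hg1
  obtain ⟨g', ⟨b', hb', rfl⟩, hgg⟩ := hg2
  have hgg' : x * gT hF 0 b' * x⁻¹ = gT hF 0 b := hgg
  have hb0 : b ≠ 0 := by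
    rintro rfl
    exact hg' (gT_zero hF)
  have hfix : gT hF 0 b • (x • oInf F m) = x • oInf F m := by
    rw [← hgg', ← mul_smul, inv_mul_cancel_right, mul_smul, gT_oInf]
  have hxinf : x • oInf F m = oInf F m :=
    gT_fixed hF (by rintro ⟨-, h⟩; exact hb0 h) hfix
  obtain ⟨a', b'', k, rfl⟩ := stab_decomp hF hm hxinf
  set μ : F := (k : F) ^ 2 * szθ m (k : F) ^ 2 with hμ
  have hconj : ∀ c : F, (gT hF a' b'' * gD hF k) * gT hF 0 c * (gT hF a' b'' * gD hF k)⁻¹ =
      gT hF 0 (μ * c) := by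
    intro c
    have e : gD hF k * gT hF 0 c * (gD hF k)⁻¹ = gT hF 0 (μ * c) := by
      rw [gD_gT, mul_zero, mul_inv_cancel_right]
    have e2 : gT hF a' b'' * gT hF 0 (μ * c) = gT hF 0 (μ * c) * gT hF a' b'' := by
      rw [gT_mul, gT_mul, szθ_zero, zero_mul, mul_zero]
      congr 1 <;> ring
    calc (gT hF a' b'' * gD hF k) * gT hF 0 c * (gT hF a' b'' * gD hF k)⁻¹
        = gT hF a' b'' * (gD hF k * gT hF 0 c * (gD hF k)⁻¹) * (gT hF a' b'')⁻¹ := by group
      _ = gT hF a' b'' * gT hF 0 (μ * c) * (gT hF a' b'')⁻¹ := by rw [e]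
      _ = gT hF 0 (μ * c) := by rw [e2]; group
  rw [hconj] at hgg'
  have hbb : μ * b' = b := (gT_injective hF hgg').2
  have hb'0 : b' ≠ 0 := by
    rintro rfl
    rw [mul_zero] at hbb
    exact hb0 hbb.symm
  have hμ0 : μ ≠ 0 := by
    intro h
    rw [h, zero_mul] at hbb
    exact hb0 hbb.symm
  have hμV : μ ^ (2 ^ n) = μ := by
    have : μ = b / b' := eq_div_of_mul_eq hb'0 hbb
    rw [this, div_pow, hb, hb']
  apply mem_normalizer_of_map_conj_eq
  ext g
  constructor
  · rintro ⟨_, ⟨c, hc, rfl⟩, rfl⟩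
    change (gT hF a' b'' * gD hF k) * gT hF 0 c * (gT hF a' b'' * gD hF k)⁻¹ ∈ tiE hF n
    rw [hconj]
    exact ⟨μ * c, by rw [mul_pow, hμV, hc], rfl⟩
  · rintro ⟨c, hc, rfl⟩
    refine ⟨gT hF 0 (μ⁻¹ * c), ⟨μ⁻¹ * c, by rw [mul_pow, inv_pow, hμV, hc], rfl⟩, ?_⟩
    change (gT hF a' b'' * gD hF k) * gT hF 0 (μ⁻¹ * c) * (gT hF a' b'' * gD hF k)⁻¹ = gT hF 0 c
    rw [hconj, mul_inv_cancel_left₀ hμ0]

end ti3

end Cfsg.Agent.Lib.helper3
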