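import Mathlib
import Cfsg.Agent.Lib.helper3.BSZ.Defs

set_option autoImplicit false

/-!
# BSZ row E07 (`nu_meet`), core: the cited rows A04, E01, E02, E03 are hypotheses.
-/

namespace Cfsg.Agent.Lib.helper3.BSZ

open Cfsg Cfsg.Agent.Lib.helper3

variable {F : Type*} [Field F] [Fintype F] {m : ℕ}

/-- if `a⁻¹ * z * a` normalises `U` then `z` normalises `cj U a` -/
theorem bsze07_mem_norm_cj {G : Type*} [Group G] {U : Subgroup G} {a z : G}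
    (hz : a⁻¹ * z * a ∈ Subgroup.normalizer (U : Set G)) :
    z ∈ Subgroup.normalizer ((cj U a : Subgroup G) : Set G) := by
  rw [Subgroup.mem_normalizer_iff] at hz ⊢
  intro h
  rw [mem_map_conj_iff, mem_map_conj_iff, hz (a⁻¹ * h * a)]
  have : a⁻¹ * z * a * (a⁻¹ * h * a) * (a⁻¹ * z * a)⁻¹ = a⁻¹ * (z * h * z⁻¹) * a := by group
  rw [this]

theorem nu_meet_core (hF : Fintype.card F = 2 ^ (2 * m + 1)) (hm : 1 ≤ m)
    (three_point : ∀ (H : Subgroup (Sz F m)) (_ : BinH H) (a b g₁ g₂ g₃ : Sz F m)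
      (_ : g₁ ∈ H) (_ : a⁻¹ * g₂ * a ∈ H) (_ : b⁻¹ * g₃ * b ∈ H) (_ : g₁ * g₂ * g₃ = 1),
      ∃ k ∈ H, b⁻¹ * k * b ∈ H ∧ a⁻¹ * (k⁻¹ * g₁) * a ∈ H)
    (nu_two_invol : ∀ {U : Subgroup (Sz F m)}, IsTorus m U → ∀ {z z' : Sz F m},
      z ∈ Subgroup.normalizer (U : Set (Sz F m)) → z ≠ 1 → z * z = 1 →
      z' ∈ Subgroup.normalizer (U : Set (Sz F m)) → z' ≠ 1 → z' * z' = 1 → z * z' = z' * z → z = z')
    (nu_no_odd : ∀ {U U' : Subgroup (Sz F m)}, IsTorus m U → IsTorus m U' → U ≠ U' → ∀ {x : Sz F m},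
      x ∈ Subgroup.normalizer (U : Set (Sz F m)) → x ∈ Subgroup.normalizer (U' : Set (Sz F m)) →
      Odd (orderOf x) → x = 1)
    (nu_invol_of_ne_bot : ∀ {U : Subgroup (Sz F m)}, IsTorus m U → ∀ (K : Subgroup (Sz F m)),
      K ≤ Subgroup.normalizer (U : Set (Sz F m)) → K ≠ ⊥ → (∀ x ∈ K, Odd (orderOf x) → x = 1) →
      ∃ t' ∈ K, t' ≠ 1 ∧ t' * t' = 1)
    {U : Subgroup (Sz F m)} (hU : IsTorus m U)
    (H : Subgroup (Sz F m)) (hHU : H ≤ Subgroup.normalizer (U : Set (Sz F m))) (hB : BinH H) {b₀ b₁ : F}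
    (hb₀ : b₀ ≠ 0) (hb₁ : b₁ ≠ 0) (hne : b₁ ≠ b₀) (ht : gT hF 0 b₀ ∈ H) {d : Sz F m}
    (hd : d * gT hF 0 b₀ * d⁻¹ = gT hF 0 b₁) (v : Sz F m) (hv : v ∈ Qs hF) :
    ∃ t' ∈ H, t' ≠ 1 ∧ t' * t' = 1 ∧ (v * d)⁻¹ * t' * (v * d) ∈ H := by
  have h2F := sz_two hF
  have hts : gT hF 0 b₀ * gT hF 0 b₁ = gT hF 0 (b₀ + b₁) := (gT_zero_add hF b₀ b₁).symm
  have hsum : b₀ + b₁ ≠ 0 := by
    intro h0
    apply hne
    have h3 : b₀ + b₀ = 0 := by linear_combination b₀ * h2F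
    linear_combination h0 - h3
  have ht1 : gT hF 0 b₀ ≠ 1 := gT_zero_ne_one hF hb₀
  have ht2 : gT hF 0 b₀ * gT hF 0 b₀ = 1 := gT_zero_sq hF b₀
  have hs1 : gT hF 0 b₁ ≠ 1 := gT_zero_ne_one hF hb₁
  have hs2 : gT hF 0 b₁ * gT hF 0 b₁ = 1 := gT_zero_sq hF b₁
  have hts1 : gT hF 0 b₀ * gT hF 0 b₁ ≠ 1 := by rw [hts]; exact gT_zero_ne_one hF hsum
  have hts2 : (gT hF 0 b₀ * gT hF 0 b₁) * (gT hF 0 b₀ * gT hF 0 b₁) = 1 := by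
    rw [hts]; exact gT_zero_sq hF _
  have hcomm : gT hF 0 b₀ * gT hF 0 b₁ = gT hF 0 b₁ * gT hF 0 b₀ := by
    rw [← gT_zero_add, ← gT_zero_add, add_comm]
  obtain ⟨e, he⟩ := cj_gT_zero hF hb₀ hsum
  -- `he : gT 0 (b₀ + b₁) = e * gT 0 b₀ * e⁻¹`
  have he' : e⁻¹ * (gT hF 0 b₀ * gT hF 0 b₁) * e = gT hF 0 b₀ := by
    rw [hts, he]; group
  have hvs : v⁻¹ * gT hF 0 b₁ * v = gT hF 0 b₁ := by
    obtain ⟨a₁, b₁', rfl⟩ := (mem_Qs hF).1 hv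
    have := gT_central hF a₁ b₁' b₁
    calc (gT hF a₁ b₁')⁻¹ * gT hF 0 b₁ * gT hF a₁ b₁'
        = (gT hF a₁ b₁')⁻¹ * (gT hF 0 b₁ * gT hF a₁ b₁') := by group
      _ = (gT hF a₁ b₁')⁻¹ * (gT hF a₁ b₁' * gT hF 0 b₁) := by rw [this]
      _ = gT hF 0 b₁ := by group
  have hdsd : d⁻¹ * gT hF 0 b₁ * d = gT hF 0 b₀ := by
    rw [← hd]; group
  have has : (v * d)⁻¹ * gT hF 0 b₁ * (v * d) = gT hF 0 b₀ := by
    calc (v * d)⁻¹ * gT hF 0 b₁ * (v * d) = d⁻¹ * (v⁻¹ * gT hF 0 b₁ * v) * d := by group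
      _ = gT hF 0 b₀ := by rw [hvs, hdsd]
  have h2 : (v * d)⁻¹ * gT hF 0 b₁ * (v * d) ∈ H := by rw [has]; exact ht
  have h3 : e⁻¹ * (gT hF 0 b₀ * gT hF 0 b₁) * e ∈ H := by rw [he']; exact ht
  obtain ⟨k, hkH, hke, hka⟩ :=
    three_point H hB (v * d) e (gT hF 0 b₀) (gT hF 0 b₁) (gT hF 0 b₀ * gT hF 0 b₁) ht h2 h3 hts2
  -- the subgroup `K`
  have hmemK : ∀ h : Sz F m, h ∈ H ⊓ cj H (v * d) ↔ h ∈ H ∧ (v * d)⁻¹ * h * (v * d) ∈ H := by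
    intro h
    rw [Subgroup.mem_inf, mem_map_conj_iff]
  have hUa : IsTorus m (cj U (v * d)) := hU.map_conj (v * d)
  have hnormH : ∀ z : Sz F m, (v * d)⁻¹ * z * (v * d) ∈ H →
      z ∈ Subgroup.normalizer ((cj U (v * d) : Subgroup (Sz F m)) : Set (Sz F m)) :=
    fun z hz => bsze07_mem_norm_cj (hHU hz)
  -- `U ≠ cj U a`
  have hUne : U ≠ cj U (v * d) := by
    intro hEq
    have hsN : gT hF 0 b₁ ∈ Subgroup.normalizer (U : Set (Sz F m)) := by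
      have := hnormH (gT hF 0 b₁) h2
      rw [← hEq] at this
      exact this
    have := nu_two_invol hU (hHU ht) ht1 ht2 hsN hs1 hs2 hcomm
    have h5 : b₀ = b₁ := (gT_injective hF this).2
    exact hne h5.symm
  have hKne : H ⊓ cj H (v * d) ≠ ⊥ := by
    intro hbot
    have hk1 : k⁻¹ * gT hF 0 b₀ ∈ H ⊓ cj H (v * d) :=
      (hmemK _).2 ⟨H.mul_mem (H.inv_mem hkH) ht, hka⟩
    rw [hbot, Subgroup.mem_bot] at hk1
    have hkt : k = gT hF 0 b₀ := by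
      calc k = k * (k⁻¹ * gT hF 0 b₀) := by rw [hk1, mul_one]
        _ = gT hF 0 b₀ := by group
    rw [hkt] at hke
    -- `t` and `t * s` normalise `cj U e`
    have hUe : IsTorus m (cj U e) := hU.map_conj e
    have h6 : gT hF 0 b₀ ∈ Subgroup.normalizer ((cj U e : Subgroup (Sz F m)) : Set (Sz F m)) :=
      bsze07_mem_norm_cj (hHU hke)
    have h7 : gT hF 0 b₀ * gT hF 0 b₁ ∈
        Subgroup.normalizer ((cj U e : Subgroup (Sz F m)) : Set (Sz F m)) :=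
      bsze07_mem_norm_cj (hHU h3)
    have hc' : gT hF 0 b₀ * (gT hF 0 b₀ * gT hF 0 b₁) = (gT hF 0 b₀ * gT hF 0 b₁) * gT hF 0 b₀ := by
      rw [mul_assoc, ← hcomm]
    have := nu_two_invol hUe h6 ht1 ht2 h7 hts1 hts2 hc'
    apply hs1
    calc gT hF 0 b₁ = (gT hF 0 b₀)⁻¹ * (gT hF 0 b₀ * gT hF 0 b₁) := by group
      _ = (gT hF 0 b₀)⁻¹ * gT hF 0 b₀ := by rw [← this]
      _ = 1 := by group
  have hKU : H ⊓ cj H (v * d) ≤ Subgroup.normalizer (U : Set (Sz F m)) :=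
    fun h hh => hHU ((hmemK h).1 hh).1
  have hodd : ∀ x ∈ H ⊓ cj H (v * d), Odd (orderOf x) → x = 1 := fun x hx hxo =>
    nu_no_odd hU hUa hUne (hKU hx) (hnormH x ((hmemK x).1 hx).2) hxo
  obtain ⟨t', ht'K, ht'1, ht'2⟩ := nu_invol_of_ne_bot hU (H ⊓ cj H (v * d)) hKU hKne hodd
  exact ⟨t', ((hmemK t').1 ht'K).1, ht'1, ht'2, ((hmemK t').1 ht'K).2⟩

end Cfsg.Agent.Lib.helper3.BSZ
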