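import Mathlib
import Cfsg.Agent.Lib.helper3.BSZ.Defs

set_option autoImplicit false

/-!
# BSZ row E08 (`nu_count`), core: the cited rows E04, E05, E06 are hypotheses.
-/

namespace Cfsg.Agent.Lib.helper3.BSZ

open Cfsg Cfsg.Agent.Lib.helper3

variable {F : Type*} [Field F] [Fintype F] {m : ℕ}

theorem nu_count_core (hF : Fintype.card F = 2 ^ (2 * m + 1)) (hm : 1 ≤ m)
    (nu_small : ∀ {U : Subgroup (Sz F m)}, IsTorus m U →
      Nat.card ↥(Subgroup.normalizer (U : Set (Sz F m)) ⊓ Qs hF) ≤ 4)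
    (nu_invol_card : ∀ {U : Subgroup (Sz F m)}, IsTorus m U →
      Nat.card {t' : Sz F m // t' ∈ Subgroup.normalizer (U : Set (Sz F m)) ∧ t' ≠ 1 ∧ t' * t' = 1} ≤
        Nat.card U)
    (nu_fiber : ∀ {U' : Subgroup (Sz F m)}, IsTorus m U' → ∀ {s t' v v' : Sz F m}, s ≠ 1 → s * s = 1 →
      t' ≠ 1 → t' * t' = 1 → t' ≠ s →
      s ∈ Subgroup.normalizer ((cj U' v : Subgroup (Sz F m)) : Set (Sz F m)) →
      t' ∈ Subgroup.normalizer ((cj U' v : Subgroup (Sz F m)) : Set (Sz F m)) →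
      s ∈ Subgroup.normalizer ((cj U' v' : Subgroup (Sz F m)) : Set (Sz F m)) →
      t' ∈ Subgroup.normalizer ((cj U' v' : Subgroup (Sz F m)) : Set (Sz F m)) →
      v⁻¹ * v' ∈ Subgroup.normalizer (U' : Set (Sz F m)))
    {U U' : Subgroup (Sz F m)}
    (hU : IsTorus m U) (hU' : IsTorus m U') (H : Subgroup (Sz F m))
    (hHU : H ≤ Subgroup.normalizer (U : Set (Sz F m))) {s : Sz F m} (hs1 : s ≠ 1) (hs2 : s * s = 1) (hsH : s ∉ H)
    (hsU' : ∀ v ∈ Qs hF, s ∈ Subgroup.normalizer ((cj U' v : Subgroup (Sz F m)) : Set (Sz F m)))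
    (hmeet : ∀ v ∈ Qs hF, ∃ t' ∈ H, t' ≠ 1 ∧ t' * t' = 1 ∧
      t' ∈ Subgroup.normalizer ((cj U' v : Subgroup (Sz F m)) : Set (Sz F m))) :
    (2 ^ (2 * m + 1)) ^ 2 ≤ 4 * Nat.card U := by
  classical
  haveI : Finite (Sz F m) := finite_Sz hF hm
  letI : Fintype (Sz F m) := Fintype.ofFinite _
  -- the map `τ`
  let τ : ↥(Qs hF) → Sz F m := fun v => (hmeet v.1 v.2).choose
  have hτ : ∀ v : ↥(Qs hF), τ v ∈ H ∧ τ v ≠ 1 ∧ τ v * τ v = 1 ∧
      τ v ∈ Subgroup.normalizer ((cj U' (v : Sz F m) : Subgroup (Sz F m)) : Set (Sz F m)) :=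
    fun v => (hmeet v.1 v.2).choose_spec
  -- the target finset: involutions of `N(U)`
  let Inv : Finset (Sz F m) := Finset.univ.filter
    (fun t' => t' ∈ Subgroup.normalizer (U : Set (Sz F m)) ∧ t' ≠ 1 ∧ t' * t' = 1)
  have hInv : Inv.card ≤ Nat.card U := by
    have := nu_invol_card hU
    rw [Nat.card_eq_fintype_card, Fintype.card_subtype] at this
    exact this
  -- the small set
  let T : Finset (Sz F m) := Finset.univ.filter
    (fun x => x ∈ Subgroup.normalizer (U' : Set (Sz F m)) ⊓ Qs hF)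
  have hT : T.card ≤ 4 := by
    have := nu_small hU'
    rw [Nat.card_eq_fintype_card, Fintype.card_subtype] at this
    exact this
  have himage : (Finset.univ.image τ) ⊆ Inv := by
    intro x hx
    obtain ⟨v, _, rfl⟩ := Finset.mem_image.1 hx
    exact Finset.mem_filter.2 ⟨Finset.mem_univ _, hHU (hτ v).1, (hτ v).2.1, (hτ v).2.2.1⟩
  have hfib : ∀ a ∈ Finset.univ.image τ,
      ((Finset.univ : Finset ↥(Qs hF)).filter (fun v => τ v = a)).card ≤ 4 := by
    intro a _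
    by_cases hne : ((Finset.univ : Finset ↥(Qs hF)).filter (fun v => τ v = a)).Nonempty
    · obtain ⟨v₀, hv₀⟩ := hne
      have hv₀a : τ v₀ = a := (Finset.mem_filter.1 hv₀).2
      refine le_trans (Finset.card_le_card_of_injOn (fun v => (v₀ : Sz F m)⁻¹ * (v : Sz F m)) ?_ ?_) hT
      · intro v hv
        have hva : τ v = a := (Finset.mem_filter.1 hv).2
        have hane : a ≠ s := by
          intro h
          apply hsH
          rw [← h, ← hv₀a]
          exact (hτ v₀).1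
        have h1 := nu_fiber hU' (s := s) (t' := a) (v := (v₀ : Sz F m)) (v' := (v : Sz F m)) hs1 hs2
          (by rw [← hva]; exact (hτ v).2.1) (by rw [← hva]; exact (hτ v).2.2.1) hane
          (hsU' _ v₀.2) (by rw [← hv₀a]; exact (hτ v₀).2.2.2) (hsU' _ v.2)
          (by rw [← hva]; exact (hτ v).2.2.2)
        exact Finset.mem_coe.2 (Finset.mem_filter.2 ⟨Finset.mem_univ _, Subgroup.mem_inf.2
          ⟨h1, (Qs hF).mul_mem ((Qs hF).inv_mem v₀.2) v.2⟩⟩)
      · intro v _ v' _ h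
        have : (v : Sz F m) = (v' : Sz F m) := mul_left_cancel h
        exact Subtype.ext this
    · rw [Finset.not_nonempty_iff_eq_empty] at hne
      rw [hne]
      simp
  have h1 := Finset.card_le_mul_card_image (f := τ) (Finset.univ : Finset ↥(Qs hF)) 4 hfib
  have h2 : (Finset.univ : Finset ↥(Qs hF)).card = (2 ^ (2 * m + 1)) ^ 2 := by
    rw [Finset.card_univ, ← Nat.card_eq_fintype_card, card_Qs hF]
  rw [h2] at h1
  calc (2 ^ (2 * m + 1)) ^ 2 ≤ 4 * (Finset.univ.image τ).card := h1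
    _ ≤ 4 * Inv.card := Nat.mul_le_mul_left _ (Finset.card_le_card himage)
    _ ≤ 4 * Nat.card U := Nat.mul_le_mul_left _ hInv

end Cfsg.Agent.Lib.helper3.BSZ
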