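import Mathlib
import Cfsg.Agent.Lib.helper3.BSZ.Defs
import Cfsg.Agent.Lib.helper3.BSZE08core
import Cfsg.Agent.Lib.Helper13.BSZE04
import Cfsg.Agent.Lib.Helper20.BSZE0506h20

set_option autoImplicit false

/-!
# BSZ row E08 (`nu_count`), verbatim: the count.
-/

namespace Cfsg.Agent.Lib.helper3.BSZ

open Cfsg Cfsg.Agent.Lib.helper3

variable {F : Type*} [Field F] [Fintype F] {m : ℕ}

theorem nu_count (hF : Fintype.card F = 2 ^ (2 * m + 1)) (hm : 1 ≤ m) {U U' : Subgroup (Sz F m)}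
    (hU : IsTorus m U) (hU' : IsTorus m U') (H : Subgroup (Sz F m))
    (hHU : H ≤ Subgroup.normalizer (U : Set (Sz F m))) {s : Sz F m} (hs1 : s ≠ 1) (hs2 : s * s = 1) (hsH : s ∉ H)
    (hsU' : ∀ v ∈ Qs hF, s ∈ Subgroup.normalizer ((cj U' v : Subgroup (Sz F m)) : Set (Sz F m)))
    (hmeet : ∀ v ∈ Qs hF, ∃ t' ∈ H, t' ≠ 1 ∧ t' * t' = 1 ∧
      t' ∈ Subgroup.normalizer ((cj U' v : Subgroup (Sz F m)) : Set (Sz F m))) :
    (2 ^ (2 * m + 1)) ^ 2 ≤ 4 * Nat.card U :=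
  nu_count_core hF hm (fun hU => nu_small hF hm hU) (fun hU => bsze05_h20_nu_invol_card hF hm hU)
    (fun hU' => bsze06_h20_nu_fiber hF hm hU')
    hU hU' H hHU hs1 hs2 hsH hsU' hmeet

end Cfsg.Agent.Lib.helper3.BSZ
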