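import Mathlib
import Cfsg.Agent.Lib.helper6.DicksonD

set_option autoImplicit false

/-!
# Assembly lemmas for Dickson's theorem (restriction of the abstract action data to a subgroup,
the Borel case, and the arithmetic of the subfield case).
-/

namespace Cfsg.Agent.Lib.helper3

open MulAction Cfsg.Agent.Lib.helper6.Dickson

section DkRestrict

variable {L X : Type*} [Group L] [MulAction L X] {p : ℕ}

theorem dk_isPar_coe (H : Subgroup L) (x : X) (h : H) : IsPar x h ↔ IsPar x (h : L) := by
  unfold IsPar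
  constructor
  · rintro ⟨h1, h2, h3⟩
    exact ⟨fun hc => h1 (Subtype.ext hc), h2, h3⟩
  · rintro ⟨h1, h2, h3⟩
    exact ⟨fun hc => h1 (by rw [hc]; rfl), h2, h3⟩

/-- the abstract data restrict to any subgroup -/
theorem dk_restrict (D : DAct L X p) (H : Subgroup L) : DAct H X p where
  faithful := fun h hh => Subtype.ext (D.faithful (h : L) hh)
  fix_exists := fun h => D.fix_exists (h : L)
  fix_le_two := fun h h1 x y z hx hy hz =>
    D.fix_le_two (h : L) (fun hc => h1 (Subtype.ext hc)) x y z hx hy hz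
  par_mul := by
    intro x h k hh hk
    rcases D.par_mul x (h : L) (k : L) ((dk_isPar_coe H x h).mp hh) ((dk_isPar_coe H x k).mp hk)
      with h1 | h1
    · left; exact Subtype.ext h1
    · right; exact (dk_isPar_coe H x (h * k)).mpr h1
  par_comm := by
    intro x h k hh hk
    exact Subtype.ext (D.par_comm x (h : L) (k : L) ((dk_isPar_coe H x h).mp hh)
      ((dk_isPar_coe H x k).mp hk))
  par_pow := by
    intro x h hh
    apply Subtype.ext
    have := D.par_pow x (h : L) ((dk_isPar_coe H x h).mp hh)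
    simpa using this
  stab_comm := by
    intro x h k hh hk
    rcases D.stab_comm x (h : L) (k : L) hh hk with h1 | h1
    · left; exact Subtype.ext h1
    · right; exact (dk_isPar_coe H x (h * k * h⁻¹ * k⁻¹)).mpr h1
  two_cyc := by
    intro x y hxy
    haveI := D.two_cyc x y hxy
    let f : ↥(stabilizer H x ⊓ stabilizer H y : Subgroup H) →*
        ↥(stabilizer L x ⊓ stabilizer L y : Subgroup L) :=
      { toFun := fun k => ⟨((k : H) : L), by
          have hk := Subgroup.mem_inf.mp k.2
          exact Subgroup.mem_inf.mpr ⟨mem_stabilizer_iff.mpr (mem_stabilizer_iff.mp hk.1),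
            mem_stabilizer_iff.mpr (mem_stabilizer_iff.mp hk.2)⟩⟩
        map_one' := rfl
        map_mul' := fun a b => rfl }
    apply isCyclic_of_injective f
    intro a b hab
    have h1 := congrArg Subtype.val hab
    exact Subtype.ext (Subtype.ext h1)
  two_coprime := by
    intro x y h hxy hx hy hp
    apply Subtype.ext
    apply D.two_coprime x y (h : L) hxy hx hy
    have := congrArg Subtype.val hp
    simpa using this

end DkRestrict

section DkBorel

variable {L X : Type*} [Group L] [MulAction L X] {p : ℕ}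

/-- the stabiliser of a point normalises the parabolic subgroup there -/
theorem dk_stab_le_normalizer (D : DAct L X p) (r : X) :
    stabilizer L r ≤ Subgroup.normalizer ((D.Q r : Subgroup L) : Set L) := by
  intro g hg
  rw [Subgroup.mem_set_normalizer_iff]
  intro u
  have hgr : g • r = r := mem_stabilizer_iff.mp hg
  have hgr' : g⁻¹ • r = r := by rw [inv_smul_eq_iff, hgr]
  constructor
  · intro hu
    exact D.Q_conj_stab hu hgr
  · intro hu
    have h1 := D.Q_conj_stab hu hgr'
    have h2 : g⁻¹ * (g * u * g⁻¹) * g⁻¹⁻¹ = u := by group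
    rw [h2] at h1
    exact h1

/-- a non-identity element of `p`-power order fixing a point is parabolic there -/
theorem dk_isPar_of_pow [Finite L] [Fact p.Prime] (D : DAct L X p) {y : X} {g : L} (hg1 : g ≠ 1)
    (hgy : g • y = y) {k : ℕ} (hk : g ^ (p ^ k) = 1) : IsPar y g := by
  refine ⟨hg1, hgy, ?_⟩
  intro y' hy'
  by_contra hne
  have hcop := D.coprime_inf (x := y) (y := y') (Ne.symm hne)
  have hmem : g ∈ (stabilizer L y ⊓ stabilizer L y' : Subgroup L) :=
    Subgroup.mem_inf.mpr ⟨mem_stabilizer_iff.mpr hgy, mem_stabilizer_iff.mpr hy'⟩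
  have h1 : orderOf (⟨g, hmem⟩ : ↥(stabilizer L y ⊓ stabilizer L y' : Subgroup L)) ∣ p ^ k := by
    apply orderOf_dvd_of_pow_eq_one
    exact Subtype.ext (by simpa using hk)
  have h2 : orderOf (⟨g, hmem⟩ : ↥(stabilizer L y ⊓ stabilizer L y' : Subgroup L)) ∣
      Nat.card ↥(stabilizer L y ⊓ stabilizer L y' : Subgroup L) := orderOf_dvd_natCard _
  have h3 : orderOf (⟨g, hmem⟩ : ↥(stabilizer L y ⊓ stabilizer L y' : Subgroup L)) = 1 :=
    Nat.eq_one_of_dvd_coprimes (Nat.Coprime.pow_right k hcop) h2 h1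
  rw [orderOf_eq_one_iff] at h3
  exact hg1 (congrArg Subtype.val h3)

/-- a non-trivial parabolic subgroup is a Sylow `p`-subgroup -/
theorem dk_sylow_eq_Q [Finite L] [Fact p.Prime] (D : DAct L X p) (r : X) (hQ : D.Q r ≠ ⊥) :
    ∃ P : Sylow p L, (P : Subgroup L) = D.Q r := by
  obtain ⟨P, hP⟩ := (D.isPGroup_Q r).exists_le_sylow
  refine ⟨P, ?_⟩
  -- P is non-trivial
  obtain ⟨u, hu1⟩ := (Subgroup.ne_bot_iff_exists_ne_one).mp hQ
  have hu1' : (u : L) ≠ 1 := fun h => hu1 (Subtype.ext h)
  have huP : (u : L) ∈ (P : Subgroup L) := hP u.2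
  have : Nontrivial (P : Subgroup L) :=
    ⟨⟨⟨(u : L), huP⟩, 1, fun h => hu1' (congrArg Subtype.val h)⟩⟩
  have : Nontrivial (Subgroup.center (P : Subgroup L)) := P.2.center_nontrivial
  obtain ⟨z, hz1⟩ := exists_ne (1 : Subgroup.center (P : Subgroup L))
  have hz1' : ((z : (P : Subgroup L)) : L) ≠ 1 := fun h => hz1 (Subtype.ext (Subtype.ext h))
  obtain ⟨k, hk⟩ := P.2 (z : (P : Subgroup L))
  have hk' : ((z : (P : Subgroup L)) : L) ^ (p ^ k) = 1 := by
    have := congrArg Subtype.val hk
    simpa using this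
  obtain ⟨y, hy⟩ := D.fix_exists ((z : (P : Subgroup L)) : L)
  have hzpar := dk_isPar_of_pow D hz1' hy hk'
  -- P fixes y
  have hPy : ∀ g : L, g ∈ (P : Subgroup L) → g • y = y := by
    intro g hg
    apply hzpar.2.2
    have hc : (z : (P : Subgroup L)) * ⟨g, hg⟩ = ⟨g, hg⟩ * (z : (P : Subgroup L)) :=
      ((Subgroup.mem_center_iff.mp z.2) ⟨g, hg⟩).symm
    have hc' : ((z : (P : Subgroup L)) : L) * g = g * ((z : (P : Subgroup L)) : L) :=
      congrArg Subtype.val hc
    rw [← mul_smul, hc', mul_smul, hy]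
  -- P ≤ Q y
  have hPQ : (P : Subgroup L) ≤ D.Q y := by
    intro g hg
    by_cases hg1 : g = 1
    · left; exact hg1
    · right
      obtain ⟨k', hk'⟩ := P.2 ⟨g, hg⟩
      have hk'' : g ^ (p ^ k') = 1 := by
        have := congrArg Subtype.val hk'
        simpa using this
      exact dk_isPar_of_pow D hg1 (hPy g hg) hk''
  have hry : r = y := by
    by_contra hne
    exact hu1' (D.Q_inf hne u.2 (hPQ huP))
  subst hry
  exact le_antisymm hPQ hP

end DkBorel

section DkArith

/-- if `p ^ a + 1` divides `p ^ f - 1` or `p ^ f + 1` then `a` divides `f` -/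
theorem dk_dvd_of_dvd_pow (p a : ℕ) (hp : 2 ≤ p) (ha : 1 ≤ a) :
    ∀ f : ℕ, (((p : ℤ) ^ a + 1 ∣ (p : ℤ) ^ f - 1) ∨ ((p : ℤ) ^ a + 1 ∣ (p : ℤ) ^ f + 1)) → a ∣ f := by
  intro f
  induction f using Nat.strong_induction_on with
  | _ f ih =>
    intro h
    have hp0 : (0 : ℤ) < (p : ℤ) := by exact_mod_cast (by omega : 0 < p)
    have hp1 : (1 : ℤ) < (p : ℤ) := by exact_mod_cast (by omega : 1 < p)
    by_cases hfa : f < a
    · -- small case
      have hlt : (p : ℤ) ^ f < (p : ℤ) ^ a := pow_lt_pow_right₀ hp1 hfa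
      have hpos : (0 : ℤ) < (p : ℤ) ^ f := pow_pos hp0 f
      rcases h with h | h
      · rcases eq_or_lt_of_le (by omega : (0 : ℤ) ≤ (p : ℤ) ^ f - 1) with h0 | h0
        · have h1 : (p : ℤ) ^ f = 1 := by omega
          have h2 : f = 0 := by
            by_contra hf
            have : (p : ℤ) ^ 1 ≤ (p : ℤ) ^ f := pow_le_pow_right₀ hp1.le (by omega)
            rw [pow_one] at this
            omega
          rw [h2]; exact dvd_zero a
        · exfalso
          have := Int.le_of_dvd h0 h
          omega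
      · exfalso
        have := Int.le_of_dvd (by omega) h
        omega
    · push Not at hfa
      have hsplit : (p : ℤ) ^ f = (p : ℤ) ^ (f - a) * (p : ℤ) ^ a := by
        rw [← pow_add]; congr 1; omega
      have hlt : f - a < f := by omega
      have key : a ∣ f - a := by
        apply ih (f - a) hlt
        rcases h with h | h
        · right
          have : (p : ℤ) ^ (f - a) + 1 = (p : ℤ) ^ (f - a) * ((p : ℤ) ^ a + 1) - ((p : ℤ) ^ f - 1) := by
            rw [hsplit]; ring
          rw [this]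
          exact dvd_sub (Dvd.intro_left _ rfl) h
        · left
          have : (p : ℤ) ^ (f - a) - 1 = (p : ℤ) ^ (f - a) * ((p : ℤ) ^ a + 1) - ((p : ℤ) ^ f + 1) := by
            rw [hsplit]; ring
          rw [this]
          exact dvd_sub (Dvd.intro_left _ rfl) h
      have : f = (f - a) + a := by omega
      rw [this]
      exact dvd_add key (dvd_refl a)

end DkArith

end Cfsg.Agent.Lib.helper3

namespace Cfsg.Agent.Lib.helper3

section DkArith2

theorem dk_gcd_two (p n : ℕ) (hp : p.Prime) (hn : 1 ≤ n) :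
    (p = 2 ∧ Nat.gcd 2 (p ^ n - 1) = 1) ∨
      (Nat.gcd 2 (p ^ n - 1) = 2 ∧ 2 ∣ p ^ n + 1 ∧ 2 ∣ p ^ n - 1) := by
  have hpos : 0 < p ^ n := pow_pos hp.pos n
  rcases hp.eq_two_or_odd' with h2 | hodd
  · left
    refine ⟨h2, ?_⟩
    subst h2
    have hev : Even (2 ^ n) := (Nat.even_pow' (by omega)).mpr even_two
    have hoddm : Odd (2 ^ n - 1) := by
      rcases hev with ⟨t, ht⟩
      exact ⟨t - 1, by omega⟩
    exact (Nat.coprime_two_left.mpr hoddm)
  · right
    have hoddn : Odd (p ^ n) := hodd.pow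
    rcases hoddn with ⟨t, ht⟩
    have h1 : 2 ∣ p ^ n - 1 := ⟨t, by omega⟩
    refine ⟨Nat.gcd_eq_left h1, ⟨t + 1, by omega⟩, h1⟩

/-- the arithmetic of the subfield case -/
theorem dk_subfield_dvd (p a f N : ℕ) (hp : p.Prime) (ha : 1 ≤ a) (hf : 1 ≤ f)
    (hN : N = (p ^ a + 1) / Nat.gcd 2 (p ^ a - 1) ∨ N = p ^ a + 1)
    (hdiv : N ∣ p ∨ N ∣ (p ^ f - 1) / Nat.gcd 2 (p ^ f - 1) ∨
      N ∣ (p ^ f + 1) / Nat.gcd 2 (p ^ f - 1)) : a ∣ f := by
  have hp2 : 2 ≤ p := hp.two_le
  have hpa : p ≤ p ^ a := by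
    calc p = p ^ 1 := (pow_one p).symm
      _ ≤ p ^ a := Nat.pow_le_pow_right hp.pos ha
  have hposf : 0 < p ^ f := pow_pos hp.pos f
  apply dk_dvd_of_dvd_pow p a hp2 ha f
  -- reduce to divisibility in ℕ
  suffices hnat : p ^ a + 1 ∣ p ^ f - 1 ∨ p ^ a + 1 ∣ p ^ f + 1 by
    rcases hnat with h | h
    · left
      have := Int.natCast_dvd_natCast.mpr h
      rw [Nat.cast_sub hposf] at this
      push_cast at this
      exact this
    · right
      have := Int.natCast_dvd_natCast.mpr h
      push_cast at this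
      exact this
  rcases dk_gcd_two p a hp ha with ⟨h2, hga⟩ | ⟨hga, hda1, hda2⟩
  · -- p = 2
    rcases dk_gcd_two p f hp hf with ⟨_, hgf⟩ | ⟨hgf, hdf1, hdf2⟩
    · rw [hga] at hN
      rw [hgf] at hdiv
      simp only [Nat.div_one] at hN hdiv
      have hNe : N = p ^ a + 1 := by rcases hN with h | h <;> exact h
      subst hNe
      rcases hdiv with h | h | h
      · exfalso
        have := Nat.le_of_dvd hp.pos h
        omega
      · left; exact h
      · right; exact h
    · exfalso
      subst h2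
      have hev : Even (2 ^ f) := (Nat.even_pow' (by omega)).mpr even_two
      rcases hev with ⟨t, ht⟩
      rcases hdf2 with ⟨s, hs⟩
      omega
  · -- p odd
    have hgf : Nat.gcd 2 (p ^ f - 1) = 2 ∧ 2 ∣ p ^ f + 1 ∧ 2 ∣ p ^ f - 1 := by
      rcases dk_gcd_two p f hp hf with ⟨h2, hgf⟩ | h
      · exfalso
        subst h2
        have hev : Even (2 ^ a) := (Nat.even_pow' (by omega)).mpr even_two
        rcases hev with ⟨t, ht⟩
        rcases hda2 with ⟨s, hs⟩
        omega
      · exact h
    obtain ⟨hgf, hdf1, hdf2⟩ := hgf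
    rw [hga] at hN
    rw [hgf] at hdiv
    obtain ⟨A, hA⟩ := hda1
    obtain ⟨B1, hB1⟩ := hdf1
    obtain ⟨B2, hB2⟩ := hdf2
    rw [hA] at hN
    rw [hB1, hB2] at hdiv
    rw [Nat.mul_div_cancel_left _ (by norm_num : 0 < 2)] at hN hdiv
    rw [Nat.mul_div_cancel_left _ (by norm_num : 0 < 2)] at hdiv
    rw [hA, hB1, hB2]
    have hAp : A ∣ p → False := by
      intro h
      rcases (Nat.dvd_prime hp).mp h with h1 | h1
      · omega
      · -- A = p, p ^ a + 1 = 2 p
        have h3 : p ∣ p ^ a := dvd_pow_self p (by omega)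
        have h4 : p ∣ 2 * A := by rw [h1]; exact Dvd.intro_left 2 rfl
        rw [← hA] at h4
        have h5 : p ∣ 1 := (Nat.dvd_add_right h3).mp h4
        have := Nat.le_of_dvd (by norm_num) h5
        omega
    rcases hN with hN | hN
    · subst hN
      rcases hdiv with h | h | h
      · exact (hAp h).elim
      · left; exact Nat.mul_dvd_mul_left 2 h
      · right; exact Nat.mul_dvd_mul_left 2 h
    · subst hN
      rcases hdiv with h | h | h
      · exfalso
        have := Nat.le_of_dvd hp.pos h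
        omega
      · left
        exact dvd_trans h (Dvd.intro_left 2 rfl)
      · right
        exact dvd_trans h (Dvd.intro_left 2 rfl)

end DkArith2

end Cfsg.Agent.Lib.helper3
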