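import Mathlib

set_option autoImplicit false

namespace Cfsg.Agent.Lib.helper3

open Matrix
open scoped LinearAlgebra.Projectivization MatrixGroups

section dcore

variable {K : Type*} [Field K]

theorem dc_vec_ne_zero_E : (![1, 0] : Fin 2 → K) ≠ 0 := by
  intro h
  have := congr_fun h 0
  simp at this

theorem dc_vec_ne_zero_pt (t : K) : (![t, 1] : Fin 2 → K) ≠ 0 := by
  intro h
  have := congr_fun h 1
  simp at this

/-- the point at infinity `[1 : 0]` of the projective line -/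
noncomputable def dcE : ℙ K (Fin 2 → K) := Projectivization.mk K ![1, 0] dc_vec_ne_zero_E

/-- the finite point `[t : 1]` of the projective line -/
noncomputable def dcPt (t : K) : ℙ K (Fin 2 → K) := Projectivization.mk K ![t, 1] (dc_vec_ne_zero_pt t)

theorem dc_mk_eq_E (v : Fin 2 → K) (hv : v ≠ 0) (h : v 1 = 0) :
    Projectivization.mk K v hv = dcE := by
  unfold dcE
  rw [Projectivization.mk_eq_mk_iff']
  refine ⟨v 0, ?_⟩
  ext i
  fin_cases i
  · simp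
  · simp [h]

theorem dc_mk_eq_pt (v : Fin 2 → K) (hv : v ≠ 0) (h : v 1 ≠ 0) :
    Projectivization.mk K v hv = dcPt (v 0 / v 1) := by
  unfold dcPt
  rw [Projectivization.mk_eq_mk_iff']
  refine ⟨v 1, ?_⟩
  ext i
  fin_cases i
  · simp [mul_div_cancel₀ _ h]
  · simp

theorem dc_cases (x : ℙ K (Fin 2 → K)) : x = dcE ∨ ∃ t : K, x = dcPt t := by
  induction x using Projectivization.ind with
  | h v hv =>
    by_cases h : v 1 = 0
    · exact Or.inl (dc_mk_eq_E v hv h)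
    · exact Or.inr ⟨_, dc_mk_eq_pt v hv h⟩

theorem dcE_ne_dcPt (t : K) : (dcE : ℙ K (Fin 2 → K)) ≠ dcPt t := by
  unfold dcE dcPt
  rw [Ne, Projectivization.mk_eq_mk_iff']
  rintro ⟨a, ha⟩
  have := congr_fun ha 1
  simp at this
  have h0 := congr_fun ha 0
  simp [this] at h0

theorem dcPt_injective : Function.Injective (dcPt : K → ℙ K (Fin 2 → K)) := by
  intro s t h
  unfold dcPt at h
  rw [Projectivization.mk_eq_mk_iff'] at h
  obtain ⟨a, ha⟩ := h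
  have h1 := congr_fun ha 1
  have h0 := congr_fun ha 0
  simp at h1 h0
  rw [h1, one_mul] at h0
  exact h0.symm

theorem dc_smul_vec (A : SL(2,K)) (v : Fin 2 → K) :
    A • v = ![A 0 0 * v 0 + A 0 1 * v 1, A 1 0 * v 0 + A 1 1 * v 1] := by
  show (A : Matrix (Fin 2) (Fin 2) K) *ᵥ v = _
  simp

theorem dc_smul_mk (A : SL(2,K)) (v : Fin 2 → K) (hv : v ≠ 0) :
    A • Projectivization.mk K v hv =
      Projectivization.mk K ![A 0 0 * v 0 + A 0 1 * v 1, A 1 0 * v 0 + A 1 1 * v 1]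
        (by rw [← dc_smul_vec]; exact (smul_ne_zero_iff_ne A).mpr hv) := by
  rw [Projectivization.smul_mk A hv]
  congr 1
  exact dc_smul_vec A v

theorem dc_det (A : SL(2,K)) : A 0 0 * A 1 1 - A 0 1 * A 1 0 = 1 := by
  have := A.det_coe
  rw [Matrix.det_fin_two] at this
  exact this

theorem dc_smul_E_of_zero (A : SL(2,K)) (h : A 1 0 = 0) :
    A • (dcE : ℙ K (Fin 2 → K)) = dcE := by
  unfold dcE
  rw [dc_smul_mk]
  apply dc_mk_eq_E
  simp [h]

theorem dc_smul_E_of_ne (A : SL(2,K)) (h : A 1 0 ≠ 0) :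
    A • (dcE : ℙ K (Fin 2 → K)) = dcPt (A 0 0 / A 1 0) := by
  have e := dc_smul_mk A ![1, 0] dc_vec_ne_zero_E
  rw [show (dcE : ℙ K (Fin 2 → K)) = Projectivization.mk K ![1, 0] dc_vec_ne_zero_E from rfl, e,
    dc_mk_eq_pt _ _ (by simpa using h)]
  simp

theorem dc_smul_pt_of_zero (A : SL(2,K)) (t : K) (h : A 1 0 * t + A 1 1 = 0) :
    A • (dcPt t : ℙ K (Fin 2 → K)) = dcE := by
  unfold dcPt
  rw [dc_smul_mk]
  apply dc_mk_eq_E
  simpa using h

theorem dc_smul_pt_of_ne (A : SL(2,K)) (t : K) (h : A 1 0 * t + A 1 1 ≠ 0) :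
    A • (dcPt t : ℙ K (Fin 2 → K)) = dcPt ((A 0 0 * t + A 0 1) / (A 1 0 * t + A 1 1)) := by
  have e := dc_smul_mk A ![t, 1] (dc_vec_ne_zero_pt t)
  rw [show (dcPt t : ℙ K (Fin 2 → K)) = Projectivization.mk K ![t, 1] (dc_vec_ne_zero_pt t) from rfl,
    e, dc_mk_eq_pt _ _ (by simpa using h)]
  simp

theorem dc_smul_E_eq_iff (A : SL(2,K)) : A • (dcE : ℙ K (Fin 2 → K)) = dcE ↔ A 1 0 = 0 := by
  constructor
  · intro h
    by_contra h0
    rw [dc_smul_E_of_ne A h0] at h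
    exact dcE_ne_dcPt _ h.symm
  · exact dc_smul_E_of_zero A

theorem dc_upper_diag_ne_zero (A : SL(2,K)) (h : A 1 0 = 0) : A 0 0 ≠ 0 ∧ A 1 1 ≠ 0 := by
  have hd := dc_det A
  rw [h, mul_zero, sub_zero] at hd
  constructor
  · intro h0; rw [h0, zero_mul] at hd; exact zero_ne_one hd
  · intro h0; rw [h0, mul_zero] at hd; exact zero_ne_one hd

theorem dc_smul_pt_eq_iff_of_upper (A : SL(2,K)) (h : A 1 0 = 0) (t : K) :
    A • (dcPt t : ℙ K (Fin 2 → K)) = dcPt t ↔ A 0 0 * t + A 0 1 = A 1 1 * t := by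
  have h11 := (dc_upper_diag_ne_zero A h).2
  have h11' : A 1 0 * t + A 1 1 ≠ 0 := by rw [h, zero_mul, zero_add]; exact h11
  rw [dc_smul_pt_of_ne A t h11', h, zero_mul, zero_add]
  rw [dcPt_injective.eq_iff, div_eq_iff h11, mul_comm t]

/-- special linear 2 × 2 matrix from its entries -/
def dcMk (a b c d : K) (h : a * d - b * c = 1) : SL(2,K) :=
  ⟨!![a, b; c, d], by rw [Matrix.det_fin_two_of]; exact h⟩

@[simp] theorem dcMk_00 (a b c d : K) (h : a * d - b * c = 1) : (dcMk a b c d h) 0 0 = a := rfl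
@[simp] theorem dcMk_01 (a b c d : K) (h : a * d - b * c = 1) : (dcMk a b c d h) 0 1 = b := rfl
@[simp] theorem dcMk_10 (a b c d : K) (h : a * d - b * c = 1) : (dcMk a b c d h) 1 0 = c := rfl
@[simp] theorem dcMk_11 (a b c d : K) (h : a * d - b * c = 1) : (dcMk a b c d h) 1 1 = d := rfl

theorem dc_exists_move (x : ℙ K (Fin 2 → K)) : ∃ P : SL(2,K), P • (dcE : ℙ K (Fin 2 → K)) = x := by
  rcases dc_cases x with rfl | ⟨t, rfl⟩
  · exact ⟨1, one_smul _ _⟩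
  · refine ⟨dcMk t (-1) 1 0 (by ring), ?_⟩
    rw [dc_smul_E_of_ne _ (by simp)]
    simp

theorem dc_exists_move2 (x y : ℙ K (Fin 2 → K)) (hxy : x ≠ y) :
    ∃ P : SL(2,K), P • (dcE : ℙ K (Fin 2 → K)) = x ∧ P • (dcPt 0 : ℙ K (Fin 2 → K)) = y := by
  rcases dc_cases x with rfl | ⟨t, rfl⟩
  · rcases dc_cases y with rfl | ⟨s, rfl⟩
    · exact absurd rfl hxy
    · refine ⟨dcMk 1 s 0 1 (by ring), dc_smul_E_of_zero _ (by simp), ?_⟩
      rw [dc_smul_pt_of_ne _ _ (by simp)]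
      simp
  · rcases dc_cases y with rfl | ⟨s, rfl⟩
    · refine ⟨dcMk t (-1) 1 0 (by ring), ?_, ?_⟩
      · rw [dc_smul_E_of_ne _ (by simp)]
        simp
      · rw [dc_smul_pt_of_zero _ _ (by simp)]
    · have hts : t - s ≠ 0 := by
        intro h
        apply hxy
        rw [sub_eq_zero.mp h]
      refine ⟨dcMk t (s / (t - s)) 1 (1 / (t - s)) (by field_simp), ?_, ?_⟩
      · rw [dc_smul_E_of_ne _ (by simp)]
        simp
      · rw [dc_smul_pt_of_ne _ _ (by simpa using hts)]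
        congr 1
        simp only [dcMk_00, dcMk_01, dcMk_10, dcMk_11]
        field_simp
        ring

/-- scalar matrices -/
def DcScal (A : SL(2,K)) : Prop := A 0 1 = 0 ∧ A 1 0 = 0 ∧ A 0 0 = A 1 1

theorem dcScal_iff_forall (A : SL(2,K)) :
    DcScal A ↔ ∀ x : ℙ K (Fin 2 → K), A • x = x := by
  constructor
  · rintro ⟨h01, h10, h00⟩ x
    rcases dc_cases x with rfl | ⟨t, rfl⟩
    · exact dc_smul_E_of_zero A h10
    · rw [dc_smul_pt_eq_iff_of_upper A h10, h01, h00, add_zero]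
  · intro h
    have h10 : A 1 0 = 0 := (dc_smul_E_eq_iff A).mp (h _)
    have e0 := (dc_smul_pt_eq_iff_of_upper A h10 0).mp (h _)
    have e1 := (dc_smul_pt_eq_iff_of_upper A h10 1).mp (h _)
    rw [mul_zero, mul_zero, zero_add] at e0
    rw [e0, mul_one, mul_one, add_zero] at e1
    exact ⟨e0, h10, e1⟩

theorem dc_fix_conj (P A : SL(2,K)) (x : ℙ K (Fin 2 → K)) :
    (P⁻¹ * A * P) • x = x ↔ A • (P • x) = P • x := by
  rw [mul_smul, mul_smul, inv_smul_eq_iff]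

theorem dcScal_conj (P A : SL(2,K)) : DcScal (P⁻¹ * A * P) ↔ DcScal A := by
  rw [dcScal_iff_forall, dcScal_iff_forall]
  constructor
  · intro h x
    have := (dc_fix_conj P A (P⁻¹ • x)).mp (h _)
    rwa [smul_inv_smul] at this
  · intro h x
    exact (dc_fix_conj P A x).mpr (h _)

theorem dcScal_one : DcScal (1 : SL(2,K)) := by
  rw [dcScal_iff_forall]
  intro x
  exact one_smul _ _

/-- a non-scalar element fixes at most two points -/
theorem dc_fix_le_two (A : SL(2,K)) (hA : ¬ DcScal A) (x y z : ℙ K (Fin 2 → K))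
    (hx : A • x = x) (hy : A • y = y) (hz : A • z = z) : x = y ∨ y = z ∨ x = z := by
  by_cases hxy : x = y
  · exact Or.inl hxy
  obtain ⟨P, rfl, rfl⟩ := dc_exists_move2 x y hxy
  set B := P⁻¹ * A * P with hB
  have hBE : B • (dcE : ℙ K (Fin 2 → K)) = dcE := (dc_fix_conj P A _).mpr hx
  have hB0 : B • (dcPt 0 : ℙ K (Fin 2 → K)) = dcPt 0 := (dc_fix_conj P A _).mpr hy
  have hBz : B • (P⁻¹ • z) = P⁻¹ • z := by
    apply (dc_fix_conj P A _).mpr
    rw [smul_inv_smul]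
    exact hz
  have h10 : B 1 0 = 0 := (dc_smul_E_eq_iff B).mp hBE
  have h01 : B 0 1 = 0 := by
    have := (dc_smul_pt_eq_iff_of_upper B h10 0).mp hB0
    simpa using this
  have hBs : ¬ DcScal B := fun h => hA ((dcScal_conj P A).mp h)
  rcases dc_cases (P⁻¹ • z) with h | ⟨t, h⟩
  · right; right
    rw [← h, smul_inv_smul]
  · rw [h] at hBz
    have e := (dc_smul_pt_eq_iff_of_upper B h10 t).mp hBz
    rw [h01, add_zero] at e
    by_cases ht : t = 0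
    · right; left
      rw [← ht, ← h, smul_inv_smul]
    · exact absurd ⟨h01, h10, mul_right_cancel₀ ht e⟩ hBs

/-- `A` is parabolic at `x`: non-scalar with `x` as its only fixed point -/
def DcPar (x : ℙ K (Fin 2 → K)) (A : SL(2,K)) : Prop :=
  ¬ DcScal A ∧ A • x = x ∧ ∀ y : ℙ K (Fin 2 → K), A • y = y → y = x

theorem dcPar_E_iff (A : SL(2,K)) :
    DcPar (dcE : ℙ K (Fin 2 → K)) A ↔ A 1 0 = 0 ∧ A 0 0 = A 1 1 ∧ A 0 1 ≠ 0 := by
  constructor
  · rintro ⟨hs, hfix, huniq⟩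
    have h10 : A 1 0 = 0 := (dc_smul_E_eq_iff A).mp hfix
    have hd : A 0 0 = A 1 1 := by
      by_contra hne
      have hne' : A 1 1 - A 0 0 ≠ 0 := fun h => hne (sub_eq_zero.mp h).symm
      have : A • (dcPt (A 0 1 / (A 1 1 - A 0 0)) : ℙ K (Fin 2 → K)) = dcPt (A 0 1 / (A 1 1 - A 0 0)) := by
        rw [dc_smul_pt_eq_iff_of_upper A h10]
        field_simp
        ring
      exact dcE_ne_dcPt _ (huniq _ this).symm
    refine ⟨h10, hd, fun h01 => hs ⟨h01, h10, hd⟩⟩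
  · rintro ⟨h10, hd, h01⟩
    refine ⟨fun hs => h01 hs.1, dc_smul_E_of_zero A h10, fun y hy => ?_⟩
    rcases dc_cases y with rfl | ⟨t, rfl⟩
    · rfl
    · exfalso
      rw [dc_smul_pt_eq_iff_of_upper A h10, hd] at hy
      exact h01 (by linear_combination hy)

theorem dcPar_conj (P A : SL(2,K)) (x : ℙ K (Fin 2 → K)) :
    DcPar x (P⁻¹ * A * P) ↔ DcPar (P • x) A := by
  unfold DcPar
  rw [dcScal_conj, dc_fix_conj]
  constructor
  · rintro ⟨h1, h2, h3⟩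
    refine ⟨h1, h2, fun y hy => ?_⟩
    have : (P⁻¹ * A * P) • (P⁻¹ • y) = P⁻¹ • y := by
      rw [dc_fix_conj, smul_inv_smul]
      exact hy
    rw [← h3 _ this, smul_inv_smul]
  · rintro ⟨h1, h2, h3⟩
    refine ⟨h1, h2, fun y hy => ?_⟩
    have := h3 _ ((dc_fix_conj P A y).mp hy)
    exact (MulAction.injective P) this

theorem dc_mul_apply (A B : SL(2,K)) (i j : Fin 2) :
    (A * B) i j = A i 0 * B 0 j + A i 1 * B 1 j := by
  simp [Matrix.mul_apply, Fin.sum_univ_two]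

theorem dc_inv_00 (A : SL(2,K)) : (A⁻¹ : SL(2,K)) 0 0 = A 1 1 := by
  simp [Matrix.SpecialLinearGroup.coe_inv, Matrix.adjugate_fin_two]

theorem dc_inv_01 (A : SL(2,K)) : (A⁻¹ : SL(2,K)) 0 1 = - A 0 1 := by
  simp [Matrix.SpecialLinearGroup.coe_inv, Matrix.adjugate_fin_two]

theorem dc_inv_10 (A : SL(2,K)) : (A⁻¹ : SL(2,K)) 1 0 = - A 1 0 := by
  simp [Matrix.SpecialLinearGroup.coe_inv, Matrix.adjugate_fin_two]

theorem dc_inv_11 (A : SL(2,K)) : (A⁻¹ : SL(2,K)) 1 1 = A 0 0 := by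
  simp [Matrix.SpecialLinearGroup.coe_inv, Matrix.adjugate_fin_two]

theorem dc_ext (A B : SL(2,K)) (h00 : A 0 0 = B 0 0) (h01 : A 0 1 = B 0 1) (h10 : A 1 0 = B 1 0)
    (h11 : A 1 1 = B 1 1) : A = B := by
  apply Matrix.SpecialLinearGroup.ext
  intro i j
  fin_cases i <;> fin_cases j <;> assumption

theorem dcPar_E_mul (A B : SL(2,K)) (hA : DcPar (dcE : ℙ K (Fin 2 → K)) A)
    (hB : DcPar (dcE : ℙ K (Fin 2 → K)) B) :
    DcScal (A * B) ∨ DcPar (dcE : ℙ K (Fin 2 → K)) (A * B) := by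
  rw [dcPar_E_iff] at hA hB
  obtain ⟨a10, a00, a01⟩ := hA
  obtain ⟨b10, b00, b01⟩ := hB
  have h10 : (A * B) 1 0 = 0 := by rw [dc_mul_apply, a10, b10]; ring
  have hd : (A * B) 0 0 = (A * B) 1 1 := by
    rw [dc_mul_apply, dc_mul_apply, a10, b10, a00, b00]; ring
  by_cases h01 : (A * B) 0 1 = 0
  · exact Or.inl ⟨h01, h10, hd⟩
  · exact Or.inr ((dcPar_E_iff _).mpr ⟨h10, hd, h01⟩)

theorem dcPar_E_comm (A B : SL(2,K)) (hA : DcPar (dcE : ℙ K (Fin 2 → K)) A)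
    (hB : DcPar (dcE : ℙ K (Fin 2 → K)) B) : A * B = B * A := by
  rw [dcPar_E_iff] at hA hB
  obtain ⟨a10, a00, a01⟩ := hA
  obtain ⟨b10, b00, b01⟩ := hB
  apply dc_ext <;> simp only [dc_mul_apply, a10, b10, a00, b00] <;> ring

theorem dc_upper_pow (A : SL(2,K)) (h10 : A 1 0 = 0) (hd : A 0 0 = A 1 1) (n : ℕ) :
    (A ^ n) 1 0 = 0 ∧ (A ^ n) 0 0 = (A ^ n) 1 1 ∧ (A ^ n) 0 0 = A 0 0 ^ n ∧
      (A ^ n) 0 1 * A 0 0 = (n : K) * (A 0 0 ^ n * A 0 1) := by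
  induction n with
  | zero => simp
  | succ n ih =>
    obtain ⟨i1, i2, i3, i4⟩ := ih
    rw [pow_succ]
    refine ⟨?_, ?_, ?_, ?_⟩
    · rw [dc_mul_apply, i1, h10]; ring
    · rw [dc_mul_apply, dc_mul_apply, i1, h10, ← i2, ← hd]; ring
    · rw [dc_mul_apply, h10, i3]; ring
    · rw [dc_mul_apply, ← hd, add_mul, i4, i3]
      push_cast
      ring

theorem dcPar_E_pow (p : ℕ) [CharP K p] (A : SL(2,K)) (hA : DcPar (dcE : ℙ K (Fin 2 → K)) A) :
    DcScal (A ^ p) := by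
  rw [dcPar_E_iff] at hA
  obtain ⟨a10, a00, a01⟩ := hA
  obtain ⟨i1, i2, i3, i4⟩ := dc_upper_pow A a10 a00 p
  rw [CharP.cast_eq_zero K p, zero_mul] at i4
  have h00 : A 0 0 ≠ 0 := (dc_upper_diag_ne_zero A a10).1
  exact ⟨(mul_eq_zero.mp i4).resolve_right h00, i1, i2⟩

theorem dc_stab_E_comm (A B : SL(2,K)) (hA : A • (dcE : ℙ K (Fin 2 → K)) = dcE)
    (hB : B • (dcE : ℙ K (Fin 2 → K)) = dcE) :
    DcScal (A * B * A⁻¹ * B⁻¹) ∨ DcPar (dcE : ℙ K (Fin 2 → K)) (A * B * A⁻¹ * B⁻¹) := by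
  rw [dc_smul_E_eq_iff] at hA hB
  have dA := dc_det A
  have dB := dc_det B
  rw [hA, mul_zero, sub_zero] at dA
  rw [hB, mul_zero, sub_zero] at dB
  have h10 : (A * B * A⁻¹ * B⁻¹) 1 0 = 0 := by
    simp only [dc_mul_apply, dc_inv_00, dc_inv_01, dc_inv_10, dc_inv_11, hA, hB]; ring
  have h00 : (A * B * A⁻¹ * B⁻¹) 0 0 = 1 := by
    simp only [dc_mul_apply, dc_inv_00, dc_inv_01, dc_inv_10, dc_inv_11, hA, hB]
    linear_combination (A 0 0 * A 1 1) * dB + dA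
  have h11 : (A * B * A⁻¹ * B⁻¹) 1 1 = 1 := by
    simp only [dc_mul_apply, dc_inv_00, dc_inv_01, dc_inv_10, dc_inv_11, hA, hB]
    linear_combination (A 0 0 * A 1 1) * dB + dA
  have hd : (A * B * A⁻¹ * B⁻¹) 0 0 = (A * B * A⁻¹ * B⁻¹) 1 1 := by rw [h00, h11]
  by_cases h01 : (A * B * A⁻¹ * B⁻¹) 0 1 = 0
  · exact Or.inl ⟨h01, h10, hd⟩
  · exact Or.inr ((dcPar_E_iff _).mpr ⟨h10, hd, h01⟩)

theorem dc_conj_mul (P A B : SL(2,K)) :
    P⁻¹ * (A * B) * P = (P⁻¹ * A * P) * (P⁻¹ * B * P) := by group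

theorem dc_conj_pow (P A : SL(2,K)) (n : ℕ) : P⁻¹ * A ^ n * P = (P⁻¹ * A * P) ^ n := by
  induction n with
  | zero => simp
  | succ n ih => rw [pow_succ, pow_succ, ← ih]; group

theorem dc_conj_comm (P A B : SL(2,K)) :
    P⁻¹ * (A * B * A⁻¹ * B⁻¹) * P =
      (P⁻¹ * A * P) * (P⁻¹ * B * P) * (P⁻¹ * A * P)⁻¹ * (P⁻¹ * B * P)⁻¹ := by group

theorem dcPar_mul (x : ℙ K (Fin 2 → K)) (A B : SL(2,K)) (hA : DcPar x A) (hB : DcPar x B) :
    DcScal (A * B) ∨ DcPar x (A * B) := by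
  obtain ⟨P, rfl⟩ := dc_exists_move x
  rw [← dcPar_conj] at hA hB ⊢
  rw [← dcScal_conj P, dc_conj_mul]
  exact dcPar_E_mul _ _ hA hB

theorem dcPar_comm (x : ℙ K (Fin 2 → K)) (A B : SL(2,K)) (hA : DcPar x A) (hB : DcPar x B) :
    A * B = B * A := by
  obtain ⟨P, rfl⟩ := dc_exists_move x
  rw [← dcPar_conj] at hA hB
  have h := dcPar_E_comm _ _ hA hB
  rw [← dc_conj_mul, ← dc_conj_mul] at h
  have h2 : P * (P⁻¹ * (A * B) * P) * P⁻¹ = P * (P⁻¹ * (B * A) * P) * P⁻¹ := by rw [h]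
  have e1 : P * (P⁻¹ * (A * B) * P) * P⁻¹ = A * B := by group
  have e2 : P * (P⁻¹ * (B * A) * P) * P⁻¹ = B * A := by group
  rw [e1, e2] at h2
  exact h2

theorem dcPar_pow (p : ℕ) [CharP K p] (x : ℙ K (Fin 2 → K)) (A : SL(2,K)) (hA : DcPar x A) :
    DcScal (A ^ p) := by
  obtain ⟨P, rfl⟩ := dc_exists_move x
  rw [← dcPar_conj] at hA
  rw [← dcScal_conj P, dc_conj_pow]
  exact dcPar_E_pow p _ hA

theorem dc_stab_comm (x : ℙ K (Fin 2 → K)) (A B : SL(2,K)) (hA : A • x = x) (hB : B • x = x) :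
    DcScal (A * B * A⁻¹ * B⁻¹) ∨ DcPar x (A * B * A⁻¹ * B⁻¹) := by
  obtain ⟨P, rfl⟩ := dc_exists_move x
  rw [← dc_fix_conj] at hA hB
  rw [← dcPar_conj, ← dcScal_conj P, dc_conj_comm]
  exact dc_stab_E_comm _ _ hA hB

theorem dc_diag_pow (A : SL(2,K)) (h10 : A 1 0 = 0) (h01 : A 0 1 = 0) (n : ℕ) :
    (A ^ n) 1 0 = 0 ∧ (A ^ n) 0 1 = 0 ∧ (A ^ n) 0 0 = A 0 0 ^ n ∧ (A ^ n) 1 1 = A 1 1 ^ n := by
  induction n with
  | zero => simp
  | succ n ih =>
    obtain ⟨i1, i2, i3, i4⟩ := ih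
    rw [pow_succ]
    refine ⟨?_, ?_, ?_, ?_⟩
    · rw [dc_mul_apply, i1, h10]; ring
    · rw [dc_mul_apply, i2, h01]; ring
    · rw [dc_mul_apply, h10, i3]; ring
    · rw [dc_mul_apply, h01, i4]; ring

/-- an element fixing two points whose `p`-th power is scalar is scalar (characteristic `p`) -/
theorem dc_two_coprime (p : ℕ) [hp : Fact p.Prime] [CharP K p] (x y : ℙ K (Fin 2 → K))
    (hxy : x ≠ y) (A : SL(2,K)) (hx : A • x = x) (hy : A • y = y) (hA : DcScal (A ^ p)) :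
    DcScal A := by
  obtain ⟨P, rfl, rfl⟩ := dc_exists_move2 x y hxy
  rw [← dc_fix_conj] at hx hy
  rw [← dcScal_conj P, dc_conj_pow] at hA
  rw [← dcScal_conj P]
  set B := P⁻¹ * A * P with hB
  have h10 : B 1 0 = 0 := (dc_smul_E_eq_iff B).mp hx
  have h01 : B 0 1 = 0 := by
    have := (dc_smul_pt_eq_iff_of_upper B h10 0).mp hy
    simpa using this
  obtain ⟨-, -, i3, i4⟩ := dc_diag_pow B h10 h01 p
  have e : B 0 0 ^ p = B 1 1 ^ p := by rw [← i3, ← i4]; exact hA.2.2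
  have e2 : (B 0 0 - B 1 1) ^ p = 0 := by rw [sub_pow_char, e, sub_self]
  exact ⟨h01, h10, sub_eq_zero.mp (pow_eq_zero_iff (hp.out.ne_zero) |>.mp e2)⟩

/-- over an algebraically closed field every element has a fixed point -/
theorem dc_fix_exists [IsAlgClosed K] (A : SL(2,K)) : ∃ x : ℙ K (Fin 2 → K), A • x = x := by
  obtain ⟨c, hc⟩ := Module.End.exists_eigenvalue (Matrix.toLin' (A : Matrix (Fin 2) (Fin 2) K))
  obtain ⟨v, hv⟩ := hc.exists_hasEigenvector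
  have hv0 : v ≠ 0 := hv.2
  have hev : (A : Matrix (Fin 2) (Fin 2) K) *ᵥ v = c • v := by
    have := hv.apply_eq_smul
    rwa [Matrix.toLin'_apply] at this
  have hc0 : c ≠ 0 := by
    intro h0
    rw [h0, zero_smul] at hev
    have : A • v = 0 := hev
    exact hv0 ((smul_eq_zero_iff_eq A).mp this)
  refine ⟨Projectivization.mk K v hv0, ?_⟩
  rw [Projectivization.smul_mk A hv0, Projectivization.mk_eq_mk_iff']
  exact ⟨c, hev.symm⟩

end dcore

end Cfsg.Agent.Lib.helper3
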