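import Mathlib
import Cfsg.Agent.Lib.helper6.DicksonA
import Cfsg.Agent.Lib.helper3.DicksonConcA

set_option autoImplicit false

namespace Cfsg.Agent.Lib.helper3

open Matrix Cfsg.Agent.Lib.helper6.Dickson
open scoped LinearAlgebra.Projectivization MatrixGroups

universe u

section dconc

variable (F : Type u) [Field F]

/-- the projective line over the algebraic closure -/
abbrev DcX : Type u := ℙ (AlgebraicClosure F) (Fin 2 → AlgebraicClosure F)

/-- the embedding `SL₂(F) → SL₂(F̄)` -/
noncomputable def dcEmb : SL(2,F) →* SL(2, AlgebraicClosure F) :=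
  Matrix.SpecialLinearGroup.map (algebraMap F (AlgebraicClosure F))

variable {F}

theorem dcEmb_apply (g : SL(2,F)) (i j : Fin 2) :
    (dcEmb F g) i j = algebraMap F (AlgebraicClosure F) (g i j) := by
  unfold dcEmb
  rw [Matrix.SpecialLinearGroup.map_apply_coe]
  rfl

theorem dcEmb_injective : Function.Injective (dcEmb F) := by
  intro g g' h
  apply Matrix.SpecialLinearGroup.ext
  intro i j
  have := congrArg (fun A : SL(2, AlgebraicClosure F) => A i j) h
  simp only [dcEmb_apply] at this
  exact (algebraMap F (AlgebraicClosure F)).injective this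

theorem dcScal_emb_iff (g : SL(2,F)) :
    DcScal (dcEmb F g) ↔ g ∈ Subgroup.center SL(2,F) := by
  have hinj := (algebraMap F (AlgebraicClosure F)).injective
  rw [Matrix.SpecialLinearGroup.mem_center_iff]
  constructor
  · rintro ⟨h01, h10, h00⟩
    rw [dcEmb_apply, map_eq_zero] at h01 h10
    rw [dcEmb_apply, dcEmb_apply] at h00
    have h00' : g 0 0 = g 1 1 := hinj h00
    refine ⟨g 0 0, ?_, ?_⟩
    · have hd := dc_det g
      rw [h01, zero_mul, sub_zero, ← h00'] at hd
      rw [Fintype.card_fin, pow_two]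
      exact hd
    · ext i j
      fin_cases i <;> fin_cases j <;> simp [h01, h10, h00']
  · rintro ⟨r, -, hr⟩
    have e : ∀ i j, g i j = (Matrix.scalar (Fin 2) r) i j := fun i j => by rw [hr]
    refine ⟨?_, ?_, ?_⟩
    · rw [dcEmb_apply, e]; simp
    · rw [dcEmb_apply, e]; simp
    · rw [dcEmb_apply, dcEmb_apply, e, e]; simp

variable (F)

/-- the action homomorphism of `SL₂(F)` on the projective line over `F̄` -/
noncomputable def dcActHom : SL(2,F) →* Equiv.Perm (DcX F) :=
  (MulAction.toPermHom SL(2, AlgebraicClosure F) (DcX F)).comp (dcEmb F)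

theorem dc_center_le_ker : Subgroup.center SL(2,F) ≤ (dcActHom F).ker := by
  intro g hg
  rw [MonoidHom.mem_ker]
  ext x
  have hs := (dcScal_iff_forall _).mp ((dcScal_emb_iff g).mpr hg) x
  simpa [dcActHom] using hs

/-- the action homomorphism of `PSL₂(F)` -/
noncomputable def dcPslHom : Matrix.ProjectiveSpecialLinearGroup (Fin 2) F →* Equiv.Perm (DcX F) :=
  QuotientGroup.lift (Subgroup.center SL(2,F)) (dcActHom F) (dc_center_le_ker F)

/-- the action of `PSL₂(F)` on the projective line over `F̄` -/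
@[reducible] noncomputable def dcPslAction : MulAction (Matrix.ProjectiveSpecialLinearGroup (Fin 2) F) (DcX F) :=
  MulAction.compHom (DcX F) (dcPslHom F)

end dconc

section dact

variable {F : Type u} [Field F]

attribute [local instance] dcPslAction

theorem dc_psl_smul (g : SL(2,F)) (x : DcX F) :
    ((g : Matrix.ProjectiveSpecialLinearGroup (Fin 2) F) • x) = dcEmb F g • x := rfl

theorem dc_psl_eq_one_iff (g : SL(2,F)) :
    (g : Matrix.ProjectiveSpecialLinearGroup (Fin 2) F) = 1 ↔ DcScal (dcEmb F g) := by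
  rw [dcScal_emb_iff]
  exact QuotientGroup.eq_one_iff g

theorem dc_isPar_iff (g : SL(2,F)) (x : DcX F) :
    IsPar x (g : Matrix.ProjectiveSpecialLinearGroup (Fin 2) F) ↔ DcPar x (dcEmb F g) := by
  unfold IsPar DcPar
  rw [Ne, dc_psl_eq_one_iff]
  simp only [dc_psl_smul]

theorem dc_psl_surj (h : Matrix.ProjectiveSpecialLinearGroup (Fin 2) F) :
    ∃ g : SL(2,F), (g : Matrix.ProjectiveSpecialLinearGroup (Fin 2) F) = h :=
  QuotientGroup.mk_surjective h

theorem dc_two_cyc [Fintype F] (x y : DcX F) (hxy : x ≠ y) :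
    IsCyclic ↥(MulAction.stabilizer (Matrix.ProjectiveSpecialLinearGroup (Fin 2) F) x ⊓
      MulAction.stabilizer (Matrix.ProjectiveSpecialLinearGroup (Fin 2) F) y :
        Subgroup (Matrix.ProjectiveSpecialLinearGroup (Fin 2) F)) := by
  set S := (MulAction.stabilizer (Matrix.ProjectiveSpecialLinearGroup (Fin 2) F) x ⊓
      MulAction.stabilizer (Matrix.ProjectiveSpecialLinearGroup (Fin 2) F) y :
        Subgroup (Matrix.ProjectiveSpecialLinearGroup (Fin 2) F)) with hS
  set π := QuotientGroup.mk' (Subgroup.center SL(2,F)) with hπ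
  obtain ⟨P, hPx, hPy⟩ := dc_exists_move2 x y hxy
  -- membership in the preimage
  have hmem : ∀ g : SL(2,F), g ∈ S.comap π →
      (P⁻¹ * dcEmb F g * P) 1 0 = 0 ∧ (P⁻¹ * dcEmb F g * P) 0 1 = 0 := by
    intro g hg
    rw [Subgroup.mem_comap, hS, Subgroup.mem_inf, MulAction.mem_stabilizer_iff,
      MulAction.mem_stabilizer_iff] at hg
    obtain ⟨h1, h2⟩ := hg
    have h1' : dcEmb F g • x = x := h1
    have h2' : dcEmb F g • y = y := h2
    rw [← hPx, ← dc_fix_conj] at h1'
    rw [← hPy, ← dc_fix_conj] at h2'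
    have h10 := (dc_smul_E_eq_iff _).mp h1'
    refine ⟨h10, ?_⟩
    have := (dc_smul_pt_eq_iff_of_upper _ h10 0).mp h2'
    simpa using this
  let f : ↥(S.comap π) →* AlgebraicClosure F :=
    { toFun := fun g => (P⁻¹ * dcEmb F (g : SL(2,F)) * P) 0 0
      map_one' := by simp
      map_mul' := by
        intro g g'
        have h' := (hmem g' g'.2).1
        rw [Subgroup.coe_mul, map_mul, dc_conj_mul, dc_mul_apply, h', mul_zero, add_zero] }
  have hf : ∀ g : ↥(S.comap π), f g = (P⁻¹ * dcEmb F (g : SL(2,F)) * P) 0 0 := fun g => rfl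
  have hker : ∀ g : ↥(S.comap π), f g = 1 → g = 1 := by
    intro g hg
    rw [hf] at hg
    obtain ⟨h10, h01⟩ := hmem g g.2
    have hd := dc_det (P⁻¹ * dcEmb F (g : SL(2,F)) * P)
    rw [h10, mul_zero, sub_zero, hg, one_mul] at hd
    have hone : P⁻¹ * dcEmb F (g : SL(2,F)) * P = 1 := by
      apply dc_ext
      · rw [hg]; simp
      · rw [h01]; simp
      · rw [h10]; simp
      · rw [hd]; simp
    have hE : dcEmb F (g : SL(2,F)) = 1 := by
      calc dcEmb F (g : SL(2,F)) = P * (P⁻¹ * dcEmb F (g : SL(2,F)) * P) * P⁻¹ := by group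
        _ = 1 := by rw [hone]; group
    apply Subtype.ext
    apply dcEmb_injective
    rw [hE, Subgroup.coe_one, map_one]
  have hinj : Function.Injective f := by
    intro g g' hgg
    have hne : f g' ≠ 0 := by
      rw [hf]
      exact (dc_upper_diag_ne_zero _ (hmem g' g'.2).1).1
    have h1 : f (g * g'⁻¹) * f g' = f g' := by
      rw [← map_mul, inv_mul_cancel_right, hgg]
    have h2 : f (g * g'⁻¹) = 1 := by
      have := mul_right_cancel₀ hne (h1.trans (one_mul _).symm)
      exact this
    have h3 := hker _ h2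
    exact mul_inv_eq_one.mp h3
  have : IsCyclic ↥(S.comap π) := isCyclic_of_injective_ringHom f hinj
  exact isCyclic_of_surjective (π.subgroupComap S)
    (MonoidHom.subgroupComap_surjective_of_surjective π S (QuotientGroup.mk'_surjective _))

/-- `PSL₂(F)` acting on the projective line over the algebraic closure satisfies
the abstract Dickson hypotheses -/
theorem psl2_dact {F : Type u} [Field F] [Fintype F] (p : ℕ) [Fact p.Prime] [CharP F p] :
    ∃ (X : Type u) (_ : MulAction (Matrix.ProjectiveSpecialLinearGroup (Fin 2) F) X),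
      DAct (Matrix.ProjectiveSpecialLinearGroup (Fin 2) F) X p := by
  refine ⟨DcX F, dcPslAction F, ?_⟩
  refine
    { faithful := ?_
      fix_exists := ?_
      fix_le_two := ?_
      par_mul := ?_
      par_comm := ?_
      par_pow := ?_
      stab_comm := ?_
      two_cyc := ?_
      two_coprime := ?_ }
  · intro h hh
    obtain ⟨g, rfl⟩ := dc_psl_surj h
    rw [dc_psl_eq_one_iff, dcScal_iff_forall]
    exact hh
  · intro h
    obtain ⟨g, rfl⟩ := dc_psl_surj h
    exact dc_fix_exists (dcEmb F g)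
  · intro h h1 x y z hx hy hz
    obtain ⟨g, rfl⟩ := dc_psl_surj h
    rw [Ne, dc_psl_eq_one_iff] at h1
    exact dc_fix_le_two (dcEmb F g) h1 x y z hx hy hz
  · intro x h k hh hk
    obtain ⟨g, rfl⟩ := dc_psl_surj h
    obtain ⟨g', rfl⟩ := dc_psl_surj k
    rw [dc_isPar_iff] at hh hk
    have e : ((g : Matrix.ProjectiveSpecialLinearGroup (Fin 2) F) * (g' : _)) = ((g * g' : SL(2,F)) : _) := rfl
    rw [e, dc_isPar_iff, dc_psl_eq_one_iff, map_mul]
    exact dcPar_mul x _ _ hh hk
  · intro x h k hh hk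
    obtain ⟨g, rfl⟩ := dc_psl_surj h
    obtain ⟨g', rfl⟩ := dc_psl_surj k
    rw [dc_isPar_iff] at hh hk
    have hc := dcPar_comm x _ _ hh hk
    rw [← map_mul, ← map_mul] at hc
    have hc' := dcEmb_injective hc
    have e : ((g : Matrix.ProjectiveSpecialLinearGroup (Fin 2) F) * (g' : _)) = ((g * g' : SL(2,F)) : _) := rfl
    have e' : ((g' : Matrix.ProjectiveSpecialLinearGroup (Fin 2) F) * (g : _)) = ((g' * g : SL(2,F)) : _) := rfl
    rw [e, e', hc']
  · intro x h hh
    obtain ⟨g, rfl⟩ := dc_psl_surj h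
    rw [dc_isPar_iff] at hh
    have e : ((g : Matrix.ProjectiveSpecialLinearGroup (Fin 2) F)) ^ p = ((g ^ p : SL(2,F)) : _) := rfl
    rw [e, dc_psl_eq_one_iff, map_pow]
    exact dcPar_pow p x _ hh
  · intro x h k hh hk
    obtain ⟨g, rfl⟩ := dc_psl_surj h
    obtain ⟨g', rfl⟩ := dc_psl_surj k
    have e : ((g : Matrix.ProjectiveSpecialLinearGroup (Fin 2) F) *
        (g' : Matrix.ProjectiveSpecialLinearGroup (Fin 2) F) *
        ((g : Matrix.ProjectiveSpecialLinearGroup (Fin 2) F))⁻¹ *
        ((g' : Matrix.ProjectiveSpecialLinearGroup (Fin 2) F))⁻¹) =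
        ((g * g' * g⁻¹ * g'⁻¹ : SL(2,F)) : Matrix.ProjectiveSpecialLinearGroup (Fin 2) F) := rfl
    rw [e, dc_isPar_iff, dc_psl_eq_one_iff, map_mul, map_mul, map_mul, map_inv, map_inv]
    exact dc_stab_comm x _ _ hh hk
  · intro x y hxy
    exact dc_two_cyc x y hxy
  · intro x y h hxy hx hy hp
    obtain ⟨g, rfl⟩ := dc_psl_surj h
    have e : ((g : Matrix.ProjectiveSpecialLinearGroup (Fin 2) F)) ^ p = ((g ^ p : SL(2,F)) : _) := rfl
    rw [e, dc_psl_eq_one_iff, map_pow] at hp
    rw [dc_psl_eq_one_iff]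
    exact dc_two_coprime p x y hxy _ hx hy hp

end dact



end Cfsg.Agent.Lib.helper3
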