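import Mathlib
import Cfsg.Agent.Lib.Helper22.C3L.Defs
import Cfsg.Agent.Lib.Helper10.C3O.Defs

set_option autoImplicit false
set_option linter.unusedVariables false
set_option linter.unusedSectionVars false

/-! Project C3O, row PERP: the orthogonal of a vector for the form over the big field is the orthogonal of its
line for the trace form (helper3). -/

namespace Cfsg.Agent.Lib.Helper10.C3O

open Module Cfsg.Agent.Lib.Helper22.C3L

variable {F K V : Type*} [Field F] [Field K] [Algebra F K] [AddCommGroup V] [Module F V] [Module K V]
  [IsScalarTower F K V]

/-- PERP [S-M] the `K`-orthogonal of a vector is the `f`-orthogonal of its `K`-line (trace duality: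
`Algebra.traceForm_nondegenerate`, `tf (k • x) y = Tr (k * B x y)`). -/
theorem perp_iff [FiniteDimensional F K] [Algebra.IsSeparable F K] (B : V →ₗ[K] V →ₗ[K] K) (x y : V) :
    B x y = 0 ↔ ∀ k : K, tf F B (k • x) y = 0 := by
  constructor
  · intro h k
    rw [tf_def, map_smul, LinearMap.smul_apply, h, smul_zero, map_zero]
  · intro h
    have hnd := traceForm_nondegenerate F K
    apply hnd.1
    intro k
    have := h k
    rw [tf_def, map_smul, LinearMap.smul_apply, smul_eq_mul] at this
    rw [Algebra.traceForm_apply, mul_comm]
    exact this

end Cfsg.Agent.Lib.Helper10.C3O
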