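import Mathlib
import Cfsg.Agent.Lib.Helper22.C3L.Defs
import Cfsg.Agent.Lib.Helper10.C3O.Defs

set_option autoImplicit false
set_option linter.unusedVariables false
set_option linter.unusedSectionVars false

/-! Project C3O, row PAIR: for two subspaces of the same dimension, the radicals of the pairing between them
have the same dimension (helper3). -/

namespace Cfsg.Agent.Lib.Helper10.C3O

open Module Cfsg.Agent.Lib.Helper22.C3L

variable {F K V : Type*} [Field F] [Field K] [Algebra F K] [AddCommGroup V] [Module F V] [Module K V]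
  [IsScalarTower F K V]

variable (F) in
/-- the trace form `tf F B` as a bilinear map over `F` -/
noncomputable def c3opairF (B : V →ₗ[K] V →ₗ[K] K) : V →ₗ[F] V →ₗ[F] F :=
  LinearMap.mk₂ F (tf F B)
    (fun x x' y => by rw [tf_def, tf_def, tf_def, map_add, LinearMap.add_apply, map_add])
    (fun c x y => by
      rw [tf_def, tf_def, ← algebraMap_smul K c x, map_smul, LinearMap.smul_apply, smul_eq_mul,
        ← Algebra.smul_def, map_smul])
    (fun x y y' => by rw [tf_def, tf_def, tf_def, map_add, map_add])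
    (fun c x y => by
      rw [tf_def, tf_def, ← algebraMap_smul K c y, map_smul, smul_eq_mul, ← Algebra.smul_def, map_smul])

theorem c3opairF_apply (B : V →ₗ[K] V →ₗ[K] K) (x y : V) : c3opairF F B x y = tf F B x y := rfl

/-- the rank of a pairing does not depend on the side (over a field, finite dimension) -/
theorem c3opair_rank {L L' : Type*} [AddCommGroup L] [Module F L] [AddCommGroup L'] [Module F L']
    [FiniteDimensional F L] [FiniteDimensional F L'] (φ : L →ₗ[F] L' →ₗ[F] F) :
    finrank F (LinearMap.range φ.flip) = finrank F (LinearMap.range φ) := by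
  have hψ : φ.flip = (φ : L →ₗ[F] Module.Dual F L').dualMap ∘ₗ (Module.evalEquiv F L' : L' →ₗ[F] _) := by
    ext y x
    rfl
  rw [hψ, LinearMap.range_comp, LinearEquiv.range, Submodule.map_top]
  exact LinearMap.finrank_range_dualMap_eq_finrank_range (φ : L →ₗ[F] Module.Dual F L')

/-- the dimension of the left radical of a pairing -/
theorem c3opair_ker {L L' : Type*} [AddCommGroup L] [Module F L] [AddCommGroup L'] [Module F L']
    [FiniteDimensional F L] [FiniteDimensional F L'] (φ : L →ₗ[F] L' →ₗ[F] F) :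
    finrank F (LinearMap.ker φ) + finrank F (LinearMap.range φ) = finrank F L := by
  rw [add_comm]
  exact LinearMap.finrank_range_add_finrank_ker φ

/-- PAIR [M] for two `F`-subspaces `L, L'` of the same dimension: `dim (L ∩ L'^⊥) = dim (L' ∩ L^⊥)`. -/
theorem pair_dim [FiniteDimensional F V] (B : V →ₗ[K] V →ₗ[K] K) (hBs : ∀ x y, B x y = B y x)
    (L L' P P' : Submodule F V) (h : finrank F L = finrank F L')
    (hP : ∀ x, x ∈ P ↔ x ∈ L ∧ ∀ y ∈ L', tf F B x y = 0)
    (hP' : ∀ x, x ∈ P' ↔ x ∈ L' ∧ ∀ y ∈ L, tf F B x y = 0) : finrank F P = finrank F P' := by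
  set φ : ↥L →ₗ[F] ↥L' →ₗ[F] F := (c3opairF F B).compl₁₂ L.subtype L'.subtype with hφ
  have hφa : ∀ (x : ↥L) (y : ↥L'), φ x y = tf F B x.1 y.1 := fun x y => rfl
  have hsym : ∀ x y : V, tf F B x y = tf F B y x := by
    intro x y
    rw [tf_def, tf_def, hBs]
  have e1 : (LinearMap.ker φ).map L.subtype = P := by
    ext x
    rw [hP]
    constructor
    · rintro ⟨⟨x, hx⟩, hk, rfl⟩
      refine ⟨hx, fun y hy => ?_⟩
      have := LinearMap.congr_fun (LinearMap.mem_ker.1 hk) ⟨y, hy⟩
      exact this
    · rintro ⟨hx, hxy⟩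
      refine ⟨⟨x, hx⟩, ?_, rfl⟩
      rw [SetLike.mem_coe, LinearMap.mem_ker]
      ext ⟨y, hy⟩
      exact hxy y hy
  have e2 : (LinearMap.ker φ.flip).map L'.subtype = P' := by
    ext x
    rw [hP']
    constructor
    · rintro ⟨⟨x, hx⟩, hk, rfl⟩
      refine ⟨hx, fun y hy => ?_⟩
      have := LinearMap.congr_fun (LinearMap.mem_ker.1 hk) ⟨y, hy⟩
      rw [hsym]
      exact this
    · rintro ⟨hx, hxy⟩
      refine ⟨⟨x, hx⟩, ?_, rfl⟩
      rw [SetLike.mem_coe, LinearMap.mem_ker]
      ext ⟨y, hy⟩
      show tf F B y x = 0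
      rw [hsym]
      exact hxy y hy
  rw [← e1, ← e2, Submodule.finrank_map_subtype_eq, Submodule.finrank_map_subtype_eq]
  have h1 := c3opair_ker φ
  have h2 := c3opair_ker φ.flip
  have h3 := c3opair_rank φ
  omega

end Cfsg.Agent.Lib.Helper10.C3O
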