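import Mathlib
import Cfsg.Agent.Lib.Helper22.C3L.Defs
import Cfsg.Agent.Lib.Helper10.C3O.Defs

set_option autoImplicit false
set_option linter.unusedVariables false
set_option linter.unusedSectionVars false

/-! Project C3O, row HYP: a hyperbolic partner of a singular vector (helper3). -/

namespace Cfsg.Agent.Lib.Helper10.C3O

open Module Cfsg.Agent.Lib.Helper22.C3L

variable {F K V : Type*} [Field F] [Field K] [Algebra F K] [AddCommGroup V] [Module F V] [Module K V]
  [IsScalarTower F K V]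

/-- `2 ≠ 0` in `K` when `2 ≠ 0` in `F` -/
theorem c3ohyp_two_ne (h2 : (2 : F) ≠ 0) : (2 : K) ≠ 0 := by
  intro h
  apply h2
  apply (algebraMap F K).injective
  rw [map_ofNat, map_zero]
  exact h

/-- HYP [S-M] a hyperbolic partner.  (`y` with `B u y = 1` (`hBn`, scale); `u' = y - (B y y / 2) • u`.) -/
theorem hyp_ex (h2 : (2 : F) ≠ 0) (B : V →ₗ[K] V →ₗ[K] K) (hBs : ∀ x y, B x y = B y x)
    (hBn : ∀ x, x ≠ 0 → ∃ y, B x y ≠ 0) {u : V} (hu : u ≠ 0) (hu0 : B u u = 0) :
    ∃ u' : V, B u' u' = 0 ∧ B u u' = 1 := by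
  have h2K : (2 : K) ≠ 0 := c3ohyp_two_ne h2
  obtain ⟨y0, hy0⟩ := hBn u hu
  set y : V := (B u y0)⁻¹ • y0 with hy
  have huy : B u y = 1 := by
    rw [hy, map_smul, smul_eq_mul, inv_mul_cancel₀ hy0]
  have hyu : B y u = 1 := by rw [hBs, huy]
  refine ⟨y - (B y y / 2) • u, ?_, ?_⟩
  · simp only [map_sub, map_smul, LinearMap.sub_apply, LinearMap.smul_apply, smul_eq_mul, hu0, huy, hyu]
    field_simp
    ring
  · simp only [map_sub, map_smul, smul_eq_mul, hu0, huy]
    ring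

end Cfsg.Agent.Lib.Helper10.C3O
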