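import Mathlib
import Cfsg.Agent.Lib.Helper22.C3L.Defs
import Cfsg.Agent.Lib.Helper10.C3O.Defs

set_option autoImplicit false
set_option linter.unusedVariables false
set_option linter.unusedSectionVars false

/-! Project C3O, row CWQ: the Chevalley-Warning theorem for a system of quadratic equations without constant
term (helper3). -/

namespace Cfsg.Agent.Lib.Helper10.C3O

open Module Cfsg.Agent.Lib.Helper22.C3L MvPolynomial

/-- the polynomial of a quadratic equation without constant term in the coordinates of a basis -/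
noncomputable def c3ocwqPoly {F Y : Type*} [Field F] [AddCommGroup Y] [Module F Y] {N : ℕ}
    (b : Basis (Fin N) F Y) (β : Y →ₗ[F] Y →ₗ[F] F) (lam : Y →ₗ[F] F) : MvPolynomial (Fin N) F :=
  (∑ j, ∑ k, C (β (b j) (b k)) * X j * X k) + ∑ j, C (lam (b j)) * X j

theorem c3ocwq_deg {F Y : Type*} [Field F] [AddCommGroup Y] [Module F Y] {N : ℕ}
    (b : Basis (Fin N) F Y) (β : Y →ₗ[F] Y →ₗ[F] F) (lam : Y →ₗ[F] F) :
    (c3ocwqPoly b β lam).totalDegree ≤ 2 := by
  unfold c3ocwqPoly
  refine (totalDegree_add _ _).trans (max_le ?_ ?_)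
  · refine (totalDegree_finset_sum _ _).trans (Finset.sup_le fun j _ => ?_)
    refine (totalDegree_finset_sum _ _).trans (Finset.sup_le fun k _ => ?_)
    calc (C (β (b j) (b k)) * X j * X k : MvPolynomial (Fin N) F).totalDegree
        ≤ (C (β (b j) (b k)) * X j : MvPolynomial (Fin N) F).totalDegree +
          (X k : MvPolynomial (Fin N) F).totalDegree := totalDegree_mul _ _
      _ ≤ ((C (β (b j) (b k)) : MvPolynomial (Fin N) F).totalDegree +
          (X j : MvPolynomial (Fin N) F).totalDegree) +
          (X k : MvPolynomial (Fin N) F).totalDegree := by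
            gcongr
            exact totalDegree_mul _ _
      _ = 2 := by rw [totalDegree_C, totalDegree_X, totalDegree_X]
  · refine (totalDegree_finset_sum _ _).trans (Finset.sup_le fun j _ => ?_)
    calc (C (lam (b j)) * X j : MvPolynomial (Fin N) F).totalDegree
        ≤ (C (lam (b j)) : MvPolynomial (Fin N) F).totalDegree +
          (X j : MvPolynomial (Fin N) F).totalDegree := totalDegree_mul _ _
      _ = 1 := by rw [totalDegree_C, totalDegree_X]
      _ ≤ 2 := by norm_num

theorem c3ocwq_eval {F Y : Type*} [Field F] [AddCommGroup Y] [Module F Y] {N : ℕ}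
    (b : Basis (Fin N) F Y) (β : Y →ₗ[F] Y →ₗ[F] F) (lam : Y →ₗ[F] F) (x : Fin N → F) :
    eval x (c3ocwqPoly b β lam) = β (∑ j, x j • b j) (∑ j, x j • b j) + lam (∑ j, x j • b j) := by
  have e1 : β (∑ j, x j • b j) (∑ j, x j • b j) = ∑ j, ∑ k, β (b j) (b k) * x j * x k := by
    simp only [map_sum, map_smul, LinearMap.sum_apply, LinearMap.smul_apply, smul_eq_mul, Finset.mul_sum]
    rw [Finset.sum_comm]
    apply Finset.sum_congr rfl
    intro j _
    apply Finset.sum_congr rfl
    intro k _
    ring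
  have e2 : lam (∑ j, x j • b j) = ∑ j, lam (b j) * x j := by
    simp only [map_sum, map_smul, smul_eq_mul]
    apply Finset.sum_congr rfl
    intro j _
    ring
  rw [e1, e2]
  unfold c3ocwqPoly
  simp only [map_add, map_sum, map_mul, eval_C, eval_X]

/-- CWQ [M-L] Chevalley-Warning for a system of `m` inhomogeneous quadratic equations without constant term in
more than `2 m` variables: a non-trivial solution. -/
theorem cw_quad {F Y ι : Type*} [Field F] [Finite F] [AddCommGroup Y] [Module F Y] [FiniteDimensional F Y]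
    [Fintype ι] (β : ι → Y →ₗ[F] Y →ₗ[F] F) (lam : ι → Y →ₗ[F] F)
    (h : 2 * Fintype.card ι < finrank F Y) : ∃ y : Y, y ≠ 0 ∧ ∀ i, β i y y + lam i y = 0 := by
  classical
  haveI : Fintype F := Fintype.ofFinite F
  obtain ⟨p, hp⟩ := CharP.exists F
  have : Fact p.Prime := ⟨CharP.char_is_prime F p⟩
  set N := finrank F Y with hN
  let b : Basis (Fin N) F Y := Module.finBasis F Y
  let f : ι → MvPolynomial (Fin N) F := fun i => c3ocwqPoly b (β i) (lam i)
  have hsum : (∑ i ∈ (Finset.univ : Finset ι), (f i).totalDegree) < Fintype.card (Fin N) := by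
    rw [Fintype.card_fin]
    calc (∑ i ∈ (Finset.univ : Finset ι), (f i).totalDegree)
        ≤ ∑ _i ∈ (Finset.univ : Finset ι), 2 := Finset.sum_le_sum fun i _ => c3ocwq_deg b (β i) (lam i)
      _ = 2 * Fintype.card ι := by
        rw [Finset.sum_const, Finset.card_univ, smul_eq_mul, mul_comm]
      _ < N := h
  have hdvd := char_dvd_card_solutions_of_sum_lt p hsum
  have h0 : ∀ i ∈ (Finset.univ : Finset ι), eval (0 : Fin N → F) (f i) = 0 := by
    intro i _
    show eval (0 : Fin N → F) (c3ocwqPoly b (β i) (lam i)) = 0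
    rw [c3ocwq_eval]
    simp
  have hdvd' : p ∣ Nat.card {x : Fin N → F // ∀ i ∈ (Finset.univ : Finset ι), eval x (f i) = 0} := by
    rw [Nat.card_eq_fintype_card]
    convert hdvd
  have : Nonempty {x : Fin N → F // ∀ i ∈ (Finset.univ : Finset ι), eval x (f i) = 0} := ⟨⟨0, h0⟩⟩
  have hpos : 0 < Nat.card {x : Fin N → F // ∀ i ∈ (Finset.univ : Finset ι), eval x (f i) = 0} :=
    Nat.card_pos
  have h2 : 2 ≤ p := (Fact.out : p.Prime).two_le
  have hle := Nat.le_of_dvd hpos hdvd'
  have : Nontrivial {x : Fin N → F // ∀ i ∈ (Finset.univ : Finset ι), eval x (f i) = 0} :=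
    Finite.one_lt_card_iff_nontrivial.1 (by omega)
  obtain ⟨⟨x, hx⟩, hne⟩ := exists_ne
    (⟨0, h0⟩ : {x : Fin N → F // ∀ i ∈ (Finset.univ : Finset ι), eval x (f i) = 0})
  have hx0 : x ≠ 0 := fun e => hne (Subtype.ext e)
  refine ⟨∑ j, x j • b j, ?_, ?_⟩
  · intro hy
    apply hx0
    have := b.equivFun_symm_apply x
    rw [hy] at this
    have h1 : x = b.equivFun 0 := by
      rw [← this, LinearEquiv.apply_symm_apply]
    rw [h1, map_zero]
  · intro i
    have := hx i (Finset.mem_univ i)
    rw [show f i = c3ocwqPoly b (β i) (lam i) from rfl, c3ocwq_eval] at this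
    exact this

end Cfsg.Agent.Lib.Helper10.C3O
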