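import Mathlib
import Cfsg.Agent.Lib.Helper22.C3L.Defs
import Cfsg.Agent.Lib.Helper10.C3O.Defs
import Cfsg.Agent.Lib.helper3.C3OCWQ

set_option autoImplicit false
set_option linter.unusedVariables false
set_option linter.unusedSectionVars false

/-! Project C3O, row ISO: a subspace of dimension at least three contains a non-zero singular vector (helper3). -/

namespace Cfsg.Agent.Lib.Helper10.C3O

open Module Cfsg.Agent.Lib.Helper22.C3L

variable {F K V : Type*} [Field F] [Field K] [Algebra F K] [AddCommGroup V] [Module F V] [Module K V]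
  [IsScalarTower F K V]

/-- ISO [M] a `K`-subspace of dimension `≥ 3` contains a non-zero singular vector (`K` finite; Chevalley-Warning). -/
theorem iso_ex [Finite K] (B : V →ₗ[K] V →ₗ[K] K) (hBs : ∀ x y, B x y = B y x) (W : Submodule K V)
    (hW : 3 ≤ finrank K W) : ∃ u ∈ W, u ≠ 0 ∧ B u u = 0 := by
  haveI : FiniteDimensional K W := Module.finite_of_finrank_pos (by omega)
  obtain ⟨y, hy0, hy⟩ := cw_quad (F := K) (Y := ↥W) (ι := Unit)
    (fun _ => B.compl₁₂ W.subtype W.subtype) (fun _ => 0) (by rw [Fintype.card_unit]; omega)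
  refine ⟨y.1, y.2, fun h => hy0 (Subtype.ext h), ?_⟩
  have := hy ()
  simpa using this

end Cfsg.Agent.Lib.Helper10.C3O
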