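import Mathlib
import Cfsg.Agent.Lib.helper3.S5956.Defs

/-!
# Project S5956, row O1 (frob_aeval): `f(x^(q^e)) = f(x)^(q^e)` over a finite field with `q` elements
-/

set_option autoImplicit false

namespace Cfsg.Agent.Lib.helper3.S5956

open Polynomial Module
open Cfsg.Agent.Lib.Helper13.S5955 Cfsg.Agent.Lib.Helper24

/-- one Frobenius step, in any `F`-algebra -/
theorem s5956o1_step {F : Type*} [Field F] [Fintype F] {A : Type*} [Ring A] [Algebra F A]
    (y : A) (f : F[X]) :
    aeval (y ^ Fintype.card F) f = (aeval y f) ^ Fintype.card F := by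
  rw [← Polynomial.expand_aeval, FiniteField.expand_card, map_pow]

/-- the general statement in any `F`-algebra -/
theorem s5956o1_alg {F : Type*} [Field F] [Fintype F] {A : Type*} [Ring A] [Algebra F A]
    (x : A) (f : F[X]) (e : ℕ) :
    aeval (x ^ (Fintype.card F ^ e)) f = (aeval x f) ^ (Fintype.card F ^ e) := by
  induction e with
  | zero => rw [pow_zero, pow_one, pow_one]
  | succ e ih => rw [pow_succ, pow_mul, s5956o1_step, ih, ← pow_mul]

/-- O1 [S] FROB: `f(x^(q^e)) = f(x)^(q^e)` (`FiniteField.expand_card`, `expand_aeval`). -/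
theorem frob_aeval {F : Type*} [Field F] [Fintype F] {V : Type*} [AddCommGroup V] [Module F V]
    (x : Module.End F V) (f : F[X]) (e : ℕ) :
    aeval (x ^ (Fintype.card F ^ e)) f = (aeval x f) ^ (Fintype.card F ^ e) :=
  s5956o1_alg x f e

end Cfsg.Agent.Lib.helper3.S5956
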