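import Mathlib
import Cfsg.Agent.Lib.helper3.S5956.Defs
import Cfsg.Agent.Lib.helper3.S5956O1
import Cfsg.Agent.Lib.Helper5.S5955T1
import Cfsg.Agent.Lib.Lead.S5955T2

/-!
# Project S5956, row O2 (even_irr_nd): self-duality of the irreducible modules for `i` even
-/

set_option autoImplicit false
set_option linter.unusedVariables false
set_option linter.unusedSectionVars false

namespace Cfsg.Agent.Lib.helper3.S5956

open Polynomial Module
open Cfsg.Agent.Lib.Helper13.S5955 Cfsg.Agent.Lib.Helper24

/-- `i = ord_r(q)` even: `r ∣ q^(i/2) + 1` -/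
theorem s5956o2_neg_one (q r : ℕ) [Fact r.Prime] (k : ℕ) (hk : 0 < k)
    (hi : orderOf (q : ZMod r) = 2 * k) : r ∣ q ^ k + 1 := by
  have h1 : ((q : ZMod r) ^ k) ^ 2 = 1 := by
    rw [← pow_mul, mul_comm, ← hi, pow_orderOf_eq_one]
  have h2 : (q : ZMod r) ^ k ≠ 1 := by
    apply pow_ne_one_of_lt_orderOf hk.ne'
    omega
  have h3 : ((q : ZMod r) ^ k - 1) * ((q : ZMod r) ^ k + 1) = 0 := by
    have : ((q : ZMod r) ^ k - 1) * ((q : ZMod r) ^ k + 1) = ((q : ZMod r) ^ k) ^ 2 - 1 := by ring
    rw [this, h1, sub_self]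
  rcases mul_eq_zero.mp h3 with h4 | h4
  · exact absurd (sub_eq_zero.mp h4) h2
  · rw [← ZMod.natCast_eq_zero_iff]
    push_cast
    exact h4

section alg
variable {F : Type*} [Field F] {V : Type*} [AddCommGroup V] [Module F V]

/-- `A v = 0` implies `A ^ n v = 0` for `n ≥ 1` -/
theorem s5956o2_pow_kill (A : Module.End F V) (v : V) (hv : A v = 0) (n : ℕ) (hn : 0 < n) :
    (A ^ n) v = 0 := by
  obtain ⟨n', rfl⟩ : ∃ n', n = n' + 1 := ⟨n - 1, by omega⟩
  rw [pow_succ, Module.End.mul_apply, hv, map_zero]

/-- the adjoint of `x` is its inverse `y` -/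
theorem s5956o2_adj_pow {B : LinearMap.BilinForm F V} {x y : Module.End F V}
    (hpres : ∀ u v, B (x u) (x v) = B u v) (hxy : x * y = 1) (n : ℕ) (u w : V) :
    B ((x ^ n) u) w = B u ((y ^ n) w) := by
  induction n generalizing u w with
  | zero => rw [pow_zero, pow_zero, Module.End.one_apply, Module.End.one_apply]
  | succ n ih =>
    rw [pow_succ', Module.End.mul_apply, pow_succ, Module.End.mul_apply, ← ih]
    have e : x (y w) = w := by
      rw [← Module.End.mul_apply, hxy, Module.End.one_apply]
    conv_lhs => rw [← e]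
    rw [hpres]

theorem s5956o2_adj {B : LinearMap.BilinForm F V} {x y : Module.End F V}
    (hpres : ∀ u v, B (x u) (x v) = B u v) (hxy : x * y = 1) (f : F[X]) (u w : V) :
    B (aeval x f u) w = B u (aeval y f w) := by
  induction f using Polynomial.induction_on' with
  | add f g hf hg =>
    rw [map_add, map_add, LinearMap.add_apply, LinearMap.add_apply, map_add, map_add,
      LinearMap.add_apply, hf, hg]
  | monomial n a =>
    rw [aeval_monomial, aeval_monomial, Module.End.mul_apply, Module.End.mul_apply,
      Module.algebraMap_end_apply, Module.algebraMap_end_apply, map_smul, map_smul,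
      LinearMap.smul_apply, s5956o2_adj_pow hpres hxy]

/-- `aeval` of a restriction -/
theorem s5956o2_aeval_restrict (x : Module.End F V) (U : Submodule F V) (hU : ∀ u ∈ U, x u ∈ U)
    (f : F[X]) (u : U) : ((aeval (x.restrict hU) f u : U) : V) = aeval x f (u : V) := by
  induction f using Polynomial.induction_on' with
  | add f g hf hg =>
    rw [map_add, map_add, LinearMap.add_apply, LinearMap.add_apply, Submodule.coe_add, hf, hg]
  | monomial n a =>
    rw [aeval_monomial, aeval_monomial, Module.End.mul_apply, Module.End.mul_apply,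
      Module.algebraMap_end_apply, Module.algebraMap_end_apply, Submodule.coe_smul,
      Module.End.pow_restrict n hU, LinearMap.coe_restrict_apply]

/-- a monic polynomial of degree `≤ dim U` dividing `X^r - 1` and killing the invariant `U` -/
theorem s5956o2_minpoly [FiniteDimensional F V] (x : Module.End F V) (r : ℕ) (hxr : x ^ r = 1)
    (U : Submodule F V) (hU : ∀ u ∈ U, x u ∈ U) :
    ∃ f : F[X], f.Monic ∧ f.natDegree ≤ finrank F U ∧ f ∣ X ^ r - 1 ∧
      ∀ u ∈ U, aeval x f u = 0 := by
  refine ⟨minpoly F (x.restrict hU), minpoly.monic (Algebra.IsIntegral.isIntegral _), ?_, ?_, ?_⟩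
  · have h1 := LinearMap.minpoly_dvd_charpoly (x.restrict hU)
    have h2 := Polynomial.natDegree_le_of_dvd h1 (LinearMap.charpoly_monic _).ne_zero
    rwa [LinearMap.charpoly_natDegree] at h2
  · apply minpoly.dvd
    have hpow : (x.restrict hU) ^ r = 1 := by
      rw [Module.End.pow_restrict r hU]
      apply LinearMap.ext
      intro u
      apply Subtype.ext
      rw [LinearMap.coe_restrict_apply, hxr]
      rfl
    rw [map_sub, map_pow, aeval_X, map_one, hpow, sub_self]
  · intro u hu
    have h1 := s5956o2_aeval_restrict x U hU (minpoly F (x.restrict hU)) ⟨u, hu⟩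
    rw [minpoly.aeval] at h1
    simpa using h1.symm

/-- a polynomial whose square kills `w`, dividing a separable polynomial killing `w`, kills `w` -/
theorem s5956o2_sqfree (y : Module.End F V) (f h : F[X]) (hsep : h.Separable) (hfh : f ∣ h)
    (w : V) (hh : aeval y h w = 0) (hff : aeval y f (aeval y f w) = 0) : aeval y f w = 0 := by
  obtain ⟨g, rfl⟩ := hfh
  obtain ⟨a, b, hab⟩ := hsep.isCoprime
  have e : f = a * (f * f) + b * (f * g) := by
    have : f = f * (a * f + b * g) := by rw [hab, mul_one]
    conv_lhs => rw [this]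
    ring
  rw [e, map_add, map_mul, map_mul (aeval y) b, LinearMap.add_apply, Module.End.mul_apply,
    Module.End.mul_apply, hh, map_zero, add_zero, map_mul, Module.End.mul_apply, hff, map_zero]

/-- the cyclic subspace of a vector killed by a monic `f` has dimension at most `deg f` -/
theorem s5956o2_cyc [FiniteDimensional F V] (y : Module.End F V) (f : F[X]) (hf : f.Monic)
    (v : V) (hv : aeval y f v = 0) :
    ∃ C : Submodule F V, v ∈ C ∧ (∀ c ∈ C, y c ∈ C) ∧ finrank F C ≤ f.natDegree ∧
      C ≤ Submodule.span F (Set.range (fun j : ℕ => (y ^ j) v)) := by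
  by_cases hf1 : f = 1
  · refine ⟨⊥, ?_, fun c hc => ?_, by simp, bot_le⟩
    · rw [hf1, map_one, Module.End.one_apply] at hv
      rw [hv]
      exact Submodule.zero_mem _
    · rw [(Submodule.mem_bot F).mp hc, map_zero]
      exact Submodule.zero_mem _
  set n := f.natDegree with hn
  set C : Submodule F V := Submodule.span F (Set.range (fun j : Fin n => (y ^ (j : ℕ)) v)) with hC
  have hall : ∀ j : ℕ, (y ^ j) v ∈ C := by
    intro j
    have h1 : (y ^ j) v = aeval y (X ^ j %ₘ f) v := by
      have h2 := Polynomial.modByMonic_add_div (X ^ j : F[X]) f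
      have h3 : aeval y (X ^ j : F[X]) v = aeval y (X ^ j %ₘ f + f * (X ^ j /ₘ f)) v := by
        rw [h2]
      rw [map_pow, aeval_X, map_add, LinearMap.add_apply, mul_comm, map_mul,
        Module.End.mul_apply, hv, map_zero, add_zero] at h3
      exact h3
    rw [h1]
    apply el_low_mem
    have hdeg : (X ^ j %ₘ f).degree < f.degree := Polynomial.degree_modByMonic_lt _ hf
    by_cases h0 : X ^ j %ₘ f = 0
    · rw [h0, natDegree_zero]
      rcases Nat.eq_zero_or_pos n with hn0 | hn0
      · exfalso
        apply hf1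
        exact Polynomial.eq_one_of_monic_natDegree_zero hf (hn ▸ hn0)
      · exact hn0
    · exact (Polynomial.natDegree_lt_natDegree_iff h0).mpr hdeg
  refine ⟨C, ?_, ?_, ?_, ?_⟩
  · simpa using hall 0
  · intro c hc
    rw [hC] at hc
    induction hc using Submodule.span_induction with
    | mem c hc =>
      obtain ⟨j, rfl⟩ := hc
      show y ((y ^ (j : ℕ)) v) ∈ C
      rw [← Module.End.mul_apply, ← pow_succ']
      exact hall _
    | zero => rw [map_zero]; exact Submodule.zero_mem _
    | add a b _ _ ha hb => rw [map_add]; exact Submodule.add_mem _ ha hb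
    | smul a b _ hb => rw [map_smul]; exact Submodule.smul_mem _ _ hb
  · have := finrank_range_le_card (R := F) (fun j : Fin n => (y ^ (j : ℕ)) v)
    rw [Fintype.card_fin] at this
    exact this
  · rw [hC, Submodule.span_le]
    rintro _ ⟨j, rfl⟩
    exact Submodule.subset_span ⟨(j : ℕ), rfl⟩

end alg

/-- an invariant subspace of dimension `i` inside `ker Φ_r(x)` is nondegenerate or t.i. -/
theorem s5956o2_dichotomy {F : Type*} [Field F] [Fintype F] {p : ℕ} [Fact p.Prime] [CharP F p]
    {V : Type*} [AddCommGroup V] [Module F V] [FiniteDimensional F V]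
    {r : ℕ} [Fact r.Prime] (hrp : r ≠ p) {B : LinearMap.BilinForm F V}
    {x : Module.End F V} (h : SCtx r B x) (i : ℕ)
    (hi : i = orderOf ((Fintype.card F : ℕ) : ZMod r))
    (U : Submodule F V) (hU : SInv x U) (hUc : U ≤ cycS r x) (hUd : finrank F U ≤ i) :
    SND B U ∨ STI B U := by
  have hrpos : 0 < r := (Fact.out : r.Prime).pos
  have hipos : 0 < i := hi ▸ el_ord_pos (F := F) (p := p) r hrp
  have hRinv : SInv x (U ⊓ B.orthogonal U) := el_inv_inf hU (perp_inv hrpos h U hU)
  have hΦ0 : cyclotomic r F ≠ 0 := Polynomial.cyclotomic_ne_zero r F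
  have hdvd : i ∣ finrank F ↥(U ⊓ B.orthogonal U) := by
    apply el_dvd_dim x _ hRinv (cyclotomic r F) hΦ0 _ i hipos
    · intro P hP hPd
      rw [hi]
      exact el_cyc_deg (F := F) (p := p) r hrp P hP hPd
    · intro u hu
      have := hUc hu.1
      unfold cycS at this
      exact LinearMap.mem_ker.mp this
  have hle : finrank F ↥(U ⊓ B.orthogonal U) ≤ finrank F U := Submodule.finrank_mono inf_le_left
  obtain ⟨t, ht⟩ := hdvd
  rcases Nat.eq_zero_or_pos t with rfl | htpos
  · left
    rw [mul_zero] at ht
    have hbot : U ⊓ B.orthogonal U = ⊥ := Submodule.finrank_eq_zero.mp ht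
    intro u hu hz
    have : u ∈ U ⊓ B.orthogonal U := by
      refine Submodule.mem_inf.mpr ⟨hu, ?_⟩
      rw [h5_mem_orth]
      intro n hn
      rw [s5955t2_skew B h.alt, hz n hn, neg_zero]
    rw [hbot] at this
    exact (Submodule.mem_bot F).mp this
  · right
    have heq : U ⊓ B.orthogonal U = U := by
      apply Submodule.eq_of_le_of_finrank_le inf_le_left
      have : i ≤ i * t := Nat.le_mul_of_pos_right i htpos
      omega
    intro u hu v hv
    have hv' : v ∈ U ⊓ B.orthogonal U := by rw [heq]; exact hv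
    have := (Submodule.mem_inf.mp hv').2
    rw [h5_mem_orth] at this
    exact this u hu

/-- O2 [L] EVENIRR: `i` even (self-duality of the irreducible modules): a nondegenerate invariant
`N ≤ ker Φ_r(x)` of dimension `2i` containing a t.i. invariant `U` of dimension `i` contains a
nondegenerate invariant subspace of dimension `i`. -/
theorem even_irr_nd {F : Type*} [Field F] [Fintype F] {p : ℕ} [Fact p.Prime] [CharP F p]
    {V : Type*} [AddCommGroup V] [Module F V] [FiniteDimensional F V]
    {r : ℕ} [Fact r.Prime] (hrp : r ≠ p) (hr2 : r ≠ 2) {B : LinearMap.BilinForm F V}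
    {x : Module.End F V} (h : SCtx r B x) (i : ℕ)
    (hi : i = orderOf ((Fintype.card F : ℕ) : ZMod r)) (hie : Even i)
    (N : Submodule F V) (hN : SInv x N) (hNc : N ≤ cycS r x) (hNnd : SND B N)
    (hdim : finrank F N = 2 * i) (U : Submodule F V) (hUN : U ≤ N) (hU : SInv x U)
    (hUd : finrank F U = i) (hUti : STI B U) :
    ∃ U' : Submodule F V, U' ≤ N ∧ SInv x U' ∧ SND B U' ∧ finrank F U' = i := by
  by_contra hcon
  push Not at hcon
  have hrpr : r.Prime := Fact.out
  have hrpos : 0 < r := hrpr.pos
  have hipos : 0 < i := hi ▸ el_ord_pos (F := F) (p := p) r hrp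
  obtain ⟨k, hk⟩ := hie
  have hkpos : 0 < k := by omega
  set q := Fintype.card F with hq
  -- the inverse of x as a Frobenius power
  have hdvd : r ∣ q ^ k + 1 := s5956o2_neg_one q r k hkpos (by rw [← hi, hk]; ring)
  set y : Module.End F V := x ^ (q ^ k) with hy
  have hpow1 : x ^ (q ^ k + 1) = 1 := by
    obtain ⟨t, ht⟩ := hdvd
    rw [ht, pow_mul, h.pow, one_pow]
  have hyx : y * x = 1 := by
    rw [hy, ← pow_succ]
    exact hpow1
  have hxy : x * y = 1 := by
    rw [hy, ← pow_succ']
    exact hpow1
  have hyr : y ^ r = 1 := by rw [hy, ← pow_mul, mul_comm, pow_mul, h.pow, one_pow]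
  have hx_eq : x = y ^ (r - 1) := by
    have e1 : y * y ^ (r - 1) = 1 := by
      rw [← pow_succ', Nat.sub_add_cancel hrpos, hyr]
    calc x = x * (y * y ^ (r - 1)) := by rw [e1, mul_one]
      _ = (x * y) * y ^ (r - 1) := by rw [mul_assoc]
      _ = y ^ (r - 1) := by rw [hxy, one_mul]
  -- y-invariance
  have hyinv : ∀ W : Submodule F V, SInv x W → ∀ w ∈ W, y w ∈ W := fun W hW w hw =>
    el_pow_mem hW _ hw
  have hxinv_of_y : ∀ W : Submodule F V, (∀ w ∈ W, y w ∈ W) → SInv x W := by
    intro W hW w hw
    rw [hx_eq]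
    exact el_pow_mem (g := y) hW _ hw
  have hqk : 0 < q ^ k := pow_pos Fintype.card_pos k
  -- Frobenius: killed by f(x) implies killed by f(y)
  have hfrob : ∀ (f : F[X]) (v : V), aeval x f v = 0 → aeval y f v = 0 := by
    intro f v hv
    rw [hy, frob_aeval]
    exact s5956o2_pow_kill _ v hv _ hqk
  -- the polynomial f
  obtain ⟨f, hfm, hfdeg, hfdvd, hfU⟩ := s5956o2_minpoly x r h.pow U hU
  rw [hUd] at hfdeg
  have hfyU : ∀ u ∈ U, aeval y f u = 0 := fun u hu => hfrob f u (hfU u hu)
  -- f(y) N ≤ U
  have hperp : N ⊓ B.orthogonal U = U := by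
    symm
    apply Submodule.eq_of_le_of_finrank_le
    · intro u hu
      refine Submodule.mem_inf.mpr ⟨hUN hu, ?_⟩
      rw [h5_mem_orth]
      intro n hn
      exact hUti n hn u hu
    · have := h5_finrank_perp B N U hNnd hUN
      omega
  have hfyN : ∀ w ∈ N, aeval y f w ∈ U := by
    intro w hw
    rw [← hperp]
    refine Submodule.mem_inf.mpr ⟨el_aeval_mem (g := y) (hyinv N hN) f hw, ?_⟩
    rw [h5_mem_orth]
    intro u hu
    rw [← s5956o2_adj h.pres hxy, hfU u hu, map_zero, LinearMap.zero_apply]
  have hrF : (r : F) ≠ 0 := el_cast_ne_zero (F := F) (p := p) r hrp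
  have hsep : (X ^ r - 1 : F[X]).Separable := by
    have := Polynomial.separable_X_pow_sub_C (1 : F) hrF one_ne_zero
    rwa [map_one] at this
  have hkillN : ∀ w ∈ N, aeval y f w = 0 := by
    intro w hw
    apply s5956o2_sqfree y f _ hsep hfdvd w
    · rw [map_sub, map_pow, aeval_X, map_one, hyr, sub_self, LinearMap.zero_apply]
    · exact hfyU _ (hfyN w hw)
  -- every vector of N is isotropic for B(v, y v)
  have hiso : ∀ v ∈ N, B v (y v) = 0 := by
    intro v hv
    obtain ⟨C, hvC, hCy, hCd, hCspan⟩ := s5956o2_cyc y f hfm v (hkillN v hv)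
    have hCN : C ≤ N := by
      refine hCspan.trans ?_
      rw [Submodule.span_le]
      rintro _ ⟨j, rfl⟩
      exact el_pow_mem (g := y) (hyinv N hN) j hv
    have hCx : SInv x C := hxinv_of_y C hCy
    have hCdi : finrank F C ≤ i := hCd.trans hfdeg
    rcases s5956o2_dichotomy hrp h i hi C hCx (hCN.trans hNc) hCdi with hnd | hti
    · -- nondegenerate: dimension 0 or i
      have hΦ0 : cyclotomic r F ≠ 0 := Polynomial.cyclotomic_ne_zero r F
      have hdvd' : i ∣ finrank F C := by
        apply el_dvd_dim x _ hCx (cyclotomic r F) hΦ0 _ i hipos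
        · intro P hP hPd
          rw [hi]
          exact el_cyc_deg (F := F) (p := p) r hrp P hP hPd
        · intro u hu
          have := hNc (hCN hu)
          unfold cycS at this
          exact LinearMap.mem_ker.mp this
      obtain ⟨t, ht⟩ := hdvd'
      rcases Nat.eq_zero_or_pos t with rfl | htpos
      · rw [mul_zero] at ht
        have hbot : C = ⊥ := Submodule.finrank_eq_zero.mp ht
        rw [hbot] at hvC
        rw [(Submodule.mem_bot F).mp hvC]
        simp
      · exfalso
        have : i ≤ i * t := Nat.le_mul_of_pos_right i htpos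
        exact hcon C hCN hCx hnd (by omega)
    · exact hti v hvC (y v) (hCy v hvC)
  -- polarisation
  have hpol : ∀ w ∈ N, y w = x w := by
    intro w hw
    have hyw : y w ∈ N := hyinv N hN w hw
    have hxw : x w ∈ N := hN w hw
    have hz : y w - x w = 0 := by
      apply hNnd _ (N.sub_mem hyw hxw)
      intro v hv
      rw [s5955t2_skew B h.alt]
      have h1 := hiso (v + w) (N.add_mem hv hw)
      simp only [map_add, LinearMap.add_apply] at h1
      have hv0 := hiso v hv
      have hw0 := hiso w hw
      have h2 : B w (y v) = - B v (x w) := by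
        have e : B w (y v) = B (x w) v := by
          have := s5956o2_adj_pow h.pres hxy 1 w v
          rw [pow_one, pow_one] at this
          exact this.symm
        rw [e, s5955t2_skew B h.alt]
      rw [map_sub, neg_eq_zero]
      linear_combination h1 - hv0 - hw0 - h2
    exact sub_eq_zero.mp hz
  -- x² = 1 on N, hence x = 1 on N
  have hsq : ∀ w ∈ N, x (x w) = w := by
    intro w hw
    rw [← hpol w hw, ← Module.End.mul_apply, hxy, Module.End.one_apply]
  have hodd : Odd r := hrpr.odd_of_ne_two hr2
  obtain ⟨t, ht⟩ := hodd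
  have hpow : ∀ (j : ℕ), ∀ w ∈ N, (x ^ (2 * j)) w = w := by
    intro j
    induction j with
    | zero => intro w _; simp
    | succ j ih =>
      intro w hw
      rw [show 2 * (j + 1) = 2 * j + 2 by ring, pow_add, Module.End.mul_apply, pow_two,
        Module.End.mul_apply, hsq w hw, ih w hw]
  have hfix : ∀ w ∈ N, x w = w := by
    intro w hw
    have h1 : (x ^ r) w = w := by rw [h.pow, Module.End.one_apply]
    rw [ht, pow_succ', Module.End.mul_apply, hpow t w hw] at h1
    exact h1
  obtain ⟨_, hcompl, _, _⟩ := split (p := p) hrp h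
  have hNbot : N = ⊥ := by
    rw [eq_bot_iff]
    intro w hw
    have h1 : w ∈ fixS x := (s5955t2_mem_fixS x w).mpr (hfix w hw)
    have h2 : w ∈ cycS r x := hNc hw
    have := hcompl.disjoint.le_bot (Submodule.mem_inf.mpr ⟨h1, h2⟩)
    exact this
  rw [hNbot, finrank_bot] at hdim
  omega

end Cfsg.Agent.Lib.helper3.S5956
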