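import Mathlib
import Cfsg.Agent.Lib.Helper18.REELA.Defs

set_option autoImplicit false

/-!
# Project REE, block LA, row LA09 (`la_root_frob`), second copy (helper3): the roots of an irreducible `p` in `K[X]/(p)`
(`K` finite) are the Frobenius conjugates of `root p`.
-/

namespace Cfsg.Agent.Lib.helper7.REE

open Matrix Polynomial

universe v

variable {K : Type v} [Field K] [Fintype K]

/-- LA09, second copy -/
theorem reela09_h3 (p : K[X]) (hp : Irreducible p) (β : AdjoinRoot p) (hβ : aeval β p = 0) :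
    ∃ i, i < p.natDegree ∧ β = AdjoinRoot.root p ^ (Fintype.card K ^ i) := by
  have : Fact (Irreducible p) := ⟨hp⟩
  have hp0 : p ≠ 0 := hp.ne_zero
  let pb := AdjoinRoot.powerBasis hp0
  have : Module.Finite K (AdjoinRoot p) := pb.finite
  have : Finite (AdjoinRoot p) := Module.finite_of_finite K
  have hfr : Module.finrank K (AdjoinRoot p) = p.natDegree := by
    rw [pb.finrank]
    rfl
  have hβ' : p.eval₂ (Algebra.ofId K (AdjoinRoot p) : K →+* AdjoinRoot p) β = 0 := by
    have := hβ
    rw [aeval_def] at this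
    exact this
  let τ : AdjoinRoot p →ₐ[K] AdjoinRoot p :=
    AdjoinRoot.liftAlgHom p (Algebra.ofId K (AdjoinRoot p)) β hβ'
  obtain ⟨n, hn⟩ := (FiniteField.bijective_frobeniusAlgHom_pow K (AdjoinRoot p)).2 τ
  refine ⟨n.1, hfr ▸ n.2, ?_⟩
  have h1 : τ (AdjoinRoot.root p) = β := AdjoinRoot.liftAlgHom_root p _ β hβ'
  have h2 : ∀ (k : ℕ) (x : AdjoinRoot p),
      ((FiniteField.frobeniusAlgHom K (AdjoinRoot p)) ^ k) x = x ^ (Fintype.card K ^ k) := by
    intro k
    induction k with
    | zero =>
      intro x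
      simp
    | succ k ih =>
      intro x
      rw [pow_succ', AlgHom.mul_apply, ih, FiniteField.coe_frobeniusAlgHom]
      show (x ^ Fintype.card K ^ k) ^ Fintype.card K = x ^ Fintype.card K ^ (k + 1)
      rw [← pow_mul, pow_succ]
  have hn' : (FiniteField.frobeniusAlgHom K (AdjoinRoot p)) ^ n.1 = τ := hn
  rw [← h1, ← hn', h2]

end Cfsg.Agent.Lib.helper7.REE
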