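import Mathlib
import Cfsg.Agent.Lib.Helper18.REELA.Defs
import Cfsg.Agent.Lib.helper3.REELA09h3

set_option autoImplicit false

/-!
# Project REE, block LA, row LA09 (helper3): `la_root_frob`, verbatim statement of Helper18/REELA/Skel (proof: `reela09_h3`).
-/

namespace Cfsg.Agent.Lib.helper7.REE

open Matrix Polynomial

universe v

section finite

variable {K : Type v} [Field K] [Fintype K]

/-- LA09 -/
theorem la_root_frob (p : K[X]) (hp : Irreducible p) (β : AdjoinRoot p) (hβ : aeval β p = 0) :
    ∃ i, i < p.natDegree ∧ β = AdjoinRoot.root p ^ (Fintype.card K ^ i) :=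
  reela09_h3 p hp β hβ

end finite

end Cfsg.Agent.Lib.helper7.REE
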