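import Mathlib
import Cfsg.Agent.Lib.helper7.REE.Defs

set_option autoImplicit false

/-!
# Project REE, row G7F (helper3), core: Ward's theorem - exactly two classes of π-tori, of orders `q ± r + 1`,
with normalisers of order `6 (q ± r + 1)`.  Here from the STATEMENTS of the rows ARE (`ar_two_classes`), ARC (`ar_ord_six`),
G6G (`pi_count`), G7A (`tor_pi`), G7C (`tor_norm`), G7D (`tor_hall`), G7E (`tor_count`) as hypotheses.
-/

namespace Cfsg.Agent.Lib.helper7.REE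

open Matrix Cfsg.Agent.Lib.helper8

universe u v

/-- a prime `l` with `ord_l(q) = 6` is `≡ 1 mod 6` -/
theorem reeg7f_prime_mod (q l : ℕ) (hl : l.Prime) (h6 : l ∣ q ^ 6 - 1)
    (hmin : ∀ i, 0 < i → i < 6 → ¬ l ∣ q ^ i - 1) (hlq : ¬ l ∣ q) : l % 6 = 1 := by
  haveI : Fact l.Prime := ⟨hl⟩
  have hq0 : 0 < q := by
    rcases Nat.eq_zero_or_pos q with h | h
    · exact absurd (h ▸ dvd_zero l) hlq
    · exact h
  have hx0 : ((q : ℕ) : ZMod l) ≠ 0 := by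
    intro h
    exact hlq ((ZMod.natCast_eq_zero_iff _ _).1 h)
  have hpow : ∀ i : ℕ, ((q : ℕ) : ZMod l) ^ i = 1 ↔ l ∣ q ^ i - 1 := by
    intro i
    have h1 : 1 ≤ q ^ i := Nat.one_le_pow _ _ hq0
    rw [← ZMod.natCast_eq_zero_iff, Nat.cast_sub h1, Nat.cast_pow, Nat.cast_one, sub_eq_zero]
  have hx6 : ((q : ℕ) : ZMod l) ^ 6 = 1 := (hpow 6).2 h6
  have hxl : ((q : ℕ) : ZMod l) ^ (l - 1) = 1 := ZMod.pow_card_sub_one_eq_one hx0
  have hg : ((q : ℕ) : ZMod l) ^ (Nat.gcd 6 (l - 1)) = 1 := pow_gcd_eq_one.2 ⟨hx6, hxl⟩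
  have hgd : Nat.gcd 6 (l - 1) ∣ 6 := Nat.gcd_dvd_left _ _
  have hgpos : 0 < Nat.gcd 6 (l - 1) := Nat.gcd_pos_of_pos_left _ (by norm_num)
  have hg6 : Nat.gcd 6 (l - 1) = 6 := by
    by_contra hne
    have hlt : Nat.gcd 6 (l - 1) < 6 := lt_of_le_of_ne (Nat.le_of_dvd (by norm_num) hgd) hne
    exact hmin _ hgpos hlt ((hpow _).1 hg)
  have h6l : 6 ∣ l - 1 := hg6 ▸ Nat.gcd_dvd_right 6 (l - 1)
  have hl2 : 2 ≤ l := hl.two_le
  omega

/-- a divisor of a number all of whose prime divisors are `≡ 1 mod 6` is `≡ 1 mod 6` -/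
theorem reeg7f_dvd_mod (N : ℕ) (hN : N ≠ 0) (hp : ∀ l : ℕ, l.Prime → l ∣ N → l % 6 = 1) :
    ∀ a : ℕ, a ∣ N → a % 6 = 1 := by
  intro a
  induction a using Nat.strong_induction_on with
  | _ a ih =>
    intro ha
    have ha0 : a ≠ 0 := by
      intro h
      rw [h] at ha
      exact hN (zero_dvd_iff.1 ha)
    by_cases h1 : a = 1
    · rw [h1]
    · obtain ⟨l, hl, hla⟩ := Nat.exists_prime_and_dvd h1
      obtain ⟨b, hb'⟩ := hla
      have hb : b ∣ N := (Dvd.intro_left l hb'.symm).trans ha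
      have hb0 : 0 < b := by
        rcases Nat.eq_zero_or_pos b with h | h
        · rw [h, mul_zero] at hb'
          exact absurd hb' ha0
        · exact h
      have hlt : b < a := by
        have := hl.two_le
        rw [hb']
        nlinarith
      have hbm := ih b hlt hb
      have hlm := hp l hl ((Dvd.intro b hb'.symm).trans ha)
      rw [hb', Nat.mul_mod, hlm, hbm]

variable {G : Type u} [Group G] [Finite G] {K : Type v} [Field K] [Fintype K] {m : ℕ}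

/-- G7F, core -/
theorem reeg7f_core (R : ReeAx G K m)
    (hARE : ∀ {ι : Type} [Fintype ι] (a k : ι → ℕ), (∀ j, 2 ≤ a j) →
      (∀ i j, i ≠ j → (a i).Coprime (a j)) → ∏ j, a j = nn m → (∀ j, k j ∣ 6) →
      (∀ j, k j ∣ a j - 1) → (∀ j, a j * k j ∣ gg m) →
      (∑ j, (gg m / (a j * k j)) * (a j - 1) =
        qq m ^ 3 * (qq m / 3) * (qq m ^ 2 - 1) * (qq m - 2)) →
      ∃ j₁ j₂ : ι, j₁ ≠ j₂ ∧ (∀ j, j = j₁ ∨ j = j₂) ∧ a j₁ = qq m + rr m + 1 ∧
        a j₂ = qq m - rr m + 1 ∧ k j₁ = 6 ∧ k j₂ = 6)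
    (hARC : ∀ l : ℕ, l.Prime → l ∣ nn m →
      l ∣ qq m ^ 6 - 1 ∧ (∀ i, 0 < i → i < 6 → ¬ l ∣ qq m ^ i - 1) ∧ 7 ≤ l ∧ ¬ l ∣ qq m)
    (hpicount : Nat.card {x : G // R.IsPi x} =
      qq m ^ 3 * (qq m / 3) * (qq m ^ 2 - 1) * (qq m - 2))
    (hpi : ∀ A : Subgroup G, R.IsTor A →
      (∀ c ∈ A, c ^ nn m = 1) ∧ Nat.card A ∣ nn m ∧ 2 ≤ Nat.card A ∧
        (Nat.card A).Coprime (qq m - 1))
    (hnorm : ∀ A : Subgroup G, R.IsTor A →
      ∃ k, k ∣ 6 ∧ Nat.card (Subgroup.normalizer (A : Set G)) = k * Nat.card A)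
    (hhall : (∀ A, R.IsTor A → ∀ g : G, R.IsTor (A.map (MulAut.conj g).toMonoidHom)) ∧
      (∀ A, R.IsTor A → ∀ g : G, ∀ a ∈ A, a ≠ 1 → g * a * g⁻¹ ∈ A →
        g ∈ Subgroup.normalizer (A : Set G)) ∧
      (∀ A, R.IsTor A → (Nat.card A).Coprime (nn m / Nat.card A)) ∧
      (∀ A A', R.IsTor A → R.IsTor A' → ¬ (Nat.card A).Coprime (Nat.card A') →
        ∃ g : G, A' = A.map (MulAut.conj g).toMonoidHom) ∧
      (∀ l : ℕ, l.Prime → l ∣ nn m → ∃ A, R.IsTor A ∧ l ∣ Nat.card A))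
    (hcount : ∀ A : Subgroup G, R.IsTor A →
      Nat.card {x : G // R.IsPi x ∧ Nat.card (Subgroup.centralizer {x}) = Nat.card A} =
        gg m / Nat.card (Subgroup.normalizer (A : Set G)) * (Nat.card A - 1)) :
    ∃ A₂ A₃ : Subgroup G, R.IsTor A₂ ∧ R.IsTor A₃ ∧
      Nat.card A₂ = qq m + rr m + 1 ∧ Nat.card A₃ = qq m - rr m + 1 ∧
      Nat.card (Subgroup.normalizer (A₂ : Set G)) = 6 * (qq m + rr m + 1) ∧
      Nat.card (Subgroup.normalizer (A₃ : Set G)) = 6 * (qq m - rr m + 1) ∧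
      ∀ A, R.IsTor A → (∃ g : G, A = A₂.map (MulAut.conj g).toMonoidHom) ∨
        (∃ g : G, A = A₃.map (MulAut.conj g).toMonoidHom) := by
  classical
  obtain ⟨hh1, hh2, hh3, hh4, hh5⟩ := hhall
  have hnn0 : nn m ≠ 0 := by
    unfold nn
    omega
  -- the set of orders of the π-tori
  let S : Finset ℕ := (Nat.divisors (nn m)).filter (fun a => ∃ A, R.IsTor A ∧ Nat.card A = a)
  have hS : ∀ a, a ∈ S ↔ ∃ A, R.IsTor A ∧ Nat.card A = a := by
    intro a
    constructor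
    · intro ha
      exact (Finset.mem_filter.1 ha).2
    · rintro ⟨A, hA, rfl⟩
      exact Finset.mem_filter.2 ⟨Nat.mem_divisors.2 ⟨(hpi A hA).2.1, hnn0⟩, A, hA, rfl⟩
  have hex : ∀ j : ↥S, ∃ A, R.IsTor A ∧ Nat.card A = (j : ℕ) := fun j => (hS j).1 j.2
  choose T hT hTc using hex
  have hexk : ∀ j : ↥S, ∃ k, k ∣ 6 ∧
      Nat.card (Subgroup.normalizer ((T j : Subgroup G) : Set G)) = k * Nat.card (T j) :=
    fun j => hnorm (T j) (hT j)
  choose kk hk6 hkN using hexk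
  -- the hypotheses of `ar_two_classes`
  have ha2 : ∀ j : ↥S, 2 ≤ (j : ℕ) := by
    intro j
    rw [← hTc j]
    exact (hpi (T j) (hT j)).2.2.1
  have hcop : ∀ i j : ↥S, i ≠ j → ((i : ℕ)).Coprime (j : ℕ) := by
    intro i j hij
    by_contra hnc
    apply hij
    obtain ⟨g, hg⟩ := hh4 (T i) (T j) (hT i) (hT j) (by rwa [hTc, hTc])
    apply Subtype.ext
    rw [← hTc i, ← hTc j, hg]
    exact (Subgroup.card_map_of_injective (MulAut.conj g).injective).symm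
  have hdvdj : ∀ j : ↥S, (j : ℕ) ∣ nn m := by
    intro j
    rw [← hTc j]
    exact (hpi (T j) (hT j)).2.1
  have hprod : ∏ j : ↥S, (j : ℕ) = nn m := by
    have h1 : (∏ j : ↥S, (j : ℕ)) ∣ nn m := by
      have h1z : (∏ j : ↥S, ((j : ℕ) : ℤ)) ∣ ((nn m : ℕ) : ℤ) := by
        refine Fintype.prod_dvd_of_coprime ?_ ?_
        · intro i j hij
          exact Nat.isCoprime_iff_coprime.2 (hcop i j hij)
        · intro j
          exact Int.natCast_dvd_natCast.2 (hdvdj j)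
      have : ((∏ j : ↥S, (j : ℕ) : ℕ) : ℤ) ∣ ((nn m : ℕ) : ℤ) := by
        rw [Nat.cast_prod]
        exact h1z
      exact Int.natCast_dvd_natCast.1 this
    obtain ⟨c, hc⟩ := h1
    have hc1 : c = 1 := by
      by_contra hcne
      obtain ⟨l, hl, hlc⟩ := Nat.exists_prime_and_dvd hcne
      have hlnn : l ∣ nn m := hc ▸ (hlc.trans (dvd_mul_left c _))
      obtain ⟨A, hA, hlA⟩ := hh5 l hl hlnn
      have hAS : Nat.card A ∈ S := (hS _).2 ⟨A, hA, rfl⟩
      have hAP : Nat.card A ∣ ∏ j : ↥S, (j : ℕ) :=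
        Finset.dvd_prod_of_mem (fun j : ↥S => (j : ℕ)) (Finset.mem_univ (⟨Nat.card A, hAS⟩ : ↥S))
      obtain ⟨e, he⟩ := hAP
      have hA0 : 0 < Nat.card A := by
        have := (hpi A hA).2.2.1
        omega
      have hdiv : nn m / Nat.card A = e * c := by
        rw [hc, he, mul_assoc, Nat.mul_div_cancel_left _ hA0]
      have hco := hh3 A hA
      rw [hdiv] at hco
      have : l ∣ Nat.gcd (Nat.card A) (e * c) := Nat.dvd_gcd hlA (hlc.trans (dvd_mul_left c e))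
      rw [hco] at this
      exact hl.one_lt.ne' (Nat.dvd_one.1 this)
    rw [hc, hc1, mul_one]
  have hmod : ∀ a : ℕ, a ∣ nn m → a % 6 = 1 := by
    refine reeg7f_dvd_mod (nn m) hnn0 ?_
    intro l hl hln
    obtain ⟨h6, hmin, -, hlq⟩ := hARC l hl hln
    exact reeg7f_prime_mod (qq m) l hl h6 hmin hlq
  have hk : ∀ j : ↥S, kk j ∣ (j : ℕ) - 1 := by
    intro j
    have h1 := hmod _ (hdvdj j)
    have h6 : 6 ∣ (j : ℕ) - 1 := by omega
    exact (hk6 j).trans h6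
  have hNeq : ∀ j : ↥S, (j : ℕ) * kk j =
      Nat.card (Subgroup.normalizer ((T j : Subgroup G) : Set G)) := by
    intro j
    rw [hkN j, hTc j, mul_comm]
  have hdvd : ∀ j : ↥S, (j : ℕ) * kk j ∣ gg m := by
    intro j
    rw [hNeq j, ← R.card]
    exact Subgroup.card_subgroup_dvd_card _
  have hsum : ∑ j : ↥S, (gg m / ((j : ℕ) * kk j)) * ((j : ℕ) - 1) =
      qq m ^ 3 * (qq m / 3) * (qq m ^ 2 - 1) * (qq m - 2) := by
    rw [← hpicount]
    have hterm : ∀ j : ↥S, (gg m / ((j : ℕ) * kk j)) * ((j : ℕ) - 1) =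
        Nat.card {x : G // R.IsPi x ∧ Nat.card (Subgroup.centralizer {x}) = (j : ℕ)} := by
      intro j
      have := hcount (T j) (hT j)
      rw [hTc j] at this
      rw [this, hNeq j]
    rw [Finset.sum_congr rfl (fun j _ => hterm j)]
    let f : {x : G // R.IsPi x} → ↥S := fun x =>
      ⟨Nat.card (Subgroup.centralizer {(x : G)}),
        (hS _).2 ⟨Subgroup.centralizer {(x : G)}, ⟨x, x.2, rfl⟩, rfl⟩⟩
    have hfib : ∀ j : ↥S,
        Nat.card {x : G // R.IsPi x ∧ Nat.card (Subgroup.centralizer {x}) = (j : ℕ)} =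
          Nat.card {x : {x : G // R.IsPi x} // f x = j} := by
      intro j
      refine Nat.card_congr ?_
      exact
        { toFun := fun x => ⟨⟨x.1, x.2.1⟩, Subtype.ext x.2.2⟩
          invFun := fun y => ⟨y.1.1, y.1.2, congrArg Subtype.val y.2⟩
          left_inv := fun _ => rfl
          right_inv := fun _ => rfl }
    rw [Finset.sum_congr rfl (fun j _ => hfib j), ← Nat.card_sigma]
    exact Nat.card_congr (Equiv.sigmaFiberEquiv f)
  obtain ⟨j₁, j₂, hne, hall, ha1, ha2', hk1, hk2⟩ :=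
    hARE (ι := ↥S) (fun j => (j : ℕ)) kk ha2 hcop hprod hk6 hk hdvd hsum
  refine ⟨T j₁, T j₂, hT j₁, hT j₂, ?_, ?_, ?_, ?_, ?_⟩
  · rw [hTc j₁]
    exact ha1
  · rw [hTc j₂]
    exact ha2'
  · rw [hkN j₁, hk1, hTc j₁]
    show 6 * (j₁ : ℕ) = _
    rw [ha1]
  · rw [hkN j₂, hk2, hTc j₂]
    show 6 * (j₂ : ℕ) = _
    rw [ha2']
  · intro A hA
    have hAS : Nat.card A ∈ S := (hS _).2 ⟨A, hA, rfl⟩
    have hA2 : 2 ≤ Nat.card A := (hpi A hA).2.2.1
    have hnc : ∀ j : ↥S, (⟨Nat.card A, hAS⟩ : ↥S) = j →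
        ¬ (Nat.card (T j)).Coprime (Nat.card A) := by
      intro j hj
      have : Nat.card (T j) = Nat.card A := by
        rw [hTc j, ← hj]
      rw [this, Nat.coprime_self]
      omega
    rcases hall ⟨Nat.card A, hAS⟩ with h | h
    · exact Or.inl (hh4 (T j₁) A (hT j₁) hA (hnc j₁ h))
    · exact Or.inr (hh4 (T j₂) A (hT j₂) hA (hnc j₂ h))

end Cfsg.Agent.Lib.helper7.REE
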