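import Mathlib
import Cfsg.Agent.Lib.helper7.REE.Defs
import Cfsg.Agent.Lib.helper3.REEG7Fcore
import Cfsg.Agent.Lib.Helper11.REEARE
import Cfsg.Agent.Lib.Helper22.REEARC
import Cfsg.Agent.Lib.Helper29.REEARA
import Cfsg.Agent.Lib.Helper9.REEG6G
import Cfsg.Agent.Lib.Helper1.REEG6
import Cfsg.Agent.Lib.Helper18.REELA18
import Cfsg.Agent.Lib.helper2.REELA19
import Cfsg.Agent.Lib.Helper10.REEG7Bcore
import Cfsg.Agent.Lib.Helper10.REEG7Ccore
import Cfsg.Agent.Lib.Helper5.REEG7Dcore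
import Cfsg.Agent.Lib.Helper22.REEG7Ecore

/-! Project REE (helper7), row G7F `ward` VERBATIM (helper3): Ward two-class theorem for the pi-tori.
Derived from `reeg7f_core` (helper3) with the landed rows ARE ARC ARA G6G G7A LA18 LA19 and the cores of
G7B G7C G7D G7E (helper10, helper5, helper22), so that it does not wait for their verbatim wrappers. -/

set_option autoImplicit false

namespace Cfsg.Agent.Lib.helper7.REE

open Matrix Cfsg.Agent.Lib.helper8

universe u v

namespace ReeAx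

variable {G : Type u} [Group G] [Finite G] {K : Type v} [Field K] [Fintype K] {m : ℕ}

theorem ward (R : ReeAx G K m) :
    ∃ A₂ A₃ : Subgroup G, R.IsTor A₂ ∧ R.IsTor A₃ ∧
      Nat.card A₂ = qq m + rr m + 1 ∧ Nat.card A₃ = qq m - rr m + 1 ∧
      Nat.card (Subgroup.normalizer (A₂ : Set G)) = 6 * (qq m + rr m + 1) ∧
      Nat.card (Subgroup.normalizer (A₃ : Set G)) = 6 * (qq m - rr m + 1) ∧
      ∀ A, R.IsTor A → (∃ g : G, A = A₂.map (MulAut.conj g).toMonoidHom) ∨
        (∃ g : G, A = A₃.map (MulAut.conj g).toMonoidHom) := by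
  have hTP := fun (A : Subgroup G) (hA : R.IsTor A) => R.tor_pi A hA
  have hARC := fun (l : ℕ) (hl : l.Prime) (hd : l ∣ nn m) => ar_ord_six m l hl hd
  have hTC : ∀ A : Subgroup G, R.IsTor A →
      IsCyclic A ∧ ∀ a ∈ A, a ≠ 1 → Subgroup.centralizer {a} = A :=
    fun A hA => reeg7b_core R hTP hARC
      (fun l hl h6 hmin hlK M hM C _ hC hcop => la_cent_cyclic l hl h6 hmin hlK M hM C hC hcop) A hA
  have hTN : ∀ A : Subgroup G, R.IsTor A →
      ∃ k, k ∣ 6 ∧ Nat.card (Subgroup.normalizer (A : Set G)) = k * Nat.card A :=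
    fun A hA => reeg7c_core R hTP hTC hARC
      (fun l hl h6 hmin hlK M hM C _ hC hMC hcop n hn =>
        la_norm_six l hl h6 hmin hlK M hM C hC hMC hcop n hn) A hA
  have hTH := R.tor_hall_core (ar_basic m).2.2.2.2.2.2.2.1 hTP hTC
  have hTCnt : ∀ A : Subgroup G, R.IsTor A →
      Nat.card {x : G // R.IsPi x ∧ Nat.card (Subgroup.centralizer {x}) = Nat.card A} =
        gg m / Nat.card (Subgroup.normalizer (A : Set G)) * (Nat.card A - 1) :=
    fun A hA => reeg7e_core R A hA (hTP A hA).1 (hTP A hA).2.2.1 (hTC A hA).2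
      (hTH.2.1 A hA) (fun A' hA' h => hTH.2.2.2.1 A A' hA hA' h)
  exact reeg7f_core R
    (fun a k h1 h2 h3 h4 h5 h6 h7 => ar_two_classes m R.hm a k h1 h2 h3 h4 h5 h6 h7)
    hARC R.pi_count hTP hTN hTH hTCnt

end ReeAx


end Cfsg.Agent.Lib.helper7.REE
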