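import Mathlib
import Cfsg.Agent.Lib.helper8.SylowBasic
import Cfsg.Agent.Lib.helper8.Parity
import Cfsg.Agent.Lib.helper8.OrbitCount
import Cfsg.Agent.Lib.helper23.OrdGen2
import Cfsg.Agent.S1018
import Cfsg.Agent.Lib.Helper25.S496K1

set_option autoImplicit false

namespace Cfsg.Agent.Lib.helper3.S496

open Cfsg.Agent.Lib.helper8 Cfsg.Agent.Lib.helper23

/-- K2 -/
theorem np_succ_invol {G : Type*} [Group G] [Finite G] [IsSimpleGroup G]
    (hG : ¬ IsMulCommutative G) (p : ℕ) [hp : Fact p.Prime] (hp2 : p ≠ 2)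
    (P : Sylow p G) (hP : Nat.card (P : Subgroup G) = p) (hn : Nat.card (Sylow p G) = p + 1)
    (h2 : 2 ∣ Nat.card (Subgroup.normalizer ((P : Subgroup G) : Set G))) : 4 ∣ p - 1 := by
  haveI : Fact (Nat.Prime 2) := ⟨Nat.prime_two⟩
  obtain ⟨t', ht'⟩ := exists_prime_orderOf_dvd_card' 2 h2
  have ht2 : orderOf (t' : G) = 2 := by rw [Subgroup.orderOf_coe]; exact ht'
  have htN : (t' : G) ∈ Subgroup.normalizer ((P : Subgroup G) : Set G) := t'.2
  have hC : Nat.card (Subgroup.centralizer ((P : Subgroup G) : Set G)) = p := (np_succ p P hP hn).1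
  have htC : (t' : G) ∉ Subgroup.centralizer ((P : Subgroup G) : Set G) := by
    intro hmem
    have h1 : orderOf (⟨(t' : G), hmem⟩ : Subgroup.centralizer ((P : Subgroup G) : Set G)) ∣
        Nat.card (Subgroup.centralizer ((P : Subgroup G) : Set G)) := orderOf_dvd_natCard _
    rw [hC] at h1
    have h3 : orderOf (⟨(t' : G), hmem⟩ : Subgroup.centralizer ((P : Subgroup G) : Set G)) = 2 := by
      rw [← Subgroup.orderOf_coe]; exact ht2
    rw [h3] at h1
    exact hp2 ((Nat.prime_dvd_prime_iff_eq Nat.prime_two hp.out).mp h1).symm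
  have hle := Cfsg.Agent.S1018.part_b p P hP (t' : G) htN htC
  have horb := h8_card_orbits_sylow_prime p P hP
  rw [hn] at horb
  have hp1 : 1 ≤ p := hp.out.one_lt.le
  have horb2 : Nat.card (MulAction.orbitRel.Quotient ↥(P : Subgroup G)
      (G ⧸ Subgroup.normalizer ((P : Subgroup G) : Set G))) = 2 := by
    have : Nat.card (MulAction.orbitRel.Quotient ↥(P : Subgroup G)
      (G ⧸ Subgroup.normalizer ((P : Subgroup G) : Set G))) * p = 2 * p := by
      rw [horb]; omega
    exact Nat.eq_of_mul_eq_mul_right (by omega) this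
  rw [horb2] at hle
  have hX : Nat.card (G ⧸ Subgroup.normalizer ((P : Subgroup G) : Set G)) = p + 1 := by
    rw [← hn]; exact P.card_eq_card_quotient_normalizer.symm
  have hpar := h8_simple_involution_fixed (X := G ⧸ Subgroup.normalizer ((P : Subgroup G) : Set G))
    hG (t' : G) (by rw [← ht2]; exact pow_orderOf_eq_one _)
  rw [hX] at hpar
  have hpos : 1 ≤ Nat.card (MulAction.fixedBy
      (G ⧸ Subgroup.normalizer ((P : Subgroup G) : Set G)) (t' : G)) := by
    apply Nat.card_pos_iff.mpr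
    exact ⟨⟨⟨_, og2_base_fixed _ (t' : G) htN⟩⟩, inferInstance⟩
  set f := Nat.card (MulAction.fixedBy
      (G ⧸ Subgroup.normalizer ((P : Subgroup G) : Set G)) (t' : G)) with hf
  have hf12 : f = 1 ∨ f = 2 := by omega
  rcases hf12 with h1 | h1
  · exfalso
    rw [h1] at hpar
    have h4 : 4 ∣ p := by simpa using hpar
    have h22 : 2 ∣ p := Dvd.dvd.trans (by norm_num) h4
    exact hp2 ((Nat.prime_dvd_prime_iff_eq Nat.prime_two hp.out).mp h22).symm
  · rw [h1] at hpar
    have : p + 1 - 2 = p - 1 := by omega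
    rwa [this] at hpar

end Cfsg.Agent.Lib.helper3.S496
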