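import Mathlib
import Cfsg.Agent.Lib.helper8.SylowBasic
import Cfsg.Agent.Lib.helper8.SimpleEmbed
import Cfsg.Agent.Lib.helper8.Burnside
import Cfsg.Agent.Lib.helper2.Burnside2
import Cfsg.Agent.Lib.Helper24.BrauerFowler
import Cfsg.Agent.Lib.helper23.OrdGen3
import Cfsg.Agent.S1010
import Cfsg.Agent.Lib.Helper10.S496K0
import Cfsg.Agent.Lib.Helper25.S496K1
import Cfsg.Agent.Lib.helper3.S496K2
import Cfsg.Agent.Lib.Helper11.S496K3
import Cfsg.Agent.Lib.Helper1.S496EXC2

set_option autoImplicit false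

namespace Cfsg.Agent.Lib.helper3.S496

open Cfsg.Agent.Lib.helper8 Cfsg.Agent.Lib.helper23

/-! ## Boolean clauses: "`d` is impossible as the number of Sylow `p`-subgroups" -/

def cl1 (d : ℕ) : Bool := d == 1
def cl2 (n d : ℕ) : Bool := decide (d ≤ 12) && !(d.factorial % (2 * n) == 0)
def cl3 (p k m d : ℕ) : Bool := k == 1 && Nat.gcd (p - 1) (m / d) == 1
def cl4 (n p k d : ℕ) : Bool := k == 1 && d == p + 1 && !((p * (p - 1) * (p + 1)) % n == 0)
def cl5 (n p k d : ℕ) : Bool := k == 1 && d == p + 1 && p % 4 == 3 && (n / d) % 2 == 0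
def cl6 (n d : ℕ) : Bool :=
  decide (5 ≤ d) && decide (d ≤ 12) && d.factorial % (2 * n) == 0 &&
    decide (1 < d.factorial / (2 * n)) && decide (d.factorial / (2 * n) < d)
def cl7 (p d : ℕ) : Bool := p == 5 && d == 21
def cl8 (n p k m d : ℕ) : Bool :=
  decide (2 ≤ k) && !(d % (p ^ 2) == 1) && decide (m < 13 * (p + 1)) &&
    (List.range 13).all (fun i => !(m % i == 0 && decide (i * (p + 1) ≤ m)) ||
      !(i.factorial % (2 * n) == 0))
def cl9 (n p k d : ℕ) : Bool :=
  k == 1 && decide (5 ≤ p) && n == 2 * p * d &&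
    (List.range (n + 1)).all (fun x => decide (x < 2) || !(n % x == 0 && n % (x + 1) == 0) ||
      (!(x % p == 1) && !((x + 2) % p == 0)))

def candDead (n p k m d : ℕ) : Bool :=
  cl1 d || cl2 n d || cl3 p k m d || cl4 n p k d || cl5 n p k d || cl6 n d || cl7 p d ||
    cl8 n p k m d || cl9 n p k d

def killedBy (n p k m : ℕ) : Bool :=
  decide (0 < k) && decide (1 < m) && !(m % p == 0) && n == p ^ k * m &&
    (List.range (m + 1)).all (fun d => !(m % d == 0 && d % p == 1) || candDead n p k m d)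

def isPrimeB (p : ℕ) : Bool :=
  decide (2 ≤ p) && (List.range p).all (fun d => decide (d < 2) || !(p % d == 0))

theorem isPrimeB_sound (p : ℕ) (h : isPrimeB p = true) : p.Prime := by
  unfold isPrimeB at h
  rw [Bool.and_eq_true, decide_eq_true_eq, List.all_eq_true] at h
  obtain ⟨h2, hall⟩ := h
  rw [Nat.prime_def_lt]
  refine ⟨h2, fun m hm hdvd => ?_⟩
  have := hall m (List.mem_range.mpr hm)
  rw [Bool.or_eq_true, decide_eq_true_eq, Bool.not_eq_true', beq_eq_false_iff_ne] at this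
  rcases this with h1 | h1
  · have hm0 : m ≠ 0 := by
      rintro rfl
      rw [zero_dvd_iff] at hdvd
      omega
    omega
  · exact absurd (Nat.mod_eq_zero_of_dvd hdvd) h1

section sound

variable {G : Type*} [Group G] [Finite G] [IsSimpleGroup G]

/-- common data -/
theorem syl_data (hG : ¬ IsMulCommutative G) (p k m : ℕ) [hp : Fact p.Prime]
    (hcard : Nat.card G = p ^ k * m) (hm : ¬ p ∣ m) (hk : 0 < k) (hm1 : 1 < m) (P : Sylow p G) :
    Nat.card (Sylow p G) ∣ m ∧ Nat.card (Sylow p G) % p = 1 ∧ Nat.card (Sylow p G) ≠ 1 ∧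
      Nat.card (Subgroup.normalizer ((P : Subgroup G) : Set G)) * Nat.card (Sylow p G) = p ^ k * m ∧
      (Subgroup.normalizer ((P : Subgroup G) : Set G)).index = Nat.card (Sylow p G) ∧
      Subgroup.normalizer ((P : Subgroup G) : Set G) ≠ ⊤ ∧
      Nat.card (P : Subgroup G) = p ^ k := by
  have h1 := h8_nsylow_dvd p k m hcard hm
  have h2 := h8_nsylow_mod (G := G) p
  have h3 := h8_simple_nsylow_ne_one p k m hcard hm hk hm1
  have h4 := h8_card_normalizer_sylow p P
  rw [hcard] at h4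
  have h5 := (h8_nsylow_eq_index_normalizer p P).symm
  refine ⟨h1, h2, h3, h4, h5, ?_, h8_sylow_card p k m hcard hm P⟩
  intro htop
  rw [htop, Subgroup.index_top] at h5
  exact h3 h5.symm

theorem cl2_sound (hG : ¬ IsMulCommutative G) (p k m : ℕ) [hp : Fact p.Prime]
    (hcard : Nat.card G = p ^ k * m) (hm : ¬ p ∣ m) (hk : 0 < k) (hm1 : 1 < m)
    (h : cl2 (p ^ k * m) (Nat.card (Sylow p G)) = true) : False := by
  obtain ⟨P⟩ : Nonempty (Sylow p G) := inferInstance
  obtain ⟨-, -, -, -, h5, h6, -⟩ := syl_data hG p k m hcard hm hk hm1 P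
  unfold cl2 at h
  rw [Bool.and_eq_true, decide_eq_true_eq, Bool.not_eq_true', beq_eq_false_iff_ne] at h
  have := h8_simple_two_mul_card_dvd_factorial hG _ h6
  rw [h5, hcard] at this
  exact h.2 (Nat.mod_eq_zero_of_dvd this)

theorem cl3_sound (hG : ¬ IsMulCommutative G) (p k m : ℕ) [hp : Fact p.Prime]
    (hcard : Nat.card G = p ^ k * m) (hm : ¬ p ∣ m) (hk : 0 < k) (hm1 : 1 < m)
    (h : cl3 p k m (Nat.card (Sylow p G)) = true) : False := by
  obtain ⟨P⟩ : Nonempty (Sylow p G) := inferInstance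
  obtain ⟨h1, -, -, h4, -, -, -⟩ := syl_data hG p k m hcard hm hk hm1 P
  unfold cl3 at h
  rw [Bool.and_eq_true, beq_iff_eq, beq_iff_eq] at h
  obtain ⟨hk1, hgcd⟩ := h
  subst hk1
  obtain ⟨-, -, -, r, hr1, hr2, hr3⟩ := og3_sylow_data p m hcard hm hm1 P
  set d := Nat.card (Sylow p G) with hd
  obtain ⟨e, he⟩ := h1
  have hd0 : 0 < d := Nat.card_pos
  have hmd : m / d = e := by rw [he]; exact Nat.mul_div_cancel_left e hd0
  have hN : Nat.card (Subgroup.normalizer ((P : Subgroup G) : Set G)) = p * e := by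
    have : Nat.card (Subgroup.normalizer ((P : Subgroup G) : Set G)) * d = (p * e) * d := by
      rw [h4, he]; ring
    exact Nat.eq_of_mul_eq_mul_right hd0 this
  have hrN : r ∣ p * e := by rw [← hN, ← hr3]; exact Dvd.intro_left _ rfl
  have hp1 : 1 ≤ p := hp.out.one_lt.le
  have hcop : Nat.Coprime r p := by
    have h0 : Nat.Coprime (p - 1) p := by
      have : Nat.Coprime (p - 1) (p - 1 + 1) := by simp
      rwa [Nat.sub_add_cancel hp1] at this
    exact Nat.Coprime.coprime_dvd_left hr1 h0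
  have hre : r ∣ e := hcop.dvd_of_dvd_mul_left hrN
  have : r ∣ Nat.gcd (p - 1) (m / d) := by rw [hmd]; exact Nat.dvd_gcd hr1 hre
  rw [hgcd] at this
  exact hr2 (Nat.dvd_one.mp this)

theorem cl4_sound (hG : ¬ IsMulCommutative G) (p k m : ℕ) [hp : Fact p.Prime]
    (hcard : Nat.card G = p ^ k * m) (hm : ¬ p ∣ m) (hk : 0 < k) (hm1 : 1 < m)
    (h : cl4 (p ^ k * m) p k (Nat.card (Sylow p G)) = true) : False := by
  obtain ⟨P⟩ : Nonempty (Sylow p G) := inferInstance
  obtain ⟨-, -, -, -, -, -, h7⟩ := syl_data hG p k m hcard hm hk hm1 P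
  unfold cl4 at h
  rw [Bool.and_eq_true, Bool.and_eq_true, beq_iff_eq, beq_iff_eq, Bool.not_eq_true',
    beq_eq_false_iff_ne] at h
  obtain ⟨⟨hk1, hd⟩, hnd⟩ := h
  subst hk1
  rw [pow_one] at h7
  have := (np_succ p P h7 hd).2
  rw [hcard] at this
  exact hnd (Nat.mod_eq_zero_of_dvd this)

theorem cl5_sound (hG : ¬ IsMulCommutative G) (p k m : ℕ) [hp : Fact p.Prime]
    (hcard : Nat.card G = p ^ k * m) (hm : ¬ p ∣ m) (hk : 0 < k) (hm1 : 1 < m)
    (h : cl5 (p ^ k * m) p k (Nat.card (Sylow p G)) = true) : False := by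
  obtain ⟨P⟩ : Nonempty (Sylow p G) := inferInstance
  obtain ⟨-, -, -, h4, -, -, h7⟩ := syl_data hG p k m hcard hm hk hm1 P
  unfold cl5 at h
  simp only [Bool.and_eq_true, beq_iff_eq] at h
  obtain ⟨⟨⟨hk1, hd⟩, hp4⟩, hev⟩ := h
  subst hk1
  rw [pow_one] at h7
  have hd0 : 0 < Nat.card (Sylow p G) := Nat.card_pos
  have hN : Nat.card (Subgroup.normalizer ((P : Subgroup G) : Set G)) =
      (p ^ 1 * m) / Nat.card (Sylow p G) := by
    rw [← h4]; exact (Nat.mul_div_cancel _ hd0).symm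
  have h2 : 2 ∣ Nat.card (Subgroup.normalizer ((P : Subgroup G) : Set G)) := by
    rw [hN]; exact Nat.dvd_of_mod_eq_zero hev
  have hp2 : p ≠ 2 := by rintro rfl; omega
  have := np_succ_invol hG p hp2 P h7 hd h2
  omega

theorem cl6_sound (hG : ¬ IsMulCommutative G) (p k m : ℕ) [hp : Fact p.Prime]
    (hcard : Nat.card G = p ^ k * m) (hm : ¬ p ∣ m) (hk : 0 < k) (hm1 : 1 < m)
    (h : cl6 (p ^ k * m) (Nat.card (Sylow p G)) = true) : False := by
  obtain ⟨P⟩ : Nonempty (Sylow p G) := inferInstance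
  obtain ⟨-, -, -, -, h5, -, -⟩ := syl_data hG p k m hcard hm hk hm1 P
  unfold cl6 at h
  simp only [Bool.and_eq_true, decide_eq_true_eq, beq_iff_eq] at h
  obtain ⟨⟨⟨⟨h5d, -⟩, hdiv⟩, hj1⟩, hjd⟩ := h
  have hj : 2 * Nat.card G *
      ((Nat.card (Sylow p G)).factorial / (2 * (p ^ k * m))) =
      ((Subgroup.normalizer ((P : Subgroup G) : Set G)).index).factorial := by
    rw [h5, hcard]
    exact Nat.mul_div_cancel' (Nat.dvd_of_mod_eq_zero hdiv)
  have := idx_alt hG (Subgroup.normalizer ((P : Subgroup G) : Set G)) (by rw [h5]; exact h5d) _ hj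
  rw [h5] at this
  omega

theorem cl7_sound (p : ℕ) (h : cl7 p (Nat.card (Sylow p G)) = true) : False := by
  unfold cl7 at h
  rw [Bool.and_eq_true, beq_iff_eq, beq_iff_eq] at h
  obtain ⟨rfl, hd⟩ := h
  exact Cfsg.Agent.S1010.result hd

theorem cl8_sound (hG : ¬ IsMulCommutative G) (p k m : ℕ) [hp : Fact p.Prime]
    (hcard : Nat.card G = p ^ k * m) (hm : ¬ p ∣ m) (_hk : 0 < k) (_hm1 : 1 < m)
    (h : cl8 (p ^ k * m) p k m (Nat.card (Sylow p G)) = true) : False := by
  unfold cl8 at h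
  simp only [Bool.and_eq_true, decide_eq_true_eq, Bool.not_eq_true', beq_eq_false_iff_ne,
    List.all_eq_true, Bool.or_eq_true, List.mem_range] at h
  obtain ⟨⟨⟨hk2, hmod⟩, hm13⟩, hall⟩ := h
  have hp2 : p ^ 2 ∣ Nat.card G := by
    rw [hcard]
    exact Dvd.dvd.mul_right (pow_dvd_pow p hk2) m
  have hp1 : 1 < p := hp.out.one_lt
  have hpp : 1 < p ^ 2 := by nlinarith
  have hne : ¬ Nat.card (Sylow p G) ≡ 1 [MOD p ^ 2] := by
    intro hc
    apply hmod
    rw [Nat.ModEq, Nat.mod_eq_of_lt hpp] at hc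
    exact hc
  obtain ⟨H, P, hHtop, hPH, hle⟩ := sylow_meet p hp2 hne
  have hPc : Nat.card (P : Subgroup G) = p ^ k := h8_sylow_card p k m hcard hm P
  have hdvd : p ^ k ∣ Nat.card H := by rw [← hPc]; exact Subgroup.card_dvd_of_le hPH
  obtain ⟨j, hj⟩ := hdvd
  have hidx := H.card_mul_index
  rw [hcard, hj] at hidx
  have hpk : 0 < p ^ k := pow_pos hp.out.pos k
  have hm' : j * H.index = m := by
    have : p ^ k * (j * H.index) = p ^ k * m := by rw [← hidx]; ring
    exact Nat.eq_of_mul_eq_mul_left hpk this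
  have hjp : p + 1 ≤ j := by
    rw [hPc, hj] at hle
    have : p ^ k * (p + 1) ≤ p ^ k * j := by rw [mul_comm]; exact hle
    exact Nat.le_of_mul_le_mul_left this hpk
  have hi0 : 0 < H.index := Nat.pos_of_ne_zero Subgroup.index_ne_zero_of_finite
  have hile : H.index * (p + 1) ≤ m := by
    rw [← hm', mul_comm]
    exact Nat.mul_le_mul_right _ hjp
  have hi13 : H.index < 13 := by
    by_contra hcon
    push Not at hcon
    have : 13 * (p + 1) ≤ H.index * (p + 1) := Nat.mul_le_mul_right _ hcon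
    omega
  have hfact := h8_simple_two_mul_card_dvd_factorial hG H hHtop
  rw [hcard] at hfact
  rcases hall H.index hi13 with h1 | h1
  · rw [Bool.and_eq_false_iff] at h1
    rcases h1 with h1 | h1
    · rw [beq_eq_false_iff_ne] at h1
      apply h1
      rw [← hm']
      exact Nat.mul_mod_left _ _
    · rw [decide_eq_false_iff_not] at h1
      exact h1 hile
  · exact h1 (Nat.mod_eq_zero_of_dvd hfact)

theorem cl9_sound (hG : ¬ IsMulCommutative G) (p k m : ℕ) [hp : Fact p.Prime]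
    (hcard : Nat.card G = p ^ k * m) (hm : ¬ p ∣ m) (hk : 0 < k) (hm1 : 1 < m)
    (h : cl9 (p ^ k * m) p k (Nat.card (Sylow p G)) = true) : False := by
  obtain ⟨P⟩ : Nonempty (Sylow p G) := inferInstance
  obtain ⟨-, -, -, h4, -, -, h7⟩ := syl_data hG p k m hcard hm hk hm1 P
  unfold cl9 at h
  simp only [Bool.and_eq_true, decide_eq_true_eq, Bool.not_eq_true', beq_iff_eq,
    List.all_eq_true, Bool.or_eq_true, List.mem_range] at h
  obtain ⟨⟨⟨hk1, hp5⟩, hn2⟩, hall⟩ := h
  subst hk1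
  rw [pow_one] at h7
  obtain ⟨-, -, -, r, hr1, hr2, hr3⟩ := og3_sylow_data p m hcard hm hm1 P
  have hd0 : 0 < Nat.card (Sylow p G) := Nat.card_pos
  have hN : Nat.card (Subgroup.normalizer ((P : Subgroup G) : Set G)) = 2 * p := by
    have : Nat.card (Subgroup.normalizer ((P : Subgroup G) : Set G)) * Nat.card (Sylow p G) =
        (2 * p) * Nat.card (Sylow p G) := by rw [h4, hn2]
    exact Nat.eq_of_mul_eq_mul_right hd0 this
  have hp1 : 1 ≤ p := hp.out.one_lt.le
  have hcop : Nat.Coprime r p := by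
    have h0 : Nat.Coprime (p - 1) p := by
      have : Nat.Coprime (p - 1) (p - 1 + 1) := by simp
      rwa [Nat.sub_add_cancel hp1] at this
    exact Nat.Coprime.coprime_dvd_left hr1 h0
  have hr2p : r ∣ 2 * p := by rw [← hN, ← hr3]; exact Dvd.intro_left _ rfl
  have hrd2 : r ∣ 2 := hcop.dvd_of_dvd_mul_right hr2p
  have hr : r = 2 := by
    rcases (Nat.dvd_prime Nat.prime_two).mp hrd2 with h1 | h1
    · exact absurd h1 hr2
    · exact h1
  have hC : Nat.card (Subgroup.centralizer ((P : Subgroup G) : Set G)) = p := by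
    rw [hr, hN] at hr3
    omega
  obtain ⟨x, hx2, hx1, hx3, hx4⟩ := exc_two hG p hp5 P h7 hC hN
  rw [hcard] at hx1 hx3
  have hn0 : 0 < p ^ 1 * m := by rw [← hcard]; exact Nat.card_pos
  have hxle : x < p ^ 1 * m + 1 := Nat.lt_succ_of_le (Nat.le_of_dvd hn0 hx1)
  rcases hall x hxle with (h1 | h1) | h1
  · omega
  · rw [Bool.and_eq_false_iff, beq_eq_false_iff_ne, beq_eq_false_iff_ne] at h1
    rcases h1 with h1 | h1
    · exact h1 (Nat.mod_eq_zero_of_dvd hx1)
    · exact h1 (Nat.mod_eq_zero_of_dvd hx3)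
  · rw [beq_eq_false_iff_ne, beq_eq_false_iff_ne] at h1
    rcases hx4 with h2 | h2
    · exact h1.1 h2
    · exact h1.2 h2

theorem candDead_sound (hG : ¬ IsMulCommutative G) (p k m : ℕ) [hp : Fact p.Prime]
    (hcard : Nat.card G = p ^ k * m) (hm : ¬ p ∣ m) (hk : 0 < k) (hm1 : 1 < m)
    (h : candDead (p ^ k * m) p k m (Nat.card (Sylow p G)) = true) : False := by
  unfold candDead at h
  simp only [Bool.or_eq_true] at h
  rcases h with (((((((h | h) | h) | h) | h) | h) | h) | h) | h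
  · unfold cl1 at h
    rw [beq_iff_eq] at h
    exact h8_simple_nsylow_ne_one p k m hcard hm hk hm1 h
  · exact cl2_sound hG p k m hcard hm hk hm1 h
  · exact cl3_sound hG p k m hcard hm hk hm1 h
  · exact cl4_sound hG p k m hcard hm hk hm1 h
  · exact cl5_sound hG p k m hcard hm hk hm1 h
  · exact cl6_sound hG p k m hcard hm hk hm1 h
  · exact cl7_sound p h
  · exact cl8_sound hG p k m hcard hm hk hm1 h
  · exact cl9_sound hG p k m hcard hm hk hm1 h

theorem killedBy_sound (hG : ¬ IsMulCommutative G) (n p k m : ℕ) (hp : p.Prime)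
    (h : killedBy n p k m = true) (hcard : Nat.card G = n) : False := by
  have : Fact p.Prime := ⟨hp⟩
  unfold killedBy at h
  simp only [Bool.and_eq_true, decide_eq_true_eq, Bool.not_eq_true', beq_eq_false_iff_ne,
    beq_iff_eq, List.all_eq_true, Bool.or_eq_true, List.mem_range] at h
  obtain ⟨⟨⟨⟨hk, hm1⟩, hmp⟩, hn⟩, hall⟩ := h
  subst hn
  have hm : ¬ p ∣ m := fun hd => hmp (Nat.mod_eq_zero_of_dvd hd)
  have h1 := h8_nsylow_dvd p k m hcard hm
  have h2 := h8_nsylow_mod (G := G) p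
  have hm0 : 0 < m := by omega
  have hle : Nat.card (Sylow p G) < m + 1 := Nat.lt_succ_of_le (Nat.le_of_dvd hm0 h1)
  rcases hall _ hle with h3 | h3
  · rw [Bool.and_eq_false_iff, beq_eq_false_iff_ne, beq_eq_false_iff_ne] at h3
    rcases h3 with h3 | h3
    · exact h3 (Nat.mod_eq_zero_of_dvd h1)
    · exact h3 h2
  · exact candDead_sound hG p k m hcard hm hk hm1 h3

end sound

end Cfsg.Agent.Lib.helper3.S496
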