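import Mathlib
import Cfsg.Prelude.Def_ChevStructure
import Cfsg.Prelude.Def_LieTwisted
import Cfsg.Agent.Lib.helper8.TD4.Defs
import Cfsg.Agent.Lib.helper8.ChevHProd
import Cfsg.Agent.Lib.helper8.ChevXEntry
import Cfsg.Agent.Lib.helper8.ChevTwH1

/-!
Project TD4, row B2: an element of the diagonal subgroup of `D₄(F)` is the diagonal matrix of its
characters.
-/

set_option autoImplicit false

namespace Cfsg.Agent.Lib.helper8.TD4

open Cfsg.Lie Cfsg.Lie.ChevalleyDatum Cfsg.Agent.Lib.helper8 Matrix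

universe u v

/-- every root of `D₄` has Cartan integer `±1` with some fundamental root -/
theorem td4b2_cartan_unit : ∀ v < 24, ∃ b < 4, chevD4.cartan b v = 1 ∨ chevD4.cartan b v = -1 := by
  decide +kernel

section B

variable {F : Type u} [Field F] (hB : H8Base.{u} chevD4)

/-- the character of a diagonal matrix `diagonal (h8Phi …)` lying in `H` -/
theorem td4b2_chi_eq (h : GL chevD4.Idx F) (hh : h ∈ chevD4.diagonalSubgroup F)
    (d : chevD4.Idx → F) (hd : (h : Matrix chevD4.Idx chevD4.Idx F) = Matrix.diagonal d)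
    (hd1 : ∀ i, d (Sum.inl i) = 1) (v : Fin chevD4.nroots) :
    h8chi chevD4 hB h v.val = d (Sum.inr v) := by
  have key := (h8chi_spec chevD4 hB h hh v.val v.2).2 1
  rw [mul_one] at key
  have key2 : h * h8xU chevD4 hB v.val 1 = h8xU chevD4 hB v.val (h8chi chevD4 hB h v.val) * h := by
    rw [← key]; group
  have key3 := congrArg (fun g : GL chevD4.Idx F => (g : Matrix chevD4.Idx chevD4.Idx F)) key2
  simp only [Units.val_mul, h8xU_val, hd] at key3
  obtain ⟨b, hb, hcart⟩ := td4b2_cartan_unit v.val v.2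
  have hb' : b < chevD4.rank := hb
  have e := congrFun (congrFun key3 (Sum.inr v)) (Sum.inl ⟨b, hb'⟩)
  rw [Matrix.diagonal_mul, Matrix.mul_diagonal] at e
  unfold ChevalleyDatum.x at e
  rw [dif_pos v.2, dif_pos v.2, h8xMat_inr_inl, h8xMat_inr_inl, if_pos rfl, if_pos rfl, hd1] at e
  simp only [Fin.eta] at e
  rcases hcart with hc | hc
  · rw [hc] at e
    simp only [Int.cast_one, mul_one, mul_neg, neg_mul, one_mul, neg_inj] at e
    exact e.symm
  · rw [hc] at e
    simp only [Int.cast_neg, Int.cast_one, neg_neg, mul_one, one_mul] at e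
    exact e.symm

/-- B2 -/
theorem H_diag (h : GL chevD4.Idx F) (hh : h ∈ chevD4.diagonalSubgroup F) :
    (h : Matrix chevD4.Idx chevD4.Idx F) = Matrix.diagonal
      (Sum.elim (fun _ => (1 : F)) (fun v : Fin chevD4.nroots => h8chi chevD4 hB h v.val)) := by
  obtain ⟨c, _, hmat⟩ := h8_H_eq_Phi chevD4 hB h hh
  rw [hmat]
  congr 1
  funext x
  rcases x with k | v
  · simp [h8Phi]
  · rw [Sum.elim_inr]
    exact (td4b2_chi_eq hB h hh _ hmat (fun i => by simp [h8Phi]) v).symm

end B

end Cfsg.Agent.Lib.helper8.TD4
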