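import Mathlib
import Cfsg.Prelude.Def_ChevStructure
import Cfsg.Prelude.Def_LieTwisted
import Cfsg.Agent.Lib.helper8.TD4.Defs
import Cfsg.Agent.Lib.helper3.TD4B2

/-!
Project TD4, row B3: an element of the diagonal subgroup of `D₄(F)` is determined by its characters.
-/

set_option autoImplicit false

namespace Cfsg.Agent.Lib.helper8.TD4

open Cfsg.Lie Cfsg.Lie.ChevalleyDatum Cfsg.Agent.Lib.helper8 Matrix

universe u v

section B

variable {F : Type u} [Field F] (hB : H8Base.{u} chevD4)

/-- B3 -/
theorem H_ext (h h' : GL chevD4.Idx F) (hh : h ∈ chevD4.diagonalSubgroup F)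
    (hh' : h' ∈ chevD4.diagonalSubgroup F)
    (he : ∀ r < 24, h8chi chevD4 hB h r = h8chi chevD4 hB h' r) : h = h' := by
  apply Units.ext
  rw [H_diag hB h hh, H_diag hB h' hh']
  congr 1
  funext x
  rcases x with k | v
  · rfl
  · simp only [Sum.elim_inr]
    exact he v.val v.2

end B

end Cfsg.Agent.Lib.helper8.TD4
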