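import Mathlib
import Cfsg.Prelude.Def_ChevStructure
import Cfsg.Prelude.Def_LieTwisted
import Cfsg.Agent.Lib.helper8.TD4.Defs
import Cfsg.Agent.Lib.helper8.ChevBNAll2
import Cfsg.Agent.Lib.helper8.ChevTwB1
import Cfsg.Agent.Lib.helper8.ChevTwH1

/-!
Project TD4, row B5: the characters of a twisted diagonal element.
-/

set_option autoImplicit false

namespace Cfsg.Agent.Lib.helper8.TD4

open Cfsg.Lie Cfsg.Lie.ChevalleyDatum Cfsg.Agent.Lib.helper8 Matrix

universe u v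

/-- general form of `h8chi_sig` (no fixed-point hypothesis): the characters of the image of a diagonal
element under a twisting endomorphism -/
theorem td4b5_chi_sig {K : Type u} [Field K] (D : ChevalleyDatum) (hB : H8Base.{u} D)
    (hA : H8ReflAll D) (hW : H8BN2 D) (σ τ π ϖ : ℕ → ℕ) (η : ℕ → ℤ) (hAut : H8Aut D σ τ π ϖ η)
    (f : K ≃+* K) (k : GL D.Idx K) (hk : k ∈ D.diagonalSubgroup K) (r : ℕ) (hr : r < D.nroots) :
    h8chi D hB (h8Sig D σ τ π ϖ η hAut f k) (σ r) = f (h8chi D hB k r) := by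
  have hη0 : ((η r : ℤ) : K) ≠ 0 := by
    rcases hAut.eta1 r hr with h | h <;> rw [h] <;> simp
  have hσr : σ r < D.nroots := hAut.lt r hr
  have h1 := congrArg (h8Sig D σ τ π ϖ η hAut f)
    ((h8chi_spec D hB k hk r hr).2 (f.symm (((η r : ℤ) : K)⁻¹)))
  rw [map_mul, map_mul, map_inv, h8Sig_xU D σ τ π ϖ η hAut f hB r hr,
    h8Sig_xU D σ τ π ϖ η hAut f hB r hr, map_mul, RingEquiv.apply_symm_apply,
    mul_inv_cancel₀ hη0] at h1
  apply h8chi_unique D hB hA hW _ (h8Sig_H D hB σ τ π ϖ η hAut f k hk) (σ r) hσr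
  rw [h1]
  congr 1
  rw [mul_comm (f _), ← mul_assoc, mul_inv_cancel₀ hη0, one_mul]

section B

variable {F : Type u} [Field F] (hB : H8Base.{u} chevD4)

/-- B5 -/
theorem chi_twist (hA : H8ReflAll chevD4) (f : F ≃+* F) (h : GL chevD4.Idx F)
    (hh : h ∈ chevD4.diagonalSubgroup F) :
    Fr hA f h ∈ chevD4.diagonalSubgroup F ∧
    ∀ r < 24, h8chi chevD4 hB (Fr hA f h) (h8sD4 r) = f (h8chi chevD4 hB h r) := by
  have hD : chevD4 ∈ [chevG2, chevB2, chevD4, chevF4, chevE6, chevE7, chevE8] := by simp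
  have hW := h8bn2_all chevD4 hD
  refine ⟨h8Sig_H chevD4 hB h8sD4 h8tD4 h8pD4 h8qD4 h8eD4 (h8autD4 hA) f h hh, ?_⟩
  intro r hr
  exact td4b5_chi_sig chevD4 hB hA hW h8sD4 h8tD4 h8pD4 h8qD4 h8eD4 (h8autD4 hA) f h hh r hr

end B

end Cfsg.Agent.Lib.helper8.TD4
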