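import Mathlib
import Cfsg.Agent.Lib.helper3.WLen

set_option autoImplicit false

namespace Cfsg.Agent.Lib.helper3

section Basic

variable {B : Type*}

/-- product of the images of the letters of a word -/
def lprod {G : Type*} [Monoid G] (f : B → G) (ω : List B) : G := (ω.map f).prod

theorem lprod_nil {G : Type*} [Monoid G] (f : B → G) : lprod f [] = 1 := rfl

theorem lprod_cons {G : Type*} [Monoid G] (f : B → G) (a : B) (ω : List B) :
    lprod f (a :: ω) = f a * lprod f ω := by
  unfold lprod
  rw [List.map_cons, List.prod_cons]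

theorem lprod_append {G : Type*} [Monoid G] (f : B → G) (ω ω' : List B) :
    lprod f (ω ++ ω') = lprod f ω * lprod f ω' := by
  unfold lprod
  rw [List.map_append, List.prod_append]

theorem lprod_concat {G : Type*} [Monoid G] (f : B → G) (ω : List B) (a : B) :
    lprod f (ω ++ [a]) = lprod f ω * f a := by
  rw [lprod_append, lprod_cons, lprod_nil, mul_one]

/-- alternating word of length `k` in the letters `a`, `b`, ending with `b` -/
def altW (a b : B) : ℕ → List B
  | 0 => []
  | k + 1 => (if Even k then b else a) :: altW a b k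

theorem altW_length (a b : B) (k : ℕ) : (altW a b k).length = k := by
  induction k with
  | zero => rfl
  | succ k ih => rw [altW, List.length_cons, ih]

theorem altW_succ_eq_concat (a b : B) (k : ℕ) : altW b a (k + 1) = altW a b k ++ [a] := by
  induction k with
  | zero => simp [altW]
  | succ k ih =>
    rw [altW, ih, altW, List.cons_append]
    congr 1
    by_cases h : Even k
    · have : ¬ Even (k + 1) := by
        rw [Nat.even_add_one]
        exact not_not.2 h
      rw [if_neg this, if_pos h]
    · have : Even (k + 1) := by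
        rw [Nat.even_add_one]
        exact h
      rw [if_pos this, if_neg h]

variable {G : Type*} [Group G]

theorem mul_pow_comm_aux (x y : G) (k : ℕ) : y * (x * y) ^ k = (y * x) ^ k * y := by
  induction k with
  | zero => simp
  | succ k ih =>
    rw [pow_succ, ← mul_assoc, ih, pow_succ]
    group

/-- the quotient of the two alternating products -/
theorem altW_quot (f : B → G) (hf : ∀ i, f i * f i = 1) (a b : B) (k : ℕ) :
    lprod f (altW a b k) * (lprod f (altW b a k))⁻¹ =
      if Even k then (f a * f b) ^ k else (f b * f a) ^ k := by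
  have hinv : ∀ i, (f i)⁻¹ = f i := fun i => inv_eq_of_mul_eq_one_left (hf i)
  induction k with
  | zero => simp [altW, lprod_nil]
  | succ k ih =>
    by_cases h : Even k
    · have h' : ¬ Even (k + 1) := by
        rw [Nat.even_add_one]
        exact not_not.2 h
      rw [if_pos h] at ih
      rw [if_neg h', altW, altW, if_pos h, if_pos h, lprod_cons, lprod_cons, mul_inv_rev, hinv]
      calc f b * lprod f (altW a b k) * ((lprod f (altW b a k))⁻¹ * f a)
          = f b * (lprod f (altW a b k) * (lprod f (altW b a k))⁻¹) * f a := by group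
        _ = f b * (f a * f b) ^ k * f a := by rw [ih]
        _ = (f b * f a) ^ k * f b * f a := by rw [mul_pow_comm_aux]
        _ = (f b * f a) ^ (k + 1) := by rw [pow_succ, mul_assoc]
    · have h' : Even (k + 1) := by
        rw [Nat.even_add_one]
        exact h
      rw [if_neg h] at ih
      rw [if_pos h', altW, altW, if_neg h, if_neg h, lprod_cons, lprod_cons, mul_inv_rev, hinv]
      calc f a * lprod f (altW a b k) * ((lprod f (altW b a k))⁻¹ * f b)
          = f a * (lprod f (altW a b k) * (lprod f (altW b a k))⁻¹) * f b := by group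
        _ = f a * (f b * f a) ^ k * f b := by rw [ih]
        _ = (f a * f b) ^ k * f a * f b := by rw [mul_pow_comm_aux]
        _ = (f a * f b) ^ (k + 1) := by rw [pow_succ, mul_assoc]

theorem pow_swap_eq_one (f : B → G) (hf : ∀ i, f i * f i = 1) (a b : B) (k : ℕ) :
    (f b * f a) ^ k = 1 ↔ (f a * f b) ^ k = 1 := by
  have hinv : ∀ i, (f i)⁻¹ = f i := fun i => inv_eq_of_mul_eq_one_left (hf i)
  have key : ∀ x y : B, (f x * f y) ^ k = 1 → (f y * f x) ^ k = 1 := by
    intro x y h
    have e : f y * f x = f y * (f x * f y) * (f y)⁻¹ := by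
      rw [hinv]
      calc f y * f x = f y * f x * (f y * f y) := by rw [hf, mul_one]
        _ = f y * (f x * f y) * f y := by group
    rw [e, conj_pow, h, mul_one, mul_inv_cancel]
  exact ⟨key b a, key a b⟩

/-- the two alternating products agree iff the `k`-th power of the product is trivial -/
theorem altW_eq_iff (f : B → G) (hf : ∀ i, f i * f i = 1) (a b : B) (k : ℕ) :
    lprod f (altW a b k) = lprod f (altW b a k) ↔ (f a * f b) ^ k = 1 := by
  rw [← mul_inv_eq_one, altW_quot f hf]
  by_cases h : Even k
  · rw [if_pos h]
  · rw [if_neg h, pow_swap_eq_one f hf]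

end Basic

section Exch

variable {W : Type*} [Group W]

/-- the hypotheses of the exchange machinery of `WLen` -/
structure ExchSys (T : Set W) (Ps : W → Set W) : Prop where
  hT2 : ∀ t ∈ T, t * t = 1
  hgen : Subgroup.closure T = ⊤
  hA : ∀ s ∈ T, (1 : W) ∈ Ps s
  hB : ∀ s ∈ T, ∀ w, w ∈ Ps s → s * w ∉ Ps s
  hC : ∀ s ∈ T, ∀ s' ∈ T, ∀ w, w ∈ Ps s → w * s' ∉ Ps s → s * w = w * s'

variable {T : Set W} {Ps : W → Set W} (E : ExchSys T Ps) {B : Type*} {s : B → W}
  (hs : ∀ i, s i ∈ T)

/-- a word is reduced -/
def Red (T : Set W) (s : B → W) (ω : List B) : Prop := wlen T (lprod s ω) = ω.length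

include hs in
theorem wlen_lprod_le (ω : List B) : wlen T (lprod s ω) ≤ ω.length := by
  have := wlen_le (T := T) (w := lprod s ω) (L := ω.map s) (by
    intro x hx
    obtain ⟨i, _, rfl⟩ := List.mem_map.1 hx
    exact hs i) rfl
  rwa [List.length_map] at this

include E in
theorem wlen_mul_right_le {t : W} (ht : t ∈ T) (w : W) : wlen T (w * t) ≤ wlen T w + 1 := by
  obtain ⟨L, hL, hw, hlen⟩ := exists_reduced E.hT2 E.hgen w
  have := wlen_le (T := T) (w := w * t) (L := L ++ [t]) (by
    intro x hx
    rcases List.mem_append.1 hx with h | h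
    · exact hL x h
    · rw [List.mem_singleton] at h
      rw [h]
      exact ht) (by rw [List.prod_append, hw]; simp)
  rw [List.length_append, List.length_singleton, hlen] at this
  exact this

include E hs in
theorem red_tail {a : B} {ω : List B} (h : Red T s (a :: ω)) : Red T s ω := by
  unfold Red at h ⊢
  rw [lprod_cons, List.length_cons] at h
  have h1 := wlen_mul_le E.hT2 E.hgen (hs a) (lprod s ω)
  have h2 := wlen_lprod_le hs ω
  omega

include E hs in
theorem red_init {a : B} {ω : List B} (h : Red T s (ω ++ [a])) : Red T s ω := by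
  unfold Red at h ⊢
  rw [lprod_concat, List.length_append, List.length_singleton] at h
  have h1 := wlen_mul_right_le E (hs a) (lprod s ω)
  have h2 := wlen_lprod_le hs ω
  omega

include E hs in
theorem descent_of_red {a : B} {ω : List B} (h : Red T s (a :: ω)) :
    lprod s (a :: ω) ∉ Ps (s a) := by
  rw [not_mem_Ps_iff Ps E.hT2 E.hgen E.hA E.hB E.hC (hs a)]
  have h1 := red_tail E hs h
  unfold Red at h h1
  rw [h, lprod_cons, ← mul_assoc, E.hT2 _ (hs a), one_mul, h1, List.length_cons]

include E hs in
theorem exch_word (c : B) (ω : List B) (h : lprod s ω ∉ Ps (s c)) :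
    ∃ j, j < ω.length ∧ s c * lprod s ω = lprod s (ω.eraseIdx j) := by
  obtain ⟨j, hj, e⟩ := exchange Ps E.hT2 E.hA E.hC (hs c) (ω.map s) (by
    intro x hx
    obtain ⟨i, _, rfl⟩ := List.mem_map.1 hx
    exact hs i) h
  rw [List.length_map] at hj
  refine ⟨j, hj, ?_⟩
  rw [List.eraseIdx_map] at e
  exact e

omit E in
theorem red_of_length_eq {ω ω' : List B} (h : Red T s ω) (hl : ω'.length = ω.length)
    (hp : lprod s ω' = lprod s ω) : Red T s ω' := by
  unfold Red at h ⊢
  rw [hp, hl, h]

variable {Wb : Type*} [Group Wb] {σ : B → Wb} (hσ : ∀ i, σ i * σ i = 1)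
  (hbraid : ∀ a b : B, ∀ q : ℕ, (s a * s b) ^ q = 1 → (σ a * σ b) ^ q = 1)

include E hs hσ hbraid in
/-- Matsumoto's theorem for the map `σ` -/
theorem matsumoto (q : ℕ) : ∀ ω ω' : List B, ω.length = q → ω'.length = q → Red T s ω →
    Red T s ω' → lprod s ω = lprod s ω' → lprod σ ω = lprod σ ω' := by
  induction q using Nat.strong_induction_on with
  | _ q IH =>
  intro ω ω' hl hl' hr hr' hp
  -- same first letter
  have F1 : ∀ (c : B) (ρ₁ ρ₂ : List B), (c :: ρ₁).length = q → (c :: ρ₂).length = q →
      Red T s (c :: ρ₁) → Red T s (c :: ρ₂) → lprod s (c :: ρ₁) = lprod s (c :: ρ₂) →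
      lprod σ (c :: ρ₁) = lprod σ (c :: ρ₂) := by
    intro c ρ₁ ρ₂ h1 h2 r1 r2 hp'
    rw [List.length_cons] at h1 h2
    rw [lprod_cons, lprod_cons] at hp' ⊢
    rw [IH ρ₁.length (by omega) ρ₁ ρ₂ rfl (by omega) (red_tail E hs r1) (red_tail E hs r2)
      (mul_left_cancel hp')]
  -- same last letter
  have F2 : ∀ (z : B) (ρ₁ ρ₂ : List B), (ρ₁ ++ [z]).length = q → (ρ₂ ++ [z]).length = q →
      Red T s (ρ₁ ++ [z]) → Red T s (ρ₂ ++ [z]) → lprod s (ρ₁ ++ [z]) = lprod s (ρ₂ ++ [z]) →
      lprod σ (ρ₁ ++ [z]) = lprod σ (ρ₂ ++ [z]) := by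
    intro z ρ₁ ρ₂ h1 h2 r1 r2 hp'
    rw [List.length_append, List.length_singleton] at h1 h2
    rw [lprod_concat, lprod_concat] at hp' ⊢
    rw [IH ρ₁.length (by omega) ρ₁ ρ₂ rfl (by omega) (red_init E hs r1) (red_init E hs r2)
      (mul_right_cancel hp')]
  cases ω with
  | nil =>
    rw [List.length_nil] at hl
    rw [← hl] at hl'
    rw [List.eq_nil_of_length_eq_zero hl']
  | cons a ω₁ =>
  cases ω' with
  | nil =>
    rw [List.length_nil] at hl'
    rw [← hl', List.length_cons] at hl
    omega
  | cons b ω'₁ =>
  by_cases hab : a = b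
  · subst hab
    exact F1 a ω₁ ω'₁ hl hl' hr hr' hp
  -- the alternation argument
  set w := lprod s (a :: ω₁) with hw
  have hwlen : wlen T w = q := by
    unfold Red at hr
    rw [hr, hl]
  have hda : w ∉ Ps (s a) := descent_of_red E hs hr
  have hdb : w ∉ Ps (s b) := by
    rw [hp]
    exact descent_of_red E hs hr'
  have redw : ∀ ρ : List B, ρ.length = q → lprod s ρ = w → Red T s ρ := by
    intro ρ h1 h2
    unfold Red
    rw [h2, hwlen, h1]
  have Inv : ∀ k : ℕ, ∀ ρ τ : List B, a :: ω₁ = ρ ++ τ → τ.length = k →
      (lprod σ (a :: ω₁) = lprod σ (b :: ω'₁) ∨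
        (lprod s (altW a b k ++ ρ) = w ∧ lprod σ (altW a b k ++ ρ) =
          lprod σ (if Even k then a :: ω₁ else b :: ω'₁))) := by
    intro k
    induction k with
    | zero =>
      intro ρ τ h1 h2
      right
      rw [List.eq_nil_of_length_eq_zero h2, List.append_nil] at h1
      rw [← h1]
      refine ⟨?_, ?_⟩
      · show lprod s ([] ++ (a :: ω₁)) = w
        rw [List.nil_append]
      · show lprod σ ([] ++ (a :: ω₁)) = _
        rw [List.nil_append, if_pos Even.zero]
    | succ k ih =>
      intro ρ τ h1 h2
      cases τ with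
      | nil => simp at h2
      | cons z τ₀ =>
      rw [List.length_cons] at h2
      have h2' : τ₀.length = k := by omega
      have h1' : a :: ω₁ = (ρ ++ [z]) ++ τ₀ := by
        rw [h1, List.append_assoc, List.singleton_append]
      rcases ih (ρ ++ [z]) τ₀ h1' h2' with h | ⟨hX, hσX⟩
      · exact Or.inl h
      · -- the word `X ++ [z]`
        set X := altW a b k ++ ρ with hXdef
        rw [← List.append_assoc] at hX hσX
        have hlenX : (X ++ [z]).length = q := by
          have := congrArg List.length h1'
          rw [hXdef]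
          simp only [List.length_append, List.length_cons, List.length_nil, altW_length] at this ⊢
          rw [List.length_cons] at hl
          omega
        set c := if Even k then b else a with hc
        have hdc : w ∉ Ps (s c) := by
          rw [hc]
          split_ifs
          · exact hdb
          · exact hda
        -- comparison word starting with `c`
        have hcomp : ∀ ρ' : List B, (c :: ρ').length = q → lprod s (c :: ρ') = w →
            lprod σ (c :: ρ') = lprod σ (if Even k then b :: ω'₁ else a :: ω₁) := by
          intro ρ' h3 h4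
          by_cases hk : Even k
          · rw [if_pos hk]
            have hcb : c = b := by rw [hc, if_pos hk]
            rw [hcb] at h3 h4 ⊢
            exact F1 b ρ' ω'₁ h3 hl' (redw _ h3 h4) hr' (by rw [h4, hp])
          · rw [if_neg hk]
            have hca : c = a := by rw [hc, if_neg hk]
            rw [hca] at h3 h4 ⊢
            exact F1 a ρ' ω₁ h3 hl (redw _ h3 h4) hr (by rw [h4])
        have hXw := hX
        rw [← hX] at hdc
        obtain ⟨j, hj, e⟩ := exch_word E hs c (X ++ [z]) hdc
        have hlenX' : X.length + 1 = q := by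
          rw [List.length_append, List.length_singleton] at hlenX
          exact hlenX
        by_cases hjX : j < X.length
        · -- the erased letter is not the last one
          rw [List.eraseIdx_append_of_lt_length hjX] at e
          have hword : lprod s (c :: (X.eraseIdx j ++ [z])) = w := by
            rw [lprod_cons, ← e, ← mul_assoc, E.hT2 _ (hs c), one_mul, hXw]
          have hlen' : (c :: (X.eraseIdx j ++ [z])).length = q := by
            simp only [List.length_cons, List.length_append, List.length_nil,
              List.length_eraseIdx_of_lt hjX]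
            omega
          have h5 := hcomp _ hlen' hword
          have h6 : lprod σ ((c :: X.eraseIdx j) ++ [z]) = lprod σ (X ++ [z]) := by
            apply F2 z
            · rw [List.cons_append]; exact hlen'
            · exact hlenX
            · rw [List.cons_append]; exact redw _ hlen' hword
            · exact redw _ hlenX hXw
            · rw [List.cons_append, hword, hXw]
          rw [List.cons_append] at h6
          left
          have h7 := h5.symm.trans (h6.trans hσX)
          by_cases hk : Even k
          · rw [if_pos hk, if_pos hk] at h7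
            exact h7.symm
          · rw [if_neg hk, if_neg hk] at h7
            exact h7
        · -- the erased letter is the last one
          have hjeq : j = X.length := by
            rw [List.length_append, List.length_singleton] at hj
            omega
          rw [hjeq, List.eraseIdx_append_of_length_le (le_refl _), Nat.sub_self] at e
          simp only [List.eraseIdx_cons_zero, List.append_nil] at e
          have hword : lprod s (c :: X) = w := by
            rw [lprod_cons, ← e, ← mul_assoc, E.hT2 _ (hs c), one_mul, hXw]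
          have hlen' : (c :: X).length = q := by
            rw [List.length_cons]
            exact hlenX'
          right
          have e2 : altW a b (k + 1) ++ ρ = c :: X := by
            rw [altW, hXdef, hc, List.cons_append]
          rw [e2]
          refine ⟨hword, ?_⟩
          rw [hcomp X hlen' hword]
          by_cases hk : Even k
          · have hk' : ¬ Even (k + 1) := by
              rw [Nat.even_add_one]
              exact not_not.2 hk
            rw [if_pos hk, if_neg hk']
          · have hk' : Even (k + 1) := by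
              rw [Nat.even_add_one]
              exact hk
            rw [if_neg hk, if_pos hk']
  -- apply the invariant at the last two stages
  have hq : ω₁.length + 1 = q := by
    rw [List.length_cons] at hl
    exact hl
  rcases Inv (ω₁.length + 1) [] (a :: ω₁) rfl (by rw [List.length_cons]) with h | ⟨h1, h1σ⟩
  · exact h
  rcases Inv ω₁.length [a] ω₁ rfl rfl with h | ⟨h2, h2σ⟩
  · exact h
  rw [List.append_nil] at h1 h1σ
  rw [← altW_succ_eq_concat] at h2 h2σ
  have hpow : (s a * s b) ^ (ω₁.length + 1) = 1 := by
    rw [← altW_eq_iff s (fun i => E.hT2 _ (hs i)), h1, h2]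
  have hpowσ := hbraid a b _ hpow
  rw [← altW_eq_iff σ hσ] at hpowσ
  rw [h1σ, h2σ] at hpowσ
  by_cases hk : Even ω₁.length
  · have hk' : ¬ Even (ω₁.length + 1) := by
      rw [Nat.even_add_one]
      exact not_not.2 hk
    rw [if_neg hk', if_pos hk] at hpowσ
    exact hpowσ.symm
  · have hk' : Even (ω₁.length + 1) := by
      rw [Nat.even_add_one]
      exact hk
    rw [if_pos hk', if_neg hk] at hpowσ
    exact hpowσ

include E hs hσ hbraid in
/-- every word can be replaced by a reduced one, compatibly with `σ` -/
theorem exists_red_word (ω : List B) :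
    ∃ ρ : List B, Red T s ρ ∧ lprod s ρ = lprod s ω ∧ lprod σ ρ = lprod σ ω := by
  induction ω with
  | nil => exact ⟨[], by unfold Red; rw [lprod_nil, wlen_one, List.length_nil], rfl, rfl⟩
  | cons c ω₀ ih =>
    obtain ⟨ρ₀, hr, h1, h2⟩ := ih
    by_cases hmem : lprod s ρ₀ ∈ Ps (s c)
    · refine ⟨c :: ρ₀, ?_, ?_, ?_⟩
      · rw [mem_Ps_iff Ps E.hT2 E.hgen E.hA E.hB E.hC (hs c)] at hmem
        unfold Red at hr ⊢
        rw [lprod_cons, hmem, hr, List.length_cons]
      · rw [lprod_cons, lprod_cons, h1]
      · rw [lprod_cons, lprod_cons, h2]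
    · obtain ⟨j, hj, e⟩ := exch_word E hs c ρ₀ hmem
      have hword : lprod s (c :: ρ₀.eraseIdx j) = lprod s ρ₀ := by
        rw [lprod_cons, ← e, ← mul_assoc, E.hT2 _ (hs c), one_mul]
      have hlen : (c :: ρ₀.eraseIdx j).length = ρ₀.length := by
        rw [List.length_cons, List.length_eraseIdx_of_lt hj]
        omega
      have hr' : Red T s (c :: ρ₀.eraseIdx j) := red_of_length_eq hr hlen hword
      have hm := matsumoto E hs hσ hbraid ρ₀.length (c :: ρ₀.eraseIdx j) ρ₀ hlen rfl hr' hr hword
      refine ⟨ρ₀.eraseIdx j, red_tail E hs hr', ?_, ?_⟩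
      · rw [lprod_cons, ← h1, ← e]
      · rw [lprod_cons, ← h2, ← hm, lprod_cons, ← mul_assoc, hσ, one_mul]

end Exch

section Coxeter

variable {W : Type*} [Group W] {T : Set W} {Ps : W → Set W} {B : Type*}

/-- the matrix of orders of products of two generators -/
noncomputable def ordMatrix (s : B → W) (hs2 : ∀ i, s i * s i = 1) (hinj : Function.Injective s) :
    CoxeterMatrix B where
  M := fun i j => orderOf (s i * s j)
  isSymm := by
    ext i j
    show orderOf (s j * s i) = orderOf (s i * s j)
    have hinv : ∀ i, (s i)⁻¹ = s i := fun i => inv_eq_of_mul_eq_one_left (hs2 i)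
    have e : s j * s i = (s i * s j)⁻¹ := by rw [mul_inv_rev, hinv, hinv]
    rw [e, orderOf_inv]
  diagonal := by
    intro i
    show orderOf (s i * s i) = 1
    rw [hs2, orderOf_one]
  off_diagonal := by
    intro i j hij h
    have h' : orderOf (s i * s j) = 1 := h
    rw [orderOf_eq_one_iff] at h'
    have hinv : (s j)⁻¹ = s j := inv_eq_of_mul_eq_one_left (hs2 j)
    have : s i = s j := by rw [← hinv]; exact eq_inv_of_mul_eq_one_left h'
    exact hij (hinj this)

theorem ordMatrix_apply (s : B → W) (hs2 : ∀ i, s i * s i = 1) (hinj : Function.Injective s)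
    (i j : B) : ordMatrix s hs2 hinj i j = orderOf (s i * s j) := rfl

/-- a group with an exchange system indexed injectively by `B` is a Coxeter group -/
theorem coxeter_of_exch (E : ExchSys T Ps) (s : B → W) (hs : ∀ i, s i ∈ T)
    (hsurj : T ⊆ Set.range s) (hinj : Function.Injective s) :
    ∃ (M : CoxeterMatrix B) (cs : CoxeterSystem M W), ∀ i, cs.simple i = s i := by
  have hs2 : ∀ i, s i * s i = 1 := fun i => E.hT2 _ (hs i)
  set M := ordMatrix s hs2 hinj with hM
  have hlift : M.IsLiftable s := by
    intro i j
    rw [hM, ordMatrix_apply]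
    exact pow_orderOf_eq_one _
  set π : M.Group →* W := M.toCoxeterSystem.lift ⟨s, hlift⟩ with hπ
  set σ : B → M.Group := M.toCoxeterSystem.simple with hσdef
  have hπσ : ∀ i, π (σ i) = s i := fun i => M.toCoxeterSystem.lift_apply_simple hlift i
  have hσ2 : ∀ i, σ i * σ i = 1 := fun i => M.toCoxeterSystem.simple_mul_simple_self i
  have hbraid : ∀ a b : B, ∀ q : ℕ, (s a * s b) ^ q = 1 → (σ a * σ b) ^ q = 1 := by
    intro a b q h
    have hd : M a b ∣ q := by
      rw [hM, ordMatrix_apply]
      exact orderOf_dvd_of_pow_eq_one h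
    obtain ⟨k, rfl⟩ := hd
    rw [pow_mul, M.toCoxeterSystem.simple_mul_simple_pow, one_pow]
  have hπl : ∀ ω : List B, π (lprod σ ω) = lprod s ω := by
    intro ω
    induction ω with
    | nil => rw [lprod_nil, lprod_nil, map_one]
    | cons a ω ih => rw [lprod_cons, lprod_cons, map_mul, ih, hπσ]
  have hbij : Function.Bijective π := by
    constructor
    · rw [injective_iff_map_eq_one]
      intro g hg
      obtain ⟨ω, rfl⟩ := M.toCoxeterSystem.wordProd_surjective g
      obtain ⟨ρ, hr, h1, h2⟩ := exists_red_word E hs hσ2 hbraid ω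
      have e1 : M.toCoxeterSystem.wordProd ω = lprod σ ω := rfl
      rw [e1] at hg ⊢
      rw [hπl, ← h1] at hg
      unfold Red at hr
      rw [hg, wlen_one] at hr
      have : ρ = [] := List.eq_nil_of_length_eq_zero hr.symm
      rw [← h2, this, lprod_nil]
    · intro w
      obtain ⟨L, hL, hw⟩ := exists_word E.hT2 E.hgen w
      have : ∀ L : List W, (∀ x ∈ L, x ∈ T) → ∃ ω : List B, lprod s ω = L.prod := by
        intro L
        induction L with
        | nil => intro _; exact ⟨[], rfl⟩
        | cons x L ih =>
          intro hL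
          obtain ⟨ω, hω⟩ := ih (fun y hy => hL y (List.mem_cons_of_mem _ hy))
          obtain ⟨i, hi⟩ := hsurj (hL x List.mem_cons_self)
          exact ⟨i :: ω, by rw [lprod_cons, hω, hi, List.prod_cons]⟩
      obtain ⟨ω, hω⟩ := this L hL
      exact ⟨lprod σ ω, by rw [hπl, hω, hw]⟩
  refine ⟨M, M.toCoxeterSystem.map (MulEquiv.ofBijective π hbij), ?_⟩
  intro i
  rw [CoxeterSystem.map_simple]
  exact hπσ i

end Coxeter

end Cfsg.Agent.Lib.helper3
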