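import Mathlib
import Cfsg.Prelude.Def_LieExceptional
import Cfsg.Agent.Lib.helper3.WLen
import Cfsg.Agent.Lib.helper3.BNPair
import Cfsg.Agent.Lib.helper3.BNWeyl

set_option autoImplicit false

namespace Cfsg.Agent.Lib.helper3

open DoubleCoset Classical

variable {G : Type*} [Group G] (P : Cfsg.BNPair G)

def Pp (s n : G) : Prop := ∀ b ∈ P.B, s * b * n ∈ dc P (s * n)

def PsW (t : Weyl P) : Set (Weyl P) :=
  {w | ∃ s ∈ P.S, ∃ n ∈ P.N, projG P s = t ∧ projG P n = w ∧ Pp P s n}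

variable {P}

theorem Pp_congr {s n n' : G} (hn : n ∈ P.N) (hn' : n' ∈ P.N) (h : projG P n = projG P n')
    (hp : Pp P s n) : Pp P s n' := by
  have h' := (projG_eq_iff hn hn').1 h
  intro b hb
  have e1 : s * b * n' = (s * b * n) * (n⁻¹ * n') := by group
  have e2 : s * n' = (s * n) * (n⁻¹ * n') := by group
  rw [e1, e2, dc_mul_B h']
  exact dc_mul_right h' (hp b hb)

theorem mem_PsW_iff {s n : G} (hs : s ∈ P.S) (hn : n ∈ P.N) :
    projG P n ∈ PsW P (projG P s) ↔ Pp P s n := by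
  constructor
  · rintro ⟨s', hs', n', hn', e1, e2, hp⟩
    have := projG_inj_S hs' hs e1
    subst this
    exact Pp_congr hn' hn e2 hp
  · intro hp
    exact ⟨s, hs, n, hn, rfl, rfl, hp⟩

theorem PsW_A : ∀ t ∈ TW P, (1 : Weyl P) ∈ PsW P t := by
  rintro t ⟨s, hs, rfl⟩
  rw [← projG_one, mem_PsW_iff hs P.N.one_mem]
  intro b hb
  simp only [mul_one]
  exact dc_mul_right hb (dc_self s)

theorem dc_s_mul_ne {s n : G} (hs : s ∈ P.S) (hn : n ∈ P.N) : dc P (s * n) ≠ dc P n := by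
  intro h
  have := projG_eq_of_dc_eq (P.N.mul_mem (S_mem_N hs) hn) hn h
  rw [projG_mul (S_mem_N hs) hn] at this
  exact projG_S_ne_one hs (mul_eq_right.1 this)

theorem PsW_B : ∀ t ∈ TW P, ∀ w, w ∈ PsW P t → t * w ∉ PsW P t := by
  rintro t ⟨s, hs, rfl⟩ w hw hw'
  obtain ⟨n, hn, rfl⟩ := projG_surj w
  have hsN := S_mem_N hs
  rw [mem_PsW_iff hs hn] at hw
  rw [← projG_mul hsN hn, mem_PsW_iff hs (P.N.mul_mem hsN hn)] at hw'
  obtain ⟨b₀, hb₀, hnot⟩ := exists_not_mem_B hs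
  have h1 := t3 hs hsN hb₀
  rcases h1 with h1 | h1
  · rw [dc_of_mem_B (P.sq_mem s hs)] at h1
    exact hnot h1
  · obtain ⟨b₁, h₁, b₂, h₂, e⟩ := mem_dc.1 h1
    have h2 : s * b₀ * (s * n) ∈ dc P (s * (s * n)) := hw' b₀ hb₀
    have e2 : s * b₀ * (s * n) = b₁ * (s * b₂ * n) := by
      have : s * b₀ * (s * n) = (s * b₀ * s) * n := by group
      rw [this, e]; group
    have h3 : s * b₀ * (s * n) ∈ dc P (s * n) := by
      rw [e2]; exact dc_mul_left h₁ (hw b₂ h₂)
    have h4 : dc P (s * (s * n)) = dc P (s * n) := by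
      rw [← dc_eq_of_mem h2, dc_eq_of_mem h3]
    exact dc_s_mul_ne hs (P.N.mul_mem hsN hn) h4

theorem PsW_C : ∀ s ∈ TW P, ∀ s' ∈ TW P, ∀ w, w ∈ PsW P s → w * s' ∉ PsW P s → s * w = w * s' := by
  rintro t ⟨s, hs, rfl⟩ t' ⟨s', hs', rfl⟩ w hw hw'
  obtain ⟨n, hn, rfl⟩ := projG_surj w
  have hsN := S_mem_N hs
  have hsN' := S_mem_N hs'
  rw [mem_PsW_iff hs hn] at hw
  rw [← projG_mul hn hsN', mem_PsW_iff hs (P.N.mul_mem hn hsN')] at hw'
  unfold Pp at hw'
  push Not at hw'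
  obtain ⟨b, hb, hnot⟩ := hw'
  have h1 := t3 hs (P.N.mul_mem hn hsN') hb
  rcases h1 with h1 | h1
  · exact absurd h1 hnot
  · obtain ⟨b₁, h₁, b₂, h₂, e⟩ := mem_dc.1 h1
    have e2 : s * b * n = b₁ * ((n * s') * b₂ * s'⁻¹) := by
      have : s * b * n = (s * b * (n * s')) * s'⁻¹ := by group
      rw [this, e]; group
    have h2 := t3_right_inv hs' (P.N.mul_mem hn hsN') h₂
    have e3 : n * s' * s'⁻¹ = n := by group
    rw [e3] at h2
    have h3 : s * b * n ∈ dc P (s * n) := hw b hb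
    rw [← projG_mul hsN hn, ← projG_mul hn hsN']
    rcases h2 with h2 | h2
    · exfalso
      have h4 : s * b * n ∈ dc P n := by rw [e2]; exact dc_mul_left h₁ h2
      have : dc P (s * n) = dc P n := by rw [← dc_eq_of_mem h3, dc_eq_of_mem h4]
      exact dc_s_mul_ne hs hn this
    · have h4 : s * b * n ∈ dc P (n * s') := by rw [e2]; exact dc_mul_left h₁ h2
      have : dc P (s * n) = dc P (n * s') := by rw [← dc_eq_of_mem h3, dc_eq_of_mem h4]
      exact projG_eq_of_dc_eq (P.N.mul_mem hsN hn) (P.N.mul_mem hn hsN') this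

theorem Pp_iff_len {s n : G} (hs : s ∈ P.S) (hn : n ∈ P.N) :
    Pp P s n ↔ lenN P (s * n) = lenN P n + 1 := by
  rw [← mem_PsW_iff hs hn, mem_Ps_iff (PsW P) TW_sq TW_closure PsW_A PsW_B PsW_C ⟨s, hs, rfl⟩]
  unfold lenN
  rw [projG_mul (S_mem_N hs) hn]

theorem not_Pp_iff_len {s n : G} (hs : s ∈ P.S) (hn : n ∈ P.N) :
    ¬ Pp P s n ↔ lenN P (s * n) + 1 = lenN P n := by
  rw [← mem_PsW_iff hs hn, not_mem_Ps_iff (PsW P) TW_sq TW_closure PsW_A PsW_B PsW_C ⟨s, hs, rfl⟩]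
  unfold lenN
  rw [projG_mul (S_mem_N hs) hn]

/-- if `ℓ(s n) < ℓ(n)` then `s B n` meets `B n B`. -/
theorem exists_mem_dc_of_len_lt {s n : G} (hs : s ∈ P.S) (hn : n ∈ P.N)
    (h : lenN P (s * n) + 1 = lenN P n) : ∃ b ∈ P.B, s * b * n ∈ dc P n := by
  have := (not_Pp_iff_len hs hn).2 h
  unfold Pp at this
  push Not at this
  obtain ⟨b, hb, hnot⟩ := this
  refine ⟨b, hb, ?_⟩
  rcases t3 hs hn hb with h1 | h1
  · exact absurd h1 hnot
  · exact h1

theorem conj_le_of_mem {M : Subgroup G} {n : G} (hn : n ∈ M) : M.map (MulAut.conj n).toMonoidHom ≤ M := by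
  rintro x ⟨y, hy, rfl⟩
  simp only [MulEquiv.coe_toMonoidHom, MulAut.conj_apply]
  exact M.mul_mem (M.mul_mem hn hy) (M.inv_mem hn)

/-- Lemma 2: letters of a reduced word of `n` lie in `⟨B, n B n⁻¹⟩`. -/
theorem letters_mem_sup : ∀ (L : List G), (∀ s ∈ L, s ∈ P.S) → ∀ n ∈ P.N,
    projG P L.prod = projG P n → L.length = lenN P n →
    ∀ s ∈ L, s ∈ P.B ⊔ P.B.map (MulAut.conj n).toMonoidHom := by
  intro L
  induction L with
  | nil => intro _ n _ _ _ s hs; simp at hs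
  | cons s₁ L' ih =>
    intro hL n hn hp hlen
    have hs₁ : s₁ ∈ P.S := hL s₁ List.mem_cons_self
    have hs₁N := S_mem_N hs₁
    have hL' : ∀ s ∈ L', s ∈ P.S := fun s hs => hL s (List.mem_cons_of_mem _ hs)
    have hL'N := list_prod_mem_N hL'
    rw [List.prod_cons, projG_mul hs₁N hL'N] at hp
    set u := s₁⁻¹ * n with hu
    have huN : u ∈ P.N := P.N.mul_mem (P.N.inv_mem hs₁N) hn
    have hpu : projG P L'.prod = projG P u := by
      rw [hu, projG_mul (P.N.inv_mem hs₁N) hn, projG_inv hs₁N, ← hp]; group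
    have hsu : projG P (s₁ * n) = projG P u := by
      rw [hu, projG_mul hs₁N hn, projG_mul (P.N.inv_mem hs₁N) hn, projG_sinv hs₁]
    have hlu1 : lenN P u ≤ L'.length := by
      unfold lenN
      rw [← hpu, projG_list_prod hL']
      have := wlen_le (T := TW P) (w := (L'.map (projG P)).prod) (L := L'.map (projG P))
        (by intro x hx; obtain ⟨s, hs, rfl⟩ := List.mem_map.1 hx; exact ⟨s, hL' s hs, rfl⟩) rfl
      simpa using this
    have hlu2 : lenN P n ≤ lenN P u + 1 := by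
      have : projG P n = projG P s₁ * projG P u := by rw [← hp, hpu]
      unfold lenN
      rw [this]
      exact wlen_mul_le TW_sq TW_closure ⟨s₁, hs₁, rfl⟩ _
    have hlen' : L'.length + 1 = lenN P n := by simpa using hlen
    have hlu : L'.length = lenN P u := by omega
    have hlsn : lenN P (s₁ * n) + 1 = lenN P n := by
      have : lenN P (s₁ * n) = lenN P u := by unfold lenN; rw [hsu]
      omega
    obtain ⟨b, hb, hmem⟩ := exists_mem_dc_of_len_lt hs₁ hn hlsn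
    obtain ⟨b₁, h₁, b₂, h₂, e⟩ := mem_dc.1 hmem
    set M := P.B ⊔ P.B.map (MulAut.conj n).toMonoidHom with hM
    have hBM : P.B ≤ M := le_sup_left
    have hcM : ∀ x ∈ P.B, n * x * n⁻¹ ∈ M := fun x hx =>
      (le_sup_right : P.B.map (MulAut.conj n).toMonoidHom ≤ M) ⟨x, hx, by simp⟩
    have hs₁M : s₁ ∈ M := by
      have : s₁ = b₁ * (n * b₂ * n⁻¹) * b⁻¹ := by
        have : s₁ = (s₁ * b * n) * n⁻¹ * b⁻¹ := by group
        rw [this, e]; group
      rw [this]
      exact M.mul_mem (M.mul_mem (hBM h₁) (hcM b₂ h₂)) (M.inv_mem (hBM hb))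
    intro s hs
    rcases List.mem_cons.1 hs with rfl | hs
    · exact hs₁M
    · have := ih hL' u huN hpu hlu s hs
      have hle : P.B ⊔ P.B.map (MulAut.conj u).toMonoidHom ≤ M := by
        apply sup_le hBM
        rintro x ⟨y, hy, rfl⟩
        simp only [MulEquiv.coe_toMonoidHom, MulAut.conj_apply]
        have : u * y * u⁻¹ = s₁⁻¹ * (n * y * n⁻¹) * s₁ := by rw [hu]; group
        rw [this]
        exact M.mul_mem (M.mul_mem (M.inv_mem hs₁M) (hcM y hy)) hs₁M
      exact hle this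

theorem mem_sup_conj {n : G} (hn : n ∈ P.N) : n ∈ P.B ⊔ P.B.map (MulAut.conj n).toMonoidHom := by
  obtain ⟨L, hL, hp, hlen⟩ := exists_reduced_word hn
  have hmem := letters_mem_sup L hL n hn hp hlen
  have h1 : L.prod ∈ P.B ⊔ P.B.map (MulAut.conj n).toMonoidHom := Subgroup.list_prod_mem _ hmem
  have h2 := (projG_eq_iff (list_prod_mem_N hL) hn).1 hp
  have h3 : L.prod * (L.prod⁻¹ * n) ∈ P.B ⊔ P.B.map (MulAut.conj n).toMonoidHom :=
    Subgroup.mul_mem _ h1 ((le_sup_left : P.B ≤ _) h2)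
  have : L.prod * (L.prod⁻¹ * n) = n := by group
  rwa [this] at h3

/-- letters of a reduced word for `n ∈ N ∩ M` lie in `M`, for every subgroup `M ≥ B`. -/
theorem letters_mem_of_mem {M : Subgroup G} (hM : P.B ≤ M) {n : G} (hn : n ∈ P.N) (hnM : n ∈ M)
    {L : List G} (hL : ∀ s ∈ L, s ∈ P.S) (hp : projG P L.prod = projG P n)
    (hlen : L.length = lenN P n) : ∀ s ∈ L, s ∈ M := by
  intro s hs
  have := letters_mem_sup L hL n hn hp hlen s hs
  exact (sup_le hM (le_trans (Subgroup.map_mono hM) (conj_le_of_mem hnM))) this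

/-- Every subgroup containing `B` is parabolic. -/
theorem eq_parabolic_of_le {M : Subgroup G} (hM : P.B ≤ M) :
    M = P.parabolic {s | s ∈ P.S ∧ s ∈ M} := by
  apply le_antisymm
  · intro g hg
    obtain ⟨n, hn, hgn⟩ := bruhat (P := P) g
    have hnM : n ∈ M := dc_subset_of_mem hM hgn hg
    obtain ⟨L, hL, hp, hlen⟩ := exists_reduced_word hn
    have hLM := letters_mem_of_mem hM hn hnM hL hp hlen
    have h1 : L.prod ∈ Subgroup.closure {s | s ∈ P.S ∧ s ∈ M} :=
      Subgroup.list_prod_mem _ (fun s hs => Subgroup.subset_closure ⟨hL s hs, hLM s hs⟩)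
    have h2 := (projG_eq_iff (list_prod_mem_N hL) hn).1 hp
    have hnP : n ∈ P.parabolic {s | s ∈ P.S ∧ s ∈ M} := by
      have : n = L.prod * (L.prod⁻¹ * n) := by group
      rw [this]
      exact Subgroup.mul_mem _ ((le_sup_right : Subgroup.closure _ ≤ P.parabolic _) h1)
        ((le_sup_left : P.B ≤ P.parabolic _) h2)
    exact mem_of_mem_dc (le_sup_left : P.B ≤ P.parabolic _) hgn hnP
  · apply sup_le hM
    rw [Subgroup.closure_le]
    exact fun s hs => hs.2

/-- Lemma K: a distinguished generator in `P_J` belongs to `J`. -/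
theorem mem_of_mem_parabolic {J : Set G} (hJ : J ⊆ P.S) {s : G} (hs : s ∈ P.S)
    (h : s ∈ P.parabolic J) : s ∈ J := by
  obtain ⟨n, hn, hsn⟩ := (mem_parabolic_iff hJ s).1 h
  have hnN := closure_S_le_N hJ hn
  have e : projG P s = projG P n := projG_eq_of_dc_eq (S_mem_N hs) hnN (dc_eq_of_mem hsn)
  have hcl := projG_mem_closure_image hJ hn
  have hJT : projG P '' J ⊆ TW P := Set.image_mono hJ
  obtain ⟨Lw, hLw, hp, hlen⟩ := exists_reduced_of_closure (PsW P) TW_sq TW_closure PsW_A PsW_B PsW_C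
    hJT hcl
  rw [← e, wlen_of_mem TW_sq TW_closure ⟨s, hs, rfl⟩ (projG_S_ne_one hs)] at hlen
  match Lw, hLw, hp, hlen with
  | [t], hLw, hp, _ =>
    obtain ⟨j, hj, hjt⟩ := hLw t (by simp)
    simp at hp
    rw [← hjt, ← e] at hp
    have := projG_inj_S (hJ hj) hs hp
    exact this ▸ hj

theorem parabolic_mono {J K : Set G} (h : J ⊆ K) : P.parabolic J ≤ P.parabolic K :=
  sup_le_sup_left (Subgroup.closure_mono h) _

theorem parabolic_le_iff {J K : Set G} (hJ : J ⊆ P.S) (hK : K ⊆ P.S) :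
    P.parabolic J ≤ P.parabolic K ↔ J ⊆ K := by
  constructor
  · intro h s hs
    exact mem_of_mem_parabolic hK (hJ hs)
      (h ((le_sup_right : Subgroup.closure J ≤ P.parabolic J) (Subgroup.subset_closure hs)))
  · exact parabolic_mono

theorem parabolic_injective {J K : Set G} (hJ : J ⊆ P.S) (hK : K ⊆ P.S)
    (h : P.parabolic J = P.parabolic K) : J = K :=
  Set.Subset.antisymm ((parabolic_le_iff hJ hK).1 h.le) ((parabolic_le_iff hK hJ).1 h.ge)

theorem parabolic_inf {J K : Set G} (hJ : J ⊆ P.S) (hK : K ⊆ P.S) :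
    P.parabolic J ⊓ P.parabolic K = P.parabolic (J ∩ K) := by
  apply le_antisymm
  · have hM : P.B ≤ P.parabolic J ⊓ P.parabolic K := le_inf le_sup_left le_sup_left
    rw [eq_parabolic_of_le hM]
    apply parabolic_mono
    rintro s ⟨hs, hsM⟩
    exact ⟨mem_of_mem_parabolic hJ hs hsM.1, mem_of_mem_parabolic hK hs hsM.2⟩
  · exact le_inf (parabolic_mono Set.inter_subset_left) (parabolic_mono Set.inter_subset_right)

theorem sup_closure_eq_sup_conj {n : G} (hn : n ∈ P.N) :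
    P.B ⊔ Subgroup.closure {n} = P.B ⊔ P.B.map (MulAut.conj n).toMonoidHom := by
  apply le_antisymm
  · apply sup_le le_sup_left
    rw [Subgroup.closure_le]
    intro x hx
    rw [Set.mem_singleton_iff] at hx
    rw [hx]
    exact mem_sup_conj hn
  · apply sup_le le_sup_left
    have hnM : n ∈ P.B ⊔ Subgroup.closure {n} :=
      (le_sup_right : Subgroup.closure {n} ≤ _) (Subgroup.subset_closure rfl)
    exact le_trans (Subgroup.map_mono le_sup_left) (conj_le_of_mem hnM)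

/-- Bourbaki Thm 4: if `g P_J g⁻¹ ≤ M` for a subgroup `M ≥ B`, then `g ∈ M`. -/
theorem mem_of_conj_le {M : Subgroup G} (hM : P.B ≤ M) {g : G}
    (h : P.B.map (MulAut.conj g).toMonoidHom ≤ M) : g ∈ M := by
  obtain ⟨n, hn, hgn⟩ := bruhat (P := P) g
  obtain ⟨b₁, h₁, b₂, h₂, rfl⟩ := mem_dc.1 hgn
  have hnM : n ∈ M := by
    have h1 : P.B.map (MulAut.conj n).toMonoidHom ≤ M := by
      rintro x ⟨y, hy, rfl⟩
      simp only [MulEquiv.coe_toMonoidHom, MulAut.conj_apply]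
      have hmem : (b₁ * n * b₂) * (b₂⁻¹ * y * b₂) * (b₁ * n * b₂)⁻¹ ∈ M :=
        h ⟨b₂⁻¹ * y * b₂, P.B.mul_mem (P.B.mul_mem (P.B.inv_mem h₂) hy) h₂, by
          simp only [MulEquiv.coe_toMonoidHom, MulAut.conj_apply]⟩
      have e : n * y * n⁻¹ = b₁⁻¹ * ((b₁ * n * b₂) * (b₂⁻¹ * y * b₂) * (b₁ * n * b₂)⁻¹) * b₁ := by group
      rw [e]
      exact M.mul_mem (M.mul_mem (M.inv_mem (hM h₁)) hmem) (hM h₁)
    exact (sup_le hM h1) (mem_sup_conj hn)
  exact M.mul_mem (M.mul_mem (hM h₁) hnM) (hM h₂)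

end Cfsg.Agent.Lib.helper3
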