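import Mathlib
import Cfsg.Agent.Lib.Helper5.UNI.Defs
import Cfsg.Agent.Lib.helper3.BNLen

/-!
Project UNI, row A1: the (B,N)-pair of a standard parabolic subgroup.
-/

set_option autoImplicit false

namespace Cfsg.Agent.Lib.Helper5.UNI

open Cfsg.Agent.Lib.helper3 DoubleCoset

variable {G : Type*} [Group G]

theorem unia1_closure_le (P : Cfsg.BNPair G) (J : Set G) :
    Subgroup.closure J ≤ P.parabolic J := le_sup_right

theorem unia1_B_le (P : Cfsg.BNPair G) (J : Set G) : P.B ≤ P.parabolic J := le_sup_left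

theorem unia1_subN_le (P : Cfsg.BNPair G) (J : Set G) : subN P J ≤ P.parabolic J :=
  sup_le (unia1_closure_le P J) (le_trans inf_le_left (unia1_B_le P J))

theorem unia1_subN_le_N (P : Cfsg.BNPair G) (J : Set G) (hJ : J ⊆ P.S) : subN P J ≤ P.N :=
  sup_le (closure_S_le_N hJ) inf_le_right

theorem unia1_image (P : Cfsg.BNPair G) (J : Set G) :
    (P.parabolic J).subtype '' {s : ↥(P.parabolic J) | (s : G) ∈ J} = J := by
  ext x
  constructor
  · rintro ⟨s, hs, rfl⟩; exact hs
  · intro hx
    exact ⟨⟨x, unia1_closure_le P J (Subgroup.subset_closure hx)⟩, hx, rfl⟩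

/-- A1: the (B,N)-pair of a standard parabolic subgroup -/
theorem sub_bnpair (P : Cfsg.BNPair G) (J : Set G) (hJ : J ⊆ P.S) :
    ∃ P' : Cfsg.BNPair ↥(P.parabolic J),
      P'.B = P.B.subgroupOf (P.parabolic J) ∧
      P'.N = (subN P J).subgroupOf (P.parabolic J) ∧
      P'.S = {s : ↥(P.parabolic J) | (s : G) ∈ J} := by
  have hinj := Subgroup.map_injective (P.parabolic J).subtype_injective
  refine ⟨{ B := P.B.subgroupOf (P.parabolic J)
            N := (subN P J).subgroupOf (P.parabolic J)
            S := {s : ↥(P.parabolic J) | (s : G) ∈ J}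
            sup_eq_top := ?_
            conj_mem := ?_
            subset := ?_
            sq_mem := ?_
            inj := ?_
            closure_sup := ?_
            mul_mem_union := ?_
            conj_ne := ?_ }, rfl, rfl, rfl⟩
  · apply hinj
    rw [Subgroup.map_sup, Subgroup.subgroupOf_map_subtype, Subgroup.subgroupOf_map_subtype,
      inf_of_le_left (unia1_B_le P J), inf_of_le_left (unia1_subN_le P J),
      ← MonoidHom.range_eq_map, Subgroup.range_subtype]
    apply le_antisymm (sup_le (unia1_B_le P J) (unia1_subN_le P J))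
    exact sup_le le_sup_left (le_trans (le_sup_left : Subgroup.closure J ≤ subN P J) le_sup_right)
  · intro n hn t ht
    rw [Subgroup.mem_subgroupOf] at hn
    rw [Subgroup.mem_inf, Subgroup.mem_subgroupOf, Subgroup.mem_subgroupOf] at ht
    rw [Subgroup.mem_subgroupOf]
    simpa using P.conj_mem (n : G) (unia1_subN_le_N P J hJ hn) (t : G)
      ⟨ht.1, unia1_subN_le_N P J hJ ht.2⟩
  · intro s hs
    rw [SetLike.mem_coe, Subgroup.mem_subgroupOf]
    exact (le_sup_left : Subgroup.closure J ≤ subN P J) (Subgroup.subset_closure hs)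
  · intro s hs
    rw [Subgroup.mem_subgroupOf]
    simpa using P.sq_mem (s : G) (hJ hs)
  · intro s hs s' hs' h
    rw [Subgroup.mem_subgroupOf] at h
    apply Subtype.ext
    exact P.inj (s : G) (hJ hs) (s' : G) (hJ hs') (by simpa using h)
  · apply hinj
    have e : P.B.subgroupOf (P.parabolic J) ⊓ (subN P J).subgroupOf (P.parabolic J) =
        (P.B ⊓ subN P J).subgroupOf (P.parabolic J) := by
      ext x; simp [Subgroup.mem_subgroupOf]
    rw [Subgroup.map_sup, MonoidHom.map_closure, unia1_image, e,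
      Subgroup.subgroupOf_map_subtype, Subgroup.subgroupOf_map_subtype,
      inf_of_le_left (unia1_subN_le P J),
      inf_of_le_left (le_trans inf_le_left (unia1_B_le P J))]
    apply le_antisymm
    · exact sup_le le_sup_left inf_le_right
    · exact sup_le le_sup_left
        (le_trans (le_inf inf_le_left (le_sup_right : P.B ⊓ P.N ≤ subN P J)) le_sup_right)
  · intro s hs n hn b hb
    rw [Subgroup.mem_subgroupOf] at hn hb
    have key := P.mul_mem_union (s : G) (hJ hs) (n : G) (unia1_subN_le_N P J hJ hn) (b : G) hb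
    rcases key with h | h
    · left
      rw [mem_doubleCoset] at h ⊢
      obtain ⟨b₁, h₁, b₂, h₂, e⟩ := h
      refine ⟨⟨b₁, unia1_B_le P J h₁⟩, ?_, ⟨b₂, unia1_B_le P J h₂⟩, ?_, ?_⟩
      · rw [SetLike.mem_coe, Subgroup.mem_subgroupOf]; exact h₁
      · rw [SetLike.mem_coe, Subgroup.mem_subgroupOf]; exact h₂
      · apply Subtype.ext; simpa using e
    · right
      rw [mem_doubleCoset] at h ⊢
      obtain ⟨b₁, h₁, b₂, h₂, e⟩ := h
      refine ⟨⟨b₁, unia1_B_le P J h₁⟩, ?_, ⟨b₂, unia1_B_le P J h₂⟩, ?_, ?_⟩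
      · rw [SetLike.mem_coe, Subgroup.mem_subgroupOf]; exact h₁
      · rw [SetLike.mem_coe, Subgroup.mem_subgroupOf]; exact h₂
      · apply Subtype.ext; simpa using e
  · intro s hs heq
    apply P.conj_ne (s : G) (hJ hs)
    ext x
    constructor
    · rintro ⟨b, hb, rfl⟩
      have hb' : (⟨b, unia1_B_le P J hb⟩ : ↥(P.parabolic J)) ∈
          ((P.B.subgroupOf (P.parabolic J) : Subgroup ↥(P.parabolic J)) : Set ↥(P.parabolic J)) := by
        rw [SetLike.mem_coe, Subgroup.mem_subgroupOf]; exact hb
      have : s * ⟨b, unia1_B_le P J hb⟩ * s ∈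
          ((P.B.subgroupOf (P.parabolic J) : Subgroup ↥(P.parabolic J)) : Set ↥(P.parabolic J)) := by
        rw [← heq]; exact ⟨_, hb', rfl⟩
      rw [SetLike.mem_coe, Subgroup.mem_subgroupOf] at this
      simpa using this
    · intro hx
      have hx' : (⟨x, unia1_B_le P J hx⟩ : ↥(P.parabolic J)) ∈
          ((P.B.subgroupOf (P.parabolic J) : Subgroup ↥(P.parabolic J)) : Set ↥(P.parabolic J)) := by
        rw [SetLike.mem_coe, Subgroup.mem_subgroupOf]; exact hx
      rw [← heq] at hx'
      obtain ⟨b, hb, e⟩ := hx'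
      rw [SetLike.mem_coe, Subgroup.mem_subgroupOf] at hb
      refine ⟨(b : G), hb, ?_⟩
      have := congrArg (fun y : ↥(P.parabolic J) => (y : G)) e
      simpa using this

end Cfsg.Agent.Lib.Helper5.UNI
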