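import Mathlib
import Cfsg.Agent.Lib.Helper5.UNI.Defs
import Cfsg.Agent.Lib.helper3.BNLen

/-!
Project UNI, row A2: the standard parabolic subgroups of the (B,N)-pair of `P_J`.
-/

set_option autoImplicit false

namespace Cfsg.Agent.Lib.Helper5.UNI

open Cfsg.Agent.Lib.helper3

variable {G : Type*} [Group G]

theorem unia2_image (P : Cfsg.BNPair G) (J K : Set G) (hKJ : K ⊆ J) :
    (P.parabolic J).subtype '' {s : ↥(P.parabolic J) | (s : G) ∈ K} = K := by
  ext x
  constructor
  · rintro ⟨s, hs, rfl⟩; exact hs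
  · intro hx
    exact ⟨⟨x, (le_sup_right : Subgroup.closure J ≤ P.parabolic J)
      (Subgroup.subset_closure (hKJ hx))⟩, hx, rfl⟩

/-- A2: the standard parabolic subgroups of the (B,N)-pair of `P_J` are the `P_K`, `K ⊆ J` -/
theorem sub_parabolic (P : Cfsg.BNPair G) (J K : Set G) (hKJ : K ⊆ J)
    (P' : Cfsg.BNPair ↥(P.parabolic J)) (hB' : P'.B = P.B.subgroupOf (P.parabolic J)) :
    P'.parabolic {s : ↥(P.parabolic J) | (s : G) ∈ K} =
      (P.parabolic K).subgroupOf (P.parabolic J) := by
  apply Subgroup.map_injective (P.parabolic J).subtype_injective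
  have hle : P.parabolic K ≤ P.parabolic J := parabolic_mono hKJ
  have hBle : P.B ≤ P.parabolic J := le_sup_left
  have e1 : P'.parabolic {s : ↥(P.parabolic J) | (s : G) ∈ K} =
      P'.B ⊔ Subgroup.closure {s : ↥(P.parabolic J) | (s : G) ∈ K} := rfl
  rw [e1, hB', Subgroup.map_sup, MonoidHom.map_closure, unia2_image P J K hKJ,
    Subgroup.subgroupOf_map_subtype, Subgroup.subgroupOf_map_subtype,
    inf_of_le_left hle, inf_of_le_left hBle]
  rfl

end Cfsg.Agent.Lib.Helper5.UNI
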