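import Mathlib
import Cfsg.Agent.Lib.Helper5.UNI.Defs
import Cfsg.Agent.Lib.helper3.BNLen

/-!
Project UNI, row A3: `Pp` for the (B,N)-pair of `P_J` is `Pp` in `G`.
-/

set_option autoImplicit false

namespace Cfsg.Agent.Lib.Helper5.UNI

open Cfsg.Agent.Lib.helper3

variable {G : Type*} [Group G]

/-- A3: `Pp` for the (B,N)-pair of `P_J` is `Pp` in `G` -/
theorem sub_Pp (P : Cfsg.BNPair G) (J : Set G)
    (P' : Cfsg.BNPair ↥(P.parabolic J)) (hB' : P'.B = P.B.subgroupOf (P.parabolic J))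
    (s m : ↥(P.parabolic J)) : Pp P' s m ↔ Pp P (s : G) (m : G) := by
  have hBle : P.B ≤ P.parabolic J := le_sup_left
  constructor
  · intro h b hb
    have hb' : (⟨b, hBle hb⟩ : ↥(P.parabolic J)) ∈ P'.B := by
      rw [hB', Subgroup.mem_subgroupOf]; exact hb
    obtain ⟨b₁, h₁, b₂, h₂, e⟩ := mem_dc.1 (h _ hb')
    rw [hB', Subgroup.mem_subgroupOf] at h₁ h₂
    refine mem_dc.2 ⟨(b₁ : G), h₁, (b₂ : G), h₂, ?_⟩
    have := congrArg (fun y : ↥(P.parabolic J) => (y : G)) e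
    simpa using this
  · intro h b hb
    rw [hB', Subgroup.mem_subgroupOf] at hb
    obtain ⟨b₁, h₁, b₂, h₂, e⟩ := mem_dc.1 (h _ hb)
    refine mem_dc.2 ⟨⟨b₁, hBle h₁⟩, ?_, ⟨b₂, hBle h₂⟩, ?_, ?_⟩
    · rw [hB', Subgroup.mem_subgroupOf]; exact h₁
    · rw [hB', Subgroup.mem_subgroupOf]; exact h₂
    · apply Subtype.ext; simpa using e

end Cfsg.Agent.Lib.Helper5.UNI
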