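import Mathlib
import Cfsg.Agent.Lib.Helper27.AltFus.Defs

set_option autoImplicit false

/-! Project AltFus (S5165), piece E0 : basic calculus in the model for `p = 2` (helper3). -/

namespace Cfsg.Agent.Lib.helper3.AltFus

open Cfsg.Agent.Lib.Helper27.AltFus Equiv

section calcs

variable (k s1 r : ℕ)

theorem dd_apply_inl (ε : Fin k → ZMod 2) (δ : Fin k → ZMod 2 → ZMod 2) (η : Fin s1 → ZMod 2)
    (j : Fin k) (u x : ZMod 2) :
    dd k s1 r ε δ η (Sum.inl (j, (u, x))) = Sum.inl (j, (u + ε j, x + δ j u)) := rfl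

theorem dd_apply_inr_inl (ε : Fin k → ZMod 2) (δ : Fin k → ZMod 2 → ZMod 2) (η : Fin s1 → ZMod 2)
    (i : Fin s1) (x : ZMod 2) :
    dd k s1 r ε δ η (Sum.inr (Sum.inl (i, x))) = Sum.inr (Sum.inl (i, x + η i)) := rfl

theorem dd_apply_inr_inr (ε : Fin k → ZMod 2) (δ : Fin k → ZMod 2 → ZMod 2) (η : Fin s1 → ZMod 2)
    (t : Fin r) :
    dd k s1 r ε δ η (Sum.inr (Sum.inr t)) = Sum.inr (Sum.inr t) := rfl

theorem dd_mul (ε ε' : Fin k → ZMod 2) (δ δ' : Fin k → ZMod 2 → ZMod 2) (η η' : Fin s1 → ZMod 2) :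
    dd k s1 r ε δ η * dd k s1 r ε' δ' η' =
      dd k s1 r (ε' + ε) (fun j u => δ' j u + δ j (u + ε' j)) (η' + η) := by
  ext q
  rcases q with ⟨j, u, x⟩ | ⟨i, x⟩ | t
  · rw [Perm.mul_apply, dd_apply_inl, dd_apply_inl, dd_apply_inl]
    simp only [Pi.add_apply, add_assoc]
  · rw [Perm.mul_apply, dd_apply_inr_inl, dd_apply_inr_inl, dd_apply_inr_inl]
    simp only [Pi.add_apply, add_assoc]
  · rfl

theorem dd_zero : dd k s1 r 0 0 0 = 1 := by
  ext q
  rcases q with ⟨j, u, x⟩ | ⟨i, x⟩ | t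
  · rw [dd_apply_inl]; simp
  · rw [dd_apply_inr_inl]; simp
  · rfl

theorem zmod2_add_self (a : ZMod 2) : a + a = 0 := by
  revert a; decide

theorem dd_ext {ε ε' : Fin k → ZMod 2} {δ δ' : Fin k → ZMod 2 → ZMod 2} {η η' : Fin s1 → ZMod 2}
    (h1 : ε = ε') (h2 : δ = δ') (h3 : η = η') : dd k s1 r ε δ η = dd k s1 r ε' δ' η' := by
  subst h1 h2 h3; rfl

theorem dd_inv (ε : Fin k → ZMod 2) (δ : Fin k → ZMod 2 → ZMod 2) (η : Fin s1 → ZMod 2) :
    (dd k s1 r ε δ η)⁻¹ = dd k s1 r ε (fun j u => δ j (u + ε j)) η := by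
  rw [inv_eq_iff_mul_eq_one, dd_mul]
  have h1 : ε + ε = 0 := by funext j; exact zmod2_add_self _
  have h2 : η + η = 0 := by funext j; exact zmod2_add_self _
  have h3 : (fun j u => δ j (u + ε j) + δ j (u + ε j)) = (0 : Fin k → ZMod 2 → ZMod 2) := by
    funext j u; exact zmod2_add_self _
  rw [h1, h2, h3, dd_zero]

/-- the set of all `dd ε δ η` as a subgroup -/
def DDs : Subgroup (Perm (Mdl2 k s1 r)) where
  carrier := {g | ∃ (ε : Fin k → ZMod 2) (δ : Fin k → ZMod 2 → ZMod 2) (η : Fin s1 → ZMod 2),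
      g = dd k s1 r ε δ η}
  mul_mem' := by
    rintro _ _ ⟨ε, δ, η, rfl⟩ ⟨ε', δ', η', rfl⟩
    exact ⟨_, _, _, dd_mul k s1 r ε ε' δ δ' η η'⟩
  one_mem' := ⟨0, 0, 0, (dd_zero k s1 r).symm⟩
  inv_mem' := by
    rintro _ ⟨ε, δ, η, rfl⟩
    exact ⟨_, _, _, dd_inv k s1 r ε δ η⟩

theorem ext4_tA_eq (j : Fin k) :
    (ext4 (tA k j) : Perm (Mdl2 k s1 r)) = dd k s1 r (Pi.single j 1) 0 0 := by
  ext q
  rcases q with ⟨i, u, x⟩ | ⟨i, x⟩ | t
  · rw [dd_apply_inl]
    show Sum.inl (tA k j (i, (u, x))) = _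
    congr 1
    by_cases h : i = j
    · subst h
      simp [tA]
    · simp [tA, h, Pi.single_apply]
  · rw [dd_apply_inr_inl]
    show Sum.inr (Sum.inl (i, x)) = _
    simp
  · rfl

/-- the indicator of the `2`-block `u` of the `4`-block `j` -/
def ind (j : Fin k) (u : ZMod 2) : Fin k → ZMod 2 → ZMod 2 := Pi.single j (Pi.single u 1)

theorem ext4_tC_eq (j : Fin k) :
    (ext4 (tC k j) : Perm (Mdl2 k s1 r)) = dd k s1 r 0 (ind k j 0) 0 := by
  ext q
  rcases q with ⟨i, u, x⟩ | ⟨i, x⟩ | t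
  · rw [dd_apply_inl]
    show Sum.inl (tC k j (i, (u, x))) = _
    congr 1
    by_cases h : i = j
    · subst h
      by_cases hu : u = 0
      · subst hu
        simp [tC, ind]
      · simp [tC, ind, hu, Pi.single_apply]
    · simp [tC, ind, h, Pi.single_apply]
  · rw [dd_apply_inr_inl]
    show Sum.inr (Sum.inl (i, x)) = _
    simp
  · rfl

theorem ext2_tI_eq (i : Fin s1) :
    (ext2 (tI s1 i) : Perm (Mdl2 k s1 r)) = dd k s1 r 0 0 (Pi.single i 1) := by
  ext q
  rcases q with ⟨j, u, x⟩ | ⟨j, x⟩ | t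
  · rw [dd_apply_inl]
    show Sum.inl (j, (u, x)) = _
    simp
  · rw [dd_apply_inr_inl]
    show Sum.inr (Sum.inl (tI s1 i (j, x))) = _
    congr 2
    by_cases h : j = i
    · subst h
      simp [tI]
    · simp [tI, h, Pi.single_apply]
  · rfl

theorem DD_le_DDs : DD k s1 r ≤ DDs k s1 r := by
  unfold DD
  rw [Subgroup.closure_le]
  rintro g ((⟨j, rfl⟩ | ⟨j, rfl⟩) | ⟨i, rfl⟩)
  · exact ⟨_, _, _, ext4_tA_eq k s1 r j⟩
  · exact ⟨_, _, _, ext4_tC_eq k s1 r j⟩
  · exact ⟨_, _, _, ext2_tI_eq k s1 r i⟩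

theorem tA_mem (j : Fin k) : dd k s1 r (Pi.single j 1) 0 0 ∈ DD k s1 r := by
  rw [← ext4_tA_eq]
  exact Subgroup.subset_closure (Or.inl (Or.inl ⟨j, rfl⟩))

theorem tC_mem (j : Fin k) : dd k s1 r 0 (ind k j 0) 0 ∈ DD k s1 r := by
  rw [← ext4_tC_eq]
  exact Subgroup.subset_closure (Or.inl (Or.inr ⟨j, rfl⟩))

theorem tI_mem (i : Fin s1) : dd k s1 r 0 0 (Pi.single i 1) ∈ DD k s1 r := by
  rw [← ext2_tI_eq]
  exact Subgroup.subset_closure (Or.inr ⟨i, rfl⟩)

theorem tC1_mem (j : Fin k) : dd k s1 r 0 (ind k j 1) 0 ∈ DD k s1 r := by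
  have h := (DD k s1 r).mul_mem ((DD k s1 r).mul_mem (tA_mem k s1 r j) (tC_mem k s1 r j))
    (tA_mem k s1 r j)
  rw [dd_mul, dd_mul] at h
  have e : dd k s1 r 0 (ind k j 1) 0 = dd k s1 r (Pi.single j 1 + (0 + Pi.single j 1))
      (fun j_1 u => (0 : Fin k → ZMod 2 → ZMod 2) j_1 u +
        (ind k j 0 j_1 (u + (Pi.single j 1 : Fin k → ZMod 2) j_1) +
          (0 : Fin k → ZMod 2 → ZMod 2) j_1 (u + (Pi.single j 1 : Fin k → ZMod 2) j_1 +
            (0 : Fin k → ZMod 2) j_1)))
      (0 + (0 + 0)) := by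
    refine dd_ext k s1 r ?_ ?_ ?_
    · funext i
      simp only [Pi.add_apply, Pi.zero_apply, zero_add]
      exact (zmod2_add_self _).symm
    · funext i u
      simp only [Pi.zero_apply, zero_add, add_zero, ind]
      by_cases h : i = j
      · subst h
        simp only [Pi.single_eq_same]
        have : ∀ u : ZMod 2, (Pi.single (1 : ZMod 2) (1 : ZMod 2) : ZMod 2 → ZMod 2) u =
            (Pi.single (0 : ZMod 2) (1 : ZMod 2) : ZMod 2 → ZMod 2) (u + 1) := by decide
        exact this u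
      · simp [h]
    · simp
  rw [e]; exact h

/-- splitting off the three kinds of coordinates -/
theorem dd_split (ε : Fin k → ZMod 2) (δ : Fin k → ZMod 2 → ZMod 2) (η : Fin s1 → ZMod 2) :
    dd k s1 r ε δ η = dd k s1 r ε 0 0 * (dd k s1 r 0 δ 0 * dd k s1 r 0 0 η) := by
  rw [dd_mul, dd_mul]
  refine dd_ext k s1 r ?_ ?_ ?_
  · funext j; simp
  · funext j u; simp
  · funext j; simp

theorem dd_eps_add (ε ε' : Fin k → ZMod 2) :
    dd k s1 r (ε + ε') 0 0 = dd k s1 r ε 0 0 * dd k s1 r ε' 0 0 := by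
  rw [dd_mul]
  refine dd_ext k s1 r ?_ ?_ ?_
  · exact add_comm _ _
  · funext j u; simp
  · funext j; simp

theorem dd_del_add (δ δ' : Fin k → ZMod 2 → ZMod 2) :
    dd k s1 r 0 (δ + δ') 0 = dd k s1 r 0 δ 0 * dd k s1 r 0 δ' 0 := by
  rw [dd_mul]
  refine dd_ext k s1 r ?_ ?_ ?_
  · funext j; simp
  · funext j u; simp [add_comm]
  · funext j; simp

theorem dd_eta_add (η η' : Fin s1 → ZMod 2) :
    dd k s1 r 0 0 (η + η') = dd k s1 r 0 0 η * dd k s1 r 0 0 η' := by
  rw [dd_mul]
  refine dd_ext k s1 r ?_ ?_ ?_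
  · funext j; simp
  · funext j u; simp
  · exact add_comm _ _

theorem zmod2_cases (a : ZMod 2) : a = 0 ∨ a = 1 := by
  revert a; decide

theorem dd_eps_mem (ε : Fin k → ZMod 2) : dd k s1 r ε 0 0 ∈ DD k s1 r := by
  have key : ∀ s : Finset (Fin k), ∀ ε : Fin k → ZMod 2, (∀ j, j ∉ s → ε j = 0) →
      dd k s1 r ε 0 0 ∈ DD k s1 r := by
    intro s
    induction s using Finset.induction_on with
    | empty =>
      intro ε h
      have : ε = 0 := by funext j; exact h j (Finset.notMem_empty j)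
      rw [this, dd_zero]; exact (DD k s1 r).one_mem
    | insert a s ha ih =>
      intro ε h
      have e : ε = Function.update ε a 0 + Pi.single a (ε a) := by
        funext j
        by_cases hj : j = a
        · subst hj; simp
        · simp [Function.update_of_ne hj, Pi.single_apply, hj]
      rw [e, dd_eps_add]
      refine (DD k s1 r).mul_mem (ih _ ?_) ?_
      · intro j hj
        by_cases hja : j = a
        · subst hja; simp
        · rw [Function.update_of_ne hja]
          exact h j (by simp [hja, hj])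
      · rcases zmod2_cases (ε a) with h0 | h1
        · rw [h0, Pi.single_zero, dd_zero]; exact (DD k s1 r).one_mem
        · rw [h1]; exact tA_mem k s1 r a
  exact key Finset.univ ε (fun j hj => absurd (Finset.mem_univ j) hj)

theorem dd_eta_mem (η : Fin s1 → ZMod 2) : dd k s1 r 0 0 η ∈ DD k s1 r := by
  have key : ∀ s : Finset (Fin s1), ∀ η : Fin s1 → ZMod 2, (∀ j, j ∉ s → η j = 0) →
      dd k s1 r 0 0 η ∈ DD k s1 r := by
    intro s
    induction s using Finset.induction_on with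
    | empty =>
      intro η h
      have : η = 0 := by funext j; exact h j (Finset.notMem_empty j)
      rw [this, dd_zero]; exact (DD k s1 r).one_mem
    | insert a s ha ih =>
      intro η h
      have e : η = Function.update η a 0 + Pi.single a (η a) := by
        funext j
        by_cases hj : j = a
        · subst hj; simp
        · simp [Function.update_of_ne hj, Pi.single_apply, hj]
      rw [e, dd_eta_add]
      refine (DD k s1 r).mul_mem (ih _ ?_) ?_
      · intro j hj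
        by_cases hja : j = a
        · subst hja; simp
        · rw [Function.update_of_ne hja]
          exact h j (by simp [hja, hj])
      · rcases zmod2_cases (η a) with h0 | h1
        · rw [h0, Pi.single_zero, dd_zero]; exact (DD k s1 r).one_mem
        · rw [h1]; exact tI_mem k s1 r a
  exact key Finset.univ η (fun j hj => absurd (Finset.mem_univ j) hj)

theorem dd_del_mem (δ : Fin k → ZMod 2 → ZMod 2) : dd k s1 r 0 δ 0 ∈ DD k s1 r := by
  have key : ∀ s : Finset (Fin k), ∀ δ : Fin k → ZMod 2 → ZMod 2, (∀ j, j ∉ s → δ j = 0) →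
      dd k s1 r 0 δ 0 ∈ DD k s1 r := by
    intro s
    induction s using Finset.induction_on with
    | empty =>
      intro δ h
      have : δ = 0 := by funext j; exact h j (Finset.notMem_empty j)
      rw [this, dd_zero]; exact (DD k s1 r).one_mem
    | insert a s ha ih =>
      intro δ h
      have e : δ = Function.update δ a 0 + (Pi.single a (Pi.single 0 (δ a 0)) +
          Pi.single a (Pi.single 1 (δ a 1))) := by
        funext j u
        by_cases hj : j = a
        · subst hj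
          simp only [Pi.add_apply, Function.update_self, Pi.zero_apply, zero_add,
            Pi.single_eq_same]
          have : ∀ (f : ZMod 2 → ZMod 2) (u : ZMod 2),
              f u = (Pi.single (0 : ZMod 2) (f 0) : ZMod 2 → ZMod 2) u +
                (Pi.single (1 : ZMod 2) (f 1) : ZMod 2 → ZMod 2) u := by
            intro f u
            rcases zmod2_cases u with rfl | rfl
            · simp
            · simp
          exact this (δ j) u
        · simp [Function.update_of_ne hj, Pi.single_apply, hj]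
      rw [e, dd_del_add, dd_del_add]
      refine (DD k s1 r).mul_mem (ih _ ?_) ((DD k s1 r).mul_mem ?_ ?_)
      · intro j hj
        by_cases hja : j = a
        · subst hja; simp
        · rw [Function.update_of_ne hja]
          exact h j (by simp [hja, hj])
      · rcases zmod2_cases (δ a 0) with h0 | h1
        · rw [h0, Pi.single_zero, Pi.single_zero, dd_zero]; exact (DD k s1 r).one_mem
        · rw [h1]; exact tC_mem k s1 r a
      · rcases zmod2_cases (δ a 1) with h0 | h1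
        · rw [h0, Pi.single_zero, Pi.single_zero, dd_zero]; exact (DD k s1 r).one_mem
        · rw [h1]; exact tC1_mem k s1 r a
  exact key Finset.univ δ (fun j hj => absurd (Finset.mem_univ j) hj)

theorem dd_mem_DD (ε : Fin k → ZMod 2) (δ : Fin k → ZMod 2 → ZMod 2) (η : Fin s1 → ZMod 2) :
    dd k s1 r ε δ η ∈ DD k s1 r := by
  rw [dd_split]
  exact (DD k s1 r).mul_mem (dd_eps_mem k s1 r ε)
    ((DD k s1 r).mul_mem (dd_del_mem k s1 r δ) (dd_eta_mem k s1 r η))

theorem mem_DD_iff (g : Perm (Mdl2 k s1 r)) :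
    g ∈ DD k s1 r ↔ ∃ (ε : Fin k → ZMod 2) (δ : Fin k → ZMod 2 → ZMod 2) (η : Fin s1 → ZMod 2),
      g = dd k s1 r ε δ η := by
  constructor
  · intro h; exact DD_le_DDs k s1 r h
  · rintro ⟨ε, δ, η, rfl⟩; exact dd_mem_DD k s1 r ε δ η

theorem dd_pow_four (ε : Fin k → ZMod 2) (δ : Fin k → ZMod 2 → ZMod 2) (η : Fin s1 → ZMod 2) :
    dd k s1 r ε δ η ^ 4 = 1 := by
  have h4 : dd k s1 r ε δ η ^ 4 = (dd k s1 r ε δ η * dd k s1 r ε δ η) *
      (dd k s1 r ε δ η * dd k s1 r ε δ η) := by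
    rw [show (4 : ℕ) = 2 + 2 from rfl, pow_add, pow_two]
  rw [h4, dd_mul, dd_mul]
  have h1 : ε + ε = 0 := by funext j; exact zmod2_add_self _
  have h2 : η + η = 0 := by funext j; exact zmod2_add_self _
  rw [h1, h2]
  have h3 : (0 : Fin s1 → ZMod 2) + 0 = 0 := add_zero _
  have h5 : (0 : Fin k → ZMod 2) + 0 = 0 := add_zero _
  rw [h3, h5]
  have h6 : (fun j u => (fun j u => δ j u + δ j (u + ε j)) j u +
      (fun j u => δ j u + δ j (u + ε j)) j (u + (0 : Fin k → ZMod 2) j)) =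
      (0 : Fin k → ZMod 2 → ZMod 2) := by
    funext j u
    simp only [Pi.zero_apply, add_zero]
    exact zmod2_add_self _
  rw [h6, dd_zero]

theorem DD_pgroup : IsPGroup 2 ↥(DD k s1 r) := by
  rintro ⟨g, hg⟩
  obtain ⟨ε, δ, η, rfl⟩ := (mem_DD_iff k s1 r g).mp hg
  refine ⟨2, ?_⟩
  apply Subtype.ext
  rw [Subgroup.coe_pow, Subgroup.coe_one]
  exact dd_pow_four k s1 r ε δ η

/-! ### the sign -/

/-- the action of `dd` on one `4`-block -/
def blkPerm (e : ZMod 2) (d : ZMod 2 → ZMod 2) : Perm (ZMod 2 × ZMod 2) where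
  toFun q := (q.1 + e, q.2 + d q.1)
  invFun q := (q.1 + e, q.2 + d (q.1 + e))
  left_inv q := by
    rcases q with ⟨u, x⟩
    have h2 : ∀ a b : ZMod 2, a + b + b = a := by decide
    simp [h2]
  right_inv q := by
    rcases q with ⟨u, x⟩
    have h2 : ∀ a b : ZMod 2, a + b + b = a := by decide
    simp [h2]

/-- the sign character of `ZMod 2` -/
def chi (a : ZMod 2) : ℤˣ := if a = 0 then 1 else -1

theorem chi_add : ∀ a b : ZMod 2, chi (a + b) = chi a * chi b := by decide

theorem chi_eq_one : ∀ a : ZMod 2, chi a = 1 ↔ a = 0 := by decide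

theorem chi_zero : chi 0 = 1 := rfl

theorem chi_sum {ι : Type*} (s : Finset ι) (f : ι → ZMod 2) :
    chi (∑ i ∈ s, f i) = ∏ i ∈ s, chi (f i) := by
  classical
  induction s using Finset.induction_on with
  | empty => simp [chi_zero]
  | insert a s ha ih => rw [Finset.sum_insert ha, Finset.prod_insert ha, chi_add, ih]

theorem sign_blkPerm : ∀ (e : ZMod 2) (d : ZMod 2 → ZMod 2),
    Perm.sign (blkPerm e d) = chi (d 0 + d 1) := by
  decide

theorem sign_addRight2 : ∀ c : ZMod 2, Perm.sign (Equiv.addRight c : Perm (ZMod 2)) = chi c := by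
  decide

theorem dd_eq_sumCongr (ε : Fin k → ZMod 2) (δ : Fin k → ZMod 2 → ZMod 2) (η : Fin s1 → ZMod 2) :
    dd k s1 r ε δ η = Equiv.Perm.sumCongr
      (Equiv.prodCongrRight fun j => blkPerm (ε j) (δ j))
      (Equiv.Perm.sumCongr (Equiv.prodCongrRight fun i => (Equiv.addRight (η i) : Perm (ZMod 2)))
        (1 : Perm (Fin r))) := by
  ext q
  rcases q with ⟨j, u, x⟩ | ⟨i, x⟩ | t <;> rfl

theorem sign_dd_eq (ε : Fin k → ZMod 2) (δ : Fin k → ZMod 2 → ZMod 2) (η : Fin s1 → ZMod 2) :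
    Perm.sign (dd k s1 r ε δ η) = chi ((∑ j, (δ j 0 + δ j 1)) + ∑ i, η i) := by
  rw [dd_eq_sumCongr, Perm.sign_sumCongr, Perm.sign_sumCongr, Perm.sign_prodCongrRight,
    Perm.sign_prodCongrRight, Perm.sign_one, mul_one, chi_add, chi_sum, chi_sum]
  congr 1
  · exact Finset.prod_congr rfl fun j _ => sign_blkPerm _ _
  · exact Finset.prod_congr rfl fun i _ => sign_addRight2 _

theorem sign_dd (ε : Fin k → ZMod 2) (δ : Fin k → ZMod 2 → ZMod 2)
    (η : Fin s1 → ZMod 2) :
    dd k s1 r ε δ η ∈ alternatingGroup (Mdl2 k s1 r) ↔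
      (∑ j, (δ j 0 + δ j 1)) + ∑ i, η i = 0 := by
  rw [Perm.mem_alternatingGroup, sign_dd_eq, chi_eq_one]

end calcs

end Cfsg.Agent.Lib.helper3.AltFus
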