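import Mathlib
import Cfsg.Prelude.Def_LieExceptional
import Cfsg.Agent.Lib.helper3.SuzukiCovE

set_option autoImplicit false

namespace Cfsg.Agent.Lib.helper3

open Cfsg Polynomial

variable {F : Type*} [Field F] [Fintype F] {m : ℕ} (hF : Fintype.card F = 2 ^ (2 * m + 1))
  (hm : 1 ≤ m)

theorem two_pow_odd_eq (m : ℕ) : ∃ j : ℕ, 2 ^ (2 * m + 1) = 3 * j + 2 := by
  induction m with
  | zero => exact ⟨0, by norm_num⟩
  | succ m ih =>
    obtain ⟨j, hj⟩ := ih
    refine ⟨4 * j + 2, ?_⟩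
    have : 2 ^ (2 * (m + 1) + 1) = 4 * 2 ^ (2 * m + 1) := by
      rw [show 2 * (m + 1) + 1 = 2 * m + 1 + 2 by ring, pow_add]; ring
    rw [this, hj]
    ring

include hF in
/-- the field has no primitive cube roots of unity -/
theorem sq_add_self_add_one_ne_zero (t : F) : t ^ 2 + t + 1 ≠ 0 := by
  intro h
  have h2 := sz_two hF
  have h3 : t ^ 3 = 1 := by linear_combination (t - 1) * h
  have ht0 : t ≠ 0 := by
    rintro rfl
    simp at h
  obtain ⟨j, hj⟩ := two_pow_odd_eq m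
  have h4 : t ^ (Fintype.card F - 1) = 1 := FiniteField.pow_card_sub_one_eq_one t ht0
  rw [hF, hj, show 3 * j + 2 - 1 = 3 * j + 1 by omega, pow_succ, pow_mul, h3, one_pow,
    one_mul] at h4
  rw [h4] at h
  have : (1 : F) = 0 := by linear_combination h - h2
  exact one_ne_zero this

include hF hm in
/-- a biadditive pairing of the field invariant under simultaneous scaling is trivial -/
theorem pairing_trivial_of_scalar_invariant {A : Type*} [CommGroup A] (f : F → F → A)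
    (hl : ∀ b b' c, f (b + b') c = f b c * f b' c)
    (hr : ∀ b c c', f b (c + c') = f b c * f b c')
    (hinv : ∀ μ b c, μ ≠ 0 → f (μ * b) (μ * c) = f b c) : ∀ b c, f b c = 1 := by
  have h2 := sz_two hF
  have hl0 : ∀ c, f 0 c = 1 := by
    intro c
    have := hl 0 0 c
    rw [add_zero] at this
    exact (mul_eq_left.1 this.symm)
  have hr0 : ∀ b, f b 0 = 1 := by
    intro b
    have := hr b 0 0
    rw [add_zero] at this
    exact (mul_eq_left.1 this.symm)
  have hsq : ∀ c, f 1 c * f 1 c = 1 := by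
    intro c
    rw [← hr, show c + c = 0 by linear_combination c * h2, hr0]
  have hg : ∀ b c, b ≠ 0 → f b c = f 1 (b⁻¹ * c) := by
    intro b c hb
    rw [← hinv b⁻¹ b c (inv_ne_zero hb), inv_mul_cancel₀ hb]
  obtain ⟨t, ht0, ht1⟩ := exists_ne_zero_one hF hm
  have ht1' : 1 + t ≠ 0 := by
    intro h
    apply ht1
    linear_combination h - h2
  have hu : (1 + t)⁻¹ + 1 + t⁻¹ ≠ 0 := by
    intro h
    have h' : ((1 + t)⁻¹ + 1 + t⁻¹) * (t * (1 + t)) = 0 := by rw [h, zero_mul]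
    have e : ((1 + t)⁻¹ + 1 + t⁻¹) * (t * (1 + t)) = t ^ 2 + t + 1 + t * 2 := by
      field_simp
      ring
    rw [e, h2, mul_zero, add_zero] at h'
    exact sq_add_self_add_one_ne_zero hF t h'
  have hone : ∀ c, f 1 c = 1 := by
    intro c'
    obtain ⟨c, rfl⟩ : ∃ c, c' = ((1 + t)⁻¹ + 1 + t⁻¹) * c :=
      ⟨((1 + t)⁻¹ + 1 + t⁻¹)⁻¹ * c', by rw [← mul_assoc, mul_inv_cancel₀ hu, one_mul]⟩
    have e1 := hl 1 t c
    rw [hg (1 + t) c ht1', hg t c ht0] at e1
    rw [add_mul, add_mul, one_mul, hr, hr, e1, mul_assoc (f 1 c * f 1 (t⁻¹ * c)),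
      mul_mul_mul_comm, hsq, hsq, one_mul]
  intro b c
  by_cases hb : b = 0
  · rw [hb, hl0]
  · rw [hg b c hb, hone]

include hF in
/-- for `m ≥ 2` some `x ≠ 0, 1` has `N(x) + N(x+1) + N(x) N(x+1) ≠ 0` -/
theorem exists_norm_sum_ne_zero (hm2 : 2 ≤ m) :
    ∃ x : F, x ≠ 0 ∧ x ≠ 1 ∧
      x * szθ m x + (x + 1) * szθ m (x + 1) +
        x * szθ m x * ((x + 1) * szθ m (x + 1)) ≠ 0 := by
  classical
  by_contra hcon
  push Not at hcon
  obtain ⟨e, he⟩ : ∃ e : ℕ, e = 2 ^ (m + 1) := ⟨_, rfl⟩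
  obtain ⟨p, hp⟩ : ∃ p : F[X], p = X ^ (e + 1) + (X + 1) * (X ^ e + 1) +
      X ^ (e + 1) * ((X + 1) * (X ^ e + 1)) := ⟨_, rfl⟩
  have heval : ∀ x : F, eval x p = x * szθ m x + (x + 1) * szθ m (x + 1) +
      x * szθ m x * ((x + 1) * szθ m (x + 1)) := by
    intro x
    rw [szθ_add hF, szθ_one, hp]
    unfold szθ
    simp only [eval_add, eval_mul, eval_pow, eval_X, eval_one]
    rw [← he]
    ring
  have hp0 : p ≠ 0 := by
    intro h0
    have h1 := heval 0
    rw [h0, eval_zero, szθ_zero, zero_add, szθ_one] at h1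
    simp at h1
  have hdeg : natDegree p ≤ 2 * e + 2 := by
    rw [hp]
    have h1 : natDegree ((X : F[X]) ^ (e + 1)) ≤ e + 1 := natDegree_X_pow_le _
    have h2 : natDegree (((X : F[X]) + 1) * (X ^ e + 1)) ≤ e + 1 := by
      refine le_trans natDegree_mul_le ?_
      have h3 : natDegree ((X : F[X]) + 1) ≤ 1 :=
        (natDegree_add_le _ _).trans (max_le natDegree_X_le (by simp))
      have h4 : natDegree ((X : F[X]) ^ e + 1) ≤ e := by
        refine le_trans (natDegree_add_le _ _) ?_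
        rw [natDegree_one, max_le_iff]
        exact ⟨natDegree_X_pow_le _, Nat.zero_le _⟩
      omega
    have h5 : natDegree ((X : F[X]) ^ (e + 1) * ((X + 1) * (X ^ e + 1))) ≤ 2 * e + 2 := by
      refine le_trans natDegree_mul_le ?_
      omega
    refine le_trans (natDegree_add_le _ _) (max_le (le_trans (natDegree_add_le _ _) (max_le ?_ ?_)) h5)
    · omega
    · omega
  apply hp0
  apply eq_zero_of_natDegree_lt_card_of_eval_eq_zero' p ((Finset.univ.erase (0 : F)).erase 1)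
  · intro x hx
    rw [Finset.mem_erase, Finset.mem_erase] at hx
    rw [heval]
    exact hcon x hx.2.1 hx.1
  · rw [Finset.card_erase_of_mem, Finset.card_erase_of_mem (Finset.mem_univ _), Finset.card_univ, hF]
    · have h8 : 2 ^ (m + 3) ≤ 2 ^ (2 * m + 1) := Nat.pow_le_pow_right (by norm_num) (by omega)
      have h9 : 2 ^ (m + 3) = 4 * 2 ^ (m + 1) := by rw [pow_add, pow_add]; ring
      have h10 : 4 ≤ 2 ^ (m + 1) := by
        calc 4 = 2 ^ 2 := by norm_num
          _ ≤ 2 ^ (m + 1) := Nat.pow_le_pow_right (by norm_num) (by omega)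
      omega
    · rw [Finset.mem_erase]
      exact ⟨one_ne_zero, Finset.mem_univ _⟩

include hF in
/-- a biadditive pairing invariant under `(b, a) ↦ (N(λ) b, λ a)` is trivial, when `m ≥ 2` -/
theorem pairing_trivial_of_norm_invariant (hm2 : 2 ≤ m) {A : Type*} [CommGroup A] (f : F → F → A)
    (hl : ∀ b b' a, f (b + b') a = f b a * f b' a)
    (hr : ∀ b a a', f b (a + a') = f b a * f b a')
    (hinv : ∀ l b a, l ≠ 0 → f (l * szθ m l * b) (l * a) = f b a) : ∀ b a, f b a = 1 := by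
  have h2 := sz_two hF
  have hl0 : ∀ c, f 0 c = 1 := by
    intro c
    have := hl 0 0 c
    rw [add_zero] at this
    exact (mul_eq_left.1 this.symm)
  have hr0 : ∀ b, f b 0 = 1 := by
    intro b
    have := hr b 0 0
    rw [add_zero] at this
    exact (mul_eq_left.1 this.symm)
  have hsq : ∀ b, f b 1 * f b 1 = 1 := by
    intro b
    rw [← hl, show b + b = 0 by linear_combination b * h2, hl0]
  have hN : ∀ l : F, l ≠ 0 → l * szθ m l ≠ 0 := fun l hl' => mul_ne_zero hl' (szθ_ne_zero m hl')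
  have hg : ∀ b l, l ≠ 0 → f b l = f ((l * szθ m l)⁻¹ * b) 1 := by
    intro b l hl'
    have := hinv l ((l * szθ m l)⁻¹ * b) 1 hl'
    rw [← mul_assoc, mul_inv_cancel₀ (hN l hl'), one_mul, mul_one] at this
    exact this
  obtain ⟨x, hx0, hx1, hP⟩ := exists_norm_sum_ne_zero hF hm2
  have hx1' : x + 1 ≠ 0 := by
    intro h
    apply hx1
    linear_combination h - h2
  have hw : ((x + 1) * szθ m (x + 1))⁻¹ + (x * szθ m x)⁻¹ + 1 ≠ 0 := by
    intro h
    apply hP
    have hN1 := hN x hx0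
    have hN2 := hN (x + 1) hx1'
    obtain ⟨n1, hn1⟩ : ∃ n1, n1 = x * szθ m x := ⟨_, rfl⟩
    obtain ⟨n2, hn2⟩ : ∃ n2, n2 = (x + 1) * szθ m (x + 1) := ⟨_, rfl⟩
    rw [← hn1] at hN1
    rw [← hn2] at hN2
    rw [← hn1, ← hn2] at h ⊢
    have h' : (n2⁻¹ + n1⁻¹ + 1) * (n1 * n2) = 0 := by rw [h, zero_mul]
    rw [← h']
    field_simp
  have hone : ∀ b, f b 1 = 1 := by
    intro b'
    obtain ⟨b, rfl⟩ : ∃ b, b' = (((x + 1) * szθ m (x + 1))⁻¹ + (x * szθ m x)⁻¹ + 1) * b :=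
      ⟨(((x + 1) * szθ m (x + 1))⁻¹ + (x * szθ m x)⁻¹ + 1)⁻¹ * b', by
        rw [← mul_assoc, mul_inv_cancel₀ hw, one_mul]⟩
    have e1 := hr b x 1
    rw [hg b (x + 1) hx1', hg b x hx0] at e1
    rw [add_mul, add_mul, one_mul, hl, hl, e1, mul_assoc (f ((x * szθ m x)⁻¹ * b) 1 * f b 1),
      mul_mul_mul_comm, hsq, hsq, one_mul]
  intro b a
  by_cases ha : a = 0
  · rw [ha, hr0]
  · rw [hg b a ha, hone]

end Cfsg.Agent.Lib.helper3
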