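import Mathlib
import Cfsg.Prelude.Def_LieExceptional
import Cfsg.Agent.Lib.helper3.SuzukiMultA

set_option autoImplicit false

namespace Cfsg.Agent.Lib.helper3

open Cfsg
open scoped commutatorElement

section general

variable {Γ : Type*} [Group Γ]

theorem comm_mul_central_left {x y κ : Γ} (hκ : κ ∈ Subgroup.center Γ) : ⁅x * κ, y⁆ = ⁅x, y⁆ := by
  have h1 : ∀ g : Γ, g * κ = κ * g := fun g => Subgroup.mem_center_iff.1 hκ g
  rw [commutatorElement_def, commutatorElement_def, mul_inv_rev]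
  calc x * κ * y * (κ⁻¹ * x⁻¹) * y⁻¹ = x * (κ * y) * κ⁻¹ * x⁻¹ * y⁻¹ := by group
    _ = x * (y * κ) * κ⁻¹ * x⁻¹ * y⁻¹ := by rw [h1 y]
    _ = x * y * x⁻¹ * y⁻¹ := by group

theorem comm_mul_central_right {x y κ : Γ} (hκ : κ ∈ Subgroup.center Γ) :
    ⁅x, y * κ⁆ = ⁅x, y⁆ := by
  have h1 : ∀ g : Γ, g * κ = κ * g := fun g => Subgroup.mem_center_iff.1 hκ g
  rw [commutatorElement_def, commutatorElement_def, mul_inv_rev]
  calc x * (y * κ) * x⁻¹ * (κ⁻¹ * y⁻¹) = x * y * (κ * x⁻¹) * κ⁻¹ * y⁻¹ := by group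
    _ = x * y * (x⁻¹ * κ) * κ⁻¹ * y⁻¹ := by rw [h1 x⁻¹]
    _ = x * y * x⁻¹ * y⁻¹ := by group

theorem comm_eq_of_map_eq {G : Type*} [Group G] (σ : Γ →* G)
    (hcen : σ.ker ≤ Subgroup.center Γ) {u u' v v' : Γ} (hu : σ u = σ u') (hv : σ v = σ v') :
    ⁅u, v⁆ = ⁅u', v'⁆ := by
  have h1 : u⁻¹ * u' ∈ Subgroup.center Γ := hcen (by
    rw [MonoidHom.mem_ker, map_mul, map_inv, hu, inv_mul_cancel])
  have h2 : v⁻¹ * v' ∈ Subgroup.center Γ := hcen (by
    rw [MonoidHom.mem_ker, map_mul, map_inv, hv, inv_mul_cancel])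
  have e1 : u' = u * (u⁻¹ * u') := by group
  have e2 : v' = v * (v⁻¹ * v') := by group
  rw [e1, e2, comm_mul_central_left h1, comm_mul_central_right h2]

theorem comm_mul_left_of_commute {x x' y : Γ} (h : x * ⁅x', y⁆ = ⁅x', y⁆ * x) :
    ⁅x * x', y⁆ = ⁅x', y⁆ * ⁅x, y⁆ := by
  have e : ⁅x * x', y⁆ = x * ⁅x', y⁆ * x⁻¹ * ⁅x, y⁆ := by
    simp only [commutatorElement_def]
    group
  rw [e, h]
  group

theorem comm_mul_right_of_commute {x y y' : Γ} (h : y * ⁅x, y'⁆ = ⁅x, y'⁆ * y) :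
    ⁅x, y * y'⁆ = ⁅x, y⁆ * ⁅x, y'⁆ := by
  have e : ⁅x, y * y'⁆ = ⁅x, y⁆ * (y * ⁅x, y'⁆ * y⁻¹) := by
    simp only [commutatorElement_def]
    group
  rw [e, h]
  group

theorem conj_comm_eq (d x y : Γ) : d * ⁅x, y⁆ * d⁻¹ = ⁅d * x * d⁻¹, d * y * d⁻¹⁆ := by
  simp only [commutatorElement_def]
  group

/-- the transfer argument: a central element of the derived group, raised to the index of a
subgroup, lies in the derived group of that subgroup -/
theorem pow_index_mem_commutator (H : Subgroup Γ) [H.FiniteIndex] {z : Γ}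
    (hz : z ∈ Subgroup.center Γ) (hz' : z ∈ commutator Γ) :
    z ^ H.index ∈ ⁅H, H⁆ := by
  have key : ∀ (k : ℕ) (g₀ : Γ), g₀⁻¹ * z ^ k * g₀ ∈ H → g₀⁻¹ * z ^ k * g₀ = z ^ k := by
    intro k g₀ _
    have hk : z ^ k ∈ Subgroup.center Γ := Subgroup.pow_mem _ hz k
    rw [mul_assoc, ← Subgroup.mem_center_iff.1 hk g₀, inv_mul_cancel_left]
  have h1 := MonoidHom.transfer_eq_pow (Abelianization.of : H →* Abelianization H) z key
  have h2 : MonoidHom.transfer (Abelianization.of : H →* Abelianization H) z = 1 := by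
    have := Abelianization.commutator_subset_ker
      (MonoidHom.transfer (Abelianization.of : H →* Abelianization H)) hz'
    exact MonoidHom.mem_ker.1 this
  rw [h2] at h1
  have h3 : (⟨z ^ H.index, MonoidHom.transfer_eq_pow_aux z key⟩ : H) ∈ commutator H := by
    rw [← Abelianization.ker_of, MonoidHom.mem_ker]
    exact h1.symm
  rw [← Subgroup.map_subtype_commutator]
  exact ⟨_, h3, rfl⟩

end general

section sz

variable {F : Type*} [Field F] [Fintype F] {m : ℕ} (hF : Fintype.card F = 2 ^ (2 * m + 1))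
  (hm : 1 ≤ m)

include hF hm in
/-- subgroups of odd prime power order of the Suzuki group are cyclic -/
theorem isCyclic_of_odd_pgroup {p : ℕ} [hp : Fact p.Prime] (hp2 : p ≠ 2) (P : Subgroup (Sz F m))
    (hP : IsPGroup p P) : IsCyclic P := by
  have hfin : Finite (Sz F m) := finite_Sz hF hm
  by_cases hbot : P = ⊥
  · subst hbot
    exact isCyclic_of_subsingleton
  have hnt : Nontrivial P := (Subgroup.nontrivial_iff_ne_bot P).2 hbot
  have hcn : Nontrivial (Subgroup.center P) := hP.center_nontrivial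
  obtain ⟨z, hz1⟩ := exists_ne (1 : Subgroup.center P)
  have hz1' : ((z : P) : Sz F m) ≠ 1 := by
    intro h
    apply hz1
    apply Subtype.ext
    apply Subtype.ext
    exact h
  have hodd : Odd (orderOf ((z : P) : Sz F m)) := by
    obtain ⟨k, hk⟩ := hP (z : P)
    have hdvd : orderOf ((z : P) : Sz F m) ∣ p ^ k := by
      apply orderOf_dvd_of_pow_eq_one
      have := congrArg Subtype.val hk
      simpa using this
    exact Odd.of_dvd_nat ((hp.out.odd_of_ne_two hp2).pow) hdvd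
  obtain ⟨U, hU, hzU⟩ := exists_torus_of_odd hF hm hz1' hodd
  have hle : P ≤ U := by
    rw [← torus_centralizer hF hm hU hzU hz1']
    intro g hg
    rw [Subgroup.mem_centralizer_singleton_iff]
    have := Subgroup.mem_center_iff.1 z.2 ⟨g, hg⟩
    exact congrArg Subtype.val this
  have := hU.1
  exact Subgroup.isCyclic_of_le hle

end sz

section stem

variable {F : Type*} [Field F] [Fintype F] {m : ℕ} (hF : Fintype.card F = 2 ^ (2 * m + 1))
  (hm : 1 ≤ m)
variable {Γ : Type*} [Group Γ] [Finite Γ] (σ : Γ →* Sz F m)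

include hF hm in
/-- the kernel of a stem extension of the Suzuki group has no elements of odd prime order -/
theorem ker_odd_trivial (hcen : σ.ker ≤ Subgroup.center Γ) (hder : σ.ker ≤ commutator Γ)
    {p : ℕ} [hp : Fact p.Prime] (hp2 : p ≠ 2) {z : Γ} (hzK : z ∈ σ.ker) (hzp : z ^ p = 1) :
    z = 1 := by
  by_contra hz1
  have hord : orderOf z = p := orderOf_eq_prime hzp hz1
  have hpg : IsPGroup p (Subgroup.zpowers z) := by
    apply IsPGroup.of_card (n := 1)
    rw [Nat.card_zpowers, hord, pow_one]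
  obtain ⟨P, hzP⟩ := hpg.exists_le_sylow
  have hcyc : IsCyclic ((P : Subgroup Γ).map σ) :=
    isCyclic_of_odd_pgroup hF hm hp2 _ (P.2.map σ)
  have hf : (σ.subgroupMap (P : Subgroup Γ)).ker ≤ Subgroup.center (P : Subgroup Γ) := by
    intro x hx
    rw [MonoidHom.mem_ker] at hx
    have hx' : σ (x : Γ) = 1 := congrArg Subtype.val hx
    have hc : (x : Γ) ∈ Subgroup.center Γ := hcen (MonoidHom.mem_ker.2 hx')
    rw [Subgroup.mem_center_iff]
    intro g
    apply Subtype.ext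
    exact Subgroup.mem_center_iff.1 hc g
  have hcomm := commutative_of_cyclic_center_quotient (σ.subgroupMap (P : Subgroup Γ)) hf
  have hbot : ⁅(P : Subgroup Γ), (P : Subgroup Γ)⁆ = ⊥ := by
    rw [eq_bot_iff, Subgroup.commutator_le]
    intro g₁ h₁ g₂ h₂
    rw [Subgroup.mem_bot, commutatorElement_eq_one_iff_mul_comm]
    exact congrArg Subtype.val (hcomm ⟨g₁, h₁⟩ ⟨g₂, h₂⟩)
  have h1 := pow_index_mem_commutator (P : Subgroup Γ) (hcen hzK) (hder hzK)
  rw [hbot, Subgroup.mem_bot] at h1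
  have h2 : p ∣ (P : Subgroup Γ).index := by
    have := orderOf_dvd_of_pow_eq_one h1
    rwa [hord] at this
  exact P.not_dvd_index h2

end stem

end Cfsg.Agent.Lib.helper3
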