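import Mathlib
import Cfsg.Prelude.Def_KGroupFacts
import Cfsg.Agent.Lib.Helper21.StemMeta
import Cfsg.Agent.S3963
import Cfsg.Agent.Lib.helper3.SuzukiMultB

set_option autoImplicit false

/-!
# General tools for showing that stem extensions have trivial kernel
-/

namespace Cfsg.Agent.Lib.helper3

open Cfsg
open scoped commutatorElement

/-- variant of helper21's `stem_core` for a central (not necessarily stem) extension: the
derived subgroup is generated by the commutator of the two generators -/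
theorem stem_core_comm {Γ : Type*} [Group Γ] (K : Subgroup Γ) (hKc : K ≤ Subgroup.center Γ)
    (a b : Γ) (hgen : Subgroup.closure {a, b} ⊔ K = ⊤)
    (hz : b * a * b⁻¹ * a ∈ K) (N : ℕ) (hN : b * a ^ N = a ^ N * b) :
    (a * b * a⁻¹ * b⁻¹) ^ N = 1 ∧ commutator Γ ≤ Subgroup.zpowers (a * b * a⁻¹ * b⁻¹) := by
  set z := b * a * b⁻¹ * a with hzdef
  set u := a * b * a⁻¹ * b⁻¹ with hudef
  have hzc : ∀ g : Γ, g * z = z * g := Subgroup.mem_center_iff.mp (hKc hz)
  have hzic : ∀ g : Γ, g * z⁻¹ = z⁻¹ * g := by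
    intro g
    have := hzc g
    calc g * z⁻¹ = z⁻¹ * (z * g) * z⁻¹ := by group
      _ = z⁻¹ * (g * z) * z⁻¹ := by rw [this]
      _ = z⁻¹ * g := by group
  have hconj : b * a * b⁻¹ = z * a⁻¹ := by rw [hzdef]; group
  have hu : u = a * a * z⁻¹ := by
    have h1 : u = a * (b * a * b⁻¹)⁻¹ := by rw [hudef]; group
    rw [h1, hconj, mul_inv_rev, inv_inv, hzic a, ← mul_assoc, mul_assoc a z⁻¹ a, ← hzic a, ← mul_assoc]
  have hconjN : b * a ^ N * b⁻¹ = z ^ N * (a ^ N)⁻¹ := by
    rw [← conj_pow, hconj]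
    have hcomm : Commute z a⁻¹ := (hzc a⁻¹).symm
    rw [hcomm.mul_pow, inv_pow]
  have haN : a ^ N * a ^ N = z ^ N := by
    have h1 : b * a ^ N * b⁻¹ = a ^ N := by rw [hN]; group
    rw [h1] at hconjN
    calc a ^ N * a ^ N = (z ^ N * (a ^ N)⁻¹) * a ^ N := by rw [← hconjN]
      _ = z ^ N := by group
  have huN : u ^ N = 1 := by
    rw [hu]
    have hcomm : Commute (a * a) z⁻¹ := hzic (a * a)
    rw [hcomm.mul_pow, (Commute.refl a).mul_pow, haN, inv_pow, mul_inv_cancel]
  refine ⟨huN, ?_⟩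
  have hua : a * u * a⁻¹ = u := by
    rw [hu]
    calc a * (a * a * z⁻¹) * a⁻¹ = a * a * (a * z⁻¹) * a⁻¹ := by group
      _ = a * a * (z⁻¹ * a) * a⁻¹ := by rw [hzic a]
      _ = a * a * z⁻¹ := by group
  have hub : b * u * b⁻¹ = u⁻¹ := by
    rw [hu]
    calc b * (a * a * z⁻¹) * b⁻¹ = (b * a * b⁻¹) * (b * a * b⁻¹) * (b * z⁻¹) * b⁻¹ := by group
      _ = (z * a⁻¹) * (z * a⁻¹) * (z⁻¹ * b) * b⁻¹ := by rw [hconj, hzic b]
      _ = z * (a⁻¹ * z) * a⁻¹ * z⁻¹ := by group
      _ = z * (z * a⁻¹) * a⁻¹ * z⁻¹ := by rw [hzc a⁻¹]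
      _ = z * (z * (a⁻¹ * a⁻¹) * z⁻¹) := by group
      _ = z * (z * (z⁻¹ * (a⁻¹ * a⁻¹))) := by rw [mul_assoc z (a⁻¹ * a⁻¹) z⁻¹, hzic (a⁻¹ * a⁻¹)]
      _ = (a * a * z⁻¹)⁻¹ := by group
  have hnorm : (Subgroup.zpowers u).Normal := by
    rw [← Subgroup.normalizer_eq_top_iff, eq_top_iff, ← hgen]
    apply sup_le
    · rw [Subgroup.closure_le]
      intro x hx
      rcases hx with rfl | hx
      · show x ∈ Subgroup.normalizer _
        rw [Subgroup.mem_normalizer_iff]
        intro h
        constructor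
        · rintro ⟨j, rfl⟩
          refine ⟨j, ?_⟩
          show u ^ j = x * u ^ j * x⁻¹
          rw [← conj_zpow, hua]
        · rintro ⟨j, hj⟩
          have hj' : u ^ j = x * h * x⁻¹ := hj
          refine ⟨j, ?_⟩
          show u ^ j = h
          have : h = x⁻¹ * (x * h * x⁻¹) * x := by group
          rw [this, ← hj']
          have h3 : x⁻¹ * u * x = u := by
            calc x⁻¹ * u * x = x⁻¹ * (x * u * x⁻¹) * x := by rw [hua]
              _ = u := by group
          have h4 : x⁻¹ * u ^ j * x = (x⁻¹ * u * x) ^ j := by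
            have := conj_zpow (a := x⁻¹) (b := u) (i := j)
            simpa using this.symm
          rw [h4, h3]
      · rw [Set.mem_singleton_iff] at hx
        subst hx
        show x ∈ Subgroup.normalizer _
        rw [Subgroup.mem_normalizer_iff]
        intro h
        constructor
        · rintro ⟨j, rfl⟩
          refine ⟨-j, ?_⟩
          show u ^ (-j) = x * u ^ j * x⁻¹
          rw [← conj_zpow, hub, inv_zpow, zpow_neg]
        · rintro ⟨j, hj⟩
          have hj' : u ^ j = x * h * x⁻¹ := hj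
          refine ⟨-j, ?_⟩
          show u ^ (-j) = h
          have : h = x⁻¹ * (x * h * x⁻¹) * x := by group
          rw [this, ← hj']
          have h3 : x⁻¹ * u * x = u⁻¹ := by
            have : u = x⁻¹ * u⁻¹ * x := by
              calc u = x⁻¹ * (x * u * x⁻¹) * x := by group
                _ = x⁻¹ * u⁻¹ * x := by rw [hub]
            have h5 : u⁻¹ = (x⁻¹ * u⁻¹ * x)⁻¹ := by rw [← this]
            rw [h5]; group
          have h4 : x⁻¹ * u ^ j * x = (x⁻¹ * u * x) ^ j := by
            have := conj_zpow (a := x⁻¹) (b := u) (i := j)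
            simpa using this.symm
          rw [h4, h3, inv_zpow, zpow_neg]
    · intro k hk
      have hkc : ∀ g : Γ, g * k = k * g := Subgroup.mem_center_iff.mp (hKc hk)
      rw [Subgroup.mem_normalizer_iff]
      intro h
      have : k * h * k⁻¹ = h := by
        rw [← hkc h]; group
      rw [this]
  haveI := hnorm
  have hQcomm : ∀ x y : Γ ⧸ Subgroup.zpowers u, x * y = y * x := by
    set π := QuotientGroup.mk' (Subgroup.zpowers u) with hπ
    set S : Set (Γ ⧸ Subgroup.zpowers u) := π '' ({a, b} ∪ (K : Set Γ)) with hS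
    have hcl : Subgroup.closure S = ⊤ := by
      rw [hS, ← MonoidHom.map_closure, Subgroup.closure_union, Subgroup.closure_eq, hgen,
        Subgroup.map_top_of_surjective _ (QuotientGroup.mk'_surjective _)]
    have hπu : π u = 1 := by
      rw [hπ, QuotientGroup.mk'_apply, QuotientGroup.eq_one_iff]
      exact Subgroup.mem_zpowers u
    have hab : π a * π b = π b * π a := by
      have : a * b = u * (b * a) := by rw [hudef]; group
      rw [← map_mul, this, map_mul, hπu, one_mul, map_mul]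
    have hcentral : ∀ k ∈ K, ∀ y : Γ, π k * π y = π y * π k := by
      intro k hk y
      have hkc : ∀ g : Γ, g * k = k * g := Subgroup.mem_center_iff.mp (hKc hk)
      rw [← map_mul, ← map_mul, hkc y]
    have hcomm : ∀ x ∈ S, ∀ y ∈ S, x * y = y * x := by
      rintro _ ⟨x, hx, rfl⟩ _ ⟨y, hy, rfl⟩
      rcases hx with hx | hx
      · rcases hy with hy | hy
        · rcases hx with rfl | hx <;> rcases hy with rfl | hy
          · rfl
          · rw [Set.mem_singleton_iff] at hy; subst hy; exact hab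
          · rw [Set.mem_singleton_iff] at hx; subst hx; exact hab.symm
          · rw [Set.mem_singleton_iff] at hx hy; subst hx; subst hy; rfl
        · exact (hcentral y hy x).symm
      · exact hcentral x hx y
    have hmc := Subgroup.isMulCommutative_closure hcomm
    rw [hcl] at hmc
    intro x y
    have := hmc.is_comm.comm ⟨x, trivial⟩ ⟨y, trivial⟩
    exact congrArg Subtype.val this
  have hder : commutator Γ ≤ Subgroup.zpowers u := by
    rw [commutator_def, Subgroup.commutator_le]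
    intro g1 _ g2 _
    rw [← QuotientGroup.eq_one_iff, commutatorElement_def]
    simp only [QuotientGroup.mk_mul, QuotientGroup.mk_inv]
    rw [hQcomm (g1 : Γ ⧸ Subgroup.zpowers u) (g2 : Γ ⧸ Subgroup.zpowers u)]
    group
  exact hder



/-- a central extension of a generalised quaternion (dicyclic) group meets its derived subgroup
trivially in the kernel -/
theorem quat_central_comm_trivial {E : Type*} [Group E] (n : ℕ) [NeZero n]
    (τ : E →* QuaternionGroup n) (hsurj : Function.Surjective τ)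
    (hc : τ.ker ≤ Subgroup.center E) : ∀ w ∈ commutator E, τ w = 1 → w = 1 := by
  obtain ⟨a, ha⟩ := hsurj (QuaternionGroup.a 1)
  obtain ⟨b, hb⟩ := hsurj (QuaternionGroup.xa 0)
  have hgenD : Subgroup.closure {τ a, τ b} = ⊤ := by
    rw [ha, hb]; exact Cfsg.Agent.S3963.quat_gen n
  have hgen := Cfsg.Agent.Lib.Helper21.gen_lift τ a b hgenD
  have h2n : ((2 * n : ℕ) : ZMod (2 * n)) = 0 := ZMod.natCast_self _
  push_cast at h2n
  have hz : b * a * b⁻¹ * a ∈ τ.ker := by
    rw [MonoidHom.mem_ker]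
    simp only [map_mul, map_inv, ha, hb, Cfsg.Agent.S3963.inv_xa, QuaternionGroup.xa_mul_a,
      QuaternionGroup.xa_mul_xa, QuaternionGroup.a_mul_a]
    rw [← QuaternionGroup.a_zero]
    congr 1
    linear_combination h2n
  have hN : b * a ^ n = a ^ n * b := by
    have hk2 : (b ^ 2)⁻¹ * a ^ n ∈ τ.ker := by
      rw [MonoidHom.mem_ker, map_mul, map_inv, map_pow, map_pow, ha, hb, QuaternionGroup.xa_sq,
        QuaternionGroup.a_one_pow, inv_mul_cancel]
    have hcomm := Subgroup.mem_center_iff.mp (hc hk2) b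
    have e : a ^ n = b ^ 2 * ((b ^ 2)⁻¹ * a ^ n) := by group
    rw [e]
    calc b * (b ^ 2 * ((b ^ 2)⁻¹ * a ^ n)) = b ^ 2 * (b * ((b ^ 2)⁻¹ * a ^ n)) := by group
      _ = b ^ 2 * (((b ^ 2)⁻¹ * a ^ n) * b) := by rw [hcomm]
      _ = b ^ 2 * ((b ^ 2)⁻¹ * a ^ n) * b := by group
  obtain ⟨huN, hK⟩ := stem_core_comm τ.ker hc a b hgen hz n hN
  intro k hk hk1
  obtain ⟨j, hj⟩ := Subgroup.mem_zpowers_iff.mp (hK hk)
  have hσu : τ (a * b * a⁻¹ * b⁻¹) = QuaternionGroup.a 2 := by
    simp only [map_mul, map_inv, ha, hb, Cfsg.Agent.S3963.inv_a, Cfsg.Agent.S3963.inv_xa,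
      QuaternionGroup.a_mul_xa, QuaternionGroup.xa_mul_a, QuaternionGroup.xa_mul_xa]
    congr 1
    linear_combination h2n
  have h1 : (QuaternionGroup.a (2 : ZMod (2 * n))) ^ j = 1 := by
    rw [← hσu, ← map_zpow, hj]; exact hk1
  rw [Cfsg.Agent.S3963.a_zpow, QuaternionGroup.one_def] at h1
  have h2 : ((2 * j : ℤ) : ZMod (2 * n)) = 0 := by
    have := QuaternionGroup.a.inj h1
    push_cast
    exact this
  rw [ZMod.intCast_zmod_eq_zero_iff_dvd] at h2
  have h3 : (n : ℤ) ∣ j := by
    have : ((2 * n : ℕ) : ℤ) = 2 * (n : ℤ) := by push_cast; ring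
    rw [this] at h2
    exact Int.dvd_of_mul_dvd_mul_left (by norm_num) h2
  obtain ⟨t, ht⟩ := h3
  rw [← hj, ht, zpow_mul, zpow_natCast, huN, one_zpow]

section StemKey

variable {Γ G : Type*} [Group Γ] [Group G] (σ : Γ →* G)

/-- the transfer criterion: if the preimage of a subgroup `S` of index prime to `p` has derived
subgroup meeting the kernel trivially, the kernel has no element of order `p` -/
theorem stem_no_prime_of_subgroup [Finite Γ] (hsurj : Function.Surjective σ)
    (hcen : σ.ker ≤ Subgroup.center Γ) (hder : σ.ker ≤ commutator Γ)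
    (S : Subgroup G) {p : ℕ} [hp : Fact p.Prime] (hind : ¬ p ∣ S.index)
    (hS : ∀ w ∈ ⁅S.comap σ, S.comap σ⁆, σ w = 1 → w = 1) {z : Γ} (hz : z ∈ σ.ker)
    (hzp : z ^ p = 1) : z = 1 := by
  by_contra hz1
  have hord : orderOf z = p := orderOf_eq_prime hzp hz1
  have h1 := pow_index_mem_commutator (S.comap σ) (hcen hz) (hder hz)
  have h2 : σ (z ^ (S.comap σ).index) = 1 := by
    rw [map_pow, MonoidHom.mem_ker.mp hz, one_pow]
  have h3 := hS _ h1 h2
  rw [Subgroup.index_comap_of_surjective S hsurj] at h3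
  have h4 := orderOf_dvd_of_pow_eq_one h3
  rw [hord] at h4
  exact hind h4

/-- a finite kernel without elements of prime order is trivial -/
theorem stem_ker_trivial_of_primes [Finite Γ]
    (h : ∀ (p : ℕ) [Fact p.Prime] (z : Γ), z ∈ σ.ker → z ^ p = 1 → z = 1) :
    ∀ z ∈ σ.ker, z = 1 := by
  intro z hz
  by_contra hz1
  have hord : orderOf z ≠ 1 := fun h1 => hz1 (orderOf_eq_one_iff.mp h1)
  obtain ⟨p, hp, hpd⟩ := Nat.exists_prime_and_dvd hord
  haveI : Fact p.Prime := ⟨hp⟩
  have hpos : orderOf z ≠ 0 := (orderOf_pos z).ne'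
  have h1 : orderOf (z ^ (orderOf z / p)) = p := orderOf_pow_orderOf_div hpos hpd
  have h2 : (z ^ (orderOf z / p)) ^ p = 1 := by
    have h0 := pow_orderOf_eq_one (z ^ (orderOf z / p))
    rw [h1] at h0
    exact h0
  have h3 := h p (z ^ (orderOf z / p)) (Subgroup.pow_mem _ hz _) h2
  rw [h3, orderOf_one] at h1
  exact hp.one_lt.ne h1

/-- preimages of cyclic subgroups under a central extension are abelian -/
theorem comm_comap_trivial_of_cyclic (hcen : σ.ker ≤ Subgroup.center Γ) (S : Subgroup G)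
    [IsCyclic S] : ∀ w ∈ ⁅S.comap σ, S.comap σ⁆, w = 1 := by
  have hf : (σ.subgroupComap S).ker ≤ Subgroup.center (S.comap σ) := by
    intro x hx
    rw [MonoidHom.mem_ker] at hx
    have hx' : σ (x : Γ) = 1 := congrArg Subtype.val hx
    have hc : (x : Γ) ∈ Subgroup.center Γ := hcen (MonoidHom.mem_ker.2 hx')
    rw [Subgroup.mem_center_iff]
    intro g
    apply Subtype.ext
    exact Subgroup.mem_center_iff.1 hc g
  have hcomm := commutative_of_cyclic_center_quotient (σ.subgroupComap S) hf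
  have hbot : ⁅S.comap σ, S.comap σ⁆ = ⊥ := by
    rw [eq_bot_iff, Subgroup.commutator_le]
    intro g₁ h₁ g₂ h₂
    rw [Subgroup.mem_bot, commutatorElement_eq_one_iff_mul_comm]
    exact congrArg Subtype.val (hcomm ⟨g₁, h₁⟩ ⟨g₂, h₂⟩)
  intro w hw
  rw [hbot, Subgroup.mem_bot] at hw
  exact hw

/-- preimages of generalised quaternion subgroups under a central extension -/
theorem comm_comap_trivial_of_quat (hsurj : Function.Surjective σ)
    (hcen : σ.ker ≤ Subgroup.center Γ) (S : Subgroup G) (n : ℕ) [NeZero n]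
    (e : S ≃* QuaternionGroup n) : ∀ w ∈ ⁅S.comap σ, S.comap σ⁆, σ w = 1 → w = 1 := by
  intro w hw hw1
  rw [← Subgroup.map_subtype_commutator] at hw
  obtain ⟨w', hw', rfl⟩ := hw
  have hτs : Function.Surjective (e.toMonoidHom.comp (σ.subgroupComap S)) :=
    e.surjective.comp (σ.subgroupComap_surjective_of_surjective S hsurj)
  have hker : (e.toMonoidHom.comp (σ.subgroupComap S)).ker ≤ Subgroup.center (S.comap σ) := by
    intro x hx
    rw [MonoidHom.mem_ker, MonoidHom.comp_apply] at hx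
    have hx0 : (σ.subgroupComap S) x = 1 := (MulEquiv.map_eq_one_iff e).mp hx
    have hx' : σ (x : Γ) = 1 := congrArg Subtype.val hx0
    have hc : (x : Γ) ∈ Subgroup.center Γ := hcen (MonoidHom.mem_ker.2 hx')
    rw [Subgroup.mem_center_iff]
    intro g
    apply Subtype.ext
    exact Subgroup.mem_center_iff.1 hc g
  have h1 : (e.toMonoidHom.comp (σ.subgroupComap S)) w' = 1 := by
    rw [MonoidHom.comp_apply]
    have : (σ.subgroupComap S) w' = 1 := Subtype.ext hw1
    rw [this]
    exact map_one _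
  have := quat_central_comm_trivial n _ hτs hker w' hw' h1
  rw [this]
  rfl

end StemKey

end Cfsg.Agent.Lib.helper3
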