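import Mathlib
import Cfsg.Prelude.Def_KGroupFacts
import Cfsg.Agent.Lib.helper3.StemTools

set_option autoImplicit false

/-!
# More tools for stem extensions: metacyclic normal forms, abelian rank-two subgroups with an
inverting element, semidihedral-type relations.
-/

namespace Cfsg.Agent.Lib.helper3

open Cfsg
open scoped commutatorElement

section PairNF

variable {G : Type*} [Group G] {a b : G} {k : ℕ}

theorem conj_pow_of_rel (h : b * a * b⁻¹ = a ^ k) (l : ℕ) : b * a ^ l = a ^ (k * l) * b := by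
  have h1 : b * a ^ l * b⁻¹ = (a ^ k) ^ l := by rw [← h, conj_pow]
  rw [pow_mul, ← h1]
  group

theorem conj_pow_pow_of_rel (h : b * a * b⁻¹ = a ^ k) (j l : ℕ) :
    b ^ j * a ^ l = a ^ (k ^ j * l) * b ^ j := by
  induction j with
  | zero => simp
  | succ j ih =>
    rw [pow_succ' b, mul_assoc, ih, ← mul_assoc, conj_pow_of_rel h, mul_assoc]
    congr 2
    ring

/-- normal form in a metacyclic-type group -/
theorem mem_closure_pair_nf (h : b * a * b⁻¹ = a ^ k) {n m : ℕ} (hn : a ^ n = 1) (hn0 : 0 < n)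
    (hm : b ^ m = 1) (hm0 : 0 < m) {g : G} (hg : g ∈ Subgroup.closure {a, b}) :
    ∃ i j : ℕ, g = a ^ i * b ^ j := by
  have hmul : ∀ x y : G, (∃ i j : ℕ, x = a ^ i * b ^ j) → (∃ i j : ℕ, y = a ^ i * b ^ j) →
      ∃ i j : ℕ, x * y = a ^ i * b ^ j := by
    rintro x y ⟨i, j, rfl⟩ ⟨l, q, rfl⟩
    refine ⟨i + k ^ j * l, j + q, ?_⟩
    calc a ^ i * b ^ j * (a ^ l * b ^ q) = a ^ i * (b ^ j * a ^ l) * b ^ q := by group
      _ = a ^ i * (a ^ (k ^ j * l) * b ^ j) * b ^ q := by rw [conj_pow_pow_of_rel h]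
      _ = a ^ (i + k ^ j * l) * b ^ (j + q) := by rw [pow_add, pow_add]; group
  have hainv : ∀ i : ℕ, (a ^ i)⁻¹ = a ^ (i * (n - 1)) := by
    intro i
    apply inv_eq_of_mul_eq_one_right
    rw [← pow_add]
    have : i + i * (n - 1) = n * i := by
      obtain ⟨n', rfl⟩ : ∃ n', n = n' + 1 := ⟨n - 1, by omega⟩
      simp only [Nat.add_sub_cancel]
      ring
    rw [this, pow_mul, hn, one_pow]
  have hbinv : ∀ j : ℕ, (b ^ j)⁻¹ = b ^ (j * (m - 1)) := by
    intro j
    apply inv_eq_of_mul_eq_one_right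
    rw [← pow_add]
    have : j + j * (m - 1) = m * j := by
      obtain ⟨m', rfl⟩ : ∃ m', m = m' + 1 := ⟨m - 1, by omega⟩
      simp only [Nat.add_sub_cancel]
      ring
    rw [this, pow_mul, hm, one_pow]
  induction hg using Subgroup.closure_induction with
  | mem x hx =>
    rcases hx with rfl | hx
    · exact ⟨1, 0, by simp⟩
    · rw [Set.mem_singleton_iff] at hx
      subst hx
      exact ⟨0, 1, by simp⟩
  | one => exact ⟨0, 0, by simp⟩
  | mul x y _ _ hx hy => exact hmul x y hx hy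
  | inv x _ hx =>
    obtain ⟨i, j, rfl⟩ := hx
    rw [mul_inv_rev, hainv, hbinv]
    exact hmul _ _ ⟨0, j * (m - 1), by simp⟩ ⟨i * (n - 1), 0, by simp⟩

theorem card_closure_pair_le (h : b * a * b⁻¹ = a ^ k) {n m : ℕ} (hn : a ^ n = 1) (hn0 : 0 < n)
    (hm : b ^ m = 1) (hm0 : 0 < m) : Nat.card (Subgroup.closure {a, b}) ≤ n * m := by
  haveI : NeZero n := ⟨hn0.ne'⟩
  haveI : NeZero m := ⟨hm0.ne'⟩
  have ha : a ∈ Subgroup.closure {a, b} := Subgroup.subset_closure (by simp)
  have hb : b ∈ Subgroup.closure {a, b} := Subgroup.subset_closure (by simp)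
  let f : Fin n × Fin m → Subgroup.closure {a, b} := fun ij =>
    ⟨a ^ (ij.1 : ℕ) * b ^ (ij.2 : ℕ),
      Subgroup.mul_mem _ (Subgroup.pow_mem _ ha _) (Subgroup.pow_mem _ hb _)⟩
  have hf : Function.Surjective f := by
    rintro ⟨g, hg⟩
    obtain ⟨i, j, rfl⟩ := mem_closure_pair_nf h hn hn0 hm hm0 hg
    refine ⟨(⟨i % n, Nat.mod_lt _ hn0⟩, ⟨j % m, Nat.mod_lt _ hm0⟩), ?_⟩
    apply Subtype.ext
    show a ^ (i % n) * b ^ (j % m) = a ^ i * b ^ j
    rw [← pow_eq_pow_mod i hn, ← pow_eq_pow_mod j hm]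
  have := Nat.card_le_card_of_surjective f hf
  rw [Nat.card_prod, Nat.card_fin, Nat.card_fin] at this
  exact this

end PairNF

section InvertedPair

variable {Γ G : Type*} [Group Γ] [Group G] (σ : Γ →* G)

theorem comm_pow_left_of_central {X Y : Γ} (hc : ⁅X, Y⁆ ∈ Subgroup.center Γ) (n : ℕ) :
    ⁅X ^ n, Y⁆ = ⁅X, Y⁆ ^ n := by
  induction n with
  | zero => simp
  | succ n ih =>
    have hcn : ⁅X ^ n, Y⁆ ∈ Subgroup.center Γ := by rw [ih]; exact Subgroup.pow_mem _ hc n
    rw [pow_succ' X, comm_mul_left_of_commute (Subgroup.mem_center_iff.mp hcn X), ih, pow_succ]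

/-- the preimage of an abelian subgroup generated by `x, y`, where some element inverts `x` and
centralises `y` and `x` has odd order, is abelian -/
theorem comm_comap_trivial_of_inverted_pair (hsurj : Function.Surjective σ)
    (hcen : σ.ker ≤ Subgroup.center Γ) (x y t : G) (hxy : x * y = y * x) (n : ℕ) (hn : Odd n)
    (hxn : x ^ n = 1) (htx : t * x * t⁻¹ = x⁻¹) (hty : t * y * t⁻¹ = y) :
    ∀ w ∈ ⁅(Subgroup.closure {x, y}).comap σ, (Subgroup.closure {x, y}).comap σ⁆, w = 1 := by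
  obtain ⟨X, hX⟩ := hsurj x
  obtain ⟨Y, hY⟩ := hsurj y
  obtain ⟨T, hT⟩ := hsurj t
  have hcc : ⁅X, Y⁆ ∈ Subgroup.center Γ := by
    apply hcen
    rw [MonoidHom.mem_ker, map_commutatorElement, hX, hY, commutatorElement_eq_one_iff_mul_comm]
    exact hxy
  have hcomm := Subgroup.mem_center_iff.mp hcc
  -- c ^ n = 1
  have hcn : ⁅X, Y⁆ ^ n = 1 := by
    rw [← comm_pow_left_of_central hcc, commutatorElement_eq_one_iff_mul_comm]
    have : X ^ n ∈ Subgroup.center Γ := hcen (by rw [MonoidHom.mem_ker, map_pow, hX, hxn])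
    exact (Subgroup.mem_center_iff.mp this Y).symm
  -- c = c⁻¹
  have hinv : ⁅X⁻¹, Y⁆ = ⁅X, Y⁆⁻¹ := by
    have h1 := comm_mul_left_of_commute (x := X⁻¹) (x' := X) (y := Y) (hcomm X⁻¹)
    rw [inv_mul_cancel] at h1
    have h2 : ⁅(1 : Γ), Y⁆ = 1 := by simp
    rw [h2] at h1
    exact eq_inv_of_mul_eq_one_right h1.symm
  have hconj : T * ⁅X, Y⁆ * T⁻¹ = ⁅X⁻¹, Y⁆ := by
    rw [conj_comm_eq]
    apply comm_eq_of_map_eq σ hcen
    · rw [map_mul, map_mul, map_inv, map_inv, hT, hX, htx]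
    · rw [map_mul, map_mul, map_inv, hT, hY, hty]
  have hc2 : ⁅X, Y⁆ = ⁅X, Y⁆⁻¹ := by
    rw [← hinv, ← hconj, hcomm T, mul_inv_cancel_right]
  have hc1 : ⁅X, Y⁆ = 1 := by
    obtain ⟨q, hq⟩ := hn
    have h2 : ⁅X, Y⁆ ^ 2 = 1 := by
      rw [pow_two]
      nth_rewrite 2 [hc2]
      exact mul_inv_cancel _
    rw [hq, pow_succ, pow_mul, h2, one_pow, one_mul] at hcn
    exact hcn
  have hXY : X * Y = Y * X := commutatorElement_eq_one_iff_mul_comm.mp hc1
  -- the commutative subgroup containing the preimage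
  have hcommS : ∀ g ∈ ({X, Y} ∪ (σ.ker : Set Γ) : Set Γ), ∀ h ∈ ({X, Y} ∪ (σ.ker : Set Γ) : Set Γ),
      g * h = h * g := by
    intro g hg h hh
    rcases hg with hg | hg
    · rcases hh with hh | hh
      · rcases hg with rfl | hg <;> rcases hh with rfl | hh
        · rfl
        · rw [Set.mem_singleton_iff] at hh; subst hh; exact hXY
        · rw [Set.mem_singleton_iff] at hg; subst hg; exact hXY.symm
        · rw [Set.mem_singleton_iff] at hg hh; subst hg; subst hh; rfl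
      · exact Subgroup.mem_center_iff.mp (hcen hh) g
    · exact (Subgroup.mem_center_iff.mp (hcen hg) h).symm
  have hmc := Subgroup.isMulCommutative_closure hcommS
  have hle : (Subgroup.closure {x, y}).comap σ ≤
      Subgroup.closure ({X, Y} ∪ (σ.ker : Set Γ)) := by
    intro g hg
    rw [Subgroup.mem_comap] at hg
    have h1 : σ g ∈ (Subgroup.closure {X, Y}).map σ := by
      rw [MonoidHom.map_closure, Set.image_pair, hX, hY]
      exact hg
    obtain ⟨w, hw, hwg⟩ := h1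
    have h2 : g = w * (w⁻¹ * g) := by group
    rw [h2]
    apply Subgroup.mul_mem
    · exact Subgroup.closure_mono Set.subset_union_left hw
    · apply Subgroup.subset_closure
      right
      show w⁻¹ * g ∈ σ.ker
      rw [MonoidHom.mem_ker, map_mul, map_inv, hwg, inv_mul_cancel]
  have hbot : ⁅(Subgroup.closure {x, y}).comap σ, (Subgroup.closure {x, y}).comap σ⁆ = ⊥ := by
    rw [eq_bot_iff, Subgroup.commutator_le]
    intro g₁ h₁ g₂ h₂
    rw [Subgroup.mem_bot, commutatorElement_eq_one_iff_mul_comm]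
    have := hmc.is_comm.comm ⟨g₁, hle h₁⟩ ⟨g₂, hle h₂⟩
    exact congrArg Subtype.val this
  intro w hw
  rw [hbot, Subgroup.mem_bot] at hw
  exact hw

end InvertedPair

section CyclicDerived

variable {H : Type*} [Group H]

theorem mem_normalizer_zpowers_of_conj {x u : H} (h1 : x * u * x⁻¹ ∈ Subgroup.zpowers u)
    (h2 : x⁻¹ * u * x ∈ Subgroup.zpowers u) :
    x ∈ Subgroup.normalizer ((Subgroup.zpowers u : Subgroup H) : Set H) := by
  rw [Subgroup.mem_set_normalizer_iff]
  intro h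
  constructor
  · intro hh
    obtain ⟨j, rfl⟩ := Subgroup.mem_zpowers_iff.mp hh
    show x * u ^ j * x⁻¹ ∈ Subgroup.zpowers u
    rw [← conj_zpow]
    exact Subgroup.zpow_mem _ h1 j
  · intro hh
    obtain ⟨j, hj⟩ := Subgroup.mem_zpowers_iff.mp hh
    have e : h = x⁻¹ * (x * h * x⁻¹) * x := by group
    show h ∈ Subgroup.zpowers u
    rw [e, ← hj]
    have e2 : x⁻¹ * u ^ j * x = (x⁻¹ * u * x) ^ j := by
      have := conj_zpow (a := x⁻¹) (b := u) (i := j)
      simpa using this.symm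
    rw [e2]
    exact Subgroup.zpow_mem _ h2 j

theorem zpowers_normal_of_gens (K : Subgroup H) (hKc : K ≤ Subgroup.center H) (a b u : H)
    (hgen : Subgroup.closure {a, b} ⊔ K = ⊤)
    (ha : a * u * a⁻¹ ∈ Subgroup.zpowers u) (ha' : a⁻¹ * u * a ∈ Subgroup.zpowers u)
    (hb : b * u * b⁻¹ ∈ Subgroup.zpowers u) (hb' : b⁻¹ * u * b ∈ Subgroup.zpowers u) :
    (Subgroup.zpowers u).Normal := by
  rw [← Subgroup.normalizer_eq_top_iff, eq_top_iff, ← hgen]
  apply sup_le
  · rw [Subgroup.closure_le]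
    intro x hx
    rcases hx with rfl | hx
    · exact mem_normalizer_zpowers_of_conj ha ha'
    · rw [Set.mem_singleton_iff] at hx
      subst hx
      exact mem_normalizer_zpowers_of_conj hb hb'
  · intro k hk
    have hkc : ∀ g : H, g * k = k * g := Subgroup.mem_center_iff.mp (hKc hk)
    apply mem_normalizer_zpowers_of_conj
    · have : k * u * k⁻¹ = u := by rw [← hkc u]; group
      rw [this]; exact Subgroup.mem_zpowers u
    · have : k⁻¹ * u * k = u := by rw [mul_assoc, hkc u]; group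
      rw [this]; exact Subgroup.mem_zpowers u

/-- if the generators commute modulo the normal cyclic subgroup `⟨u⟩`, the derived subgroup
lies in `⟨u⟩` -/
theorem derived_le_zpowers (K : Subgroup H) (hKc : K ≤ Subgroup.center H) (a b u : H)
    (hgen : Subgroup.closure {a, b} ⊔ K = ⊤) (hnorm : (Subgroup.zpowers u).Normal)
    (hab : ∃ w ∈ Subgroup.zpowers u, a * b = w * (b * a)) :
    commutator H ≤ Subgroup.zpowers u := by
  haveI := hnorm
  have hQcomm : ∀ x y : H ⧸ Subgroup.zpowers u, x * y = y * x := by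
    set π := QuotientGroup.mk' (Subgroup.zpowers u) with hπ
    set S : Set (H ⧸ Subgroup.zpowers u) := π '' ({a, b} ∪ (K : Set H)) with hS
    have hcl : Subgroup.closure S = ⊤ := by
      rw [hS, ← MonoidHom.map_closure, Subgroup.closure_union, Subgroup.closure_eq, hgen,
        Subgroup.map_top_of_surjective _ (QuotientGroup.mk'_surjective _)]
    have hab' : π a * π b = π b * π a := by
      obtain ⟨w, hw, hwab⟩ := hab
      have hπw : π w = 1 := by
        rw [hπ, QuotientGroup.mk'_apply, QuotientGroup.eq_one_iff]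
        exact hw
      rw [← map_mul, hwab, map_mul, hπw, one_mul, map_mul]
    have hcentral : ∀ k ∈ K, ∀ y : H, π k * π y = π y * π k := by
      intro k hk y
      have hkc : ∀ g : H, g * k = k * g := Subgroup.mem_center_iff.mp (hKc hk)
      rw [← map_mul, ← map_mul, hkc y]
    have hcomm : ∀ x ∈ S, ∀ y ∈ S, x * y = y * x := by
      rintro _ ⟨x, hx, rfl⟩ _ ⟨y, hy, rfl⟩
      rcases hx with hx | hx
      · rcases hy with hy | hy
        · rcases hx with rfl | hx <;> rcases hy with rfl | hy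
          · rfl
          · rw [Set.mem_singleton_iff] at hy; subst hy; exact hab'
          · rw [Set.mem_singleton_iff] at hx; subst hx; exact hab'.symm
          · rw [Set.mem_singleton_iff] at hx hy; subst hx; subst hy; rfl
        · exact (hcentral y hy x).symm
      · exact hcentral x hx y
    have hmc := Subgroup.isMulCommutative_closure hcomm
    rw [hcl] at hmc
    intro x y
    have := hmc.is_comm.comm ⟨x, trivial⟩ ⟨y, trivial⟩
    exact congrArg Subtype.val this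
  rw [commutator_def, Subgroup.commutator_le]
  intro g1 _ g2 _
  rw [← QuotientGroup.eq_one_iff, commutatorElement_def]
  simp only [QuotientGroup.mk_mul, QuotientGroup.mk_inv]
  rw [hQcomm (g1 : H ⧸ Subgroup.zpowers u) (g2 : H ⧸ Subgroup.zpowers u)]
  group

/-- semidihedral-type relations `b a b⁻¹ ≡ a ^ 3`, `b ^ 2 ≡ 1` modulo a central subgroup `K`:
the derived subgroup is generated by an element `u ≡ a ^ 2` with `u ^ 4 = 1` -/
theorem sd_core (K : Subgroup H) (hKc : K ≤ Subgroup.center H) (a b : H)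
    (hgen : Subgroup.closure {a, b} ⊔ K = ⊤) (hz : b * a * b⁻¹ * (a ^ 3)⁻¹ ∈ K)
    (hb2 : b ^ 2 ∈ K) :
    ∃ u : H, u ^ 4 = 1 ∧ u * (a ^ 2)⁻¹ ∈ K ∧ commutator H ≤ Subgroup.zpowers u := by
  set z := b * a * b⁻¹ * (a ^ 3)⁻¹ with hzdef
  have hzc : ∀ g : H, g * z = z * g := Subgroup.mem_center_iff.mp (hKc hz)
  have hZ : ∀ g : H, Commute z g := fun g => (hzc g).symm
  have hbc : ∀ g : H, g * b ^ 2 = b ^ 2 * g := Subgroup.mem_center_iff.mp (hKc hb2)
  have hconj : b * a * b⁻¹ = z * a ^ 3 := by rw [hzdef]; group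
  have hconjpow : ∀ l : ℕ, b * a ^ l * b⁻¹ = z ^ l * a ^ (3 * l) := by
    intro l
    rw [← conj_pow, hconj, (hZ (a ^ 3)).mul_pow, ← pow_mul]
  refine ⟨z * a ^ 2, ?_, ?_, ?_⟩
  · -- u ^ 4 = 1
    have h1 : b ^ 2 * a * (b ^ 2)⁻¹ = a := by rw [← hbc a]; group
    have h2 : b ^ 2 * a * (b ^ 2)⁻¹ = z ^ 4 * a ^ 9 := by
      calc b ^ 2 * a * (b ^ 2)⁻¹ = b * (b * a * b⁻¹) * b⁻¹ := by rw [pow_two]; group
        _ = b * (z * a ^ 3) * b⁻¹ := by rw [hconj]
        _ = (b * z) * a ^ 3 * b⁻¹ := by group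
        _ = (z * b) * a ^ 3 * b⁻¹ := by rw [hzc b]
        _ = z * (b * a ^ 3 * b⁻¹) := by group
        _ = z * (z ^ 3 * a ^ (3 * 3)) := by rw [hconjpow 3]
        _ = z ^ 4 * a ^ 9 := by rw [← mul_assoc, ← pow_succ']
    rw [h1] at h2
    have h3 : z ^ 4 * a ^ 8 = 1 := by
      have : z ^ 4 * a ^ 8 = (z ^ 4 * a ^ 9) * a⁻¹ := by
        rw [mul_assoc]; congr 1; rw [pow_succ a 8]; group
      rw [this, ← h2, mul_inv_cancel]
    rw [(hZ (a ^ 2)).mul_pow, ← pow_mul]
    exact h3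
  · have : z * a ^ 2 * (a ^ 2)⁻¹ = z := by group
    rw [this]; exact hz
  · have hu3 : b * (z * a ^ 2) * b⁻¹ = (z * a ^ 2) ^ 3 := by
      calc b * (z * a ^ 2) * b⁻¹ = (b * z) * a ^ 2 * b⁻¹ := by group
        _ = (z * b) * a ^ 2 * b⁻¹ := by rw [hzc b]
        _ = z * (b * a ^ 2 * b⁻¹) := by group
        _ = z * (z ^ 2 * a ^ (3 * 2)) := by rw [hconjpow 2]
        _ = z ^ 3 * a ^ 6 := by rw [← mul_assoc, ← pow_succ']
        _ = (z * a ^ 2) ^ 3 := by rw [(hZ (a ^ 2)).mul_pow, ← pow_mul]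
    have hua : a * (z * a ^ 2) * a⁻¹ = z * a ^ 2 := by
      calc a * (z * a ^ 2) * a⁻¹ = (a * z) * a ^ 2 * a⁻¹ := by group
        _ = (z * a) * a ^ 2 * a⁻¹ := by rw [hzc a]
        _ = z * a ^ 2 := by group
    have hua' : a⁻¹ * (z * a ^ 2) * a = z * a ^ 2 := by
      calc a⁻¹ * (z * a ^ 2) * a = (a⁻¹ * z) * a ^ 2 * a := by group
        _ = (z * a⁻¹) * a ^ 2 * a := by rw [hzc a⁻¹]
        _ = z * a ^ 2 := by group
    have hu3' : b⁻¹ * (z * a ^ 2) * b = (z * a ^ 2) ^ 3 := by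
      have e : b⁻¹ * (z * a ^ 2) * b = (b ^ 2)⁻¹ * (b * (z * a ^ 2) * b⁻¹) * b ^ 2 := by
        rw [pow_two b]; group
      rw [e, hu3, mul_assoc, hbc]
      group
    have hnorm : (Subgroup.zpowers (z * a ^ 2)).Normal := by
      apply zpowers_normal_of_gens K hKc a b (z * a ^ 2) hgen
      · rw [hua]; exact Subgroup.mem_zpowers _
      · rw [hua']; exact Subgroup.mem_zpowers _
      · rw [hu3]; exact Subgroup.pow_mem _ (Subgroup.mem_zpowers _) 3
      · rw [hu3']; exact Subgroup.pow_mem _ (Subgroup.mem_zpowers _) 3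
    apply derived_le_zpowers K hKc a b (z * a ^ 2) hgen hnorm
    refine ⟨(z * a ^ 2)⁻¹, Subgroup.inv_mem _ (Subgroup.mem_zpowers _), ?_⟩
    have e1 : b * a = z * a ^ 3 * b := by rw [← hconj]; group
    rw [e1]
    group

end CyclicDerived

section SDExt

/-- central extensions of a semidihedral group of order 16 -/
theorem sd_central_comm_trivial {E Q : Type*} [Group E] [Group Q] (τ : E →* Q)
    (hsurj : Function.Surjective τ) (hc : τ.ker ≤ Subgroup.center E) (a' b' : Q)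
    (hgenQ : Subgroup.closure {a', b'} = ⊤) (hrel : b' * a' * b'⁻¹ = a' ^ 3) (hb2 : b' ^ 2 = 1)
    (hord : ∀ j : ℤ, a' ^ (2 * j) = 1 → (4 : ℤ) ∣ j) :
    ∀ w ∈ commutator E, τ w = 1 → w = 1 := by
  obtain ⟨a, ha⟩ := hsurj a'
  obtain ⟨b, hb⟩ := hsurj b'
  have hgenD : Subgroup.closure {τ a, τ b} = ⊤ := by rw [ha, hb]; exact hgenQ
  have hgen := Cfsg.Agent.Lib.Helper21.gen_lift τ a b hgenD
  have hz : b * a * b⁻¹ * (a ^ 3)⁻¹ ∈ τ.ker := by
    rw [MonoidHom.mem_ker, map_mul, map_mul, map_mul, map_inv, map_inv, map_pow, ha, hb, hrel,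
      mul_inv_cancel]
  have hb2' : b ^ 2 ∈ τ.ker := by
    rw [MonoidHom.mem_ker, map_pow, hb, hb2]
  obtain ⟨u, hu4, huK, hcomm⟩ := sd_core τ.ker hc a b hgen hz hb2'
  have hτu : τ u = a' ^ 2 := by
    rw [MonoidHom.mem_ker, map_mul, map_inv, map_pow, ha, mul_inv_eq_one] at huK
    exact huK
  intro w hw hw1
  obtain ⟨j, hj⟩ := Subgroup.mem_zpowers_iff.mp (hcomm hw)
  have h1 : a' ^ (2 * j) = 1 := by
    rw [zpow_mul, zpow_ofNat, ← hτu, ← map_zpow, hj, hw1]
  obtain ⟨t, ht⟩ := hord j h1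
  rw [← hj, ht, zpow_mul, zpow_ofNat, hu4, one_zpow]

variable {Γ G : Type*} [Group Γ] [Group G] (σ : Γ →* G)

/-- preimages of semidihedral subgroups of order 16 under a central extension -/
theorem comm_comap_trivial_of_sd (hsurj : Function.Surjective σ)
    (hcen : σ.ker ≤ Subgroup.center Γ) (a' b' : G) (hrel : b' * a' * b'⁻¹ = a' ^ 3)
    (hb2 : b' ^ 2 = 1) (hord : orderOf a' = 8) :
    ∀ w ∈ ⁅(Subgroup.closure {a', b'}).comap σ, (Subgroup.closure {a', b'}).comap σ⁆,
      σ w = 1 → w = 1 := by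
  intro w hw hw1
  rw [← Subgroup.map_subtype_commutator] at hw
  obtain ⟨w', hw', rfl⟩ := hw
  have ha'mem : a' ∈ Subgroup.closure {a', b'} := Subgroup.subset_closure (by simp)
  have hb'mem : b' ∈ Subgroup.closure {a', b'} := Subgroup.subset_closure (by simp)
  have hτs : Function.Surjective (σ.subgroupComap (Subgroup.closure {a', b'})) :=
    σ.subgroupComap_surjective_of_surjective _ hsurj
  have hker : (σ.subgroupComap (Subgroup.closure {a', b'})).ker ≤
      Subgroup.center ((Subgroup.closure {a', b'}).comap σ) := by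
    intro x hx
    rw [MonoidHom.mem_ker] at hx
    have hx' : σ (x : Γ) = 1 := congrArg Subtype.val hx
    have hc : (x : Γ) ∈ Subgroup.center Γ := hcen (MonoidHom.mem_ker.2 hx')
    rw [Subgroup.mem_center_iff]
    intro g
    apply Subtype.ext
    exact Subgroup.mem_center_iff.1 hc g
  have hgenQ : Subgroup.closure {(⟨a', ha'mem⟩ : Subgroup.closure {a', b'}), ⟨b', hb'mem⟩} = ⊤ := by
    have h0 := Subgroup.closure_closure_coe_preimage (k := ({a', b'} : Set G))
    have hset : (((↑) : Subgroup.closure {a', b'} → G) ⁻¹' ({a', b'} : Set G)) =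
        {(⟨a', ha'mem⟩ : Subgroup.closure {a', b'}), ⟨b', hb'mem⟩} := by
      ext ⟨g, hg⟩
      simp [Subtype.ext_iff]
    rw [hset] at h0
    exact h0
  have h1 : (σ.subgroupComap (Subgroup.closure {a', b'})) w' = 1 := Subtype.ext hw1
  have := sd_central_comm_trivial _ hτs hker ⟨a', ha'mem⟩ ⟨b', hb'mem⟩ hgenQ
    (Subtype.ext hrel) (Subtype.ext hb2) ?_ w' hw' h1
  · rw [this]; rfl
  · intro j hj
    have hj' : a' ^ (2 * j) = 1 := by
      have := congrArg Subtype.val hj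
      simpa using this
    have hd : ((orderOf a' : ℕ) : ℤ) ∣ 2 * j := orderOf_dvd_iff_zpow_eq_one.mpr hj'
    rw [hord] at hd
    have : ((8 : ℕ) : ℤ) = 2 * 4 := by norm_num
    rw [this] at hd
    exact Int.dvd_of_mul_dvd_mul_left (by norm_num) hd

end SDExt

end Cfsg.Agent.Lib.helper3
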