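import Mathlib
import Cfsg.Prelude.Def_KGroupFacts

set_option autoImplicit false

/-!
Stem extensions from presentations: if `G` is given by generators and relators, and elements of a
group `M` satisfy the relators up to powers of an element `ζ` commuting with them, then the
subgroup of `M × G` generated by the pairs is a central extension of `G` with cyclic kernel.
-/

namespace Cfsg.Agent.Lib.helper3

open Cfsg

section PresCover

universe u

variable {G : Type u} [Group G] {ι : Type} (rels : Set (FreeGroup ι))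
  (e : PresentedGroup rels ≃* G) {M : Type} [Group M] (m : ι → M)

/-- the generators of the cover -/
def pcGen (i : ι) : M × G := (m i, e (PresentedGroup.of i))

/-- the homomorphism from the free group -/
def pcHom : FreeGroup ι →* M × G := FreeGroup.lift (pcGen rels e m)

/-- the cover as a subgroup of the product -/
def pcGroup : Subgroup (M × G) := (pcHom rels e m).range

/-- the projection of the cover to `G` -/
def pcProj : ↥(pcGroup rels e m) →* G := (MonoidHom.snd M G).comp (pcGroup rels e m).subtype

theorem pcHom_fst (w : FreeGroup ι) : (pcHom rels e m w).1 = FreeGroup.lift m w := by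
  have h : (MonoidHom.fst M G).comp (pcHom rels e m) = FreeGroup.lift m := by
    apply FreeGroup.ext_hom
    intro i
    simp [pcHom, pcGen]
  exact DFunLike.congr_fun h w

theorem pcHom_snd (w : FreeGroup ι) :
    (pcHom rels e m w).2 = e (PresentedGroup.mk rels w) := by
  have h : (MonoidHom.snd M G).comp (pcHom rels e m) =
      e.toMonoidHom.comp (PresentedGroup.mk rels) := by
    apply FreeGroup.ext_hom
    intro i
    simp [pcHom, pcGen, PresentedGroup.of]
  exact DFunLike.congr_fun h w

theorem pcProj_surjective : Function.Surjective (pcProj rels e m) := by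
  intro x
  obtain ⟨w, hw⟩ := QuotientGroup.mk'_surjective (Subgroup.normalClosure rels) (e.symm x)
  refine ⟨⟨pcHom rels e m w, w, rfl⟩, ?_⟩
  show (pcHom rels e m w).2 = x
  rw [pcHom_snd]
  have : PresentedGroup.mk rels w = e.symm x := hw
  rw [this, MulEquiv.apply_symm_apply]

theorem pcProj_apply (x : ↥(pcGroup rels e m)) : pcProj rels e m x = x.1.2 := rfl

variable (ζ : M) (hcomm : ∀ i, Commute ζ (m i))
  (hrel : ∀ r ∈ rels, FreeGroup.lift m r ∈ Subgroup.zpowers ζ)

include hcomm in
theorem pc_commute_lift (w : FreeGroup ι) : Commute ζ (FreeGroup.lift m w) := by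
  induction w using FreeGroup.induction_on with
  | C1 => simp
  | of i => simpa using hcomm i
  | inv_of i ih => simpa using ih.inv_right
  | mul x y hx hy => rw [map_mul]; exact hx.mul_right hy

include hcomm hrel in
theorem pc_lift_mem_of_mk_eq_one (w : FreeGroup ι) (hw : PresentedGroup.mk rels w = 1) :
    FreeGroup.lift m w ∈ Subgroup.zpowers ζ := by
  have hw' : w ∈ Subgroup.normalClosure rels := by
    rw [← QuotientGroup.eq_one_iff]
    exact hw
  let N : Subgroup (FreeGroup ι) := (Subgroup.zpowers ζ).comap (FreeGroup.lift m)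
  haveI : N.Normal := by
    constructor
    intro n hn g
    show FreeGroup.lift m (g * n * g⁻¹) ∈ Subgroup.zpowers ζ
    have hn' : FreeGroup.lift m n ∈ Subgroup.zpowers ζ := hn
    obtain ⟨j, hj⟩ := Subgroup.mem_zpowers_iff.1 hn'
    have hc : Commute (FreeGroup.lift m n) (FreeGroup.lift m g) := by
      rw [← hj]
      exact (pc_commute_lift m ζ hcomm g).zpow_left j
    rw [map_mul, map_mul, map_inv, ← hc.eq, mul_assoc, mul_inv_cancel, mul_one]
    exact hn'
  have hle : Subgroup.normalClosure rels ≤ N :=
    Subgroup.normalClosure_le_normal (fun r hr => hrel r hr)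
  exact hle hw'

include hcomm hrel in
/-- the kernel of the projection consists of the pairs `(ζ ^ j, 1)` -/
theorem pc_ker_fst_mem (x : ↥(pcGroup rels e m)) (hx : x ∈ (pcProj rels e m).ker) :
    x.1.1 ∈ Subgroup.zpowers ζ := by
  obtain ⟨w, hw⟩ := x.2
  rw [MonoidHom.mem_ker, pcProj_apply, ← hw, pcHom_snd] at hx
  rw [← hw, pcHom_fst]
  apply pc_lift_mem_of_mk_eq_one rels m ζ hcomm hrel
  exact (MulEquiv.map_eq_one_iff e).1 hx

include hcomm hrel in
theorem pc_ker_le_center : (pcProj rels e m).ker ≤ Subgroup.center ↥(pcGroup rels e m) := by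
  intro x hx
  rw [Subgroup.mem_center_iff]
  intro y
  have h1 := pc_ker_fst_mem rels e m ζ hcomm hrel x hx
  obtain ⟨j, hj⟩ := Subgroup.mem_zpowers_iff.1 h1
  have hx2 : x.1.2 = 1 := hx
  obtain ⟨w, hw⟩ := y.2
  apply Subtype.ext
  apply Prod.ext
  · show y.1.1 * x.1.1 = x.1.1 * y.1.1
    rw [← hj, ← hw, pcHom_fst]
    exact ((pc_commute_lift m ζ hcomm w).zpow_left j).eq.symm
  · show y.1.2 * x.1.2 = x.1.2 * y.1.2
    rw [hx2, mul_one, one_mul]

variable (u : FreeGroup ι) (hu : u ∈ commutator (FreeGroup ι))
  (hu1 : PresentedGroup.mk rels u = 1) (huζ : FreeGroup.lift m u = ζ)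

/-- the generator of the kernel -/
def pcZ : ↥(pcGroup rels e m) := ⟨pcHom rels e m u, u, rfl⟩

include hu1 in
theorem pcZ_mem_ker : pcZ rels e m u ∈ (pcProj rels e m).ker := by
  rw [MonoidHom.mem_ker, pcProj_apply]
  show (pcHom rels e m u).2 = 1
  rw [pcHom_snd, hu1, map_one]

include hu in
theorem pcZ_mem_commutator : pcZ rels e m u ∈ commutator ↥(pcGroup rels e m) := by
  have h1 : pcZ rels e m u = (pcHom rels e m).rangeRestrict u := rfl
  rw [h1]
  have h2 : (pcHom rels e m).rangeRestrict u ∈
      (commutator (FreeGroup ι)).map (pcHom rels e m).rangeRestrict :=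
    Subgroup.mem_map_of_mem _ hu
  rw [commutator_def, Subgroup.map_commutator] at h2
  exact Subgroup.commutator_mono le_top le_top h2

include hcomm hrel hu1 huζ in
theorem pc_ker_eq_zpowers :
    (pcProj rels e m).ker = Subgroup.zpowers (pcZ rels e m u) := by
  apply le_antisymm
  · intro x hx
    have h1 := pc_ker_fst_mem rels e m ζ hcomm hrel x hx
    obtain ⟨j, hj⟩ := Subgroup.mem_zpowers_iff.1 h1
    refine Subgroup.mem_zpowers_iff.2 ⟨j, ?_⟩
    apply Subtype.ext
    apply Prod.ext
    · show ((pcZ rels e m u ^ j : ↥(pcGroup rels e m)) : M × G).1 = x.1.1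
      rw [Subgroup.coe_zpow, Prod.pow_fst]
      show (pcHom rels e m u).1 ^ j = x.1.1
      rw [pcHom_fst, huζ, hj]
    · show ((pcZ rels e m u ^ j : ↥(pcGroup rels e m)) : M × G).2 = x.1.2
      rw [Subgroup.coe_zpow, Prod.pow_snd]
      show (pcHom rels e m u).2 ^ j = x.1.2
      have hx2 : x.1.2 = 1 := hx
      rw [pcHom_snd, hu1, map_one, one_zpow, hx2]
  · rw [Subgroup.zpowers_le]
    exact pcZ_mem_ker rels e m u hu1

include hu1 huζ in
theorem orderOf_pcZ : orderOf (pcZ rels e m u) = orderOf ζ := by
  have h1 : orderOf (pcZ rels e m u) = orderOf ((pcZ rels e m u : ↥(pcGroup rels e m)) : M × G) :=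
    (Subgroup.orderOf_coe _).symm
  rw [h1]
  have h2 : ((pcZ rels e m u : ↥(pcGroup rels e m)) : M × G) = (ζ, 1) := by
    apply Prod.ext
    · show (pcHom rels e m u).1 = ζ
      rw [pcHom_fst, huζ]
    · show (pcHom rels e m u).2 = 1
      rw [pcHom_snd, hu1, map_one]
  rw [h2, Prod.orderOf_mk, orderOf_one, Nat.lcm_one_right]

include e hcomm hrel hu hu1 huζ in
/-- the cover is a stem extension with cyclic kernel of order the order of `ζ` -/
theorem pc_stem [Finite M] [Finite G] (k : ℕ) (hk : orderOf ζ = k) :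
    ∃ (Γ : Type u) (_ : Group Γ) (_ : Finite Γ) (σ : Γ →* G),
      IsStemExtension σ ∧ Nonempty (σ.ker ≃* Multiplicative (ZMod k)) := by
  refine ⟨↥(pcGroup rels e m), inferInstance, inferInstance, pcProj rels e m,
    ⟨pcProj_surjective rels e m, pc_ker_le_center rels e m ζ hcomm hrel, ?_⟩, ?_⟩
  · rw [pc_ker_eq_zpowers rels e m ζ hcomm hrel u hu1 huζ, Subgroup.zpowers_le]
    exact pcZ_mem_commutator rels e m u hu
  · have hker := pc_ker_eq_zpowers rels e m ζ hcomm hrel u hu1 huζ
    have hcyc : IsCyclic ↥(pcProj rels e m).ker := by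
      rw [hker]
      infer_instance
    have hcard : Nat.card ↥(pcProj rels e m).ker = k := by
      rw [hker, Nat.card_zpowers, orderOf_pcZ rels e m ζ u hu1 huζ, hk]
    have e2 := zmodCyclicMulEquiv hcyc
    rw [hcard] at e2
    exact ⟨e2.symm⟩

end PresCover

end Cfsg.Agent.Lib.helper3
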