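import Mathlib
import Cfsg.Prelude.Def_KGroupFacts
import Cfsg.Agent.Lib.helper3.PresCover

set_option autoImplicit false

/-!
Pulling back a stem extension of `G₀` with kernel of odd order along a central quotient map
`S → G₀` whose kernel has exponent two gives a stem extension of `S` with the same kernel.
-/

namespace Cfsg.Agent.Lib.helper3

open Cfsg
open scoped commutatorElement

theorem coe_commElt {G : Type*} [Group G] (H : Subgroup G) (a b : H) :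
    ((⁅a, b⁆ : H) : G) = ⁅(a : G), (b : G)⁆ := map_commutatorElement H.subtype a b

section PresCoverComm

universe u

variable {G : Type u} [Group G] {ι : Type} (rels : Set (FreeGroup ι))
  (e : PresentedGroup rels ≃* G) {M : Type} [Group M] (m : ι → M)

/-- the element of the cover given by a word -/
def pcElt (w : FreeGroup ι) : ↥(pcGroup rels e m) := ⟨pcHom rels e m w, w, rfl⟩

theorem pcProj_pcElt (w : FreeGroup ι) :
    pcProj rels e m (pcElt rels e m w) = e (PresentedGroup.mk rels w) := by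
  rw [pcProj_apply]
  exact pcHom_snd rels e m w

theorem pcZ_comm_eq (wx wy : FreeGroup ι) :
    pcZ rels e m ⁅wx, wy⁆ = ⁅pcElt rels e m wx, pcElt rels e m wy⁆ := by
  apply Subtype.ext
  rw [coe_commElt]
  show pcHom rels e m ⁅wx, wy⁆ = ⁅pcHom rels e m wx, pcHom rels e m wy⁆
  rw [map_commutatorElement]

end PresCoverComm

section Pullback

universe u

variable {Γ₀ : Type} {G₀ : Type} {S : Type u} [Group Γ₀] [Group G₀] [Group S]
  (σ₀ : Γ₀ →* G₀) (ρ : S →* G₀)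

/-- the pullback of two homomorphisms -/
def pbGroup : Subgroup (Γ₀ × S) :=
  MonoidHom.eqLocus (σ₀.comp (MonoidHom.fst Γ₀ S)) (ρ.comp (MonoidHom.snd Γ₀ S))

theorem mem_pbGroup (z : Γ₀ × S) : z ∈ pbGroup σ₀ ρ ↔ σ₀ z.1 = ρ z.2 := Iff.rfl

/-- the projection of the pullback to the second factor -/
def pbProj : ↥(pbGroup σ₀ ρ) →* S := (MonoidHom.snd Γ₀ S).comp (pbGroup σ₀ ρ).subtype

theorem pbProj_apply (z : ↥(pbGroup σ₀ ρ)) : pbProj σ₀ ρ z = z.1.2 := rfl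

theorem pbProj_surjective (hσ₀ : Function.Surjective σ₀) : Function.Surjective (pbProj σ₀ ρ) := by
  intro s
  obtain ⟨γ, hγ⟩ := hσ₀ (ρ s)
  exact ⟨⟨(γ, s), hγ⟩, rfl⟩

theorem pb_ker_fst_mem (z : ↥(pbGroup σ₀ ρ)) (hz : z ∈ (pbProj σ₀ ρ).ker) : z.1.1 ∈ σ₀.ker := by
  have h1 : z.1.2 = 1 := hz
  have h2 : σ₀ z.1.1 = ρ z.1.2 := z.2
  rw [MonoidHom.mem_ker, h2, h1, map_one]

theorem pb_ker_le_center (hcen₀ : σ₀.ker ≤ Subgroup.center Γ₀) :
    (pbProj σ₀ ρ).ker ≤ Subgroup.center ↥(pbGroup σ₀ ρ) := by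
  intro z hz
  have h1 : z.1.2 = 1 := hz
  have h2 := Subgroup.mem_center_iff.mp (hcen₀ (pb_ker_fst_mem σ₀ ρ z hz))
  rw [Subgroup.mem_center_iff]
  intro g
  apply Subtype.ext
  apply Prod.ext
  · show g.1.1 * z.1.1 = z.1.1 * g.1.1
    exact h2 g.1.1
  · show g.1.2 * z.1.2 = z.1.2 * g.1.2
    rw [h1, mul_one, one_mul]

/-- a lift of order dividing `p` of an element of order dividing `p`, `p` odd -/
theorem exists_lift_pow_eq_one (hρ : Function.Surjective ρ) (hρ2 : ∀ c ∈ ρ.ker, c ^ 2 = 1)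
    (p : ℕ) (hp : Odd p) (g : G₀) (hg : g ^ p = 1) : ∃ s : S, ρ s = g ∧ s ^ p = 1 := by
  obtain ⟨s, hs⟩ := hρ g
  have hk : s ^ p ∈ ρ.ker := by rw [MonoidHom.mem_ker, map_pow, hs, hg]
  have h2 := hρ2 _ hk
  obtain ⟨q, hq⟩ := hp
  refine ⟨s ^ (p + 1), ?_, ?_⟩
  · rw [map_pow, hs, pow_succ, hg, one_mul]
  · rw [← pow_mul, mul_comm, pow_mul]
    have : p + 1 = 2 * (q + 1) := by omega
    rw [this, pow_mul, h2, one_pow]

/-- lifts of order dividing an odd `p` of two commuting elements commute -/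
theorem comm_lift_eq_one (hρker : ρ.ker ≤ Subgroup.center S) (hρ2 : ∀ c ∈ ρ.ker, c ^ 2 = 1)
    (p : ℕ) (hp : Odd p) (s1 s2 : S) (h2 : s2 ^ p = 1) (hc : ⁅s1, s2⁆ ∈ ρ.ker) :
    ⁅s1, s2⁆ = 1 := by
  have hcc := Subgroup.mem_center_iff.mp (hρker hc)
  have hc2 := hρ2 _ hc
  have hconj : s1 * s2 * s1⁻¹ = ⁅s1, s2⁆ * s2 := by
    rw [commutatorElement_def]; group
  have h3 : (⁅s1, s2⁆ * s2) ^ p = 1 := by
    rw [← hconj, conj_pow, h2, mul_one, mul_inv_cancel]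
  have hcomm : Commute ⁅s1, s2⁆ s2 := (hcc s2).symm
  rw [hcomm.mul_pow, h2, mul_one] at h3
  obtain ⟨q, hq⟩ := hp
  rw [hq, pow_succ, pow_mul, hc2, one_pow, one_mul] at h3
  exact h3

variable [Finite Γ₀] [Finite S]

/-- the pullback is a stem extension with cyclic kernel of the same order -/
theorem pb_stem (hσ₀ : Function.Surjective σ₀) (hcen₀ : σ₀.ker ≤ Subgroup.center Γ₀)
    (hρ : Function.Surjective ρ) (hρker : ρ.ker ≤ Subgroup.center S)
    (hρ2 : ∀ c ∈ ρ.ker, c ^ 2 = 1) (x y : Γ₀) (hgen : σ₀.ker = Subgroup.zpowers ⁅x, y⁆)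
    (p : ℕ) (hp : Odd p) (hx : (σ₀ x) ^ p = 1) (hy : (σ₀ y) ^ p = 1)
    (k : ℕ) (hk : orderOf ⁅x, y⁆ = k) :
    ∃ (Γ : Type u) (_ : Group Γ) (_ : Finite Γ) (σ : Γ →* S),
      IsStemExtension σ ∧ Nonempty (σ.ker ≃* Multiplicative (ZMod k)) := by
  obtain ⟨s1, hs1, hs1p⟩ := exists_lift_pow_eq_one ρ hρ hρ2 p hp (σ₀ x) hx
  obtain ⟨s2, hs2, hs2p⟩ := exists_lift_pow_eq_one ρ hρ hρ2 p hp (σ₀ y) hy
  have hxyker : ⁅x, y⁆ ∈ σ₀.ker := by rw [hgen]; exact Subgroup.mem_zpowers _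
  have hc : ⁅s1, s2⁆ ∈ ρ.ker := by
    rw [MonoidHom.mem_ker, map_commutatorElement, hs1, hs2, ← map_commutatorElement]
    exact hxyker
  have hc1 := comm_lift_eq_one ρ hρker hρ2 p hp s1 s2 hs2p hc
  -- the two elements of the pullback
  obtain ⟨X, hX⟩ : ∃ X : ↥(pbGroup σ₀ ρ), X.1 = (x, s1) := ⟨⟨(x, s1), hs1.symm⟩, rfl⟩
  obtain ⟨Y, hY⟩ : ∃ Y : ↥(pbGroup σ₀ ρ), Y.1 = (y, s2) := ⟨⟨(y, s2), hs2.symm⟩, rfl⟩
  have hXY : (⁅X, Y⁆ : ↥(pbGroup σ₀ ρ)).1 = (⁅x, y⁆, 1) := by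
    rw [coe_commElt, hX, hY]
    apply Prod.ext
    · rfl
    · exact hc1
  have hker : (pbProj σ₀ ρ).ker = Subgroup.zpowers ⁅X, Y⁆ := by
    apply le_antisymm
    · intro z hz
      have h1 := pb_ker_fst_mem σ₀ ρ z hz
      rw [hgen] at h1
      obtain ⟨j, hj⟩ := Subgroup.mem_zpowers_iff.mp h1
      refine Subgroup.mem_zpowers_iff.mpr ⟨j, ?_⟩
      apply Subtype.ext
      rw [Subgroup.coe_zpow, hXY]
      apply Prod.ext
      · show ⁅x, y⁆ ^ j = z.1.1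
        exact hj
      · show (1 : S) ^ j = z.1.2
        have h2 : z.1.2 = 1 := hz
        rw [h2, one_zpow]
    · rw [Subgroup.zpowers_le, MonoidHom.mem_ker, pbProj_apply, hXY]
  have hord : orderOf (⁅X, Y⁆ : ↥(pbGroup σ₀ ρ)) = k := by
    rw [← Subgroup.orderOf_coe, hXY, Prod.orderOf_mk, orderOf_one, Nat.lcm_one_right, hk]
  refine ⟨↥(pbGroup σ₀ ρ), inferInstance, inferInstance, pbProj σ₀ ρ,
    ⟨pbProj_surjective σ₀ ρ hσ₀, pb_ker_le_center σ₀ ρ hcen₀, ?_⟩, ?_⟩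
  · rw [hker, Subgroup.zpowers_le]
    exact Subgroup.commutator_mem_commutator (Subgroup.mem_top _) (Subgroup.mem_top _)
  · have hcyc : IsCyclic ↥(pbProj σ₀ ρ).ker := by
      rw [hker]
      infer_instance
    have hcard : Nat.card ↥(pbProj σ₀ ρ).ker = k := by
      rw [hker, Nat.card_zpowers, hord]
    have e2 := zmodCyclicMulEquiv hcyc
    rw [hcard] at e2
    exact ⟨e2.symm⟩

end Pullback

end Cfsg.Agent.Lib.helper3
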