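import Mathlib

set_option autoImplicit false

/-!
# Orbit counting lemmas used for subgroups of order 2520 of GL(4, 2)

* `card_modEq_fixed_of_prime_order`: a set invariant under an element of prime order `p` has
  cardinality congruent mod `p` to its number of fixed points;
* `card_orbit_pair_eq`: the orbit of a pair factorises;
* `even_card_orbit_of_swap`: if some group element exchanges `a` and `b ≠ a` and the orbit of `a`
  is odd, then the orbit of `b` under the stabiliser of `a` is even.
-/

namespace Cfsg.Agent.Lib.helper3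

open MulAction

section general

variable {G X : Type*} [Group G] [MulAction G X]

/-- A finite set invariant under an element of prime order `p` has cardinality congruent mod `p`
to its number of fixed points. -/
theorem card_modEq_fixed_of_prime_order (g : G) (p : ℕ) [hp : Fact p.Prime] (hg : g ^ p = 1)
    (S : Set X) [Finite S] (hS : ∀ x ∈ S, g • x ∈ S) :
    Nat.card S ≡ Nat.card {x : X // x ∈ S ∧ g • x = x} [MOD p] := by
  classical
  have := Fintype.ofFinite S
  let f : Function.End S := fun x => ⟨g • x.1, hS x.1 x.2⟩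
  have hit : ∀ (n : ℕ) (x : S), (f^[n] x).1 = g ^ n • x.1 := by
    intro n
    induction n with
    | zero => intro x; show x.1 = g ^ 0 • x.1; rw [pow_zero, one_smul]
    | succ n ih =>
      intro x
      rw [Function.iterate_succ_apply', pow_succ', mul_smul, ← ih]
  have hf : f ^ p ^ 1 = 1 := by
    rw [pow_one]
    have h1 : (f ^ p : S → S) = f^[p] :=
      hom_coe_pow (fun g : Function.End S ↦ (g : S → S)) rfl (fun g h ↦ rfl) f p
    funext x
    show (f ^ p) x = x
    rw [h1]
    apply Subtype.ext
    rw [hit, hg, one_smul]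
  have h2 := Equiv.Perm.card_fixedPoints_modEq (p := p) (n := 1) hf
  rw [Nat.card_eq_fintype_card]
  refine h2.trans ?_
  rw [← Nat.card_eq_fintype_card]
  have e : ↥(Function.fixedPoints f) ≃ {x : X // x ∈ S ∧ g • x = x} :=
    { toFun := fun x => ⟨x.1.1, x.1.2, congrArg Subtype.val x.2⟩
      invFun := fun x => ⟨⟨x.1, x.2.1⟩, Subtype.ext x.2.2⟩
      left_inv := fun x => rfl
      right_inv := fun x => rfl }
  rw [Nat.card_congr e]

theorem card_orbit_mul_card_stabilizer' [Finite G] (a : X) :
    Nat.card (orbit G a) * Nat.card (stabilizer G a) = Nat.card G := by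
  rw [← Nat.card_prod, Nat.card_congr (orbitProdStabilizerEquivGroup G a)]

/-- the orbit of a pair factorises -/
theorem card_orbit_pair_eq [Finite G] (a b : X) :
    Nat.card (orbit G (a, b)) =
      Nat.card (orbit G a) * Nat.card (orbit (stabilizer G a) b) := by
  have h1 := card_orbit_mul_card_stabilizer' (G := G) (a, b)
  have h2 := card_orbit_mul_card_stabilizer' (G := G) a
  have h3 := card_orbit_mul_card_stabilizer' (G := stabilizer G a) b
  have e : ↥(stabilizer (stabilizer G a) b) ≃ ↥(stabilizer G (a, b)) :=
    { toFun := fun g => ⟨g.1.1, by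
        rw [mem_stabilizer_iff]
        exact Prod.ext g.1.2 g.2⟩
      invFun := fun g => ⟨⟨g.1, congrArg Prod.fst g.2⟩, congrArg Prod.snd g.2⟩
      left_inv := fun g => rfl
      right_inv := fun g => rfl }
  rw [Nat.card_congr e] at h3
  have hpos : 0 < Nat.card (stabilizer G (a, b)) := Nat.card_pos
  apply Nat.eq_of_mul_eq_mul_right hpos
  rw [h1, mul_assoc, h3, h2]

/-- if some element exchanges `a` and `b ≠ a`, the orbit of the pair `(a, b)` is even -/
theorem even_card_orbit_pair [Finite G] (a b : X) (hab : a ≠ b) (t : G) (h1 : t • a = b)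
    (h2 : t • b = a) : 2 ∣ Nat.card (orbit G (a, b)) := by
  classical
  have : Finite (orbit G (a, b)) := (Set.finite_range fun m : G => m • (a, b)).to_subtype
  have := Fintype.ofFinite (orbit G (a, b))
  let f : Function.End (orbit G (a, b)) := fun x => ⟨(x.1.2, x.1.1), by
    obtain ⟨g, hg⟩ := x.2
    refine ⟨g * t, ?_⟩
    show (g * t) • (a, b) = _
    rw [mul_smul]
    have hg1 : g • a = x.1.1 := congrArg Prod.fst hg
    have hg2 : g • b = x.1.2 := congrArg Prod.snd hg
    show g • (t • a, t • b) = _
    rw [h1, h2]
    exact Prod.ext hg2 hg1⟩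
  have hf : f ^ 2 ^ 1 = 1 := by
    rw [pow_one, pow_two]
    funext x
    rfl
  have h3 := Equiv.Perm.card_fixedPoints_modEq (p := 2) (n := 1) hf
  have h4 : Fintype.card ↥(Function.fixedPoints f) = 0 := by
    rw [Fintype.card_eq_zero_iff]
    constructor
    rintro ⟨x, hx⟩
    obtain ⟨g, hg⟩ := x.2
    have hx1 : (f x).1.1 = x.1.1 := by rw [hx]
    have hx1' : x.1.2 = x.1.1 := hx1
    have hg1 : g • a = x.1.1 := congrArg Prod.fst hg
    have hg2 : g • b = x.1.2 := congrArg Prod.snd hg
    rw [← hg1, ← hg2] at hx1'
    exact hab (smul_left_cancel g hx1').symm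
  rw [h4] at h3
  rw [Nat.card_eq_fintype_card]
  exact (Nat.modEq_zero_iff_dvd).mp h3

/-- if some element exchanges `a` and `b ≠ a` and the orbit of `a` is odd, then the orbit of `b`
under the stabiliser of `a` is even -/
theorem even_card_orbit_of_swap [Finite G] (a b : X) (hab : a ≠ b) (t : G) (h1 : t • a = b)
    (h2 : t • b = a) (hodd : ¬ 2 ∣ Nat.card (orbit G a)) :
    2 ∣ Nat.card (orbit (stabilizer G a) b) := by
  have h := even_card_orbit_pair a b hab t h1 h2
  rw [card_orbit_pair_eq] at h
  exact (Nat.Prime.dvd_mul Nat.prime_two).mp h |>.resolve_left hodd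

end general

end Cfsg.Agent.Lib.helper3
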