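import Mathlib
import Cfsg.Agent.Lib.helper6.OrbitTools

set_option autoImplicit false

namespace Cfsg.Agent.Lib.helper3.D11

open MulAction Equiv Cfsg.Agent.Lib.helper6

variable {α : Type*} [Fintype α] [DecidableEq α]

/-- the fixed points of a permutation, as a finset -/
def fixF (g : Perm α) : Finset α := Finset.univ.filter (fun a => g a = a)

theorem mem_fixF {g : Perm α} {a : α} : a ∈ fixF g ↔ g a = a := by
  simp [fixF]

theorem fixF_card (g : Perm α) : (fixF g).card + g.support.card = Fintype.card α := by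
  have := Finset.card_filter_add_card_filter_not (s := (Finset.univ : Finset α))
    (p := fun a => g a = a)
  rw [Finset.card_univ] at this
  rw [← this]
  congr 1

theorem smul_eq (Q : Subgroup (Perm α)) (q : Q) (c : α) : q • c = (q : Perm α) c := rfl

theorem mem_orbit_iff' (Q : Subgroup (Perm α)) (c x : α) :
    x ∈ orbit Q c ↔ ∃ q ∈ Q, q c = x := by
  rw [MulAction.mem_orbit_iff]
  constructor
  · rintro ⟨q, rfl⟩
    exact ⟨q, q.2, rfl⟩
  · rintro ⟨q, hq, rfl⟩
    exact ⟨⟨q, hq⟩, rfl⟩

theorem orbit_ncard_dvd (Q : Subgroup (Perm α)) (c : α) :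
    (orbit Q c).ncard ∣ Nat.card Q :=
  Dvd.intro _ (ncard_orbit_mul_card_stabilizer (Q := Q) c)

/-- an element of order `3` of a primitive group not containing `Alt`, degree `11`,
has `2` or `5` fixed points. -/
theorem fix_card_of_order_three (hα : Fintype.card α = 11) (G : Subgroup (Perm α))
    (hprim : IsPreprimitive G α) (hA : ¬ alternatingGroup α ≤ G) {q : Perm α} (hq : q ∈ G)
    (h3 : q ^ 3 = 1) (h1 : q ≠ 1) : (fixF q).card = 2 ∨ (fixF q).card = 5 := by
  have hord : orderOf q = 3 := orderOf_eq_prime h3 h1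
  obtain ⟨n, hn⟩ := Perm.cycleType_prime_order (σ := q) (by rw [hord]; norm_num)
  rw [hord] at hn
  have hsum : q.support.card = 3 * (n + 1) := by
    rw [← Perm.sum_cycleType, hn]
    simp
    ring
  have hfc := fixF_card q
  rw [hα] at hfc
  have hn0 : n ≠ 0 := by
    rintro rfl
    apply hA
    apply Perm.alternatingGroup_le_of_isPreprimitive_of_isThreeCycle_mem hprim _ hq
    rw [Perm.IsThreeCycle, hn]
    rfl
  have : n = 1 ∨ n = 2 := by omega
  rcases this with rfl | rfl
  · right; omega
  · left; omega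

end Cfsg.Agent.Lib.helper3.D11
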