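import Mathlib
import Cfsg.Agent.Lib.helper3.D11G1a

set_option autoImplicit false

namespace Cfsg.Agent.Lib.helper3.D11

open MulAction Equiv Cfsg.Agent.Lib.helper6

variable {α : Type*} [Fintype α] [DecidableEq α]

theorem comm_of_card_nine (Q : Subgroup (Perm α)) (hQ : Nat.card Q = 9) :
    ∀ q ∈ Q, ∀ q' ∈ Q, q * q' = q' * q := by
  haveI : Fact (Nat.Prime 3) := ⟨by norm_num⟩
  intro q hq q' hq'
  have h := IsPGroup.commutative_of_card_eq_prime_sq (p := 3) (G := Q) (by rw [hQ]; norm_num)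
    ⟨q, hq⟩ ⟨q', hq'⟩
  exact congrArg Subtype.val h

theorem orbit_one_or_three (Q : Subgroup (Perm α)) (hQ : Nat.card Q = 9)
    (hno9 : ∀ c : α, (orbit Q c).ncard ≠ 9) (c : α) :
    (orbit Q c).ncard = 1 ∨ (orbit Q c).ncard = 3 := by
  have h := orbit_ncard_dvd Q c
  rw [hQ] at h
  have hle := Nat.le_of_dvd (by norm_num) h
  have := hno9 c
  interval_cases hn : (orbit Q c).ncard <;> simp_all <;> omega

theorem stab_normal (Q : Subgroup (Perm α)) (hc : ∀ q ∈ Q, ∀ q' ∈ Q, q * q' = q' * q) (c : α) :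
    (stabilizer Q c).Normal := by
  constructor
  intro n hn g
  have : g * n * g⁻¹ = n := by
    have h1 : g * n = n * g := Subtype.ext (hc g g.2 n n.2)
    rw [h1, mul_inv_cancel_right]
  rw [this]
  exact hn

theorem pow_three (Q : Subgroup (Perm α)) (hQ : Nat.card Q = 9)
    (hno9 : ∀ c : α, (orbit Q c).ncard ≠ 9) {q : Perm α} (hq : q ∈ Q) : q ^ 3 = 1 := by
  have hc := comm_of_card_nine Q hQ
  ext c
  haveI := stab_normal Q hc c
  have h1 := Subgroup.pow_index_mem (stabilizer Q c) ⟨q, hq⟩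
  rw [index_stabilizer] at h1
  rcases orbit_one_or_three Q hQ hno9 c with h | h
  · rw [h, pow_one, mem_stabilizer_iff] at h1
    have h1' : q c = c := h1
    simp [pow_succ, h1']
  · rw [h, mem_stabilizer_iff] at h1
    exact h1

theorem fix_card (hα : Fintype.card α = 11) (G : Subgroup (Perm α))
    (hprim : IsPreprimitive G α) (hA : ¬ alternatingGroup α ≤ G)
    (Q : Subgroup (Perm α)) (hQG : Q ≤ G) (hQ : Nat.card Q = 9)
    (hno9 : ∀ c : α, (orbit Q c).ncard ≠ 9) {q : Perm α} (hq : q ∈ Q) (h1 : q ≠ 1) :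
    (fixF q).card = 2 ∨ (fixF q).card = 5 :=
  fix_card_of_order_three hα G hprim hA (hQG hq) (pow_three Q hQ hno9 hq) h1

theorem mem_fixedPoints_iff' (Q : Subgroup (Perm α)) (c : α) :
    c ∈ fixedPoints Q α ↔ ∀ q ∈ Q, q c = c := by
  rw [mem_fixedPoints]
  constructor
  · intro h q hq
    exact h ⟨q, hq⟩
  · intro h q
    exact h q q.2

theorem exists_ne_one (Q : Subgroup (Perm α)) (hQ : Nat.card Q = 9) : ∃ q ∈ Q, q ≠ 1 := by
  by_contra hcon
  push Not at hcon
  have : Q = ⊥ := by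
    rw [Subgroup.eq_bot_iff_forall]
    exact hcon
  rw [this] at hQ
  simp at hQ

theorem fixedPoints_subset_fixF (Q : Subgroup (Perm α)) {q : Perm α} (hq : q ∈ Q) :
    fixedPoints Q α ⊆ (fixF q : Set α) := by
  intro c hc
  rw [mem_fixedPoints_iff'] at hc
  simp only [Finset.mem_coe, mem_fixF]
  exact hc q hq

theorem orbit_eq_one_iff (Q : Subgroup (Perm α)) (c : α) :
    (orbit Q c).ncard = 1 ↔ c ∈ fixedPoints Q α := by
  rw [Set.ncard_eq_one]
  constructor
  · rintro ⟨a, ha⟩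
    have hca : c = a := by
      have : c ∈ orbit Q c := mem_orbit_self c
      rw [ha] at this
      exact this
    rw [mem_fixedPoints]
    intro q
    have : q • c ∈ orbit Q c := mem_orbit c q
    rw [ha] at this
    rw [Set.mem_singleton_iff] at this
    rw [this, hca]
  · intro h
    refine ⟨c, ?_⟩
    ext x
    rw [MulAction.mem_orbit_iff, Set.mem_singleton_iff]
    rw [mem_fixedPoints] at h
    constructor
    · rintro ⟨q, rfl⟩
      exact h q
    · rintro rfl
      exact ⟨1, one_smul _ _⟩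

theorem stab_card_three (Q : Subgroup (Perm α)) (hQ : Nat.card Q = 9)
    (hno9 : ∀ c : α, (orbit Q c).ncard ≠ 9) {c : α} (hc : c ∉ fixedPoints Q α) :
    (orbit Q c).ncard = 3 ∧ Nat.card (stabilizer Q c) = 3 := by
  have h3 : (orbit Q c).ncard = 3 := by
    rcases orbit_one_or_three Q hQ hno9 c with h | h
    · exact absurd ((orbit_eq_one_iff Q c).mp h) hc
    · exact h
  refine ⟨h3, ?_⟩
  have := ncard_orbit_mul_card_stabilizer (Q := Q) c
  rw [h3, hQ] at this
  omega

theorem exists_stab_elt (Q : Subgroup (Perm α)) (hQ : Nat.card Q = 9)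
    (hno9 : ∀ c : α, (orbit Q c).ncard ≠ 9) {c : α} (hc : c ∉ fixedPoints Q α) :
    ∃ x ∈ Q, x ≠ 1 ∧ x c = c ∧ ∀ y ∈ Q, y c = c → y = 1 ∨ y = x ∨ y = x⁻¹ := by
  obtain ⟨-, hs3⟩ := stab_card_three Q hQ hno9 hc
  have hne : stabilizer Q c ≠ ⊥ := by
    intro h
    rw [h] at hs3
    simp at hs3
  obtain ⟨x, hx1⟩ := (Subgroup.ne_bot_iff_exists_ne_one).mp hne
  have hxS' := x.2
  have hx3 : (x : Q) ^ 3 = 1 := by
    have := pow_three Q hQ hno9 (x : Q).2
    exact Subtype.ext this
  have hx3' : x ^ 3 = 1 := Subtype.ext hx3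
  have hord : orderOf x = 3 := orderOf_eq_prime hx3' hx1
  have hz : Subgroup.zpowers x = ⊤ := by
    apply Subgroup.eq_top_of_card_eq
    rw [Nat.card_zpowers, hord, hs3]
  refine ⟨((x : Q) : Perm α), (x : Q).2, ?_, ?_, ?_⟩
  · intro h
    apply hx1
    apply Subtype.ext
    apply Subtype.ext
    exact h
  · have := x.2
    rw [mem_stabilizer_iff] at this
    exact this
  · intro y hy hyc
    have hyS : (⟨y, hy⟩ : Q) ∈ stabilizer Q c := by
      rw [mem_stabilizer_iff]
      exact hyc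
    have : (⟨⟨y, hy⟩, hyS⟩ : stabilizer Q c) ∈ Subgroup.zpowers x := by
      rw [hz]; trivial
    obtain ⟨k, hk⟩ := Subgroup.mem_zpowers_iff.mp this
    have hk' : x ^ (k % 3) = ⟨⟨y, hy⟩, hyS⟩ := by
      rw [← hk]
      have := zpow_mod_orderOf x k
      rw [hord] at this
      exact this
    have h0 : 0 ≤ k % 3 := Int.emod_nonneg _ (by norm_num)
    have h2 : k % 3 < 3 := Int.emod_lt_of_pos _ (by norm_num)
    have hcoe : ∀ w : stabilizer Q c, w = ⟨⟨y, hy⟩, hyS⟩ → ((w : Q) : Perm α) = y := by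
      rintro w rfl; rfl
    interval_cases hkm : k % 3
    · left
      rw [← hcoe _ hk']; simp
    · right; left
      rw [← hcoe _ hk']; simp
    · right; right
      rw [← hcoe _ hk']
      have : x ^ (2 : ℤ) = x⁻¹ := by
        have h : x ^ (2 : ℤ) * x = 1 := by
          rw [← hx3']
          rw [zpow_ofNat]
          exact (pow_succ x 2).symm
        exact eq_inv_of_mul_eq_one_left h
      rw [this]; simp

end Cfsg.Agent.Lib.helper3.D11
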