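import Mathlib
import Cfsg.Agent.Lib.helper3.D11G1b

set_option autoImplicit false

namespace Cfsg.Agent.Lib.helper3.D11

open MulAction Equiv Cfsg.Agent.Lib.helper6

variable {α : Type*} [Fintype α] [DecidableEq α]

theorem F_ncard (hα : Fintype.card α = 11) (G : Subgroup (Perm α))
    (hprim : IsPreprimitive G α) (hA : ¬ alternatingGroup α ≤ G)
    (Q : Subgroup (Perm α)) (hQG : Q ≤ G) (hQ : Nat.card Q = 9)
    (hno9 : ∀ c : α, (orbit Q c).ncard ≠ 9) : (fixedPoints Q α).ncard = 2 := by
  haveI : Fact (Nat.Prime 3) := ⟨by norm_num⟩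
  have hpQ : IsPGroup 3 Q := IsPGroup.of_card (n := 2) (by rw [hQ]; norm_num)
  have hmod := pgroup_ncard_modEq hpQ (Set.univ : Set α) (fun _ _ _ => Set.mem_univ _)
  rw [Set.univ_inter, Set.ncard_univ, Nat.card_eq_fintype_card, hα] at hmod
  obtain ⟨q, hq, hq1⟩ := exists_ne_one Q hQ
  have hle : (fixedPoints Q α).ncard ≤ (fixF q).card := by
    rw [← Set.ncard_coe_finset]
    exact Set.ncard_le_ncard (fixedPoints_subset_fixF Q hq) (Set.toFinite _)
  have hq5 : (fixF q).card ≤ 5 := by
    rcases fix_card hα G hprim hA Q hQG hQ hno9 hq hq1 with h | h <;> omega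
  have hne5 : (fixedPoints Q α).ncard ≠ 5 := by
    intro h5
    -- every nontrivial element has fixed point set exactly F
    have hall : ∀ q' ∈ Q, q' ≠ 1 → ((fixF q' : Finset α) : Set α) = fixedPoints Q α := by
      intro q' hq' hq'1
      symm
      apply Set.eq_of_subset_of_ncard_le (fixedPoints_subset_fixF Q hq') _ (Set.toFinite _)
      rw [Set.ncard_coe_finset, h5]
      rcases fix_card hα G hprim hA Q hQG hQ hno9 hq' hq'1 with h | h <;> omega
    have hex : ∃ c, c ∉ fixedPoints Q α := by
      by_contra hcon
      push Not at hcon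
      have : fixedPoints Q α = Set.univ := Set.eq_univ_of_forall hcon
      rw [this, Set.ncard_univ, Nat.card_eq_fintype_card, hα] at h5
      omega
    obtain ⟨c, hc⟩ := hex
    obtain ⟨x, hxQ, hx1, hxc, -⟩ := exists_stab_elt Q hQ hno9 hc
    apply hc
    rw [← hall x hxQ hx1]
    simp only [Finset.mem_coe, mem_fixF]
    exact hxc
  unfold Nat.ModEq at hmod
  omega

/-- the fixed points of a nontrivial point stabiliser element -/
theorem fix_eq (hα : Fintype.card α = 11) (G : Subgroup (Perm α))
    (hprim : IsPreprimitive G α) (hA : ¬ alternatingGroup α ≤ G)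
    (Q : Subgroup (Perm α)) (hQG : Q ≤ G) (hQ : Nat.card Q = 9)
    (hno9 : ∀ c : α, (orbit Q c).ncard ≠ 9) {c : α} (hc : c ∉ fixedPoints Q α)
    {x : Perm α} (hx : x ∈ Q) (hx1 : x ≠ 1) (hxc : x c = c) (e : α) :
    x e = e ↔ (e ∈ fixedPoints Q α ∨ e ∈ orbit Q c) := by
  have hcomm := comm_of_card_nine Q hQ
  have hsub : fixedPoints Q α ∪ orbit Q c ⊆ ((fixF x : Finset α) : Set α) := by
    intro e he
    simp only [Finset.mem_coe, mem_fixF]
    rcases he with he | he
    · exact (mem_fixedPoints_iff' Q e).mp he x hx
    · obtain ⟨q, hq, rfl⟩ := (mem_orbit_iff' Q c e).mp he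
      have : x (q c) = (x * q) c := rfl
      rw [this, hcomm x hx q hq]
      show q (x c) = q c
      rw [hxc]
  have hdisj : Disjoint (fixedPoints Q α) (orbit Q c) := by
    rw [Set.disjoint_left]
    intro e he he'
    apply hc
    obtain ⟨q, hq, rfl⟩ := (mem_orbit_iff' Q c e).mp he'
    rw [mem_fixedPoints_iff'] at he ⊢
    intro q' hq'
    have h1 := he q' hq'
    have : q' (q c) = (q' * q) c := rfl
    rw [this, hcomm q' hq' q hq] at h1
    exact q.injective h1
  have hcard : (fixedPoints Q α ∪ orbit Q c).ncard = 5 := by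
    rw [Set.ncard_union_eq hdisj (Set.toFinite _) (Set.toFinite _),
      F_ncard hα G hprim hA Q hQG hQ hno9, (stab_card_three Q hQ hno9 hc).1]
  have heq : fixedPoints Q α ∪ orbit Q c = ((fixF x : Finset α) : Set α) := by
    apply Set.eq_of_subset_of_ncard_le hsub _ (Set.toFinite _)
    rw [Set.ncard_coe_finset, hcard]
    rcases fix_card hα G hprim hA Q hQG hQ hno9 hx hx1 with h | h <;> omega
  have : x e = e ↔ e ∈ ((fixF x : Finset α) : Set α) := by
    simp [mem_fixF]
  rw [this, ← heq]
  rfl

theorem two_pow_mod_three (k : ℕ) : 2 ^ k % 3 = 1 ∨ 2 ^ k % 3 = 2 := by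
  induction k with
  | zero => left; norm_num
  | succ k ih =>
    rw [pow_succ]
    rcases ih with h | h <;> omega

/-- a `2`-element of `G` centralising `Q` is trivial. -/
theorem claim1 (hα : Fintype.card α = 11) (G : Subgroup (Perm α))
    (hprim : IsPreprimitive G α) (hA : ¬ alternatingGroup α ≤ G)
    (heven : G ≤ alternatingGroup α)
    (Q : Subgroup (Perm α)) (hQG : Q ≤ G) (hQ : Nat.card Q = 9)
    (hno9 : ∀ c : α, (orbit Q c).ncard ≠ 9) {z : Perm α} (hzG : z ∈ G)
    (hz : ∀ q ∈ Q, z * q = q * z) {k : ℕ} (hzk : z ^ (2 ^ k) = 1) : z = 1 := by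
  have hF := F_ncard hα G hprim hA Q hQG hQ hno9
  -- z preserves F
  have hzF : ∀ e, e ∈ fixedPoints Q α → z e ∈ fixedPoints Q α := by
    intro e he
    rw [mem_fixedPoints_iff'] at he ⊢
    intro q hq
    have : q (z e) = (q * z) e := rfl
    rw [this, ← hz q hq]
    show z (q e) = z e
    rw [he q hq]
  -- z fixes every point outside F
  have hzout : ∀ c, c ∉ fixedPoints Q α → z c = c := by
    intro c hc
    obtain ⟨x, hxQ, hx1, hxc, -⟩ := exists_stab_elt Q hQ hno9 hc
    have hzc : x (z c) = z c := by
      have : x (z c) = (x * z) c := rfl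
      rw [this, ← hz x hxQ]
      show z (x c) = z c
      rw [hxc]
    rcases (fix_eq hα G hprim hA Q hQG hQ hno9 hc hxQ hx1 hxc (z c)).mp hzc with h | h
    · exfalso
      apply hc
      -- z⁻¹ preserves F as well
      have hzinv : ∀ e, e ∈ fixedPoints Q α → z⁻¹ e ∈ fixedPoints Q α := by
        intro e he
        rw [mem_fixedPoints_iff'] at he ⊢
        intro q hq
        have hcomm : q * z⁻¹ = z⁻¹ * q := by
          have := hz q hq
          calc q * z⁻¹ = z⁻¹ * (z * q) * z⁻¹ := by group
            _ = z⁻¹ * (q * z) * z⁻¹ := by rw [this]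
            _ = z⁻¹ * q := by group
        have : q (z⁻¹ e) = (q * z⁻¹) e := rfl
        rw [this, hcomm]
        show z⁻¹ (q e) = z⁻¹ e
        rw [he q hq]
      have := hzinv _ h
      simpa using this
    · obtain ⟨q', hq', hq'c⟩ := (mem_orbit_iff' Q c (z c)).mp h
      have hpow : ∀ m : ℕ, (z ^ m) c = (q' ^ m) c := by
        intro m
        induction m with
        | zero => simp
        | succ m ih =>
          rw [pow_succ, pow_succ']
          show (z ^ m) (z c) = q' ((q' ^ m) c)
          rw [← hq'c]
          have hcm : ∀ j : ℕ, z ^ j * q' = q' * z ^ j := by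
            intro j
            induction j with
            | zero => simp
            | succ j ihj =>
              rw [pow_succ, mul_assoc, hz q' hq', ← mul_assoc, ihj, mul_assoc]
          have : (z ^ m) (q' c) = (z ^ m * q') c := rfl
          rw [this, hcm m]
          show q' ((z ^ m) c) = q' ((q' ^ m) c)
          rw [ih]
      have h1 := hpow (2 ^ k)
      rw [hzk] at h1
      have hq3 := pow_three Q hQ hno9 hq'
      have hmod : q' ^ (2 ^ k) = q' ^ (2 ^ k % 3) := by
        conv_lhs => rw [← Nat.div_add_mod (2 ^ k) 3, pow_add, pow_mul, hq3, one_pow, one_mul]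
      have h2k := two_pow_mod_three k
      rw [hmod] at h1
      have hq'c' : q' c = c := by
        rcases h2k with h | h
        · rw [h, pow_one] at h1
          exact h1.symm
        · rw [h] at h1
          have h3 : (q' ^ 3) c = c := by rw [hq3]; rfl
          rw [pow_succ'] at h3
          have : q' ((q' ^ 2) c) = c := h3
          rw [← h1] at this
          exact this
      rw [← hq'c, hq'c']
  obtain ⟨a, b, hab, hFab⟩ := Set.ncard_eq_two.mp hF
  have haF : a ∈ fixedPoints Q α := by rw [hFab]; simp
  have hbF : b ∈ fixedPoints Q α := by rw [hFab]; simp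
  have hza := hzF a haF
  have hzb := hzF b hbF
  rw [hFab] at hza hzb
  simp only [Set.mem_insert_iff, Set.mem_singleton_iff] at hza hzb
  have hzsign : Perm.sign z = 1 := Perm.mem_alternatingGroup.mp (heven hzG)
  rcases hza with hza | hza
  · have hzb' : z b = b := by
      rcases hzb with h | h
      · exfalso
        apply hab
        apply z.injective
        rw [hza, h]
      · exact h
    ext e
    by_cases he : e ∈ fixedPoints Q α
    · rw [hFab] at he
      simp only [Set.mem_insert_iff, Set.mem_singleton_iff] at he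
      rcases he with rfl | rfl
      · simpa using hza
      · simpa using hzb'
    · simpa using hzout e he
  · have hzb' : z b = a := by
      rcases hzb with h | h
      · exact h
      · exfalso
        apply hab
        apply z.injective
        rw [hza, h]
    exfalso
    have hzs : z = swap a b := by
      ext e
      by_cases he : e ∈ fixedPoints Q α
      · rw [hFab] at he
        simp only [Set.mem_insert_iff, Set.mem_singleton_iff] at he
        rcases he with rfl | rfl
        · rw [hza]; simp
        · rw [hzb']; simp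
      · rw [hzout e he]
        have hea : e ≠ a := by
          rintro rfl; exact he haF
        have heb : e ≠ b := by
          rintro rfl; exact he hbF
        rw [swap_apply_of_ne_of_ne hea heb]
    rw [hzs, Perm.sign_swap hab] at hzsign
    exact absurd hzsign (by decide)

end Cfsg.Agent.Lib.helper3.D11
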