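import Mathlib
import Cfsg.Agent.Lib.helper3.D11G1c

set_option autoImplicit false

namespace Cfsg.Agent.Lib.helper3.D11

open MulAction Equiv Cfsg.Agent.Lib.helper6

variable {α : Type*} [Fintype α] [DecidableEq α]

theorem union_ncard (hα : Fintype.card α = 11) (G : Subgroup (Perm α))
    (hprim : IsPreprimitive G α) (hA : ¬ alternatingGroup α ≤ G)
    (Q : Subgroup (Perm α)) (hQG : Q ≤ G) (hQ : Nat.card Q = 9)
    (hno9 : ∀ c : α, (orbit Q c).ncard ≠ 9) {c : α} (hc : c ∉ fixedPoints Q α) :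
    (fixedPoints Q α ∪ orbit Q c).ncard = 5 := by
  have hcomm := comm_of_card_nine Q hQ
  have hdisj : Disjoint (fixedPoints Q α) (orbit Q c) := by
    rw [Set.disjoint_left]
    intro e he he'
    apply hc
    obtain ⟨q, hq, rfl⟩ := (mem_orbit_iff' Q c e).mp he'
    rw [mem_fixedPoints_iff'] at he ⊢
    intro q' hq'
    have h1 := he q' hq'
    have : q' (q c) = (q' * q) c := rfl
    rw [this, hcomm q' hq' q hq] at h1
    exact q.injective h1
  rw [Set.ncard_union_eq hdisj (Set.toFinite _) (Set.toFinite _),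
    F_ncard hα G hprim hA Q hQG hQ hno9, (stab_card_three Q hQ hno9 hc).1]

theorem case2_false (hα : Fintype.card α = 11) (G : Subgroup (Perm α))
    (hprim : IsPreprimitive G α) (hA : ¬ alternatingGroup α ≤ G)
    (heven : G ≤ alternatingGroup α)
    (Q T : Subgroup (Perm α)) (hQG : Q ≤ G) (hTG : T ≤ G) (hQ : Nat.card Q = 9)
    (hT : Nat.card T = 16) (hTQ : ∀ t ∈ T, ∀ q ∈ Q, t * q * t⁻¹ ∈ Q)
    (hno9 : ∀ c : α, (orbit Q c).ncard ≠ 9) : False := by
  haveI : Fact (Nat.Prime 2) := ⟨by norm_num⟩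
  have hpT : IsPGroup 2 T := IsPGroup.of_card (n := 4) (by rw [hT]; norm_num)
  have hFn := F_ncard hα G hprim hA Q hQG hQ hno9
  -- T preserves F
  have hTF : ∀ t ∈ T, ∀ e, e ∈ fixedPoints Q α → t e ∈ fixedPoints Q α := by
    intro t ht e he
    rw [mem_fixedPoints_iff'] at he ⊢
    intro q hq
    have h1 := hTQ t⁻¹ (T.inv_mem ht) q hq
    rw [inv_inv] at h1
    have h2 := he _ h1
    have : q (t e) = t ((t⁻¹ * q * t) e) := by simp [Perm.mul_apply]
    rw [this, h2]
  have hTF' : ∀ t ∈ T, ∀ e, t e ∈ fixedPoints Q α → e ∈ fixedPoints Q α := by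
    intro t ht e he
    have := hTF t⁻¹ (T.inv_mem ht) _ he
    simpa using this
  -- the complement X of F
  have hXn : ((fixedPoints Q α)ᶜ : Set α).ncard = 9 := by
    have := Set.ncard_add_ncard_compl (fixedPoints Q α)
    rw [hFn, Nat.card_eq_fintype_card, hα] at this
    omega
  have hXinv : ∀ t : T, ∀ x ∈ ((fixedPoints Q α)ᶜ : Set α), t • x ∈ ((fixedPoints Q α)ᶜ : Set α) := by
    intro t x hx hx'
    exact hx (hTF' t t.2 x hx')
  have hmod := pgroup_ncard_modEq hpT _ hXinv
  rw [hXn] at hmod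
  have hne : ((fixedPoints Q α)ᶜ ∩ fixedPoints T α).Nonempty := by
    rw [← Set.ncard_pos (Set.toFinite _)]
    unfold Nat.ModEq at hmod
    omega
  obtain ⟨c, hcX, hcT⟩ := hne
  have hcF : c ∉ fixedPoints Q α := hcX
  rw [mem_fixedPoints_iff'] at hcT
  -- O = orbit of c, invariant under T
  have hOinv : ∀ t ∈ T, ∀ e, e ∈ orbit Q c → t e ∈ orbit Q c := by
    intro t ht e he
    obtain ⟨q, hq, rfl⟩ := (mem_orbit_iff' Q c e).mp he
    rw [mem_orbit_iff']
    refine ⟨t * q * t⁻¹, hTQ t ht q hq, ?_⟩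
    have : t⁻¹ c = c := by
      rw [Perm.inv_eq_iff_eq]
      exact (hcT t ht).symm
    simp [Perm.mul_apply, this]
  -- Y = complement of F ∪ O
  have hU := union_ncard hα G hprim hA Q hQG hQ hno9 hcF
  have hYn : ((fixedPoints Q α ∪ orbit Q c)ᶜ : Set α).ncard = 6 := by
    have := Set.ncard_add_ncard_compl (fixedPoints Q α ∪ orbit Q c)
    rw [hU, Nat.card_eq_fintype_card, hα] at this
    omega
  have hUinv : ∀ t ∈ T, ∀ e, e ∈ fixedPoints Q α ∪ orbit Q c →
      t e ∈ fixedPoints Q α ∪ orbit Q c := by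
    intro t ht e he
    rcases he with he | he
    · exact Or.inl (hTF t ht e he)
    · exact Or.inr (hOinv t ht e he)
  have hYinv : ∀ t : T, ∀ x ∈ ((fixedPoints Q α ∪ orbit Q c)ᶜ : Set α),
      t • x ∈ ((fixedPoints Q α ∪ orbit Q c)ᶜ : Set α) := by
    intro t x hx hx'
    apply hx
    have := hUinv t⁻¹ (T.inv_mem t.2) _ hx'
    simpa [smul_eq] using this
  -- a point d of Y with small orbit
  have hex : ∃ d ∈ ((fixedPoints Q α ∪ orbit Q c)ᶜ : Set α), ¬ 4 ∣ (orbit T d).ncard := by
    by_contra hcon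
    push Not at hcon
    have := dvd_ncard_of_invariant' (Q := T) 4 6 _ (Set.toFinite _) hYn hYinv hcon
    omega
  obtain ⟨d, hdY, hd4⟩ := hex
  have hdF : d ∉ fixedPoints Q α := fun h => hdY (Or.inl h)
  have hdO : d ∉ orbit Q c := fun h => hdY (Or.inr h)
  have hstab : 8 ≤ Nat.card (stabilizer T d) := by
    have h := ncard_orbit_mul_card_stabilizer (Q := T) d
    rw [hT] at h
    have hdvd : (orbit T d).ncard ∣ 16 := Dvd.intro _ h
    have hle := Nat.le_of_dvd (by norm_num) hdvd
    interval_cases hn : (orbit T d).ncard <;> omega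
  -- the two stabiliser elements
  obtain ⟨x1, hx1Q, hx1ne, hx1c, hx1all⟩ := exists_stab_elt Q hQ hno9 hcF
  obtain ⟨x2, hx2Q, hx2ne, hx2d, hx2all⟩ := exists_stab_elt Q hQ hno9 hdF
  have hx2c : x2 c ≠ c := by
    intro h
    rcases (fix_eq hα G hprim hA Q hQG hQ hno9 hdF hx2Q hx2ne hx2d c).mp h with h' | h'
    · exact hcF h'
    · apply hdO
      obtain ⟨q, hq, hqd⟩ := (mem_orbit_iff' Q d c).mp h'
      rw [mem_orbit_iff']
      refine ⟨q⁻¹, Q.inv_mem hq, ?_⟩
      rw [← hqd]
      simp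
  -- conjugation by elements of the stabiliser
  have hconj1 : ∀ t ∈ T, t d = d → (t * x1 * t⁻¹ = x1 ∨ t * x1 * t⁻¹ = x1⁻¹) := by
    intro t ht _
    have hmem := hTQ t ht x1 hx1Q
    have htc : t⁻¹ c = c := by
      rw [Perm.inv_eq_iff_eq]
      exact (hcT t ht).symm
    have hfix : (t * x1 * t⁻¹) c = c := by
      simp [Perm.mul_apply, htc, hx1c, hcT t ht]
    rcases hx1all _ hmem hfix with h | h | h
    · exfalso
      apply hx1ne
      have : x1 = t⁻¹ * (t * x1 * t⁻¹) * t := by group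
      rw [this, h]
      group
    · exact Or.inl h
    · exact Or.inr h
  have hconj2 : ∀ t ∈ T, t d = d → (t * x2 * t⁻¹ = x2 ∨ t * x2 * t⁻¹ = x2⁻¹) := by
    intro t ht htd
    have hmem := hTQ t ht x2 hx2Q
    have htd' : t⁻¹ d = d := by
      rw [Perm.inv_eq_iff_eq]
      exact htd.symm
    have hfix : (t * x2 * t⁻¹) d = d := by
      simp [Perm.mul_apply, htd', hx2d, htd]
    rcases hx2all _ hmem hfix with h | h | h
    · exfalso
      apply hx2ne
      have : x2 = t⁻¹ * (t * x2 * t⁻¹) * t := by group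
      rw [this, h]
      group
    · exact Or.inl h
    · exact Or.inr h
  -- an element of T centralising x1 and x2 is trivial
  have hcent : ∀ z ∈ T, z * x1 = x1 * z → z * x2 = x2 * z → z = 1 := by
    intro z hz h1 h2
    have hx1ord : orderOf x1 = 3 := orderOf_eq_prime (pow_three Q hQ hno9 hx1Q) hx1ne
    let C : Subgroup (Perm α) := Q ⊓ Subgroup.centralizer {z}
    have hx1C : x1 ∈ C := by
      refine Subgroup.mem_inf.mpr ⟨hx1Q, ?_⟩
      rw [Subgroup.mem_centralizer_iff]
      intro h hh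
      rw [Set.mem_singleton_iff] at hh
      rw [hh, h1]
    have hx2C : x2 ∈ C := by
      refine Subgroup.mem_inf.mpr ⟨hx2Q, ?_⟩
      rw [Subgroup.mem_centralizer_iff]
      intro h hh
      rw [Set.mem_singleton_iff] at hh
      rw [hh, h2]
    have hCQ : C ≤ Q := inf_le_left
    have hCdvd : Nat.card C ∣ 9 := by
      rw [← hQ]
      exact Subgroup.card_dvd_of_le hCQ
    have hzp : Subgroup.zpowers x1 ≤ C := by
      rw [Subgroup.zpowers_le]
      exact hx1C
    have h3dvd : 3 ∣ Nat.card C := by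
      have := Subgroup.card_dvd_of_le hzp
      rwa [Nat.card_zpowers, hx1ord] at this
    have hC9 : Nat.card C = 9 := by
      have hle := Nat.le_of_dvd (by norm_num) hCdvd
      by_contra hne
      have hC3 : Nat.card C = 3 := by
        interval_cases hn : Nat.card C <;> omega
      have heq : Subgroup.zpowers x1 = C := by
        apply Subgroup.eq_of_le_of_card_ge hzp
        rw [Nat.card_zpowers, hx1ord, hC3]
      have : x2 ∈ Subgroup.zpowers x1 := by rw [heq]; exact hx2C
      obtain ⟨k, hk⟩ := Subgroup.mem_zpowers_iff.mp this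
      apply hx2c
      rw [← hk]
      exact Perm.zpow_apply_eq_self_of_apply_eq_self hx1c k
    have hCeq : C = Q := Subgroup.eq_of_le_of_card_ge hCQ (by rw [hC9, hQ])
    apply claim1 hα G hprim hA heven Q hQG hQ hno9 (hTG hz) _ (k := 4)
    · have := pow_card_eq_one' (G := T) (x := ⟨z, hz⟩)
      rw [hT] at this
      have h' := congrArg Subtype.val this
      simpa using h'
    · intro q hq
      have : q ∈ C := by rw [hCeq]; exact hq
      have := (Subgroup.mem_inf.mp this).2
      rw [Subgroup.mem_centralizer_iff] at this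
      exact this z rfl
  -- count
  let S : Finset (Perm α × Perm α) := ({x1, x1⁻¹} : Finset (Perm α)) ×ˢ ({x2, x2⁻¹} : Finset (Perm α))
  have hS : S.card ≤ 4 := by
    rw [Finset.card_product]
    have h1 : ({x1, x1⁻¹} : Finset (Perm α)).card ≤ 2 := Finset.card_le_two
    have h2 : ({x2, x2⁻¹} : Finset (Perm α)).card ≤ 2 := Finset.card_le_two
    nlinarith
  let f : stabilizer T d → S := fun t =>
    ⟨(((t : T) : Perm α) * x1 * ((t : T) : Perm α)⁻¹, ((t : T) : Perm α) * x2 * ((t : T) : Perm α)⁻¹), by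
      have htd : ((t : T) : Perm α) d = d := by
        have := t.2
        rw [mem_stabilizer_iff] at this
        exact this
      simp only [S, Finset.mem_product, Finset.mem_insert, Finset.mem_singleton]
      exact ⟨hconj1 _ (t : T).2 htd, hconj2 _ (t : T).2 htd⟩⟩
  have hf : Function.Injective f := by
    intro t t' htt'
    have h := congrArg Subtype.val htt'
    simp only [f, Prod.mk.injEq] at h
    obtain ⟨h1, h2⟩ := h
    have hz : (((t' : T) : Perm α)⁻¹ * ((t : T) : Perm α)) = 1 := by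
      apply hcent _ (T.mul_mem (T.inv_mem (t' : T).2) (t : T).2)
      · calc ((t' : T) : Perm α)⁻¹ * ((t : T) : Perm α) * x1
            = ((t' : T) : Perm α)⁻¹ * (((t : T) : Perm α) * x1 * ((t : T) : Perm α)⁻¹) * ((t : T) : Perm α) := by group
          _ = ((t' : T) : Perm α)⁻¹ * (((t' : T) : Perm α) * x1 * ((t' : T) : Perm α)⁻¹) * ((t : T) : Perm α) := by rw [h1]
          _ = x1 * (((t' : T) : Perm α)⁻¹ * ((t : T) : Perm α)) := by group
      · calc ((t' : T) : Perm α)⁻¹ * ((t : T) : Perm α) * x2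
            = ((t' : T) : Perm α)⁻¹ * (((t : T) : Perm α) * x2 * ((t : T) : Perm α)⁻¹) * ((t : T) : Perm α) := by group
          _ = ((t' : T) : Perm α)⁻¹ * (((t' : T) : Perm α) * x2 * ((t' : T) : Perm α)⁻¹) * ((t : T) : Perm α) := by rw [h2]
          _ = x2 * (((t' : T) : Perm α)⁻¹ * ((t : T) : Perm α)) := by group
    have : ((t : T) : Perm α) = ((t' : T) : Perm α) := by
      have := inv_mul_eq_one.mp hz
      exact this.symm
    exact Subtype.ext (Subtype.ext this)
  have hcard := Nat.card_le_card_of_injective f hf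
  rw [Nat.card_eq_fintype_card (α := S), Fintype.card_coe] at hcard
  omega

end Cfsg.Agent.Lib.helper3.D11
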