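import Mathlib
import Cfsg.Agent.Lib.helper3.D11G1d
import Cfsg.Agent.S0434

set_option autoImplicit false

namespace Cfsg.Agent.Lib.helper3.D11

open MulAction Equiv Cfsg.Agent.Lib.helper6

variable {α : Type*} [Fintype α] [DecidableEq α]

theorem key (hα : Fintype.card α = 11) (G : Subgroup (Perm α))
    (hprim : IsPreprimitive G α) (hA : ¬ alternatingGroup α ≤ G)
    (heven : G ≤ alternatingGroup α)
    (Q T : Subgroup (Perm α)) (hQG : Q ≤ G) (hTG : T ≤ G) (hQ : Nat.card Q = 9)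
    (hT : Nat.card T = 16) (hTQ : ∀ t ∈ T, ∀ q ∈ Q, t * q * t⁻¹ ∈ Q) :
    ∃ a b : α, a ≠ b ∧ (∀ g ∈ Q, g a = a ∧ g b = b) ∧
      ∀ c d : α, c ≠ a → c ≠ b → d ≠ a → d ≠ b → ∃ g ∈ Q, g c = d := by
  by_cases h9 : ∃ c : α, (orbit Q c).ncard = 9
  · obtain ⟨c, hc⟩ := h9
    have hcompl : ((orbit Q c)ᶜ : Set α).ncard = 2 := by
      have := Set.ncard_add_ncard_compl (orbit Q c)
      rw [hc, Nat.card_eq_fintype_card, hα] at this
      omega
    obtain ⟨a, b, hab, hFab⟩ := Set.ncard_eq_two.mp hcompl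
    have hmem : ∀ e : α, e ∈ orbit Q c ↔ (e ≠ a ∧ e ≠ b) := by
      intro e
      have : e ∈ ((orbit Q c)ᶜ : Set α) ↔ e = a ∨ e = b := by
        rw [hFab]; simp
      rw [Set.mem_compl_iff] at this
      constructor
      · intro he
        constructor
        · rintro rfl; exact (this.mpr (Or.inl rfl)) he
        · rintro rfl; exact (this.mpr (Or.inr rfl)) he
      · rintro ⟨h1, h2⟩
        by_contra he
        rcases this.mp he with h | h
        · exact h1 h
        · exact h2 h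
    -- a point outside the big orbit is fixed
    have hfixed : ∀ e : α, e ∉ orbit Q c → ∀ g ∈ Q, g e = e := by
      intro e he
      have hsub : orbit Q e ⊆ ((orbit Q c)ᶜ : Set α) := by
        intro x hx hx'
        apply he
        obtain ⟨q, hq, rfl⟩ := (mem_orbit_iff' Q e _).mp hx
        obtain ⟨q', hq', hq'c⟩ := (mem_orbit_iff' Q c _).mp hx'
        rw [mem_orbit_iff']
        refine ⟨q⁻¹ * q', Q.mul_mem (Q.inv_mem hq) hq', ?_⟩
        rw [Perm.mul_apply, hq'c]
        simp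
      have hle : (orbit Q e).ncard ≤ 2 := by
        rw [← hcompl]
        exact Set.ncard_le_ncard hsub (Set.toFinite _)
      have hdvd := orbit_ncard_dvd Q e
      rw [hQ] at hdvd
      have h1 : (orbit Q e).ncard = 1 := by
        have hpos : 0 < (orbit Q e).ncard := Nat.pos_of_dvd_of_pos hdvd (by norm_num)
        interval_cases hn : (orbit Q e).ncard
        · rfl
        · omega
      exact (mem_fixedPoints_iff' Q e).mp ((orbit_eq_one_iff Q e).mp h1)
    have ha : a ∉ orbit Q c := by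
      rw [hmem]; push Not; intro h; exact absurd rfl h
    have hb : b ∉ orbit Q c := by
      rw [hmem]; push Not; intro _; rfl
    refine ⟨a, b, hab, fun g hg => ⟨hfixed a ha g hg, hfixed b hb g hg⟩, ?_⟩
    intro c' d hc'a hc'b hda hdb
    obtain ⟨q1, hq1, hq1c⟩ := (mem_orbit_iff' Q c c').mp ((hmem c').mpr ⟨hc'a, hc'b⟩)
    obtain ⟨q2, hq2, hq2c⟩ := (mem_orbit_iff' Q c d).mp ((hmem d).mpr ⟨hda, hdb⟩)
    refine ⟨q2 * q1⁻¹, Q.mul_mem hq2 (Q.inv_mem hq1), ?_⟩
    rw [Perm.mul_apply, ← hq1c]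
    simpa using hq2c
  · exfalso
    push Not at h9
    exact case2_false hα G hprim hA heven Q T hQG hTG hQ hT hTQ h9

theorem sylow3_orbit (hα : Fintype.card α = 11) (G : Subgroup (Perm α))
    (hsimple : IsSimpleGroup G) (hcard : Nat.card G = 7920) (hprim : IsPreprimitive G α)
    (hA : ¬ alternatingGroup α ≤ G) (heven : G ≤ alternatingGroup α) :
    ∃ (Q : Subgroup (Perm α)) (a b : α), Q ≤ G ∧ Nat.card Q = 9 ∧ a ≠ b ∧
      (∀ g ∈ Q, g a = a ∧ g b = b) ∧
      ∀ c d : α, c ≠ a → c ≠ b → d ≠ a → d ≠ b → ∃ g ∈ Q, g c = d := by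
  haveI : Fact (Nat.Prime 3) := ⟨by norm_num⟩
  haveI : Fact (Nat.Prime 2) := ⟨by norm_num⟩
  let P : Sylow 3 G := default
  have hfac : (7920 : ℕ).factorization 3 = 2 := by
    have : (7920 : ℕ) = 3 ^ 2 * 880 := by norm_num
    rw [this, Nat.factorization_mul (by norm_num) (by norm_num), Nat.factorization_pow]
    simp [Nat.Prime.factorization (show Nat.Prime 3 by norm_num),
      Nat.factorization_eq_zero_of_not_dvd (show ¬ 3 ∣ 880 by norm_num)]
  have hP : Nat.card (P : Subgroup G) = 9 := by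
    rw [Sylow.card_eq_multiplicity, hcard, hfac]
    norm_num
  have hN : Nat.card (Subgroup.normalizer ((P : Subgroup G) : Set G)) = 144 :=
    Cfsg.Agent.S0434.result (G := G) ⟨hsimple, hcard⟩ P
  obtain ⟨T', hT'⟩ := Sylow.exists_subgroup_card_pow_prime 2 (n := 4)
    (G := Subgroup.normalizer ((P : Subgroup G) : Set G)) (by rw [hN]; norm_num)
  let Q : Subgroup (Perm α) := (P : Subgroup G).map G.subtype
  let T : Subgroup (Perm α) :=
    (T'.map (Subgroup.normalizer ((P : Subgroup G) : Set G)).subtype).map G.subtype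
  have hQG : Q ≤ G := by
    rintro x ⟨y, -, rfl⟩
    exact y.2
  have hTG : T ≤ G := by
    rintro x ⟨y, -, rfl⟩
    exact y.2
  have hQ : Nat.card Q = 9 := by
    rw [Subgroup.card_map_of_injective G.subtype_injective, hP]
  have hT : Nat.card T = 16 := by
    rw [Subgroup.card_map_of_injective G.subtype_injective,
      Subgroup.card_map_of_injective (Subgroup.subtype_injective _), hT']
    norm_num
  have hTQ : ∀ t ∈ T, ∀ q ∈ Q, t * q * t⁻¹ ∈ Q := by
    rintro t ⟨t1, ⟨t2, -, rfl⟩, rfl⟩ q ⟨q1, hq1, rfl⟩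
    have hn := t2.2
    rw [Subgroup.mem_normalizer_iff] at hn
    have := (hn q1).mp hq1
    refine ⟨(t2 : G) * q1 * (t2 : G)⁻¹, this, ?_⟩
    simp
  obtain ⟨a, b, hab, hfix, htr⟩ := key hα G hprim hA heven Q T hQG hTG hQ hT hTQ
  exact ⟨Q, a, b, hQG, hQ, hab, hfix, htr⟩

end Cfsg.Agent.Lib.helper3.D11
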