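import Mathlib
import Cfsg.Agent.Lib.Helper22.HupM

set_option autoImplicit false

namespace Cfsg.Agent.Lib.helper3

/-- piece F1 of the S3776 blueprint: a solvable group acting on an elementary abelian
2-group transitively on the nonzero vectors acts semilinearly on a field structure. -/
theorem gszF1 {K : Type*} [Group K] (hsol : Group.IsSolvable K) {W : Type*} [AddCommGroup W]
    [Finite W]
    (h2 : ∀ w : W, w + w = 0) (a : K →* AddMonoid.End W)
    (htr : ∀ w w' : W, w ≠ 0 → w' ≠ 0 → ∃ k : K, a k w = w')
    (hne : ∃ w : W, w ≠ 0) :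
    ∃ (F : Type) (_ : Field F) (_ : Fintype F) (e : W ≃+ F), CharP F 2 ∧
      ∀ k : K, ∃ (μ : F) (σ : F ≃+* F), ∀ w : W, e (a k w) = μ * σ (e w) := by
  classical
  -- the image group
  let G := K ⧸ a.ker
  let ρ : G →* AddMonoid.End W := QuotientGroup.lift a.ker a le_rfl
  have hρ : ∀ k : K, ρ (QuotientGroup.mk k) = a k := fun k => rfl
  have hinj : Function.Injective ρ := by
    intro x y hxy
    induction x using QuotientGroup.induction_on with
    | H x =>
      induction y using QuotientGroup.induction_on with
      | H y =>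
        rw [hρ, hρ] at hxy
        rw [QuotientGroup.eq]
        rw [MonoidHom.mem_ker, map_mul]
        have h1 : a x⁻¹ * a x = 1 := by rw [← map_mul, inv_mul_cancel, map_one]
        rw [← hxy, h1]
  have : Finite (AddMonoid.End W) := Finite.of_injective (fun f : AddMonoid.End W => (f : W → W))
    DFunLike.coe_injective
  have : Finite G := Finite.of_injective ρ hinj
  have hsolG : Group.IsSolvable G := by
    have := hsol
    infer_instance
  have tr : Cfsg.Agent.Lib.Helper22.HupA.Tr ρ 2 := by
    refine ⟨Nat.prime_two, ?_, hinj, ?_, hne⟩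
    · intro v
      rw [two_nsmul]
      exact h2 v
    · intro v w hv hw
      obtain ⟨k, hk⟩ := htr v w hv hw
      exact ⟨QuotientGroup.mk k, hk⟩
  rcases Cfsg.Agent.Lib.Helper22.HupM.main tr hsolG with h | h
  · obtain ⟨F, iF, iFt, e, he⟩ := h
    refine ⟨F, iF, iFt, e, ?_, ?_⟩
    · apply CharTwo.of_one_ne_zero_of_two_eq_zero one_ne_zero
      have h3 := h2 (e.symm 1)
      have h4 := congrArg e h3
      rw [map_add, AddEquiv.apply_symm_apply, map_zero] at h4
      rw [← one_add_one_eq_two]
      exact h4
    · intro k
      exact he (QuotientGroup.mk k)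
  · exfalso
    obtain ⟨w, hw⟩ := hne
    -- `2 ∣ |W|`
    have hord : addOrderOf w = 2 := by
      apply addOrderOf_eq_prime
      · rw [two_nsmul]
        exact h2 w
      · exact hw
    have hdvd : 2 ∣ Nat.card W := by
      rw [← hord]
      exact addOrderOf_dvd_natCard w
    simp only [Set.mem_insert_iff, Set.mem_singleton_iff] at h
    rcases h with h | h | h | h | h | h <;> rw [h] at hdvd <;> omega
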