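import Mathlib

set_option autoImplicit false

namespace Cfsg.Agent.Lib.helper3

/-- uniqueness of the semilinear presentation `x ↦ μ * σ x`. -/
theorem gszF2_unique {F : Type*} [Field F] (μ μ' : F) (σ σ' : RingAut F) (hμ : μ ≠ 0)
    (h : ∀ x : F, μ * σ x = μ' * σ' x) : μ = μ' ∧ σ = σ' := by
  have h1 := h 1
  rw [map_one, map_one, mul_one, mul_one] at h1
  refine ⟨h1, ?_⟩
  ext x
  have h2 := h x
  rw [← h1] at h2
  exact mul_left_cancel₀ hμ h2

/-- a finite field of order `2 ^ n` has exactly `n` ring automorphisms. -/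
theorem gszF2_card_aut {F : Type*} [Field F] [Fintype F] [CharP F 2] {n : ℕ}
    (hn : Nat.card F = 2 ^ n) : Nat.card (RingAut F) = n := by
  let _ : Algebra (ZMod 2) F := ZMod.algebra F 2
  have hcomm : ∀ (σ : F ≃+* F) (r : ZMod 2),
      σ (algebraMap (ZMod 2) F r) = algebraMap (ZMod 2) F r := by
    intro σ r
    rw [← ZMod.natCast_zmod_val r, map_natCast, map_natCast]
  let φ : (F ≃+* F) ≃ (F ≃ₐ[ZMod 2] F) :=
    { toFun := fun σ => AlgEquiv.ofRingEquiv (f := σ) (hcomm σ)
      invFun := fun τ => τ.toRingEquiv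
      left_inv := fun σ => by ext; rfl
      right_inv := fun τ => by ext; rfl }
  have h0 : Nat.card (RingAut F) = Nat.card (F ≃ₐ[ZMod 2] F) := Nat.card_congr φ
  rw [h0, IsGalois.card_aut_eq_finrank]
  have h1 : Nat.card F = Nat.card (ZMod 2) ^ Module.finrank (ZMod 2) F :=
    Module.natCard_eq_pow_finrank
  rw [hn, Nat.card_zmod] at h1
  exact (Nat.pow_right_injective (le_refl 2) h1).symm

/-- piece F2 of the S3776 blueprint: the scalar subgroup of a transitive semilinear group. -/
theorem gszF2 {K : Type*} [Group K] {W : Type*} [AddCommGroup W]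
    {F : Type*} [Field F] [Fintype F] [CharP F 2] (e : W ≃+ F) (a : K →* AddMonoid.End W)
    (htr : ∀ w w' : W, w ≠ 0 → w' ≠ 0 → ∃ k : K, a k w = w')
    (hsl : ∀ k : K, ∃ (μ : F) (σ : F ≃+* F), ∀ w : W, e (a k w) = μ * σ (e w))
    {n : ℕ} (hn : Nat.card F = 2 ^ n) :
    ∃ (k₀ : K) (l : F) (e' c : ℕ), (∀ w : W, e (a k₀ w) = l * e w) ∧ e' ∣ n ∧ e' * c = 2 ^ n - 1 ∧
      orderOf l = c := by
  classical
  -- choose the presentation
  have hsl' : ∀ k : K, ∃ (μ : F) (σ : RingAut F), ∀ x : F, e (a k (e.symm x)) = μ * σ x := by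
    intro k
    obtain ⟨μ, σ, h⟩ := hsl k
    refine ⟨μ, σ, fun x => ?_⟩
    rw [h, AddEquiv.apply_symm_apply]
  choose mu sg hms using hsl'
  -- the action on F
  have hact1 : ∀ x : F, e (a 1 (e.symm x)) = x := by
    intro x
    rw [map_one]
    show e (e.symm x) = x
    exact AddEquiv.apply_symm_apply e x
  have hactmul : ∀ (k k' : K) (x : F),
      e (a (k * k') (e.symm x)) = e (a k (e.symm (e (a k' (e.symm x))))) := by
    intro k k' x
    rw [map_mul, AddEquiv.symm_apply_apply]
    rfl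
  have hmu0 : ∀ k : K, mu k ≠ 0 := by
    intro k h0
    have h1 := hms k 1
    rw [h0, zero_mul] at h1
    have h2 := hactmul k⁻¹ k 1
    rw [inv_mul_cancel, hact1, h1] at h2
    have h3 : e (a k⁻¹ (e.symm 0)) = 0 := by
      rw [map_zero, map_zero, map_zero]
    rw [h3] at h2
    exact one_ne_zero h2
  have hmul : ∀ k k' : K, mu (k * k') = mu k * sg k (mu k') ∧ sg (k * k') = sg k * sg k' := by
    intro k k'
    apply gszF2_unique _ _ _ _ (hmu0 (k * k'))
    intro x
    rw [← hms, hactmul, hms k', hms k, map_mul, mul_assoc]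
    rfl
  have hone : mu 1 = 1 ∧ sg 1 = 1 := by
    have h := gszF2_unique (mu 1) 1 (sg 1) 1 (hmu0 1) (fun x => by
      rw [← hms, hact1, one_mul]; rfl)
    exact h
  let sigHom : K →* RingAut F := MonoidHom.mk' sg (fun k k' => (hmul k k').2)
  have hsig : ∀ k, sigHom k = sg k := fun k => rfl
  -- the action as a MulAction
  let _ : MulAction K F :=
    { smul := fun k x => e (a k (e.symm x))
      one_smul := hact1
      mul_smul := fun k k' x => hactmul k k' x }
  have hsmul : ∀ (k : K) (x : F), k • x = mu k * sg k x := fun k x => hms k x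
  have hsmul1 : ∀ k : K, k • (1 : F) = mu k := by
    intro k
    rw [hsmul, map_one, mul_one]
  -- the orbit of 1
  have horb : MulAction.orbit K (1 : F) = {x : F | x ≠ 0} := by
    ext x
    constructor
    · rintro ⟨k, rfl⟩
      show k • (1 : F) ≠ 0
      rw [hsmul1]
      exact hmu0 k
    · intro hx
      have hx' : x ≠ 0 := hx
      obtain ⟨k, hk⟩ := htr (e.symm 1) (e.symm x) (by simp) (by simpa using hx')
      refine ⟨k, ?_⟩
      show e (a k (e.symm 1)) = x
      rw [hk, AddEquiv.apply_symm_apply]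
  have hStidx : (MulAction.stabilizer K (1 : F)).index = 2 ^ n - 1 := by
    rw [MulAction.index_stabilizer, horb, ← hn, ← Nat.card_coe_set_eq]
    have h3 : Fintype.card {v : F | v ≠ 0} = Fintype.card F - 1 := Set.card_ne_eq _
    rw [← Nat.card_eq_fintype_card, ← Nat.card_eq_fintype_card] at h3
    exact h3
  have hStmem : ∀ k : K, k ∈ MulAction.stabilizer K (1 : F) ↔ mu k = 1 := by
    intro k
    rw [MulAction.mem_stabilizer_iff, hsmul1]
  set St := MulAction.stabilizer K (1 : F) with hSt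
  set N := sigHom.ker with hN
  have hNmem : ∀ k : K, k ∈ N ↔ sg k = 1 := by
    intro k
    rw [hN, MonoidHom.mem_ker, hsig]
  -- the orders
  have hcardAut : Nat.card (RingAut F) = n := gszF2_card_aut hn
  have hn0 : 0 < n := by
    rcases Nat.eq_zero_or_pos n with h | h
    · exfalso
      rw [h, pow_zero] at hn
      have : 1 < Nat.card F := Finite.one_lt_card
      omega
    · exact h
  have : Finite (RingAut F) := Nat.finite_of_card_ne_zero (by omega)
  have hm : N.index ∣ n := by
    rw [hN, Subgroup.index_ker, ← hcardAut]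
    exact Subgroup.card_subgroup_dvd_card _
  have hs : (N ⊓ St).relIndex St ∣ N.index := by
    rw [Subgroup.inf_relIndex_right, hN, Subgroup.relIndex_ker, Subgroup.index_ker]
    apply Subgroup.card_dvd_of_le
    rintro _ ⟨k, _, rfl⟩
    exact ⟨k, rfl⟩
  have hs0 : (N ⊓ St).relIndex St ≠ 0 := by
    rw [Subgroup.inf_relIndex_right, hN, Subgroup.relIndex_ker]
    exact Nat.card_pos.ne'
  -- the scalar hom
  let muHom : N →* Fˣ := MonoidHom.mk' (fun k => Units.mk0 (mu k.1) (hmu0 k.1)) (by
    intro k k'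
    apply Units.ext
    show mu (k.1 * k'.1) = mu k.1 * mu k'.1
    rw [(hmul k.1 k'.1).1, (hNmem k.1).1 k.2]
    rfl)
  have hmuHom : ∀ k : N, ((muHom k : Fˣ) : F) = mu k.1 := fun k => rfl
  have hker : muHom.ker = (N ⊓ St).subgroupOf N := by
    ext k
    rw [MonoidHom.mem_ker, Subgroup.mem_subgroupOf, Subgroup.mem_inf, hStmem]
    constructor
    · intro h
      refine ⟨k.2, ?_⟩
      rw [← hmuHom, h]
      rfl
    · intro h
      apply Units.ext
      rw [hmuHom, h.2]
      rfl
  have hc : (N ⊓ St).relIndex N = Nat.card muHom.range := by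
    rw [Subgroup.relIndex, ← hker, Subgroup.index_ker]
  -- the cyclic image
  obtain ⟨g, hg⟩ := IsCyclic.exists_generator (α := muHom.range)
  have hgord : orderOf g = Nat.card muHom.range := orderOf_eq_card_of_forall_mem_zpowers hg
  obtain ⟨k₀, hk₀⟩ := g.2
  have h1 := Subgroup.relIndex_mul_index (inf_le_left : N ⊓ St ≤ N)
  have h2 := Subgroup.relIndex_mul_index (inf_le_right : N ⊓ St ≤ St)
  rw [hStidx] at h2
  obtain ⟨e', he'⟩ := hs
  refine ⟨k₀.1, mu k₀.1, e', Nat.card muHom.range, ?_, ?_, ?_, ?_⟩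
  · intro w
    have h3 := hms k₀.1 (e w)
    rw [AddEquiv.symm_apply_apply, (hNmem k₀.1).1 k₀.2] at h3
    exact h3
  · exact (Dvd.intro_left _ he'.symm).trans hm
  · rw [← hc]
    have h3 : (N ⊓ St).relIndex N * N.index = (N ⊓ St).relIndex St * (2 ^ n - 1) := by
      rw [h1, h2]
    rw [he'] at h3
    have h4 : (N ⊓ St).relIndex St * (e' * (N ⊓ St).relIndex N) =
        (N ⊓ St).relIndex St * (2 ^ n - 1) := by
      rw [← h3]; ring
    exact Nat.eq_of_mul_eq_mul_left (Nat.pos_of_ne_zero hs0) h4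
  · rw [← hgord, ← hmuHom, hk₀, orderOf_units, Subgroup.orderOf_coe]
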