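import Mathlib

set_option autoImplicit false

/-! Project LW (S0745/S0746), piece P3 : the order `h` of the `t`-point stabilisers is odd (helper3). -/

namespace Cfsg.Agent.Lib.helper3.LWP3

open MulAction Equiv
open scoped Pointwise

/-! ### generic lemmas -/

/-- an involution of a finite set of odd cardinality has a fixed point -/
theorem exists_fixed_of_odd {β : Type*} [DecidableEq β] (I : Finset β) (φ : β → β)
    (hφI : ∀ b ∈ I, φ b ∈ I) (hinv : ∀ b ∈ I, φ (φ b) = b) (hodd : Odd I.card) :
    ∃ b ∈ I, φ b = b := by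
  by_contra hcon
  push Not at hcon
  have h0 : ∑ b ∈ I, (1 : ZMod 2) = 0 :=
    Finset.sum_involution (fun b _ => φ b) (fun _ _ => by decide) (fun b hb _ => hcon b hb)
      (fun b hb => hφI b hb) (fun b hb => hinv b hb)
  rw [Finset.sum_const, nsmul_eq_mul, mul_one, ZMod.natCast_eq_zero_iff] at h0
  exact (Nat.not_even_iff_odd.mpr hodd) (even_iff_two_dvd.mpr h0)

/-- a finite inverse-closed subset of even cardinality containing `1` has an odd number of
involutions -/
theorem odd_card_involutions {H : Type*} [Group H] [DecidableEq H] (F : Finset H)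
    (h1 : (1 : H) ∈ F) (hinv : ∀ g ∈ F, g⁻¹ ∈ F) (heven : Even F.card) :
    Odd (F.filter fun g => g ≠ 1 ∧ g * g = 1).card := by
  -- the elements with `g * g ≠ 1` come in pairs
  have hA : Even (F.filter fun g => ¬ g * g = 1).card := by
    have h0 : ∑ b ∈ F.filter (fun g => ¬ g * g = 1), (1 : ZMod 2) = 0 := by
      refine Finset.sum_involution (fun b _ => b⁻¹) (fun _ _ => by decide) ?_ ?_ ?_
      · intro b hb _ hbb
        have hb2 := (Finset.mem_filter.mp hb).2
        apply hb2
        calc b * b = b⁻¹ * b := by rw [hbb]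
          _ = 1 := inv_mul_cancel b
      · intro b hb
        obtain ⟨hbF, hb2⟩ := Finset.mem_filter.mp hb
        refine Finset.mem_filter.mpr ⟨hinv b hbF, fun h => hb2 ?_⟩
        have : (b * b)⁻¹ = 1 := by rw [mul_inv_rev]; exact h
        exact inv_eq_one.mp this
      · intro b _
        exact inv_inv b
    rw [Finset.sum_const, nsmul_eq_mul, mul_one, ZMod.natCast_eq_zero_iff] at h0
    exact even_iff_two_dvd.mpr h0
  have hsplit : (F.filter fun g => g * g = 1).card + (F.filter fun g => ¬ g * g = 1).card =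
      F.card := Finset.card_filter_add_card_filter_not _
  have hB : Even (F.filter fun g => g * g = 1).card := by
    have := heven
    rw [← hsplit] at this
    exact (Nat.even_add.mp this).mpr hA
  have hins : (F.filter fun g => g * g = 1) =
      insert 1 (F.filter fun g => g ≠ 1 ∧ g * g = 1) := by
    ext g
    simp only [Finset.mem_filter, Finset.mem_insert]
    constructor
    · rintro ⟨hg, hg2⟩
      by_cases h : g = 1
      · exact Or.inl h
      · exact Or.inr ⟨hg, h, hg2⟩
    · rintro (rfl | ⟨hg, _, hg2⟩)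
      · exact ⟨h1, one_mul 1⟩
      · exact ⟨hg, hg2⟩
  rw [hins, Finset.card_insert_of_notMem (by simp)] at hB
  rcases Nat.even_or_odd (F.filter fun g => g ≠ 1 ∧ g * g = 1).card with he | ho
  · exact absurd hB (Nat.not_even_iff_odd.mpr (he.add_one))
  · exact ho

/-! ### the setting -/

section main

variable {α : Type*} [Fintype α] [DecidableEq α] (G : Subgroup (Equiv.Perm α))

open Classical in
/-- the elements of `G` fixing `T` pointwise -/
noncomputable def FX (T : Finset α) : Finset (Perm α) :=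
  Finset.univ.filter fun g => g ∈ G ∧ ∀ y ∈ T, g y = y

variable {G}

theorem mem_FX {T : Finset α} {g : Perm α} : g ∈ FX G T ↔ g ∈ G ∧ ∀ y ∈ T, g y = y := by
  classical
  unfold FX
  rw [Finset.mem_filter]
  exact ⟨fun h => h.2, fun h => ⟨Finset.mem_univ _, h⟩⟩

theorem one_mem_FX (T : Finset α) : (1 : Perm α) ∈ FX G T :=
  mem_FX.mpr ⟨G.one_mem, fun _ _ => rfl⟩

theorem inv_mem_FX {T : Finset α} {g : Perm α} (hg : g ∈ FX G T) : g⁻¹ ∈ FX G T := by
  obtain ⟨h1, h2⟩ := mem_FX.mp hg
  refine mem_FX.mpr ⟨G.inv_mem h1, fun y hy => ?_⟩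
  rw [Perm.inv_eq_iff_eq]
  exact (h2 y hy).symm

theorem mul_mem_FX {T : Finset α} {g g' : Perm α} (hg : g ∈ FX G T) (hg' : g' ∈ FX G T) :
    g * g' ∈ FX G T := by
  obtain ⟨h1, h2⟩ := mem_FX.mp hg
  obtain ⟨h1', h2'⟩ := mem_FX.mp hg'
  refine mem_FX.mpr ⟨G.mul_mem h1 h1', fun y hy => ?_⟩
  rw [Perm.mul_apply, h2' y hy, h2 y hy]

theorem mem_fixingSubgroup_iff' (T : Finset α) (k : G) :
    k ∈ fixingSubgroup G (T : Set α) ↔ ∀ y ∈ T, (k : Perm α) y = y := by
  rw [mem_fixingSubgroup_iff]
  constructor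
  · intro h y hy
    have := h y (Finset.mem_coe.mpr hy)
    rwa [Subgroup.smul_def, Perm.smul_def] at this
  · intro h y hy
    rw [Subgroup.smul_def, Perm.smul_def]
    exact h y (Finset.mem_coe.mp hy)

theorem card_FX (T : Finset α) : (FX G T).card = Nat.card (fixingSubgroup G (T : Set α)) := by
  classical
  have e : ↥(fixingSubgroup G (T : Set α)) ≃ {g : Perm α // g ∈ FX G T} :=
    { toFun := fun k => ⟨((k : G) : Perm α),
        mem_FX.mpr ⟨(k : G).2, (mem_fixingSubgroup_iff' T (k : G)).mp k.2⟩⟩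
      invFun := fun g => ⟨⟨g.1, (mem_FX.mp g.2).1⟩,
        (mem_fixingSubgroup_iff' T _).mpr (mem_FX.mp g.2).2⟩
      left_inv := fun k => rfl
      right_inv := fun g => rfl }
  rw [Nat.card_congr e, Nat.card_eq_fintype_card, Fintype.card_coe]

variable {t : ℕ}

/-- a non-identity element of `G` fixes at most `t` points -/
theorem fix_le (hfix : ∀ s : Finset α, s.card = t + 1 → fixingSubgroup G (s : Set α) = ⊥)
    {g : Perm α} (hg : g ∈ G) (hg1 : g ≠ 1) (T : Finset α) (hT : ∀ y ∈ T, g y = y) :
    T.card ≤ t := by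
  by_contra hcon
  push Not at hcon
  obtain ⟨T', hT'T, hT'c⟩ := Finset.exists_subset_card_eq (Nat.succ_le_of_lt hcon)
  have hmem : (⟨g, hg⟩ : G) ∈ fixingSubgroup G (T' : Set α) :=
    (mem_fixingSubgroup_iff' T' _).mpr fun y hy => hT y (hT'T hy)
  rw [hfix T' hT'c, Subgroup.mem_bot] at hmem
  exact hg1 (congrArg Subtype.val hmem)

/-- an involution in the pointwise stabiliser of a `t`-set, when `h` is even -/
theorem exists_invol {h : ℕ}
    (hH : ∀ s : Finset α, s.card = t → Nat.card (fixingSubgroup G (s : Set α)) = h)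
    (heven : Even h) (S : Finset α) (hS : S.card = t) :
    ∃ τ ∈ FX G S, τ ≠ 1 ∧ τ * τ = 1 := by
  have hodd := odd_card_involutions (FX G S) (one_mem_FX S) (fun g hg => inv_mem_FX hg)
    (by rw [card_FX, hH S hS]; exact heven)
  have hpos : 0 < ((FX G S).filter fun g => g ≠ 1 ∧ g * g = 1).card := hodd.pos
  obtain ⟨τ, hτ⟩ := Finset.card_pos.mp hpos
  obtain ⟨h1, h2, h3⟩ := Finset.mem_filter.mp hτ
  exact ⟨τ, h1, h2, h3⟩

/-- the fixed points of a non-identity element of the pointwise stabiliser of a `t`-set -/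
theorem moves_of_not_mem (hfix : ∀ s : Finset α, s.card = t + 1 → fixingSubgroup G (s : Set α) = ⊥)
    {S : Finset α} (hS : S.card = t) {τ : Perm α} (hτ : τ ∈ FX G S) (hτ1 : τ ≠ 1)
    {x : α} (hx : x ∉ S) : τ x ≠ x := by
  intro hfx
  obtain ⟨hτG, hτS⟩ := mem_FX.mp hτ
  have := fix_le hfix hτG hτ1 (insert x S) (by
    intro y hy
    rcases Finset.mem_insert.mp hy with rfl | hy
    · exact hfx
    · exact hτS y hy)
  rw [Finset.card_insert_of_notMem hx, hS] at this
  omega

theorem image_not_mem {S : Finset α} {τ : Perm α} (hτ : τ ∈ FX G S) {x : α} (hx : x ∉ S) :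
    τ x ∉ S := by
  intro h
  have h1 := (mem_FX.mp hτ).2 (τ x) h
  exact hx (by rw [← τ.injective h1]; exact h)

/-! ### numerics -/

theorem card_G_eq_fix {h : ℕ} (hT : IsMultiplyPretransitive G α t)
    (hH : ∀ s : Finset α, s.card = t → Nat.card (fixingSubgroup G (s : Set α)) = h)
    (S : Finset α) (hS : S.card = t) :
    Nat.card G = (Fintype.card α).choose t * t.factorial * h := by
  have hn : (S : Set α).ncard = t := by rw [Set.ncard_coe_finset, hS]
  have hidx := IsMultiplyPretransitive.index_of_fixingSubgroup_eq (G := G) (S : Set α)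
    (by rw [hn]; exact hT)
  rw [hn, Nat.card_eq_fintype_card (α := α)] at hidx
  rw [← Subgroup.card_mul_index (fixingSubgroup G (S : Set α)), hidx, hH S hS]
  ring

theorem card_G_eq_stab (hh1 : IsPretransitive G (Set.powersetCard α (t + 1)))
    (Γp : Set.powersetCard α (t + 1)) :
    Nat.card G = (Fintype.card α).choose (t + 1) * Nat.card (stabilizer G Γp) := by
  have hidx := MulAction.index_stabilizer_of_transitive G Γp
  rw [Set.powersetCard.card, Nat.card_eq_fintype_card (α := α)] at hidx
  rw [← Subgroup.card_mul_index (stabilizer G Γp), hidx]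
  ring

theorem factorial_eq {h c : ℕ} (hh : 1 ≤ h) (hn : Fintype.card α = t + h * c)
    (hT : IsMultiplyPretransitive G α t)
    (hH : ∀ s : Finset α, s.card = t → Nat.card (fixingSubgroup G (s : Set α)) = h)
    (hh1 : IsPretransitive G (Set.powersetCard α (t + 1)))
    (Γp : Set.powersetCard α (t + 1)) :
    (t + 1).factorial = c * Nat.card (stabilizer G Γp) := by
  have htn : t ≤ Fintype.card α := by omega
  obtain ⟨S, hS⟩ : ∃ S : Finset α, S.card = t := by
    obtain ⟨S, _, hS⟩ := Finset.exists_subset_card_eq (s := (Finset.univ : Finset α))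
      (n := t) (by rw [Finset.card_univ]; exact htn)
    exact ⟨S, hS⟩
  have e1 := card_G_eq_fix hT hH S hS
  have e2 := card_G_eq_stab hh1 Γp
  set b := Nat.card (stabilizer G Γp) with hb
  set n := Fintype.card α with hnn
  have e3 : n.choose (t + 1) * (t + 1) = n.choose t * (n - t) := Nat.choose_succ_right_eq n t
  have e4 : n - t = h * c := by omega
  have hpos : 0 < n.choose t * h := Nat.mul_pos (Nat.choose_pos htn) hh
  apply Nat.eq_of_mul_eq_mul_left hpos
  calc n.choose t * h * (t + 1).factorial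
      = (n.choose t * t.factorial * h) * (t + 1) := by rw [Nat.factorial_succ]; ring
    _ = (n.choose (t + 1) * b) * (t + 1) := by rw [← e1, e2]
    _ = (n.choose (t + 1) * (t + 1)) * b := by ring
    _ = n.choose t * (h * c) * b := by rw [e3, e4]
    _ = n.choose t * h * (c * b) := by ring

/-! ### the action of a set stabiliser on the set -/

theorem stab_mem_iff (Γp : Set.powersetCard α (t + 1)) (k : G) (hk : k ∈ stabilizer G Γp) (x : α) :
    (k : Perm α) x ∈ (Γp : Finset α) ↔ x ∈ (Γp : Finset α) := by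
  have h1 : k • Γp = Γp := hk
  rw [Subgroup.smul_def] at h1
  have h2 : (k : Perm α) • (Γp : Finset α) = (Γp : Finset α) := by
    have := congrArg (fun s : Set.powersetCard α (t + 1) => (s : Finset α)) h1
    exact (Set.powersetCard.coe_smul (g := (k : Perm α)) (s := Γp)).symm.trans this
  have h3 : (k : Perm α) • x ∈ (k : Perm α) • (Γp : Finset α) ↔ x ∈ (Γp : Finset α) :=
    Finset.smul_mem_smul_finset_iff (k : Perm α)
  rw [h2] at h3
  rwa [Perm.smul_def] at h3

/-- the restriction homomorphism -/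
def rho (Γp : Set.powersetCard α (t + 1)) :
    stabilizer G Γp →* Perm {x // x ∈ (Γp : Finset α)} where
  toFun k := Perm.subtypePerm ((k : G) : Perm α) (stab_mem_iff Γp (k : G) k.2)
  map_one' := by ext x; rfl
  map_mul' k k' := by ext x; rfl

theorem rho_apply (Γp : Set.powersetCard α (t + 1)) (k : stabilizer G Γp)
    (x : {x // x ∈ (Γp : Finset α)}) : ((rho Γp k) x : α) = ((k : G) : Perm α) x := rfl

theorem rho_injective (hfix : ∀ s : Finset α, s.card = t + 1 → fixingSubgroup G (s : Set α) = ⊥)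
    (Γp : Set.powersetCard α (t + 1)) : Function.Injective (rho (G := G) Γp) := by
  rw [injective_iff_map_eq_one]
  intro k hk
  have hmem : (k : G) ∈ fixingSubgroup G (((Γp : Finset α)) : Set α) := by
    rw [mem_fixingSubgroup_iff']
    intro y hy
    have := congrArg (fun σ : Perm {x // x ∈ (Γp : Finset α)} => ((σ ⟨y, hy⟩ : _) : α)) hk
    simpa [rho_apply] using this
  rw [hfix _ Γp.2, Subgroup.mem_bot] at hmem
  exact Subtype.ext hmem

theorem index_range_rho {h c : ℕ} (hh : 1 ≤ h) (hn : Fintype.card α = t + h * c)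
    (hT : IsMultiplyPretransitive G α t)
    (hfix : ∀ s : Finset α, s.card = t + 1 → fixingSubgroup G (s : Set α) = ⊥)
    (hH : ∀ s : Finset α, s.card = t → Nat.card (fixingSubgroup G (s : Set α)) = h)
    (hh1 : IsPretransitive G (Set.powersetCard α (t + 1)))
    (Γp : Set.powersetCard α (t + 1)) : (rho (G := G) Γp).range.index = c := by
  have e1 := factorial_eq hh hn hT hH hh1 Γp
  have e2 : Nat.card (rho (G := G) Γp).range = Nat.card (stabilizer G Γp) :=
    (Nat.card_congr (MonoidHom.ofInjective (rho_injective hfix Γp)).toEquiv).symm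
  have e3 := Subgroup.card_mul_index (rho (G := G) Γp).range
  have e4 : Nat.card (Perm {x // x ∈ (Γp : Finset α)}) = (t + 1).factorial := by
    rw [Nat.card_eq_fintype_card, Fintype.card_perm, Fintype.card_coe]
    exact congrArg Nat.factorial Γp.2
  rw [e2, e4, e1] at e3
  have hbpos : 0 < Nat.card (stabilizer G Γp) := Nat.card_pos
  have : Nat.card (stabilizer G Γp) * (rho (G := G) Γp).range.index =
      Nat.card (stabilizer G Γp) * c := by rw [e3]; ring
  exact Nat.eq_of_mul_eq_mul_left hbpos this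

/-! ### P3b + P3c : `c = 2` is impossible when `h` is even -/

theorem exists_card_eq (htn : t ≤ Fintype.card α) : ∃ S : Finset α, S.card = t := by
  obtain ⟨S, _, hS⟩ := Finset.exists_subset_card_eq (s := (Finset.univ : Finset α))
    (n := t) (by rw [Finset.card_univ]; exact htn)
  exact ⟨S, hS⟩

theorem exists_not_mem_of_card_lt {S : Finset α} (h : S.card < Fintype.card α) : ∃ x, x ∉ S := by
  by_contra hcon
  push Not at hcon
  have : S = Finset.univ := Finset.eq_univ_iff_forall.mpr hcon
  rw [this, Finset.card_univ] at h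
  exact lt_irrefl _ h

theorem invol_apply_apply {τ : Perm α} (hτ2 : τ * τ = 1) (x : α) : τ (τ x) = x := by
  have := congrArg (fun σ : Perm α => σ x) hτ2
  simpa using this

theorem c_ne_two {h c : ℕ} (ht : 1 ≤ t) (hh : 1 ≤ h) (hc : 2 ≤ c)
    (hn : Fintype.card α = t + h * c)
    (hT : IsMultiplyPretransitive G α t)
    (hfix : ∀ s : Finset α, s.card = t + 1 → fixingSubgroup G (s : Set α) = ⊥)
    (hH : ∀ s : Finset α, s.card = t → Nat.card (fixingSubgroup G (s : Set α)) = h)
    (hh1 : IsPretransitive G (Set.powersetCard α (t + 1))) (heven : Even h) : c ≠ 2 := by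
  intro hc2
  have hhc : 2 ≤ h * c := by nlinarith
  obtain ⟨S, hS⟩ := exists_card_eq (α := α) (t := t) (by omega)
  obtain ⟨a, ha⟩ : S.Nonempty := Finset.card_pos.mp (by omega)
  obtain ⟨x, hx⟩ := exists_not_mem_of_card_lt (S := S) (by omega)
  obtain ⟨τ, hτ, hτ1, hτ2⟩ := exists_invol hH heven S hS
  obtain ⟨hτG, hτS⟩ := mem_FX.mp hτ
  have hyx : τ x ≠ x := moves_of_not_mem hfix hS hτ hτ1 hx
  have hyS : τ x ∉ S := image_not_mem hτ hx
  have hτy : τ (τ x) = x := invol_apply_apply hτ2 x
  -- the `(t+1)`-set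
  set Γ : Finset α := insert (τ x) (insert x (S.erase a)) with hΓ
  have hx' : x ∉ S.erase a := fun h => hx (Finset.mem_of_mem_erase h)
  have hy' : τ x ∉ insert x (S.erase a) := by
    intro h
    rcases Finset.mem_insert.mp h with h | h
    · exact hyx h
    · exact hyS (Finset.mem_of_mem_erase h)
  have hΓc : Γ.card = t + 1 := by
    rw [hΓ, Finset.card_insert_of_notMem hy', Finset.card_insert_of_notMem hx',
      Finset.card_erase_of_mem ha, hS]
    omega
  have hτΓ : ∀ w ∈ Γ, τ w ∈ Γ := by
    intro w hw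
    rcases Finset.mem_insert.mp hw with rfl | hw
    · rw [hτy]; exact Finset.mem_insert_of_mem (Finset.mem_insert_self _ _)
    · rcases Finset.mem_insert.mp hw with rfl | hw
      · exact Finset.mem_insert_self _ _
      · rw [hτS w (Finset.mem_of_mem_erase hw)]
        exact Finset.mem_insert_of_mem (Finset.mem_insert_of_mem hw)
  let Γp : Set.powersetCard α (t + 1) := ⟨Γ, Set.powersetCard.mem_iff.mpr hΓc⟩
  have hstab : (⟨τ, hτG⟩ : G) ∈ stabilizer G Γp := by
    rw [mem_stabilizer_iff, Subgroup.smul_def]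
    apply Subtype.ext
    rw [Set.powersetCard.coe_smul]
    show τ • Γ = Γ
    apply Finset.eq_of_subset_of_card_le
    · intro z hz
      obtain ⟨w, hw, rfl⟩ := Finset.mem_smul_finset.mp hz
      rw [Perm.smul_def]
      exact hτΓ w hw
    · rw [Finset.card_smul_finset]
  have hidx := index_range_rho hh hn hT hfix hH hh1 Γp
  rw [hc2] at hidx
  have halt := Equiv.Perm.eq_alternatingGroup_of_index_eq_two hidx
  have hxΓ : x ∈ Γ := Finset.mem_insert_of_mem (Finset.mem_insert_self _ _)
  have hyΓ : τ x ∈ Γ := Finset.mem_insert_self _ _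
  have hswap : rho Γp ⟨⟨τ, hτG⟩, hstab⟩ =
      Equiv.swap (⟨x, hxΓ⟩ : {z // z ∈ (Γp : Finset α)}) ⟨τ x, hyΓ⟩ := by
    ext z
    obtain ⟨z, hz⟩ := z
    rw [rho_apply]
    show τ z = _
    rcases Finset.mem_insert.mp hz with rfl | hz'
    · rw [Equiv.swap_apply_right, hτy]
    · rcases Finset.mem_insert.mp hz' with rfl | hz''
      · rw [Equiv.swap_apply_left]
      · have hzS : z ∈ S := Finset.mem_of_mem_erase hz''
        have h1 : (⟨z, hz⟩ : {z // z ∈ (Γp : Finset α)}) ≠ ⟨x, hxΓ⟩ := by
          intro h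
          exact hx (by rw [← (Subtype.mk.inj h)]; exact hzS)
        have h2 : (⟨z, hz⟩ : {z // z ∈ (Γp : Finset α)}) ≠ ⟨τ x, hyΓ⟩ := by
          intro h
          exact hyS (by rw [← (Subtype.mk.inj h)]; exact hzS)
        rw [Equiv.swap_apply_of_ne_of_ne h1 h2, hτS z hzS]
  have hmem : rho Γp ⟨⟨τ, hτG⟩, hstab⟩ ∈ (rho (G := G) Γp).range := ⟨_, rfl⟩
  rw [halt, Perm.mem_alternatingGroup, hswap, Perm.sign_swap] at hmem
  · exact absurd hmem (by decide)
  · intro h
    exact hyx (Subtype.mk.inj h).symm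

/-! ### P3a : `t ≥ 2` and `h` even force `c ≤ 2` -/

/-- for `x ∉ S` an involution fixing `S1 ∪ {x, τ x}` pointwise and commuting with `τ` -/
theorem exists_comm_invol {h : ℕ}
    (hH : ∀ s : Finset α, s.card = t → Nat.card (fixingSubgroup G (s : Set α)) = h)
    (heven : Even h) {τ : Perm α} (hτG : τ ∈ G) (hτ2 : τ * τ = 1)
    (S' : Finset α) (hS' : S'.card = t) (hτS' : ∀ w ∈ S', τ w ∈ S') :
    ∃ u ∈ FX G S', u ≠ 1 ∧ u * u = 1 ∧ τ * u = u * τ := by
  classical
  have hτinv : τ⁻¹ = τ := inv_eq_of_mul_eq_one_right hτ2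
  set I := (FX G S').filter fun g => g ≠ 1 ∧ g * g = 1 with hI
  have hodd : Odd I.card := odd_card_involutions (FX G S') (one_mem_FX S')
    (fun g hg => inv_mem_FX hg) (by rw [card_FX, hH S' hS']; exact heven)
  have hφI : ∀ g ∈ I, τ * g * τ ∈ I := by
    intro g hg
    obtain ⟨hgF, hg1, hg2⟩ := Finset.mem_filter.mp hg
    obtain ⟨hgG, hgS⟩ := mem_FX.mp hgF
    refine Finset.mem_filter.mpr ⟨mem_FX.mpr ⟨G.mul_mem (G.mul_mem hτG hgG) hτG, ?_⟩, ?_, ?_⟩
    · intro y hy
      rw [Perm.mul_apply, Perm.mul_apply, hgS _ (hτS' y hy)]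
      exact invol_apply_apply hτ2 y
    · intro h
      apply hg1
      have : g = τ * (τ * g * τ) * τ := by
        calc g = (τ * τ) * g * (τ * τ) := by rw [hτ2, one_mul, mul_one]
          _ = τ * (τ * g * τ) * τ := by group
      rw [this, h, mul_one, hτ2]
    · calc τ * g * τ * (τ * g * τ) = τ * g * (τ * τ) * g * τ := by group
        _ = τ * (g * g) * τ := by rw [hτ2]; group
        _ = 1 := by rw [hg2, mul_one, hτ2]
  have hinv : ∀ g ∈ I, τ * (τ * g * τ) * τ = g := by
    intro g _
    calc τ * (τ * g * τ) * τ = (τ * τ) * g * (τ * τ) := by group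
      _ = g := by rw [hτ2, one_mul, mul_one]
  obtain ⟨u, huI, hu⟩ := exists_fixed_of_odd I (fun g => τ * g * τ) hφI hinv hodd
  obtain ⟨huF, hu1, hu2⟩ := Finset.mem_filter.mp huI
  refine ⟨u, huF, hu1, hu2, ?_⟩
  have hu' : τ * u * τ = u := hu
  calc τ * u = τ * u * (τ * τ) := by rw [hτ2, mul_one]
    _ = (τ * u * τ) * τ := by group
    _ = u * τ := by rw [hu']

theorem c_le_two {h c : ℕ} (ht : 2 ≤ t) (hh : 1 ≤ h)
    (hn : Fintype.card α = t + h * c)
    (hfix : ∀ s : Finset α, s.card = t + 1 → fixingSubgroup G (s : Set α) = ⊥)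
    (hH : ∀ s : Finset α, s.card = t → Nat.card (fixingSubgroup G (s : Set α)) = h)
    (heven : Even h) : c ≤ 2 := by
  classical
  obtain ⟨S, hS⟩ := exists_card_eq (α := α) (t := t) (by omega)
  obtain ⟨a, ha, b, hb, hab⟩ := Finset.one_lt_card.mp (by omega : 1 < S.card)
  obtain ⟨τ, hτ, hτ1, hτ2⟩ := exists_invol hH heven S hS
  obtain ⟨hτG, hτS⟩ := mem_FX.mp hτ
  set S1 : Finset α := (S.erase a).erase b with hS1
  have hbS : b ∈ S.erase a := Finset.mem_erase.mpr ⟨hab.symm, hb⟩
  have hS1c : S1.card + 2 = t := by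
    rw [hS1, Finset.card_erase_of_mem hbS, Finset.card_erase_of_mem ha, hS]
    omega
  have hS1S : ∀ y ∈ S1, y ∈ S := fun y hy =>
    Finset.mem_of_mem_erase (Finset.mem_of_mem_erase hy)
  have haS1 : a ∉ S1 := fun h => (Finset.mem_erase.mp (Finset.mem_of_mem_erase h)).1 rfl
  have hbS1 : b ∉ S1 := fun h => (Finset.mem_erase.mp h).1 rfl
  have hS_cases : ∀ y ∈ S, y ∈ S1 ∨ y = a ∨ y = b := by
    intro y hy
    by_cases hya : y = a
    · exact Or.inr (Or.inl hya)
    · by_cases hyb : y = b
      · exact Or.inr (Or.inr hyb)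
      · exact Or.inl (Finset.mem_erase.mpr ⟨hyb, Finset.mem_erase.mpr ⟨hya, hy⟩⟩)
  -- the set of candidates
  set W : Finset (Perm α) := Finset.univ.filter
    fun g => g ∈ G ∧ (∀ y ∈ S1, g y = y) ∧ g a = b ∧ g b = a with hW
  -- the key existence statement
  have key : ∀ x, x ∉ S → ∃ u ∈ W, u x = x ∧ ∀ z, u z = z → z ∈ S1 ∨ z = x ∨ z = τ x := by
    intro x hx
    have hyx : τ x ≠ x := moves_of_not_mem hfix hS hτ hτ1 hx
    have hyS : τ x ∉ S := image_not_mem hτ hx
    have hτy : τ (τ x) = x := invol_apply_apply hτ2 x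
    set S' : Finset α := insert (τ x) (insert x S1) with hS'
    have hx' : x ∉ S1 := fun h => hx (hS1S x h)
    have hy' : τ x ∉ insert x S1 := by
      intro h
      rcases Finset.mem_insert.mp h with h | h
      · exact hyx h
      · exact hyS (hS1S _ h)
    have hS'c : S'.card = t := by
      rw [hS', Finset.card_insert_of_notMem hy', Finset.card_insert_of_notMem hx']
      omega
    have hτS' : ∀ w ∈ S', τ w ∈ S' := by
      intro w hw
      rcases Finset.mem_insert.mp hw with rfl | hw
      · rw [hτy]; exact Finset.mem_insert_of_mem (Finset.mem_insert_self _ _)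
      · rcases Finset.mem_insert.mp hw with rfl | hw
        · exact Finset.mem_insert_self _ _
        · rw [hτS w (hS1S w hw)]
          exact Finset.mem_insert_of_mem (Finset.mem_insert_of_mem hw)
    obtain ⟨u, huF, hu1, hu2, hcomm⟩ := exists_comm_invol hH heven hτG hτ2 S' hS'c hτS'
    obtain ⟨huG, huS'⟩ := mem_FX.mp huF
    have hmem_S' : ∀ z, z ∈ S' ↔ z ∈ S1 ∨ z = x ∨ z = τ x := by
      intro z
      rw [hS', Finset.mem_insert, Finset.mem_insert]
      tauto
    -- fixed points of `u`
    have hfixu : ∀ z, u z = z → z ∈ S' := by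
      intro z hz
      by_contra hzS'
      exact moves_of_not_mem hfix hS'c huF hu1 hzS' hz
    -- `u` preserves `S`
    have huS : ∀ s ∈ S, u s ∈ S := by
      intro s hs
      by_contra hus
      have h1 : τ (u s) ≠ u s := moves_of_not_mem hfix hS hτ hτ1 hus
      apply h1
      have := congrArg (fun σ : Perm α => σ s) hcomm
      simp only [Perm.mul_apply] at this
      rw [this, hτS s hs]
    have huS1 : ∀ y ∈ S1, u y = y := fun y hy =>
      huS' y (Finset.mem_insert_of_mem (Finset.mem_insert_of_mem hy))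
    have hnotS' : ∀ s ∈ S, s ∉ S1 → s ∉ S' := by
      intro s hs hs1 h
      rcases (hmem_S' s).mp h with h | h | h
      · exact hs1 h
      · exact hx (h ▸ hs)
      · exact hyS (h ▸ hs)
    have hu_ab : ∀ s ∈ S, s ∉ S1 → u s ∈ S ∧ u s ∉ S1 ∧ u s ≠ s := by
      intro s hs hs1
      refine ⟨huS s hs, ?_, ?_⟩
      · intro h
        have := huS1 _ h
        exact hs1 (by rw [← u.injective this]; exact h)
      · intro h
        exact hnotS' s hs hs1 (hfixu s h)
    have hua : u a = b := by
      obtain ⟨h1, h2, h3⟩ := hu_ab a ha haS1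
      rcases hS_cases _ h1 with h | h | h
      · exact absurd h h2
      · exact absurd h h3
      · exact h
    have hub : u b = a := by
      obtain ⟨h1, h2, h3⟩ := hu_ab b hb hbS1
      rcases hS_cases _ h1 with h | h | h
      · exact absurd h h2
      · exact h
      · exact absurd h h3
    refine ⟨u, Finset.mem_filter.mpr ⟨Finset.mem_univ _, huG, huS1, hua, hub⟩, ?_, ?_⟩
    · exact huS' x (Finset.mem_insert_of_mem (Finset.mem_insert_self _ _))
    · intro z hz
      exact (hmem_S' z).mp (hfixu z hz)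
  -- choose `u_x`
  choose! f hfW hfx hffix using key
  set X : Finset α := Finset.univ.filter fun x => x ∉ S with hX
  have hXc : X.card = h * c := by
    have : X = Sᶜ := by
      ext x; simp [hX]
    rw [this, Finset.card_compl, hS, hn]
    omega
  have hmaps : ∀ x ∈ X, f x ∈ W := fun x hx => hfW x (Finset.mem_filter.mp hx).2
  have hfib : ∀ w ∈ W, (X.filter fun x => f x = w).card ≤ 2 := by
    intro w _
    by_cases hne : (X.filter fun x => f x = w).Nonempty
    · obtain ⟨x0, hx0⟩ := hne
      obtain ⟨hx0X, hx0w⟩ := Finset.mem_filter.mp hx0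
      have hx0S := (Finset.mem_filter.mp hx0X).2
      have hsub : (X.filter fun x => f x = w) ⊆ {x0, τ x0} := by
        intro x hx
        obtain ⟨hxX, hxw⟩ := Finset.mem_filter.mp hx
        have hxS := (Finset.mem_filter.mp hxX).2
        have hfx : f x x = x := hfx x hxS
        have : f x0 x = x := by rw [hx0w, ← hxw]; exact hfx
        rcases hffix x0 hx0S x this with h | h | h
        · exact absurd (hS1S x h) hxS
        · rw [h]; exact Finset.mem_insert_self _ _
        · rw [h]; exact Finset.mem_insert_of_mem (Finset.mem_singleton_self _)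
      calc (X.filter fun x => f x = w).card ≤ ({x0, τ x0} : Finset α).card :=
            Finset.card_le_card hsub
        _ ≤ 2 := Finset.card_le_two
    · rw [Finset.not_nonempty_iff_eq_empty.mp hne]; simp
  have hXW : X.card ≤ 2 * W.card := Finset.card_le_mul_card_image_of_maps_to hmaps 2 hfib
  have hWh : W.card ≤ h := by
    by_cases hne : W.Nonempty
    · obtain ⟨u0, hu0⟩ := hne
      obtain ⟨_, hu0G, hu0S1, hu0a, hu0b⟩ := Finset.mem_filter.mp hu0
      have hinj : Set.InjOn (fun g : Perm α => u0⁻¹ * g) (W : Set (Perm α)) := by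
        intro g _ g' _ hgg
        exact mul_left_cancel hgg
      have hmapsW : ∀ g ∈ W, (fun g : Perm α => u0⁻¹ * g) g ∈ FX G S := by
        intro g hg
        obtain ⟨_, hgG, hgS1, hga, hgb⟩ := Finset.mem_filter.mp hg
        refine mem_FX.mpr ⟨G.mul_mem (G.inv_mem hu0G) hgG, ?_⟩
        intro y hy
        show (u0⁻¹ * g) y = y
        rw [Perm.mul_apply, Perm.inv_eq_iff_eq]
        rcases hS_cases y hy with h1 | rfl | rfl
        · rw [hgS1 y h1, hu0S1 y h1]
        · rw [hga, hu0a]
        · rw [hgb, hu0b]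
      have := Finset.card_le_card_of_injOn _ hmapsW hinj
      rwa [card_FX, hH S hS] at this
    · rw [Finset.not_nonempty_iff_eq_empty.mp hne]; simp
  have : h * c ≤ h * 2 := by
    rw [← hXc]
    calc X.card ≤ 2 * W.card := hXW
      _ ≤ 2 * h := Nat.mul_le_mul_left 2 hWh
      _ = h * 2 := Nat.mul_comm 2 h
  exact Nat.le_of_mul_le_mul_left this hh

/-! ### the statement of piece P3 -/

theorem h_odd (G : Subgroup (Equiv.Perm α)) (t h c : ℕ) (ht : 1 ≤ t) (hc : 2 ≤ c) (hh : 1 ≤ h)
    (hn : Fintype.card α = t + h * c)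
    (hT : IsMultiplyPretransitive G α t)
    (hfix : ∀ s : Finset α, s.card = t + 1 → fixingSubgroup G (s : Set α) = ⊥)
    (hH : ∀ s : Finset α, s.card = t → Nat.card (fixingSubgroup G (s : Set α)) = h)
    (hh1 : IsPretransitive G (Set.powersetCard α (t + 1))) : Odd h := by
  by_contra hodd
  have heven : Even h := Nat.not_odd_iff_even.mp hodd
  have hne := c_ne_two ht hh hc hn hT hfix hH hh1 heven
  have hle : c ≤ 2 := by
    rcases Nat.lt_or_ge t 2 with h1 | h2
    · -- `t = 1` : `c ∣ 2`
      have ht1 : t = 1 := by omega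
      subst ht1
      obtain ⟨S, hS⟩ := exists_card_eq (α := α) (t := 1 + 1) (by nlinarith)
      have := factorial_eq hh hn hT hH hh1 ⟨S, Set.powersetCard.mem_iff.mpr hS⟩
      have hdvd : c ∣ 2 := ⟨_, this⟩
      exact Nat.le_of_dvd (by norm_num) hdvd
    · exact c_le_two h2 hh hn hfix hH heven
  omega

end main

end Cfsg.Agent.Lib.helper3.LWP3
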