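import Mathlib

set_option autoImplicit false

/-! Project LW (S0745/S0746), piece P8 : pure arithmetic (helper3). -/

namespace Cfsg.Agent.Lib.helper3.LWP8

theorem arith_fin : ∀ t ∈ Finset.Icc 1 3, ∀ c ∈ Finset.Icc 2 24, ∀ h ∈ Finset.Icc 1 30,
    h % 2 = 1 → 3 ≤ h * c → c ∣ (t + 1).factorial → c * (h * c - 1) ∣ (t + 2).factorial →
    (t = 2 ∧ h = 1 ∧ c = 3) ∨ (t = 2 ∧ h = 3 ∧ c = 3) ∨ (t = 3 ∧ h = 3 ∧ c = 2) ∨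
    (t = 3 ∧ h = 1 ∧ c = 3) ∨ (t = 3 ∧ h = 3 ∧ c = 3) ∨ (t = 3 ∧ h = 7 ∧ c = 3) ∨
    (t = 3 ∧ h = 1 ∧ c = 4) ∨ (t = 3 ∧ h = 1 ∧ c = 6) := by
  decide +kernel

theorem arith_small (t h c : ℕ) (ht1 : 1 ≤ t) (ht : t ≤ 3) (hodd : Odd h) (hc : 2 ≤ c)
    (h3 : 3 ≤ h * c) (h1 : c ∣ (t + 1).factorial) (h2 : c * (h * c - 1) ∣ (t + 2).factorial) :
    (t = 2 ∧ h = 1 ∧ c = 3) ∨ (t = 2 ∧ h = 3 ∧ c = 3) ∨ (t = 3 ∧ h = 3 ∧ c = 2) ∨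
    (t = 3 ∧ h = 1 ∧ c = 3) ∨ (t = 3 ∧ h = 3 ∧ c = 3) ∨ (t = 3 ∧ h = 7 ∧ c = 3) ∨
    (t = 3 ∧ h = 1 ∧ c = 4) ∨ (t = 3 ∧ h = 1 ∧ c = 6) := by
  have hf1 : (t + 1).factorial ≤ 24 := by
    have : (t + 1).factorial ≤ (3 + 1).factorial := Nat.factorial_le (by omega)
    have e : (3 + 1).factorial = 24 := by decide
    omega
  have hf2 : (t + 2).factorial ≤ 120 := by
    have : (t + 2).factorial ≤ (3 + 2).factorial := Nat.factorial_le (by omega)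
    have e : (3 + 2).factorial = 120 := by decide
    omega
  have hc24 : c ≤ 24 := le_trans (Nat.le_of_dvd (Nat.factorial_pos _) h1) hf1
  have hprod : c * (h * c - 1) ≤ 120 := le_trans (Nat.le_of_dvd (Nat.factorial_pos _) h2) hf2
  have hh1 : 1 ≤ h := hodd.pos
  have hh30 : h ≤ 30 := by
    by_contra hcon
    push Not at hcon
    have e1 : 62 ≤ h * c := by nlinarith
    have e2 : 61 ≤ h * c - 1 := by omega
    have e3 : 2 * 61 ≤ c * (h * c - 1) := Nat.mul_le_mul hc e2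
    omega
  exact arith_fin t (Finset.mem_Icc.mpr ⟨ht1, ht⟩) c (Finset.mem_Icc.mpr ⟨hc, hc24⟩) h
    (Finset.mem_Icc.mpr ⟨hh1, hh30⟩) (Nat.odd_iff.mp hodd) h3 h1 h2

end Cfsg.Agent.Lib.helper3.LWP8
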