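import Mathlib
import Cfsg.Agent.Lib.Helper10.O4320.Defs
import Cfsg.Agent.Lib.Helper25.CharLinear
import Cfsg.Agent.Lib.helper23.BRCONG
import Cfsg.Agent.Lib.helper2.CharInt

/-!
# Project O4320, piece RAT: a character constant on `P ∖ 1` (`|P| = p`) takes there an integer value `≡ χ(1) mod p`.
-/

set_option autoImplicit false
set_option linter.unusedVariables false
set_option linter.unusedSectionVars false

namespace Cfsg.Agent.Lib.Helper10.O4320

open Classical
open scoped ComplexConjugate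
open Cfsg.Agent.Lib.helper7.BR Cfsg.Agent.Lib.Helper25 Cfsg.Agent.Lib.Helper29

universe u

section generic

variable {G : Type u} [Group G] [Fintype G] {p : ℕ} [Fact p.Prime]

/-- a rational number which is an algebraic integer (as a complex number) is an integer. -/
theorem o4320rat_int_of_integral (q : ℚ) (h : IsIntegral ℤ ((q : ℚ) : ℂ)) : ∃ v : ℤ, (v : ℚ) = q := by
  have h1 : IsIntegral ℤ q := by
    have h2 : IsIntegral ℤ (algebraMap ℚ ℂ q) := by simpa using h
    exact (isIntegral_algebraMap_iff (algebraMap ℚ ℂ).injective).mp h2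
  obtain ⟨v, hv⟩ := IsIntegrallyClosed.isIntegral_iff.mp h1
  exact ⟨v, by simpa using hv⟩

/-- RAT [M]. -/
theorem rat_vals (P : Sylow p G) (hP : Nat.card ↥(P : Subgroup G) = p) (χ : G → ℂ) (hχ : Cfsg.IsCharacter G χ) (d : ℕ)
    (hd : χ 1 = (d : ℂ)) (c : ℂ) (hc : ∀ x ∈ (P : Subgroup G), x ≠ 1 → χ x = c) :
    ∃ v : ℤ, c = (v : ℂ) ∧ (p : ℤ) ∣ (d : ℤ) - v := by
  have hp2 : 2 ≤ p := (Fact.out : p.Prime).two_le
  obtain ⟨m, hm⟩ := sum_subgroup_nat (P : Subgroup G) χ hχ
  rw [brcong_sum_const (P : Subgroup G) χ c hc, hP, hd] at hm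
  have hp1 : ((p : ℂ) - 1) ≠ 0 := by
    intro h0
    have h1 : (p : ℂ) = ((1 : ℕ) : ℂ) := by
      rw [Nat.cast_one]
      linear_combination h0
    have h2 : p = 1 := by exact_mod_cast h1
    omega
  have hp1q : ((p : ℚ) - 1) ≠ 0 := by
    intro h0
    have h1 : (p : ℚ) = ((1 : ℕ) : ℚ) := by
      rw [Nat.cast_one]
      linear_combination h0
    have h2 : p = 1 := by exact_mod_cast h1
    omega
  haveI : Nontrivial ↥(P : Subgroup G) := by
    rw [← Finite.one_lt_card_iff_nontrivial, hP]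
    omega
  obtain ⟨x, hx⟩ := exists_ne (1 : ↥(P : Subgroup G))
  have hcx : χ (x : G) = c := hc x x.2 (fun h => hx (Subtype.ext h))
  obtain ⟨n, ρ, hρ⟩ := hχ
  have hint : IsIntegral ℤ c := by
    rw [← hcx, ← hρ]
    exact Cfsg.Agent.Lib.helper2.char_integral ρ (x : G)
  have hcq : c = (((((p : ℚ) * (m : ℚ) - (d : ℚ)) / ((p : ℚ) - 1)) : ℚ) : ℂ) := by
    push_cast
    rw [eq_div_iff hp1]
    linear_combination hm
  rw [hcq] at hint
  obtain ⟨v, hv⟩ := o4320rat_int_of_integral _ hint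
  have hcv : c = (v : ℂ) := by
    rw [hcq, ← hv]
    push_cast
    rfl
  refine ⟨v, hcv, (m : ℤ) - v, ?_⟩
  rw [hcv] at hm
  have h3 : (((d : ℤ) - v : ℤ) : ℂ) = (((p : ℤ) * ((m : ℤ) - v) : ℤ) : ℂ) := by
    push_cast
    linear_combination hm
  exact_mod_cast h3

end generic

end Cfsg.Agent.Lib.Helper10.O4320
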