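import Mathlib
import Cfsg.Agent.Lib.Helper10.O4320.Defs
import Cfsg.Agent.Lib.Helper25.CharLinear

/-!
# Project O4320, piece SETUP: a simple group of order 4320 is perfect, its Sylow 5-subgroups have order 5 and are not normal.
-/

set_option autoImplicit false
set_option linter.unusedVariables false
set_option linter.unusedSectionVars false

namespace Cfsg.Agent.Lib.Helper10.O4320

open Classical
open Cfsg.Agent.Lib.helper7.BR Cfsg.Agent.Lib.Helper25

universe u

variable {G : Type u} [Group G] [Fintype G]

/-- SETUP [S]: a simple group of order 4320 is perfect, its Sylow 5-subgroups have order 5 and are not normal. -/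
theorem setup [IsSimpleGroup G] (hG : Nat.card G = 4320) :
    commutator G = ⊤ ∧ ∀ P : Sylow 5 G, Nat.card ↥(P : Subgroup G) = 5 ∧ ¬ (P : Subgroup G).Normal := by
  constructor
  · have hn : (commutator G).Normal := by
      rw [commutator_def]
      exact Subgroup.commutator_normal ⊤ ⊤
    rcases hn.eq_bot_or_eq_top with h | h
    · exfalso
      rw [commutator_eq_bot_iff_center_eq_top] at h
      haveI : Fact (Nat.Prime 2) := ⟨Nat.prime_two⟩
      obtain ⟨x, hx⟩ := exists_prime_orderOf_dvd_card' (G := G) 2 (by rw [hG]; norm_num)
      have hxn : (Subgroup.zpowers x).Normal := by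
        refine ⟨fun n _ g => ?_⟩
        have hc : n ∈ Subgroup.center G := by rw [h]; exact Subgroup.mem_top n
        rw [Subgroup.mem_center_iff] at hc
        rw [hc g, mul_inv_cancel_right]
        assumption
      have hcard : Nat.card ↥(Subgroup.zpowers x) = 2 := by rw [Nat.card_zpowers, hx]
      rcases hxn.eq_bot_or_eq_top with h1 | h1
      · rw [h1, Subgroup.card_bot] at hcard
        omega
      · rw [h1, Subgroup.card_top, hG] at hcard
        omega
    · exact h
  · intro P
    have hcard : Nat.card ↥(P : Subgroup G) = 5 := by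
      obtain ⟨k, hk⟩ := IsPGroup.iff_card.mp P.isPGroup'
      have hdvd : Nat.card ↥(P : Subgroup G) ∣ 4320 := by
        rw [← hG]
        exact Subgroup.card_subgroup_dvd_card _
      have h5 : 5 ∣ Nat.card ↥(P : Subgroup G) := P.dvd_card_of_dvd_card (by rw [hG]; norm_num)
      rcases Nat.lt_or_ge k 2 with hk2 | hk2
      · interval_cases k
        · rw [hk] at h5
          norm_num at h5
        · rw [hk]
          norm_num
      · exfalso
        have h25 : 5 ^ 2 ∣ 4320 := (pow_dvd_pow 5 hk2).trans (hk ▸ hdvd)
        norm_num at h25
    refine ⟨hcard, fun hN => ?_⟩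
    rcases hN.eq_bot_or_eq_top with h1 | h1
    · rw [h1, Subgroup.card_bot] at hcard
      omega
    · rw [h1, Subgroup.card_top, hG] at hcard
      omega

end Cfsg.Agent.Lib.Helper10.O4320
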