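import Mathlib
import Cfsg.Agent.Lib.Helper10.O4320.Defs
import Cfsg.Agent.Lib.Helper25.CharLinear

/-!
# Project O4320, piece MONO: the multiplicity of the trivial character in the restriction to a subgroup decreases when the subgroup grows.

Proof through invariants: `∑_{x ∈ K} χ x = |K| dim V^K` (`Representation.card_inv_mul_sum_char_eq_finrank`), and `V^H ≤ V^K` for `K ≤ H`.
-/

set_option autoImplicit false
set_option linter.unusedVariables false
set_option linter.unusedSectionVars false

namespace Cfsg.Agent.Lib.Helper10.O4320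

open Classical
open scoped ComplexConjugate
open Cfsg.Agent.Lib.helper7.BR Cfsg.Agent.Lib.Helper25 Cfsg.Agent.Lib.Helper29

universe u

section generic

variable {G : Type u} [Group G] [Fintype G] {p : ℕ} [Fact p.Prime]

/-- the sum of a character over a subgroup is `|K|` times the dimension of the `K`-invariants. -/
theorem o4320mono_sum_eq {V : Type*} [AddCommGroup V] [Module ℂ V] [FiniteDimensional ℂ V]
    (ρ : Representation ℂ G V) (K : Subgroup G) [Fintype ↥K] :
    ∑ x : ↥K, ρ.character (x : G) =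
      (Nat.card ↥K : ℂ) * (Module.finrank ℂ (Representation.invariants (ρ.comp K.subtype)) : ℂ) := by
  have hne : (Nat.card ↥K : ℂ) ≠ 0 := by exact_mod_cast Nat.card_pos.ne'
  haveI : Invertible (Nat.card ↥K : ℂ) := invertibleOfNonzero hne
  have h := Representation.card_inv_mul_sum_char_eq_finrank (ρ.comp K.subtype)
  rw [← h, ← mul_assoc, mul_inv_cancel₀ hne, one_mul]
  rfl

/-- invariants grow when the subgroup shrinks. -/
theorem o4320mono_inv_le {V : Type*} [AddCommGroup V] [Module ℂ V]
    (ρ : Representation ℂ G V) (K H : Subgroup G) (hKH : K ≤ H) :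
    Representation.invariants (ρ.comp H.subtype) ≤ Representation.invariants (ρ.comp K.subtype) := by
  intro v hv
  rw [Representation.mem_invariants] at hv ⊢
  intro g
  exact hv ⟨(g : G), hKH g.2⟩

/-- MONO [M]. -/
theorem triv_mult_mono (K H : Subgroup G) (hKH : K ≤ H) (χ : G → ℂ) (hχ : Cfsg.IsCharacter G χ) (mK mH : ℕ)
    (hK : ∑ x : ↥K, χ (x : G) = (Nat.card ↥K : ℂ) * (mK : ℂ))
    (hH : ∑ x : ↥H, χ (x : G) = (Nat.card ↥H : ℂ) * (mH : ℂ)) : mH ≤ mK := by
  obtain ⟨n, ρ, hρ⟩ := hχ
  subst hρ
  have hneK : (Nat.card ↥K : ℂ) ≠ 0 := by exact_mod_cast Nat.card_pos.ne'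
  have hneH : (Nat.card ↥H : ℂ) ≠ 0 := by exact_mod_cast Nat.card_pos.ne'
  rw [o4320mono_sum_eq ρ K] at hK
  rw [o4320mono_sum_eq ρ H] at hH
  have h1 : Module.finrank ℂ (Representation.invariants (ρ.comp K.subtype)) = mK := by
    exact_mod_cast mul_left_cancel₀ hneK hK
  have h2 : Module.finrank ℂ (Representation.invariants (ρ.comp H.subtype)) = mH := by
    exact_mod_cast mul_left_cancel₀ hneH hH
  rw [← h1, ← h2]
  exact Submodule.finrank_mono (o4320mono_inv_le ρ K H hKH)

end generic

end Cfsg.Agent.Lib.Helper10.O4320
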