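import Mathlib
import Cfsg.Agent.Lib.helper15.St2

/-!
# Project SU5 (helper3): Steinberg presentation of `SL₂` over a finite field in HOM form: every rank one system `St K G` (helper15.St2) is the image of `SL₂(K)`.
-/

set_option autoImplicit false

namespace Cfsg.Agent.Lib.helper3.SU5

open Cfsg.Agent.Lib.helper15.St2 Matrix

universe u w

section
variable {K : Type u} [Field K] {G : Type w} [Group G]

/-- the Steinberg relators of rank one -/
def su5st_rels (K : Type u) [Field K] : Set (FreeGroup (Bool × K)) :=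
  {r | ∃ (b : Bool) (t u : K), r = FreeGroup.of (b, t) * FreeGroup.of (b, u) * (FreeGroup.of (b, t + u))⁻¹} ∪
  {r | ∃ (b : Bool) (t u : K), t ≠ 0 ∧
    r = cj (FreeGroup.of (b, t) * FreeGroup.of (!b, -t⁻¹) * FreeGroup.of (b, t)) (FreeGroup.of (b, u)) *
      (FreeGroup.of (!b, -(t⁻¹ ^ 2 * u)))⁻¹}

theorem su5st_lift_rel (S : St K G) : ∀ r ∈ su5st_rels K, FreeGroup.lift (fun p : Bool × K => S.X p.1 p.2) r = 1 := by
  rintro r (⟨b, t, u, rfl⟩ | ⟨b, t, u, ht, rfl⟩)
  · simp only [map_mul, map_inv, FreeGroup.lift_apply_of]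
    rw [S.add, mul_inv_cancel]
  · have h : ∀ (f : FreeGroup (Bool × K) →* G) (g a : FreeGroup (Bool × K)), f (cj g a) = cj (f g) (f a) := by
      intro f g a; unfold cj; rw [map_mul, map_mul, map_inv]
    rw [map_mul, map_inv, h]
    simp only [map_mul, FreeGroup.lift_apply_of]
    rw [S.rel b t u ht, mul_inv_cancel]

/-- the universal rank one system -/
def su5st_univ (K : Type u) [Field K] : St K (PresentedGroup (su5st_rels K)) where
  X b t := PresentedGroup.of (b, t)
  add b t u := by
    have h : FreeGroup.of (b, t) * FreeGroup.of (b, u) * (FreeGroup.of (b, t + u))⁻¹ ∈ su5st_rels K :=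
      Or.inl ⟨b, t, u, rfl⟩
    have h1 := (PresentedGroup.one_of_mem (rels := su5st_rels K) h)
    rw [map_mul, map_mul, map_inv, mul_inv_eq_one] at h1
    exact h1
  rel b t u ht := by
    have h : cj (FreeGroup.of (b, t) * FreeGroup.of (!b, -t⁻¹) * FreeGroup.of (b, t)) (FreeGroup.of (b, u)) *
      (FreeGroup.of (!b, -(t⁻¹ ^ 2 * u)))⁻¹ ∈ su5st_rels K := Or.inr ⟨b, t, u, ht, rfl⟩
    have h1 := (PresentedGroup.one_of_mem (rels := su5st_rels K) h)
    rw [map_mul, map_inv, mul_inv_eq_one] at h1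
    show cj (PresentedGroup.mk (su5st_rels K) (FreeGroup.of (b, t)) * PresentedGroup.mk (su5st_rels K) (FreeGroup.of (!b, -t⁻¹)) *
      PresentedGroup.mk (su5st_rels K) (FreeGroup.of (b, t))) (PresentedGroup.mk (su5st_rels K) (FreeGroup.of (b, u))) =
      PresentedGroup.mk (su5st_rels K) (FreeGroup.of (!b, -(t⁻¹ ^ 2 * u)))
    rw [← h1]
    unfold cj
    simp only [map_mul, map_inv]

/-- Steinberg: a rank one system over a finite field is an image of `SL₂`. -/
theorem su5st_exists_hom [Finite K] (S : St K G) :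
    ∃ φ : SpecialLinearGroup (Fin 2) K →* G, (∀ t, φ (xm t) = S.x t) ∧ ∀ t, φ (ym t) = S.y t := by
  classical
  let P := PresentedGroup (su5st_rels K)
  let U : St K P := su5st_univ K
  let ψ : P →* SpecialLinearGroup (Fin 2) K :=
    PresentedGroup.toGroup (f := fun p : Bool × K => (stSL (K := K)).X p.1 p.2) (su5st_lift_rel stSL)
  let θ : P →* G := PresentedGroup.toGroup (f := fun p : Bool × K => S.X p.1 p.2) (su5st_lift_rel S)
  have hψx : ∀ t, ψ (U.x t) = xm t := fun t => by
    show ψ (PresentedGroup.of (true, t)) = xm t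
    rw [PresentedGroup.toGroup.of]; rfl
  have hψy : ∀ t, ψ (U.y t) = ym t := fun t => by
    show ψ (PresentedGroup.of (false, t)) = ym t
    rw [PresentedGroup.toGroup.of]; rfl
  have hθx : ∀ t, θ (U.x t) = S.x t := fun t => by
    show θ (PresentedGroup.of (true, t)) = S.x t
    rw [PresentedGroup.toGroup.of]; rfl
  have hθy : ∀ t, θ (U.y t) = S.y t := fun t => by
    show θ (PresentedGroup.of (false, t)) = S.y t
    rw [PresentedGroup.toGroup.of]; rfl
  have hgen : Subgroup.closure (Set.range fun p : Bool × K => U.X p.1 p.2) = ⊤ := by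
    have h := PresentedGroup.closure_range_of (su5st_rels K)
    exact h
  have hinj : Function.Injective ψ := St.injective_of U hgen ψ hψx hψy
  have hsur : Function.Surjective ψ :=
    surjective_of ψ (fun t => ⟨U.x t, hψx t⟩) (fun t => ⟨U.y t, hψy t⟩)
  let e : P ≃* SpecialLinearGroup (Fin 2) K := MulEquiv.ofBijective ψ ⟨hinj, hsur⟩
  refine ⟨θ.comp e.symm.toMonoidHom, fun t => ?_, fun t => ?_⟩
  · have h1 : e.symm (xm t) = U.x t := by
      rw [MulEquiv.symm_apply_eq]; exact (hψx t).symm
    show θ (e.symm (xm t)) = S.x t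
    rw [h1, hθx]
  · have h1 : e.symm (ym t) = U.y t := by
      rw [MulEquiv.symm_apply_eq]; exact (hψy t).symm
    show θ (e.symm (ym t)) = S.y t
    rw [h1, hθy]

end

end Cfsg.Agent.Lib.helper3.SU5
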