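import Mathlib

set_option autoImplicit false

/-!
# Biadditive pairings on a finite field invariant under multiplication by squares

If `f : F → F → A` is biadditive and `f (μ² b) (μ² c) = f b c` for all `μ ≠ 0`, and `f` is not
trivial, then `|F| ≤ 10`, and `|F| ≤ 4` in characteristic two.
-/

namespace Cfsg.Agent.Lib.helper3

open Polynomial

section SlPair

variable {F : Type*} [Field F] {A : Type*} [CommGroup A] (f : F → F → A)

/-- `l` on the left acts like `m` on the right -/
def SlPR (l m : F) : Prop := ∀ s t, f (l * s) t = f s (m * t)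

variable {f}

theorem slp_left_zero (hl : ∀ b b' c, f (b + b') c = f b c * f b' c) (c : F) : f 0 c = 1 := by
  have := hl 0 0 c
  rw [add_zero] at this
  exact (mul_eq_left.1 this.symm)

theorem slp_right_zero (hr : ∀ b c c', f b (c + c') = f b c * f b c') (b : F) : f b 0 = 1 := by
  have := hr b 0 0
  rw [add_zero] at this
  exact (mul_eq_left.1 this.symm)

theorem slp_right_sub (hr : ∀ b c c', f b (c + c') = f b c * f b c') (b c c' : F) :
    f b (c - c') = f b c * (f b c')⁻¹ := by
  have := hr b (c - c') c'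
  rw [sub_add_cancel] at this
  rw [this, mul_inv_cancel_right]

theorem slPR_sq (hl : ∀ b b' c, f (b + b') c = f b c * f b' c)
    (hr : ∀ b c c', f b (c + c') = f b c * f b c')
    (hinv : ∀ μ b c, μ ≠ 0 → f (μ ^ 2 * b) (μ ^ 2 * c) = f b c) (a : F) :
    SlPR f (a ^ 2) ((a⁻¹) ^ 2) := by
  intro s t
  by_cases ha : a = 0
  · subst ha
    rw [inv_zero, zero_pow (by norm_num), zero_mul, zero_mul, slp_left_zero hl, slp_right_zero hr]
  · have h1 : t = a ^ 2 * ((a⁻¹) ^ 2 * t) := by
      field_simp
    conv_lhs => rw [h1]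
    exact hinv a s _ ha

theorem slPR_add (hl : ∀ b b' c, f (b + b') c = f b c * f b' c)
    (hr : ∀ b c c', f b (c + c') = f b c * f b c') {l m l' m' : F}
    (h : SlPR f l m) (h' : SlPR f l' m') : SlPR f (l + l') (m + m') := by
  intro s t
  rw [add_mul, add_mul, hl, hr, h s t, h' s t]

theorem slPR_mul {l m l' m' : F} (h : SlPR f l m) (h' : SlPR f l' m') :
    SlPR f (l * l') (m * m') := by
  intro s t
  rw [mul_assoc, h (l' * s) t, h' s (m * t), ← mul_assoc, mul_comm m' m]

theorem slPR_one : SlPR f 1 1 := by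
  intro s t
  rw [one_mul, one_mul]

theorem slPR_unique (hr : ∀ b c c', f b (c + c') = f b c * f b c')
    (hne : ∃ b c, f b c ≠ 1) {l m m' : F} (h : SlPR f l m) (h' : SlPR f l m') : m = m' := by
  by_contra hmm
  obtain ⟨b, c, hbc⟩ := hne
  apply hbc
  have hd : m - m' ≠ 0 := sub_ne_zero.mpr hmm
  have h1 : c = (m - m') * ((m - m')⁻¹ * c) := by
    rw [← mul_assoc, mul_inv_cancel₀ hd, one_mul]
  rw [h1, sub_mul, slp_right_sub hr, ← h b, ← h' b, mul_inv_cancel]

end SlPair

section SlPairFin

variable {F : Type*} [Field F] [Fintype F] {A : Type*} [CommGroup A] {f : F → F → A}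

theorem slp_sum_two_sq (x : F) : ∃ a b : F, a ^ 2 + b ^ 2 = x := by
  by_cases h2 : ringChar F = 2
  · obtain ⟨a, ha⟩ := FiniteField.isSquare_of_char_two h2 x
    exact ⟨a, 0, by rw [ha]; ring⟩
  · have hodd : Fintype.card F % 2 = 1 := FiniteField.odd_card_of_char_ne_two h2
    obtain ⟨a, b, hab⟩ := FiniteField.exists_root_sum_quadratic (R := F) (f := X ^ 2)
      (g := X ^ 2 - C x) (degree_X_pow 2) (degree_X_pow_sub_C (by decide) _) hodd
    refine ⟨a, b, ?_⟩
    simp only [eval_C, eval_X, eval_pow, eval_sub] at hab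
    linear_combination hab

theorem slPR_exists (hl : ∀ b b' c, f (b + b') c = f b c * f b' c)
    (hr : ∀ b c c', f b (c + c') = f b c * f b c')
    (hinv : ∀ μ b c, μ ≠ 0 → f (μ ^ 2 * b) (μ ^ 2 * c) = f b c) (l : F) :
    ∃ m, SlPR f l m := by
  obtain ⟨a, b, hab⟩ := slp_sum_two_sq l
  refine ⟨(a⁻¹) ^ 2 + (b⁻¹) ^ 2, ?_⟩
  rw [← hab]
  exact slPR_add hl hr (slPR_sq hl hr hinv a) (slPR_sq hl hr hinv b)

/-- the key algebraic consequence: every `l ≠ 0, -1` is a root of one of four quadratics -/
theorem slp_quadratic (hl : ∀ b b' c, f (b + b') c = f b c * f b' c)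
    (hr : ∀ b c c', f b (c + c') = f b c * f b c')
    (hinv : ∀ μ b c, μ ≠ 0 → f (μ ^ 2 * b) (μ ^ 2 * c) = f b c)
    (hne : ∃ b c, f b c ≠ 1) (l : F) (hl0 : l ≠ 0) (hl1 : 1 + l ≠ 0) :
    l ^ 2 + l + 1 = 0 ∨ l ^ 2 + 3 * l + 1 = 0 ∨ l ^ 2 - l - 1 = 0 ∨ l ^ 2 + l - 1 = 0 := by
  obtain ⟨m, hm⟩ := slPR_exists hl hr hinv l
  have h1 : m ^ 2 = (l⁻¹) ^ 2 := by
    have e1 : SlPR f (l ^ 2) (m ^ 2) := by
      rw [pow_two, pow_two]; exact slPR_mul hm hm
    exact slPR_unique hr hne e1 (slPR_sq hl hr hinv l)
  have h2 : (1 + m) ^ 2 = ((1 + l)⁻¹) ^ 2 := by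
    have e0 : SlPR f (1 + l) (1 + m) := slPR_add hl hr slPR_one hm
    have e1 : SlPR f ((1 + l) ^ 2) ((1 + m) ^ 2) := by
      rw [pow_two, pow_two]; exact slPR_mul e0 e0
    exact slPR_unique hr hne e1 (slPR_sq hl hr hinv (1 + l))
  have hln : l * l⁻¹ = 1 := mul_inv_cancel₀ hl0
  have hkn : (1 + l) * (1 + l)⁻¹ = 1 := mul_inv_cancel₀ hl1
  set n := l⁻¹ with hn
  set k := (1 + l)⁻¹ with hk
  have c1 : m = n ∨ m = -n := by
    have : (m - n) * (m + n) = 0 := by linear_combination h1
    rcases mul_eq_zero.mp this with h | h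
    · left; linear_combination h
    · right; linear_combination h
  have c2 : 1 + m = k ∨ 1 + m = -k := by
    have : (1 + m - k) * (1 + m + k) = 0 := by linear_combination h2
    rcases mul_eq_zero.mp this with h | h
    · left; linear_combination h
    · right; linear_combination h
  rcases c1 with c1 | c1 <;> rcases c2 with c2 | c2
  · -- m = n, 1 + n = k
    left
    have e : (1 + n) * (1 + l) = 1 := by rw [← c1, c2, mul_comm]; exact hkn
    linear_combination l * e + (-(1 : F) - l) * hln
  · -- m = n, 1 + n = -k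
    right; left
    have e : (1 + n) * (1 + l) = -1 := by
      rw [← c1, c2, neg_mul, mul_comm, hkn]
    linear_combination l * e + (-(1 : F) - l) * hln
  · -- m = -n, 1 - n = k
    right; right; left
    have e : (1 - n) * (1 + l) = 1 := by
      have : 1 - n = k := by rw [← c2, c1]; ring
      rw [this, mul_comm]; exact hkn
    linear_combination l * e + ((1 : F) + l) * hln
  · right; right; right
    have e : (1 - n) * (1 + l) = -1 := by
      have : 1 - n = -k := by rw [← c2, c1]; ring
      rw [this, neg_mul, mul_comm, hkn]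
    linear_combination l * e + ((1 : F) + l) * hln

theorem slp_quad_monic (a b : F) : (X ^ 2 + (C a * X + C b) : F[X]).Monic :=
  monic_X_pow_add degree_linear_lt

theorem slp_quad_natDegree (a b : F) : (X ^ 2 + (C a * X + C b) : F[X]).natDegree ≤ 2 := by
  apply natDegree_add_le_of_degree_le
  · exact (natDegree_X_pow_le 2)
  · exact le_trans natDegree_linear_le (by norm_num)

theorem slp_card_erase [DecidableEq F] : ((Finset.univ.erase (0 : F)).erase (-1)).card = Fintype.card F - 2 := by
  classical
  have h1 : (-1 : F) ∈ Finset.univ.erase (0 : F) :=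
    Finset.mem_erase.mpr ⟨neg_ne_zero.mpr one_ne_zero, Finset.mem_univ _⟩
  rw [Finset.card_erase_of_mem h1, Finset.card_erase_of_mem (Finset.mem_univ _), Finset.card_univ]
  omega

theorem slp_mem_erase [DecidableEq F] {l : F} (h : l ∈ (Finset.univ.erase (0 : F)).erase (-1)) :
    l ≠ 0 ∧ 1 + l ≠ 0 := by
  classical
  rw [Finset.mem_erase, Finset.mem_erase] at h
  refine ⟨h.2.1, ?_⟩
  intro h1
  apply h.1
  linear_combination h1

/-- a non-trivial biadditive pairing invariant under squares forces a small field -/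
theorem slp_card_le (hl : ∀ b b' c, f (b + b') c = f b c * f b' c)
    (hr : ∀ b c c', f b (c + c') = f b c * f b c')
    (hinv : ∀ μ b c, μ ≠ 0 → f (μ ^ 2 * b) (μ ^ 2 * c) = f b c)
    (hne : ∃ b c, f b c ≠ 1) :
    Fintype.card F ≤ 10 ∧ ((2 : F) = 0 → Fintype.card F ≤ 4) := by
  classical
  constructor
  · by_contra hlt
    push Not at hlt
    set P : F[X] := (X ^ 2 + (C 1 * X + C 1)) * (X ^ 2 + (C 3 * X + C 1)) *
      (X ^ 2 + (C (-1) * X + C (-1))) * (X ^ 2 + (C 1 * X + C (-1))) with hP
    have hmon : P.Monic :=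
      (((slp_quad_monic 1 1).mul (slp_quad_monic 3 1)).mul (slp_quad_monic (-1) (-1))).mul
        (slp_quad_monic 1 (-1))
    have hdeg : P.natDegree ≤ 8 := by
      refine le_trans natDegree_mul_le ?_
      have h4 := slp_quad_natDegree (F := F) 1 (-1)
      have h3 := slp_quad_natDegree (F := F) (-1) (-1)
      have h2 := slp_quad_natDegree (F := F) 3 1
      have h1 := slp_quad_natDegree (F := F) 1 1
      have h12 := natDegree_mul_le (p := (X ^ 2 + (C 1 * X + C 1) : F[X]))
        (q := (X ^ 2 + (C 3 * X + C 1) : F[X]))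
      have h123 := natDegree_mul_le
        (p := ((X ^ 2 + (C 1 * X + C 1)) * (X ^ 2 + (C 3 * X + C 1)) : F[X]))
        (q := (X ^ 2 + (C (-1) * X + C (-1)) : F[X]))
      omega
    have hzero : P = 0 := by
      apply eq_zero_of_natDegree_lt_card_of_eval_eq_zero' P ((Finset.univ.erase (0 : F)).erase (-1))
      · intro l hlmem
        obtain ⟨h0, h1⟩ := slp_mem_erase hlmem
        rw [hP]
        simp only [eval_mul, eval_add, eval_pow, eval_X, eval_C]
        rcases slp_quadratic hl hr hinv hne l h0 h1 with h | h | h | h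
        · have : l ^ 2 + (1 * l + 1) = 0 := by linear_combination h
          rw [this]; ring
        · have : l ^ 2 + (3 * l + 1) = 0 := by linear_combination h
          rw [this]; ring
        · have : l ^ 2 + (-1 * l + -1) = 0 := by linear_combination h
          rw [this]; ring
        · have : l ^ 2 + (1 * l + -1) = 0 := by linear_combination h
          rw [this]; ring
      · rw [slp_card_erase]
        omega
    exact hmon.ne_zero hzero
  · intro h2
    by_contra hlt
    push Not at hlt
    have hmon := slp_quad_monic (F := F) 1 1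
    have hzero : (X ^ 2 + (C 1 * X + C 1) : F[X]) = 0 := by
      apply eq_zero_of_natDegree_lt_card_of_eval_eq_zero' _ ((Finset.univ.erase (0 : F)).erase (-1))
      · intro l hlmem
        obtain ⟨h0, h1⟩ := slp_mem_erase hlmem
        simp only [eval_add, eval_pow, eval_X, eval_C, eval_mul]
        rcases slp_quadratic hl hr hinv hne l h0 h1 with h | h | h | h
        · linear_combination h
        · linear_combination h - l * h2
        · linear_combination h + (l + 1) * h2
        · linear_combination h + h2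
      · rw [slp_card_erase]
        have := slp_quad_natDegree (F := F) 1 1
        omega
    exact hmon.ne_zero hzero

end SlPairFin

end Cfsg.Agent.Lib.helper3
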