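import Mathlib
import Cfsg.Prelude.Def_KGroupFacts
import Cfsg.Agent.Lib.helper14.SL2Sylow
import Cfsg.Agent.S0261
import Cfsg.Agent.S0262
import Cfsg.Agent.Lib.helper3.StemTools
import Cfsg.Agent.Lib.helper3.SL2Pairing

set_option autoImplicit false

/-!
# Stem extensions of `SL₂(q)`, `q ≠ 4, 9`, are trivial
-/

namespace Cfsg.Agent.Lib.helper3

open Cfsg Cfsg.Agent.Lib.helper14
open scoped commutatorElement

section SlMult

variable {F : Type*} [Field F]

/-- the diagonal torus element `diag(μ, μ⁻¹)` -/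
def slT (μ : F) (hμ : μ ≠ 0) : Matrix.SpecialLinearGroup (Fin 2) F :=
  ⟨!![μ, 0; 0, μ⁻¹], by rw [Matrix.det_fin_two_of]; field_simp; ring⟩

theorem slT_mem_BS (μ : F) (hμ : μ ≠ 0) : slT μ hμ ∈ BS F := by
  rw [mem_BS]
  rfl

theorem slT_conj_uS (μ : F) (hμ : μ ≠ 0) (x : F) :
    slT μ hμ * uS x * (slT μ hμ)⁻¹ = uS (μ ^ 2 * x) := by
  rw [conj_uS_of_mem_BS _ (slT_mem_BS μ hμ)]
  congr 1
  show μ * x / μ⁻¹ = μ ^ 2 * x
  field_simp

variable {Γ : Type*} [Group Γ] (σ : Γ →* Matrix.SpecialLinearGroup (Fin 2) F)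
  (hsurj : Function.Surjective σ)

/-- chosen lift of an upper unitriangular element -/
noncomputable def slLiftU (s : F) : Γ := Classical.choose (hsurj (uS s))

theorem map_slLiftU (s : F) : σ (slLiftU σ hsurj s) = uS s :=
  Classical.choose_spec (hsurj (uS s))

variable (hcen : σ.ker ≤ Subgroup.center Γ)

include hcen in
theorem sl_comm_mem_center {x y : Γ} (h : ⁅σ x, σ y⁆ = 1) : ⁅x, y⁆ ∈ Subgroup.center Γ := by
  apply hcen
  rw [MonoidHom.mem_ker, map_commutatorElement, h]

include hcen in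
theorem slLiftU_comm_mem_center (s t : F) :
    ⁅slLiftU σ hsurj s, slLiftU σ hsurj t⁆ ∈ Subgroup.center Γ := by
  apply sl_comm_mem_center σ hcen
  rw [map_slLiftU, map_slLiftU, commutatorElement_eq_one_iff_mul_comm, uS_mul, uS_mul, add_comm]

/-- the commutator pairing on the lifted unipotent group -/
noncomputable def slPair (s t : F) : Subgroup.center Γ :=
  ⟨⁅slLiftU σ hsurj s, slLiftU σ hsurj t⁆, slLiftU_comm_mem_center σ hsurj hcen s t⟩

theorem slPair_left (b b' c : F) :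
    slPair σ hsurj hcen (b + b') c = slPair σ hsurj hcen b c * slPair σ hsurj hcen b' c := by
  apply Subtype.ext
  show ⁅slLiftU σ hsurj (b + b'), slLiftU σ hsurj c⁆ =
    ⁅slLiftU σ hsurj b, slLiftU σ hsurj c⁆ * ⁅slLiftU σ hsurj b', slLiftU σ hsurj c⁆
  have h1 : σ (slLiftU σ hsurj (b + b')) = σ (slLiftU σ hsurj b * slLiftU σ hsurj b') := by
    rw [map_mul, map_slLiftU, map_slLiftU, map_slLiftU, uS_mul]
  rw [comm_eq_of_map_eq σ hcen h1 rfl]
  have hc := Subgroup.mem_center_iff.mp (slLiftU_comm_mem_center σ hsurj hcen b' c)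
  rw [comm_mul_left_of_commute (hc _)]
  exact (Subgroup.mem_center_iff.mp (slLiftU_comm_mem_center σ hsurj hcen b c) _)

theorem slPair_right (b c c' : F) :
    slPair σ hsurj hcen b (c + c') = slPair σ hsurj hcen b c * slPair σ hsurj hcen b c' := by
  apply Subtype.ext
  show ⁅slLiftU σ hsurj b, slLiftU σ hsurj (c + c')⁆ =
    ⁅slLiftU σ hsurj b, slLiftU σ hsurj c⁆ * ⁅slLiftU σ hsurj b, slLiftU σ hsurj c'⁆
  have h1 : σ (slLiftU σ hsurj (c + c')) = σ (slLiftU σ hsurj c * slLiftU σ hsurj c') := by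
    rw [map_mul, map_slLiftU, map_slLiftU, map_slLiftU, uS_mul]
  rw [comm_eq_of_map_eq σ hcen rfl h1]
  have hc := Subgroup.mem_center_iff.mp (slLiftU_comm_mem_center σ hsurj hcen b c')
  rw [comm_mul_right_of_commute (hc _)]

theorem slPair_inv (μ b c : F) (hμ : μ ≠ 0) :
    slPair σ hsurj hcen (μ ^ 2 * b) (μ ^ 2 * c) = slPair σ hsurj hcen b c := by
  apply Subtype.ext
  show ⁅slLiftU σ hsurj (μ ^ 2 * b), slLiftU σ hsurj (μ ^ 2 * c)⁆ =
    ⁅slLiftU σ hsurj b, slLiftU σ hsurj c⁆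
  obtain ⟨d, hd⟩ := hsurj (slT μ hμ)
  have hc := Subgroup.mem_center_iff.mp (slLiftU_comm_mem_center σ hsurj hcen b c)
  have h0 : ⁅slLiftU σ hsurj b, slLiftU σ hsurj c⁆ =
      d * ⁅slLiftU σ hsurj b, slLiftU σ hsurj c⁆ * d⁻¹ := by
    rw [hc d, mul_inv_cancel_right]
  rw [h0, conj_comm_eq]
  apply comm_eq_of_map_eq σ hcen
  · rw [map_mul, map_mul, map_inv, hd, map_slLiftU, map_slLiftU, slT_conj_uS]
  · rw [map_mul, map_mul, map_inv, hd, map_slLiftU, map_slLiftU, slT_conj_uS]

end SlMult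

section SlMultFin

open scoped IsMulCommutative

variable {F : Type*} [Field F] [Fintype F]
variable {Γ : Type*} [Group Γ] (σ : Γ →* Matrix.SpecialLinearGroup (Fin 2) F)

/-- prime powers `p ^ k ≤ 10` with `k ≥ 2` -/
theorem sl_small_prime_pow (p k : ℕ) (hp : p.Prime) (hk : 2 ≤ k) (h : p ^ k ≤ 10) :
    p ^ k = 4 ∨ p ^ k = 9 ∨ (p = 2 ∧ p ^ k = 8) := by
  have hp2 : 2 ≤ p := hp.two_le
  have h1 : p ^ 2 ≤ p ^ k := Nat.pow_le_pow_right hp.pos hk
  have h2 : p ≤ 3 := by
    by_contra hlt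
    push Not at hlt
    have : 4 ^ 2 ≤ p ^ 2 := Nat.pow_le_pow_left hlt 2
    omega
  have h3 : 2 ^ k ≤ p ^ k := Nat.pow_le_pow_left hp2 k
  have h4 : k ≤ 3 := by
    by_contra hlt
    push Not at hlt
    have : 2 ^ 4 ≤ 2 ^ k := Nat.pow_le_pow_right (by norm_num) hlt
    omega
  interval_cases p <;> interval_cases k <;> simp_all

/-- the commutator subgroup of the preimage of the unipotent subgroup is trivial -/
theorem sl_comm_comap_US_trivial (hsurj : Function.Surjective σ)
    (hcen : σ.ker ≤ Subgroup.center Γ) (p : ℕ) [Fact p.Prime] [CharP F p]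
    (h4 : Fintype.card F ≠ 4) (h9 : Fintype.card F ≠ 9) :
    ∀ w ∈ ⁅(US F).comap σ, (US F).comap σ⁆, w = 1 := by
  have hpP : p.Prime := Fact.out
  obtain ⟨k, -, hk⟩ := FiniteField.card F p
  by_cases hk1 : (k : ℕ) = 1
  · -- prime field: the unipotent group is cyclic
    have hcard : Nat.card (US F) = p := by rw [card_US, hk, hk1, pow_one]
    haveI : IsCyclic (US F) := isCyclic_of_prime_card hcard
    exact comm_comap_trivial_of_cyclic σ hcen (US F)
  · have hk2 : 2 ≤ (k : ℕ) := by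
      have := k.pos
      omega
    have htriv : ∀ s t : F, slPair σ hsurj hcen s t = 1 := by
      by_contra hne
      push Not at hne
      obtain ⟨s, t, hst⟩ := hne
      obtain ⟨h10, h2⟩ := slp_card_le (f := slPair σ hsurj hcen) (slPair_left σ hsurj hcen)
        (slPair_right σ hsurj hcen) (slPair_inv σ hsurj hcen) ⟨s, t, hst⟩
      rw [hk] at h10
      rcases sl_small_prime_pow p k hpP hk2 h10 with h | h | ⟨hp2, h⟩
      · exact h4 (hk.trans h)
      · exact h9 (hk.trans h)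
      · have h20 : (2 : F) = 0 := by
          have := CharP.cast_eq_zero F p
          rw [hp2] at this
          exact_mod_cast this
        have := h2 h20
        rw [hk, h] at this
        omega
    have hbot : ⁅(US F).comap σ, (US F).comap σ⁆ = ⊥ := by
      rw [eq_bot_iff, Subgroup.commutator_le]
      intro g₁ h₁ g₂ h₂
      rw [Subgroup.mem_bot]
      obtain ⟨s, hs⟩ := (mem_US _).mp (Subgroup.mem_comap.mp h₁)
      obtain ⟨t, ht⟩ := (mem_US _).mp (Subgroup.mem_comap.mp h₂)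
      have e : ⁅g₁, g₂⁆ = ⁅slLiftU σ hsurj s, slLiftU σ hsurj t⁆ := by
        apply comm_eq_of_map_eq σ hcen
        · rw [map_slLiftU, hs]
        · rw [map_slLiftU, ht]
      rw [e]
      exact congrArg Subtype.val (htriv s t)
    intro w hw
    rw [hbot, Subgroup.mem_bot] at hw
    exact hw

/-- every finite stem extension of `SL₂(q)`, `q ≠ 4, 9`, has trivial kernel -/
theorem sl2_stem_ker_trivial [Finite Γ] (hsurj : Function.Surjective σ)
    (hcen : σ.ker ≤ Subgroup.center Γ) (hder : σ.ker ≤ commutator Γ)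
    (h4 : Fintype.card F ≠ 4) (h9 : Fintype.card F ≠ 9) : ∀ z ∈ σ.ker, z = 1 := by
  obtain ⟨p, hp⟩ := CharP.exists F
  haveI := hp
  haveI : Fact p.Prime := ⟨CharP.char_is_prime F p⟩
  have hpP : p.Prime := Fact.out
  apply stem_ker_trivial_of_primes σ
  intro r hr z hz hzr
  have hrP : r.Prime := hr.out
  by_cases hrp : r = p
  · subst hrp
    refine stem_no_prime_of_subgroup σ hsurj hcen hder (US F) (not_dvd_index_US r) ?_ hz hzr
    intro w hw _
    exact sl_comm_comap_US_trivial σ hsurj hcen r h4 h9 w hw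
  · by_cases hr2 : r = 2
    · subst hr2
      have hodd : Odd (Fintype.card F) := by
        obtain ⟨k, -, hk⟩ := FiniteField.card F p
        rw [hk]
        exact (hpP.odd_of_ne_two (fun h => hrp h.symm)).pow
      obtain ⟨S⟩ : Nonempty (Sylow 2 (Matrix.SpecialLinearGroup (Fin 2) F)) := inferInstance
      obtain ⟨k, hk1, ⟨e⟩⟩ := Cfsg.Agent.S0261.result hodd S
      have hind : ¬ 2 ∣ (S : Subgroup (Matrix.SpecialLinearGroup (Fin 2) F)).index :=
        Sylow.not_dvd_index S
      haveI : NeZero (2 ^ k) := ⟨pow_ne_zero k (by norm_num)⟩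
      have hq := comm_comap_trivial_of_quat σ hsurj hcen
        (S : Subgroup (Matrix.SpecialLinearGroup (Fin 2) F)) (2 ^ k) e
      exact stem_no_prime_of_subgroup σ hsurj hcen hder
        (S : Subgroup (Matrix.SpecialLinearGroup (Fin 2) F)) hind hq hz hzr
    · obtain ⟨S⟩ : Nonempty (Sylow r (Matrix.SpecialLinearGroup (Fin 2) F)) := inferInstance
      haveI : IsCyclic (S : Subgroup (Matrix.SpecialLinearGroup (Fin 2) F)) :=
        Cfsg.Agent.S0262.result p r hr2 hrp S
      have hind : ¬ r ∣ (S : Subgroup (Matrix.SpecialLinearGroup (Fin 2) F)).index :=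
        Sylow.not_dvd_index S
      refine stem_no_prime_of_subgroup σ hsurj hcen hder
        (S : Subgroup (Matrix.SpecialLinearGroup (Fin 2) F)) hind ?_ hz hzr
      intro w hw _
      exact comm_comap_trivial_of_cyclic σ hcen
        (S : Subgroup (Matrix.SpecialLinearGroup (Fin 2) F)) w hw

end SlMultFin

end Cfsg.Agent.Lib.helper3
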