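import Mathlib
import Cfsg.Agent.Lib.helper17.SLP.Defs
import Cfsg.Agent.Lib.helper3.SP4.Defs

/-!
# SP4 row E10 (`rd4_card`), helper3: core with the statements of E1 E2 E3 E4 E6 E7 E8 E9 as hypotheses.
-/

set_option autoImplicit false

namespace Cfsg.Agent.Lib.helper3.SP4

open Cfsg.Agent.Lib.helper17.SLP

universe u

variable {G : Type u} [Group G]

/-- **E10 core**: the Bruhat count from the root datum, rows E1–E9 as hypotheses. -/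
theorem sp4e10_core (q : ℕ) (T Xa Xb Xc Xd : Subgroup G) (n1 n2 : G)
    (D : RD4 q T Xa Xb Xc Xd n1 n2)
    (hE1 : ∀ (B : Subgroup G) (X1 : Set G), n1 ^ 2 ∈ B → X1 ⊆ (B : Set G) →
      (∀ g ∈ B, ∃ β ∈ B, ∃ a ∈ X1, g = β * a ∧ n1 * β * n1⁻¹ ∈ B) →
      (∀ a ∈ X1, n1 * a * n1⁻¹ ∈ B ∨ ∃ b₁ ∈ B, ∃ b₂ ∈ B, n1 * a * n1⁻¹ = b₁ * n1 * b₂) →
      (∀ a ∈ X1, ∀ m ∈ ({n2, n2 * n1, n2 * n1 * n2} : Set G), m⁻¹ * a * m ∈ B) →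
      ∀ g ∈ Cell8 B n1 n2, n1 * g ∈ Cell8 B n1 n2)
    (hE2 : ∀ (B : Subgroup G) (X2 : Set G), n2 ^ 2 ∈ B → X2 ⊆ (B : Set G) →
      (∀ g ∈ B, ∃ β ∈ B, ∃ a ∈ X2, g = β * a ∧ n2 * β * n2⁻¹ ∈ B) →
      (∀ a ∈ X2, n2 * a * n2⁻¹ ∈ B ∨ ∃ b₁ ∈ B, ∃ b₂ ∈ B, n2 * a * n2⁻¹ = b₁ * n2 * b₂) →
      (∀ a ∈ X2, ∀ m ∈ ({n1, n1 * n2, n1 * n2 * n1} : Set G), m⁻¹ * a * m ∈ B) →
      (∃ b ∈ B, n2 * n1 * n2 * n1 = b * (n1 * n2 * n1 * n2)) →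
      ∀ g ∈ Cell8 B n1 n2, n2 * g ∈ Cell8 B n1 n2)
    (hE3 : ∀ (B : Subgroup G), n1 ^ 2 ∈ B → n2 ^ 2 ∈ B →
      (∀ g ∈ Cell8 B n1 n2, n1 * g ∈ Cell8 B n1 n2) →
      (∀ g ∈ Cell8 B n1 n2, n2 * g ∈ Cell8 B n1 n2) →
      Subgroup.closure ((B : Set G) ∪ {n1, n2}) = ⊤ → ∀ g : G, g ∈ Cell8 B n1 n2)
    (hE4 : ∀ (B : Subgroup G) [Finite B] (X1 X2 : Set G),
      (X1.Finite ∧ X1.ncard ≤ q) → (X2.Finite ∧ X2.ncard ≤ q) →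
      (∀ g ∈ B, ∃ b ∈ B, ∃ y ∈ X1, n1 * g = b * n1 * y) →
      (∀ g ∈ B, ∃ b ∈ B, ∃ y ∈ X2, n2 * g = b * n2 * y) →
      (∀ g : G, g ∈ Cell8 B n1 n2) →
      Finite G ∧ Nat.card G ≤ Nat.card B * (1 + 2 * q + 2 * q ^ 2 + 2 * q ^ 3 + q ^ 4))
    (hE6 : ∃ B : Subgroup G, Finite B ∧ Nat.card B ≤ Nat.card T * q ^ 4 ∧ T ≤ B ∧ Xa ≤ B ∧ Xb ≤ B ∧
      Xc ≤ B ∧ Xd ≤ B ∧
      (∀ g, g ∈ B ↔ ∃ τ ∈ T, ∃ b ∈ Xb, ∃ c ∈ Xc, ∃ d ∈ Xd, ∃ a ∈ Xa, g = τ * b * c * d * a) ∧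
      (∀ g, g ∈ B ↔ ∃ τ ∈ T, ∃ a ∈ Xa, ∃ c ∈ Xc, ∃ d ∈ Xd, ∃ b ∈ Xb, g = τ * a * c * d * b))
    (hE7 : ∀ (B : Subgroup G), T ≤ B → Xa ≤ B → Xb ≤ B → Xc ≤ B → Xd ≤ B →
      (∀ g, g ∈ B ↔ ∃ τ ∈ T, ∃ b ∈ Xb, ∃ c ∈ Xc, ∃ d ∈ Xd, ∃ a ∈ Xa, g = τ * b * c * d * a) →
      (∀ g, g ∈ B ↔ ∃ τ ∈ T, ∃ a ∈ Xa, ∃ c ∈ Xc, ∃ d ∈ Xd, ∃ b ∈ Xb, g = τ * a * c * d * b) →
      (∀ g ∈ B, ∃ β ∈ B, ∃ a ∈ (Xa : Set G), g = β * a ∧ n1 * β * n1⁻¹ ∈ B) ∧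
        ∀ g ∈ B, ∃ β ∈ B, ∃ b ∈ (Xb : Set G), g = β * b ∧ n2 * β * n2⁻¹ ∈ B)
    (hE8 : ∀ (B : Subgroup G), T ≤ B → Xa ≤ B → Xb ≤ B →
      (∀ a ∈ (Xa : Set G), n1 * a * n1⁻¹ ∈ B ∨ ∃ b₁ ∈ B, ∃ b₂ ∈ B, n1 * a * n1⁻¹ = b₁ * n1 * b₂) ∧
        ∀ b ∈ (Xb : Set G), n2 * b * n2⁻¹ ∈ B ∨ ∃ b₁ ∈ B, ∃ b₂ ∈ B, n2 * b * n2⁻¹ = b₁ * n2 * b₂)
    (hE9 : ∀ (B : Subgroup G), Xa ≤ B → Xb ≤ B → Xc ≤ B → Xd ≤ B →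
      (∀ a ∈ (Xa : Set G), ∀ m ∈ ({n2, n2 * n1, n2 * n1 * n2} : Set G), m⁻¹ * a * m ∈ B) ∧
        ∀ b ∈ (Xb : Set G), ∀ m ∈ ({n1, n1 * n2, n1 * n2 * n1} : Set G), m⁻¹ * b * m ∈ B) :
    Finite G ∧ Nat.card G ≤ Nat.card T * q ^ 4 * (1 + 2 * q + 2 * q ^ 2 + 2 * q ^ 3 + q ^ 4) := by
  obtain ⟨B, hBfin, hBcard, hT, ha, hb, hc, hd, hB1, hB2⟩ := hE6
  obtain ⟨hf1, hf2⟩ := hE7 B hT ha hb hc hd hB1 hB2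
  obtain ⟨hr1, hr2⟩ := hE8 B hT ha hb
  obtain ⟨hm1, hm2⟩ := hE9 B ha hb hc hd
  have h1 : n1 ^ 2 ∈ B := hT D.n1sq
  have h2 : n2 ^ 2 ∈ B := hT D.n2sq
  have hbr : ∃ b ∈ B, n2 * n1 * n2 * n1 = b * (n1 * n2 * n1 * n2) := by
    obtain ⟨τ, hτ, e⟩ := D.braid
    exact ⟨τ, hT hτ, e⟩
  have hXa : (Xa : Set G) ⊆ (B : Set G) := fun x hx => ha hx
  have hXb : (Xb : Set G) ⊆ (B : Set G) := fun x hx => hb hx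
  have hn1 := hE1 B (Xa : Set G) h1 hXa hf1 hr1 hm1
  have hn2 := hE2 B (Xb : Set G) h2 hXb hf2 hr2 hm2 hbr
  have hgen : Subgroup.closure ((B : Set G) ∪ {n1, n2}) = ⊤ := by
    rw [eq_top_iff, ← D.gen]
    apply Subgroup.closure_mono
    intro x hx
    rcases hx with ((hx | hx) | hx) | hx
    · exact Or.inl (hT hx)
    · exact Or.inl (ha hx)
    · exact Or.inl (hb hx)
    · exact Or.inr hx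
  have hall := hE3 B h1 h2 hn1 hn2 hgen
  have hc1 : ∀ g ∈ B, ∃ b ∈ B, ∃ y ∈ (Xa : Set G), n1 * g = b * n1 * y := by
    intro g hg
    obtain ⟨β, hβ, a, haa, rfl, hβ'⟩ := hf1 g hg
    exact ⟨n1 * β * n1⁻¹, hβ', a, haa, by group⟩
  have hc2 : ∀ g ∈ B, ∃ b ∈ B, ∃ y ∈ (Xb : Set G), n2 * g = b * n2 * y := by
    intro g hg
    obtain ⟨β, hβ, a, haa, rfl, hβ'⟩ := hf2 g hg
    exact ⟨n2 * β * n2⁻¹, hβ', a, haa, by group⟩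
  have hX1 : (Xa : Set G).Finite ∧ (Xa : Set G).ncard ≤ q := by
    have := D.fina.1
    refine ⟨Set.toFinite _, ?_⟩
    rw [← Nat.card_coe_set_eq]
    exact D.fina.2
  have hX2 : (Xb : Set G).Finite ∧ (Xb : Set G).ncard ≤ q := by
    have := D.finb.1
    refine ⟨Set.toFinite _, ?_⟩
    rw [← Nat.card_coe_set_eq]
    exact D.finb.2
  have := hBfin
  obtain ⟨hfin, hcard⟩ := hE4 B (Xa : Set G) (Xb : Set G) hX1 hX2 hc1 hc2 hall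
  exact ⟨hfin, hcard.trans (Nat.mul_le_mul_right _ hBcard)⟩

end Cfsg.Agent.Lib.helper3.SP4
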