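import Mathlib
import Cfsg.Agent.Lib.helper3.SP4.Defs
import Cfsg.Agent.Lib.helper3.SP4E10core
import Cfsg.Agent.Lib.Lead.SP4E1
import Cfsg.Agent.Lib.Lead.SP4E2
import Cfsg.Agent.Lib.Helper18.SP4E3
import Cfsg.Agent.Lib.Helper18.SP4E4h18
import Cfsg.Agent.Lib.Helper18.SP4E6h18
import Cfsg.Agent.Lib.Helper18.SP4E7

/-!
# SP4 row E10 (`rd4_card`), verbatim

Wrapper of `sp4e10_core` on the landed rows E1 E2 (Lead), E3 E7 E8 E9 (Helper18) and the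
spares of E4 and E6 (Helper18).
-/

set_option autoImplicit false

namespace Cfsg.Agent.Lib.helper3.SP4

open Cfsg.Agent.Lib.helper17.SLP

universe u

section E

variable {G : Type u} [Group G]

variable (q : ℕ) (T Xa Xb Xc Xd : Subgroup G) (n1 n2 : G)

/-- E10: a group with `RD4` data of parameter `q` is finite of order at most
`|T| q^4 (1 + 2q + 2q^2 + 2q^3 + q^4)`. -/
theorem rd4_card (D : RD4 q T Xa Xb Xc Xd n1 n2) :
    Finite G ∧ Nat.card G ≤ Nat.card T * q ^ 4 * (1 + 2 * q + 2 * q ^ 2 + 2 * q ^ 3 + q ^ 4) :=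
  sp4e10_core q T Xa Xb Xc Xd n1 n2 D
    (fun B X1 h1 hX1 hf1 hr1 hm1 => cell8_n1 B X1 n1 n2 h1 hX1 hf1 hr1 hm1)
    (fun B X2 h2 hX2 hf2 hr2 hm2 hbr => cell8_n2 B X2 n1 n2 h2 hX2 hf2 hr2 hm2 hbr)
    (fun B h1 h2 hn1 hn2 hgen => bn_union8 B n1 n2 h1 h2 hn1 hn2 hgen)
    (fun B _ X1 X2 hX1 hX2 hc1 hc2 hall => sp4e4_h18_bn_count8 B n1 n2 X1 X2 q hX1 hX2 hc1 hc2 hall)
    (sp4e6_h18_B4_subgroup q T Xa Xb Xc Xd n1 n2 D)
    (fun B hT ha hb hc hd hB1 hB2 => fact4 q T Xa Xb Xc Xd n1 n2 D B hT ha hb hc hd hB1 hB2)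
    (fun B hT ha hb => rank1_4 q T Xa Xb Xc Xd n1 n2 D B hT ha hb)
    (fun B ha hb hc hd => cells4 q T Xa Xb Xc Xd n1 n2 D B ha hb hc hd)

end E

end Cfsg.Agent.Lib.helper3.SP4
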