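import Mathlib
import Cfsg.Agent.Lib.Helper11.UNS.Defs

/-!
Project UNS (S2316), row G1 `subN_perm`, core: the elements of `N_J` are monomial with a
permutation commuting with `swap` and preserving the `J`-blocks.  The statement of row W1
(`BP_tauS`) is a hypothesis.
-/

set_option autoImplicit false

namespace Cfsg.Agent.Lib.Helper11.UNS

open Matrix Cfsg.Agent.Lib.helper14.SpBN Cfsg.Agent.Lib.Helper5.UNI

universe u

variable {F : Type u} [Field F] {m : ℕ}

theorem unsg1_sigmaS (k : Fin m) : sigmaS m F k.val = sRef k := by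
  unfold sigmaS
  rw [dif_pos k.2]

theorem unsg1_core (hm : 0 < m) (J : Finset ℕ) (hJ : J ⊆ Finset.range m)
    (hW1 : ∀ k : Fin m, k.val ∈ J → BP J (tauS k))
    (g : ↥(Matrix.symplecticGroup (Fin m) F))
    (hg : g ∈ subN (spBN (F := F) hm) (sigmaS m F '' (J : Set ℕ))) :
    ∃ π : Equiv.Perm (Fin m ⊕ Fin m), SwC π ∧ IsMono g.1 π ∧ BP J π := by
  unfold subN at hg
  rw [← Subgroup.closure_eq ((spBN (F := F) hm).B ⊓ (spBN (F := F) hm).N),
    ← Subgroup.closure_union] at hg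
  have hgen : ∀ x : ↥(Matrix.symplecticGroup (Fin m) F),
      x ∈ sigmaS m F '' (J : Set ℕ) ∪
        (((spBN (F := F) hm).B ⊓ (spBN (F := F) hm).N :
          Subgroup ↥(Matrix.symplecticGroup (Fin m) F)) :
            Set ↥(Matrix.symplecticGroup (Fin m) F)) →
      ∃ π : Equiv.Perm (Fin m ⊕ Fin m), SwC π ∧ IsMono x.1 π ∧ BP J π := by
    intro x hx
    rcases hx with ⟨j, hj, rfl⟩ | hx
    · have hjm : j < m := Finset.mem_range.1 (hJ (Finset.mem_coe.1 hj))
      have h1 := unsg1_sigmaS (F := F) (⟨j, hjm⟩ : Fin m)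
      simp only at h1
      rw [h1]
      exact ⟨tauS ⟨j, hjm⟩, SwC_tauS _, isMono_sRef _, hW1 ⟨j, hjm⟩ (Finset.mem_coe.1 hj)⟩
    · have hx' : x ∈ Bsp m F ⊓ Nsp m F := hx
      exact ⟨1, SwC_one, (mem_Tsp_iff x).1 hx', BP_one J⟩
  induction hg using Subgroup.closure_induction'' with
  | mem x hx => exact hgen x hx
  | inv_mem x hx =>
    obtain ⟨π, h1, h2, h3⟩ := hgen x hx
    exact ⟨π⁻¹, SwC_inv h1, isMono_inv x h1 h2, BP_inv J h3⟩
  | one => exact ⟨1, SwC_one, isMono_one, BP_one J⟩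
  | mul a b _ _ ha hb =>
    obtain ⟨π, h1, h2, h3⟩ := ha
    obtain ⟨ρ, k1, k2, k3⟩ := hb
    refine ⟨π * ρ, SwC_mul h1 k1, ?_, BP_mul J h3 k3⟩
    have : (a * b).1 = a.1 * b.1 := rfl
    rw [this]
    exact isMono_mul h2 k2

end Cfsg.Agent.Lib.Helper11.UNS
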