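import Mathlib
import Cfsg.Prelude.Def_Sporadic_a

set_option autoImplicit false

namespace Cfsg.Agent.Lib.helper3

open Cfsg

/-- index of a point in `0..23` -/
def gidx : GolayPt → ℕ
  | none => 23
  | some x => x.val

/-- the word with bitmask `m` -/
def gword (m : ℕ) : GolayPt → ZMod 2 := fun p => if m.testBit (gidx p) then 1 else 0

/-- xor-combination of a list of masks, selected by the bits of `k` -/
def xcombo : List ℕ → ℕ → ℕ
  | [], _ => 0
  | b :: bs, k => (if k % 2 = 1 then b else 0) ^^^ xcombo bs (k / 2)

def popcAux : ℕ → ℕ → ℕ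
  | 0, _ => 0
  | n + 1, m => m % 2 + popcAux n (m / 2)

/-- number of set bits among the lowest 24 -/
def popc (m : ℕ) : ℕ := popcAux 24 m

def golayGens : List ℕ := [340831, 681662, 1363324, 2726648, 5453296, 2517985, 5035970, 1683333,
  3366666, 6733332, 5078057, 1767507, 3535014, 7070028, 5751449, 3114291, 6228582, 4068557, 8137114,
  7885621, 7382635, 6376663, 4364719, 16777215]

def golayBasis : List ℕ := [13062145, 4845570, 13938692, 7221256, 10170384, 11952160, 15515712,
  2019456, 4038912, 8077824, 11654144, 14919680]

def golayCoef : List ℕ := [8390313, 280, 8389785, 1400, 8390330, 8390551, 8390093, 2000, 1347, 101,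
  8390243, 8390181]

/-- the `k`-th codeword as a bitmask, `k < 4096` -/
def golayMask (k : ℕ) : ℕ := xcombo golayBasis k

theorem gidx_lt (p : GolayPt) : gidx p < 24 := by
  cases p with
  | none => decide
  | some x => exact lt_trans (ZMod.val_lt x) (by decide)

theorem gidx_injective : Function.Injective gidx := by
  intro p q h
  cases p with
  | none =>
    cases q with
    | none => rfl
    | some y =>
      exfalso
      have := ZMod.val_lt y
      simp only [gidx] at h
      omega
  | some x =>
    cases q with
    | none =>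
      exfalso
      have := ZMod.val_lt x
      simp only [gidx] at h
      omega
    | some y =>
      simp only [gidx] at h
      rw [ZMod.val_injective 23 h]

theorem exists_gidx_eq {i : ℕ} (hi : i < 24) : ∃ p : GolayPt, gidx p = i := by
  by_cases h : i = 23
  · exact ⟨none, h.symm⟩
  · refine ⟨some (i : ZMod 23), ?_⟩
    simp only [gidx]
    exact ZMod.val_natCast_of_lt (by omega)

theorem zmod2_eq (a : ZMod 2) : a = 0 ∨ a = 1 := by
  revert a; decide

theorem gword_xor (a b : ℕ) : gword (a ^^^ b) = gword a + gword b := by
  funext p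
  simp only [gword, Nat.testBit_xor, Pi.add_apply]
  cases a.testBit (gidx p) <;> cases b.testBit (gidx p) <;> decide

theorem gword_zero : gword 0 = 0 := by
  funext p
  simp [gword]

theorem xcombo_xor (L : List ℕ) (k k' : ℕ) : xcombo L (k ^^^ k') = xcombo L k ^^^ xcombo L k' := by
  induction L generalizing k k' with
  | nil => simp [xcombo]
  | cons b bs ih =>
    simp only [xcombo]
    rw [Nat.xor_div_two, ih]
    have h1 := Nat.mod_two_eq_zero_or_one k
    have h2 := Nat.mod_two_eq_zero_or_one k'
    have h3 : (k ^^^ k') % 2 = (k % 2) ^^^ (k' % 2) := by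
      have := Nat.xor_mod_two_pow (a := k) (b := k') (n := 1)
      simpa using this
    rw [h3]
    rcases h1 with h1 | h1 <;> rcases h2 with h2 | h2 <;> simp [h1, h2] <;>
      simp [Nat.xor_assoc, Nat.xor_comm, Nat.xor_left_comm]

theorem xcombo_zero (L : List ℕ) : xcombo L 0 = 0 := by
  induction L with
  | nil => rfl
  | cons b bs ih => simp [xcombo, ih]

theorem gword_xcombo_mem (V : Submodule (ZMod 2) (GolayPt → ZMod 2)) (L : List ℕ)
    (hL : ∀ b ∈ L, gword b ∈ V) (k : ℕ) : gword (xcombo L k) ∈ V := by
  induction L generalizing k with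
  | nil => simp only [xcombo]; rw [gword_zero]; exact V.zero_mem
  | cons b bs ih =>
    simp only [xcombo]
    rw [gword_xor]
    apply V.add_mem
    · split_ifs
      · exact hL b List.mem_cons_self
      · rw [gword_zero]; exact V.zero_mem
    · exact ih (fun b' hb' => hL b' (List.mem_cons_of_mem _ hb')) _

/-! ### generators -/

set_option maxRecDepth 100000 in
theorem qrWord_eq_gword : ∀ t : ZMod 23, ∀ p : GolayPt,
    qrWord t p = gword (golayGens.getD t.val 0) p := by
  decide +kernel

theorem one_eq_gword : ∀ p : GolayPt, (1 : GolayPt → ZMod 2) p = gword 16777215 p := by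
  decide +kernel

theorem gens_mem' (i : ℕ) (hi : i < 24) : gword (golayGens.getD i 0) ∈ golayCode := by
  by_cases h : i = 23
  · subst h
    have h2 : golayGens.getD (23 : ℕ) 0 = 16777215 := by decide
    rw [h2]
    have : gword 16777215 = 1 := by
      funext p; exact (one_eq_gword p).symm
    rw [this]
    exact Submodule.subset_span (Or.inr rfl)
  · have hi23 : i < 23 := by omega
    have : gword (golayGens.getD i 0) = qrWord (i : ZMod 23) := by
      funext p
      rw [qrWord_eq_gword]
      have hv : ((i : ℕ) : ZMod 23).val = i := ZMod.val_natCast_of_lt hi23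
      rw [hv]
    rw [this]
    exact Submodule.subset_span (Or.inl ⟨_, rfl⟩)

theorem gens_mem : ∀ b ∈ golayGens, gword b ∈ golayCode := by
  intro b hb
  obtain ⟨i, hi, rfl⟩ := List.getElem_of_mem hb
  rw [← List.getD_eq_getElem _ 0 hi]
  exact gens_mem' i hi

set_option maxRecDepth 1000000 in
theorem basis_eq_combo : ∀ i : Fin 12, golayBasis.getD i 0 = xcombo golayGens (golayCoef.getD i 0) := by
  decide +kernel

theorem basis_mem : ∀ b ∈ golayBasis, gword b ∈ golayCode := by
  intro b hb
  obtain ⟨i, hi, rfl⟩ := List.getElem_of_mem hb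
  have hi' : i < 12 := hi
  have := basis_eq_combo ⟨i, hi'⟩
  simp only at this
  rw [← List.getD_eq_getElem _ 0 hi, this]
  exact gword_xcombo_mem _ _ gens_mem _

theorem golayMask_mem (k : ℕ) : gword (golayMask k) ∈ golayCode :=
  gword_xcombo_mem _ _ basis_mem k

set_option maxRecDepth 1000000 in
theorem gens_eq_mask : ∀ i : Fin 24, golayGens.getD i 0 = golayMask (golayGens.getD i 0 % 4096) := by
  decide +kernel

theorem golayMask_xor (k k' : ℕ) : golayMask (k ^^^ k') = golayMask k ^^^ golayMask k' :=
  xcombo_xor _ _ _

theorem mem_golayCode_iff (w : GolayPt → ZMod 2) :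
    w ∈ golayCode ↔ ∃ k, k < 4096 ∧ w = gword (golayMask k) := by
  constructor
  · intro hw
    induction hw using Submodule.span_induction with
    | mem x hx =>
      rcases hx with ⟨t, rfl⟩ | hx
      · refine ⟨golayGens.getD t.val 0 % 4096, Nat.mod_lt _ (by decide), ?_⟩
        have ht : t.val < 24 := lt_trans (ZMod.val_lt t) (by decide)
        have := gens_eq_mask ⟨t.val, ht⟩
        simp only at this
        rw [← this]
        funext p
        exact qrWord_eq_gword t p
      · rw [Set.mem_singleton_iff] at hx
        subst hx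
        refine ⟨16777215 % 4096, by decide, ?_⟩
        have := gens_eq_mask ⟨23, by decide⟩
        have h2 : golayGens.getD (23 : ℕ) 0 = 16777215 := by decide
        simp only [h2] at this
        rw [← this]
        funext p
        exact one_eq_gword p
    | zero => exact ⟨0, by decide, by rw [golayMask, xcombo_zero, gword_zero]⟩
    | add x y _ _ hx hy =>
      obtain ⟨k, hk, rfl⟩ := hx
      obtain ⟨k', hk', rfl⟩ := hy
      refine ⟨k ^^^ k', Nat.xor_lt_two_pow (n := 12) hk hk', ?_⟩
      rw [golayMask_xor, gword_xor]
    | smul a x _ hx =>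
      obtain ⟨k, hk, rfl⟩ := hx
      rcases zmod2_eq a with ha | ha
      · subst ha
        exact ⟨0, by decide, by rw [zero_smul, golayMask, xcombo_zero, gword_zero]⟩
      · subst ha
        exact ⟨k, hk, by rw [one_smul]⟩
  · rintro ⟨k, _, rfl⟩
    exact golayMask_mem k

/-! ### weights -/

theorem popcAux_eq (n m : ℕ) :
    popcAux n m = ∑ i ∈ Finset.range n, if m.testBit i then 1 else 0 := by
  induction n generalizing m with
  | zero => simp [popcAux]
  | succ n ih =>
    rw [popcAux, ih, Finset.sum_range_succ', add_comm]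
    congr 1
    · apply Finset.sum_congr rfl
      intro i _
      rw [Nat.testBit_add_one]
    · rw [Nat.testBit_zero]
      rcases Nat.mod_two_eq_zero_or_one m with h | h <;> simp [h]

theorem sum_gidx (f : ℕ → ℕ) : ∑ p : GolayPt, f (gidx p) = ∑ i ∈ Finset.range 24, f i := by
  rw [Fintype.sum_option, Finset.sum_range_succ, add_comm]
  have : ∑ x : ZMod 23, f (gidx (some x)) = ∑ i ∈ Finset.range 23, f i :=
    Fin.sum_univ_eq_sum_range f 23
  rw [this]
  rfl

theorem hammingNorm_gword (m : ℕ) : hammingNorm (gword m) = popc m := by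
  unfold hammingNorm popc
  rw [popcAux_eq, Finset.card_filter, ← sum_gidx]
  apply Finset.sum_congr rfl
  intro p _
  simp only [gword]
  by_cases h : m.testBit (gidx p) = true <;> simp [h]

/-- the subset of points with bitmask `m` -/
def gset (m : ℕ) : Finset GolayPt := Finset.univ.filter fun p => m.testBit (gidx p) = true

theorem support₂_gword (m : ℕ) : support₂ (gword m) = gset m := by
  unfold support₂ gset
  ext p
  simp only [Finset.mem_filter, Finset.mem_univ, true_and, gword]
  by_cases h : m.testBit (gidx p) = true <;> simp [h]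

theorem card_gset (m : ℕ) : (gset m).card = popc m := by
  rw [← hammingNorm_gword, ← support₂_gword]
  rfl

theorem testBit_of_gset_eq {a b : ℕ} (h : gset a = gset b) {i : ℕ} (hi : i < 24) :
    a.testBit i = b.testBit i := by
  obtain ⟨p, rfl⟩ := exists_gidx_eq hi
  have : p ∈ gset a ↔ p ∈ gset b := by rw [h]
  simp only [gset, Finset.mem_filter, Finset.mem_univ, true_and] at this
  cases ha : a.testBit (gidx p) <;> cases hb : b.testBit (gidx p) <;> simp_all

set_option maxRecDepth 1000000 in
theorem golayMask_low : ∀ k : Fin 4096, golayMask k % 4096 = k := by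
  decide +kernel

theorem gset_golayMask_injOn : Set.InjOn (fun k => gset (golayMask k)) {k | k < 4096} := by
  intro k hk k' hk' h
  have hk1 := golayMask_low ⟨k, hk⟩
  have hk2 := golayMask_low ⟨k', hk'⟩
  simp only at hk1 hk2
  have : golayMask k % 4096 = golayMask k' % 4096 := by
    apply Nat.eq_of_testBit_eq
    intro i
    have e : (4096 : ℕ) = 2 ^ 12 := by norm_num
    rw [e, Nat.testBit_mod_two_pow, Nat.testBit_mod_two_pow]
    by_cases hi : i < 12
    · simp only [hi, decide_true, Bool.true_and]
      exact testBit_of_gset_eq h (by omega)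
    · simp [hi]
  rw [hk1, hk2] at this
  exact this

/-! ### weight enumerator -/

set_option maxRecDepth 1000000 in
theorem golay_weights_mask : ∀ k : Fin 4096, popc (golayMask k) = 0 ∨ popc (golayMask k) = 8 ∨
    popc (golayMask k) = 12 ∨ popc (golayMask k) = 16 ∨ popc (golayMask k) = 24 := by
  decide +kernel

theorem golay_weights (w : GolayPt → ZMod 2) (hw : w ∈ golayCode) :
    hammingNorm w = 0 ∨ hammingNorm w = 8 ∨ hammingNorm w = 12 ∨ hammingNorm w = 16 ∨
      hammingNorm w = 24 := by
  obtain ⟨k, hk, rfl⟩ := (mem_golayCode_iff w).1 hw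
  rw [hammingNorm_gword]
  exact golay_weights_mask ⟨k, hk⟩

set_option maxRecDepth 1000000 in
theorem count_weight_eight :
    ((Finset.range 4096).filter fun k => popc (golayMask k) = 8).card = 759 := by
  decide +kernel

set_option maxRecDepth 1000000 in
theorem count_weight_twelve :
    ((Finset.range 4096).filter fun k => popc (golayMask k) = 12).card = 2576 := by
  decide +kernel

theorem wordsOfWeight_eq (n : ℕ) :
    wordsOfWeight (golayCode : Set (GolayPt → ZMod 2)) n =
      (fun k => gset (golayMask k)) '' {k | k < 4096 ∧ popc (golayMask k) = n} := by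
  ext b
  constructor
  · rintro ⟨⟨w, hw, rfl⟩, hcard⟩
    obtain ⟨k, hk, rfl⟩ := (mem_golayCode_iff w).1 hw
    refine ⟨k, ⟨hk, ?_⟩, (support₂_gword _).symm⟩
    rw [← card_gset, ← support₂_gword]
    exact hcard
  · rintro ⟨k, ⟨hk, hpop⟩, rfl⟩
    refine ⟨⟨gword (golayMask k), golayMask_mem k, support₂_gword _⟩, ?_⟩
    rw [card_gset]
    exact hpop

theorem ncard_wordsOfWeight (n : ℕ) :
    (wordsOfWeight (golayCode : Set (GolayPt → ZMod 2)) n).ncard =
      ((Finset.range 4096).filter fun k => popc (golayMask k) = n).card := by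
  rw [wordsOfWeight_eq, Set.InjOn.ncard_image]
  · rw [← Set.ncard_coe_finset]
    congr 1
    ext k
    simp
  · exact gset_golayMask_injOn.mono (fun k hk => hk.1)

theorem octads_ncard : octads.ncard = 759 := by
  unfold octads
  rw [ncard_wordsOfWeight, count_weight_eight]

theorem dodecads_ncard : dodecads.ncard = 2576 := by
  unfold dodecads
  rw [ncard_wordsOfWeight, count_weight_twelve]

end Cfsg.Agent.Lib.helper3
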