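import Mathlib
import Cfsg.Prelude.Def_Sporadic_a
import Cfsg.Agent.Lib.helper3.Golay

set_option autoImplicit false

namespace Cfsg.Agent.Lib.helper3

open Cfsg
open scoped Pointwise

theorem support₂_comp_symm (w : GolayPt → ZMod 2) (g : Equiv.Perm GolayPt) :
    support₂ (w ∘ g.symm) = g • support₂ w := by
  ext p
  rw [← Finset.inv_smul_mem_iff]
  simp only [support₂, Finset.mem_filter, Finset.mem_univ, true_and, Function.comp_apply]
  rfl

theorem comp_mem_of_gens (g : Equiv.Perm GolayPt) (h : ∀ t : ZMod 23, qrWord t ∘ g ∈ golayCode)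
    {w : GolayPt → ZMod 2} (hw : w ∈ golayCode) : w ∘ g ∈ golayCode := by
  induction hw using Submodule.span_induction with
  | mem x hx =>
    rcases hx with ⟨t, rfl⟩ | hx
    · exact h t
    · rw [Set.mem_singleton_iff] at hx
      subst hx
      exact Submodule.subset_span (Or.inr rfl)
  | zero => exact golayCode.zero_mem
  | add x y _ _ hx hy => exact golayCode.add_mem hx hy
  | smul a x _ hx => exact golayCode.smul_mem a hx

theorem comp_symm_mem_of_gens (g : Equiv.Perm GolayPt)
    (h : ∀ t : ZMod 23, qrWord t ∘ g ∈ golayCode)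
    {w : GolayPt → ZMod 2} (hw : w ∈ golayCode) : w ∘ g.symm ∈ golayCode := by
  let f : golayCode → golayCode := fun v => ⟨v.1 ∘ g, comp_mem_of_gens g h v.2⟩
  have hinj : Function.Injective f := by
    intro v v' hvv
    apply Subtype.ext
    have h1 : v.1 ∘ g = v'.1 ∘ g := congrArg Subtype.val hvv
    funext p
    have := congrFun h1 (g.symm p)
    simpa using this
  have hsurj : Function.Surjective f := Finite.injective_iff_surjective.1 hinj
  obtain ⟨v, hv⟩ := hsurj ⟨w, hw⟩
  have h1 : v.1 ∘ g = w := congrArg Subtype.val hv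
  have : w ∘ g.symm = v.1 := by
    rw [← h1]
    funext p
    simp
  rw [this]
  exact v.2

theorem mem_M24_of_gens (g : Equiv.Perm GolayPt) (h : ∀ t : ZMod 23, qrWord t ∘ g ∈ golayCode) :
    g ∈ M24 := by
  rw [MulAction.mem_stabilizer_iff]
  ext b
  constructor
  · rintro ⟨c, ⟨w, hw, rfl⟩, rfl⟩
    refine ⟨w ∘ g.symm, comp_symm_mem_of_gens g h hw, ?_⟩
    exact support₂_comp_symm w g
  · rintro ⟨w, hw, rfl⟩
    refine ⟨support₂ (w ∘ g), ⟨w ∘ g, comp_mem_of_gens g h hw, rfl⟩, ?_⟩
    show g • support₂ (w ∘ g) = support₂ w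
    rw [← support₂_comp_symm]
    congr 1
    funext p
    simp

/-! ### the four generators -/

set_option maxRecDepth 100000 in
theorem shift_comp : ∀ t : ZMod 23, ∀ p : GolayPt,
    qrWord t (Equiv.optionCongr (Equiv.addRight (1 : ZMod 23)) p) = qrWord (t - 1) p := by
  decide +kernel

theorem shift_mem : Equiv.optionCongr (Equiv.addRight (1 : ZMod 23)) ∈ M24 := by
  apply mem_M24_of_gens
  intro t
  have : qrWord t ∘ Equiv.optionCongr (Equiv.addRight (1 : ZMod 23)) = qrWord (t - 1) := by
    funext p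
    exact shift_comp t p
  rw [this]
  exact Submodule.subset_span (Or.inl ⟨_, rfl⟩)

theorem mul_square_mem (u : (ZMod 23)ˣ) (hu : IsSquare u) :
    Equiv.optionCongr (Units.mulLeft u) ∈ M24 := by
  apply mem_M24_of_gens
  intro t
  obtain ⟨s, rfl⟩ := hu
  have : qrWord t ∘ Equiv.optionCongr (Units.mulLeft (s * s)) =
      qrWord (((s * s)⁻¹ : (ZMod 23)ˣ) * t) := by
    funext p
    cases p with
    | none => rfl
    | some x =>
      simp only [Function.comp_apply, Equiv.optionCongr_apply, Option.map_some, qrWord]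
      have hiff : (∃ r : ZMod 23, (Units.mulLeft (s * s)) x = r ^ 2 + t) ↔
          (∃ r : ZMod 23, x = r ^ 2 + ((s * s)⁻¹ : (ZMod 23)ˣ) * t) := by
        constructor
        · rintro ⟨r, hr⟩
          refine ⟨((s⁻¹ : (ZMod 23)ˣ) : ZMod 23) * r, ?_⟩
          have hr' : ((s * s : (ZMod 23)ˣ) : ZMod 23) * x = r ^ 2 + t := hr
          have e : x = (((s * s)⁻¹ : (ZMod 23)ˣ) : ZMod 23) * (((s * s : (ZMod 23)ˣ) : ZMod 23) * x) := by
            rw [← mul_assoc, ← Units.val_mul, inv_mul_cancel, Units.val_one, one_mul]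
          rw [e, hr', mul_add, mul_pow]
          congr 1
          rw [mul_inv, Units.val_mul, pow_two]
          ring
        · rintro ⟨r, hr⟩
          refine ⟨(s : ZMod 23) * r, ?_⟩
          show ((s * s : (ZMod 23)ˣ) : ZMod 23) * x = _
          rw [hr, mul_add, ← mul_assoc, ← Units.val_mul, mul_inv_cancel, Units.val_one, one_mul,
            mul_pow, Units.val_mul, pow_two]
          ring
      by_cases hc : ∃ r : ZMod 23, (Units.mulLeft (s * s)) x = r ^ 2 + t
      · rw [if_pos hc, if_pos (hiff.1 hc)]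
      · rw [if_neg hc, if_neg (fun h => hc (hiff.2 h))]
  rw [this]
  exact Submodule.subset_span (Or.inl ⟨_, rfl⟩)

def projInvTable : List ℕ := [3232, 2800, 2828, 1644, 1938, 692, 106, 3564, 1332, 2238, 1734, 476,
  3976, 3290, 1338, 1624, 3958, 2384, 454, 2914, 938, 3078, 2590]

def cubeTwistTable : List ℕ := [863, 3288, 158, 4012, 1924, 1191, 3654, 3345, 872, 562, 2955, 2629,
  2034, 2364, 1291, 2531, 2518, 3647, 3178, 2737, 237, 1397, 1753]

set_option maxRecDepth 100000 in
theorem projInv_comp : ∀ t : ZMod 23, ∀ p : GolayPt,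
    qrWord t (projInvFun p) = gword (golayMask (projInvTable.getD t.val 0)) p := by
  decide +kernel

set_option maxRecDepth 100000 in
theorem cubeTwist_comp : ∀ t : ZMod 23, ∀ p : GolayPt,
    qrWord t (cubeTwistFun p) = gword (golayMask (cubeTwistTable.getD t.val 0)) p := by
  decide +kernel

theorem projInv_mem : projInv ∈ M24 := by
  apply mem_M24_of_gens
  intro t
  have : qrWord t ∘ projInv = gword (golayMask (projInvTable.getD t.val 0)) := by
    funext p
    exact projInv_comp t p
  rw [this]
  exact golayMask_mem _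

theorem cubeTwist_mem : cubeTwist ∈ M24 := by
  apply mem_M24_of_gens
  intro t
  have : qrWord t ∘ cubeTwist = gword (golayMask (cubeTwistTable.getD t.val 0)) := by
    funext p
    exact cubeTwist_comp t p
  rw [this]
  exact golayMask_mem _

end Cfsg.Agent.Lib.helper3
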