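import Mathlib
import Cfsg.Prelude.Def_Sporadic_a
import Cfsg.Agent.Lib.helper3.Golay

set_option autoImplicit false

namespace Cfsg.Agent.Lib.helper3

open Cfsg

theorem support₂_add_card {α : Type*} [Fintype α] [DecidableEq α] (v w : α → ZMod 2) :
    (support₂ (v + w)).card + 2 * (support₂ v ∩ support₂ w).card =
      (support₂ v).card + (support₂ w).card := by
  unfold support₂
  rw [← Finset.filter_and, Finset.card_filter, Finset.card_filter, Finset.card_filter,
    Finset.card_filter, Finset.mul_sum, ← Finset.sum_add_distrib, ← Finset.sum_add_distrib]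
  apply Finset.sum_congr rfl
  intro i _
  have h11 : (1 : ZMod 2) + 1 = 0 := by decide
  rcases zmod2_eq (v i) with hv | hv <;> rcases zmod2_eq (w i) with hw | hw <;>
    simp [hv, hw, h11]

theorem support₂_injective {α : Type*} [Fintype α] : Function.Injective (support₂ (α := α)) := by
  intro v w h
  funext i
  have hi : i ∈ support₂ v ↔ i ∈ support₂ w := by rw [h]
  simp only [support₂, Finset.mem_filter, Finset.mem_univ, true_and] at hi
  rcases zmod2_eq (v i) with hv | hv <;> rcases zmod2_eq (w i) with hw | hw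
  · rw [hv, hw]
  · exfalso; rw [hv, hw] at hi; simp at hi
  · exfalso; rw [hv, hw] at hi; simp at hi
  · rw [hv, hw]

theorem mem_octads_iff (b : Finset GolayPt) :
    b ∈ octads ↔ ∃ w ∈ golayCode, support₂ w = b ∧ hammingNorm w = 8 := by
  constructor
  · rintro ⟨⟨w, hw, rfl⟩, hc⟩
    exact ⟨w, hw, rfl, hc⟩
  · rintro ⟨w, hw, rfl, hc⟩
    exact ⟨⟨w, hw, rfl⟩, hc⟩

theorem octads_inter_card_le {b c : Finset GolayPt} (hb : b ∈ octads) (hc : c ∈ octads) (hne : b ≠ c) :
    (b ∩ c).card ≤ 4 := by
  obtain ⟨v, hv, rfl, hv8⟩ := (mem_octads_iff b).1 hb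
  obtain ⟨w, hw, rfl, hw8⟩ := (mem_octads_iff c).1 hc
  have h := support₂_add_card v w
  have hvw : v + w ∈ golayCode := golayCode.add_mem hv hw
  have hwt := golay_weights (v + w) hvw
  have e1 : (support₂ v).card = 8 := hv8
  have e2 : (support₂ w).card = 8 := hw8
  have e3 : (support₂ (v + w)).card = hammingNorm (v + w) := rfl
  have hne0 : hammingNorm (v + w) ≠ 0 := by
    intro h0
    rw [hammingNorm_eq_zero] at h0
    apply hne
    have : v = w := by
      have h2 : v = v + (w + w) := by
        have : w + w = 0 := by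
          funext i
          rcases zmod2_eq (w i) with h | h <;> simp [h] <;> decide
        rw [this, add_zero]
      rw [h2, ← add_assoc, h0, zero_add]
    rw [this]
  rw [e1, e2, e3] at h
  rcases hwt with h0 | h0 | h0 | h0 | h0
  · exact absurd h0 hne0
  all_goals omega

theorem octads_card_eq {b : Finset GolayPt} (hb : b ∈ octads) : b.card = 8 := hb.2

theorem octads_steiner : IsSteinerSystem 5 8 octads := by
  refine ⟨fun b hb => octads_card_eq hb, ?_⟩
  have hfin : octads.Finite := Set.toFinite _
  set O : Finset (Finset GolayPt) := hfin.toFinset with hO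
  have hOmem : ∀ b, b ∈ O ↔ b ∈ octads := fun b => Set.Finite.mem_toFinset hfin
  have hOcard : O.card = 759 := by
    rw [← octads_ncard, Set.ncard_eq_toFinset_card octads hfin]
  have hdisj : (O : Set (Finset GolayPt)).PairwiseDisjoint (fun o => o.powersetCard 5) := by
    intro b hb c hc hne
    rw [Function.onFun, Finset.disjoint_left]
    intro s hsb hsc
    rw [Finset.mem_powersetCard] at hsb hsc
    have h1 : s ⊆ b ∩ c := Finset.subset_inter hsb.1 hsc.1
    have h2 := Finset.card_le_card h1
    have h3 := octads_inter_card_le ((hOmem b).1 hb) ((hOmem c).1 hc) hne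
    omega
  have hUcard : (O.biUnion (fun o => o.powersetCard 5)).card = 42504 := by
    rw [Finset.card_biUnion hdisj]
    have : ∀ o ∈ O, (o.powersetCard 5).card = 56 := by
      intro o ho
      rw [Finset.card_powersetCard, octads_card_eq ((hOmem o).1 ho)]
      rfl
    rw [Finset.sum_congr rfl this, Finset.sum_const, hOcard]
    rfl
  have hsub : O.biUnion (fun o => o.powersetCard 5) ⊆ (Finset.univ : Finset GolayPt).powersetCard 5 := by
    intro s hs
    rw [Finset.mem_biUnion] at hs
    obtain ⟨o, _, hso⟩ := hs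
    rw [Finset.mem_powersetCard] at hso ⊢
    exact ⟨Finset.subset_univ _, hso.2⟩
  have huniv : ((Finset.univ : Finset GolayPt).powersetCard 5).card = 42504 := by
    rw [Finset.card_powersetCard]
    rfl
  have heq := Finset.eq_of_subset_of_card_le hsub (by rw [hUcard, huniv])
  intro s hs
  have hsU : s ∈ O.biUnion (fun o => o.powersetCard 5) := by
    rw [heq, Finset.mem_powersetCard]
    exact ⟨Finset.subset_univ _, hs⟩
  rw [Finset.mem_biUnion] at hsU
  obtain ⟨o, ho, hso⟩ := hsU
  rw [Finset.mem_powersetCard] at hso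
  refine ⟨o, ⟨(hOmem o).1 ho, hso.1⟩, ?_⟩
  rintro o' ⟨ho', hso'⟩
  by_contra hne
  have h1 : s ⊆ o' ∩ o := Finset.subset_inter hso' hso.1
  have h2 := Finset.card_le_card h1
  have h3 := octads_inter_card_le ho' ((hOmem o).1 ho) hne
  omega

end Cfsg.Agent.Lib.helper3
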