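import Mathlib
import Cfsg.Prelude.Def_Sporadic_a
import Cfsg.Agent.Lib.helper3.Golay
import Cfsg.Agent.Lib.helper3.GolaySteiner
import Cfsg.Agent.Lib.helper3.GolayM24

set_option autoImplicit false

namespace Cfsg.Agent.Lib.helper3

open Cfsg
open scoped Pointwise

theorem basis_popc : ∀ b ∈ golayBasis, popc b = 8 := by decide

theorem card_smul_finset (g : Equiv.Perm GolayPt) (b : Finset GolayPt) : (g • b).card = b.card :=
  Finset.card_smul_finset g b

theorem comp_symm_mem_of_octads (g : Equiv.Perm GolayPt) (h : ∀ b ∈ octads, g • b ∈ octads)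
    {w : GolayPt → ZMod 2} (hw : w ∈ golayCode) : w ∘ g.symm ∈ golayCode := by
  obtain ⟨k, _, rfl⟩ := (mem_golayCode_iff w).1 hw
  let V : Submodule (ZMod 2) (GolayPt → ZMod 2) :=
    Submodule.comap (LinearMap.funLeft (ZMod 2) (ZMod 2) g.symm) golayCode
  have hV : ∀ v, v ∈ V ↔ v ∘ g.symm ∈ golayCode := fun v => Iff.rfl
  rw [← hV]
  apply gword_xcombo_mem V golayBasis
  intro b hb
  rw [hV]
  have hoct : support₂ (gword b) ∈ octads := by
    rw [mem_octads_iff]
    exact ⟨gword b, basis_mem b hb, rfl, by rw [hammingNorm_gword]; exact basis_popc b hb⟩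
  have := h _ hoct
  rw [mem_octads_iff] at this
  obtain ⟨w', hw', hsupp, _⟩ := this
  rw [← support₂_comp_symm] at hsupp
  rw [← support₂_injective hsupp]
  exact hw'

theorem smul_octads_of_mem_M24 {g : Equiv.Perm GolayPt} (hg : g ∈ M24) :
    ∀ b ∈ octads, g • b ∈ octads := by
  intro b hb
  rw [MulAction.mem_stabilizer_iff] at hg
  refine ⟨?_, by rw [card_smul_finset]; exact hb.2⟩
  rw [← hg]
  exact ⟨b, hb.1, rfl⟩

theorem smul_set_eq_of_forall {X : Set (Finset GolayPt)} {g : Equiv.Perm GolayPt}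
    (h1 : ∀ b ∈ X, g • b ∈ X) (h2 : ∀ b ∈ X, g⁻¹ • b ∈ X) : g • X = X := by
  ext b
  constructor
  · rintro ⟨c, hc, rfl⟩
    exact h1 c hc
  · intro hb
    exact ⟨g⁻¹ • b, h2 b hb, by simp⟩

theorem M24_eq_octad_aut : M24 = setSystemAut octads := by
  ext g
  constructor
  · intro hg
    rw [MulAction.mem_stabilizer_iff]
    exact smul_set_eq_of_forall (smul_octads_of_mem_M24 hg) (smul_octads_of_mem_M24 (M24.inv_mem hg))
  · intro hg
    rw [MulAction.mem_stabilizer_iff] at hg
    have h1 : ∀ b ∈ octads, g • b ∈ octads := by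
      intro b hb
      rw [← hg]
      exact ⟨b, hb, rfl⟩
    have h2 : g⁻¹ ∈ M24 := by
      apply mem_M24_of_gens
      intro t
      have : qrWord t ∘ (g⁻¹ : Equiv.Perm GolayPt) = qrWord t ∘ g.symm := rfl
      rw [this]
      exact comp_symm_mem_of_octads g h1 (Submodule.subset_span (Or.inl ⟨t, rfl⟩))
    have := M24.inv_mem h2
    simpa using this

end Cfsg.Agent.Lib.helper3
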