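import Mathlib
import Cfsg.Prelude.Def_Sporadic_a
import Cfsg.Agent.Lib.helper3.Golay
import Cfsg.Agent.Lib.helper3.GolayM24

set_option autoImplicit false

namespace Cfsg.Agent.Lib.helper3

open Cfsg
open scoped Pointwise

/-- the point with index `i` -/
def gpt (i : ℕ) : GolayPt := if i = 23 then none else some (i : ZMod 23)

theorem gidx_gpt {i : ℕ} (hi : i < 24) : gidx (gpt i) = i := by
  unfold gpt
  split_ifs with h
  · exact h.symm
  · simp only [gidx]
    exact ZMod.val_natCast_of_lt (by omega)

theorem gpt_gidx (p : GolayPt) : gpt (gidx p) = p := by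
  apply gidx_injective
  exact gidx_gpt (gidx_lt p)

def bitsFrom (c : ℕ → Bool) : ℕ → ℕ → ℕ
  | _, 0 => 0
  | i, n + 1 => (if c i then 1 else 0) + 2 * bitsFrom c (i + 1) n

theorem testBit_bitsFrom (c : ℕ → Bool) (i n j : ℕ) :
    (bitsFrom c i n).testBit j = (decide (j < n) && c (i + j)) := by
  induction n generalizing i j with
  | zero => simp [bitsFrom]
  | succ n ih =>
    cases j with
    | zero =>
      simp only [bitsFrom, Nat.testBit_zero, add_zero]
      cases c i <;> simp <;> omega
    | succ j =>
      rw [bitsFrom, Nat.testBit_add_one]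
      have : ((if c i = true then 1 else 0) + 2 * bitsFrom c (i + 1) n) / 2 = bitsFrom c (i + 1) n := by
        cases c i <;> simp <;> omega
      rw [this, ih]
      have e : i + 1 + j = i + (j + 1) := by omega
      rw [e]
      congr 1
      simp

def tblFun (L : List ℕ) (p : GolayPt) : GolayPt := gpt (L.getD (gidx p) 0)

def permMask (L : List ℕ) (m : ℕ) : ℕ := bitsFrom (fun i => m.testBit (L.getD i 0)) 0 24

def tblCheck (L : List ℕ) : Bool :=
  (L.length == 24) && L.all (fun x => decide (x < 24)) &&
  (List.range 24).all (fun i => L.contains i) &&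
  (List.range 23).all (fun t => golayMask (permMask L (golayGens.getD t 0) % 4096) ==
    permMask L (golayGens.getD t 0))

theorem gword_tblFun (L : List ℕ) (hlt : ∀ x ∈ L, x < 24) (hlen : L.length = 24) (m : ℕ)
    (p : GolayPt) : gword m (tblFun L p) = gword (permMask L m) p := by
  unfold gword tblFun permMask
  rw [testBit_bitsFrom]
  have hp := gidx_lt p
  have hmem : L.getD (gidx p) 0 < 24 := by
    rw [List.getD_eq_getElem _ _ (by omega)]
    exact hlt _ (List.getElem_mem _)
  rw [gidx_gpt hmem]
  simp [hp]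

theorem tblCheck_spec {L : List ℕ} (h : tblCheck L = true) :
    L.length = 24 ∧ (∀ x ∈ L, x < 24) ∧ (∀ i < 24, i ∈ L) ∧
    (∀ t < 23, golayMask (permMask L (golayGens.getD t 0) % 4096) =
      permMask L (golayGens.getD t 0)) := by
  unfold tblCheck at h
  simp only [Bool.and_eq_true, beq_iff_eq, List.all_eq_true, decide_eq_true_eq, List.mem_range,
    List.contains_iff_mem] at h
  exact ⟨h.1.1.1, h.1.1.2, h.1.2, h.2⟩

theorem exists_perm_of_tblCheck {L : List ℕ} (h : tblCheck L = true) :
    ∃ g : Equiv.Perm GolayPt, g ∈ M24 ∧ ∀ p, g p = tblFun L p := by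
  obtain ⟨hlen, hlt, hsurj, hcode⟩ := tblCheck_spec h
  have hs : Function.Surjective (tblFun L) := by
    intro q
    obtain ⟨j, hj, hjq⟩ := List.getElem_of_mem (hsurj (gidx q) (gidx_lt q))
    have hj24 : j < 24 := by omega
    refine ⟨gpt j, ?_⟩
    unfold tblFun
    rw [gidx_gpt hj24, List.getD_eq_getElem _ _ hj, hjq, gpt_gidx]
  have hb : Function.Bijective (tblFun L) := Function.Surjective.bijective_of_finite hs
  refine ⟨Equiv.ofBijective _ hb, ?_, fun p => rfl⟩
  apply mem_M24_of_gens
  intro t
  have ht : t.val < 23 := ZMod.val_lt t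
  have : qrWord t ∘ (Equiv.ofBijective _ hb : Equiv.Perm GolayPt) =
      gword (golayMask (permMask L (golayGens.getD t.val 0) % 4096)) := by
    rw [hcode t.val ht]
    funext p
    simp only [Function.comp_apply, Equiv.ofBijective_apply]
    rw [qrWord_eq_gword]
    exact gword_tblFun L hlt hlen _ p
  rw [this]
  exact golayMask_mem _

theorem tblFun_gpt {L : List ℕ} {i : ℕ} (hi : i < 24) : tblFun L (gpt i) = gpt (L.getD i 0) := by
  unfold tblFun
  rw [gidx_gpt hi]

theorem mem_gset {m : ℕ} {p : GolayPt} : p ∈ gset m ↔ m.testBit (gidx p) = true := by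
  simp [gset]

/-- for a table permutation `g`, `g • gset (permMask L m) = gset m` -/
theorem smul_gset_permMask {L : List ℕ} (hlt : ∀ x ∈ L, x < 24) (hlen : L.length = 24)
    (g : Equiv.Perm GolayPt) (hg : ∀ p, g p = tblFun L p) (m : ℕ) :
    g • gset (permMask L m) = gset m := by
  ext q
  rw [← Finset.inv_smul_mem_iff, mem_gset, mem_gset]
  have hq : q = g (g⁻¹ • q) := by simp
  have h1 := gword_tblFun L hlt hlen m (g⁻¹ • q)
  rw [← hg, ← hq] at h1
  unfold gword at h1
  cases ha : m.testBit (gidx q) <;>
    cases hb : (permMask L m).testBit (gidx (g⁻¹ • q)) <;>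
    rw [ha, hb] at h1 <;> first | rfl | (exfalso; revert h1; decide)

end Cfsg.Agent.Lib.helper3
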