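import Mathlib
import Cfsg.Prelude.Def_Sporadic_a
import Cfsg.Agent.Lib.helper3.Golay
import Cfsg.Agent.Lib.helper3.GolaySteiner
import Cfsg.Agent.Lib.helper3.GolayM24
import Cfsg.Agent.Lib.helper3.GolayAut
import Cfsg.Agent.Lib.helper3.GolayPerm
import Cfsg.Agent.Lib.helper3.GolayCertData

set_option autoImplicit false

namespace Cfsg.Agent.Lib.helper3

open Cfsg
open scoped Pointwise

def bIdx (j : ℕ) : ℕ := m24Base.getD j 0

def bpt (j : ℕ) : GolayPt := gpt (bIdx j)

theorem bIdx_lt (j : ℕ) : bIdx j < 24 := by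
  unfold bIdx
  by_cases h : j < 7
  · interval_cases j <;> decide
  · have hl : m24Base.length ≤ j := by
      have : m24Base.length = 7 := rfl
      omega
    rw [List.getD_eq_default _ _ hl]
    decide

theorem gidx_bpt (j : ℕ) : gidx (bpt j) = bIdx j := gidx_gpt (bIdx_lt j)

def findTbl (i q : ℕ) : List ℕ :=
  ((m24Trans.getD i []).find? (fun L => L.getD (bIdx i) 0 == q)).getD []

def tblGood (i q : ℕ) : Bool :=
  tblCheck (findTbl i q) && ((findTbl i q).getD (bIdx i) 0 == q) &&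
    (List.range i).all (fun j => (findTbl i q).getD (bIdx j) 0 == bIdx j)

def certOK : Bool :=
  (List.range 7).all fun i => (List.range 24).all fun q =>
    !(m24Orb.getD i 0).testBit q || tblGood i q

set_option maxRecDepth 1000000 in
theorem certOK_true : certOK = true := by decide +kernel

theorem exists_level_perm {i q : ℕ} (hi : i < 7) (hq : q < 24)
    (h : (m24Orb.getD i 0).testBit q = true) :
    ∃ g : Equiv.Perm GolayPt, g ∈ M24 ∧ (∀ j < i, g (bpt j) = bpt j) ∧ g (bpt i) = gpt q := by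
  have hc := certOK_true
  unfold certOK at hc
  rw [List.all_eq_true] at hc
  have h1 := hc i (List.mem_range.2 hi)
  rw [List.all_eq_true] at h1
  have h2 := h1 q (List.mem_range.2 hq)
  rw [h] at h2
  simp only [Bool.not_true, Bool.false_or] at h2
  unfold tblGood at h2
  simp only [Bool.and_eq_true, beq_iff_eq, List.all_eq_true, List.mem_range] at h2
  obtain ⟨⟨hchk, hq'⟩, hfix⟩ := h2
  obtain ⟨g, hg, hgf⟩ := exists_perm_of_tblCheck hchk
  refine ⟨g, hg, ?_, ?_⟩
  · intro j hj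
    rw [hgf, bpt, tblFun_gpt (bIdx_lt j), hfix j hj]
  · rw [hgf, bpt, tblFun_gpt (bIdx_lt i), hq']

/-! ### five-fold transitivity -/

theorem orb_of_ne : ∀ i : Fin 5, ∀ q : Fin 24, (∀ j : Fin 7, j.val < i.val → q.val ≠ bIdx j) →
    (m24Orb.getD i 0).testBit q = true := by
  decide +kernel

theorem reach (i : ℕ) (hi : i ≤ 5) (x : ℕ → GolayPt)
    (hx : ∀ j < i, ∀ k < i, x j = x k → j = k) :
    ∃ g : Equiv.Perm GolayPt, g ∈ M24 ∧ ∀ j < i, g (x j) = bpt j := by
  induction i with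
  | zero => exact ⟨1, M24.one_mem, fun j hj => absurd hj (Nat.not_lt_zero j)⟩
  | succ i ih =>
    obtain ⟨g, hg, hgx⟩ := ih (by omega) (fun j hj k hk => hx j (by omega) k (by omega))
    have hq : ∀ j : Fin 7, j.val < i → gidx (g (x i)) ≠ bIdx j := by
      intro j hj h
      have h1 : g (x i) = g (x j) := by
        rw [hgx j hj]
        apply gidx_injective
        rw [h, gidx_bpt]
      have := hx i (by omega) j (by omega) (g.injective h1)
      omega
    have horb := orb_of_ne ⟨i, by omega⟩ ⟨gidx (g (x i)), gidx_lt _⟩ hq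
    obtain ⟨h, hh, hfix, hmap⟩ := exists_level_perm (i := i) (by omega) (gidx_lt (g (x i))) horb
    refine ⟨h⁻¹ * g, M24.mul_mem (M24.inv_mem hh) hg, ?_⟩
    intro j hj
    rcases Nat.lt_succ_iff_lt_or_eq.1 hj with hj' | rfl
    · rw [Equiv.Perm.mul_apply, hgx j hj', Equiv.Perm.inv_eq_iff_eq, hfix j hj']
    · rw [Equiv.Perm.mul_apply, Equiv.Perm.inv_eq_iff_eq, hmap, gpt_gidx]

theorem reach_emb (x : Fin 5 ↪ GolayPt) :
    ∃ g : Equiv.Perm GolayPt, g ∈ M24 ∧ ∀ j : Fin 5, g (x j) = bpt j := by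
  obtain ⟨g, hg, h⟩ := reach 5 le_rfl (fun j => if h : j < 5 then x ⟨j, h⟩ else none) (by
    intro j hj k hk hjk
    simp only [hj, hk, dif_pos] at hjk
    have := x.injective hjk
    simpa using this)
  refine ⟨g, hg, fun j => ?_⟩
  have := h j.val j.isLt
  simpa using this

theorem M24_fivefold : MulAction.IsMultiplyPretransitive M24 GolayPt 5 := by
  rw [MulAction.isMultiplyPretransitive_iff]
  intro x y
  obtain ⟨g, hg, hgx⟩ := reach_emb x
  obtain ⟨g', hg', hgy⟩ := reach_emb y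
  refine ⟨⟨g'⁻¹ * g, M24.mul_mem (M24.inv_mem hg') hg⟩, ?_⟩
  apply Function.Embedding.ext
  intro j
  rw [Function.Embedding.smul_apply]
  change (g'⁻¹ * g) (x j) = y j
  rw [Equiv.Perm.mul_apply, hgx, Equiv.Perm.inv_eq_iff_eq, hgy]

end Cfsg.Agent.Lib.helper3
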