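import Mathlib
import Cfsg.Prelude.Def_Sporadic_a
import Cfsg.Agent.Lib.helper3.Golay
import Cfsg.Agent.Lib.helper3.GolaySteiner
import Cfsg.Agent.Lib.helper3.GolayM24
import Cfsg.Agent.Lib.helper3.GolayAut
import Cfsg.Agent.Lib.helper3.GolayPerm
import Cfsg.Agent.Lib.helper3.GolayCertData
import Cfsg.Agent.Lib.helper3.GolayCert

set_option autoImplicit false

namespace Cfsg.Agent.Lib.helper3

open Cfsg
open scoped Pointwise

/-! ### invariant masks -/

/-- `g` fixes every point of the mask `F` -/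
def Fixes (g : Equiv.Perm GolayPt) (F : ℕ) : Prop := ∀ p, F.testBit (gidx p) = true → g p = p

/-- `g` preserves the set with mask `m` -/
def Inv (g : Equiv.Perm GolayPt) (m : ℕ) : Prop := ∀ p, m.testBit (gidx (g p)) = m.testBit (gidx p)

theorem inv_of_fixes {g : Equiv.Perm GolayPt} {F : ℕ} (h : Fixes g F) : Inv g F := by
  intro p
  cases h1 : F.testBit (gidx p) with
  | true => rw [h p h1, h1]
  | false =>
    cases h2 : F.testBit (gidx (g p)) with
    | false => rfl
    | true =>
      exfalso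
      have := h (g p) h2
      have hp : g p = p := g.injective this
      rw [hp, h1] at h2
      exact Bool.false_ne_true h2

theorem inv_xor {g : Equiv.Perm GolayPt} {a b : ℕ} (ha : Inv g a) (hb : Inv g b) :
    Inv g (a ^^^ b) := by
  intro p
  rw [Nat.testBit_xor, Nat.testBit_xor, ha p, hb p]

theorem inv_and {g : Equiv.Perm GolayPt} {a b : ℕ} (ha : Inv g a) (hb : Inv g b) :
    Inv g (a &&& b) := by
  intro p
  rw [Nat.testBit_and, Nat.testBit_and, ha p, hb p]

theorem testBit_full : ∀ i : Fin 24, (16777215 : ℕ).testBit i = true := by decide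

theorem inv_full (g : Equiv.Perm GolayPt) : Inv g 16777215 := by
  intro p
  rw [testBit_full ⟨_, gidx_lt p⟩, testBit_full ⟨_, gidx_lt (g p)⟩]

theorem smul_gset_eq_of_inv {g : Equiv.Perm GolayPt} {m : ℕ} (h : Inv g m) :
    g • gset m = gset m := by
  ext q
  rw [← Finset.inv_smul_mem_iff, mem_gset, mem_gset]
  have := h (g⁻¹ • q)
  rw [← this]
  simp

theorem inv_of_smul_gset_eq {g : Equiv.Perm GolayPt} {m : ℕ} (h : g • gset m = gset m) :
    Inv g m := by
  intro p
  have h1 : g p ∈ gset m ↔ p ∈ gset m := by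
    have h2 : g p ∈ g • gset m ↔ p ∈ gset m := by
      have : g p = g • p := rfl
      rw [this]
      exact Finset.smul_mem_smul_finset_iff g
    rw [h] at h2
    exact h2
  rw [mem_gset, mem_gset] at h1
  cases ha : m.testBit (gidx (g p)) <;> cases hb : m.testBit (gidx p) <;> simp_all

theorem gset_mem_octads {m : ℕ} (hm : gword m ∈ golayCode) (h8 : popc m = 8) :
    gset m ∈ octads := by
  rw [mem_octads_iff]
  exact ⟨gword m, hm, support₂_gword m, by rw [hammingNorm_gword, h8]⟩

/-- an octad meeting the fixed points of `g ∈ M24` in at least five points is preserved -/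
theorem inv_octad {g : Equiv.Perm GolayPt} (hg : g ∈ M24) {F : ℕ} (hF : Fixes g F) {k : ℕ}
    (h8 : popc (golayMask k) = 8) (h5 : 5 ≤ popc (golayMask k &&& F)) : Inv g (golayMask k) := by
  apply inv_of_smul_gset_eq
  have ho : gset (golayMask k) ∈ octads := gset_mem_octads (golayMask_mem k) h8
  have hgo := smul_octads_of_mem_M24 hg _ ho
  by_contra hne
  have hle := octads_inter_card_le hgo ho hne
  have hsub : gset (golayMask k &&& F) ⊆ g • gset (golayMask k) ∩ gset (golayMask k) := by
    intro p hp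
    rw [mem_gset, Nat.testBit_and, Bool.and_eq_true] at hp
    rw [Finset.mem_inter]
    refine ⟨?_, mem_gset.2 hp.1⟩
    rw [← hF p hp.2]
    exact Finset.smul_mem_smul_finset (mem_gset.2 hp.1)
  have := Finset.card_le_card hsub
  rw [card_gset] at this
  omega

/-! ### the base masks -/

def baseMasks : List ℕ := [0, 1, 4097, 20481, 86017, 217089, 217091, 479235]

theorem baseMasks_spec : ∀ i : Fin 8, ∀ q : Fin 24,
    (baseMasks.getD i 0).testBit q = true ↔ ∃ j : Fin 7, j.val < i.val ∧ q.val = bIdx j := by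
  decide +kernel

theorem fixes_baseMask {g : Equiv.Perm GolayPt} {i : ℕ} (hi : i ≤ 7) :
    Fixes g (baseMasks.getD i 0) ↔ ∀ j < i, g (bpt j) = bpt j := by
  constructor
  · intro h j hj
    apply h
    rw [gidx_bpt]
    exact (baseMasks_spec ⟨i, by omega⟩ ⟨bIdx j, bIdx_lt j⟩).2 ⟨⟨j, by omega⟩, hj, rfl⟩
  · intro h p hp
    obtain ⟨j, hj, hjp⟩ := (baseMasks_spec ⟨i, by omega⟩ ⟨gidx p, gidx_lt p⟩).1 hp
    have : p = bpt j := by
      apply gidx_injective
      rw [gidx_bpt]
      exact hjp
    rw [this]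
    exact h j hj

/-! ### transitivity on octads -/

/-- index of the base octad -/
theorem base_octad : popc (golayMask 1) = 8 ∧ 5 ≤ popc (golayMask 1 &&& 217089) := by decide

theorem exists_emb_subset (s : Finset GolayPt) (hs : 5 ≤ s.card) :
    ∃ x : Fin 5 ↪ GolayPt, ∀ j, x j ∈ s := by
  obtain ⟨f, hf⟩ := Function.Embedding.exists_of_card_le_finset (α := Fin 5) (s := s) (by simpa using hs)
  exact ⟨f, fun j => hf ⟨j, rfl⟩⟩

theorem gset_base5_subset {s : Finset GolayPt} (h : ∀ j : Fin 5, bpt j ∈ s) : gset 217089 ⊆ s := by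
  intro p hp
  rw [mem_gset] at hp
  obtain ⟨j, hj, hjp⟩ := (baseMasks_spec ⟨5, by omega⟩ ⟨gidx p, gidx_lt p⟩).1 hp
  have : p = bpt j := by
    apply gidx_injective
    rw [gidx_bpt]
    exact hjp
  rw [this]
  exact h ⟨j, hj⟩

theorem octad_to_base {o : Finset GolayPt} (ho : o ∈ octads) :
    ∃ g : Equiv.Perm GolayPt, g ∈ M24 ∧ g • o = gset (golayMask 1) := by
  obtain ⟨x, hx⟩ := exists_emb_subset o (by rw [octads_card_eq ho]; omega)
  obtain ⟨g, hg, hgx⟩ := reach_emb x
  refine ⟨g, hg, ?_⟩
  have hgo := smul_octads_of_mem_M24 hg _ ho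
  have hO : gset (golayMask 1) ∈ octads := gset_mem_octads (golayMask_mem 1) base_octad.1
  by_contra hne
  have hle := octads_inter_card_le hgo hO hne
  have h1 : gset 217089 ⊆ g • o := by
    apply gset_base5_subset
    intro j
    rw [← hgx j]
    exact Finset.smul_mem_smul_finset (hx j)
  have h2 : gset 217089 ⊆ gset (golayMask 1) := by
    intro p hp
    rw [mem_gset] at hp ⊢
    have : ∀ q : Fin 24, (217089 : ℕ).testBit q = true → (golayMask 1).testBit q = true := by
      decide
    exact this ⟨gidx p, gidx_lt p⟩ hp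
  have := Finset.card_le_card (Finset.subset_inter h1 h2)
  rw [card_gset] at this
  have h5 : popc 217089 = 5 := by decide
  omega

theorem octads_transitive {o o' : Finset GolayPt} (ho : o ∈ octads) (ho' : o' ∈ octads) :
    ∃ g : M24, g • o = o' := by
  obtain ⟨g, hg, h⟩ := octad_to_base ho
  obtain ⟨g', hg', h'⟩ := octad_to_base ho'
  refine ⟨⟨g'⁻¹ * g, M24.mul_mem (M24.inv_mem hg') hg⟩, ?_⟩
  change (g'⁻¹ * g) • o = o'
  rw [mul_smul, h, ← h', inv_smul_smul]

end Cfsg.Agent.Lib.helper3
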