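import Mathlib
import Cfsg.Prelude.Def_Sporadic_a
import Cfsg.Agent.Lib.helper3.Golay
import Cfsg.Agent.Lib.helper3.GolaySteiner
import Cfsg.Agent.Lib.helper3.GolayM24
import Cfsg.Agent.Lib.helper3.GolayAut
import Cfsg.Agent.Lib.helper3.GolayPerm
import Cfsg.Agent.Lib.helper3.GolayCertData
import Cfsg.Agent.Lib.helper3.GolayCert
import Cfsg.Agent.Lib.helper3.GolayOrbits

set_option autoImplicit false

namespace Cfsg.Agent.Lib.helper3

open Cfsg
open scoped Pointwise

/-! ### rigidity -/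

def sigOf (os : List ℕ) (p : ℕ) : List Bool := os.map (fun o => o.testBit p)

def newFixed (F : ℕ) (ks : List ℕ) : ℕ :=
  bitsFrom (fun p => F.testBit p || (List.range 24).all
    (fun q => q == p || sigOf (F :: ks.map golayMask) q != sigOf (F :: ks.map golayMask) p)) 0 24

theorem fixes_newFixed {g : Equiv.Perm GolayPt} (hg : g ∈ M24) {F : ℕ} (hF : Fixes g F)
    {ks : List ℕ} (hks : ∀ k ∈ ks, popc (golayMask k) = 8 ∧ 5 ≤ popc (golayMask k &&& F)) :
    Fixes g (newFixed F ks) := by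
  intro p hp
  unfold newFixed at hp
  rw [testBit_bitsFrom, zero_add, Bool.and_eq_true, Bool.or_eq_true] at hp
  rcases hp.2 with h | h
  · exact hF p h
  · rw [List.all_eq_true] at h
    have h1 := h (gidx (g p)) (List.mem_range.2 (gidx_lt _))
    have hsig : sigOf (F :: ks.map golayMask) (gidx (g p)) =
        sigOf (F :: ks.map golayMask) (gidx p) := by
      unfold sigOf
      apply List.map_congr_left
      intro o ho
      have : Inv g o := by
        rcases List.mem_cons.1 ho with rfl | ho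
        · exact inv_of_fixes hF
        · obtain ⟨k, hk, rfl⟩ := List.mem_map.1 ho
          exact inv_octad hg hF (hks k hk).1 (hks k hk).2
      exact this p
    rw [hsig] at h1
    simp only [bne_self_eq_false, Bool.or_false, beq_iff_eq] at h1
    exact gidx_injective h1

def rigidOK : Bool :=
  rigidKs1.all (fun k => popc (golayMask k) == 8 && decide (5 ≤ popc (golayMask k &&& 479235))) &&
  rigidKs2.all (fun k => popc (golayMask k) == 8 &&
    decide (5 ≤ popc (golayMask k &&& newFixed 479235 rigidKs1))) &&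
  newFixed (newFixed 479235 rigidKs1) rigidKs2 == 16777215

set_option maxRecDepth 1000000 in
theorem rigidOK_true : rigidOK = true := by decide +kernel

theorem eq_one_of_fixes {g : Equiv.Perm GolayPt} (hg : g ∈ M24) (h : Fixes g 479235) : g = 1 := by
  have hc := rigidOK_true
  unfold rigidOK at hc
  simp only [Bool.and_eq_true, List.all_eq_true, beq_iff_eq, decide_eq_true_eq] at hc
  obtain ⟨⟨h1, h2⟩, h3⟩ := hc
  have hF1 := fixes_newFixed hg h h1
  have hF2 := fixes_newFixed hg hF1 h2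
  rw [h3] at hF2
  ext p
  rw [hF2 p (testBit_full ⟨_, gidx_lt p⟩)]
  rfl

/-! ### the stabilizer chain -/

def Kfix (i : ℕ) : Subgroup (Equiv.Perm GolayPt) where
  carrier := {g | g ∈ M24 ∧ ∀ j < i, g (bpt j) = bpt j}
  one_mem' := ⟨M24.one_mem, fun _ _ => rfl⟩
  mul_mem' := fun {a b} ha hb => ⟨M24.mul_mem ha.1 hb.1, fun j hj => by
    rw [Equiv.Perm.mul_apply, hb.2 j hj, ha.2 j hj]⟩
  inv_mem' := fun {a} ha => ⟨M24.inv_mem ha.1, fun j hj => by
    rw [Equiv.Perm.inv_eq_iff_eq, ha.2 j hj]⟩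

theorem mem_Kfix {i : ℕ} {g : Equiv.Perm GolayPt} :
    g ∈ Kfix i ↔ g ∈ M24 ∧ ∀ j < i, g (bpt j) = bpt j := Iff.rfl

theorem Kfix_zero : Kfix 0 = M24 := by
  ext g
  rw [mem_Kfix]
  constructor
  · exact fun h => h.1
  · exact fun h => ⟨h, fun j hj => absurd hj (Nat.not_lt_zero j)⟩

theorem mem_Kfix_succ {i : ℕ} {g : Equiv.Perm GolayPt} :
    g ∈ Kfix (i + 1) ↔ g ∈ Kfix i ∧ g (bpt i) = bpt i := by
  rw [mem_Kfix, mem_Kfix]
  constructor
  · intro h
    exact ⟨⟨h.1, fun j hj => h.2 j (by omega)⟩, h.2 i (by omega)⟩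
  · intro h
    refine ⟨h.1.1, fun j hj => ?_⟩
    rcases Nat.lt_succ_iff_lt_or_eq.1 hj with hj' | rfl
    · exact h.1.2 j hj'
    · exact h.2

theorem Kfix_seven : Kfix 7 = ⊥ := by
  rw [eq_bot_iff]
  intro g hg
  rw [mem_Kfix] at hg
  rw [Subgroup.mem_bot]
  apply eq_one_of_fixes hg.1
  have := (fixes_baseMask (g := g) (i := 7) le_rfl).2 hg.2
  exact this

theorem card_eq_orbit_mul {α : Type*} (H H' : Subgroup (Equiv.Perm α)) (a : α)
    (h : ∀ g, g ∈ H' ↔ g ∈ H ∧ g a = a) :
    Nat.card H = Nat.card (MulAction.orbit H a) * Nat.card H' := by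
  rw [← Nat.card_congr (MulAction.orbitProdStabilizerEquivGroup H a), Nat.card_prod]
  congr 1
  apply Nat.card_congr
  exact
    { toFun := fun x => ⟨x.1.1, (h _).2 ⟨x.1.2, x.2⟩⟩
      invFun := fun y => ⟨⟨y.1, ((h _).1 y.2).1⟩, ((h _).1 y.2).2⟩
      left_inv := fun _ => rfl
      right_inv := fun _ => rfl }

theorem orb_base : ∀ i : Fin 7, (m24Orb.getD i 0).testBit (bIdx i) = true := by decide

theorem inv_orb {g : Equiv.Perm GolayPt} (hg : g ∈ M24) {i : ℕ} (hi : i < 7)
    (hF : Fixes g (baseMasks.getD i 0)) : Inv g (m24Orb.getD i 0) := by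
  have hfull := inv_full g
  have hFi := inv_of_fixes hF
  by_cases h5 : i < 5
  · have : m24Orb.getD i 0 = 16777215 ^^^ baseMasks.getD i 0 := by interval_cases i <;> rfl
    rw [this]
    exact inv_xor hfull hFi
  · have hO : Inv g (golayMask 1) :=
      inv_octad hg hF base_octad.1 (by interval_cases i <;> decide)
    have : m24Orb.getD i 0 = if i = 5 then 16777215 ^^^ golayMask 1 else
        golayMask 1 &&& (16777215 ^^^ baseMasks.getD i 0) := by
      interval_cases i <;> decide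
    rw [this]
    split_ifs
    · exact inv_xor hfull hO
    · exact inv_and hO (inv_xor hfull hFi)

theorem orbit_Kfix {i : ℕ} (hi : i < 7) :
    MulAction.orbit (Kfix i) (bpt i) = ↑(gset (m24Orb.getD i 0)) := by
  ext p
  rw [MulAction.mem_orbit_iff, Finset.mem_coe, mem_gset]
  constructor
  · rintro ⟨⟨g, hg⟩, rfl⟩
    change (m24Orb.getD i 0).testBit (gidx (g (bpt i))) = true
    rw [mem_Kfix] at hg
    have hF := (fixes_baseMask (g := g) (i := i) (by omega)).2 hg.2
    rw [inv_orb hg.1 hi hF (bpt i), gidx_bpt]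
    exact orb_base ⟨i, hi⟩
  · intro h
    obtain ⟨g, hg, hfix, hmap⟩ := exists_level_perm hi (gidx_lt p) h
    refine ⟨⟨g, mem_Kfix.2 ⟨hg, hfix⟩⟩, ?_⟩
    change g (bpt i) = p
    rw [hmap, gpt_gidx]

theorem card_Kfix {i : ℕ} (hi : i < 7) :
    Nat.card (Kfix i) = popc (m24Orb.getD i 0) * Nat.card (Kfix (i + 1)) := by
  have h1 : Nat.card (MulAction.orbit (Kfix i) (bpt i)) = popc (m24Orb.getD i 0) := by
    rw [orbit_Kfix hi, Nat.card_coe_set_eq, Set.ncard_coe_finset, card_gset]
  rw [card_eq_orbit_mul (Kfix i) (Kfix (i + 1)) (bpt i) (fun g => mem_Kfix_succ), h1]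

theorem card_M24 : Nat.card M24 = 244823040 := by
  rw [← Kfix_zero, card_Kfix (i := 0) (by omega), card_Kfix (i := 1) (by omega),
    card_Kfix (i := 2) (by omega), card_Kfix (i := 3) (by omega), card_Kfix (i := 4) (by omega),
    card_Kfix (i := 5) (by omega), card_Kfix (i := 6) (by omega), Kfix_seven, Subgroup.card_bot]
  decide +kernel

end Cfsg.Agent.Lib.helper3
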