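import Mathlib
import Cfsg.Prelude.Def_Sporadic_a
import Cfsg.Agent.Lib.helper3.Golay

set_option autoImplicit false

namespace Cfsg.Agent.Lib.helper3

open Cfsg

theorem natCard_golayCode : Nat.card golayCode = 4096 := by
  have hbij : Function.Bijective
      (fun k : Fin 4096 => (⟨gword (golayMask k), golayMask_mem k⟩ : golayCode)) := by
    constructor
    · intro k k' h
      have h1 : gword (golayMask k) = gword (golayMask k') := congrArg Subtype.val h
      have h2 : gset (golayMask k) = gset (golayMask k') := by
        rw [← support₂_gword, ← support₂_gword, h1]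
      exact Fin.ext (gset_golayMask_injOn k.2 k'.2 h2)
    · rintro ⟨w, hw⟩
      obtain ⟨k, hk, rfl⟩ := (mem_golayCode_iff w).1 hw
      exact ⟨⟨k, hk⟩, rfl⟩
  rw [← Nat.card_congr (Equiv.ofBijective _ hbij)]
  simp

theorem golay_finrank : Module.finrank (ZMod 2) golayCode = 12 := by
  have h := natCard_golayCode
  letI : Fintype golayCode := Fintype.ofFinite _
  rw [Nat.card_eq_fintype_card, Module.card_eq_pow_finrank (K := ZMod 2) (V := golayCode),
    ZMod.card] at h
  have : (2 : ℕ) ^ Module.finrank (ZMod 2) golayCode = 2 ^ 12 := by rw [h]; norm_num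
  exact Nat.pow_right_injective (le_refl 2) this

end Cfsg.Agent.Lib.helper3
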