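import Mathlib

set_option autoImplicit false

namespace Cfsg.Agent.Lib.helper3

open Finset

theorem zmod2_cases (a : ZMod 2) : a = 0 ∨ a = 1 := by
  revert a
  decide

/-- the number of binary words of a given weight -/
theorem card_hammingNorm_eq {α : Type*} [Fintype α] [DecidableEq α] (n : ℕ) :
    (univ.filter (fun e : α → ZMod 2 => hammingNorm e = n)).card = (Fintype.card α).choose n := by
  rw [← Finset.card_univ, ← Finset.card_powersetCard n (univ : Finset α)]
  apply Finset.card_nbij' (fun e => univ.filter (fun a => e a ≠ 0))
    (fun s => fun a => if a ∈ s then (1 : ZMod 2) else 0)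
  · intro e he
    rw [Finset.mem_coe, Finset.mem_filter] at he
    rw [Finset.mem_coe, Finset.mem_powersetCard]
    exact ⟨Finset.subset_univ _, he.2⟩
  · intro s hs
    rw [Finset.mem_coe, Finset.mem_powersetCard] at hs
    rw [Finset.mem_coe, Finset.mem_filter]
    refine ⟨Finset.mem_univ _, ?_⟩
    unfold hammingNorm
    rw [← hs.2]
    congr 1
    ext a
    simp only [Finset.mem_filter, Finset.mem_univ, true_and]
    by_cases h : a ∈ s <;> simp [h]
  · intro e _
    funext a
    simp only [Finset.mem_filter, Finset.mem_univ, true_and]
    rcases zmod2_cases (e a) with h | h <;> simp [h]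
  · intro s _
    ext a
    simp only [Finset.mem_filter, Finset.mem_univ, true_and]
    by_cases h : a ∈ s <;> simp [h]

/-- the number of binary words of weight at most `n` -/
theorem card_hammingNorm_le {α : Type*} [Fintype α] [DecidableEq α] (n : ℕ) :
    (univ.filter (fun e : α → ZMod 2 => hammingNorm e ≤ n)).card =
      ∑ i ∈ Finset.range (n + 1), (Fintype.card α).choose i := by
  rw [Finset.card_eq_sum_card_fiberwise (f := fun e : α → ZMod 2 => hammingNorm e)
    (t := Finset.range (n + 1))]
  · apply Finset.sum_congr rfl
    intro i hi
    rw [Finset.mem_range] at hi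
    rw [← card_hammingNorm_eq i]
    congr 1
    ext e
    simp only [Finset.mem_filter, Finset.mem_univ, true_and]
    constructor
    · rintro ⟨_, h⟩
      exact h
    · intro h
      exact ⟨by omega, h⟩
  · intro e he
    rw [Finset.mem_coe, Finset.mem_filter] at he
    rw [Finset.mem_coe, Finset.mem_range]
    have := he.2
    simp only
    omega

end Cfsg.Agent.Lib.helper3
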