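import Mathlib
import Cfsg.Prelude.Def_Sporadic_a
import Cfsg.Agent.Lib.helper3.GolayDim
import Cfsg.Agent.Lib.helper3.GolaySteiner
import Cfsg.Agent.Lib.helper3.HammingCount

set_option autoImplicit false

namespace Cfsg.Agent.Lib.helper3

open Cfsg Finset

theorem sub_eq_add24 (v w : GolayPt → ZMod 2) : v - w = v + w := by
  funext p
  simp only [Pi.sub_apply, Pi.add_apply]
  exact CharTwo.sub_eq_add _ _

theorem norm_eq_card_support₂ {α : Type*} [Fintype α] (v : α → ZMod 2) :
    hammingNorm v = (support₂ v).card := rfl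

theorem norm_sub_add_inter (v v' : GolayPt → ZMod 2) :
    hammingNorm (v - v') + 2 * (support₂ v ∩ support₂ v').card =
      hammingNorm v + hammingNorm v' := by
  rw [sub_eq_add24]
  exact support₂_add_card v v'

theorem weight_ge_eight {v v' : GolayPt → ZMod 2} (h : v - v' ∈ golayCode) (hne : v ≠ v') :
    8 ≤ hammingNorm (v - v') := by
  have h0 : hammingNorm (v - v') ≠ 0 := by
    intro h0
    rw [hammingNorm_eq_zero] at h0
    exact hne (sub_eq_zero.1 h0)
  rcases golay_weights _ h with h' | h' | h' | h' | h' <;> omega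

theorem card_filter_natCard' {α : Type*} [Fintype α] (p : α → Prop) [DecidablePred p] :
    (univ.filter p).card = Nat.card {x // p x} := by
  rw [Nat.card_eq_fintype_card, Fintype.card_subtype]

section

open Classical in
/-- coset representatives of weight at most three -/
noncomputable def N3 (w : GolayPt → ZMod 2) : Finset (GolayPt → ZMod 2) :=
  univ.filter (fun v => hammingNorm v ≤ 3 ∧ w - v ∈ golayCode)

open Classical in
/-- coset representatives of weight four -/
noncomputable def N4 (w : GolayPt → ZMod 2) : Finset (GolayPt → ZMod 2) :=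
  univ.filter (fun v => hammingNorm v = 4 ∧ w - v ∈ golayCode)

theorem mem_N3 {w v : GolayPt → ZMod 2} : v ∈ N3 w ↔ hammingNorm v ≤ 3 ∧ w - v ∈ golayCode := by
  classical
  simp [N3]

theorem mem_N4 {w v : GolayPt → ZMod 2} : v ∈ N4 w ↔ hammingNorm v = 4 ∧ w - v ∈ golayCode := by
  classical
  simp [N4]

theorem diff_mem {w v v' : GolayPt → ZMod 2} (h : w - v ∈ golayCode) (h' : w - v' ∈ golayCode) :
    v - v' ∈ golayCode := by
  have : v - v' = (w - v') - (w - v) := by abel
  rw [this]
  exact golayCode.sub_mem h' h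

theorem card_N3_le (w : GolayPt → ZMod 2) : (N3 w).card ≤ 1 := by
  rw [Finset.card_le_one]
  intro v hv v' hv'
  rw [mem_N3] at hv hv'
  by_contra hne
  have h8 := weight_ge_eight (diff_mem hv.2 hv'.2) hne
  have := norm_sub_add_inter v v'
  omega

theorem N4_eq_empty {w : GolayPt → ZMod 2} (h : (N3 w).Nonempty) : N4 w = ∅ := by
  obtain ⟨v, hv⟩ := h
  rw [mem_N3] at hv
  rw [Finset.eq_empty_iff_forall_notMem]
  intro v' hv'
  rw [mem_N4] at hv'
  have hne : v ≠ v' := by
    rintro rfl
    omega
  have h8 := weight_ge_eight (diff_mem hv.2 hv'.2) hne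
  have := norm_sub_add_inter v v'
  omega

theorem card_N4_le (w : GolayPt → ZMod 2) : (N4 w).card ≤ 6 := by
  classical
  have hdisj : ((N4 w : Finset (GolayPt → ZMod 2)) : Set (GolayPt → ZMod 2)).PairwiseDisjoint
      support₂ := by
    intro v hv v' hv' hne
    rw [Finset.mem_coe, mem_N4] at hv hv'
    have h8 := weight_ge_eight (diff_mem hv.2 hv'.2) hne
    have := norm_sub_add_inter v v'
    have h0 : (support₂ v ∩ support₂ v').card = 0 := by omega
    rw [Finset.card_eq_zero] at h0
    exact Finset.disjoint_iff_inter_eq_empty.2 h0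
  have hcard := Finset.card_biUnion hdisj
  have h4 : ∀ v ∈ N4 w, (support₂ v).card = 4 := by
    intro v hv
    rw [mem_N4] at hv
    exact hv.1
  rw [Finset.sum_congr rfl h4, Finset.sum_const, smul_eq_mul] at hcard
  have hle : ((N4 w).biUnion support₂).card ≤ 24 := by
    have := Finset.card_le_univ ((N4 w).biUnion support₂)
    have h24 : Fintype.card GolayPt = 24 := by
      rw [Fintype.card_option, ZMod.card]
    omega
  omega

theorem card_coset (v : GolayPt → ZMod 2)
    [DecidablePred fun w : GolayPt → ZMod 2 => w - v ∈ golayCode] :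
    (univ.filter (fun w : GolayPt → ZMod 2 => w - v ∈ golayCode)).card = 4096 := by
  classical
  rw [← natCard_golayCode, ← card_filter_natCard' (fun w => w ∈ golayCode)]
  apply Finset.card_nbij' (fun w => w - v) (fun c => c + v)
  · intro w hw
    simp only [Finset.mem_coe, Finset.mem_filter, Finset.mem_univ, true_and] at hw ⊢
    exact hw
  · intro c hc
    simp only [Finset.mem_coe, Finset.mem_filter, Finset.mem_univ, true_and] at hc ⊢
    rw [add_sub_cancel_right]
    exact hc
  · intro w _
    simp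
  · intro c _
    simp

theorem card_golayPt : Fintype.card GolayPt = 24 := by
  rw [Fintype.card_option, ZMod.card]

theorem sum_card_N3 : ∑ w : GolayPt → ZMod 2, (N3 w).card = 2325 * 4096 := by
  classical
  set B3 : Finset (GolayPt → ZMod 2) := univ.filter (fun v => hammingNorm v ≤ 3) with hB3
  have h := Finset.sum_card_bipartiteAbove_eq_sum_card_bipartiteBelow
    (s := (univ : Finset (GolayPt → ZMod 2))) (t := B3) (fun w v => w - v ∈ golayCode)
  simp only [Finset.bipartiteAbove, Finset.bipartiteBelow] at h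
  have e1 : ∀ w : GolayPt → ZMod 2, N3 w = B3.filter (fun v => w - v ∈ golayCode) := by
    intro w
    ext v
    rw [mem_N3, Finset.mem_filter, hB3, Finset.mem_filter]
    simp only [Finset.mem_univ, true_and]
  have hcard : B3.card = 2325 := by
    rw [hB3, card_hammingNorm_le, card_golayPt]
    simp [Finset.sum_range_succ, Nat.choose]
  calc ∑ w : GolayPt → ZMod 2, (N3 w).card
      = ∑ w : GolayPt → ZMod 2, (B3.filter (fun v => w - v ∈ golayCode)).card :=
        Finset.sum_congr rfl (fun w _ => by rw [e1 w])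
    _ = ∑ v ∈ B3, (univ.filter (fun w : GolayPt → ZMod 2 => w - v ∈ golayCode)).card := h
    _ = ∑ v ∈ B3, 4096 := Finset.sum_congr rfl (fun v _ => card_coset v)
    _ = B3.card * 4096 := by rw [Finset.sum_const, smul_eq_mul]
    _ = 2325 * 4096 := by rw [hcard]

theorem sum_card_N4 : ∑ w : GolayPt → ZMod 2, (N4 w).card = 10626 * 4096 := by
  classical
  set B4 : Finset (GolayPt → ZMod 2) := univ.filter (fun v => hammingNorm v = 4) with hB4
  have h := Finset.sum_card_bipartiteAbove_eq_sum_card_bipartiteBelow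
    (s := (univ : Finset (GolayPt → ZMod 2))) (t := B4) (fun w v => w - v ∈ golayCode)
  simp only [Finset.bipartiteAbove, Finset.bipartiteBelow] at h
  have e1 : ∀ w : GolayPt → ZMod 2, N4 w = B4.filter (fun v => w - v ∈ golayCode) := by
    intro w
    ext v
    rw [mem_N4, Finset.mem_filter, hB4, Finset.mem_filter]
    simp only [Finset.mem_univ, true_and]
  have hcard : B4.card = 10626 := by
    rw [hB4, card_hammingNorm_eq, card_golayPt]
    simp [Nat.choose]
  calc ∑ w : GolayPt → ZMod 2, (N4 w).card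
      = ∑ w : GolayPt → ZMod 2, (B4.filter (fun v => w - v ∈ golayCode)).card :=
        Finset.sum_congr rfl (fun w _ => by rw [e1 w])
    _ = ∑ v ∈ B4, (univ.filter (fun w : GolayPt → ZMod 2 => w - v ∈ golayCode)).card := h
    _ = ∑ v ∈ B4, 4096 := Finset.sum_congr rfl (fun v _ => card_coset v)
    _ = B4.card * 4096 := by rw [Finset.sum_const, smul_eq_mul]
    _ = 10626 * 4096 := by rw [hcard]

theorem forall_eq_of_sum_eq {α : Type*} [Fintype α] (f : α → ℕ) (c N : ℕ) (hle : ∀ a, f a ≤ c)
    (hcard : Fintype.card α = N) (hsum : ∑ a, f a = N * c) : ∀ a, f a = c := by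
  have h6 : ∑ _a : α, c = N * c := by
    rw [Finset.sum_const, Finset.card_univ, smul_eq_mul, hcard]
  have h := (Finset.sum_eq_sum_iff_of_le (s := (univ : Finset α)) (f := f) (g := fun _ => c)
    (fun a _ => hle a)).1 (by rw [hsum, h6])
  intro a
  exact h a (Finset.mem_univ a)

theorem sum_combine {α : Type*} [Fintype α] (f g h : α → ℕ) (a b : ℕ)
    (hh : ∀ w, h w = g w + 6 * f w) (h1 : ∑ w, f w = a) (h2 : ∑ w, g w = b) :
    ∑ w, h w = b + 6 * a := by
  rw [Finset.sum_congr rfl (fun w _ => hh w), Finset.sum_add_distrib, ← Finset.mul_sum, h1, h2]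

/-- number of coset representatives of weight at most three -/
noncomputable def n3 (w : GolayPt → ZMod 2) : ℕ := (N3 w).card

/-- number of coset representatives of weight four -/
noncomputable def n4 (w : GolayPt → ZMod 2) : ℕ := (N4 w).card

/-- the weighted count -/
noncomputable def nf (w : GolayPt → ZMod 2) : ℕ := n4 w + 6 * n3 w

theorem sum_n3 : ∑ w : GolayPt → ZMod 2, n3 w = 2325 * 4096 := sum_card_N3

theorem sum_n4 : ∑ w : GolayPt → ZMod 2, n4 w = 10626 * 4096 := sum_card_N4

theorem coset_le (w : GolayPt → ZMod 2) : nf w ≤ 6 := by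
  have h3 : n3 w ≤ 1 := card_N3_le w
  have h4 : n4 w ≤ 6 := card_N4_le w
  unfold nf
  rcases Nat.eq_zero_or_pos (n3 w) with h0 | h0
  · omega
  · have : N4 w = ∅ := N4_eq_empty (Finset.card_pos.1 h0)
    have h40 : n4 w = 0 := by
      unfold n4
      rw [this, Finset.card_empty]
    omega

theorem card_E24 : Fintype.card (GolayPt → ZMod 2) = 16777216 := by
  rw [Fintype.card_fun, card_golayPt, ZMod.card]
  norm_num

theorem coset_sum : ∑ w : GolayPt → ZMod 2, nf w = 16777216 * 6 := by
  have e : (10626 * 4096 + 6 * (2325 * 4096) : ℕ) = 16777216 * 6 := by norm_num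
  rw [← e]
  exact sum_combine n3 n4 nf _ _ (fun _ => rfl) sum_n3 sum_n4

theorem coset_count (w : GolayPt → ZMod 2) : n4 w + 6 * n3 w = 6 :=
  forall_eq_of_sum_eq nf 6 16777216 coset_le card_E24 coset_sum w

theorem golay_coset_reps (w : GolayPt → ZMod 2) :
    ({v : GolayPt → ZMod 2 | hammingNorm v ≤ 4 ∧ w - v ∈ golayCode}.ncard = 1 ∧
        ∃ v : GolayPt → ZMod 2, hammingNorm v ≤ 3 ∧ w - v ∈ golayCode) ∨
      ({v : GolayPt → ZMod 2 | hammingNorm v ≤ 4 ∧ w - v ∈ golayCode}.ncard = 6 ∧
        ∀ v : GolayPt → ZMod 2, w - v ∈ golayCode → hammingNorm v ≤ 4 → hammingNorm v = 4) := by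
  classical
  have hV : {v : GolayPt → ZMod 2 | hammingNorm v ≤ 4 ∧ w - v ∈ golayCode} =
      ((N3 w ∪ N4 w : Finset (GolayPt → ZMod 2)) : Set (GolayPt → ZMod 2)) := by
    ext v
    rw [Finset.mem_coe, Finset.mem_union, mem_N3, mem_N4, Set.mem_ofPred_eq]
    constructor
    · rintro ⟨h1, h2⟩
      rcases Nat.lt_or_ge (hammingNorm v) 4 with h | h
      · exact Or.inl ⟨by omega, h2⟩
      · exact Or.inr ⟨by omega, h2⟩
    · rintro (⟨h1, h2⟩ | ⟨h1, h2⟩)
      · exact ⟨by omega, h2⟩
      · exact ⟨by omega, h2⟩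
  have hdisj : Disjoint (N3 w) (N4 w) := by
    rw [Finset.disjoint_left]
    intro v h3 h4
    rw [mem_N3] at h3
    rw [mem_N4] at h4
    omega
  rw [hV, Set.ncard_coe_finset, Finset.card_union_of_disjoint hdisj]
  have hc : (N4 w).card + 6 * (N3 w).card = 6 := coset_count w
  have h3 := card_N3_le w
  rcases Nat.eq_zero_or_pos (N3 w).card with h0 | h0
  · right
    refine ⟨by omega, ?_⟩
    intro v hv h4
    by_contra hne
    have : v ∈ N3 w := mem_N3.2 ⟨by omega, hv⟩
    rw [Finset.card_eq_zero] at h0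
    rw [h0] at this
    simp at this
  · left
    obtain ⟨v, hv⟩ := Finset.card_pos.1 h0
    exact ⟨by omega, v, mem_N3.1 hv⟩

end

end Cfsg.Agent.Lib.helper3
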