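import Mathlib
import Cfsg.Prelude.Def_Sporadic_a
import Cfsg.Prelude.Def_SporadicCombinatorics
import Cfsg.Agent.Lib.helper3.GolayCoset

set_option autoImplicit false

namespace Cfsg.Agent.Lib.helper3

open Cfsg Finset

/-- the indicator word of a set of points -/
def ind (t : Finset GolayPt) : GolayPt → ZMod 2 := fun p => if p ∈ t then 1 else 0

theorem support₂_ind (t : Finset GolayPt) : support₂ (ind t) = t := by
  ext p
  simp only [support₂, ind, Finset.mem_filter, Finset.mem_univ, true_and]
  by_cases h : p ∈ t <;> simp [h]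

theorem hammingNorm_ind (t : Finset GolayPt) : hammingNorm (ind t) = t.card := by
  rw [norm_eq_card_support₂, support₂_ind]

theorem ind_support₂ (v : GolayPt → ZMod 2) : ind (support₂ v) = v :=
  support₂_injective (support₂_ind _)

theorem support₂_sub_of_disjoint {a b : GolayPt → ZMod 2}
    (h : Disjoint (support₂ a) (support₂ b)) : support₂ (a - b) = support₂ a ∪ support₂ b := by
  rw [sub_eq_add24]
  ext p
  simp only [support₂, Finset.mem_filter, Finset.mem_univ, true_and, Finset.mem_union,
    Pi.add_apply]
  have hp : ¬ (p ∈ support₂ a ∧ p ∈ support₂ b) := fun hh =>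
    Finset.disjoint_left.1 h hh.1 hh.2
  simp only [support₂, Finset.mem_filter, Finset.mem_univ, true_and] at hp
  rcases zmod2_eq (a p) with ha | ha <;> rcases zmod2_eq (b p) with hb | hb <;>
    simp_all

/-- the sextet determined by a word of weight four -/
noncomputable def sextetOf (v : GolayPt → ZMod 2) : Finset (Finset GolayPt) :=
  (N4 v).image support₂

theorem N3_eq_empty_of_weight_four {v : GolayPt → ZMod 2} (hv : hammingNorm v = 4) :
    N3 v = ∅ := by
  rw [Finset.eq_empty_iff_forall_notMem]
  intro v' hv'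
  rw [mem_N3] at hv'
  have hne : v ≠ v' := by
    rintro rfl
    omega
  have h8 := weight_ge_eight hv'.2 hne
  have := norm_sub_add_inter v v'
  omega

theorem card_N4_of_weight_four {v : GolayPt → ZMod 2} (hv : hammingNorm v = 4) :
    (N4 v).card = 6 := by
  have h := coset_count v
  have h3 : n3 v = 0 := by
    unfold n3
    rw [N3_eq_empty_of_weight_four hv, Finset.card_empty]
  have h4 : n4 v = (N4 v).card := rfl
  omega

theorem self_mem_N4 {v : GolayPt → ZMod 2} (hv : hammingNorm v = 4) : v ∈ N4 v := by
  rw [mem_N4]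
  refine ⟨hv, ?_⟩
  rw [sub_self]
  exact golayCode.zero_mem

theorem N4_pair {v a b : GolayPt → ZMod 2} (ha : a ∈ N4 v) (hb : b ∈ N4 v) (hne : a ≠ b) :
    Disjoint (support₂ a) (support₂ b) ∧ support₂ a ∪ support₂ b ∈ octads := by
  rw [mem_N4] at ha hb
  have hmem : a - b ∈ golayCode := diff_mem ha.2 hb.2
  have h8 := weight_ge_eight hmem hne
  have hsum := norm_sub_add_inter a b
  have h0 : (support₂ a ∩ support₂ b).card = 0 := by omega
  rw [Finset.card_eq_zero] at h0
  have hdisj : Disjoint (support₂ a) (support₂ b) := Finset.disjoint_iff_inter_eq_empty.2 h0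
  refine ⟨hdisj, ?_⟩
  rw [mem_octads_iff]
  refine ⟨a - b, hmem, support₂_sub_of_disjoint hdisj, ?_⟩
  have : (support₂ a ∩ support₂ b).card = 0 := by rw [h0, Finset.card_empty]
  omega

theorem sextetOf_mem {v : GolayPt → ZMod 2} (hv : hammingNorm v = 4) : sextetOf v ∈ sextets := by
  classical
  refine ⟨?_, ?_, ?_⟩
  · unfold sextetOf
    rw [Finset.card_image_of_injective _ support₂_injective]
    exact card_N4_of_weight_four hv
  · intro t ht
    unfold sextetOf at ht
    rw [Finset.mem_image] at ht
    obtain ⟨a, ha, rfl⟩ := ht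
    exact (mem_N4.1 ha).1
  · intro t ht u hu hne
    unfold sextetOf at ht hu
    rw [Finset.mem_image] at ht hu
    obtain ⟨a, ha, rfl⟩ := ht
    obtain ⟨b, hb, rfl⟩ := hu
    have hab : a ≠ b := fun h => hne (by rw [h])
    exact (N4_pair ha hb hab).2

theorem mem_sextetOf_self {v : GolayPt → ZMod 2} (hv : hammingNorm v = 4) :
    support₂ v ∈ sextetOf v := by
  classical
  exact Finset.mem_image_of_mem _ (self_mem_N4 hv)

/-- a sextet containing a tetrad is the sextet determined by that tetrad -/
theorem sextet_unique {S : Finset (Finset GolayPt)} (hS : S ∈ sextets) {t : Finset GolayPt}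
    (ht : t ∈ S) : S = sextetOf (ind t) := by
  classical
  obtain ⟨hS6, hS4, hSu⟩ := hS
  have ht4 : t.card = 4 := hS4 t ht
  have hv : hammingNorm (ind t) = 4 := by rw [hammingNorm_ind, ht4]
  apply Finset.eq_of_subset_of_card_le
  · intro u hu
    unfold sextetOf
    rw [Finset.mem_image]
    by_cases hut : u = t
    · subst hut
      exact ⟨ind u, self_mem_N4 hv, support₂_ind u⟩
    · have hoct := hSu t ht u hu (fun h => hut h.symm)
      obtain ⟨w, hw, hws, hw8⟩ := (mem_octads_iff _).1 hoct
      have hu4 : u.card = 4 := hS4 u hu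
      have hdisj : Disjoint t u := by
        rw [Finset.disjoint_iff_inter_eq_empty, ← Finset.card_eq_zero]
        have h1 := Finset.card_union_add_card_inter t u
        have h2 : (t ∪ u).card = 8 := by
          rw [← hws, ← norm_eq_card_support₂, hw8]
        omega
      have hw2 : w = ind t - ind u := by
        apply support₂_injective
        rw [support₂_sub_of_disjoint (by rw [support₂_ind, support₂_ind]; exact hdisj),
          support₂_ind, support₂_ind, hws]
      refine ⟨ind u, ?_, support₂_ind u⟩
      rw [mem_N4]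
      refine ⟨by rw [hammingNorm_ind, hu4], ?_⟩
      rw [← hw2]
      exact hw
  · rw [hS6]
    have := (sextetOf_mem hv).1
    omega

/-- every tetrad lies in a unique sextet -/
theorem tetrad_unique_sextet (t : Finset GolayPt) (ht : t.card = 4) :
    ∃! S : Finset (Finset GolayPt), S ∈ sextets ∧ t ∈ S := by
  have hv : hammingNorm (ind t) = 4 := by rw [hammingNorm_ind, ht]
  refine ⟨sextetOf (ind t), ⟨sextetOf_mem hv, ?_⟩, ?_⟩
  · have := mem_sextetOf_self hv
    rwa [support₂_ind] at this
  · rintro S ⟨hS, htS⟩
    exact sextet_unique hS htS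

theorem sextets_ncard : sextets.ncard = 1771 := by
  classical
  set 𝒯 : Finset (Finset GolayPt) := Finset.powersetCard 4 univ with h𝒯
  set Φ : Finset GolayPt → Finset (Finset GolayPt) := fun t => sextetOf (ind t) with hΦ
  set SF : Finset (Finset (Finset GolayPt)) := 𝒯.image Φ with hSF
  have hmem𝒯 : ∀ t, t ∈ 𝒯 ↔ t.card = 4 := by
    intro t
    rw [h𝒯, Finset.mem_powersetCard]
    exact ⟨fun h => h.2, fun h => ⟨Finset.subset_univ _, h⟩⟩
  have hSFeq : sextets = ((SF : Finset (Finset (Finset GolayPt))) : Set _) := by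
    ext S
    rw [Finset.mem_coe, hSF, Finset.mem_image]
    constructor
    · intro hS
      have hne : S.Nonempty := by
        rw [← Finset.card_pos, hS.1]
        norm_num
      obtain ⟨t, ht⟩ := hne
      exact ⟨t, (hmem𝒯 t).2 (hS.2.1 t ht), (sextet_unique hS ht).symm⟩
    · rintro ⟨t, ht, rfl⟩
      have hv : hammingNorm (ind t) = 4 := by rw [hammingNorm_ind, (hmem𝒯 t).1 ht]
      exact sextetOf_mem hv
  have hfib : ∀ S ∈ SF, (𝒯.filter (fun t => Φ t = S)).card = 6 := by
    intro S hS
    have hS' : S ∈ sextets := by rw [hSFeq]; exact hS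
    have : 𝒯.filter (fun t => Φ t = S) = S := by
      ext t
      rw [Finset.mem_filter, hmem𝒯]
      constructor
      · rintro ⟨ht4, hΦt⟩
        have hv : hammingNorm (ind t) = 4 := by rw [hammingNorm_ind, ht4]
        have := mem_sextetOf_self hv
        rw [support₂_ind] at this
        rw [← hΦt]
        exact this
      · intro ht
        exact ⟨hS'.2.1 t ht, (sextet_unique hS' ht).symm⟩
    rw [this]
    exact hS'.1
  have hcount := Finset.card_eq_sum_card_fiberwise (f := Φ) (s := 𝒯) (t := SF)
    (fun t ht => Finset.mem_image_of_mem _ ht)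
  rw [Finset.sum_congr rfl hfib, Finset.sum_const, smul_eq_mul, h𝒯, Finset.card_powersetCard,
    Finset.card_univ, card_golayPt] at hcount
  rw [hSFeq, Set.ncard_coe_finset]
  have h10626 : Nat.choose 24 4 = 10626 := by simp [Nat.choose]
  omega

end Cfsg.Agent.Lib.helper3
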