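import Mathlib
import Cfsg.Agent.Lib.Helper24.MNP.Defs

/-!
Project MNP, row M7: subgroups of `G0` inside `T × ⟨c₀ ^ q⟩` are nilpotent.
-/

set_option autoImplicit false

namespace Cfsg.Agent.Lib.Helper24.MNP

open scoped commutatorElement
open Cfsg.Agent.Lib.Helper24.SCH (SchAct)

universe u

section M

open SemidirectProduct

variable {T : Type u} [Group T] [Finite T] {p q r : ℕ} [Fact p.Prime] {α₀ : MulAut T}

/-- the elements `ofAdd (q * k)` act trivially -/
theorem mnpm7_cyc_one (hT : SchAct p q T α₀) (hn : α₀ ^ (q ^ r) = 1) (k : ZMod (q ^ r)) :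
    cycHom (q ^ r) α₀ hn (Multiplicative.ofAdd ((q : ZMod (q ^ r)) * k)) = 1 := by
  haveI : NeZero (q ^ r) := ⟨pow_ne_zero _ hT.qprime.ne_zero⟩
  have e : (q : ZMod (q ^ r)) * k = ((q * k.val : ℕ) : ZMod (q ^ r)) := by
    rw [Nat.cast_mul, ZMod.natCast_zmod_val]
  rw [e, cycHom_apply, pow_mul, hT.powq, one_pow]

/-- M7 -/
theorem nilp_of_right_dvd (hT : SchAct p q T α₀) (hn : α₀ ^ (q ^ r) = 1) (H : Subgroup (G0 (q ^ r) α₀ hn))
    (hH : ∀ g ∈ H, ∃ k : ZMod (q ^ r), g.right = Multiplicative.ofAdd ((q : ZMod (q ^ r)) * k)) :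
    Group.IsNilpotent H := by
  have hact : ∀ g ∈ H, cycHom (q ^ r) α₀ hn g.right = 1 := by
    intro g hg
    obtain ⟨k, hk⟩ := hH g hg
    rw [hk]
    exact mnpm7_cyc_one hT hn k
  let f : ↥H →* T :=
    { toFun := fun g => (g : G0 (q ^ r) α₀ hn).left
      map_one' := rfl
      map_mul' := by
        intro a b
        show ((a : G0 (q ^ r) α₀ hn) * (b : G0 (q ^ r) α₀ hn)).left = _
        rw [SemidirectProduct.mul_left, hact a a.2]
        rfl }
  haveI : Group.IsNilpotent T := hT.pgroup.isNilpotent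
  apply Subgroup.isNilpotent_of_ker_le_center f
  intro a ha
  rw [MonoidHom.mem_ker] at ha
  have ha' : (a : G0 (q ^ r) α₀ hn).left = 1 := ha
  rw [Subgroup.mem_center_iff]
  intro b
  apply Subtype.ext
  show (b : G0 (q ^ r) α₀ hn) * (a : G0 (q ^ r) α₀ hn) = (a : G0 (q ^ r) α₀ hn) * (b : G0 (q ^ r) α₀ hn)
  apply SemidirectProduct.ext
  · rw [SemidirectProduct.mul_left, SemidirectProduct.mul_left, ha', hact a a.2, map_one, mul_one,
      one_mul]
    rfl
  · rw [SemidirectProduct.mul_right, SemidirectProduct.mul_right, mul_comm]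

end M

end Cfsg.Agent.Lib.Helper24.MNP
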