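import Mathlib
import Cfsg.Agent.Lib.Helper24.MNP.Defs

/-!
Project MNP, row M8: Sylow conjugacy: a conjugate of `c₀` lies in `H`.
-/

set_option autoImplicit false

namespace Cfsg.Agent.Lib.Helper24.MNP

open scoped commutatorElement
open Cfsg.Agent.Lib.Helper24.SCH (SchAct)

universe u

section M

open SemidirectProduct

/-- a subgroup of order `q ^ r` of a group of order `p ^ e * q ^ r` contains a conjugate of every other one -/
theorem mnpm8_sylow_conj {G : Type u} [Group G] [Finite G] {p q e r : ℕ} [Fact p.Prime] [Fact q.Prime]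
    (hpq : q ≠ p) (hG : Nat.card G = p ^ e * q ^ r) (c y : G) (hc : orderOf c = q ^ r)
    (hy : orderOf y = q ^ r) : ∃ x : G, x * c * x⁻¹ ∈ Subgroup.zpowers y := by
  have hp : p.Prime := Fact.out
  have hq : q.Prime := Fact.out
  have hfac : (Nat.card G).factorization q = r := by
    rw [hG, Nat.factorization_mul (pow_ne_zero _ hp.ne_zero) (pow_ne_zero _ hq.ne_zero),
      hp.factorization_pow, hq.factorization_pow]
    simp [Finsupp.single_apply, hpq.symm]
  have h1 : Nat.card (Subgroup.zpowers c) = q ^ (Nat.card G).factorization q := by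
    rw [hfac, Nat.card_zpowers, hc]
  have h2 : Nat.card (Subgroup.zpowers y) = q ^ (Nat.card G).factorization q := by
    rw [hfac, Nat.card_zpowers, hy]
  obtain ⟨x, hx⟩ := MulAction.exists_smul_eq G (Sylow.ofCard (Subgroup.zpowers c) h1)
    (Sylow.ofCard (Subgroup.zpowers y) h2)
  refine ⟨x, ?_⟩
  have hx' := congrArg (fun S : Sylow q G => (S : Subgroup G)) hx
  simp only [Sylow.coe_subgroup_smul, Sylow.coe_ofCard] at hx'
  rw [← hx']
  have := Subgroup.smul_mem_pointwise_smul c (MulAut.conj x) (Subgroup.zpowers c)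
    (Subgroup.mem_zpowers c)
  simpa [MulAut.smul_def] using this

variable {T : Type u} [Group T] [Finite T] {p q r : ℕ} [Fact p.Prime] {α₀ : MulAut T}

theorem mnpm8_card (hn : α₀ ^ (q ^ r) = 1) :
    Nat.card (G0 (q ^ r) α₀ hn) = Nat.card T * q ^ r := by
  rw [Nat.card_congr (SemidirectProduct.equivProd (φ := cycHom (q ^ r) α₀ hn)), Nat.card_prod]
  congr 1
  show Nat.card (ZMod (q ^ r)) = q ^ r
  exact Nat.card_zmod (q ^ r)

theorem mnpm8_order_gen (hq : q.Prime) (hn : α₀ ^ (q ^ r) = 1) :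
    orderOf (inr (Multiplicative.ofAdd (1 : ZMod (q ^ r))) : G0 (q ^ r) α₀ hn) = q ^ r := by
  haveI : NeZero (q ^ r) := ⟨pow_ne_zero _ hq.ne_zero⟩
  rw [orderOf_injective (inr : Multiplicative (ZMod (q ^ r)) →* G0 (q ^ r) α₀ hn)
    SemidirectProduct.inr_injective, orderOf_ofAdd_eq_addOrderOf, ZMod.addOrderOf_one]

/-- an element of `ZMod (q ^ r)` which is not a multiple of `q` has additive order `q ^ r` -/
theorem mnpm8_addOrderOf (hq : q.Prime) (u : ZMod (q ^ r))
    (hu : ¬ ∃ k : ZMod (q ^ r), u = (q : ZMod (q ^ r)) * k) : addOrderOf u = q ^ r := by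
  haveI : NeZero (q ^ r) := ⟨pow_ne_zero _ hq.ne_zero⟩
  have e : u = ((u.val : ℕ) : ZMod (q ^ r)) := (ZMod.natCast_zmod_val u).symm
  have hnd : ¬ q ∣ u.val := by
    rintro ⟨m, hm⟩
    apply hu
    refine ⟨(m : ZMod (q ^ r)), ?_⟩
    rw [e, hm, Nat.cast_mul]
  have hcop : Nat.Coprime (q ^ r) u.val :=
    Nat.Coprime.pow_left r ((Nat.Prime.coprime_iff_not_dvd hq).mpr hnd)
  rw [e, ZMod.addOrderOf_coe _ (pow_ne_zero _ hq.ne_zero), hcop.gcd_eq_one, Nat.div_one]

/-- M8 -/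
theorem exists_conj_gen [Fact q.Prime] (hT : SchAct p q T α₀) (hr : 1 ≤ r) (hn : α₀ ^ (q ^ r) = 1)
    (H : Subgroup (G0 (q ^ r) α₀ hn))
    (hH : ∃ g ∈ H, ¬ ∃ k : ZMod (q ^ r), g.right = Multiplicative.ofAdd ((q : ZMod (q ^ r)) * k)) :
    ∃ x : G0 (q ^ r) α₀ hn, x * inr (Multiplicative.ofAdd (1 : ZMod (q ^ r))) * x⁻¹ ∈ H := by
  have hq : q.Prime := hT.qprime
  haveI : NeZero (q ^ r) := ⟨pow_ne_zero _ hq.ne_zero⟩
  obtain ⟨g, hgH, hg⟩ := hH
  obtain ⟨e, he⟩ := (IsPGroup.iff_card (p := p) (G := T)).mp hT.pgroup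
  have hcard : Nat.card (G0 (q ^ r) α₀ hn) = p ^ e * q ^ r := by rw [mnpm8_card hn, he]
  -- the right component of `g` has order `q ^ r`
  have hw : orderOf g.right = q ^ r := by
    have : g.right = Multiplicative.ofAdd (Multiplicative.toAdd g.right) := rfl
    rw [this, orderOf_ofAdd_eq_addOrderOf]
    apply mnpm8_addOrderOf hq
    rintro ⟨k, hk⟩
    apply hg
    exact ⟨k, by rw [← hk]; rfl⟩
  -- `y = g ^ (p ^ e)` has order `q ^ r`
  have hcop : Nat.Coprime (q ^ r) (p ^ e) :=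
    Nat.Coprime.pow _ _ ((Nat.coprime_primes hq Fact.out).mpr hT.qne)
  have hy1 : orderOf (g ^ (p ^ e)) ∣ q ^ r := by
    apply orderOf_dvd_of_pow_eq_one
    rw [← pow_mul, ← hcard]
    exact pow_card_eq_one'
  have hy2 : q ^ r ∣ orderOf (g ^ (p ^ e)) := by
    have h1 : orderOf ((g ^ (p ^ e)).right) ∣ orderOf (g ^ (p ^ e)) := by
      have := orderOf_map_dvd (SemidirectProduct.rightHom : G0 (q ^ r) α₀ hn →* _) (g ^ (p ^ e))
      exact this
    have h2 : (g ^ (p ^ e)).right = g.right ^ (p ^ e) := by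
      have := map_pow (SemidirectProduct.rightHom : G0 (q ^ r) α₀ hn →* _) g (p ^ e)
      exact this
    rw [h2, (show Nat.Coprime (orderOf g.right) (p ^ e) by rw [hw]; exact hcop).orderOf_pow, hw] at h1
    exact h1
  have hy : orderOf (g ^ (p ^ e)) = q ^ r := Nat.dvd_antisymm hy1 hy2
  obtain ⟨x, hx⟩ := mnpm8_sylow_conj (p := p) (q := q) hT.qne hcard
    (inr (Multiplicative.ofAdd (1 : ZMod (q ^ r)))) (g ^ (p ^ e)) (mnpm8_order_gen hq hn) hy
  refine ⟨x, ?_⟩
  have hle : Subgroup.zpowers (g ^ (p ^ e)) ≤ H := by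
    rw [Subgroup.zpowers_le]
    exact H.pow_mem hgH _
  exact hle hx

end M

end Cfsg.Agent.Lib.Helper24.MNP
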