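import Mathlib
import Cfsg.Prelude.Def_KGroupFacts
import Cfsg.Agent.Lib.helper3.StemTools
import Cfsg.Agent.Lib.helper3.StemTools2
import Cfsg.Agent.Lib.helper3.SuzukiMultB
import Cfsg.Agent.Lib.Helper21.SchurCyclic

set_option autoImplicit false

/-!
Local control of the kernel of a stem extension: the part of the kernel at a prime `p` is
controlled by the preimage of a subgroup of index prime to `p`. Two local analyses: a subgroup
generated by two involutions, and an abelian subgroup on two generators.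
-/

namespace Cfsg.Agent.Lib.helper3

open Cfsg
open scoped commutatorElement

section PrimeParts

/-- an element of finite order lies in a subgroup as soon as its powers of prime power order do -/
theorem mem_of_prime_power_parts {Γ : Type*} [Group Γ] (H : Subgroup Γ) :
    ∀ (n : ℕ) (z : Γ), 0 < n → z ^ n = 1 →
      (∀ (p k j : ℕ), p.Prime → (z ^ j) ^ (p ^ k) = 1 → z ^ j ∈ H) → z ∈ H := by
  intro n
  induction n using Nat.strong_induction_on with
  | _ n ih =>
    intro z hn hzn hpp
    by_cases h1 : n = 1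
    · subst h1
      rw [pow_one] at hzn
      rw [hzn]; exact H.one_mem
    · have hp := Nat.minFac_prime h1
      obtain ⟨k, m, hm, hnm⟩ := Nat.exists_eq_pow_mul_and_not_dvd hn.ne' n.minFac hp.ne_one
      have hmpos : 0 < m := by
        rcases Nat.eq_zero_or_pos m with h | h
        · exfalso; apply hm; rw [h]; exact dvd_zero _
        · exact h
      have hk : k ≠ 0 := by
        rintro rfl
        rw [pow_zero, one_mul] at hnm
        apply hm
        rw [← hnm]
        exact Nat.minFac_dvd n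
      have hmlt : m < n := by
        have h2 : 2 ≤ n.minFac ^ k := by
          calc 2 ≤ n.minFac := hp.two_le
            _ = n.minFac ^ 1 := (pow_one _).symm
            _ ≤ n.minFac ^ k := Nat.pow_le_pow_right hp.pos (Nat.one_le_iff_ne_zero.mpr hk)
        calc m < 2 * m := by omega
          _ ≤ n.minFac ^ k * m := Nat.mul_le_mul_right m h2
          _ = n := hnm.symm
      have h3 : z ^ (n.minFac ^ k) ∈ H := by
        apply ih m hmlt (z ^ (n.minFac ^ k)) hmpos
        · rw [← pow_mul, ← hnm]; exact hzn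
        · intro q l j hq hj
          have hpm : (z ^ (n.minFac ^ k)) ^ j = z ^ (n.minFac ^ k * j) := (pow_mul z _ j).symm
          rw [hpm] at hj ⊢
          exact hpp q l (n.minFac ^ k * j) hq hj
      have h4 : z ^ m ∈ H := by
        apply hpp n.minFac k m hp
        rw [← pow_mul, mul_comm, ← hnm]; exact hzn
      have hcop : Nat.Coprime (n.minFac ^ k) m :=
        Nat.Coprime.pow_left k ((Nat.Prime.coprime_iff_not_dvd hp).2 hm)
      have hb := Nat.gcd_eq_gcd_ab (n.minFac ^ k) m
      rw [hcop, Nat.cast_one] at hb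
      have hz : z = (z ^ (n.minFac ^ k)) ^ (Nat.gcdA (n.minFac ^ k) m) *
          (z ^ m) ^ (Nat.gcdB (n.minFac ^ k) m) := by
        rw [← zpow_natCast, ← zpow_natCast, ← zpow_mul, ← zpow_mul, ← zpow_add, ← hb, zpow_one]
      rw [hz]
      exact H.mul_mem (H.zpow_mem h3 _) (H.zpow_mem h4 _)

end PrimeParts

section LocalTransfer

variable {Γ G : Type*} [Group Γ] [Group G] (σ : Γ →* G)

/-- the transfer criterion, keeping track of a cyclic subgroup -/
theorem ppart_mem_of_subgroup [Finite Γ] (hsurj : Function.Surjective σ)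
    (hcen : σ.ker ≤ Subgroup.center Γ) (hder : σ.ker ≤ commutator Γ)
    (S : Subgroup G) {p : ℕ} (hp : p.Prime) (hind : ¬ p ∣ S.index) (w : Γ)
    (hS : ∀ x ∈ ⁅S.comap σ, S.comap σ⁆, σ x = 1 → x ∈ Subgroup.zpowers w) {z : Γ}
    (hz : z ∈ σ.ker) (k : ℕ) (hzp : z ^ (p ^ k) = 1) : z ∈ Subgroup.zpowers w := by
  have h1 := pow_index_mem_commutator (S.comap σ) (hcen hz) (hder hz)
  have h2 : σ (z ^ (S.comap σ).index) = 1 := by
    rw [map_pow, MonoidHom.mem_ker.mp hz, one_pow]
  have h3 := hS _ h1 h2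
  rw [Subgroup.index_comap_of_surjective S hsurj] at h3
  have hcop : Nat.Coprime S.index (p ^ k) :=
    Nat.Coprime.pow_right k ((Nat.Prime.coprime_iff_not_dvd hp).2 hind).symm
  have hb := Nat.gcd_eq_gcd_ab S.index (p ^ k)
  rw [hcop, Nat.cast_one] at hb
  have hz' : z = (z ^ S.index) ^ (Nat.gcdA S.index (p ^ k)) *
      (z ^ (p ^ k)) ^ (Nat.gcdB S.index (p ^ k)) := by
    rw [← zpow_natCast, ← zpow_natCast, ← zpow_mul, ← zpow_mul, ← zpow_add, ← hb, zpow_one]
  rw [hzp, one_zpow, mul_one] at hz'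
  rw [hz']
  exact Subgroup.zpow_mem _ h3 _

end LocalTransfer

section PairCentral

/-- central extensions of a group generated by two involutions: the commutators lying in the
kernel are the powers of an element of order at most two -/
theorem invol_pair_central_comm {E Q : Type*} [Group E] [Group Q] (τ : E →* Q)
    (hsurj : Function.Surjective τ) (hc : τ.ker ≤ Subgroup.center E) (a' b' : Q)
    (hgenQ : Subgroup.closure {a', b'} = ⊤) (ha2 : a' ^ 2 = 1) (hb2 : b' ^ 2 = 1) :
    ∃ w ∈ τ.ker, w ^ 2 = 1 ∧ ∀ x ∈ commutator E, τ x = 1 → x ∈ Subgroup.zpowers w := by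
  obtain ⟨a, ha⟩ := hsurj a'
  obtain ⟨b, hb⟩ := hsurj b'
  have hgenD : Subgroup.closure {τ a, τ b} = ⊤ := by rw [ha, hb]; exact hgenQ
  have hgen := Cfsg.Agent.Lib.Helper21.gen_lift τ a b hgenD
  have ha2c : a * a ∈ Subgroup.center E :=
    hc (by rw [MonoidHom.mem_ker, ← pow_two, map_pow, ha, ha2])
  have hb2c : b * b ∈ Subgroup.center E :=
    hc (by rw [MonoidHom.mem_ker, ← pow_two, map_pow, hb, hb2])
  obtain ⟨C, hC⟩ : ∃ C : E, C = a * b * a⁻¹ * b⁻¹ := ⟨_, rfl⟩
  have haC : a * C * a⁻¹ = C⁻¹ := by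
    have h := Subgroup.mem_center_iff.mp ha2c b
    calc a * C * a⁻¹ = (a * a * b) * a⁻¹ * b⁻¹ * a⁻¹ := by rw [hC]; group
      _ = (b * (a * a)) * a⁻¹ * b⁻¹ * a⁻¹ := by rw [h]
      _ = C⁻¹ := by rw [hC]; group
  have hbC : b * C * b⁻¹ = C⁻¹ := by
    have h := Subgroup.mem_center_iff.mp (Subgroup.inv_mem _ hb2c) a⁻¹
    calc b * C * b⁻¹ = b * a * b * (a⁻¹ * (b * b)⁻¹) := by rw [hC]; group
      _ = b * a * b * ((b * b)⁻¹ * a⁻¹) := by rw [h]
      _ = C⁻¹ := by rw [hC]; group
  have haC' : a⁻¹ * C * a = C⁻¹ := by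
    have h : C = a⁻¹ * C⁻¹ * a := by
      rw [← haC]; group
    calc a⁻¹ * C * a = (a⁻¹ * C⁻¹ * a)⁻¹ := by group
      _ = C⁻¹ := by rw [← h]
  have hbC' : b⁻¹ * C * b = C⁻¹ := by
    have h : C = b⁻¹ * C⁻¹ * b := by
      rw [← hbC]; group
    calc b⁻¹ * C * b = (b⁻¹ * C⁻¹ * b)⁻¹ := by group
      _ = C⁻¹ := by rw [← h]
  have hinvmem : C⁻¹ ∈ Subgroup.zpowers C := Subgroup.inv_mem _ (Subgroup.mem_zpowers C)
  have hnorm : (Subgroup.zpowers C).Normal :=
    zpowers_normal_of_gens τ.ker hc a b C hgen (by rw [haC]; exact hinvmem)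
      (by rw [haC']; exact hinvmem) (by rw [hbC]; exact hinvmem) (by rw [hbC']; exact hinvmem)
  have hder : commutator E ≤ Subgroup.zpowers C :=
    derived_le_zpowers τ.ker hc a b C hgen hnorm
      ⟨C, Subgroup.mem_zpowers C, by rw [hC]; group⟩
  -- the element w
  have hwker : C ^ orderOf (τ C) ∈ τ.ker := by
    rw [MonoidHom.mem_ker, map_pow, pow_orderOf_eq_one]
  have hwc := Subgroup.mem_center_iff.mp (hc hwker)
  have hw2 : (C ^ orderOf (τ C)) ^ 2 = 1 := by
    have h1 : a * C ^ orderOf (τ C) * a⁻¹ = (C ^ orderOf (τ C))⁻¹ := by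
      rw [← conj_pow, haC, inv_pow]
    have h2 : a * C ^ orderOf (τ C) * a⁻¹ = C ^ orderOf (τ C) := by
      rw [hwc a, mul_inv_cancel_right]
    rw [h2] at h1
    rw [pow_two]
    nth_rewrite 2 [h1]
    exact mul_inv_cancel _
  refine ⟨C ^ orderOf (τ C), hwker, hw2, ?_⟩
  intro x hx hx1
  obtain ⟨j, hj⟩ := Subgroup.mem_zpowers_iff.mp (hder hx)
  have h1 : (τ C) ^ j = 1 := by rw [← map_zpow, hj, hx1]
  obtain ⟨t, ht⟩ := orderOf_dvd_iff_zpow_eq_one.mpr h1
  refine Subgroup.mem_zpowers_iff.mpr ⟨t, ?_⟩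
  rw [← hj, ht, zpow_mul, zpow_natCast]

/-- central extensions of an abelian group on two generators, one of them of order dividing `p`:
the commutators are the powers of an element of the kernel of order dividing `p` -/
theorem abelian_pair_central_comm {E Q : Type*} [Group E] [Group Q] (τ : E →* Q)
    (hsurj : Function.Surjective τ) (hc : τ.ker ≤ Subgroup.center E) (a' b' : Q)
    (hgenQ : Subgroup.closure {a', b'} = ⊤) (hab : a' * b' = b' * a') (p : ℕ)
    (hap : a' ^ p = 1) :
    ∃ w ∈ τ.ker, w ^ p = 1 ∧ ∀ x ∈ commutator E, τ x = 1 → x ∈ Subgroup.zpowers w := by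
  obtain ⟨a, ha⟩ := hsurj a'
  obtain ⟨b, hb⟩ := hsurj b'
  have hgenD : Subgroup.closure {τ a, τ b} = ⊤ := by rw [ha, hb]; exact hgenQ
  have hgen := Cfsg.Agent.Lib.Helper21.gen_lift τ a b hgenD
  have hCker : ⁅a, b⁆ ∈ τ.ker := by
    rw [MonoidHom.mem_ker, map_commutatorElement, ha, hb, commutatorElement_eq_one_iff_mul_comm]
    exact hab
  have hCc : ⁅a, b⁆ ∈ Subgroup.center E := hc hCker
  have hcomm := Subgroup.mem_center_iff.mp hCc
  have hmem : ⁅a, b⁆ ∈ Subgroup.zpowers ⁅a, b⁆ := Subgroup.mem_zpowers _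
  have hnorm : (Subgroup.zpowers ⁅a, b⁆).Normal :=
    zpowers_normal_of_gens τ.ker hc a b ⁅a, b⁆ hgen
      (by rw [hcomm a, mul_inv_cancel_right]; exact hmem)
      (by rw [mul_assoc, ← hcomm a, inv_mul_cancel_left]; exact hmem)
      (by rw [hcomm b, mul_inv_cancel_right]; exact hmem)
      (by rw [mul_assoc, ← hcomm b, inv_mul_cancel_left]; exact hmem)
  have hder : commutator E ≤ Subgroup.zpowers ⁅a, b⁆ :=
    derived_le_zpowers τ.ker hc a b ⁅a, b⁆ hgen hnorm
      ⟨⁅a, b⁆, hmem, by rw [commutatorElement_def]; group⟩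
  have hCp : ⁅a, b⁆ ^ p = 1 := by
    rw [← comm_pow_left_of_central hCc, commutatorElement_eq_one_iff_mul_comm]
    have : a ^ p ∈ Subgroup.center E := hc (by rw [MonoidHom.mem_ker, map_pow, ha, hap])
    exact (Subgroup.mem_center_iff.mp this b).symm
  exact ⟨⁅a, b⁆, hCker, hCp, fun x hx _ => hder hx⟩

end PairCentral

section PairLocal

variable {Γ G : Type*} [Group Γ] [Group G] (σ : Γ →* G)

/-- passing from the preimage of a two-generator subgroup, as a group, to the subgroup -/
theorem comap_pair_wrap (hsurj : Function.Surjective σ) (hcen : σ.ker ≤ Subgroup.center Γ)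
    (a' b' : G) (n : ℕ)
    (H : Function.Surjective (σ.subgroupComap (Subgroup.closure {a', b'})) →
      (σ.subgroupComap (Subgroup.closure {a', b'})).ker ≤
        Subgroup.center ((Subgroup.closure {a', b'}).comap σ) →
      ∀ a'' b'' : ↥(Subgroup.closure {a', b'}), Subgroup.closure {a'', b''} = ⊤ →
        (a'' : G) = a' → (b'' : G) = b' →
        ∃ w ∈ (σ.subgroupComap (Subgroup.closure {a', b'})).ker, w ^ n = 1 ∧
          ∀ x ∈ commutator ↥((Subgroup.closure {a', b'}).comap σ),
            (σ.subgroupComap (Subgroup.closure {a', b'})) x = 1 → x ∈ Subgroup.zpowers w) :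
    ∃ w ∈ σ.ker, w ^ n = 1 ∧
      ∀ x ∈ ⁅(Subgroup.closure {a', b'}).comap σ, (Subgroup.closure {a', b'}).comap σ⁆,
        σ x = 1 → x ∈ Subgroup.zpowers w := by
  have ha'mem : a' ∈ Subgroup.closure {a', b'} := Subgroup.subset_closure (by simp)
  have hb'mem : b' ∈ Subgroup.closure {a', b'} := Subgroup.subset_closure (by simp)
  have hτs : Function.Surjective (σ.subgroupComap (Subgroup.closure {a', b'})) :=
    σ.subgroupComap_surjective_of_surjective _ hsurj
  have hker : (σ.subgroupComap (Subgroup.closure {a', b'})).ker ≤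
      Subgroup.center ((Subgroup.closure {a', b'}).comap σ) := by
    intro x hx
    rw [MonoidHom.mem_ker] at hx
    have hx' : σ (x : Γ) = 1 := congrArg Subtype.val hx
    have hc : (x : Γ) ∈ Subgroup.center Γ := hcen (MonoidHom.mem_ker.2 hx')
    rw [Subgroup.mem_center_iff]
    intro g
    apply Subtype.ext
    exact Subgroup.mem_center_iff.1 hc g
  have hgenQ : Subgroup.closure {(⟨a', ha'mem⟩ : Subgroup.closure {a', b'}), ⟨b', hb'mem⟩} = ⊤ := by
    have h0 := Subgroup.closure_closure_coe_preimage (k := ({a', b'} : Set G))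
    have hset : (((↑) : Subgroup.closure {a', b'} → G) ⁻¹' ({a', b'} : Set G)) =
        {(⟨a', ha'mem⟩ : Subgroup.closure {a', b'}), ⟨b', hb'mem⟩} := by
      ext ⟨g, hg⟩
      simp [Subtype.ext_iff]
    rw [hset] at h0
    exact h0
  obtain ⟨w, hwker, hwn, hw⟩ := H hτs hker ⟨a', ha'mem⟩ ⟨b', hb'mem⟩ hgenQ rfl rfl
  refine ⟨(w : Γ), ?_, ?_, ?_⟩
  · rw [MonoidHom.mem_ker] at hwker ⊢
    exact congrArg Subtype.val hwker
  · have := congrArg Subtype.val hwn
    simpa using this
  · intro x hx hx1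
    rw [← Subgroup.map_subtype_commutator] at hx
    obtain ⟨x', hx', rfl⟩ := hx
    have h1 : (σ.subgroupComap (Subgroup.closure {a', b'})) x' = 1 := Subtype.ext hx1
    obtain ⟨j, hj⟩ := Subgroup.mem_zpowers_iff.mp (hw x' hx' h1)
    refine Subgroup.mem_zpowers_iff.mpr ⟨j, ?_⟩
    rw [← hj]
    simp

/-- the preimage of a subgroup generated by two involutions -/
theorem two_invol_local (hsurj : Function.Surjective σ) (hcen : σ.ker ≤ Subgroup.center Γ)
    (s t : G) (hs : s ^ 2 = 1) (ht : t ^ 2 = 1) :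
    ∃ w ∈ σ.ker, w ^ 2 = 1 ∧
      ∀ x ∈ ⁅(Subgroup.closure {s, t}).comap σ, (Subgroup.closure {s, t}).comap σ⁆,
        σ x = 1 → x ∈ Subgroup.zpowers w := by
  apply comap_pair_wrap σ hsurj hcen s t 2
  intro hτs hker a'' b'' hgen ha hb
  refine invol_pair_central_comm _ hτs hker a'' b'' hgen (Subtype.ext ?_) (Subtype.ext ?_)
  · rw [Subgroup.coe_pow, ha, hs]; rfl
  · rw [Subgroup.coe_pow, hb, ht]; rfl

/-- the preimage of an abelian subgroup on two generators -/
theorem abelian_pair_local (hsurj : Function.Surjective σ) (hcen : σ.ker ≤ Subgroup.center Γ)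
    (a b : G) (hab : a * b = b * a) (p : ℕ) (hap : a ^ p = 1) :
    ∃ w ∈ σ.ker, w ^ p = 1 ∧
      ∀ x ∈ ⁅(Subgroup.closure {a, b}).comap σ, (Subgroup.closure {a, b}).comap σ⁆,
        σ x = 1 → x ∈ Subgroup.zpowers w := by
  apply comap_pair_wrap σ hsurj hcen a b p
  intro hτs hker a'' b'' hgen ha hb
  refine abelian_pair_central_comm _ hτs hker a'' b'' hgen (Subtype.ext ?_) p (Subtype.ext ?_)
  · rw [Subgroup.coe_mul, Subgroup.coe_mul, ha, hb, hab]
  · rw [Subgroup.coe_pow, ha, hap]; rfl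

/-- the kernel of a stem extension is cyclic of order dividing six when the prime two is
controlled by a subgroup generated by two involutions, the prime three by an abelian subgroup
on two generators one of which has order three, and the other primes by cyclic subgroups -/
theorem stem_ker_cyclic_six [Finite Γ] (hsurj : Function.Surjective σ)
    (hcen : σ.ker ≤ Subgroup.center Γ) (hder : σ.ker ≤ commutator Γ)
    (s t : G) (hs : s ^ 2 = 1) (ht : t ^ 2 = 1) (h2 : ¬ 2 ∣ (Subgroup.closure {s, t}).index)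
    (a b : G) (hab : a * b = b * a) (ha : a ^ 3 = 1) (h3 : ¬ 3 ∣ (Subgroup.closure {a, b}).index)
    (hother : ∀ p : ℕ, p.Prime → p ≠ 2 → p ≠ 3 →
      ∃ S : Subgroup G, ¬ p ∣ S.index ∧
        ∀ x ∈ ⁅S.comap σ, S.comap σ⁆, σ x = 1 → x = 1) :
    ∃ w ∈ σ.ker, w ^ 6 = 1 ∧ ∀ z ∈ σ.ker, z ∈ Subgroup.zpowers w := by
  obtain ⟨w2, hw2k, hw22, hw2⟩ := two_invol_local σ hsurj hcen s t hs ht
  obtain ⟨w3, hw3k, hw33, hw3⟩ := abelian_pair_local σ hsurj hcen a b hab 3 ha
  have hcomm : Commute w2 w3 := (Subgroup.mem_center_iff.mp (hcen hw2k) w3).symm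
  have e2 : w2 = (w2 * w3) ^ 3 := by
    rw [hcomm.mul_pow, hw33, mul_one, pow_succ, hw22, one_mul]
  have e3 : w3 = (w2 * w3) ^ 4 := by
    rw [hcomm.mul_pow, pow_succ w3, hw33, one_mul]
    have : w2 ^ 4 = 1 := by
      have : w2 ^ 4 = (w2 ^ 2) ^ 2 := by rw [← pow_mul]
      rw [this, hw22, one_pow]
    rw [this, one_mul]
  refine ⟨w2 * w3, Subgroup.mul_mem _ hw2k hw3k, ?_, ?_⟩
  · rw [hcomm.mul_pow]
    have h1 : w2 ^ 6 = (w2 ^ 2) ^ 3 := by rw [← pow_mul]
    have h2 : w3 ^ 6 = (w3 ^ 3) ^ 2 := by rw [← pow_mul]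
    rw [h1, h2, hw22, hw33, one_pow, one_pow, one_mul]
  · intro z hz
    apply mem_of_prime_power_parts (Subgroup.zpowers (w2 * w3)) (Nat.card Γ) z Nat.card_pos
      pow_card_eq_one'
    intro p k j hp hj
    have hzj : z ^ j ∈ σ.ker := Subgroup.pow_mem _ hz j
    by_cases hp2 : p = 2
    · subst hp2
      have h := ppart_mem_of_subgroup σ hsurj hcen hder _ Nat.prime_two h2 w2 hw2 hzj k hj
      have hle : Subgroup.zpowers w2 ≤ Subgroup.zpowers (w2 * w3) := by
        rw [Subgroup.zpowers_le]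
        refine Subgroup.mem_zpowers_iff.mpr ⟨3, ?_⟩
        rw [zpow_ofNat]
        exact e2.symm
      exact hle h
    by_cases hp3 : p = 3
    · subst hp3
      have h := ppart_mem_of_subgroup σ hsurj hcen hder _ Nat.prime_three h3 w3 hw3 hzj k hj
      have hle : Subgroup.zpowers w3 ≤ Subgroup.zpowers (w2 * w3) := by
        rw [Subgroup.zpowers_le]
        refine Subgroup.mem_zpowers_iff.mpr ⟨4, ?_⟩
        rw [zpow_ofNat]
        exact e3.symm
      exact hle h
    · obtain ⟨S, hind, hS⟩ := hother p hp hp2 hp3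
      have h := ppart_mem_of_subgroup σ hsurj hcen hder S hp hind 1
        (fun x hx hx1 => by
          rw [hS x hx hx1]; exact Subgroup.one_mem _) hzj k hj
      rw [Subgroup.zpowers_one_eq_bot, Subgroup.mem_bot] at h
      rw [h]
      exact Subgroup.one_mem _

/-- the kernel of a stem extension is cyclic of order dividing the prime `p` when `p` is
controlled by an abelian subgroup on two generators one of which has order `p`, and the other
primes by subgroups whose preimages have derived subgroups meeting the kernel trivially -/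
theorem stem_ker_cyclic_prime [Finite Γ] (hsurj : Function.Surjective σ)
    (hcen : σ.ker ≤ Subgroup.center Γ) (hder : σ.ker ≤ commutator Γ)
    (p : ℕ) (hp : p.Prime)
    (a b : G) (hab : a * b = b * a) (ha : a ^ p = 1) (hp' : ¬ p ∣ (Subgroup.closure {a, b}).index)
    (hother : ∀ r : ℕ, r.Prime → r ≠ p →
      ∃ S : Subgroup G, ¬ r ∣ S.index ∧
        ∀ x ∈ ⁅S.comap σ, S.comap σ⁆, σ x = 1 → x = 1) :
    ∃ w ∈ σ.ker, w ^ p = 1 ∧ ∀ z ∈ σ.ker, z ∈ Subgroup.zpowers w := by
  obtain ⟨w, hwk, hwp, hw⟩ := abelian_pair_local σ hsurj hcen a b hab p ha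
  refine ⟨w, hwk, hwp, ?_⟩
  intro z hz
  apply mem_of_prime_power_parts (Subgroup.zpowers w) (Nat.card Γ) z Nat.card_pos
    pow_card_eq_one'
  intro r k j hr hj
  have hzj : z ^ j ∈ σ.ker := Subgroup.pow_mem _ hz j
  by_cases hrp : r = p
  · subst hrp
    exact ppart_mem_of_subgroup σ hsurj hcen hder _ hr hp' w hw hzj k hj
  · obtain ⟨S, hind, hS⟩ := hother r hr hrp
    have h := ppart_mem_of_subgroup σ hsurj hcen hder S hr hind 1
      (fun x hx hx1 => by
        rw [hS x hx hx1]; exact Subgroup.one_mem _) hzj k hj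
    rw [Subgroup.zpowers_one_eq_bot, Subgroup.mem_bot] at h
    rw [h]
    exact Subgroup.one_mem _

/-- cyclic subgroups give trivial local contributions -/
theorem local_trivial_of_zpowers [Finite G] (hcen : σ.ker ≤ Subgroup.center Γ) (r : ℕ) (c : G)
    (hc : ¬ r ∣ Nat.card G / orderOf c) :
    ∃ S : Subgroup G, ¬ r ∣ S.index ∧ ∀ x ∈ ⁅S.comap σ, S.comap σ⁆, σ x = 1 → x = 1 := by
  refine ⟨Subgroup.zpowers c, ?_, ?_⟩
  · have h1 := Subgroup.index_mul_card (Subgroup.zpowers c)
    rw [Nat.card_zpowers] at h1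
    have h2 : (Subgroup.zpowers c).index = Nat.card G / orderOf c :=
      (Nat.div_eq_of_eq_mul_left (orderOf_pos c) h1.symm).symm
    rw [h2]
    exact hc
  · intro x hx _
    exact comm_comap_trivial_of_cyclic σ hcen (Subgroup.zpowers c) x hx

/-- the second half of the multiplier statement from a generator of the kernel -/
theorem surj_of_ker_cyclic (k : ℕ) (h : ∃ w ∈ σ.ker, w ^ k = 1 ∧ ∀ z ∈ σ.ker, z ∈ Subgroup.zpowers w) :
    ∃ π : Multiplicative (ZMod k) →* σ.ker, Function.Surjective π := by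
  obtain ⟨w, hwk, hwn, hw⟩ := h
  apply Cfsg.Agent.Lib.Helper21.exists_surj_of_cyclic k (⟨w, hwk⟩ : σ.ker)
  · apply Subtype.ext
    rw [Subgroup.coe_pow]
    exact hwn
  · intro x
    obtain ⟨j, hj⟩ := Subgroup.mem_zpowers_iff.mp (hw x.1 x.2)
    refine Subgroup.mem_zpowers_iff.mpr ⟨j, ?_⟩
    apply Subtype.ext
    rw [Subgroup.coe_zpow]
    exact hj

end PairLocal

section PairCards

variable {G : Type*} [Group G]

/-- two involutions whose product has order four generate a subgroup of order eight -/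
theorem card_closure_invol_pair [Finite G] (s t : G) (hs : s ^ 2 = 1) (ht : t ^ 2 = 1)
    (h4 : (s * t) ^ 4 = 1) (h2 : (s * t) ^ 2 ≠ 1) : Nat.card (Subgroup.closure {s, t}) = 8 := by
  have hs' : s⁻¹ = s := by rw [inv_eq_iff_mul_eq_one, ← pow_two, hs]
  have ht' : t⁻¹ = t := by rw [inv_eq_iff_mul_eq_one, ← pow_two, ht]
  have hord : orderOf (s * t) = 2 ^ 2 :=
    orderOf_eq_prime_pow (p := 2) (n := 1) (by rw [pow_one]; exact h2) (by norm_num; exact h4)
  have hrinv : (s * t)⁻¹ = (s * t) ^ 3 := by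
    rw [inv_eq_iff_mul_eq_one, ← pow_succ']
    exact h4
  have hrel : s * (s * t) * s⁻¹ = (s * t) ^ 3 := by
    rw [← hrinv, mul_inv_rev, hs', ht']
    have : s * s = 1 := by rw [← pow_two, hs]
    rw [← mul_assoc, this, one_mul]
  have hle1 := card_closure_pair_le hrel h4 (by norm_num) hs (by norm_num)
  have hsub : Subgroup.closure {s, t} ≤ Subgroup.closure {s * t, s} := by
    rw [Subgroup.closure_le]
    intro x hx
    have hsm : s ∈ Subgroup.closure {s * t, s} := Subgroup.subset_closure (by simp)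
    have hrm : s * t ∈ Subgroup.closure {s * t, s} := Subgroup.subset_closure (by simp)
    rcases hx with rfl | hx
    · exact hsm
    · rw [Set.mem_singleton_iff] at hx
      subst hx
      have h := Subgroup.mul_mem _ (Subgroup.inv_mem _ hsm) hrm
      rw [inv_mul_cancel_left] at h
      exact h
  have hle : Nat.card (Subgroup.closure {s, t}) ≤ 8 :=
    le_trans (Subgroup.card_le_of_le hsub) hle1
  have hsmem : s ∈ Subgroup.closure {s, t} := Subgroup.subset_closure (by simp)
  have htmem : t ∈ Subgroup.closure {s, t} := Subgroup.subset_closure (by simp)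
  have hrmem : s * t ∈ Subgroup.closure {s, t} := Subgroup.mul_mem _ hsmem htmem
  have hdvd : 4 ∣ Nat.card (Subgroup.closure {s, t}) := by
    have h1 : orderOf (⟨s * t, hrmem⟩ : Subgroup.closure {s, t}) = 4 := by
      rw [Subgroup.orderOf_mk, hord]; norm_num
    rw [← h1]
    exact orderOf_dvd_natCard _
  have hne : Nat.card (Subgroup.closure {s, t}) ≠ 4 := by
    intro h4c
    have hzle : Subgroup.zpowers (s * t) ≤ Subgroup.closure {s, t} := by
      rw [Subgroup.zpowers_le]; exact hrmem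
    have hzc : Nat.card (Subgroup.zpowers (s * t)) = 4 := by
      rw [Nat.card_zpowers, hord]; norm_num
    have heq : Subgroup.zpowers (s * t) = Subgroup.closure {s, t} :=
      Subgroup.eq_of_le_of_card_ge hzle (by rw [hzc, h4c])
    have hsz : s ∈ Subgroup.zpowers (s * t) := by rw [heq]; exact hsmem
    obtain ⟨j, hj⟩ := Subgroup.mem_zpowers_iff.mp hsz
    have hcomm : s * (s * t) = (s * t) * s := by
      have := ((Commute.refl (s * t)).zpow_left j).eq
      rw [hj] at this
      exact this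
    have h3 : (s * t) ^ 3 = s * t := by
      rw [← hrel, hcomm]; group
    apply h2
    have : (s * t) ^ 3 = (s * t) ^ 2 * (s * t) := pow_succ (s * t) 2
    rw [this] at h3
    exact mul_eq_right.mp h3
  obtain ⟨c, hc⟩ := hdvd
  have hpos : 0 < Nat.card (Subgroup.closure {s, t}) := Nat.card_pos
  omega

/-- two independent commuting elements of prime order `p` generate a subgroup of order `p ^ 2` -/
theorem card_closure_abelian_pair [Finite G] (p : ℕ) [hp : Fact p.Prime] (a b : G)
    (hab : a * b = b * a) (ha : a ^ p = 1) (hb : b ^ p = 1) (hne : a ≠ 1)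
    (hnb : b ∉ Subgroup.zpowers a) : Nat.card (Subgroup.closure {a, b}) = p ^ 2 := by
  have hpos : 0 < p := hp.out.pos
  have hrel : b * a * b⁻¹ = a ^ 1 := by
    rw [pow_one, ← hab]; group
  have hle := card_closure_pair_le hrel ha hpos hb hpos
  have hamem : a ∈ Subgroup.closure {a, b} := Subgroup.subset_closure (by simp)
  have hbmem : b ∈ Subgroup.closure {a, b} := Subgroup.subset_closure (by simp)
  have hexp : ∀ g : Subgroup.closure {a, b}, g ^ p ^ 1 = 1 := by
    rintro ⟨g, hg⟩
    obtain ⟨i, j, rfl⟩ := mem_closure_pair_nf hrel ha hpos hb hpos hg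
    apply Subtype.ext
    show (a ^ i * b ^ j) ^ p ^ 1 = 1
    have hc : Commute (a ^ i) (b ^ j) := Commute.pow_pow (show Commute a b from hab) i j
    rw [pow_one, hc.mul_pow, ← pow_mul, ← pow_mul, mul_comm i p, mul_comm j p, pow_mul, pow_mul,
      ha, hb, one_pow, one_pow, one_mul]
  have hpg : IsPGroup p (Subgroup.closure {a, b}) := fun g => ⟨1, hexp g⟩
  obtain ⟨e, he⟩ := IsPGroup.iff_card.mp hpg
  have hao : orderOf a = p := orderOf_eq_prime ha hne
  have hnep : Nat.card (Subgroup.closure {a, b}) ≠ p := by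
    intro h3
    have hzle : Subgroup.zpowers a ≤ Subgroup.closure {a, b} := by
      rw [Subgroup.zpowers_le]; exact hamem
    have hzc : Nat.card (Subgroup.zpowers a) = p := by rw [Nat.card_zpowers, hao]
    have heq : Subgroup.zpowers a = Subgroup.closure {a, b} :=
      Subgroup.eq_of_le_of_card_ge hzle (by rw [hzc, h3])
    apply hnb
    rw [heq]; exact hbmem
  have hdvd : p ∣ Nat.card (Subgroup.closure {a, b}) := by
    have h1 : orderOf (⟨a, hamem⟩ : Subgroup.closure {a, b}) = p := by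
      rw [Subgroup.orderOf_mk, hao]
    rw [← h1]
    exact orderOf_dvd_natCard _
  rw [he] at hle hnep hdvd ⊢
  have he2 : e ≤ 2 := by
    by_contra hlt
    push Not at hlt
    have h1 : p ^ 3 ≤ p ^ e := Nat.pow_le_pow_right hpos hlt
    have h2 : p * p < p ^ 3 := by
      have : p ^ 3 = p * p * p := by ring
      rw [this]
      have h2p := hp.out.two_le
      nlinarith
    omega
  interval_cases e
  · exfalso
    rw [pow_zero] at hdvd
    have := Nat.le_of_dvd (by norm_num) hdvd
    have := hp.out.two_le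
    omega
  · exfalso; exact hnep (pow_one p)
  · rfl

end PairCards

end Cfsg.Agent.Lib.helper3
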