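import Mathlib
import Cfsg.Prelude.Def_KGroupFacts
import Cfsg.Agent.Lib.helper3.StemLocal

set_option autoImplicit false

/-!
The kernel of a stem extension of the alternating group of degree six or seven is cyclic of
order dividing six.
-/

namespace Cfsg.Agent.Lib.helper3

open Cfsg Equiv

section AltSix

def a6s : alternatingGroup (Fin 6) :=
  ⟨swap 0 1 * swap 4 5, by rw [Equiv.Perm.mem_alternatingGroup]; decide⟩
def a6t : alternatingGroup (Fin 6) :=
  ⟨swap 0 2 * swap 1 3, by rw [Equiv.Perm.mem_alternatingGroup]; decide⟩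
def a6a : alternatingGroup (Fin 6) :=
  ⟨swap 0 1 * swap 1 2, by rw [Equiv.Perm.mem_alternatingGroup]; decide⟩
def a6b : alternatingGroup (Fin 6) :=
  ⟨swap 3 4 * swap 4 5, by rw [Equiv.Perm.mem_alternatingGroup]; decide⟩
def a6c : alternatingGroup (Fin 6) :=
  ⟨swap 0 1 * swap 1 2 * swap 2 3 * swap 3 4, by rw [Equiv.Perm.mem_alternatingGroup]; decide⟩

theorem a6_facts : a6s ^ 2 = 1 ∧ a6t ^ 2 = 1 ∧ (a6s * a6t) ^ 4 = 1 ∧ (a6s * a6t) ^ 2 ≠ 1 ∧
    a6a * a6b = a6b * a6a ∧ a6a ^ 3 = 1 ∧ a6b ^ 3 = 1 ∧ a6a ≠ 1 ∧ a6c ^ 5 = 1 ∧ a6c ≠ 1 := by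
  decide

theorem a6b_not_mem : a6b ∉ Subgroup.zpowers a6a := by
  intro h
  obtain ⟨j, hj⟩ := Subgroup.mem_zpowers_iff.mp h
  have h1 : ((a6a ^ j : alternatingGroup (Fin 6)) : Perm (Fin 6)) 3 = 3 := by
    rw [Subgroup.coe_zpow]
    exact Equiv.Perm.zpow_apply_eq_self_of_apply_eq_self (by decide) j
  rw [hj] at h1
  exact absurd h1 (by decide)

theorem alt6_card : Nat.card (alternatingGroup (Fin 6)) = 360 := by
  rw [nat_card_alternatingGroup, Nat.card_eq_fintype_card, Fintype.card_fin]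
  decide

theorem alt6_ker_cyclic {Γ : Type*} [Group Γ] [Finite Γ] (σ : Γ →* alternatingGroup (Fin 6))
    (hsurj : Function.Surjective σ) (hcen : σ.ker ≤ Subgroup.center Γ)
    (hder : σ.ker ≤ commutator Γ) :
    ∃ w ∈ σ.ker, w ^ 6 = 1 ∧ ∀ z ∈ σ.ker, z ∈ Subgroup.zpowers w := by
  obtain ⟨f1, f2, f3, f4, f5, f6, f7, f8, f9, f10⟩ := a6_facts
  have hcard := alt6_card
  have : Fact (Nat.Prime 3) := ⟨Nat.prime_three⟩
  have : Fact (Nat.Prime 5) := ⟨Nat.prime_five⟩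
  have : Fact (Nat.Prime 7) := ⟨by norm_num⟩
  refine stem_ker_cyclic_six σ hsurj hcen hder a6s a6t f1 f2 ?_ a6a a6b f5 f6 ?_ ?_
  · have h8 := card_closure_invol_pair a6s a6t f1 f2 f3 f4
    have h := Subgroup.index_mul_card (Subgroup.closure {a6s, a6t})
    rw [h8, hcard] at h
    omega
  · have h9 := card_closure_abelian_pair 3 a6a a6b f5 f6 f7 f8 a6b_not_mem
    have h := Subgroup.index_mul_card (Subgroup.closure {a6a, a6b})
    rw [h9, hcard] at h
    omega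
  · intro p hp hp2 hp3
    by_cases h5 : p = 5
    · subst h5
      apply local_trivial_of_zpowers σ hcen 5 a6c
      have ho : orderOf a6c = 5 := orderOf_eq_prime f9 f10
      rw [hcard, ho]
      norm_num
    · apply local_trivial_of_zpowers σ hcen p 1
      rw [orderOf_one, Nat.div_one, hcard]
      intro hd
      have h360 : (360 : ℕ) = 2 ^ 3 * 3 ^ 2 * 5 := by norm_num
      rw [h360] at hd
      rcases (Nat.Prime.dvd_mul hp).1 hd with h | h
      · rcases (Nat.Prime.dvd_mul hp).1 h with h | h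
        · exact hp2 ((Nat.prime_dvd_prime_iff_eq hp Nat.prime_two).1 (hp.dvd_of_dvd_pow h))
        · exact hp3 ((Nat.prime_dvd_prime_iff_eq hp Nat.prime_three).1 (hp.dvd_of_dvd_pow h))
      · exact h5 ((Nat.prime_dvd_prime_iff_eq hp Nat.prime_five).1 h)

end AltSix

section AltSeven

def a7s : alternatingGroup (Fin 7) :=
  ⟨swap 0 1 * swap 4 5, by rw [Equiv.Perm.mem_alternatingGroup]; decide⟩
def a7t : alternatingGroup (Fin 7) :=
  ⟨swap 0 2 * swap 1 3, by rw [Equiv.Perm.mem_alternatingGroup]; decide⟩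
def a7a : alternatingGroup (Fin 7) :=
  ⟨swap 0 1 * swap 1 2, by rw [Equiv.Perm.mem_alternatingGroup]; decide⟩
def a7b : alternatingGroup (Fin 7) :=
  ⟨swap 3 4 * swap 4 5, by rw [Equiv.Perm.mem_alternatingGroup]; decide⟩
def a7c : alternatingGroup (Fin 7) :=
  ⟨swap 0 1 * swap 1 2 * swap 2 3 * swap 3 4, by rw [Equiv.Perm.mem_alternatingGroup]; decide⟩
def a7d : alternatingGroup (Fin 7) :=
  ⟨swap 0 1 * swap 1 2 * swap 2 3 * swap 3 4 * swap 4 5 * swap 5 6,
    by rw [Equiv.Perm.mem_alternatingGroup]; decide⟩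

theorem a7_facts : a7s ^ 2 = 1 ∧ a7t ^ 2 = 1 ∧ (a7s * a7t) ^ 4 = 1 ∧ (a7s * a7t) ^ 2 ≠ 1 ∧
    a7a * a7b = a7b * a7a ∧ a7a ^ 3 = 1 ∧ a7b ^ 3 = 1 ∧ a7a ≠ 1 ∧ a7c ^ 5 = 1 ∧ a7c ≠ 1 ∧
    a7d ^ 7 = 1 ∧ a7d ≠ 1 := by
  decide +kernel

theorem a7b_not_mem : a7b ∉ Subgroup.zpowers a7a := by
  intro h
  obtain ⟨j, hj⟩ := Subgroup.mem_zpowers_iff.mp h
  have h1 : ((a7a ^ j : alternatingGroup (Fin 7)) : Perm (Fin 7)) 3 = 3 := by
    rw [Subgroup.coe_zpow]
    exact Equiv.Perm.zpow_apply_eq_self_of_apply_eq_self (by decide) j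
  rw [hj] at h1
  exact absurd h1 (by decide)

theorem alt7_card : Nat.card (alternatingGroup (Fin 7)) = 2520 := by
  rw [nat_card_alternatingGroup, Nat.card_eq_fintype_card, Fintype.card_fin]
  decide

theorem alt7_ker_cyclic {Γ : Type*} [Group Γ] [Finite Γ] (σ : Γ →* alternatingGroup (Fin 7))
    (hsurj : Function.Surjective σ) (hcen : σ.ker ≤ Subgroup.center Γ)
    (hder : σ.ker ≤ commutator Γ) :
    ∃ w ∈ σ.ker, w ^ 6 = 1 ∧ ∀ z ∈ σ.ker, z ∈ Subgroup.zpowers w := by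
  obtain ⟨f1, f2, f3, f4, f5, f6, f7, f8, f9, f10, f11, f12⟩ := a7_facts
  have hcard := alt7_card
  have : Fact (Nat.Prime 3) := ⟨Nat.prime_three⟩
  have : Fact (Nat.Prime 5) := ⟨Nat.prime_five⟩
  have : Fact (Nat.Prime 7) := ⟨by norm_num⟩
  refine stem_ker_cyclic_six σ hsurj hcen hder a7s a7t f1 f2 ?_ a7a a7b f5 f6 ?_ ?_
  · have h8 := card_closure_invol_pair a7s a7t f1 f2 f3 f4
    have h := Subgroup.index_mul_card (Subgroup.closure {a7s, a7t})
    rw [h8, hcard] at h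
    omega
  · have h9 := card_closure_abelian_pair 3 a7a a7b f5 f6 f7 f8 a7b_not_mem
    have h := Subgroup.index_mul_card (Subgroup.closure {a7a, a7b})
    rw [h9, hcard] at h
    omega
  · intro p hp hp2 hp3
    by_cases h5 : p = 5
    · subst h5
      apply local_trivial_of_zpowers σ hcen 5 a7c
      have ho : orderOf a7c = 5 := orderOf_eq_prime f9 f10
      rw [hcard, ho]
      norm_num
    by_cases h7 : p = 7
    · subst h7
      apply local_trivial_of_zpowers σ hcen 7 a7d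
      have ho : orderOf a7d = 7 := orderOf_eq_prime f11 f12
      rw [hcard, ho]
      norm_num
    · apply local_trivial_of_zpowers σ hcen p 1
      rw [orderOf_one, Nat.div_one, hcard]
      intro hd
      have h2520 : (2520 : ℕ) = 2 ^ 3 * 3 ^ 2 * 5 * 7 := by norm_num
      rw [h2520] at hd
      have hp7 : Nat.Prime 7 := by norm_num
      rcases (Nat.Prime.dvd_mul hp).1 hd with h | h
      · rcases (Nat.Prime.dvd_mul hp).1 h with h | h
        · rcases (Nat.Prime.dvd_mul hp).1 h with h | h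
          · exact hp2 ((Nat.prime_dvd_prime_iff_eq hp Nat.prime_two).1 (hp.dvd_of_dvd_pow h))
          · exact hp3 ((Nat.prime_dvd_prime_iff_eq hp Nat.prime_three).1 (hp.dvd_of_dvd_pow h))
        · exact h5 ((Nat.prime_dvd_prime_iff_eq hp Nat.prime_five).1 h)
      · exact h7 ((Nat.prime_dvd_prime_iff_eq hp hp7).1 h)

end AltSeven

end Cfsg.Agent.Lib.helper3
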