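import Mathlib
import Cfsg.Prelude.Def_KGroupFacts
import Cfsg.Agent.Lib.helper3.StemTools2
import Cfsg.Agent.Lib.helper3.SuzukiMultB

set_option autoImplicit false

/-!
Abstract lemmas on stem extensions of presented groups: generation by lifts of generators, the
kernel as the subgroup generated by the values of the relators, and some commutator calculus
modulo the centre.
-/

namespace Cfsg.Agent.Lib.helper3

open Cfsg
open scoped commutatorElement

section StemGen

variable {Γ G : Type*} [Group Γ] [Group G] (σ : Γ →* G)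

/-- a set of elements of a stem extension whose images generate the quotient generates -/
theorem stem_closure_eq_top (hcen : σ.ker ≤ Subgroup.center Γ) (hder : σ.ker ≤ commutator Γ)
    (S : Set Γ) (hS : (Subgroup.closure S).map σ = ⊤) : Subgroup.closure S = ⊤ := by
  have h1 : ∀ g : Γ, ∃ c ∈ Subgroup.closure S, ∃ z ∈ σ.ker, g = c * z := by
    intro g
    have : σ g ∈ (Subgroup.closure S).map σ := by rw [hS]; trivial
    obtain ⟨c, hc, hcg⟩ := this
    refine ⟨c, hc, c⁻¹ * g, ?_, by group⟩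
    rw [MonoidHom.mem_ker, map_mul, map_inv, hcg, inv_mul_cancel]
  have h2 : ∀ g h : Γ, ⁅g, h⁆ ∈ Subgroup.closure S := by
    intro g h
    obtain ⟨c, hc, z, hz, rfl⟩ := h1 g
    obtain ⟨c', hc', z', hz', rfl⟩ := h1 h
    rw [comm_mul_central_left (hcen hz), comm_mul_central_right (hcen hz')]
    rw [commutatorElement_def]
    exact Subgroup.mul_mem _ (Subgroup.mul_mem _ (Subgroup.mul_mem _ hc hc')
      (Subgroup.inv_mem _ hc)) (Subgroup.inv_mem _ hc')
  have h3 : commutator Γ ≤ Subgroup.closure S := by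
    rw [commutator_eq_closure, Subgroup.closure_le]
    rintro _ ⟨g, h, rfl⟩
    exact h2 g h
  rw [eq_top_iff]
  intro g _
  obtain ⟨c, hc, z, hz, rfl⟩ := h1 g
  exact Subgroup.mul_mem _ hc (h3 (hder hz))

end StemGen

section KerRelators

variable {Γ : Type*} [Group Γ] {ι : Type*} (rels : Set (FreeGroup ι))
  (σ : Γ →* PresentedGroup rels)

theorem map_lift_eq_mk (X : ι → Γ) (hX : ∀ i, σ (X i) = PresentedGroup.of i)
    (w : FreeGroup ι) : σ (FreeGroup.lift X w) = PresentedGroup.mk rels w := by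
  have h : σ.comp (FreeGroup.lift X) = PresentedGroup.mk rels := by
    apply FreeGroup.ext_hom
    intro i
    rw [MonoidHom.comp_apply, FreeGroup.lift_apply_of, hX]
    rfl
  exact DFunLike.congr_fun h w

/-- the kernel of a central extension of a presented group is generated by the values of the
relators at lifts of the generators, when these lifts generate -/
theorem ker_eq_closure_relators (hcen : σ.ker ≤ Subgroup.center Γ) (X : ι → Γ)
    (hX : ∀ i, σ (X i) = PresentedGroup.of i)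
    (hgen : Subgroup.closure (Set.range X) = ⊤) :
    σ.ker = Subgroup.closure {z | ∃ r ∈ rels, z = FreeGroup.lift X r} := by
  have hle : Subgroup.closure {z | ∃ r ∈ rels, z = FreeGroup.lift X r} ≤ σ.ker := by
    rw [Subgroup.closure_le]
    rintro _ ⟨r, hr, rfl⟩
    show FreeGroup.lift X r ∈ σ.ker
    rw [MonoidHom.mem_ker, map_lift_eq_mk rels σ X hX]
    exact PresentedGroup.one_of_mem hr
  apply le_antisymm _ hle
  obtain ⟨N, hN⟩ : ∃ N : Subgroup Γ,
      N = Subgroup.closure {z | ∃ r ∈ rels, z = FreeGroup.lift X r} := ⟨_, rfl⟩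
  rw [← hN] at hle ⊢
  haveI : N.Normal := by
    constructor
    intro n hn g
    have hc := Subgroup.mem_center_iff.mp (hcen (hle hn)) g
    rw [hc, mul_inv_cancel_right]
    exact hn
  -- the map from the presented group to the quotient
  have hrel : ∀ r ∈ rels, FreeGroup.lift (fun i => (QuotientGroup.mk' N) (X i)) r = 1 := by
    intro r hr
    have h : FreeGroup.lift (fun i => (QuotientGroup.mk' N) (X i)) =
        (QuotientGroup.mk' N).comp (FreeGroup.lift X) := by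
      apply FreeGroup.ext_hom
      intro i
      simp
    rw [h, MonoidHom.comp_apply, QuotientGroup.mk'_apply, QuotientGroup.eq_one_iff, hN]
    exact Subgroup.subset_closure ⟨r, hr, rfl⟩
  have hψ : ∀ g : Γ, PresentedGroup.toGroup hrel (σ g) = QuotientGroup.mk' N g := by
    have h : (PresentedGroup.toGroup hrel).comp σ = QuotientGroup.mk' N := by
      apply MonoidHom.eq_of_eqOn_dense hgen
      rintro _ ⟨i, rfl⟩
      show PresentedGroup.toGroup hrel (σ (X i)) = QuotientGroup.mk' N (X i)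
      rw [hX, PresentedGroup.toGroup.of]
    intro g
    exact DFunLike.congr_fun h g
  intro z hz
  have h1 := hψ z
  rw [MonoidHom.mem_ker.mp hz, map_one] at h1
  rw [← QuotientGroup.eq_one_iff]
  exact h1.symm

end KerRelators

section CentralCalculus

variable {Γ : Type*} [Group Γ]

theorem comm_pow_right_of_central {X Y : Γ} (hc : ⁅X, Y⁆ ∈ Subgroup.center Γ) (n : ℕ) :
    ⁅X, Y ^ n⁆ = ⁅X, Y⁆ ^ n := by
  have h1 : ⁅Y, X⁆ ∈ Subgroup.center Γ := by
    rw [← commutatorElement_inv]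
    exact Subgroup.inv_mem _ hc
  rw [← commutatorElement_inv (Y ^ n) X, comm_pow_left_of_central h1, ← commutatorElement_inv X Y,
    inv_pow, inv_inv]

/-- the commutator of lifts of commuting elements, one of which squares into the centre, has
order at most two -/
theorem comm_sq_eq_one {A X : Γ} (hA : A * A ∈ Subgroup.center Γ)
    (hc : ⁅A, X⁆ ∈ Subgroup.center Γ) : ⁅A, X⁆ * ⁅A, X⁆ = 1 := by
  have h := comm_pow_left_of_central hc 2
  rw [pow_two, pow_two] at h
  rw [← h, commutatorElement_eq_one_iff_mul_comm]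
  exact (Subgroup.mem_center_iff.mp hA X).symm

theorem eq_one_of_sq_of_cube {e : Γ} (h2 : e * e = 1) (h3 : e * e * e = 1) : e = 1 := by
  rw [h2, one_mul] at h3
  exact h3

/-- `A` commutes with `Y` and `X` modulo the centre, and `(Y X) ^ 3` is central: the two
commutators are inverse to each other -/
theorem comm_eq_inv_of_cube {A Y X : Γ} (hA : A * A ∈ Subgroup.center Γ)
    (hη : ⁅A, Y⁆ ∈ Subgroup.center Γ) (hε : ⁅A, X⁆ ∈ Subgroup.center Γ)
    (hγ : (Y * X) ^ 3 ∈ Subgroup.center Γ) : ⁅A, X⁆ = ⁅A, Y⁆⁻¹ := by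
  have hηε : ⁅A, Y * X⁆ = ⁅A, Y⁆ * ⁅A, X⁆ :=
    comm_mul_right_of_commute (Subgroup.mem_center_iff.mp hε Y)
  have hc : ⁅A, Y * X⁆ ∈ Subgroup.center Γ := by
    rw [hηε]; exact Subgroup.mul_mem _ hη hε
  have h3 : ⁅A, Y * X⁆ ^ 3 = 1 := by
    rw [← comm_pow_right_of_central hc, commutatorElement_eq_one_iff_mul_comm]
    exact Subgroup.mem_center_iff.mp hγ A
  have hcomm : Commute ⁅A, Y⁆ ⁅A, X⁆ := (Subgroup.mem_center_iff.mp hη _).symm
  have h2 : ⁅A, Y * X⁆ * ⁅A, Y * X⁆ = 1 := by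
    rw [hηε]
    have e1 := comm_sq_eq_one hA hη
    have e2 := comm_sq_eq_one hA hε
    calc ⁅A, Y⁆ * ⁅A, X⁆ * (⁅A, Y⁆ * ⁅A, X⁆) = ⁅A, Y⁆ * (⁅A, X⁆ * ⁅A, Y⁆) * ⁅A, X⁆ := by group
      _ = ⁅A, Y⁆ * (⁅A, Y⁆ * ⁅A, X⁆) * ⁅A, X⁆ := by rw [hcomm.eq]
      _ = (⁅A, Y⁆ * ⁅A, Y⁆) * (⁅A, X⁆ * ⁅A, X⁆) := by group
      _ = 1 := by rw [e1, e2, one_mul]
  have h1 : ⁅A, Y * X⁆ = 1 := by
    apply eq_one_of_sq_of_cube h2
    rw [← h3, pow_succ, pow_two]
  rw [hηε] at h1
  exact eq_inv_of_mul_eq_one_right h1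

/-- `A` and `B` commute with `X` modulo the centre, and `(A B) ^ 3` is central: the two
commutators with `X` agree -/
theorem comm_eq_of_cube_left {A B X : Γ} (hA : A * A ∈ Subgroup.center Γ)
    (hB : B * B ∈ Subgroup.center Γ)
    (hε : ⁅A, X⁆ ∈ Subgroup.center Γ) (hε' : ⁅B, X⁆ ∈ Subgroup.center Γ)
    (hγ : (A * B) ^ 3 ∈ Subgroup.center Γ) : ⁅B, X⁆ = ⁅A, X⁆ := by
  have hprod : ⁅A * B, X⁆ = ⁅B, X⁆ * ⁅A, X⁆ :=
    comm_mul_left_of_commute (Subgroup.mem_center_iff.mp hε' A)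
  have hc : ⁅A * B, X⁆ ∈ Subgroup.center Γ := by
    rw [hprod]; exact Subgroup.mul_mem _ hε' hε
  have h3 : ⁅A * B, X⁆ ^ 3 = 1 := by
    rw [← comm_pow_left_of_central hc, commutatorElement_eq_one_iff_mul_comm]
    exact (Subgroup.mem_center_iff.mp hγ X).symm
  have hcomm : Commute ⁅B, X⁆ ⁅A, X⁆ := (Subgroup.mem_center_iff.mp hε' _).symm
  have e1 := comm_sq_eq_one hA hε
  have e2 := comm_sq_eq_one hB hε'
  have h2 : ⁅A * B, X⁆ * ⁅A * B, X⁆ = 1 := by
    rw [hprod]
    calc ⁅B, X⁆ * ⁅A, X⁆ * (⁅B, X⁆ * ⁅A, X⁆) = ⁅B, X⁆ * (⁅A, X⁆ * ⁅B, X⁆) * ⁅A, X⁆ := by group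
      _ = ⁅B, X⁆ * (⁅B, X⁆ * ⁅A, X⁆) * ⁅A, X⁆ := by rw [hcomm.eq]
      _ = (⁅B, X⁆ * ⁅B, X⁆) * (⁅A, X⁆ * ⁅A, X⁆) := by group
      _ = 1 := by rw [e1, e2, one_mul]
  have h1 : ⁅A * B, X⁆ = 1 := by
    apply eq_one_of_sq_of_cube h2
    rw [← h3, pow_succ, pow_two]
  rw [hprod] at h1
  -- B X-commutator is the inverse of the A X-commutator, which is an involution
  have h4 : ⁅B, X⁆ = ⁅A, X⁆⁻¹ := eq_inv_of_mul_eq_one_left h1
  rw [h4]
  exact inv_eq_of_mul_eq_one_right e1

end CentralCalculus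

end Cfsg.Agent.Lib.helper3
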