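import Mathlib
import Cfsg.Agent.Lib.helper3.AltStepA

set_option autoImplicit false

/-!
Computations modulo a central subgroup for the inductive step on the kernel of a stem extension
of an alternating group.
-/

namespace Cfsg.Agent.Lib.helper3

open Cfsg
open scoped commutatorElement

section StepCalculus

variable {Γ : Type*} [Group Γ]

/-- if `a a`, `b b` and `(a b) ^ 3` are central then `((a b) ^ 3) ^ 2 = (b b) ^ 3 (a a) ^ 3` -/
theorem cube_sq_relation {a b : Γ} (ha : a * a ∈ Subgroup.center Γ)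
    (hb : b * b ∈ Subgroup.center Γ) (hγ : (a * b) ^ 3 ∈ Subgroup.center Γ) :
    (a * b) ^ 3 * (a * b) ^ 3 = (b * b) * (b * b) * (b * b) * ((a * a) * (a * a) * (a * a)) := by
  have hA := Subgroup.mem_center_iff.mp ha
  have hB := Subgroup.mem_center_iff.mp hb
  have hG := Subgroup.mem_center_iff.mp hγ
  -- (b a)^3 = (a b)^3
  have h1 : (b * a) ^ 3 = (a * b) ^ 3 := by
    have : (b * a) ^ 3 = a⁻¹ * (a * b) ^ 3 * a := by
      simp only [pow_succ, pow_zero, one_mul]; group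
    rw [this, mul_assoc, ← hG a, inv_mul_cancel_left]
  calc (a * b) ^ 3 * (a * b) ^ 3 = (a * b) ^ 3 * (b * a) ^ 3 := by rw [h1]
    _ = (a * b * a * b * a) * (b * b) * (a * b * a * b * a) := by
        simp only [pow_succ, pow_zero, one_mul]; group
    _ = (b * b) * ((a * b * a * b) * (a * a) * (b * a * b * a)) := by
        rw [hB (a * b * a * b * a)]; group
    _ = (b * b) * ((a * a) * ((a * b * a) * (b * b) * (a * b * a))) := by
        rw [hA (a * b * a * b)]; group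
    _ = (b * b) * ((a * a) * ((b * b) * ((a * b) * (a * a) * (b * a)))) := by
        rw [hB (a * b * a)]; group
    _ = (b * b) * ((a * a) * ((b * b) * ((a * a) * (a * (b * b) * a)))) := by
        rw [hA (a * b)]; group
    _ = (b * b) * ((a * a) * ((b * b) * ((a * a) * ((b * b) * (a * a))))) := by
        rw [hB a]; group
    _ = (b * b) * (b * b) * (b * b) * ((a * a) * (a * a) * (a * a)) := by
        have e1 : (a * a) * (b * b) = (b * b) * (a * a) := hB (a * a)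
        calc (b * b) * ((a * a) * ((b * b) * ((a * a) * ((b * b) * (a * a)))))
            = (b * b) * (((a * a) * (b * b)) * (((a * a) * (b * b)) * (a * a))) := by group
          _ = (b * b) * (((b * b) * (a * a)) * (((b * b) * (a * a)) * (a * a))) := by rw [e1]
          _ = (b * b) * (b * b) * (((a * a) * (b * b)) * ((a * a) * (a * a))) := by group
          _ = (b * b) * (b * b) * (((b * b) * (a * a)) * ((a * a) * (a * a))) := by rw [e1]
          _ = (b * b) * (b * b) * (b * b) * ((a * a) * (a * a) * (a * a)) := by group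

/-- adjusting the lift of the last generator by a central element -/
theorem adjust_last {T : Subgroup Γ} (hT : T ≤ Subgroup.center Γ) {Y X : Γ} (hY : Y * Y ∈ T)
    (hX : X * X ∈ Subgroup.center Γ) (hγ : (Y * X) ^ 3 ∈ Subgroup.center Γ) :
    ∃ c : Γ, c = ((Y * X) ^ 3)⁻¹ * (X * X) ∧ c ∈ Subgroup.center Γ ∧
      (X * c) * (X * c) ∈ T ∧ (Y * (X * c)) ^ 3 ∈ T := by
  have hrel := cube_sq_relation (hT hY) hX hγ
  have hYc := Subgroup.mem_center_iff.mp (hT hY)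
  have hXc := Subgroup.mem_center_iff.mp hX
  have hGc := Subgroup.mem_center_iff.mp hγ
  obtain ⟨c, hcdef⟩ : ∃ c : Γ, c = ((Y * X) ^ 3)⁻¹ * (X * X) := ⟨_, rfl⟩
  have hc : c ∈ Subgroup.center Γ := by
    rw [hcdef]; exact Subgroup.mul_mem _ (Subgroup.inv_mem _ hγ) hX
  have hcc := Subgroup.mem_center_iff.mp hc
  -- the target element
  have htarget : ((Y * Y) * (Y * Y) * (Y * Y))⁻¹ ∈ T :=
    Subgroup.inv_mem _ (Subgroup.mul_mem _ (Subgroup.mul_mem _ hY hY) hY)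
  have hcomm1 : Commute ((Y * X) ^ 3)⁻¹ (X * X) := hXc _
  -- c * c and c * c * c
  have hc2 : (X * X) * (c * c) = ((Y * Y) * (Y * Y) * (Y * Y))⁻¹ := by
    rw [eq_inv_iff_mul_eq_one, hcdef]
    have e : (X * X) * ((((Y * X) ^ 3)⁻¹ * (X * X)) * (((Y * X) ^ 3)⁻¹ * (X * X))) =
        ((Y * X) ^ 3 * (Y * X) ^ 3)⁻¹ * ((X * X) * (X * X) * (X * X)) := by
      calc (X * X) * ((((Y * X) ^ 3)⁻¹ * (X * X)) * (((Y * X) ^ 3)⁻¹ * (X * X)))
          = (X * X) * (((Y * X) ^ 3)⁻¹ * ((X * X) * ((Y * X) ^ 3)⁻¹) * (X * X)) := by group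
        _ = (X * X) * (((Y * X) ^ 3)⁻¹ * (((Y * X) ^ 3)⁻¹ * (X * X)) * (X * X)) := by
            rw [hcomm1.eq]
        _ = ((X * X) * (((Y * X) ^ 3)⁻¹ * ((Y * X) ^ 3)⁻¹)) * ((X * X) * (X * X)) := by group
        _ = ((((Y * X) ^ 3)⁻¹ * ((Y * X) ^ 3)⁻¹) * (X * X)) * ((X * X) * (X * X)) := by
            rw [hXc (((Y * X) ^ 3)⁻¹ * ((Y * X) ^ 3)⁻¹)]
        _ = ((Y * X) ^ 3 * (Y * X) ^ 3)⁻¹ * ((X * X) * (X * X) * (X * X)) := by group
    rw [e, hrel]
    have e2 : (Y * Y * (Y * Y) * (Y * Y)) * (X * X * (X * X) * (X * X)) =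
        (X * X * (X * X) * (X * X)) * (Y * Y * (Y * Y) * (Y * Y)) :=
      (Subgroup.mem_center_iff.mp (Subgroup.mul_mem _ (Subgroup.mul_mem _ hX hX) hX) _)
    calc (X * X * (X * X) * (X * X) * (Y * Y * (Y * Y) * (Y * Y)))⁻¹ *
          (X * X * (X * X) * (X * X)) * (Y * Y * (Y * Y) * (Y * Y))
        = (X * X * (X * X) * (X * X) * (Y * Y * (Y * Y) * (Y * Y)))⁻¹ *
          ((X * X * (X * X) * (X * X)) * (Y * Y * (Y * Y) * (Y * Y))) := by group
      _ = 1 := inv_mul_cancel _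
  have hc3 : (Y * X) ^ 3 * (c * c * c) = ((Y * Y) * (Y * Y) * (Y * Y))⁻¹ := by
    rw [eq_inv_iff_mul_eq_one, hcdef]
    have e : (Y * X) ^ 3 * ((((Y * X) ^ 3)⁻¹ * (X * X)) * (((Y * X) ^ 3)⁻¹ * (X * X)) *
        (((Y * X) ^ 3)⁻¹ * (X * X))) =
        ((Y * X) ^ 3 * (Y * X) ^ 3)⁻¹ * ((X * X) * (X * X) * (X * X)) := by
      calc (Y * X) ^ 3 * ((((Y * X) ^ 3)⁻¹ * (X * X)) * (((Y * X) ^ 3)⁻¹ * (X * X)) *
            (((Y * X) ^ 3)⁻¹ * (X * X)))
          = ((X * X) * ((Y * X) ^ 3)⁻¹) * ((X * X) * ((Y * X) ^ 3)⁻¹) * (X * X) := by group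
        _ = (((Y * X) ^ 3)⁻¹ * (X * X)) * (((Y * X) ^ 3)⁻¹ * (X * X)) * (X * X) := by
            rw [hcomm1.eq]
        _ = ((Y * X) ^ 3)⁻¹ * ((X * X) * ((Y * X) ^ 3)⁻¹) * ((X * X) * (X * X)) := by group
        _ = ((Y * X) ^ 3)⁻¹ * (((Y * X) ^ 3)⁻¹ * (X * X)) * ((X * X) * (X * X)) := by
            rw [hcomm1.eq]
        _ = ((Y * X) ^ 3 * (Y * X) ^ 3)⁻¹ * ((X * X) * (X * X) * (X * X)) := by group
    rw [e, hrel]
    calc (X * X * (X * X) * (X * X) * (Y * Y * (Y * Y) * (Y * Y)))⁻¹ *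
          (X * X * (X * X) * (X * X)) * (Y * Y * (Y * Y) * (Y * Y))
        = (X * X * (X * X) * (X * X) * (Y * Y * (Y * Y) * (Y * Y)))⁻¹ *
          ((X * X * (X * X) * (X * X)) * (Y * Y * (Y * Y) * (Y * Y))) := by group
      _ = 1 := inv_mul_cancel _
  refine ⟨c, hcdef, hc, ?_, ?_⟩
  · have e : (X * c) * (X * c) = (X * X) * (c * c) := by
      calc (X * c) * (X * c) = X * (c * X) * c := by group
        _ = X * (X * c) * c := by rw [hcc X]
        _ = (X * X) * (c * c) := by group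
    rw [e, hc2]
    exact htarget
  · have hcomm2 : Commute (Y * X) c := (hcc (Y * X))
    have e : (Y * (X * c)) ^ 3 = (Y * X) ^ 3 * (c * c * c) := by
      rw [← mul_assoc, hcomm2.mul_pow]
      congr 1
      simp only [pow_succ, pow_zero, one_mul]
    rw [e, hc3]
    exact htarget

/-- the value of the relator `(A X)²` when `A` and `X` commute modulo `T` -/
theorem sq_mul_mem_of_comm_mem {T : Subgroup Γ} (hT : T ≤ Subgroup.center Γ) {A X : Γ}
    (hA : A * A ∈ T) (hX : X * X ∈ T) (hε : ⁅A, X⁆ ∈ T) : (A * X) ^ 2 ∈ T := by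
  have hAc := Subgroup.mem_center_iff.mp (hT hA)
  have hεc := Subgroup.mem_center_iff.mp (hT hε)
  have e : (A * X) ^ 2 = ⁅A, X⁆ * ((A * A) * (X * X)) := by
    calc (A * X) ^ 2 = (A * X * A⁻¹ * X⁻¹) * X * (A * A) * X := by rw [pow_two]; group
      _ = ⁅A, X⁆ * (X * (A * A)) * X := by rw [commutatorElement_def]; group
      _ = ⁅A, X⁆ * ((A * A) * X) * X := by rw [hAc X]
      _ = ⁅A, X⁆ * ((A * A) * (X * X)) := by group
  rw [e]
  exact Subgroup.mul_mem _ hε (Subgroup.mul_mem _ hA hX)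

/-- the value of the relator `(P X)²` when `X` inverts `P` modulo `T` -/
theorem sq_mul_mem_of_inv_mem {T : Subgroup Γ} (hT : T ≤ Subgroup.center Γ) {P X : Γ}
    (hX : X * X ∈ T) (hζ : X * P * X⁻¹ * P ∈ T) : (P * X) ^ 2 ∈ T := by
  have hζc := Subgroup.mem_center_iff.mp (hT hζ)
  have e : (P * X) ^ 2 = (X * P * X⁻¹ * P) * (X * X) := by
    calc (P * X) ^ 2 = P * (X * P * X⁻¹ * P) * P⁻¹ * (X * X) := by rw [pow_two]; group
      _ = (X * P * X⁻¹ * P) * P * P⁻¹ * (X * X) := by rw [hζc P]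
      _ = (X * P * X⁻¹ * P) * (X * X) := by group
  rw [e]
  exact Subgroup.mul_mem _ hζ hX

/-- the inverting relation is independent of the lift, modulo `T` -/
theorem inverting_lift_mem {T : Subgroup Γ} (hT : T ≤ Subgroup.center Γ) {P Q X : Γ}
    (hP : P * P * P ∈ Subgroup.center Γ) (hQ : Q * P * Q⁻¹ * P ∈ T)
    (hX : X * P * X⁻¹ * P ∈ Subgroup.center Γ)
    (hW : (X * Q) * (X * Q) ∈ Subgroup.center Γ) : X * P * X⁻¹ * P ∈ T := by
  have hζ'c := Subgroup.mem_center_iff.mp (hT hQ)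
  have hζc := Subgroup.mem_center_iff.mp hX
  -- the commutator of W = X Q and P
  have hθ : ⁅X * Q, P⁆ = (Q * P * Q⁻¹ * P) * (X * P * X⁻¹ * P)⁻¹ := by
    have e1 : Q * P * Q⁻¹ = (Q * P * Q⁻¹ * P) * P⁻¹ := by group
    have e2 : X * P⁻¹ * X⁻¹ = P * (X * P * X⁻¹ * P)⁻¹ := by group
    calc ⁅X * Q, P⁆ = X * (Q * P * Q⁻¹) * X⁻¹ * P⁻¹ := by rw [commutatorElement_def]; group
      _ = X * ((Q * P * Q⁻¹ * P) * P⁻¹) * X⁻¹ * P⁻¹ := by rw [← e1]
      _ = (X * (Q * P * Q⁻¹ * P)) * (P⁻¹ * X⁻¹ * P⁻¹) := by group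
      _ = ((Q * P * Q⁻¹ * P) * X) * (P⁻¹ * X⁻¹ * P⁻¹) := by rw [hζ'c X]
      _ = (Q * P * Q⁻¹ * P) * (X * P⁻¹ * X⁻¹) * P⁻¹ := by group
      _ = (Q * P * Q⁻¹ * P) * (P * (X * P * X⁻¹ * P)⁻¹) * P⁻¹ := by rw [e2]
      _ = (Q * P * Q⁻¹ * P) * ((X * P * X⁻¹ * P)⁻¹ * P) * P⁻¹ := by
          rw [Subgroup.mem_center_iff.mp (Subgroup.inv_mem _ hX) P]
      _ = (Q * P * Q⁻¹ * P) * (X * P * X⁻¹ * P)⁻¹ := by group
  have hθc : ⁅X * Q, P⁆ ∈ Subgroup.center Γ := by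
    rw [hθ]
    exact Subgroup.mul_mem _ (hT hQ) (Subgroup.inv_mem _ hX)
  have h3 : ⁅X * Q, P⁆ ^ 3 = 1 := by
    rw [← comm_pow_right_of_central hθc, commutatorElement_eq_one_iff_mul_comm]
    have : P ^ 3 = P * P * P := by simp only [pow_succ, pow_zero, one_mul]
    rw [this]
    exact Subgroup.mem_center_iff.mp hP (X * Q)
  have h2 : ⁅X * Q, P⁆ * ⁅X * Q, P⁆ = 1 := comm_sq_eq_one hW hθc
  have h1 : ⁅X * Q, P⁆ = 1 := by
    apply eq_one_of_sq_of_cube h2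
    rw [← h3, pow_succ, pow_two]
  rw [hθ, mul_inv_eq_one] at h1
  rw [← h1]
  exact hQ

end StepCalculus

end Cfsg.Agent.Lib.helper3
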