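import Mathlib
import Cfsg.Prelude.Def_KGroupFacts
import Cfsg.Agent.S3335
import Cfsg.Agent.Lib.helper3.AltStepB

set_option autoImplicit false

/-!
The presented alternating groups: the inclusion of the group on `k` generators into the group
on `k + 1` generators is injective, and the groups are perfect.
-/

namespace Cfsg.Agent.Lib.helper3

open Cfsg Cfsg.Agent.S3335
open scoped commutatorElement

section Iota

theorem paIota_rel (k : ℕ) : ∀ r ∈ relsA k,
    FreeGroup.lift (fun i : Fin k => (PresentedGroup.of (Fin.castSucc i) : PA (k + 1))) r = 1 := by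
  intro r hr
  rcases hr with ((⟨i, hi, rfl⟩ | ⟨i, hi, rfl⟩) | ⟨i, j, hij, rfl⟩) | ⟨i, j, hij, rfl⟩
  · rw [map_pow, FreeGroup.lift_apply_of]
    exact relA1 (k + 1) _ (by simpa using hi)
  · rw [map_pow, FreeGroup.lift_apply_of]
    exact relA2 (k + 1) _ (by simpa using hi)
  · rw [map_pow, map_mul, FreeGroup.lift_apply_of, FreeGroup.lift_apply_of]
    exact relA3 (k + 1) _ _ (by simpa using hij)
  · rw [map_pow, map_mul, FreeGroup.lift_apply_of, FreeGroup.lift_apply_of]
    exact relA4 (k + 1) _ _ (by simpa using hij)

/-- the inclusion of the presented alternating group on `k` generators into the next one -/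
def paIota (k : ℕ) : PA k →* PA (k + 1) := PresentedGroup.toGroup (paIota_rel k)

theorem paIota_of (k : ℕ) (i : Fin k) :
    paIota k (PresentedGroup.of i) = PresentedGroup.of (Fin.castSucc i) :=
  PresentedGroup.toGroup.of (paIota_rel k)

theorem gP_zero_ne_one (k : ℕ) (hk : 1 ≤ k) : gP k 0 ≠ 1 := by
  intro h
  have h1 : gP k 0 (q k 2) = q k 0 := by
    rw [gP_zero]
    unfold tau
    rw [Equiv.Perm.mul_apply, Equiv.swap_apply_right, Equiv.swap_apply_right]
  rw [h, Equiv.Perm.one_apply] at h1
  exact q_ne k (by omega) (by omega) (by omega) h1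

theorem pa_of_zero_ne_one (k : ℕ) (hk : 1 ≤ k) :
    (PresentedGroup.of ⟨0, hk⟩ : PA k) ≠ 1 := by
  intro h
  have h1 := fA_of k ⟨0, hk⟩
  rw [h, map_one] at h1
  exact gP_zero_ne_one k hk h1.symm

theorem paIota_injective (k : ℕ) (hk : 3 ≤ k) : Function.Injective (paIota k) := by
  obtain ⟨e⟩ := main k
  haveI : IsSimpleGroup (alternatingGroup (Fin (k + 2))) :=
    alternatingGroup.isSimpleGroup (by rw [Nat.card_eq_fintype_card, Fintype.card_fin]; omega)
  haveI : Nontrivial (PA k) := e.toEquiv.nontrivial
  haveI : IsSimpleGroup (PA k) := IsSimpleGroup.isSimpleGroup_of_surjective e.symm.toMonoidHom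
    e.symm.surjective
  rw [← MonoidHom.ker_eq_bot_iff]
  rcases (paIota k).normal_ker.eq_bot_or_eq_top with h | h
  · exact h
  · exfalso
    have h0 : (PresentedGroup.of ⟨0, by omega⟩ : PA k) ∈ (paIota k).ker := by rw [h]; trivial
    rw [MonoidHom.mem_ker, paIota_of] at h0
    exact pa_of_zero_ne_one (k + 1) (by omega) h0

end Iota

section Perfect

/-- the presented alternating groups on at least three generators are perfect -/
theorem pa_perfect (k : ℕ) (hk : 3 ≤ k) : commutator (PA k) = ⊤ := by
  have hs := altRel_sP k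
  -- every generator lies in the commutator subgroup
  have hgen : ∀ i, i < k → sP k i ∈ commutator (PA k) := by
    intro i
    induction i with
    | zero =>
      intro _
      -- s 0 = ⁅s 2, s 0⁆
      have hinv := hs.inv0 2 (le_refl 2) (by omega)
      have hsq := hs.sq 2 (by norm_num) (by omega)
      have hcube := hs.cube
      have h2i : (sP k 2)⁻¹ = sP k 2 := inv_eq_of_mul_eq_one_right hsq
      have e : sP k 0 = ⁅sP k 2, sP k 0⁆ := by
        rw [commutatorElement_def, h2i, hinv, ← mul_inv_rev]
        exact eq_inv_of_mul_eq_one_right hcube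
      rw [e]
      exact Subgroup.commutator_mem_commutator (Subgroup.mem_top _) (Subgroup.mem_top _)
    | succ i ih =>
      intro hi
      have hi' : i < k := by omega
      have hprev := ih hi'
      -- (s i * s (i+1))^3 = 1
      have h3 : (sP k i * sP k (i + 1)) ^ 3 = 1 := by
        rw [sP_of_lt k hi', sP_of_lt k hi]
        exact relA3 k ⟨i, hi'⟩ ⟨i + 1, hi⟩ rfl
      have h2 : sP k (i + 1) * sP k (i + 1) = 1 := hs.sq (i + 1) (by omega) hi
      -- work in the abelianization
      have hq : ∀ x : PA k, x ∈ commutator (PA k) ↔ (QuotientGroup.mk' (commutator (PA k))) x = 1 := by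
        intro x
        rw [QuotientGroup.mk'_apply, QuotientGroup.eq_one_iff]
      rw [hq] at hprev ⊢
      have h3' := congrArg (QuotientGroup.mk' (commutator (PA k))) h3
      rw [map_pow, map_mul, hprev, one_mul, map_one] at h3'
      have h2' := congrArg (QuotientGroup.mk' (commutator (PA k))) h2
      rw [map_mul, map_one] at h2'
      rw [pow_succ, pow_two, h2', one_mul] at h3'
      exact h3'
  rw [eq_top_iff, ← PresentedGroup.closure_range_of (relsA k), Subgroup.closure_le]
  rintro _ ⟨i, rfl⟩
  have := hgen i.val i.2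
  rw [sP_of_lt k i.2] at this
  exact this

end Perfect

end Cfsg.Agent.Lib.helper3
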