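import Mathlib
import Cfsg.Prelude.Def_KGroupFacts
import Cfsg.Agent.S3335
import Cfsg.Agent.Lib.helper3.AltStepC

set_option autoImplicit false

/-!
The inductive step: in a stem extension of the presented alternating group on `j + 5` generators,
the kernel lies in every subgroup containing lifts of the first `j + 4` generators.
-/

namespace Cfsg.Agent.Lib.helper3

open Cfsg Cfsg.Agent.S3335
open scoped commutatorElement

section Relations

variable (n : ℕ)

theorem sA_sq {i : ℕ} (h1 : 1 ≤ i) (hi : i < n) : sP n i * sP n i = 1 :=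
  (altRel_sP n).sq i h1 hi

theorem sA_cube : sP n 0 * sP n 0 * sP n 0 = 1 := (altRel_sP n).cube

theorem sA_adj {i : ℕ} (hi : i + 1 < n) : (sP n i * sP n (i + 1)) ^ 3 = 1 := by
  rw [sP_of_lt n (show i < n by omega), sP_of_lt n hi]
  exact relA3 n ⟨i, by omega⟩ ⟨i + 1, hi⟩ rfl

theorem sA_comm {i j : ℕ} (h1 : 1 ≤ i) (hij : i + 1 < j) (hj : j < n) :
    ⁅sP n i, sP n j⁆ = 1 := by
  rw [commutatorElement_eq_one_iff_mul_comm]
  exact (altRel_sP n).comm i j h1 hij hj

theorem sA_inv {j : ℕ} (h2 : 2 ≤ j) (hj : j < n) :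
    sP n j * sP n 0 * (sP n j)⁻¹ * sP n 0 = 1 := by
  have h := (altRel_sP n).inv0 j h2 hj
  have hsq := sA_sq n (show 1 ≤ j by omega) hj
  have hji : (sP n j)⁻¹ = sP n j := inv_eq_of_mul_eq_one_right hsq
  rw [hji, h, inv_mul_cancel]

theorem sA_prod_sq {i j : ℕ} (h1 : 1 ≤ i) (hij : i + 1 < j) (hj : j < n) :
    (sP n j * sP n i) * (sP n j * sP n i) = 1 := by
  have hc := (altRel_sP n).comm i j h1 hij hj
  have hi := sA_sq n h1 (show i < n by omega)
  have hj' := sA_sq n (show 1 ≤ j by omega) hj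
  calc (sP n j * sP n i) * (sP n j * sP n i) = sP n j * (sP n i * sP n j) * sP n i := by group
    _ = sP n j * (sP n j * sP n i) * sP n i := by rw [hc]
    _ = (sP n j * sP n j) * (sP n i * sP n i) := by group
    _ = 1 := by rw [hi, hj', one_mul]

end Relations

section Step

variable {Γ : Type*} [Group Γ]

theorem alt_step_ker_le (j : ℕ) (σ : Γ →* PA (j + 5)) (hsurj : Function.Surjective σ)
    (hcen : σ.ker ≤ Subgroup.center Γ) (hder : σ.ker ≤ commutator Γ) (K : Subgroup Γ)
    (hlift : ∀ i : Fin (j + 4), ∃ x : Γ, x ∈ K ∧ σ x = PresentedGroup.of (Fin.castSucc i)) :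
    σ.ker ≤ K := by
  choose xK hxK hxσ using hlift
  obtain ⟨X₀, hX₀⟩ := hsurj (PresentedGroup.of (Fin.last (j + 4)))
  -- the central subgroup T
  obtain ⟨T, hTdef⟩ : ∃ T : Subgroup Γ, T = σ.ker ⊓ K := ⟨_, rfl⟩
  have hT : T ≤ Subgroup.center Γ := fun x hx => by
    rw [hTdef] at hx; exact hcen hx.1
  have hTK : T ≤ K := fun x hx => by rw [hTdef] at hx; exact hx.2
  have memT : ∀ x, x ∈ K → σ x = 1 → x ∈ T := fun x hx h => by
    rw [hTdef]; exact ⟨MonoidHom.mem_ker.mpr h, hx⟩
  have memC : ∀ x, σ x = 1 → x ∈ Subgroup.center Γ := fun x h => hcen (MonoidHom.mem_ker.mpr h)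
  -- the lifts indexed by ℕ
  obtain ⟨y, hydef⟩ : ∃ y : ℕ → Γ, y = fun i => if h : i < j + 4 then xK ⟨i, h⟩ else 1 := ⟨_, rfl⟩
  have hyK : ∀ i, i < j + 4 → y i ∈ K := by
    intro i hi
    rw [hydef]
    simp only [hi, dite_true]
    exact hxK _
  have hyσ : ∀ i, i < j + 4 → σ (y i) = sP (j + 5) i := by
    intro i hi
    rw [hydef]
    simp only [hi, dite_true]
    rw [hxσ, sP_of_lt (j + 5) (show i < j + 5 by omega)]
    rfl
  have hX₀σ : σ X₀ = sP (j + 5) (j + 4) := by
    rw [hX₀, sP_of_lt (j + 5) (show j + 4 < j + 5 by omega)]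
    rfl
  -- adjusting the last lift
  have hY : y (j + 3) * y (j + 3) ∈ T := by
    apply memT _ (Subgroup.mul_mem _ (hyK _ (by omega)) (hyK _ (by omega)))
    rw [map_mul, hyσ _ (by omega)]
    exact sA_sq (j + 5) (by omega) (by omega)
  have hX₀2 : σ (X₀ * X₀) = 1 := by
    rw [map_mul, hX₀σ]
    exact sA_sq (j + 5) (by omega) (by omega)
  have hγ₀ : σ ((y (j + 3) * X₀) ^ 3) = 1 := by
    rw [map_pow, map_mul, hyσ _ (by omega), hX₀σ]
    exact sA_adj (j + 5) (by omega)
  obtain ⟨c, hcdef, hc, hXX, hYX⟩ := adjust_last hT hY (memC _ hX₀2) (memC _ hγ₀)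
  have hcσ : σ c = 1 := by
    rw [hcdef, map_mul, map_inv, hγ₀, hX₀2, inv_one, one_mul]
  obtain ⟨X, hXdef⟩ : ∃ X : Γ, X = X₀ * c := ⟨_, rfl⟩
  rw [← hXdef] at hXX hYX
  have hXσ : σ X = sP (j + 5) (j + 4) := by
    rw [hXdef, map_mul, hcσ, mul_one, hX₀σ]
  -- squares of the lifts
  have hsqT : ∀ i, 1 ≤ i → i < j + 4 → y i * y i ∈ T := by
    intro i h1 hi
    apply memT _ (Subgroup.mul_mem _ (hyK _ hi) (hyK _ hi))
    rw [map_mul, hyσ _ hi]
    exact sA_sq (j + 5) h1 (by omega)
  have hXXc : X * X ∈ Subgroup.center Γ := hT hXX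
  have hYXc : (y (j + 3) * X) ^ 3 ∈ Subgroup.center Γ := hT hYX
  -- commutators with the last lift
  have hεc : ∀ i, 1 ≤ i → i ≤ j + 2 → ⁅y i, X⁆ ∈ Subgroup.center Γ := by
    intro i h1 hi
    apply memC
    rw [map_commutatorElement, hyσ _ (by omega), hXσ]
    exact sA_comm (j + 5) h1 (by omega) (by omega)
  have hε1 : ∀ i, 1 ≤ i → i ≤ j + 1 → ⁅y i, X⁆ ∈ T := by
    intro i h1 hi
    have hη : ⁅y i, y (j + 3)⁆ ∈ T := by
      apply memT
      · rw [commutatorElement_def]
        exact Subgroup.mul_mem _ (Subgroup.mul_mem _ (Subgroup.mul_mem _ (hyK _ (by omega))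
          (hyK _ (by omega))) (Subgroup.inv_mem _ (hyK _ (by omega))))
          (Subgroup.inv_mem _ (hyK _ (by omega)))
      · rw [map_commutatorElement, hyσ _ (by omega), hyσ _ (by omega)]
        exact sA_comm (j + 5) h1 (by omega) (by omega)
    have e := comm_eq_inv_of_cube (hT (hsqT i h1 (by omega))) (hT hη) (hεc i h1 (by omega)) hYXc
    rw [e]
    exact Subgroup.inv_mem _ hη
  have hε : ∀ i, 1 ≤ i → i ≤ j + 2 → ⁅y i, X⁆ ∈ T := by
    intro i h1 hi
    by_cases hi' : i ≤ j + 1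
    · exact hε1 i h1 hi'
    · have hij : i = j + 2 := by omega
      subst hij
      have hAB : (y (j + 1) * y (j + 2)) ^ 3 ∈ Subgroup.center Γ := by
        apply memC
        rw [map_pow, map_mul, hyσ _ (by omega), hyσ _ (by omega)]
        exact sA_adj (j + 5) (by omega)
      have e := comm_eq_of_cube_left (hT (hsqT (j + 1) (by omega) (by omega)))
        (hT (hsqT (j + 2) (by omega) (by omega))) (hεc (j + 1) (by omega) (by omega))
        (hεc (j + 2) (by omega) (by omega)) hAB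
      rw [e]
      exact hε1 (j + 1) (by omega) (le_refl _)
  -- the inverting relation
  have hζ : X * y 0 * X⁻¹ * y 0 ∈ T := by
    apply inverting_lift_mem hT (Q := y (j + 2))
    · apply memC
      rw [map_mul, map_mul, hyσ _ (by omega)]
      exact sA_cube (j + 5)
    · apply memT
      · exact Subgroup.mul_mem _ (Subgroup.mul_mem _ (Subgroup.mul_mem _ (hyK _ (by omega))
          (hyK _ (by omega))) (Subgroup.inv_mem _ (hyK _ (by omega)))) (hyK _ (by omega))
      · rw [map_mul, map_mul, map_mul, map_inv, hyσ _ (by omega), hyσ _ (by omega)]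
        exact sA_inv (j + 5) (by omega) (by omega)
    · apply memC
      rw [map_mul, map_mul, map_mul, map_inv, hyσ _ (by omega), hXσ]
      exact sA_inv (j + 5) (by omega) (by omega)
    · apply memC
      rw [map_mul, map_mul, hyσ _ (by omega), hXσ]
      exact sA_prod_sq (j + 5) (by omega) (by omega) (by omega)
  -- the family of lifts
  obtain ⟨z, hzdef⟩ : ∃ z : ℕ → Γ, z = fun i => if i < j + 4 then y i else X := ⟨_, rfl⟩
  have hz_lt : ∀ i, i < j + 4 → z i = y i := by
    intro i hi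
    rw [hzdef]
    simp only [hi, if_true]
  have hz_last : z (j + 4) = X := by
    rw [hzdef]
    simp
  have hzK : ∀ i, i < j + 4 → z i ∈ K := fun i hi => by rw [hz_lt i hi]; exact hyK i hi
  have hzσ : ∀ i : Fin (j + 5), σ (z i.val) = PresentedGroup.of i := by
    intro i
    by_cases hi : i.val < j + 4
    · rw [hz_lt _ hi, hyσ _ hi, sP_of_lt (j + 5) i.2]
    · have : i.val = j + 4 := by have := i.2; omega
      rw [this, hz_last, hXσ, sP_of_lt (j + 5) (show j + 4 < j + 5 by omega)]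
      congr 1
      exact Fin.ext this.symm
  have hgen : Subgroup.closure (Set.range fun i : Fin (j + 5) => z i.val) = ⊤ := by
    apply stem_closure_eq_top σ hcen hder
    rw [MonoidHom.map_closure, eq_top_iff, ← PresentedGroup.closure_range_of (relsA (j + 5))]
    apply Subgroup.closure_mono
    rintro _ ⟨i, rfl⟩
    exact ⟨z i.val, ⟨i, rfl⟩, hzσ i⟩
  rw [ker_eq_closure_relators (relsA (j + 5)) σ hcen (fun i : Fin (j + 5) => z i.val) hzσ hgen,
    Subgroup.closure_le]
  rintro _ ⟨r, hr, rfl⟩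
  show FreeGroup.lift (fun i : Fin (j + 5) => z i.val) r ∈ K
  rcases hr with ((⟨i, hi, rfl⟩ | ⟨i, hi, rfl⟩) | ⟨i, i', hij, rfl⟩) | ⟨i, i', hij, rfl⟩
  · rw [map_pow, FreeGroup.lift_apply_of]
    exact Subgroup.pow_mem _ (hzK _ (by omega)) 3
  · rw [map_pow, FreeGroup.lift_apply_of]
    by_cases hlt : i.val < j + 4
    · exact Subgroup.pow_mem _ (hzK _ hlt) 2
    · have : i.val = j + 4 := by have := i.2; omega
      rw [this, hz_last, pow_two]
      exact hTK hXX
  · rw [map_pow, map_mul, FreeGroup.lift_apply_of, FreeGroup.lift_apply_of]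
    by_cases hlt : i'.val < j + 4
    · exact Subgroup.pow_mem _ (Subgroup.mul_mem _ (hzK _ (by omega)) (hzK _ hlt)) 3
    · have h1 : i'.val = j + 4 := by have := i'.2; omega
      have h2 : i.val = j + 3 := by omega
      rw [h1, h2, hz_last, hz_lt _ (by omega)]
      exact hTK hYX
  · rw [map_pow, map_mul, FreeGroup.lift_apply_of, FreeGroup.lift_apply_of]
    by_cases hlt : i'.val < j + 4
    · exact Subgroup.pow_mem _ (Subgroup.mul_mem _ (hzK _ (by omega)) (hzK _ hlt)) 2
    · have h1 : i'.val = j + 4 := by have := i'.2; omega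
      have h2 : i.val ≤ j + 2 := by omega
      rw [h1, hz_last, hz_lt _ (by omega)]
      by_cases h0 : i.val = 0
      · rw [h0]
        exact hTK (sq_mul_mem_of_inv_mem hT hXX hζ)
      · exact hTK (sq_mul_mem_of_comm_mem hT (hsqT _ (by omega) (by omega)) hXX
          (hε _ (by omega) h2))

end Step

end Cfsg.Agent.Lib.helper3
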