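import Mathlib
import Cfsg.Prelude.Def_KGroupFacts
import Cfsg.Agent.S3335
import Cfsg.Agent.Lib.helper3.AltStepD

set_option autoImplicit false

/-!
The inductive step: from a stem extension of the presented alternating group on `j + 5`
generators to one of the group on `j + 4` generators with a kernel of the same order.
-/

namespace Cfsg.Agent.Lib.helper3

open Cfsg Cfsg.Agent.S3335
open scoped commutatorElement

section StepE

universe u

variable {Γ : Type u} [Group Γ]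

theorem alt_step (j : ℕ) (σ : Γ →* PA (j + 5)) (hσ : IsStemExtension σ) :
    ∃ (K : Subgroup Γ) (σ' : ↥K →* PA (j + 4)),
      IsStemExtension σ' ∧ Nat.card σ.ker = Nat.card σ'.ker := by
  obtain ⟨hsurj, hcen, hder⟩ := hσ
  obtain ⟨Ht, hHt⟩ : ∃ Ht : Subgroup Γ, Ht = (paIota (j + 4)).range.comap σ := ⟨_, rfl⟩
  obtain ⟨K, hKdef⟩ : ∃ K : Subgroup Γ, K = ⁅Ht, Ht⁆ := ⟨_, rfl⟩
  have hHperf : ⁅(paIota (j + 4)).range, (paIota (j + 4)).range⁆ = (paIota (j + 4)).range := by
    rw [MonoidHom.range_eq_map, ← Subgroup.map_commutator, ← commutator_def,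
      pa_perfect (j + 4) (by omega)]
  have hKmap : K.map σ = (paIota (j + 4)).range := by
    rw [hKdef, Subgroup.map_commutator, hHt, Subgroup.map_comap_eq_self_of_surjective hsurj, hHperf]
  have hKσ : ∀ x ∈ K, σ x ∈ (paIota (j + 4)).range := fun x hx => by
    rw [← hKmap]; exact Subgroup.mem_map_of_mem σ hx
  have hdec : ∀ g ∈ Ht, ∃ c ∈ K, σ c = σ g := by
    intro g hg
    have : σ g ∈ K.map σ := by rw [hKmap]; rw [hHt] at hg; exact hg
    obtain ⟨c, hc, hcg⟩ := this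
    exact ⟨c, hc, hcg⟩
  have hKperf : K ≤ ⁅K, K⁆ := by
    nth_rewrite 1 [hKdef]
    rw [Subgroup.commutator_le]
    intro g₁ h₁ g₂ h₂
    obtain ⟨c₁, hc₁, e₁⟩ := hdec g₁ h₁
    obtain ⟨c₂, hc₂, e₂⟩ := hdec g₂ h₂
    rw [comm_eq_of_map_eq σ hcen e₁.symm e₂.symm]
    exact Subgroup.commutator_mem_commutator hc₁ hc₂
  -- the kernel lies in K
  have hmain : σ.ker ≤ K := by
    apply alt_step_ker_le j σ hsurj hcen hder K
    intro i
    have : (PresentedGroup.of (Fin.castSucc i) : PA (j + 5)) ∈ K.map σ := by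
      rw [hKmap, ← paIota_of]; exact ⟨_, rfl⟩
    obtain ⟨x, hx, hxσ⟩ := this
    exact ⟨x, hx, hxσ⟩
  -- the new extension
  have hinj := paIota_injective (j + 4) (by omega)
  obtain ⟨σK, hσK⟩ : ∃ σK : ↥K →* ↥(paIota (j + 4)).range, ∀ x : ↥K, (σK x : PA (j + 5)) = σ x :=
    ⟨(σ.comp K.subtype).codRestrict (paIota (j + 4)).range (fun x => hKσ x.1 x.2), fun _ => rfl⟩
  obtain ⟨σ', hσ'⟩ : ∃ σ' : ↥K →* PA (j + 4),
      σ' = (MonoidHom.ofInjective hinj).symm.toMonoidHom.comp σK := ⟨_, rfl⟩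
  have hker' : ∀ x : ↥K, σ' x = 1 ↔ σ (x : Γ) = 1 := by
    intro x
    rw [hσ', MonoidHom.comp_apply]
    constructor
    · intro h
      have h1 : σK x = 1 := (MulEquiv.map_eq_one_iff (MonoidHom.ofInjective hinj).symm).mp h
      rw [← hσK, h1]
      rfl
    · intro h
      have h1 : σK x = 1 := by
        apply Subtype.ext
        rw [hσK, h]
        rfl
      rw [h1]
      exact map_one _
  refine ⟨K, σ', ⟨?_, ?_, ?_⟩, ?_⟩
  · intro y
    have : paIota (j + 4) y ∈ K.map σ := by rw [hKmap]; exact ⟨y, rfl⟩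
    obtain ⟨c, hc, hcy⟩ := this
    refine ⟨⟨c, hc⟩, ?_⟩
    rw [hσ', MonoidHom.comp_apply]
    show (MonoidHom.ofInjective hinj).symm (σK ⟨c, hc⟩) = y
    rw [MulEquiv.symm_apply_eq]
    apply Subtype.ext
    rw [hσK, MonoidHom.ofInjective_apply]
    exact hcy
  · intro x hx
    rw [MonoidHom.mem_ker, hker'] at hx
    have hc := Subgroup.mem_center_iff.mp (hcen (MonoidHom.mem_ker.mpr hx))
    rw [Subgroup.mem_center_iff]
    intro g
    apply Subtype.ext
    exact hc g
  · have htop : commutator ↥K = ⊤ := by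
      rw [eq_top_iff]
      intro x _
      have h1 : (x : Γ) ∈ ⁅K, K⁆ := hKperf x.2
      rw [← Subgroup.map_subtype_commutator] at h1
      obtain ⟨y, hy, hyx⟩ := h1
      have : y = x := Subtype.ext hyx
      rw [← this]
      exact hy
    rw [htop]
    exact le_top
  · apply Nat.card_congr
    refine ⟨fun z => ⟨⟨z.1, hmain z.2⟩, MonoidHom.mem_ker.mpr ((hker' _).mpr
        (MonoidHom.mem_ker.mp z.2))⟩,
      fun x => ⟨x.1.1, MonoidHom.mem_ker.mpr ((hker' x.1).mp (MonoidHom.mem_ker.mp x.2))⟩,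
      fun z => rfl, fun x => rfl⟩

end StepE

end Cfsg.Agent.Lib.helper3
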