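import Mathlib
import Cfsg.Prelude.Def_KGroupFacts
import Cfsg.Agent.S3335
import Cfsg.Agent.Lib.helper3.AltStepE
import Cfsg.Agent.Lib.helper3.StemLocal
import Cfsg.Agent.Lib.helper3.AltMult

set_option autoImplicit false

/-!
The kernel of a stem extension of an alternating group of degree at least eight has order at
most two: the base case of degree eight and the induction.
-/

namespace Cfsg.Agent.Lib.helper3

open Cfsg Cfsg.Agent.S3335 Equiv
open scoped commutatorElement

section Helpers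

variable {Γ G G' : Type*} [Group Γ] [Group G] [Group G'] (σ : Γ →* G)

theorem stem_comp_equiv (e : G ≃* G') (hσ : IsStemExtension σ) :
    IsStemExtension (e.toMonoidHom.comp σ) ∧ (e.toMonoidHom.comp σ).ker = σ.ker := by
  have hk : (e.toMonoidHom.comp σ).ker = σ.ker := by
    ext x
    rw [MonoidHom.mem_ker, MonoidHom.mem_ker, MonoidHom.comp_apply]
    exact MulEquiv.map_eq_one_iff e
  refine ⟨⟨e.surjective.comp hσ.1, ?_, ?_⟩, hk⟩
  · rw [hk]; exact hσ.2.1
  · rw [hk]; exact hσ.2.2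

theorem card_ker_dvd_of_cyclic (k : ℕ)
    (h : ∃ w ∈ σ.ker, w ^ k = 1 ∧ ∀ z ∈ σ.ker, z ∈ Subgroup.zpowers w) : Nat.card σ.ker ∣ k := by
  obtain ⟨w, hwk, hwn, hw⟩ := h
  have heq : σ.ker = Subgroup.zpowers w := by
    apply le_antisymm
    · intro z hz; exact hw z hz
    · rw [Subgroup.zpowers_le]; exact hwk
  rw [heq, Nat.card_zpowers]
  exact orderOf_dvd_of_pow_eq_one hwn

/-- the kernel of a stem extension is cyclic of order dividing two when the prime two is
controlled by a subgroup generated by two involutions and the other primes by subgroups whose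
preimages have derived subgroups meeting the kernel trivially -/
theorem stem_ker_cyclic_two [Finite Γ] (hsurj : Function.Surjective σ)
    (hcen : σ.ker ≤ Subgroup.center Γ) (hder : σ.ker ≤ commutator Γ)
    (s t : G) (hs : s ^ 2 = 1) (ht : t ^ 2 = 1) (h2 : ¬ 2 ∣ (Subgroup.closure {s, t}).index)
    (hother : ∀ r : ℕ, r.Prime → r ≠ 2 →
      ∃ S : Subgroup G, ¬ r ∣ S.index ∧
        ∀ x ∈ ⁅S.comap σ, S.comap σ⁆, σ x = 1 → x = 1) :
    ∃ w ∈ σ.ker, w ^ 2 = 1 ∧ ∀ z ∈ σ.ker, z ∈ Subgroup.zpowers w := by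
  obtain ⟨w, hwk, hwp, hw⟩ := two_invol_local σ hsurj hcen s t hs ht
  refine ⟨w, hwk, hwp, ?_⟩
  intro z hz
  apply mem_of_prime_power_parts (Subgroup.zpowers w) (Nat.card Γ) z Nat.card_pos
    pow_card_eq_one'
  intro r k j hr hj
  have hzj : z ^ j ∈ σ.ker := Subgroup.pow_mem _ hz j
  by_cases hrp : r = 2
  · subst hrp
    exact ppart_mem_of_subgroup σ hsurj hcen hder _ hr h2 w hw hzj k hj
  · obtain ⟨S, hind, hS⟩ := hother r hr hrp
    have h := ppart_mem_of_subgroup σ hsurj hcen hder S hr hind 1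
      (fun x hx hx1 => by
        rw [hS x hx hx1]; exact Subgroup.one_mem _) hzj k hj
    rw [Subgroup.zpowers_one_eq_bot, Subgroup.mem_bot] at h
    rw [h]
    exact Subgroup.one_mem _

end Helpers

section AltEight

def a8x : alternatingGroup (Fin 8) :=
  ⟨swap 0 1 * swap 1 2, by rw [Equiv.Perm.mem_alternatingGroup]; decide⟩
def a8y : alternatingGroup (Fin 8) :=
  ⟨swap 3 4 * swap 4 5, by rw [Equiv.Perm.mem_alternatingGroup]; decide⟩
def a8t : alternatingGroup (Fin 8) :=
  ⟨swap 0 1 * swap 6 7, by rw [Equiv.Perm.mem_alternatingGroup]; decide⟩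

theorem a8_facts : a8x * a8y = a8y * a8x ∧ a8x ^ 3 = 1 ∧ a8y ^ 3 = 1 ∧ a8x ≠ 1 ∧
    a8t * a8x * a8t⁻¹ = a8x⁻¹ ∧ a8t * a8y * a8t⁻¹ = a8y := by
  decide +kernel

theorem a8y_not_mem : a8y ∉ Subgroup.zpowers a8x := by
  intro h
  obtain ⟨j, hj⟩ := Subgroup.mem_zpowers_iff.mp h
  have h1 : ((a8x ^ j : alternatingGroup (Fin 8)) : Perm (Fin 8)) 3 = 3 := by
    rw [Subgroup.coe_zpow]
    exact Equiv.Perm.zpow_apply_eq_self_of_apply_eq_self (by decide) j
  rw [hj] at h1
  exact absurd h1 (by decide)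

theorem alt8_card : Nat.card (alternatingGroup (Fin 8)) = 20160 := by
  rw [nat_card_alternatingGroup, Nat.card_eq_fintype_card, Fintype.card_fin]
  decide

/-- the kernel of a stem extension of the alternating group of degree eight has no element of
order three -/
theorem alt8_no_three {Γ : Type*} [Group Γ] [Finite Γ] (σ : Γ →* alternatingGroup (Fin 8))
    (hsurj : Function.Surjective σ) (hcen : σ.ker ≤ Subgroup.center Γ)
    (hder : σ.ker ≤ commutator Γ) {z : Γ} (hz : z ∈ σ.ker) (hz3 : z ^ 3 = 1) : z = 1 := by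
  obtain ⟨f1, f2, f3, f4, f5, f6⟩ := a8_facts
  haveI : Fact (Nat.Prime 3) := ⟨Nat.prime_three⟩
  have h9 := card_closure_abelian_pair 3 a8x a8y f1 f2 f3 f4 a8y_not_mem
  have hind : ¬ 3 ∣ (Subgroup.closure {a8x, a8y}).index := by
    have h := Subgroup.index_mul_card (Subgroup.closure {a8x, a8y})
    rw [h9, alt8_card] at h
    omega
  refine stem_no_prime_of_subgroup σ hsurj hcen hder (Subgroup.closure {a8x, a8y}) hind ?_ hz hz3
  intro w hw _
  exact comm_comap_trivial_of_inverted_pair σ hsurj hcen a8x a8y a8t f1 3 (by decide) f2 f5 f6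
    w hw

end AltEight

section Induction

universe u

/-- stem extensions of the alternating group of degree seven, presented -/
theorem pa5_card_dvd {Γ : Type u} [Group Γ] [Finite Γ] (σ : Γ →* PA 5)
    (hσ : IsStemExtension σ) : Nat.card σ.ker ∣ 6 := by
  obtain ⟨e⟩ := main 5
  obtain ⟨hst, hk⟩ := stem_comp_equiv σ e hσ
  rw [← hk]
  exact card_ker_dvd_of_cyclic _ 6 (alt7_ker_cyclic _ hst.1 hst.2.1 hst.2.2)

theorem pa6_card_le {Γ : Type u} [Group Γ] [Finite Γ] (σ : Γ →* PA 6)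
    (hσ : IsStemExtension σ) : Nat.card σ.ker ≤ 2 := by
  obtain ⟨K, σ', hσ', hcard⟩ := alt_step 1 σ hσ
  have h6 : Nat.card σ.ker ∣ 6 := by
    rw [hcard]; exact pa5_card_dvd σ' hσ'
  have h3 : ¬ 3 ∣ Nat.card σ.ker := by
    intro hd
    haveI : Fact (Nat.Prime 3) := ⟨Nat.prime_three⟩
    obtain ⟨x, hx⟩ := exists_prime_orderOf_dvd_card' 3 hd
    obtain ⟨e⟩ := main 6
    obtain ⟨hst, hk⟩ := stem_comp_equiv σ e hσ
    have hxk : (x : Γ) ∈ (e.toMonoidHom.comp σ).ker := by rw [hk]; exact x.2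
    have hx3 : (x : Γ) ^ 3 = 1 := by
      have := pow_orderOf_eq_one x
      rw [hx] at this
      have h := congrArg Subtype.val this
      simpa using h
    have h1 := alt8_no_three _ hst.1 hst.2.1 hst.2.2 hxk hx3
    have hx1 : x = 1 := Subtype.ext h1
    rw [hx1, orderOf_one] at hx
    omega
  have hpos : 0 < Nat.card σ.ker := Nat.card_pos
  have hle : Nat.card σ.ker ≤ 6 := Nat.le_of_dvd (by norm_num) h6
  interval_cases (Nat.card σ.ker) <;> omega

theorem pa_card_le (j : ℕ) : ∀ {Γ : Type u} [Group Γ] [Finite Γ] (σ : Γ →* PA (j + 6)),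
    IsStemExtension σ → Nat.card σ.ker ≤ 2 := by
  induction j with
  | zero =>
    intro Γ _ _ σ hσ
    exact pa6_card_le σ hσ
  | succ j ih =>
    intro Γ _ _ σ hσ
    obtain ⟨K, σ', hσ', hcard⟩ := alt_step (j + 2) σ hσ
    rw [hcard]
    exact ih σ' hσ'

/-- the kernel of a stem extension of an alternating group of degree at least eight has order
at most two -/
theorem alt_ge_eight_card_le (n : ℕ) (hn : 8 ≤ n) {Γ : Type u} [Group Γ] [Finite Γ]
    (σ : Γ →* alternatingGroup (Fin n)) (hσ : IsStemExtension σ) : Nat.card σ.ker ≤ 2 := by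
  obtain ⟨j, rfl⟩ : ∃ j, n = j + 6 + 2 := ⟨n - 8, by omega⟩
  obtain ⟨e⟩ := main (j + 6)
  obtain ⟨hst, hk⟩ := stem_comp_equiv σ e.symm hσ
  rw [← hk]
  exact pa_card_le j _ hst

end Induction

end Cfsg.Agent.Lib.helper3
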