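import Mathlib

set_option autoImplicit false

/-!
Matrices over the field with five elements generating a sixfold cover of the alternating group of
degree seven: the spin representation (8 × 8) and a 3-dimensional representation over the field
with 25 elements written as 6 × 6 matrices.
-/

namespace Cfsg.Agent.Lib.helper3

def cA0 : Matrix (Fin 8) (Fin 8) (ZMod 5) := !![3, 0, 0, 0, 0, 0, 4, 0; 0, 3, 0, 0, 0, 0, 0, 4; 0, 0, 3, 0, 4, 0, 0, 0; 0, 0, 0, 3, 0, 4, 0, 0; 0, 0, 3, 0, 1, 0, 0, 0; 0, 0, 0, 3, 0, 1, 0, 0; 3, 0, 0, 0, 0, 0, 1, 0; 0, 3, 0, 0, 0, 0, 0, 1]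
def cA1 : Matrix (Fin 8) (Fin 8) (ZMod 5) := !![0, 0, 0, 0, 0, 0, 3, 0; 0, 0, 0, 0, 0, 0, 0, 3; 0, 0, 0, 0, 4, 0, 0, 0; 0, 0, 0, 0, 0, 4, 0, 0; 0, 0, 1, 0, 0, 0, 0, 0; 0, 0, 0, 1, 0, 0, 0, 0; 3, 0, 0, 0, 0, 0, 0, 0; 0, 3, 0, 0, 0, 0, 0, 0]
def cA2 : Matrix (Fin 8) (Fin 8) (ZMod 5) := !![0, 0, 0, 0, 0, 4, 3, 0; 0, 0, 0, 0, 4, 0, 0, 3; 0, 0, 0, 0, 2, 0, 0, 1; 0, 0, 0, 0, 0, 2, 1, 0; 0, 3, 1, 0, 0, 0, 0, 0; 3, 0, 0, 1, 0, 0, 0, 0; 4, 0, 0, 2, 0, 0, 0, 0; 0, 4, 2, 0, 0, 0, 0, 0]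
def cA3 : Matrix (Fin 8) (Fin 8) (ZMod 5) := !![0, 0, 0, 0, 0, 3, 0, 0; 0, 0, 0, 0, 4, 0, 0, 0; 0, 0, 0, 0, 0, 0, 0, 2; 0, 0, 0, 0, 0, 0, 1, 0; 0, 1, 0, 0, 0, 0, 0, 0; 3, 0, 0, 0, 0, 0, 0, 0; 0, 0, 0, 4, 0, 0, 0, 0; 0, 0, 2, 0, 0, 0, 0, 0]
def cA4 : Matrix (Fin 8) (Fin 8) (ZMod 5) := !![0, 0, 0, 0, 4, 3, 0, 0; 0, 0, 0, 0, 2, 1, 0, 0; 0, 0, 0, 0, 0, 0, 1, 2; 0, 0, 0, 0, 0, 0, 3, 4; 3, 1, 0, 0, 0, 0, 0, 0; 4, 2, 0, 0, 0, 0, 0, 0; 0, 0, 2, 4, 0, 0, 0, 0; 0, 0, 1, 3, 0, 0, 0, 0]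
def cB0 : Matrix (Fin 6) (Fin 6) (ZMod 5) := !![3, 1, 2, 2, 0, 3; 3, 3, 1, 2, 4, 0; 1, 1, 1, 2, 3, 0; 3, 1, 1, 1, 0, 3; 3, 2, 0, 0, 1, 2; 1, 3, 0, 0, 1, 1]
def cB1 : Matrix (Fin 6) (Fin 6) (ZMod 5) := !![1, 0, 1, 1, 2, 2; 0, 1, 3, 1, 1, 2; 1, 4, 3, 0, 3, 0; 2, 1, 0, 3, 0, 3; 2, 3, 3, 0, 0, 0; 4, 2, 0, 3, 0, 0]
def cB2 : Matrix (Fin 6) (Fin 6) (ZMod 5) := !![2, 0, 1, 1, 1, 3; 0, 2, 3, 1, 4, 1; 1, 4, 0, 0, 4, 4; 2, 1, 0, 0, 2, 4; 1, 2, 4, 1, 2, 0; 1, 1, 3, 4, 0, 2]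
def cB3 : Matrix (Fin 6) (Fin 6) (ZMod 5) := !![1, 0, 0, 4, 1, 4; 0, 1, 2, 0, 2, 1; 0, 1, 0, 0, 1, 3; 3, 0, 0, 0, 4, 1; 1, 1, 1, 2, 3, 0; 3, 1, 1, 1, 0, 3]
def cB4 : Matrix (Fin 6) (Fin 6) (ZMod 5) := !![0, 0, 2, 0, 2, 3; 0, 0, 0, 2, 4, 2; 2, 0, 3, 0, 4, 1; 0, 2, 0, 3, 3, 4; 2, 2, 4, 4, 1, 0; 1, 2, 2, 4, 0, 1]
def cW : Matrix (Fin 6) (Fin 6) (ZMod 5) := !![2, 1, 0, 0, 0, 0; 3, 2, 0, 0, 0, 0; 0, 0, 2, 1, 0, 0; 0, 0, 3, 2, 0, 0; 0, 0, 0, 0, 2, 1; 0, 0, 0, 0, 3, 2]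

/-- the ambient group of the cover -/
abbrev CovM := (Matrix (Fin 8) (Fin 8) (ZMod 5))ˣ × (Matrix (Fin 6) (Fin 6) (ZMod 5))ˣ

set_option maxRecDepth 100000 in
def cA0u : (Matrix (Fin 8) (Fin 8) (ZMod 5))ˣ :=
  ⟨cA0, cA0 * cA0, by decide +kernel, by decide +kernel⟩
set_option maxRecDepth 100000 in
def cA1u : (Matrix (Fin 8) (Fin 8) (ZMod 5))ˣ := ⟨cA1, -cA1, by decide +kernel, by decide +kernel⟩
set_option maxRecDepth 100000 in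
def cA2u : (Matrix (Fin 8) (Fin 8) (ZMod 5))ˣ := ⟨cA2, -cA2, by decide +kernel, by decide +kernel⟩
set_option maxRecDepth 100000 in
def cA3u : (Matrix (Fin 8) (Fin 8) (ZMod 5))ˣ := ⟨cA3, -cA3, by decide +kernel, by decide +kernel⟩
set_option maxRecDepth 100000 in
def cA4u : (Matrix (Fin 8) (Fin 8) (ZMod 5))ˣ := ⟨cA4, -cA4, by decide +kernel, by decide +kernel⟩
set_option maxRecDepth 100000 in
def cB0u : (Matrix (Fin 6) (Fin 6) (ZMod 5))ˣ :=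
  ⟨cB0, cB0 * cB0, by decide +kernel, by decide +kernel⟩
set_option maxRecDepth 100000 in
def cB1u : (Matrix (Fin 6) (Fin 6) (ZMod 5))ˣ := ⟨cB1, cB1, by decide +kernel, by decide +kernel⟩
set_option maxRecDepth 100000 in
def cB2u : (Matrix (Fin 6) (Fin 6) (ZMod 5))ˣ := ⟨cB2, cB2, by decide +kernel, by decide +kernel⟩
set_option maxRecDepth 100000 in
def cB3u : (Matrix (Fin 6) (Fin 6) (ZMod 5))ˣ := ⟨cB3, cB3, by decide +kernel, by decide +kernel⟩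
set_option maxRecDepth 100000 in
def cB4u : (Matrix (Fin 6) (Fin 6) (ZMod 5))ˣ := ⟨cB4, cB4, by decide +kernel, by decide +kernel⟩
set_option maxRecDepth 100000 in
def cWu : (Matrix (Fin 6) (Fin 6) (ZMod 5))ˣ := ⟨cW, cW * cW, by decide +kernel, by decide +kernel⟩

/-- the five generators -/
def cov : Fin 5 → CovM := ![(cA0u, cB0u), (cA1u, cB1u), (cA2u, cB2u), (cA3u, cB3u), (cA4u, cB4u)]

/-- the central element of order six -/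
def covZ : CovM := (-1, cWu)

set_option maxRecDepth 100000 in
theorem covZ_comm : ∀ i : Fin 5, covZ * cov i = cov i * covZ := by decide +kernel

set_option maxRecDepth 100000 in
theorem covZ_pow : covZ ^ 6 = 1 ∧ covZ ^ 2 ≠ 1 ∧ covZ ^ 3 ≠ 1 := by decide +kernel

set_option maxRecDepth 100000 in
theorem cov_rel1 : ∃ k : Fin 6, cov 0 ^ 3 = covZ ^ (k : ℕ) := by decide +kernel

set_option maxRecDepth 100000 in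
theorem cov_rel2 : ∀ i : Fin 5, 1 ≤ i.val → ∃ k : Fin 6, cov i ^ 2 = covZ ^ (k : ℕ) := by
  decide +kernel

set_option maxRecDepth 100000 in
theorem cov_rel3 : ∀ i j : Fin 5, j.val = i.val + 1 →
    ∃ k : Fin 6, (cov i * cov j) ^ 3 = covZ ^ (k : ℕ) := by
  decide +kernel

set_option maxRecDepth 100000 in
theorem cov_rel4 : ∀ i j : Fin 5, i.val + 1 < j.val →
    ∃ k : Fin 6, (cov i * cov j) ^ 2 = covZ ^ (k : ℕ) := by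
  decide +kernel

set_option maxRecDepth 100000 in
theorem cov_comm_word : (cov 1 * cov 3 * (cov 1)⁻¹ * (cov 3)⁻¹) *
    ((cov 2 * cov 3) * cov 0 * (cov 2 * cov 3)⁻¹ * (cov 0)⁻¹) = covZ := by decide +kernel

end Cfsg.Agent.Lib.helper3
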