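import Mathlib
import Cfsg.Agent.Lib.helper3.PresCover
import Cfsg.Agent.Lib.helper3.CovData

set_option autoImplicit false

/-!
A sixfold cover of the alternating groups of degree six and seven, from the presentation of the
alternating group on a 3-cycle and involutions.
-/

namespace Cfsg.Agent.Lib.helper3

open Cfsg

/-- the relators of the presentation of the alternating group of degree `k + 2` -/
def altRels (k : ℕ) : Set (FreeGroup (Fin k)) :=
  {g : FreeGroup (Fin k) | ∃ i : Fin k, i.val = 0 ∧ g = FreeGroup.of i ^ 3} ∪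
   {g | ∃ i : Fin k, 1 ≤ i.val ∧ g = FreeGroup.of i ^ 2} ∪
   {g | ∃ i j : Fin k, j.val = i.val + 1 ∧ g = (FreeGroup.of i * FreeGroup.of j) ^ 3} ∪
   {g | ∃ i j : Fin k, i.val + 1 < j.val ∧ g = (FreeGroup.of i * FreeGroup.of j) ^ 2}

theorem comm_of_invol {H : Type*} [Group H] (a b : H) (ha : a ^ 2 = 1) (hb : b ^ 2 = 1)
    (hab : (a * b) ^ 2 = 1) : a * b * a⁻¹ * b⁻¹ = 1 := by
  have ha' : a⁻¹ = a := by rw [inv_eq_iff_mul_eq_one, ← pow_two, ha]
  have hb' : b⁻¹ = b := by rw [inv_eq_iff_mul_eq_one, ← pow_two, hb]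
  rw [ha', hb']
  rw [pow_two] at hab
  calc a * b * a * b = (a * b) * (a * b) := by group
    _ = 1 := hab

theorem comm_prod_of_invol {H : Type*} [Group H] (a b c : H) (ha : a ^ 2 = 1) (hb : b ^ 2 = 1)
    (hca : (c * a) ^ 2 = 1) (hcb : (c * b) ^ 2 = 1) :
    (a * b) * c * (a * b)⁻¹ * c⁻¹ = 1 := by
  have ha' : a⁻¹ = a := by rw [inv_eq_iff_mul_eq_one, ← pow_two, ha]
  have hb' : b⁻¹ = b := by rw [inv_eq_iff_mul_eq_one, ← pow_two, hb]
  have h1 : a * c * a = c⁻¹ := by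
    rw [pow_two] at hca
    have : c * (a * c * a) = 1 := by rw [← hca]; group
    exact eq_inv_of_mul_eq_one_right this
  have h2 : b * c * b = c⁻¹ := by
    rw [pow_two] at hcb
    have : c * (b * c * b) = 1 := by rw [← hcb]; group
    exact eq_inv_of_mul_eq_one_right this
  have h3 : a * c⁻¹ * a = c := by
    have : (a * c * a)⁻¹ = a * c⁻¹ * a := by
      rw [mul_inv_rev, mul_inv_rev, ha', mul_assoc]
    rw [← this, h1, inv_inv]
  calc (a * b) * c * (a * b)⁻¹ * c⁻¹ = a * (b * c * b⁻¹) * a⁻¹ * c⁻¹ := by group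
    _ = a * (b * c * b) * a * c⁻¹ := by rw [ha', hb']
    _ = a * c⁻¹ * a * c⁻¹ := by rw [h2]
    _ = c * c⁻¹ := by rw [h3]
    _ = 1 := mul_inv_cancel c

section AltCover


/-- the matrices for the generators -/
def altM (k : ℕ) (hk5 : k ≤ 5) (i : Fin k) : CovM := cov (Fin.castLE hk5 i)

theorem covZ_orderOf : orderOf covZ = 6 := by
  apply orderOf_eq_of_pow_and_pow_div_prime (by norm_num) covZ_pow.1
  intro p hp hpd
  have hp6 : p ≤ 6 := Nat.le_of_dvd (by norm_num) hpd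
  interval_cases p
  · exact absurd hp (by norm_num)
  · exact absurd hp (by norm_num)
  · exact covZ_pow.2.2
  · exact covZ_pow.2.1
  · exact absurd hp (by norm_num)
  · exact absurd hpd (by norm_num)
  · exact absurd hp (by norm_num)

theorem altM_comm (k : ℕ) (hk5 : k ≤ 5) (i : Fin k) : Commute covZ (altM k hk5 i) := covZ_comm _

theorem mem_zpowers_of_exists {x : CovM} (h : ∃ j : Fin 6, x = covZ ^ (j : ℕ)) :
    x ∈ Subgroup.zpowers covZ := by
  obtain ⟨j, hj⟩ := h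
  rw [hj]
  exact Subgroup.pow_mem _ (Subgroup.mem_zpowers covZ) _

theorem altM_rel (k : ℕ) (hk5 : k ≤ 5) : ∀ r ∈ altRels k, FreeGroup.lift (altM k hk5) r ∈ Subgroup.zpowers covZ := by
  intro r hr
  unfold altRels at hr
  rcases hr with ((⟨i, hi, rfl⟩ | ⟨i, hi, rfl⟩) | ⟨i, j, hij, rfl⟩) | ⟨i, j, hij, rfl⟩
  · rw [map_pow, FreeGroup.lift_apply_of]
    apply mem_zpowers_of_exists
    have h0 : Fin.castLE hk5 i = 0 := Fin.ext (by simpa using hi)
    unfold altM
    rw [h0]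
    exact cov_rel1
  · rw [map_pow, FreeGroup.lift_apply_of]
    apply mem_zpowers_of_exists
    exact cov_rel2 _ (by simpa using hi)
  · rw [map_pow, map_mul, FreeGroup.lift_apply_of, FreeGroup.lift_apply_of]
    apply mem_zpowers_of_exists
    exact cov_rel3 _ _ (by simpa using hij)
  · rw [map_pow, map_mul, FreeGroup.lift_apply_of, FreeGroup.lift_apply_of]
    apply mem_zpowers_of_exists
    exact cov_rel4 _ _ (by simpa using hij)

/-- the word mapping to the generator of the kernel -/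
def altU (k : ℕ) (hk4 : 4 ≤ k) : FreeGroup (Fin k) :=
  (FreeGroup.of ⟨1, by omega⟩ * FreeGroup.of ⟨3, by omega⟩ * (FreeGroup.of ⟨1, by omega⟩)⁻¹ *
    (FreeGroup.of ⟨3, by omega⟩)⁻¹) *
  ((FreeGroup.of ⟨2, by omega⟩ * FreeGroup.of ⟨3, by omega⟩) * FreeGroup.of ⟨0, by omega⟩ *
    (FreeGroup.of ⟨2, by omega⟩ * FreeGroup.of ⟨3, by omega⟩)⁻¹ * (FreeGroup.of ⟨0, by omega⟩)⁻¹)

theorem altU_mem (k : ℕ) (hk4 : 4 ≤ k) : altU k hk4 ∈ commutator (FreeGroup (Fin k)) := by
  unfold altU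
  apply Subgroup.mul_mem
  · exact Subgroup.commutator_mem_commutator (Subgroup.mem_top _) (Subgroup.mem_top _)
  · exact Subgroup.commutator_mem_commutator (Subgroup.mem_top _) (Subgroup.mem_top _)

theorem altU_mk (k : ℕ) (hk4 : 4 ≤ k) : PresentedGroup.mk (altRels k) (altU k hk4) = 1 := by
  have hsq : ∀ i : Fin k, 1 ≤ i.val →
      (PresentedGroup.mk (altRels k) (FreeGroup.of i)) ^ 2 = 1 := by
    intro i hi
    rw [← map_pow]
    apply PresentedGroup.one_of_mem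
    unfold altRels
    exact Or.inl (Or.inl (Or.inr ⟨i, hi, rfl⟩))
  have hfar : ∀ i j : Fin k, i.val + 1 < j.val →
      (PresentedGroup.mk (altRels k) (FreeGroup.of i) *
        PresentedGroup.mk (altRels k) (FreeGroup.of j)) ^ 2 = 1 := by
    intro i j hij
    rw [← map_mul, ← map_pow]
    apply PresentedGroup.one_of_mem
    unfold altRels
    exact Or.inr ⟨i, j, hij, rfl⟩
  unfold altU
  rw [map_mul]
  simp only [map_mul, map_inv]
  rw [comm_of_invol _ _ (hsq ⟨1, by omega⟩ (by simp)) (hsq ⟨3, by omega⟩ (by simp))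
    (hfar ⟨1, by omega⟩ ⟨3, by omega⟩ (by simp)), one_mul]
  exact comm_prod_of_invol _ _ _ (hsq ⟨2, by omega⟩ (by simp)) (hsq ⟨3, by omega⟩ (by simp))
    (hfar ⟨0, by omega⟩ ⟨2, by omega⟩ (by simp)) (hfar ⟨0, by omega⟩ ⟨3, by omega⟩ (by simp))

theorem altU_lift (k : ℕ) (hk4 : 4 ≤ k) (hk5 : k ≤ 5) : FreeGroup.lift (altM k hk5) (altU k hk4) = covZ := by
  unfold altU
  simp only [map_mul, map_inv, FreeGroup.lift_apply_of]
  have h0 : altM k hk5 ⟨0, by omega⟩ = cov 0 := rfl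
  have h1 : altM k hk5 ⟨1, by omega⟩ = cov 1 := rfl
  have h2 : altM k hk5 ⟨2, by omega⟩ = cov 2 := rfl
  have h3 : altM k hk5 ⟨3, by omega⟩ = cov 3 := rfl
  rw [h0, h1, h2, h3]
  exact cov_comm_word

/-- the sixfold cover -/
theorem alt_stem (k : ℕ) (hk4 : 4 ≤ k) (hk5 : k ≤ 5) {G : Type} [Group G] [Finite G] (e : PresentedGroup (altRels k) ≃* G) :
    ∃ (Γ : Type) (_ : Group Γ) (_ : Finite Γ) (σ : Γ →* G),
      IsStemExtension σ ∧ Nonempty (σ.ker ≃* Multiplicative (ZMod 6)) :=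
  pc_stem (altRels k) e (altM k hk5) covZ (altM_comm k hk5) (altM_rel k hk5) (altU k hk4)
    (altU_mem k hk4) (altU_mk k hk4) (altU_lift k hk4 hk5) 6 covZ_orderOf

end AltCover

end Cfsg.Agent.Lib.helper3
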