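import Mathlib
import Cfsg.Agent.Lib.helper3.CovData

set_option autoImplicit false

/-!
Two more facts on the matrices of `CovData`: the part of degree six alone gives a threefold cover.
-/

namespace Cfsg.Agent.Lib.helper3

set_option maxRecDepth 100000 in
theorem cov3_comm_word : ((cov 2).2 * (cov 3).2) * (cov 0).2 * ((cov 2).2 * (cov 3).2)⁻¹ *
    ((cov 0).2)⁻¹ = cWu := by decide +kernel

set_option maxRecDepth 100000 in
theorem cWu_pow : cWu ^ 3 = 1 ∧ cWu ≠ 1 := by decide +kernel

end Cfsg.Agent.Lib.helper3
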