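import Mathlib
import Cfsg.Prelude.Def_KGroupFacts
import Cfsg.Agent.S3335
import Cfsg.Agent.S0254
import Cfsg.Agent.S0261
import Cfsg.Agent.S0262
import Cfsg.Agent.Lib.helper14.SL2Sylow
import Cfsg.Agent.Lib.helper3.StemTools
import Cfsg.Agent.Lib.helper3.StemLocal
import Cfsg.Agent.Lib.helper3.CovAlt
import Cfsg.Agent.Lib.helper3.CovData3
import Cfsg.Agent.Lib.helper3.Pullback

set_option autoImplicit false

/-!
The Schur multiplier of `SL₂(9)` is cyclic of order three: a threefold cover obtained by pulling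
back a threefold cover of the alternating group of degree six, and the local analysis of the
kernel of a stem extension.
-/

namespace Cfsg.Agent.Lib.helper3

open Cfsg Cfsg.Agent.Lib.helper14
open scoped commutatorElement

section ThreeCover

/-- the matrices of degree six for the generators -/
def altM3 (i : Fin 4) : (Matrix (Fin 6) (Fin 6) (ZMod 5))ˣ := (altM 4 (by norm_num) i).2

theorem altM3_comm (i : Fin 4) : Commute cWu (altM3 i) := by
  have h := (altM_comm 4 (by norm_num) i).eq
  have h2 := congrArg Prod.snd h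
  exact h2

theorem altM3_lift (w : FreeGroup (Fin 4)) :
    FreeGroup.lift altM3 w = (FreeGroup.lift (altM 4 (by norm_num)) w).2 := by
  have h : FreeGroup.lift altM3 =
      (MonoidHom.snd _ _).comp (FreeGroup.lift (altM 4 (by norm_num))) := by
    apply FreeGroup.ext_hom
    intro i
    simp [altM3]
  exact DFunLike.congr_fun h w

theorem altM3_rel : ∀ r ∈ altRels 4, FreeGroup.lift altM3 r ∈ Subgroup.zpowers cWu := by
  intro r hr
  have h := altM_rel 4 (by norm_num) r hr
  obtain ⟨j, hj⟩ := Subgroup.mem_zpowers_iff.mp h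
  rw [altM3_lift, ← hj]
  refine Subgroup.mem_zpowers_iff.mpr ⟨j, ?_⟩
  exact (map_zpow (MonoidHom.snd _ _) covZ j).symm

/-- the two words whose commutator generates the kernel -/
def altWx : FreeGroup (Fin 4) := FreeGroup.of 2 * FreeGroup.of 3

def altWy : FreeGroup (Fin 4) := FreeGroup.of 0

theorem alt3_mk : PresentedGroup.mk (altRels 4) ⁅altWx, altWy⁆ = 1 := by
  have hsq : ∀ i : Fin 4, 1 ≤ i.val →
      (PresentedGroup.mk (altRels 4) (FreeGroup.of i)) ^ 2 = 1 := by
    intro i hi
    rw [← map_pow]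
    apply PresentedGroup.one_of_mem
    unfold altRels
    exact Or.inl (Or.inl (Or.inr ⟨i, hi, rfl⟩))
  have hfar : ∀ i j : Fin 4, i.val + 1 < j.val →
      (PresentedGroup.mk (altRels 4) (FreeGroup.of i) *
        PresentedGroup.mk (altRels 4) (FreeGroup.of j)) ^ 2 = 1 := by
    intro i j hij
    rw [← map_mul, ← map_pow]
    apply PresentedGroup.one_of_mem
    unfold altRels
    exact Or.inr ⟨i, j, hij, rfl⟩
  rw [commutatorElement_def]
  unfold altWx altWy
  simp only [map_mul, map_inv]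
  exact comm_prod_of_invol _ _ _ (hsq 2 (by decide)) (hsq 3 (by decide))
    (hfar 0 2 (by decide)) (hfar 0 3 (by decide))

theorem alt3_lift : FreeGroup.lift altM3 ⁅altWx, altWy⁆ = cWu := by
  rw [commutatorElement_def]
  unfold altWx altWy
  simp only [map_mul, map_inv, FreeGroup.lift_apply_of]
  exact cov3_comm_word

theorem cWu_orderOf : orderOf cWu = 3 :=
  orderOf_eq_prime cWu_pow.1 cWu_pow.2

theorem alt3_pow_x : (PresentedGroup.mk (altRels 4) altWx) ^ 3 = 1 := by
  rw [← map_pow]
  apply PresentedGroup.one_of_mem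
  unfold altRels altWx
  exact Or.inl (Or.inr ⟨2, 3, by decide, rfl⟩)

theorem alt3_pow_y : (PresentedGroup.mk (altRels 4) altWy) ^ 3 = 1 := by
  rw [← map_pow]
  apply PresentedGroup.one_of_mem
  unfold altRels altWy
  exact Or.inl (Or.inl (Or.inl ⟨0, by decide, rfl⟩))

end ThreeCover

section SLNine

universe u

variable {F : Type u} [Field F]

theorem sl2_center_sq (c : Matrix.SpecialLinearGroup (Fin 2) F)
    (hc : c ∈ Subgroup.center (Matrix.SpecialLinearGroup (Fin 2) F)) : c ^ 2 = 1 := by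
  obtain ⟨r, hr, hrc⟩ := Matrix.SpecialLinearGroup.mem_center_iff.mp hc
  rw [Fintype.card_fin] at hr
  apply Subtype.ext
  rw [Matrix.SpecialLinearGroup.coe_pow, ← hrc, ← map_pow, hr, map_one]
  rfl

variable [Fintype F]

/-- the threefold cover of `SL₂(9)` -/
theorem sl29_cover (hF : Fintype.card F = 9) :
    ∃ (Γ : Type u) (_ : Group Γ) (_ : Finite Γ) (σ : Γ →* Matrix.SpecialLinearGroup (Fin 2) F),
      IsStemExtension σ ∧ Nonempty (σ.ker ≃* Multiplicative (ZMod 3)) := by
  obtain ⟨e⟩ := Cfsg.Agent.S3335.result 6 (by norm_num)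
  obtain ⟨e9⟩ := Cfsg.Agent.S0254.result hF
  have e' : PresentedGroup (altRels 4) ≃* alternatingGroup (Fin 6) := e
  obtain ⟨ρ, hρdef⟩ : ∃ ρ : Matrix.SpecialLinearGroup (Fin 2) F →* alternatingGroup (Fin 6),
      ρ = e9.toMonoidHom.comp
        (QuotientGroup.mk' (Subgroup.center (Matrix.SpecialLinearGroup (Fin 2) F))) := ⟨_, rfl⟩
  have hρ : Function.Surjective ρ := by
    rw [hρdef]
    exact e9.surjective.comp (QuotientGroup.mk'_surjective _)
  have hρker : ρ.ker ≤ Subgroup.center (Matrix.SpecialLinearGroup (Fin 2) F) := by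
    intro c hc
    rw [MonoidHom.mem_ker, hρdef, MonoidHom.comp_apply] at hc
    have h1 := (MulEquiv.map_eq_one_iff e9).mp hc
    rw [QuotientGroup.mk'_apply, QuotientGroup.eq_one_iff] at h1
    exact h1
  have hρ2 : ∀ c ∈ ρ.ker, c ^ 2 = 1 := fun c hc => sl2_center_sq c (hρker hc)
  have hker := pc_ker_eq_zpowers (altRels 4) e' altM3 cWu altM3_comm altM3_rel ⁅altWx, altWy⁆
    alt3_mk alt3_lift
  rw [pcZ_comm_eq] at hker
  have hord := orderOf_pcZ (altRels 4) e' altM3 cWu ⁅altWx, altWy⁆ alt3_mk alt3_lift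
  rw [pcZ_comm_eq, cWu_orderOf] at hord
  refine pb_stem (pcProj (altRels 4) e' altM3) ρ (pcProj_surjective (altRels 4) e' altM3)
    (pc_ker_le_center (altRels 4) e' altM3 cWu altM3_comm altM3_rel) hρ hρker hρ2
    (pcElt (altRels 4) e' altM3 altWx) (pcElt (altRels 4) e' altM3 altWy) hker 3 (by decide)
    ?_ ?_ 3 hord
  · rw [pcProj_pcElt, ← map_pow, alt3_pow_x, map_one]
  · rw [pcProj_pcElt, ← map_pow, alt3_pow_y, map_one]

/-- the kernel of a stem extension of `SL₂(9)` is cyclic of order dividing three -/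
theorem sl29_ker_cyclic (hF : Fintype.card F = 9) {Γ : Type*} [Group Γ] [Finite Γ]
    (σ : Γ →* Matrix.SpecialLinearGroup (Fin 2) F) (hsurj : Function.Surjective σ)
    (hcen : σ.ker ≤ Subgroup.center Γ) (hder : σ.ker ≤ commutator Γ) :
    ∃ w ∈ σ.ker, w ^ 3 = 1 ∧ ∀ z ∈ σ.ker, z ∈ Subgroup.zpowers w := by
  obtain ⟨p, hp⟩ := CharP.exists F
  haveI := hp
  haveI : Fact p.Prime := ⟨CharP.char_is_prime F p⟩
  have hpP : p.Prime := Fact.out
  have hp3 : p = 3 := by
    obtain ⟨k, -, hk⟩ := FiniteField.card F p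
    rw [hF] at hk
    have h1 : p ∣ 3 ^ 2 := by
      have : (3 : ℕ) ^ 2 = 9 := by norm_num
      rw [this, hk]
      exact dvd_pow_self p k.ne_zero
    exact (Nat.prime_dvd_prime_iff_eq hpP Nat.prime_three).1 (hpP.dvd_of_dvd_pow h1)
  subst hp3
  have h3F : (3 : F) = 0 := by exact_mod_cast CharP.cast_eq_zero F 3
  have hcube : ∀ x : F, (uS x) ^ 3 = 1 := by
    intro x
    rw [pow_succ, pow_two, uS_mul, uS_mul, ← uS_zero]
    congr 1
    linear_combination x * h3F
  have ha3 := hcube 1
  have hane : uS (1 : F) ≠ 1 := by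
    rw [← uS_zero]
    intro h
    exact one_ne_zero (uS_injective h)
  have hcardUS : Nat.card (US F) = 9 := by rw [card_US, hF]
  obtain ⟨θ, hθ⟩ : ∃ θ : F, uS θ ∉ Subgroup.zpowers (uS (1 : F)) := by
    by_contra hcon
    push Not at hcon
    have hle : US F ≤ Subgroup.zpowers (uS (1 : F)) := by
      intro g hg
      obtain ⟨x, rfl⟩ := (mem_US g).mp hg
      exact hcon x
    have h1 := Subgroup.card_le_of_le hle
    rw [hcardUS, Nat.card_zpowers] at h1
    have h2 : orderOf (uS (1 : F)) ≤ 3 := orderOf_le_of_pow_eq_one (by norm_num) ha3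
    omega
  have hb3 := hcube θ
  have hab : uS (1 : F) * uS θ = uS θ * uS 1 := by rw [uS_mul, uS_mul, add_comm]
  have h9 := card_closure_abelian_pair 3 (uS (1 : F)) (uS θ) hab ha3 hb3 hane hθ
  have hcl : Subgroup.closure {uS (1 : F), uS θ} = US F := by
    apply Subgroup.eq_of_le_of_card_ge
    · rw [Subgroup.closure_le]
      rintro x (rfl | hx)
      · exact uS_mem _
      · rw [Set.mem_singleton_iff] at hx
        subst hx
        exact uS_mem _
    · rw [h9, hcardUS]; norm_num
  refine stem_ker_cyclic_prime σ hsurj hcen hder 3 Nat.prime_three (uS 1) (uS θ) hab ha3 ?_ ?_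
  · rw [hcl]
    exact not_dvd_index_US 3
  · intro r hrP hr3
    haveI : Fact r.Prime := ⟨hrP⟩
    by_cases hr2 : r = 2
    · subst hr2
      have hodd : Odd (Fintype.card F) := by
        rw [hF]; decide
      obtain ⟨S⟩ : Nonempty (Sylow 2 (Matrix.SpecialLinearGroup (Fin 2) F)) := inferInstance
      obtain ⟨k, hk1, ⟨e⟩⟩ := Cfsg.Agent.S0261.result hodd S
      have hind : ¬ 2 ∣ (S : Subgroup (Matrix.SpecialLinearGroup (Fin 2) F)).index :=
        Sylow.not_dvd_index S
      haveI : NeZero (2 ^ k) := ⟨pow_ne_zero k (by norm_num)⟩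
      exact ⟨(S : Subgroup (Matrix.SpecialLinearGroup (Fin 2) F)), hind,
        comm_comap_trivial_of_quat σ hsurj hcen
          (S : Subgroup (Matrix.SpecialLinearGroup (Fin 2) F)) (2 ^ k) e⟩
    · obtain ⟨S⟩ : Nonempty (Sylow r (Matrix.SpecialLinearGroup (Fin 2) F)) := inferInstance
      haveI : IsCyclic (S : Subgroup (Matrix.SpecialLinearGroup (Fin 2) F)) :=
        Cfsg.Agent.S0262.result 3 r hr2 hr3 S
      have hind : ¬ r ∣ (S : Subgroup (Matrix.SpecialLinearGroup (Fin 2) F)).index :=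
        Sylow.not_dvd_index S
      exact ⟨(S : Subgroup (Matrix.SpecialLinearGroup (Fin 2) F)), hind, fun x hx _ =>
        comm_comap_trivial_of_cyclic σ hcen
          (S : Subgroup (Matrix.SpecialLinearGroup (Fin 2) F)) x hx⟩

end SLNine

end Cfsg.Agent.Lib.helper3
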