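import Mathlib

/-!
Project G2V (S2461), row E0 `cox_words` (verbatim vs `Helper19/G2V/Skel.lean.txt`, pure Mathlib): every
element of the Coxeter group of type `G₂` is `s₀ ^ e1 * v * s₀ ^ e2` with
`v ∈ {1, s₁, s₁ s₀ s₁, s₁ s₀ s₁ s₀ s₁}`.
-/

set_option autoImplicit false

namespace Cfsg.Agent.Lib.Helper19.G2V

theorem g2ve0_s_sq : CoxeterMatrix.G₂.simple 0 * CoxeterMatrix.G₂.simple 0 = 1 :=
  CoxeterMatrix.G₂.toCoxeterSystem.simple_mul_simple_self 0

theorem g2ve0_t_sq : CoxeterMatrix.G₂.simple 1 * CoxeterMatrix.G₂.simple 1 = 1 :=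
  CoxeterMatrix.G₂.toCoxeterSystem.simple_mul_simple_self 1

theorem g2ve0_six : (CoxeterMatrix.G₂.simple 0 * CoxeterMatrix.G₂.simple 1) ^ 6 = 1 :=
  CoxeterMatrix.G₂.toCoxeterSystem.simple_mul_simple_pow 0 1

/-- the braid relation of length 6 -/
theorem g2ve0_braid :
    CoxeterMatrix.G₂.simple 1 * CoxeterMatrix.G₂.simple 0 * CoxeterMatrix.G₂.simple 1 *
      CoxeterMatrix.G₂.simple 0 * CoxeterMatrix.G₂.simple 1 * CoxeterMatrix.G₂.simple 0 =
    CoxeterMatrix.G₂.simple 0 * CoxeterMatrix.G₂.simple 1 * CoxeterMatrix.G₂.simple 0 *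
      CoxeterMatrix.G₂.simple 1 * CoxeterMatrix.G₂.simple 0 * CoxeterMatrix.G₂.simple 1 := by
  have hs := g2ve0_s_sq
  have ht := g2ve0_t_sq
  have h6 := g2ve0_six
  set s := CoxeterMatrix.G₂.simple 0
  set t := CoxeterMatrix.G₂.simple 1
  have hsi : s⁻¹ = s := (eq_inv_of_mul_eq_one_right hs).symm
  have hti : t⁻¹ = t := (eq_inv_of_mul_eq_one_right ht).symm
  have h33 : (s * t) ^ 3 * (s * t) ^ 3 = 1 := by rw [← pow_add]; exact h6
  have h3 : (s * t) ^ 3 = ((s * t) ^ 3)⁻¹ := eq_inv_of_mul_eq_one_left h33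
  rw [← inv_pow, mul_inv_rev, hsi, hti] at h3
  have e1 : (s * t) ^ 3 = s * t * s * t * s * t := by
    simp only [pow_succ, pow_zero, one_mul, mul_assoc]
  have e2 : (t * s) ^ 3 = t * s * t * s * t * s := by
    simp only [pow_succ, pow_zero, one_mul, mul_assoc]
  rw [← e1, ← e2]
  exact h3.symm

theorem g2ve0_pow_even (k : ℕ) : CoxeterMatrix.G₂.simple 0 ^ (2 * k) = 1 := by
  rw [pow_mul, pow_two, g2ve0_s_sq, one_pow]

theorem g2ve0_pow_odd (k : ℕ) :
    CoxeterMatrix.G₂.simple 0 ^ (2 * k + 1) = CoxeterMatrix.G₂.simple 0 := by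
  rw [pow_succ, g2ve0_pow_even, one_mul]

/-- **E0** -/
theorem cox_words (w : CoxeterMatrix.G₂.Group) :
    ∃ (e1 e2 : ℕ) (v : CoxeterMatrix.G₂.Group),
      (v = 1 ∨ v = CoxeterMatrix.G₂.simple 1 ∨
        v = CoxeterMatrix.G₂.simple 1 * CoxeterMatrix.G₂.simple 0 * CoxeterMatrix.G₂.simple 1 ∨
        v = CoxeterMatrix.G₂.simple 1 * CoxeterMatrix.G₂.simple 0 * CoxeterMatrix.G₂.simple 1 *
          CoxeterMatrix.G₂.simple 0 * CoxeterMatrix.G₂.simple 1) ∧
      w = CoxeterMatrix.G₂.simple 0 ^ e1 * v * CoxeterMatrix.G₂.simple 0 ^ e2 := by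
  have hs := g2ve0_s_sq
  have ht := g2ve0_t_sq
  have hbr := g2ve0_braid
  have hev := g2ve0_pow_even
  have hod := g2ve0_pow_odd
  induction w using CoxeterMatrix.G₂.toCoxeterSystem.simple_induction_left with
  | one => exact ⟨0, 0, 1, Or.inl rfl, by simp⟩
  | mul_simple_left w i ih =>
    rw [CoxeterMatrix.toCoxeterSystem_simple]
    obtain ⟨e1, e2, v, hv, rfl⟩ := ih
    set s := CoxeterMatrix.G₂.simple 0 with hsdef
    set t := CoxeterMatrix.G₂.simple 1 with htdef
    have hs' : ∀ x, s * (s * x) = x := fun x => by rw [← mul_assoc, hs, one_mul]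
    have ht' : ∀ x, t * (t * x) = x := fun x => by rw [← mul_assoc, ht, one_mul]
    have hbr' : ∀ x, t * (s * (t * (s * (t * (s * x))))) = s * (t * (s * (t * (s * (t * x))))) := by
      intro x
      have := congrArg (· * x) hbr
      simpa only [mul_assoc] using this
    fin_cases i
    · refine ⟨e1 + 1, e2, v, hv, ?_⟩
      show s * (s ^ e1 * v * s ^ e2) = s ^ (e1 + 1) * v * s ^ e2
      rw [pow_succ']
      simp only [mul_assoc]
    · show ∃ (e1' e2' : ℕ) (v' : CoxeterMatrix.G₂.Group), _ ∧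
        t * (s ^ e1 * v * s ^ e2) = s ^ e1' * v' * s ^ e2'
      rcases Nat.even_or_odd' e1 with ⟨k, rfl | rfl⟩
      · rw [hev k]
        rcases hv with rfl | rfl | rfl | rfl
        · exact ⟨0, e2, t, Or.inr (Or.inl rfl), by simp only [pow_zero, one_mul, mul_one]⟩
        · exact ⟨0, e2, 1, Or.inl rfl, by simp only [pow_zero, one_mul, mul_one, mul_assoc, ht']⟩
        · exact ⟨1, e2, t, Or.inr (Or.inl rfl),
            by simp only [pow_one, one_mul, mul_assoc, ht']⟩
        · exact ⟨1, e2, t * s * t, Or.inr (Or.inr (Or.inl rfl)),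
            by simp only [pow_one, one_mul, mul_assoc, ht']⟩
      · rw [hod k]
        rcases hv with rfl | rfl | rfl | rfl
        · exact ⟨0, 1 + e2, t, Or.inr (Or.inl rfl),
            by simp only [pow_zero, one_mul, mul_one, mul_assoc, pow_add, pow_one]⟩
        · exact ⟨0, e2, t * s * t, Or.inr (Or.inr (Or.inl rfl)),
            by simp only [pow_zero, one_mul, mul_assoc]⟩
        · exact ⟨0, e2, t * s * t * s * t, Or.inr (Or.inr (Or.inr rfl)),
            by simp only [pow_zero, one_mul, mul_assoc]⟩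
        · refine ⟨1, 1 + e2, t * s * t, Or.inr (Or.inr (Or.inl rfl)), ?_⟩
          simp only [pow_one, mul_assoc, pow_add]
          rw [hbr', ht']

end Cfsg.Agent.Lib.Helper19.G2V
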