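import Mathlib
import Cfsg.Agent.Lib.Helper19.G2V.Defs
import Cfsg.Agent.Lib.helper3.G2VE0
import Cfsg.Agent.S1039

/-!
Project G2V (S2461), row E1 `N_words` (verbatim vs `Helper19/G2V/Skel.lean.txt`): every element of `N`
is `na ^ e1 * w * na ^ e2 * h` with `h ∈ H` and `w ∈ {1, nb, nb na nb, nb na nb na nb}` (S1039 + E0).
-/

set_option autoImplicit false

namespace Cfsg.Agent.Lib.Helper19.G2V

open Cfsg.Lie Cfsg.Lie.ChevalleyDatum Matrix
open Cfsg.Agent.Lib.helper8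
open Cfsg.Agent.Lib.helper23.P4V

universe u

variable {F : Type u} [Field F]

/-- **E1** -/
theorem N_words (n : GG F) (hn : n ∈ chevG2.monomialSubgroup F) :
    ∃ (e1 e2 : ℕ) (w h : GG F), h ∈ chevG2.diagonalSubgroup F ∧
      (w = 1 ∨ w = nb ∨ w = nb * na * nb ∨ w = nb * na * nb * na * nb) ∧
      n = na ^ e1 * w * na ^ e2 * h := by
  obtain ⟨φ, -, hker, hφ⟩ : ∃ φ : ↥(chevG2.monomialSubgroup F) →* CoxeterMatrix.G₂.Group,
      Function.Surjective φ ∧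
      φ.ker = (chevG2.diagonalSubgroup F).subgroupOf (chevG2.monomialSubgroup F) ∧
      ∀ (i : Fin 2) (g : ↥(chevG2.monomialSubgroup F)),
        ((g : GL chevG2.Idx F) : Matrix chevG2.Idx chevG2.Idx F) =
          chevG2.nMat F (chevG2.simple i) 1 → φ g = CoxeterMatrix.G₂.simple i :=
    Cfsg.Agent.S1039.result (F := F) (chevG2, ⟨2, CoxeterMatrix.G₂⟩) (by simp)
  let naN : ↥(chevG2.monomialSubgroup F) := ⟨na, h8nU_mem_N chevG2 hB 7 (by decide)⟩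
  let nbN : ↥(chevG2.monomialSubgroup F) := ⟨nb, h8nU_mem_N chevG2 hB 6 (by decide)⟩
  have h0 : φ naN = CoxeterMatrix.G₂.simple 0 := hφ 0 naN (h8nU_val chevG2 hB 7 1)
  have h1 : φ nbN = CoxeterMatrix.G₂.simple 1 := hφ 1 nbN (h8nU_val chevG2 hB 6 1)
  obtain ⟨e1, e2, v, hv, hw⟩ := cox_words (φ ⟨n, hn⟩)
  have key : ∀ wN : ↥(chevG2.monomialSubgroup F), φ wN = v →
      ∃ h : GG F, h ∈ chevG2.diagonalSubgroup F ∧
        n = na ^ e1 * (wN : GG F) * na ^ e2 * h := by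
    intro wN hwN
    have hg : (naN ^ e1 * wN * naN ^ e2)⁻¹ * ⟨n, hn⟩ ∈ φ.ker := by
      rw [MonoidHom.mem_ker, map_mul, map_inv, map_mul, map_mul, map_pow, map_pow, h0, hwN, hw]
      exact inv_mul_cancel _
    rw [hker, Subgroup.mem_subgroupOf] at hg
    refine ⟨_, hg, ?_⟩
    rw [Subgroup.coe_mul, Subgroup.coe_inv, Subgroup.coe_mul, Subgroup.coe_mul, Subgroup.coe_pow,
      Subgroup.coe_pow]
    show n = na ^ e1 * (wN : GG F) * na ^ e2 * ((na ^ e1 * (wN : GG F) * na ^ e2)⁻¹ * n)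
    rw [mul_inv_cancel_left]
  rcases hv with rfl | rfl | rfl | rfl
  · obtain ⟨h, hh, e⟩ := key 1 (map_one φ)
    exact ⟨e1, e2, 1, h, hh, Or.inl rfl, e⟩
  · obtain ⟨h, hh, e⟩ := key nbN h1
    exact ⟨e1, e2, nb, h, hh, Or.inr (Or.inl rfl), e⟩
  · obtain ⟨h, hh, e⟩ := key (nbN * naN * nbN) (by rw [map_mul, map_mul, h0, h1])
    exact ⟨e1, e2, nb * na * nb, h, hh, Or.inr (Or.inr (Or.inl rfl)), e⟩
  · obtain ⟨h, hh, e⟩ := key (nbN * naN * nbN * naN * nbN)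
      (by rw [map_mul, map_mul, map_mul, map_mul, h0, h1])
    exact ⟨e1, e2, nb * na * nb * na * nb, h, hh, Or.inr (Or.inr (Or.inr rfl)), e⟩

end Cfsg.Agent.Lib.Helper19.G2V
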