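import Mathlib
import Cfsg.Agent.Lib.Helper13.S5955.Defs
import Cfsg.Agent.Lib.helper3.C3OCWQ

/-!
# Project S5955, row T8 (cw): Chevalley-Warning gives a vector whose cyclic submodule is totally isotropic
-/

set_option autoImplicit false
set_option linter.unusedVariables false
set_option linter.unusedSectionVars false

namespace Cfsg.Agent.Lib.Helper13.S5955

open Polynomial Module

section seq

variable {F : Type*} [Field F] {V : Type*} [AddCommGroup V] [Module F V]
  {r : ℕ} {B : LinearMap.BilinForm F V} {x : Module.End F V}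

/-- skew symmetry of an alternating form -/
theorem s5955t8_skew (h : SCtx r B x) (u w : V) : B u w = - B w u := by
  have h1 := h.alt (u + w)
  simp only [map_add, LinearMap.add_apply, h.alt u, h.alt w] at h1
  linear_combination h1

/-- `B (x^n u) (x^n w) = B u w` -/
theorem s5955t8_pres_pow (h : SCtx r B x) (n : ℕ) (u w : V) : B ((x ^ n) u) ((x ^ n) w) = B u w := by
  induction n with
  | zero => simp
  | succ n ih =>
    rw [pow_succ', Module.End.mul_apply, Module.End.mul_apply, h.pres, ih]

/-- periodicity -/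
theorem s5955t8_period (h : SCtx r B x) (v : V) (n K : ℕ) :
    B v ((x ^ (n + r * K)) v) = B v ((x ^ n) v) := by
  rw [pow_add, pow_mul, h.pow, one_pow, mul_one]

/-- reflection: `a_n = - a_m` when `n + m = r K` -/
theorem s5955t8_reflect (h : SCtx r B x) (v : V) (n m K : ℕ) (hnm : n + m = r * K) :
    B v ((x ^ n) v) = - B v ((x ^ m) v) := by
  have h1 : (x ^ m) ((x ^ n) v) = v := by
    rw [← Module.End.mul_apply, ← pow_add, add_comm, hnm, pow_mul, h.pow, one_pow, Module.End.one_apply]
  have h2 := s5955t8_pres_pow h m v ((x ^ n) v)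
  rw [h1] at h2
  rw [← h2, s5955t8_skew h]

/-- the linear recurrence -/
theorem s5955t8_rec (h : SCtx r B x) (f : F[X]) (v : V) (hkill : aeval x f v = 0) (n : ℕ) :
    ∑ k ∈ Finset.range (f.natDegree + 1), f.coeff k * B v ((x ^ (n + k)) v) = 0 := by
  have h1 : (x ^ n) (aeval x f v) = 0 := by rw [hkill, map_zero]
  rw [aeval_eq_sum_range, LinearMap.sum_apply, map_sum] at h1
  have h2 := congrArg (fun w => B v w) h1
  simp only [map_sum, map_zero] at h2
  rw [← h2]
  apply Finset.sum_congr rfl
  intro k _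
  rw [LinearMap.smul_apply, map_smul, map_smul, smul_eq_mul, pow_add, Module.End.mul_apply]

/-- forward propagation of zeros -/
theorem s5955t8_forward (h : SCtx r B x) (f : F[X]) (i : ℕ) (hdeg : f.natDegree = i) (hf : f ≠ 0)
    (v : V) (hkill : aeval x f v = 0) (n0 : ℕ)
    (h0 : ∀ t, t < i → B v ((x ^ (n0 + t)) v) = 0) : ∀ m, B v ((x ^ (n0 + m)) v) = 0 := by
  intro m
  induction m using Nat.strong_induction_on with
  | _ m ih =>
    rcases Nat.lt_or_ge m i with hm | hm
    · exact h0 m hm
    · have hrec := s5955t8_rec h f v hkill (n0 + (m - i))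
      rw [hdeg, Finset.sum_range_succ] at hrec
      have hz : ∑ k ∈ Finset.range i, f.coeff k * B v ((x ^ (n0 + (m - i) + k)) v) = 0 := by
        apply Finset.sum_eq_zero
        intro k hk
        have hk' : k < i := Finset.mem_range.mp hk
        have : n0 + (m - i) + k = n0 + (m - i + k) := by ring
        rw [this, ih (m - i + k) (by omega), mul_zero]
      rw [hz, zero_add] at hrec
      have hlead : f.coeff i ≠ 0 := by
        rw [← hdeg]
        exact leadingCoeff_ne_zero.mpr hf
      have : n0 + (m - i) + i = n0 + m := by omega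
      rw [this] at hrec
      exact (mul_eq_zero.mp hrec).resolve_left hlead

end seq

/-- T8 [L] CW. -/
theorem cw {F : Type*} [Field F] [Fintype F] {V : Type*} [AddCommGroup V] [Module F V]
    [FiniteDimensional F V] {r : ℕ} (hr : 0 < r)
    {B : LinearMap.BilinForm F V} {x : Module.End F V} (h : SCtx r B x)
    (M : Submodule F V) (hM : SInv x M) (f : F[X]) (i : ℕ) (hdeg : f.natDegree = i)
    (hf0 : f.coeff 0 ≠ 0) (hkill : ∀ u ∈ M, aeval x f u = 0) (hi : Even i)
    (hdim : i < finrank F M) :
    ∃ v ∈ M, v ≠ 0 ∧ ∀ a b : ℕ, B ((x ^ a) v) ((x ^ b) v) = 0 := by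
  obtain ⟨hh, rfl⟩ := hi
  have hf : f ≠ 0 := by
    rintro rfl
    simp at hf0
  -- Chevalley-Warning
  let β : Fin hh → ↥M →ₗ[F] ↥M →ₗ[F] F := fun j =>
    LinearMap.compl₁₂ B M.subtype ((x ^ ((j : ℕ) + 1)) ∘ₗ M.subtype)
  have hcard : 2 * Fintype.card (Fin hh) < finrank F ↥M := by
    rw [Fintype.card_fin]
    omega
  obtain ⟨y, hy0, hy⟩ := Cfsg.Agent.Lib.Helper10.C3O.cw_quad β (fun _ => 0) hcard
  refine ⟨(y : V), y.2, fun hc => hy0 (Subtype.ext hc), ?_⟩
  set v : V := (y : V) with hv
  have hv_kill : aeval x f v = 0 := hkill v y.2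
  -- the known zeros
  have hz1 : ∀ l, 1 ≤ l → l ≤ hh → B v ((x ^ l) v) = 0 := by
    intro l hl1 hl2
    have := hy ⟨l - 1, by omega⟩
    simp only [β, LinearMap.compl₁₂_apply, LinearMap.zero_apply, add_zero, Submodule.subtype_apply,
      LinearMap.comp_apply] at this
    have e : l - 1 + 1 = l := by omega
    rw [e] at this
    exact this
  have hz : ∀ l, l ≤ hh → B v ((x ^ l) v) = 0 := by
    intro l hl
    rcases Nat.eq_zero_or_pos l with rfl | hpos
    · simpa using h.alt v
    · exact hz1 l hpos hl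
  -- zeros at `r * (hh + hh) - hh + t`, `t < hh + hh`
  have hrh : hh ≤ r * (hh + hh) := by nlinarith
  have h0 : ∀ t, t < hh + hh → B v ((x ^ (r * (hh + hh) - hh + t)) v) = 0 := by
    intro t ht
    rcases Nat.lt_or_ge t hh with ht1 | ht1
    · -- position `r K - (hh - t)`
      have e : (r * (hh + hh) - hh + t) + (hh - t) = r * (hh + hh) := by omega
      rw [s5955t8_reflect h v _ (hh - t) (hh + hh) e, hz (hh - t) (by omega), neg_zero]
    · -- position `r K + (t - hh)`
      have e : r * (hh + hh) - hh + t = (t - hh) + r * (hh + hh) := by omega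
      rw [e, s5955t8_period h v, hz (t - hh) (by omega)]
  have hall := s5955t8_forward h f (hh + hh) hdeg hf v hv_kill (r * (hh + hh) - hh) h0
  have hzero : ∀ n, B v ((x ^ n) v) = 0 := by
    intro n
    rw [← s5955t8_period h v n (hh + hh)]
    have e : n + r * (hh + hh) = r * (hh + hh) - hh + (n + hh) := by omega
    rw [e]
    exact hall (n + hh)
  intro a b
  rcases Nat.le_total a b with hab | hab
  · obtain ⟨c, rfl⟩ := Nat.exists_eq_add_of_le hab
    rw [pow_add, Module.End.mul_apply, s5955t8_pres_pow h a, hzero c]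
  · obtain ⟨c, rfl⟩ := Nat.exists_eq_add_of_le hab
    rw [s5955t8_skew h, pow_add, Module.End.mul_apply, s5955t8_pres_pow h b, hzero c, neg_zero]

end Cfsg.Agent.Lib.Helper13.S5955
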