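import Mathlib
import Cfsg.Agent.Lib.helper17.SLP.Defs
import Cfsg.Agent.Lib.helper3.SP4.Defs
import Cfsg.Agent.Lib.helper15.SpGen1

/-!
# SP4 row M5 (`closure_Sp4`), helper3: `rhoA` and `rhoB` generate `Sp₄(F)`.
Verbatim statement of `helper3/SP4/Skel.lean.txt`; uses `helper15.SpGen1` (`top_of_all_DD`, `all_DD`, `gen_hq`).
-/

set_option autoImplicit false

namespace Cfsg.Agent.Lib.helper3.SP4

open Cfsg.Agent.Lib.helper17.SLP Matrix
open Cfsg.Agent.Lib.helper15.SpGen Cfsg.Agent.S0269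

universe u

variable {F : Type u} [Field F]

/-- the lower unitriangular matrix. -/
def sp4m5_yM (t : F) : Matrix.SpecialLinearGroup (Fin 2) F :=
  ⟨!![1, 0; t, 1], by simp [Matrix.det_fin_two_of]⟩

theorem sp4m5_mulVec_bv (A : Matrix (Fin 2 ⊕ Fin 2) (Fin 2 ⊕ Fin 2) F) (j : Fin 2 ⊕ Fin 2) :
    A *ᵥ (bv j : Fin 2 ⊕ Fin 2 → F) = fun i => A i j := by
  unfold bv
  rw [Matrix.mulVec_single_one]
  rfl

theorem sp4m5_tau_e2 (t : F) : τ (bv (Sum.inl 1) : Fin 2 ⊕ Fin 2 → F) t = rhoB (xM t) := by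
  apply sp_ext
  intro x
  rw [τ_mulVec, sf_bv, rhoB_coe]
  funext i
  rcases i with i | i <;> fin_cases i <;>
    simp [rhoBm, xM, sg, bv, Matrix.mulVec, dotProduct, Fintype.sum_sum_type, Fin.sum_univ_two] <;>
    ring

theorem sp4m5_tau_f2 (t : F) :
    τ (bv (Sum.inr 1) : Fin 2 ⊕ Fin 2 → F) t = rhoB (sp4m5_yM (-t)) := by
  apply sp_ext
  intro x
  rw [τ_mulVec, sf_bv, rhoB_coe]
  funext i
  rcases i with i | i <;> fin_cases i <;>
    simp [rhoBm, sp4m5_yM, sg, bv, Matrix.mulVec, dotProduct, Fintype.sum_sum_type,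
      Fin.sum_univ_two] <;>
    ring

/-- **M5**. -/
theorem closure_Sp4 :
    Subgroup.closure (Set.range (rhoA (F := F)) ∪ Set.range (rhoB (F := F))) = ⊤ := by
  set K : Subgroup (Matrix.symplecticGroup (Fin 2) F) :=
    Subgroup.closure (Set.range (rhoA (F := F)) ∪ Set.range (rhoB (F := F))) with hK
  have hA : ∀ M, rhoA (F := F) M ∈ K := fun M =>
    Subgroup.subset_closure (Or.inl ⟨M, rfl⟩)
  have hB : ∀ M, rhoB (F := F) M ∈ K := fun M =>
    Subgroup.subset_closure (Or.inr ⟨M, rfl⟩)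
  have he2 : (bv (Sum.inl 1) : Fin 2 ⊕ Fin 2 → F) ∈ DD K := by
    intro t
    rw [sp4m5_tau_e2]
    exact hB _
  have hf2 : (bv (Sum.inr 1) : Fin 2 ⊕ Fin 2 → F) ∈ DD K := by
    intro t
    rw [sp4m5_tau_f2]
    exact hB _
  have he1 : (bv (Sum.inl 0) : Fin 2 ⊕ Fin 2 → F) ∈ DD K := by
    have h := DD_act he2 (hA wM)
    have e : ((rhoA (F := F) wM : Matrix.symplecticGroup (Fin 2) F) :
        Matrix (Fin 2 ⊕ Fin 2) (Fin 2 ⊕ Fin 2) F) *ᵥ (bv (Sum.inl 1) : Fin 2 ⊕ Fin 2 → F) =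
        bv (Sum.inl 0) := by
      rw [sp4m5_mulVec_bv, rhoA_coe]
      funext i
      rcases i with i | i <;> fin_cases i <;> simp [rhoAm, wM, bv]
    rwa [e] at h
  have hf1 : (bv (Sum.inr 0) : Fin 2 ⊕ Fin 2 → F) ∈ DD K := by
    have h := DD_act hf2 (hA wM)
    have e : ((rhoA (F := F) wM : Matrix.symplecticGroup (Fin 2) F) :
        Matrix (Fin 2 ⊕ Fin 2) (Fin 2 ⊕ Fin 2) F) *ᵥ (bv (Sum.inr 1) : Fin 2 ⊕ Fin 2 → F) =
        bv (Sum.inr 0) := by
      rw [sp4m5_mulVec_bv, rhoA_coe]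
      funext i
      rcases i with i | i <;> fin_cases i <;> simp [rhoAm, wM, bv]
    rwa [e] at h
  have hb : ∀ j : Fin 2 ⊕ Fin 2, (bv j : Fin 2 ⊕ Fin 2 → F) ∈ DD K := by
    intro j
    rcases j with j | j <;> fin_cases j
    · exact he1
    · exact he2
    · exact hf1
    · exact hf2
  have h01 : QQ K (Sum.inl (0 : Fin 2)) (Sum.inl (1 : Fin 2)) := by
    intro c
    have h := DD_act he1 (hA (sp4m5_yM c))
    have e : ((rhoA (F := F) (sp4m5_yM c) : Matrix.symplecticGroup (Fin 2) F) :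
        Matrix (Fin 2 ⊕ Fin 2) (Fin 2 ⊕ Fin 2) F) *ᵥ (bv (Sum.inl 0) : Fin 2 ⊕ Fin 2 → F) =
        bv (Sum.inl 0) + c • bv (Sum.inl 1) := by
      rw [sp4m5_mulVec_bv, rhoA_coe]
      funext i
      rcases i with i | i <;> fin_cases i <;> simp [rhoAm, sp4m5_yM, bv]
    rwa [e] at h
  have h10 : QQ K (Sum.inl (1 : Fin 2)) (Sum.inl (0 : Fin 2)) := by
    intro c
    have h := DD_act he2 (hA (xM c))
    have e : ((rhoA (F := F) (xM c) : Matrix.symplecticGroup (Fin 2) F) :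
        Matrix (Fin 2 ⊕ Fin 2) (Fin 2 ⊕ Fin 2) F) *ᵥ (bv (Sum.inl 1) : Fin 2 ⊕ Fin 2 → F) =
        bv (Sum.inl 1) + c • bv (Sum.inl 0) := by
      rw [sp4m5_mulVec_bv, rhoA_coe]
      funext i
      rcases i with i | i <;> fin_cases i <;> simp [rhoAm, xM, bv]
    rwa [e] at h
  have hll : ∀ a b : Fin 2, a ≠ b → QQ K (Sum.inl a) (Sum.inl b) := by
    intro a b hab
    fin_cases a <;> fin_cases b
    · exact absurd rfl hab
    · exact h01
    · exact h10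
    · exact absurd rfl hab
  exact top_of_all_DD (all_DD hb (gen_hq hb hll))

end Cfsg.Agent.Lib.helper3.SP4
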