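import Mathlib
import Cfsg.Agent.Lib.helper17.SLP.Defs
import Cfsg.Agent.Lib.helper3.SP4.Defs
import Cfsg.Prelude.Def_Classical
import Cfsg.Agent.Lib.Helper9.SP4H1
import Cfsg.Agent.Lib.Helper9.SP4P1
import Cfsg.Agent.Lib.Helper9.SP4P2
import Cfsg.Agent.Lib.Helper25.SP4H3
import Cfsg.Agent.Lib.Helper27.SP4H4
import Cfsg.Agent.Lib.Helper27.SP4H5
import Cfsg.Agent.Lib.helper15.SP4H6core
import Cfsg.Agent.Lib.Helper28.SP4R1
import Cfsg.Agent.Lib.Helper28.SP4R3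
import Cfsg.Agent.Lib.Helper5.SP4T8
import Cfsg.Agent.Lib.Helper29.SP4T9
import Cfsg.Agent.Lib.Helper5.SP4W4
import Cfsg.Agent.Lib.Helper5.SP4C8
import Cfsg.Agent.Lib.helper8.SP4D1
import Cfsg.Agent.Lib.helper8.SP4D2
import Cfsg.Agent.Lib.helper8.SP4D3
import Cfsg.Agent.Lib.helper8.SP4D5
import Cfsg.Agent.Lib.Helper5.SP4D4
import Cfsg.Agent.Lib.Helper5.SP4D7
import Cfsg.Agent.Lib.Helper22.SP4D9core
import Cfsg.Agent.Lib.helper3.SP4E10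
import Cfsg.Agent.Lib.Helper10.SP4M2
import Cfsg.Agent.Lib.helper3.SP4M5
import Cfsg.Agent.Lib.Lead.SP4M6
import Cfsg.Agent.Lib.Helper5.SP4M8
import Cfsg.Agent.Lib.Helper26.SP4FIN1
import Cfsg.Agent.Lib.Helper11.SP4FIN2core
import Cfsg.Agent.Lib.Helper22.SP4FIN4core
import Cfsg.Agent.Lib.Helper26.SP4FIN5core
import Cfsg.Agent.Lib.Helper12.SP4FIN6core

/-!
# SP4 express assembly

The rows H6 D9 FIN2 FIN3 FIN4 FIN5 FIN6 MAIN of the SP4 skeleton, proved under the names `sp4x_*`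
from the landed verbatim rows and the landed cores of the other seats (the verbatim names stay with
their owners).
-/

set_option autoImplicit false

namespace Cfsg.Agent.Lib.helper3.SP4

open Cfsg.Agent.Lib.helper17.SLP

universe u v

theorem sp4x_sl_hom {F : Type u} [Field F] [Fintype F] (ζ : Fˣ) (hζ : ∀ y : Fˣ, y ∈ Subgroup.zpowers ζ) :
    ∃ (L : List (FreeGroup (Fin 3))) (az : FreeGroup (Fin 3)), L.length ≤ 9 ∧
      ((2 : F) = 0 → L.length ≤ 5) ∧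
      (∀ r ∈ L, ev (xM (1 : F)) (hM ζ) wM r = 1) ∧ ev (xM (1 : F)) (hM ζ) wM az = xM (ζ : F) ∧
      ∀ (G : Type) [Group G] (u h w : G), (∀ r ∈ L, ev u h w r = 1) →
        ∃ φ : Matrix.SpecialLinearGroup (Fin 2) F →* G, φ (xM 1) = u ∧ φ (hM ζ) = h ∧ φ wM = w :=
  sp4h6_core ζ hζ (fun h2 => sl_hom_odd h2 ζ hζ) (fun h2 => sl_hom_two h2 ζ hζ)

section D

variable {F : Type u} [Field F] [Fintype F] {G : Type v} [Group G]

theorem sp4x_rd_of_hyp (ζ : Fˣ) (hζ : ∀ y : Fˣ, y ∈ Subgroup.zpowers ζ)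
    (φa φb : Matrix.SpecialLinearGroup (Fin 2) F →* G) (H : Hyp ζ φa φb)
    (hgen : Subgroup.closure (Set.range φa ∪ Set.range φb) = ⊤) :
    RD4 (Fintype.card F) (TT φa φb) (RG (rx φa)) (RG (rx φb)) (RG (xc φa φb)) (RG (xd φa φb))
      (rn φa) (rn φb) :=
  have R := tor4 ζ hζ φa φb H
  have W := wact4 ζ φa φb H R
  have K := comm4 ζ φa φb H R W
  sp4d9_core φa φb (r_basic φa).1 (r_basic φb).1 (xcd_add φa φb).1 (xcd_add φa φb).2.1
    (fun X hX => rg_mem X hX) (rd_comm φa φb K) (rd_tor φa φb R) (rd_weylT φa φb R) (rd_weylX φa φb W)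
    (rd_rank1 φa φb) (rd_braid_gen ζ hζ φa φb H hgen) (TT_finite φa φb R).1

end D

section FIN

variable {F : Type u} [Field F] [Fintype F]

theorem sp4x_card_le_sp4 (ζ : Fˣ) (hζ : ∀ y : Fˣ, y ∈ Subgroup.zpowers ζ) {G : Type v} [Group G]
    (φa φb : Matrix.SpecialLinearGroup (Fin 2) F →* G) (H : Hyp ζ φa φb)
    (hgen : Subgroup.closure (Set.range φa ∪ Set.range φb) = ⊤) :
    Finite G ∧ Nat.card G ≤ Nat.card (TT φa φb) * Fintype.card F ^ 4 *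
      (1 + 2 * Fintype.card F + 2 * Fintype.card F ^ 2 + 2 * Fintype.card F ^ 3 + Fintype.card F ^ 4) :=
  sp4fin2_core φa φb (sp4x_rd_of_hyp ζ hζ φa φb H hgen)
    (fun D => rd4_card (Fintype.card F) (TT φa φb) (RG (rx φa)) (RG (rx φb)) (RG (xc φa φb))
      (RG (xd φa φb)) (rn φa) (rn φb) D)

theorem sp4x_hyp_of_words (ζ : Fˣ) (L : List (FreeGroup (Fin 3))) (az : FreeGroup (Fin 3))
    (haz : ev (xM (1 : F)) (hM ζ) wM az = xM (ζ : F))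
    (hL : ∀ (G : Type) [Group G] (u h w : G), (∀ r ∈ L, ev u h w r = 1) →
      ∃ φ : Matrix.SpecialLinearGroup (Fin 2) F →* G, φ (xM 1) = u ∧ φ (hM ζ) = h ∧ φ wM = w)
    (G : Type) [Group G] (ua ha wa ub hb wb : G)
    (hgen : Subgroup.closure {ua, ha, wa, ub, hb, wb} = ⊤)
    (hrel : ∀ r ∈ L.map inA ++ L.map inB ++ wordsS6 (inA az), ev6 ua ha wa ub hb wb r = 1) :
    ∃ φa φb : Matrix.SpecialLinearGroup (Fin 2) F →* G, Hyp ζ φa φb ∧ rh φa ζ = ha ∧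
      Subgroup.closure (Set.range φa ∪ Set.range φb) = ⊤ :=
  sp4fin3_core ζ L az haz hL G ua ha wa ub hb wb hgen hrel
    (fun φ a b c r => ev_map φ a b c r)
    (fun r => ev6_inA ua ha wa ub hb wb r)
    (fun r => ev6_inB ua ha wa ub hb wb r)
    (fun za => ev6_wordsS6 ua ha wa ub hb wb za)
    (fun φa φb => hyp_iff_rel ζ φa φb)

theorem sp4x_words_M (ζ : Fˣ) (hζ : ∀ y : Fˣ, y ∈ Subgroup.zpowers ζ) (L : List (FreeGroup (Fin 3)))
    (az : FreeGroup (Fin 3)) (hLrel : ∀ r ∈ L, ev (xM (1 : F)) (hM ζ) wM r = 1)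
    (haz : ev (xM (1 : F)) (hM ζ) wM az = xM (ζ : F)) :
    (∀ r ∈ L.map inA ++ L.map inB ++ wordsS6 (inA az),
        ev6 (rhoA (xM (1 : F))) (rhoA (hM ζ)) (rhoA wM) (rhoB (xM (1 : F))) (rhoB (hM ζ)) (rhoB wM) r = 1) ∧
      Subgroup.closure {rhoA (xM (1 : F)), rhoA (hM ζ), rhoA wM, rhoB (xM (1 : F)), rhoB (hM ζ), rhoB wM} = ⊤ :=
  sp4fin4_core ζ hζ (hyp_M ζ) closure_Sp4
    (fun ua ha wa ub hb wb r => ev6_inA ua ha wa ub hb wb r)
    (fun ua ha wa ub hb wb r => ev6_inB ua ha wa ub hb wb r)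
    (fun ua ha wa ub hb wb za => ev6_wordsS6 ua ha wa ub hb wb za)
    (hyp_iff_rel ζ rhoA rhoB) L az hLrel haz

theorem sp4x_sp4_main :
    ∃ rels : Finset (FreeGroup (Fin 6)), rels.card ≤ 35 ∧
      Nonempty (PresentedGroup (↑rels : Set (FreeGroup (Fin 6))) ≃* Matrix.symplecticGroup (Fin 2) F) :=
  sp4fin5_core
    (fun ζ hζ => sp4x_sl_hom ζ hζ)
    (fun L a₁ a₂ a₃ b₁ b₂ b₃ hgen hrel hcard => pres_of_card6 L a₁ a₂ a₃ b₁ b₂ b₃ hgen hrel hcard)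
    (fun _ _ φa φb R => TT_card φa φb R)
    (fun ζ hζ _ _ φa φb H hgen => sp4x_card_le_sp4 ζ hζ φa φb H hgen)
    (fun ζ L az haz hL G _ ua ha wa ub hb wb hgen hrel =>
      sp4x_hyp_of_words ζ L az haz hL G ua ha wa ub hb wb hgen hrel)
    (fun ζ hζ L az hLrel haz => sp4x_words_M ζ hζ L az hLrel haz)
    card_Sp4
    (fun ζ hζ _ _ φa φb H => tor4 ζ hζ φa φb H)

theorem sp4x_psp4_main :
    ∃ rels : Finset (FreeGroup (Fin 6)), rels.card ≤ 36 ∧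
      Nonempty (PresentedGroup (↑rels : Set (FreeGroup (Fin 6))) ≃* Cfsg.PSp 2 F) :=
  sp4fin6_core
    (fun ζ hζ => sp4x_sl_hom ζ hζ)
    (fun L a₁ a₂ a₃ b₁ b₂ b₃ hgen hrel hcard => pres_of_card6 L a₁ a₂ a₃ b₁ b₂ b₃ hgen hrel hcard)
    (fun _ _ φa φb R => TT_card φa φb R)
    (fun ζ hζ _ _ φa φb H => tor4 ζ hζ φa φb H)
    (fun ζ hζ _ _ φa φb H hgen => sp4x_card_le_sp4 ζ hζ φa φb H hgen)
    (fun ζ L az haz hL G _ ua ha wa ub hb wb hgen hrel =>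
      sp4x_hyp_of_words ζ L az haz hL G ua ha wa ub hb wb hgen hrel)
    (fun ζ hζ L az hLrel haz => sp4x_words_M ζ hζ L az hLrel haz)
    card_Sp4 card_PSp4 rhoA_neg_one_center

end FIN

theorem sp4x_s2293 {F : Type*} [Field F] [Fintype F] : (∃ rels : Finset (FreeGroup (Fin 6)), rels.card ≤ 35 ∧ Nonempty (PresentedGroup (↑rels : Set (FreeGroup (Fin 6))) ≃* Matrix.symplecticGroup (Fin 2) F)) ∧ (∃ rels : Finset (FreeGroup (Fin 6)), rels.card ≤ 36 ∧ Nonempty (PresentedGroup (↑rels : Set (FreeGroup (Fin 6))) ≃* Cfsg.PSp 2 F)) :=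
  ⟨sp4x_sp4_main, sp4x_psp4_main⟩

end Cfsg.Agent.Lib.helper3.SP4

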