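import Mathlib
import Cfsg.Prelude.Def_LieExceptional
import Cfsg.Agent.Lib.helper3.SuzukiMultB

set_option autoImplicit false

namespace Cfsg.Agent.Lib.helper3

open Cfsg
open scoped commutatorElement IsMulCommutative

variable {F : Type*} [Field F] [Fintype F] {m : ℕ} (hF : Fintype.card F = 2 ^ (2 * m + 1))
  (hm : 1 ≤ m)

/-! ### Facts about the Sylow 2-subgroup -/

theorem gT_zero_mul (b b' : F) : gT hF 0 b * gT hF 0 b' = gT hF 0 (b + b') := by
  rw [gT_mul]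
  simp only [add_zero, mul_zero]

theorem gT_split0 (a b : F) : gT hF a b = gT hF a 0 * gT hF 0 b := by
  rw [gT_mul]
  simp only [add_zero, mul_zero, zero_add]

theorem gT_add_split (a a' : F) :
    gT hF (a + a') 0 = gT hF a 0 * (gT hF a' 0 * gT hF 0 (szθ m a * a')) := by
  have h2 := sz_two hF
  rw [gT_mul, gT_mul]
  congr 1
  · ring
  · simp only [add_zero, mul_zero, zero_add]
    linear_combination (-(szθ m a * a')) * h2

theorem gT_zero_comm_eq_one (b a b' : F) : ⁅gT hF 0 b, gT hF a b'⁆ = 1 := by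
  rw [gT_comm, szθ_zero]
  simp only [zero_mul, mul_zero, add_zero]
  exact gT_zero hF

theorem gD_conj_gT_zero (k : Fˣ) (b : F) :
    gD hF k * gT hF 0 b * (gD hF k)⁻¹ = gT hF 0 ((k : F) ^ 2 * szθ m (k : F) ^ 2 * b) := by
  rw [gD_conj_gT, mul_zero]

theorem gD_conj_gT_x (k : Fˣ) (a : F) :
    gD hF k * gT hF a 0 * (gD hF k)⁻¹ = gT hF ((k : F) ^ 2 * a) 0 := by
  rw [gD_conj_gT, mul_zero]

include hF in
/-- every non-zero scalar is of the form `k ^ 2` -/
theorem exists_unit_sq {l : F} (hl : l ≠ 0) : ∃ k : Fˣ, (k : F) ^ 2 = l := by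
  obtain ⟨e, he⟩ := exists_sqrt_field hF l
  have he0 : e ≠ 0 := by
    rintro rfl
    apply hl
    rw [← he]
    ring
  exact ⟨Units.mk0 e he0, he⟩

include hF in
/-- every non-zero scalar is of the form `k ^ 2 * θ(k) ^ 2` -/
theorem exists_unit_norm_sq {l : F} (hl : l ≠ 0) :
    ∃ k : Fˣ, (k : F) ^ 2 * szθ m (k : F) ^ 2 = l := by
  obtain ⟨e, he⟩ := exists_sqrt_field hF l
  obtain ⟨k, hk⟩ := exists_norm_eq hF e
  have hk0 : k ≠ 0 := by
    rintro rfl
    apply hl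
    rw [← he, ← hk]
    ring
  refine ⟨Units.mk0 k hk0, ?_⟩
  rw [Units.val_mk0, ← he, ← hk]
  ring

/-! ### Lifts to a central extension -/

section lifts

variable {Γ : Type*} [Group Γ] (σ : Γ →* Sz F m) (hsurj : Function.Surjective σ)

/-- a lift of `gT a 0` -/
noncomputable def liftX (a : F) : Γ := Classical.choose (hsurj (gT hF a 0))

theorem map_liftX (a : F) : σ (liftX hF σ hsurj a) = gT hF a 0 :=
  Classical.choose_spec (hsurj (gT hF a 0))

/-- a lift of `gT 0 b` -/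
noncomputable def liftZ (b : F) : Γ := Classical.choose (hsurj (gT hF 0 b))

theorem map_liftZ (b : F) : σ (liftZ hF σ hsurj b) = gT hF 0 b :=
  Classical.choose_spec (hsurj (gT hF 0 b))

/-- a lift of `gD k` -/
noncomputable def liftD (k : Fˣ) : Γ := Classical.choose (hsurj (gD hF k))

theorem map_liftD (k : Fˣ) : σ (liftD hF σ hsurj k) = gD hF k :=
  Classical.choose_spec (hsurj (gD hF k))

variable (hcen : σ.ker ≤ Subgroup.center Γ)

include hcen in
theorem comm_mem_center_of_map {x y : Γ} (h : ⁅σ x, σ y⁆ = 1) : ⁅x, y⁆ ∈ Subgroup.center Γ := by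
  apply hcen
  rw [MonoidHom.mem_ker, map_commutatorElement, h]

include hcen in
/-- commutators of elements conjugated (up to the kernel) by `d` -/
theorem pair_conj_lift {x y x' y' d : Γ} (hx : σ x' = σ (d * x * d⁻¹)) (hy : σ y' = σ (d * y * d⁻¹)) :
    ⁅x', y'⁆ = d * ⁅x, y⁆ * d⁻¹ := by
  rw [comm_eq_of_map_eq σ hcen hx hy, conj_comm_eq]

theorem conj_central {κ : Γ} (hκ : κ ∈ Subgroup.center Γ) (d : Γ) : d * κ * d⁻¹ = κ := by
  rw [Subgroup.mem_center_iff.1 hκ d, mul_inv_cancel_right]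

include hF hm hsurj hcen in
/-- Step A: the preimage of the centre of the Sylow 2-subgroup is abelian -/
theorem zt_comm {u v : Γ} (hu : σ u ∈ Zs hF) (hv : σ v ∈ Zs hF) : ⁅u, v⁆ = 1 := by
  obtain ⟨fA, hfA⟩ : ∃ fA : F → F → Subgroup.center Γ,
      ∀ b b', (fA b b' : Γ) = ⁅liftZ hF σ hsurj b, liftZ hF σ hsurj b'⁆ :=
    ⟨fun b b' => ⟨⁅liftZ hF σ hsurj b, liftZ hF σ hsurj b'⁆,
      comm_mem_center_of_map σ hcen (by
        rw [map_liftZ, map_liftZ]; exact gT_zero_comm_eq_one hF b 0 b')⟩, fun _ _ => rfl⟩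
  have hl : ∀ b b' c, fA (b + b') c = fA b c * fA b' c := by
    intro b b' c
    rw [mul_comm (fA b c)]
    apply Subtype.ext
    rw [Subgroup.coe_mul, hfA, hfA, hfA]
    rw [comm_eq_of_map_eq σ hcen (u' := liftZ hF σ hsurj b * liftZ hF σ hsurj b')
      (v' := liftZ hF σ hsurj c) (by rw [map_mul, map_liftZ, map_liftZ, map_liftZ, gT_zero_mul])
      rfl]
    apply comm_mul_left_of_commute
    rw [← hfA]
    exact Subgroup.mem_center_iff.1 (fA b' c).2 _
  have hr : ∀ b c c', fA b (c + c') = fA b c * fA b c' := by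
    intro b c c'
    apply Subtype.ext
    rw [Subgroup.coe_mul, hfA, hfA, hfA]
    rw [comm_eq_of_map_eq σ hcen (u' := liftZ hF σ hsurj b)
      (v' := liftZ hF σ hsurj c * liftZ hF σ hsurj c') rfl
      (by rw [map_mul, map_liftZ, map_liftZ, map_liftZ, gT_zero_mul])]
    apply comm_mul_right_of_commute
    rw [← hfA]
    exact Subgroup.mem_center_iff.1 (fA b c').2 _
  have hinv : ∀ μ b c, μ ≠ 0 → fA (μ * b) (μ * c) = fA b c := by
    intro μ b c hμ
    obtain ⟨k, hk⟩ := exists_unit_norm_sq hF hμ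
    apply Subtype.ext
    rw [hfA, hfA]
    rw [pair_conj_lift σ hcen (d := liftD hF σ hsurj k) (x := liftZ hF σ hsurj b)
      (y := liftZ hF σ hsurj c)]
    · rw [← hfA]
      exact conj_central (fA b c).2 _
    · rw [map_mul, map_mul, map_inv, map_liftD, map_liftZ, map_liftZ, gD_conj_gT_zero, hk]
    · rw [map_mul, map_mul, map_inv, map_liftD, map_liftZ, map_liftZ, gD_conj_gT_zero, hk]
  have htriv := pairing_trivial_of_scalar_invariant hF hm fA hl hr hinv
  obtain ⟨b, hb⟩ := (mem_Zs hF).1 hu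
  obtain ⟨b', hb'⟩ := (mem_Zs hF).1 hv
  rw [comm_eq_of_map_eq σ hcen (u' := liftZ hF σ hsurj b) (v' := liftZ hF σ hsurj b')
    (by rw [hb, map_liftZ]) (by rw [hb', map_liftZ]), ← hfA, htriv]
  rfl

include hF hm hsurj hcen in
/-- Step B: for `m ≥ 2` the preimage of the centre is central in the preimage of the Sylow
2-subgroup -/
theorem zt_central (hm2 : 2 ≤ m) {u x : Γ} (hu : σ u ∈ Zs hF) (hx : σ x ∈ Qs hF) :
    ⁅u, x⁆ = 1 := by
  have hZZ : ∀ b c, ⁅liftZ hF σ hsurj b, liftZ hF σ hsurj c⁆ = 1 := by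
    intro b c
    apply zt_comm hF hm σ hsurj hcen
    · rw [map_liftZ]; exact (mem_Zs hF).2 ⟨b, rfl⟩
    · rw [map_liftZ]; exact (mem_Zs hF).2 ⟨c, rfl⟩
  obtain ⟨fB, hfB⟩ : ∃ fB : F → F → Subgroup.center Γ,
      ∀ b a, (fB b a : Γ) = ⁅liftZ hF σ hsurj b, liftX hF σ hsurj a⁆ :=
    ⟨fun b a => ⟨⁅liftZ hF σ hsurj b, liftX hF σ hsurj a⁆,
      comm_mem_center_of_map σ hcen (by
        rw [map_liftZ, map_liftX]; exact gT_zero_comm_eq_one hF b a 0)⟩, fun _ _ => rfl⟩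
  have hl : ∀ b b' a, fB (b + b') a = fB b a * fB b' a := by
    intro b b' a
    rw [mul_comm (fB b a)]
    apply Subtype.ext
    rw [Subgroup.coe_mul, hfB, hfB, hfB]
    rw [comm_eq_of_map_eq σ hcen (u' := liftZ hF σ hsurj b * liftZ hF σ hsurj b')
      (v' := liftX hF σ hsurj a) (by rw [map_mul, map_liftZ, map_liftZ, map_liftZ, gT_zero_mul])
      rfl]
    apply comm_mul_left_of_commute
    rw [← hfB]
    exact Subgroup.mem_center_iff.1 (fB b' a).2 _
  have hr : ∀ b a a', fB b (a + a') = fB b a * fB b a' := by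
    intro b a a'
    apply Subtype.ext
    rw [Subgroup.coe_mul, hfB, hfB, hfB]
    rw [comm_eq_of_map_eq σ hcen (u' := liftZ hF σ hsurj b)
      (v' := liftX hF σ hsurj a * (liftX hF σ hsurj a' * liftZ hF σ hsurj (szθ m a * a'))) rfl
      (by rw [map_mul, map_mul, map_liftX, map_liftX, map_liftX, map_liftZ, gT_add_split])]
    have hc1 : ⁅liftZ hF σ hsurj b, liftX hF σ hsurj a' * liftZ hF σ hsurj (szθ m a * a')⁆ =
        ⁅liftZ hF σ hsurj b, liftX hF σ hsurj a'⁆ := by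
      rw [comm_mul_right_of_commute, hZZ, mul_one]
      rw [hZZ, mul_one, one_mul]
    rw [comm_mul_right_of_commute, hc1]
    rw [hc1, ← hfB]
    exact Subgroup.mem_center_iff.1 (fB b a').2 _
  have hinv : ∀ l b a, l ≠ 0 → fB (l * szθ m l * b) (l * a) = fB b a := by
    intro l b a hl0
    obtain ⟨k, hk⟩ := exists_unit_sq hF hl0
    have hk' : (k : F) ^ 2 * szθ m (k : F) ^ 2 = l * szθ m l := by
      rw [← hk]
      unfold szθ
      ring
    apply Subtype.ext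
    rw [hfB, hfB]
    rw [pair_conj_lift σ hcen (d := liftD hF σ hsurj k) (x := liftZ hF σ hsurj b)
      (y := liftX hF σ hsurj a)]
    · rw [← hfB]
      exact conj_central (fB b a).2 _
    · rw [map_mul, map_mul, map_inv, map_liftD, map_liftZ, map_liftZ, gD_conj_gT_zero, hk']
    · rw [map_mul, map_mul, map_inv, map_liftD, map_liftX, map_liftX, gD_conj_gT_x, hk]
  have htriv := pairing_trivial_of_norm_invariant hF hm2 fB hl hr hinv
  obtain ⟨b, hb⟩ := (mem_Zs hF).1 hu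
  obtain ⟨a, b', hab⟩ := (mem_Qs hF).1 hx
  rw [comm_eq_of_map_eq σ hcen (u' := liftZ hF σ hsurj b)
    (v' := liftX hF σ hsurj a * liftZ hF σ hsurj b')
    (by rw [hb, map_liftZ]) (by rw [hab, map_mul, map_liftX, map_liftZ, ← gT_split0])]
  rw [comm_mul_right_of_commute, hZZ, mul_one, ← hfB, htriv]
  · rfl
  · rw [hZZ, mul_one, one_mul]

include hcen in
theorem conj_eq_of_map_eq {g g' : Γ} (h : σ g = σ g') (w : Γ) :
    g * w * g⁻¹ = g' * w * g'⁻¹ := by
  have h1 : g⁻¹ * g' ∈ Subgroup.center Γ := hcen (by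
    rw [MonoidHom.mem_ker, map_mul, map_inv, h, inv_mul_cancel])
  have e : g' = g * (g⁻¹ * g') := by group
  have hc := Subgroup.mem_center_iff.1 h1 w
  rw [e, mul_inv_rev]
  calc g * w * g⁻¹ = g * (w * (g⁻¹ * g')) * (g⁻¹ * g')⁻¹ * g⁻¹ := by group
    _ = g * ((g⁻¹ * g') * w) * (g⁻¹ * g')⁻¹ * g⁻¹ := by rw [hc]
    _ = g * (g⁻¹ * g') * w * ((g⁻¹ * g')⁻¹ * g⁻¹) := by group

include hF hm hsurj hcen in
/-- Step C: for `m ≥ 2` the kernel of a stem extension has no involutions -/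
theorem ker_two_trivial [Finite Γ] (hm2 : 2 ≤ m) (hder : σ.ker ≤ commutator Γ) {z : Γ}
    (hzK : z ∈ σ.ker) (hz2 : z ^ 2 = 1) : z = 1 := by
  classical
  by_contra hz1
  have hfin : Finite (Sz F m) := finite_Sz hF hm
  have h2F := sz_two hF
  obtain ⟨Qt, hQt⟩ : ∃ Qt : Subgroup Γ, Qt = (Qs hF).comap σ := ⟨_, rfl⟩
  obtain ⟨Zt, hZt⟩ : ∃ Zt : Subgroup Γ, Zt = (Zs hF).comap σ := ⟨_, rfl⟩
  have memQt : ∀ x, x ∈ Qt ↔ σ x ∈ Qs hF := by
    intro x; rw [hQt]; rfl
  have memZt : ∀ x, x ∈ Zt ↔ σ x ∈ Zs hF := by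
    intro x; rw [hZt]; rfl
  -- the index of `Qt` is odd
  have hodd : Odd Qt.index := by
    rw [hQt, Subgroup.index_comap_of_surjective _ hsurj, ← coe_QsSylow hF hm]
    haveI : Fact (Nat.Prime 2) := ⟨Nat.prime_two⟩
    have := (QsSylow hF hm).not_dvd_index
    exact Nat.odd_iff.2 (Nat.two_dvd_ne_zero.1 this)
  have hzQ : z ∈ ⁅Qt, Qt⁆ := by
    have h1 := pow_index_mem_commutator Qt (hcen hzK) (hder hzK)
    obtain ⟨n, hn⟩ := hodd
    rw [hn, pow_succ, pow_mul, hz2, one_pow, one_mul] at h1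
    exact h1
  -- basic commutation facts
  have hXQ : ∀ a, σ (liftX hF σ hsurj a) ∈ Qs hF := by
    intro a; rw [map_liftX]; exact gT_mem_Qs hF a 0
  have hZZs : ∀ b, σ (liftZ hF σ hsurj b) ∈ Zs hF := by
    intro b; rw [map_liftZ]; exact (mem_Zs hF).2 ⟨b, rfl⟩
  have hZQ : Zs hF ≤ Qs hF := by
    intro g hg
    obtain ⟨b, rfl⟩ := (mem_Zs hF).1 hg
    exact gT_mem_Qs hF 0 b
  have hcent : ∀ w x, σ w ∈ Zs hF → σ x ∈ Qs hF → w * x = x * w := by
    intro w x hw hx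
    exact commutatorElement_eq_one_iff_mul_comm.1 (zt_central hF hm σ hsurj hcen hm2 hw hx)
  have hcommZ : ∀ x y, σ x ∈ Qs hF → σ y ∈ Qs hF → σ ⁅x, y⁆ ∈ Zs hF := by
    intro x y hx hy
    obtain ⟨a, b, hab⟩ := (mem_Qs hF).1 hx
    obtain ⟨a', b', hab'⟩ := (mem_Qs hF).1 hy
    rw [map_commutatorElement, hab, hab', gT_comm]
    exact (mem_Zs hF).2 ⟨_, rfl⟩
  -- `Zt` is commutative
  haveI hZc : IsMulCommutative Zt := ⟨⟨fun u v => Subtype.ext
    (commutatorElement_eq_one_iff_mul_comm.1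
      (zt_comm hF hm σ hsurj hcen ((memZt _).1 u.2) ((memZt _).1 v.2)))⟩⟩
  -- conjugation by the lifts of the torus
  have hconjmem : ∀ (k : Fˣ) (w : Γ), w ∈ Zt →
      liftD hF σ hsurj k * w * (liftD hF σ hsurj k)⁻¹ ∈ Zt := by
    intro k w hw
    rw [memZt] at hw ⊢
    obtain ⟨b, hb⟩ := (mem_Zs hF).1 hw
    rw [map_mul, map_mul, map_inv, map_liftD, hb, gD_conj_gT_zero]
    exact (mem_Zs hF).2 ⟨_, rfl⟩
  obtain ⟨φ, hφ⟩ : ∃ φ : Fˣ → Zt → Zt, ∀ k w,
      ((φ k w : Zt) : Γ) = liftD hF σ hsurj k * (w : Γ) * (liftD hF σ hsurj k)⁻¹ :=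
    ⟨fun k w => ⟨_, hconjmem k w w.2⟩, fun _ _ => rfl⟩
  have hφmul : ∀ k w w', φ k (w * w') = φ k w * φ k w' := by
    intro k w w'
    apply Subtype.ext
    rw [Subgroup.coe_mul, hφ, hφ, hφ, Subgroup.coe_mul]
    group
  obtain ⟨Φ, hΦ⟩ : ∃ Φ : Zt →* Zt, ∀ w, Φ w = ∏ k : Fˣ, φ k w :=
    ⟨MonoidHom.mk' (fun w => ∏ k : Fˣ, φ k w) (by
      intro w w'
      simp only [hφmul]
      exact Finset.prod_mul_distrib), fun _ => rfl⟩
  -- invariance of `Φ`
  have hΦinv : ∀ (j : Fˣ) (w : Zt), Φ (φ j w) = Φ w := by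
    intro j w
    rw [hΦ, hΦ, ← Equiv.prod_comp (Equiv.mulRight j) (fun k => φ k w)]
    refine Finset.prod_congr rfl fun k _ => ?_
    apply Subtype.ext
    rw [hφ, hφ, hφ, Equiv.coe_mulRight]
    have e : liftD hF σ hsurj k * (liftD hF σ hsurj j * (w : Γ) * (liftD hF σ hsurj j)⁻¹) *
        (liftD hF σ hsurj k)⁻¹ = (liftD hF σ hsurj k * liftD hF σ hsurj j) * (w : Γ) *
        (liftD hF σ hsurj k * liftD hF σ hsurj j)⁻¹ := by group
    rw [e]
    apply conj_eq_of_map_eq σ hcen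
    rw [map_mul, map_liftD, map_liftD, map_liftD, gD_mul]
  -- value of `Φ` on the kernel
  have hzZt : z ∈ Zt := by
    rw [memZt, MonoidHom.mem_ker.1 hzK]
    exact (Zs hF).one_mem
  have hΦz : Φ ⟨z, hzZt⟩ = ⟨z, hzZt⟩ := by
    rw [hΦ]
    have hk : ∀ k : Fˣ, φ k ⟨z, hzZt⟩ = ⟨z, hzZt⟩ := by
      intro k
      apply Subtype.ext
      rw [hφ]
      exact conj_central (hcen hzK) _
    simp only [hk, Finset.prod_const, Finset.card_univ, Fintype.card_units, hF]
    obtain ⟨j, hj⟩ : ∃ j, 2 ^ (2 * m + 1) - 1 = 2 * j + 1 := by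
      refine ⟨2 ^ (2 * m) - 1, ?_⟩
      have : 2 ^ (2 * m + 1) = 2 * 2 ^ (2 * m) := by rw [pow_succ]; ring
      have h1 : 1 ≤ 2 ^ (2 * m) := Nat.one_le_two_pow
      omega
    rw [hj, pow_succ, pow_mul]
    have : (⟨z, hzZt⟩ : Zt) ^ 2 = 1 := by
      apply Subtype.ext
      simpa using hz2
    rw [this, one_pow, one_mul]
  -- the pairing
  have hcXmem : ∀ a a', ⁅liftX hF σ hsurj a, liftX hF σ hsurj a'⁆ ∈ Zt := by
    intro a a'
    rw [memZt]
    exact hcommZ _ _ (hXQ a) (hXQ a')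
  obtain ⟨cX, hcX⟩ : ∃ cX : F → F → Zt, ∀ a a',
      ((cX a a' : Zt) : Γ) = ⁅liftX hF σ hsurj a, liftX hF σ hsurj a'⁆ :=
    ⟨fun a a' => ⟨_, hcXmem a a'⟩, fun _ _ => rfl⟩
  have hsplitQ : ∀ a'' c, σ (liftX hF σ hsurj a'' * liftZ hF σ hsurj c) ∈ Qs hF := by
    intro a'' c
    rw [map_mul]
    exact (Qs hF).mul_mem (hXQ a'') (hZQ (hZZs c))
  have hZone : ∀ c y, σ y ∈ Qs hF → ⁅liftZ hF σ hsurj c, y⁆ = 1 := by
    intro c y hy
    exact zt_central hF hm σ hsurj hcen hm2 (hZZs c) hy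
  have hZone' : ∀ c x, σ x ∈ Qs hF → ⁅x, liftZ hF σ hsurj c⁆ = 1 := by
    intro c x hx
    rw [commutatorElement_eq_one_iff_mul_comm]
    exact (hcent _ _ (hZZs c) hx).symm
  have hcl : ∀ a a'' a', cX (a + a'') a' = cX a a' * cX a'' a' := by
    intro a a'' a'
    rw [mul_comm (cX a a')]
    apply Subtype.ext
    rw [Subgroup.coe_mul, hcX, hcX, hcX]
    rw [comm_eq_of_map_eq σ hcen
      (u' := liftX hF σ hsurj a * (liftX hF σ hsurj a'' * liftZ hF σ hsurj (szθ m a * a'')))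
      (v' := liftX hF σ hsurj a')
      (by rw [map_mul, map_mul, map_liftX, map_liftX, map_liftX, map_liftZ, gT_add_split]) rfl]
    have hc1 : ⁅liftX hF σ hsurj a'' * liftZ hF σ hsurj (szθ m a * a''), liftX hF σ hsurj a'⁆ =
        ⁅liftX hF σ hsurj a'', liftX hF σ hsurj a'⁆ := by
      rw [comm_mul_left_of_commute, hZone _ _ (hXQ a'), one_mul]
      rw [hZone _ _ (hXQ a'), mul_one, one_mul]
    rw [comm_mul_left_of_commute, hc1]
    rw [hc1]
    exact (hcent _ _ (hcommZ _ _ (hXQ a'') (hXQ a')) (hXQ a)).symm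
  have hcr : ∀ a a' a'', cX a (a' + a'') = cX a a' * cX a a'' := by
    intro a a' a''
    apply Subtype.ext
    rw [Subgroup.coe_mul, hcX, hcX, hcX]
    rw [comm_eq_of_map_eq σ hcen (u' := liftX hF σ hsurj a)
      (v' := liftX hF σ hsurj a' * (liftX hF σ hsurj a'' * liftZ hF σ hsurj (szθ m a' * a'')))
      rfl
      (by rw [map_mul, map_mul, map_liftX, map_liftX, map_liftX, map_liftZ, gT_add_split])]
    have hc1 : ⁅liftX hF σ hsurj a, liftX hF σ hsurj a'' * liftZ hF σ hsurj (szθ m a' * a'')⁆ =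
        ⁅liftX hF σ hsurj a, liftX hF σ hsurj a''⁆ := by
      rw [comm_mul_right_of_commute, hZone' _ _ (hXQ a), mul_one]
      rw [hZone' _ _ (hXQ a), mul_one, one_mul]
    rw [comm_mul_right_of_commute, hc1]
    rw [hc1]
    exact (hcent _ _ (hcommZ _ _ (hXQ a) (hXQ a'')) (hXQ a')).symm
  have hcinv : ∀ μ a a', μ ≠ 0 → Φ (cX (μ * a) (μ * a')) = Φ (cX a a') := by
    intro μ a a' hμ
    obtain ⟨k, hk⟩ := exists_unit_sq hF hμ
    have e : cX (μ * a) (μ * a') = φ k (cX a a') := by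
      apply Subtype.ext
      rw [hφ, hcX, hcX]
      apply pair_conj_lift σ hcen
      · rw [map_mul, map_mul, map_inv, map_liftD, map_liftX, map_liftX, gD_conj_gT_x, hk]
      · rw [map_mul, map_mul, map_inv, map_liftD, map_liftX, map_liftX, gD_conj_gT_x, hk]
    rw [e, hΦinv]
  have htriv := pairing_trivial_of_scalar_invariant hF hm (fun a a' => Φ (cX a a'))
    (fun a a'' a' => by simp only [hcl, map_mul])
    (fun a a' a'' => by simp only [hcr, map_mul]) hcinv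
  -- every commutator of `Qt` is killed by `Φ`
  have hle : ⁅Qt, Qt⁆ ≤ (Φ.ker).map Zt.subtype := by
    rw [Subgroup.commutator_le]
    intro x hx y hy
    rw [memQt] at hx hy
    obtain ⟨a, b, hab⟩ := (mem_Qs hF).1 hx
    obtain ⟨a', b', hab'⟩ := (mem_Qs hF).1 hy
    have e : ⁅x, y⁆ = ⁅liftX hF σ hsurj a, liftX hF σ hsurj a'⁆ := by
      rw [comm_eq_of_map_eq σ hcen (u' := liftX hF σ hsurj a * liftZ hF σ hsurj b)
        (v' := liftX hF σ hsurj a' * liftZ hF σ hsurj b')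
        (by rw [hab, map_mul, map_liftX, map_liftZ, ← gT_split0])
        (by rw [hab', map_mul, map_liftX, map_liftZ, ← gT_split0])]
      rw [comm_mul_left_of_commute, hZone _ _ (hsplitQ a' b'), one_mul,
        comm_mul_right_of_commute, hZone' _ _ (hXQ a), mul_one]
      · rw [hZone' _ _ (hXQ a), mul_one, one_mul]
      · rw [hZone _ _ (hsplitQ a' b'), mul_one, one_mul]
    refine ⟨cX a a', ?_, ?_⟩
    · rw [SetLike.mem_coe, MonoidHom.mem_ker]
      exact htriv a a'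
    · rw [e, ← hcX]
      rfl
  obtain ⟨w, hw, hwz⟩ := hle hzQ
  have hw' : w = ⟨z, hzZt⟩ := Subtype.ext hwz
  rw [hw', SetLike.mem_coe, MonoidHom.mem_ker, hΦz] at hw
  exact hz1 (congrArg Subtype.val hw)

include hF hsurj hcen in
/-- every finite stem extension of the Suzuki group over a field with more than eight elements
is trivial -/
theorem sz_stem_ker_trivial [Finite Γ] (hm2 : 2 ≤ m) (hder : σ.ker ≤ commutator Γ) :
    ∀ x ∈ σ.ker, x = 1 := by
  have hm1 : 1 ≤ m := by omega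
  intro x hx
  by_contra hx1
  have hord : orderOf x ≠ 1 := fun h => hx1 (orderOf_eq_one_iff.1 h)
  obtain ⟨p, hp, hpd⟩ := Nat.exists_prime_and_dvd hord
  haveI : Fact p.Prime := ⟨hp⟩
  obtain ⟨j, hj⟩ := hpd
  have hzK : x ^ j ∈ σ.ker := Subgroup.pow_mem _ hx j
  have hzp : (x ^ j) ^ p = 1 := by
    rw [← pow_mul, mul_comm, ← hj, pow_orderOf_eq_one]
  have hz1 : x ^ j ≠ 1 := by
    intro h
    have h1 : orderOf x ∣ j := orderOf_dvd_of_pow_eq_one h
    rw [hj] at h1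
    have hj0 : 0 < j := by
      rcases Nat.eq_zero_or_pos j with h0 | h0
      · rw [h0, mul_zero] at hj
        exact absurd hj (orderOf_pos x).ne'
      · exact h0
    have := Nat.le_of_dvd hj0 h1
    have hp2 := hp.two_le
    nlinarith
  by_cases hp2 : p = 2
  · subst hp2
    exact hz1 (ker_two_trivial hF hm1 σ hsurj hcen hm2 hder hzK hzp)
  · exact hz1 (ker_odd_trivial hF hm1 σ hcen hder hp2 hzK hzp)

end lifts

end Cfsg.Agent.Lib.helper3
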