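import Mathlib
import Cfsg.Agent.Lib.helper8.RSM.Defs
import Cfsg.Agent.Lib.helper4.RSMC1
import Cfsg.Agent.Lib.Helper5.StemQ

/-!
# Project RSM, rows E4 (`proj_mul`) and E6 (`proj_conj`): cores

Both rows only use C1 (landed), `RU.h0_conj` and D4 (`U2_abelian`, taken as a hypothesis `hD4`).
-/

set_option autoImplicit false

namespace Cfsg.Agent.Lib.helper8.RSM

open Cfsg.Agent.Lib.Helper5.Stem
open scoped commutatorElement

universe u v w

variable {G : Type u} [Group G] {K : Type v} [Field K] [Fintype K] {m : ℕ}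
variable {Γ : Type w} [Group Γ] {σ : Γ →* G}

theorem rsme4_inU2_one (RU : ReeU G K m) : RU.InU2 (1 : G) :=
  ⟨0, 0, (x_basic RU).1.symm⟩

theorem rsme4_inU2_mul (RU : ReeU G K m) {g g' : G} (hg : RU.InU2 g) (hg' : RU.InU2 g') :
    RU.InU2 (g * g') := by
  obtain ⟨u, v, rfl⟩ := hg
  obtain ⟨u', v', rfl⟩ := hg'
  exact ⟨u + u', v + v', (x_basic RU).2.1 0 u v u' v'⟩

theorem rsme4_inU2_conj (RU : ReeU G K m) {g : G} (hg : RU.InU2 g) (i : ℕ) :
    RU.InU2 (RU.h0 ^ i * g * (RU.h0 ^ i)⁻¹) := by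
  induction i with
  | zero => simpa using hg
  | succ i ih =>
    obtain ⟨u, v, h⟩ := ih
    refine ⟨nrm m RU.a0 * u, RU.a0 * nrm m RU.a0 * v, ?_⟩
    have h1 := RU.h0_conj 0 u v
    rw [mul_zero] at h1
    rw [← h1, ← h, pow_succ']
    group

theorem rsme4_avg_zero (H0 w : Γ) : avg H0 0 w = 1 := by
  simp [avg]

theorem rsme4_avg_succ (H0 : Γ) (n : ℕ) (w : Γ) :
    avg H0 (n + 1) w = avg H0 n w * (H0 ^ n * w * (H0 ^ n)⁻¹) := by
  simp [avg, List.range_succ]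

theorem rsme4_avg_succ' (H0 : Γ) (n : ℕ) (w : Γ) :
    avg H0 (n + 1) w = w * avg H0 n (H0 * w * H0⁻¹) := by
  unfold avg
  rw [List.range_succ_eq_map, List.map_cons, List.prod_cons, List.map_map]
  congr 1
  · simp
  · congr 1
    apply List.map_congr_left
    intro i _
    simp only [Function.comp_apply, pow_succ]
    group

/-- the conjugates by powers of `H0` of an element over `U₂` lie over `U₂` -/
theorem rsme4_conj_mem (RU : ReeU G K m) (H0 : Γ) (hH0 : σ H0 = RU.h0) {w : Γ}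
    (hw : RU.InU2 (σ w)) (i : ℕ) : RU.InU2 (σ (H0 ^ i * w * (H0 ^ i)⁻¹)) := by
  have := rsme4_inU2_conj RU hw i
  simpa [hH0] using this

/-- the averages of an element over `U₂` lie over `U₂` -/
theorem rsme4_avg_mem (RU : ReeU G K m) (H0 : Γ) (hH0 : σ H0 = RU.h0) {w : Γ}
    (hw : RU.InU2 (σ w)) (n : ℕ) : RU.InU2 (σ (avg H0 n w)) := by
  induction n with
  | zero => rw [rsme4_avg_zero, map_one]; exact rsme4_inU2_one RU
  | succ n ih =>
    rw [rsme4_avg_succ, map_mul]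
    exact rsme4_inU2_mul RU ih (rsme4_conj_mem RU H0 hH0 hw n)

/-- the average is multiplicative on the preimage of `U₂` -/
theorem rsme4_avg_mul (RU : ReeU G K m) (H0 : Γ) (hH0 : σ H0 = RU.h0)
    (hD4 : ∀ g g' : Γ, RU.InU2 (σ g) → RU.InU2 (σ g') → g * g' = g' * g)
    (w w' : Γ) (hw : RU.InU2 (σ w)) (hw' : RU.InU2 (σ w')) (n : ℕ) :
    avg H0 n (w * w') = avg H0 n w * avg H0 n w' := by
  induction n with
  | zero => simp [rsme4_avg_zero]
  | succ n ih =>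
    rw [rsme4_avg_succ, rsme4_avg_succ, rsme4_avg_succ, ih]
    have hc : avg H0 n w' * (H0 ^ n * w * (H0 ^ n)⁻¹) =
        (H0 ^ n * w * (H0 ^ n)⁻¹) * avg H0 n w' :=
      hD4 _ _ (rsme4_avg_mem RU H0 hH0 hw' n) (rsme4_conj_mem RU H0 hH0 hw n)
    have he : H0 ^ n * (w * w') * (H0 ^ n)⁻¹ =
        (H0 ^ n * w * (H0 ^ n)⁻¹) * (H0 ^ n * w' * (H0 ^ n)⁻¹) := by group
    rw [he]
    calc avg H0 n w * avg H0 n w' * ((H0 ^ n * w * (H0 ^ n)⁻¹) * (H0 ^ n * w' * (H0 ^ n)⁻¹))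
        = avg H0 n w * (avg H0 n w' * (H0 ^ n * w * (H0 ^ n)⁻¹)) * (H0 ^ n * w' * (H0 ^ n)⁻¹) := by
          simp only [mul_assoc]
      _ = avg H0 n w * ((H0 ^ n * w * (H0 ^ n)⁻¹) * avg H0 n w') * (H0 ^ n * w' * (H0 ^ n)⁻¹) := by
          rw [hc]
      _ = _ := by simp only [mul_assoc]

/-- E4 with D4 as a hypothesis -/
theorem rsme4_core (RU : ReeU G K m) (H0 : Γ) (hH0 : σ H0 = RU.h0)
    (hD4 : ∀ g g' : Γ, RU.InU2 (σ g) → RU.InU2 (σ g') → g * g' = g' * g)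
    (w w' : Γ) (hw : RU.InU2 (σ w)) (hw' : RU.InU2 (σ w')) :
    proj H0 m (w * w') = proj H0 m w * proj H0 m w' := by
  unfold proj
  rw [rsme4_avg_mul RU H0 hH0 hD4 w w' hw hw', mul_inv_rev]
  have hc := hD4 _ _ (rsme4_avg_mem RU H0 hH0 hw (3 ^ (2 * m + 1) - 1))
    (rsme4_avg_mem RU H0 hH0 hw' (3 ^ (2 * m + 1) - 1))
  have : Commute (avg H0 (3 ^ (2 * m + 1) - 1) w) (avg H0 (3 ^ (2 * m + 1) - 1) w') := hc
  exact (this.inv_inv).symm.eq

/-- E6 for `i = 1`, with D4 as a hypothesis -/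
theorem rsme6_one (RU : ReeU G K m) (H0 : Γ) (hH0 : σ H0 = RU.h0)
    (hD4 : ∀ g g' : Γ, RU.InU2 (σ g) → RU.InU2 (σ g') → g * g' = g' * g)
    (n : ℕ) (hpow : H0 ^ n = 1) (w : Γ) (hw : RU.InU2 (σ w)) :
    avg H0 n (H0 * w * H0⁻¹) = avg H0 n w := by
  have h1 := rsme4_avg_succ H0 n w
  have h2 := rsme4_avg_succ' H0 n w
  rw [hpow, one_mul, inv_one, mul_one] at h1
  have hc : avg H0 n w * w = w * avg H0 n w :=
    hD4 _ _ (rsme4_avg_mem RU H0 hH0 hw n) hw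
  rw [h1, hc] at h2
  exact (mul_left_cancel h2).symm

/-- E6 with D4 as a hypothesis -/
theorem rsme6_core (RU : ReeU G K m) (H0 : Γ) (hH0 : σ H0 = RU.h0)
    (hD4 : ∀ g g' : Γ, RU.InU2 (σ g) → RU.InU2 (σ g') → g * g' = g' * g)
    (hpow : H0 ^ (3 ^ (2 * m + 1) - 1) = 1) (i : ℕ) (w : Γ) (hw : RU.InU2 (σ w)) :
    proj H0 m (H0 ^ i * w * (H0 ^ i)⁻¹) = proj H0 m w := by
  induction i with
  | zero => simp
  | succ i ih =>
    rw [← ih]
    unfold proj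
    congr 1
    have he : H0 ^ (i + 1) * w * (H0 ^ (i + 1))⁻¹ = H0 * (H0 ^ i * w * (H0 ^ i)⁻¹) * H0⁻¹ := by
      rw [pow_succ']; group
    rw [he]
    exact rsme6_one RU H0 hH0 hD4 _ hpow _ (rsme4_conj_mem RU H0 hH0 hw i)

end Cfsg.Agent.Lib.helper8.RSM
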