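import Mathlib
import Cfsg.Agent.Lib.helper8.RSM.Defs
import Cfsg.Agent.Lib.Helper5.StemQ
import Cfsg.Agent.Lib.helper3.RSME4core
import Cfsg.Agent.Lib.Helper29.RSMD4

/-! RSM row E4 (`proj_mul`), helper3: verbatim wrapper of `rsme4_core` on D4 (`U2_abelian`). -/

set_option autoImplicit false

namespace Cfsg.Agent.Lib.helper8.RSM

open Cfsg.Agent.Lib.Helper5.Stem
open scoped commutatorElement

universe u v w

variable {G : Type u} [Group G] {K : Type v} [Field K] [Fintype K] {m : ℕ}
variable {Γ : Type w} [Group Γ] {σ : Γ →* G}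

/-- E4 [M]. All conjugates `H0 ^ i * w * H0 ^ (-i)` lie over `U₂` (C7) and commute (D4), so the
product over `i` is multiplicative; the two averages lie in the centre (E3). -/
theorem proj_mul (RU : ReeU G K m) (hs : Function.Surjective σ)
    (hcen : σ.ker ≤ Subgroup.center Γ) (H0 : Γ) (hH0 : σ H0 = RU.h0) (w w' : Γ)
    (hw : RU.InU2 (σ w)) (hw' : RU.InU2 (σ w')) :
    proj H0 m (w * w') = proj H0 m w * proj H0 m w' :=
  rsme4_core RU H0 hH0 (U2_abelian RU hs hcen) w w' hw hw'

end Cfsg.Agent.Lib.helper8.RSM
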