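import Mathlib
import Cfsg.Agent.Lib.helper8.RSM.Defs
import Cfsg.Agent.Lib.Helper5.StemQ
import Cfsg.Agent.Lib.helper3.RSME4core
import Cfsg.Agent.Lib.Helper29.RSMD4

/-! RSM row E6 (`proj_conj`), helper3: verbatim wrapper of `rsme6_core` on D4 (`U2_abelian`). -/

set_option autoImplicit false

namespace Cfsg.Agent.Lib.helper8.RSM

open Cfsg.Agent.Lib.Helper5.Stem
open scoped commutatorElement

universe u v w

variable {G : Type u} [Group G] {K : Type v} [Field K] [Fintype K] {m : ℕ}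
variable {Γ : Type w} [Group Γ] {σ : Γ →* G}

/-- E6 [M]. Conjugation by `H0` shifts the factors of the average cyclically (`H0 ^ (q-1) = 1`);
they commute (D4).  Induction on `i`. -/
theorem proj_conj (RU : ReeU G K m) (hs : Function.Surjective σ)
    (hcen : σ.ker ≤ Subgroup.center Γ) (H0 : Γ) (hH0 : σ H0 = RU.h0)
    (hpow : H0 ^ (3 ^ (2 * m + 1) - 1) = 1) (i : ℕ) (w : Γ) (hw : RU.InU2 (σ w)) :
    proj H0 m (H0 ^ i * w * (H0 ^ i)⁻¹) = proj H0 m w :=
  rsme6_core RU H0 hH0 (U2_abelian RU hs hcen) hpow i w hw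

end Cfsg.Agent.Lib.helper8.RSM
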