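import Mathlib
import Cfsg.Agent.Lib.helper3.SU5.Defs

/-!
# Project SU5 (endgame, designer helper3): rows I5 `exists_stA` and I6 `xA_add yA_add nA_xA nA_yA relA relA'`, VERBATIM.
-/

set_option autoImplicit false

namespace Cfsg.Agent.Lib.helper3.SU5

open Cfsg.Agent.Lib.helper15.St2 Cfsg.Agent.Lib.Helper27.STU
open Cfsg.Agent.Lib.helper3.STC (ng sws)

universe u v w w₀

namespace Dat

variable {F : Type u} [Field F] [StarRing F] {G : Type w} [Group G] (D : Dat F G)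

theorem su5i5_cj_map (g a : Matrix.SpecialLinearGroup (Fin 2) F) : D.φa (cj g a) = cj (D.φa g) (D.φa a) := by
  unfold cj
  rw [map_mul, map_mul, map_inv]

/-- the rank one system of `φa` -/
def su5i5_stA : St F G where
  X b t := D.φa (stSL.X b t)
  add b t u := by rw [← map_mul, stSL.add]
  rel b t u ht := by
    rw [← map_mul, ← map_mul, ← su5i5_cj_map, stSL.rel b t u ht]

theorem su5i5_x (t : F) : (su5i5_stA D).x t = D.xA t := rfl

theorem su5i5_y (t : F) : (su5i5_stA D).y t = D.yA t := rfl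

theorem su5i5_w : (su5i5_stA D).w 1 = D.nA := by
  rw [St.w_def, su5i5_x, su5i5_y, inv_one]
  rfl

/-- I5 -/
theorem exists_stA : ∃ S : St F G, (∀ t, S.x t = D.xA t) ∧ (∀ t, S.y t = D.yA t) ∧ S.w 1 = D.nA :=
  ⟨su5i5_stA D, su5i5_x D, su5i5_y D, su5i5_w D⟩

/-- I6 -/
theorem xA_add (t u : F) : D.xA t * D.xA u = D.xA (t + u) := (su5i5_stA D).x_add t u

theorem yA_add (t u : F) : D.yA t * D.yA u = D.yA (t + u) := (su5i5_stA D).y_add t u

theorem nA_xA (t : F) : cj D.nA (D.xA t) = D.yA (-t) := by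
  have h := (su5i5_stA D).w_x 1 t one_ne_zero
  rw [su5i5_w, su5i5_x, su5i5_y] at h
  rw [h]
  congr 1
  simp

theorem nA_yA (t : F) : cj D.nA (D.yA t) = D.xA (-t) := by
  have h := (su5i5_stA D).w_y 1 t one_ne_zero
  rw [su5i5_w, su5i5_x, su5i5_y] at h
  rw [h]
  congr 1
  simp

theorem relA (t u : F) (ht : t ≠ 0) : cj (D.xA t * D.yA (-t⁻¹) * D.xA t) (D.xA u) = D.yA (-(t⁻¹ ^ 2 * u)) :=
  (su5i5_stA D).rel true t u ht

theorem relA' (t u : F) (ht : t ≠ 0) : cj (D.yA t * D.xA (-t⁻¹) * D.yA t) (D.yA u) = D.xA (-(t⁻¹ ^ 2 * u)) :=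
  (su5i5_stA D).rel false t u ht

theorem su5i5_xA_zero : D.xA 0 = 1 := (su5i5_stA D).x_zero

theorem su5i5_yA_zero : D.yA 0 = 1 := (su5i5_stA D).y_zero

theorem su5i5_xA_neg (t : F) : D.xA (-t) = (D.xA t)⁻¹ := (su5i5_stA D).x_neg t

theorem su5i5_yA_neg (t : F) : D.yA (-t) = (D.yA t)⁻¹ := (su5i5_stA D).y_neg t

end Dat

end Cfsg.Agent.Lib.helper3.SU5
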