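import Mathlib
import Cfsg.Prelude.Def_Sporadic_a
import Cfsg.Agent.Lib.helper3.Golay
import Cfsg.Agent.Lib.helper3.GolaySteiner
import Cfsg.Agent.Lib.helper3.GolayM24
import Cfsg.Agent.Lib.helper3.GolayAut
import Cfsg.Agent.Lib.helper3.GolayPerm
import Cfsg.Agent.Lib.helper3.GolayCertData
import Cfsg.Agent.Lib.helper3.GolayCert
import Cfsg.Agent.Lib.helper3.GolayOrbits

set_option autoImplicit false

namespace Cfsg.Agent.Lib.helper3

open Cfsg
open scoped Pointwise

/-! ### transitivity on dodecads -/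

def lookupTbl : List ℕ → List (List ℕ) → ℕ → List ℕ
  | k :: ks, t :: ts, x => if k = x then t else lookupTbl ks ts x
  | _, _, _ => []

def dodOK : Bool :=
  (List.range 4096).all fun k =>
    !(popc (golayMask k) == 12 && (List.range 5).all (fun j => (golayMask k).testBit (bIdx j))) ||
      (tblCheck (lookupTbl dodKs dodTbls k) &&
        permMask (lookupTbl dodKs dodTbls k) (golayMask k) == golayMask 51)

set_option maxRecDepth 1000000 in
theorem dodOK_true : dodOK = true := by decide +kernel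

theorem smul_wordsOfWeight_of_mem_M24 {g : Equiv.Perm GolayPt} (hg : g ∈ M24) (n : ℕ) :
    ∀ b ∈ wordsOfWeight (golayCode : Set (GolayPt → ZMod 2)) n,
      g • b ∈ wordsOfWeight (golayCode : Set (GolayPt → ZMod 2)) n := by
  intro b hb
  rw [MulAction.mem_stabilizer_iff] at hg
  refine ⟨?_, by rw [card_smul_finset]; exact hb.2⟩
  rw [← hg]
  exact ⟨b, hb.1, rfl⟩

theorem dodecad_to_base {d : Finset GolayPt} (hd : d ∈ dodecads) :
    ∃ g : Equiv.Perm GolayPt, g ∈ M24 ∧ g • d = gset (golayMask 51) := by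
  have hcard : d.card = 12 := hd.2
  obtain ⟨x, hx⟩ := exists_emb_subset d (by rw [hcard]; omega)
  obtain ⟨g, hg, hgx⟩ := reach_emb x
  have hgd := smul_wordsOfWeight_of_mem_M24 hg 12 d hd
  rw [wordsOfWeight_eq] at hgd
  obtain ⟨k, ⟨hk, hpop⟩, hkd⟩ := hgd
  simp only at hkd
  have hc := dodOK_true
  unfold dodOK at hc
  rw [List.all_eq_true] at hc
  have h1 := hc k (List.mem_range.2 hk)
  have h2 : (popc (golayMask k) == 12 &&
      (List.range 5).all (fun j => (golayMask k).testBit (bIdx j))) = true := by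
    rw [Bool.and_eq_true, beq_iff_eq, List.all_eq_true]
    refine ⟨hpop, fun j hj => ?_⟩
    rw [List.mem_range] at hj
    rw [← gidx_bpt, ← mem_gset, hkd, ← hgx ⟨j, hj⟩]
    exact Finset.smul_mem_smul_finset (hx _)
  rw [h2] at h1
  simp only [Bool.not_true, Bool.false_or, Bool.and_eq_true, beq_iff_eq] at h1
  obtain ⟨hchk, hperm⟩ := h1
  obtain ⟨h, hh, hhf⟩ := exists_perm_of_tblCheck hchk
  obtain ⟨hlen, hlt, -, -⟩ := tblCheck_spec hchk
  have hsm := smul_gset_permMask hlt hlen h hhf (golayMask k)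
  rw [hperm] at hsm
  refine ⟨h⁻¹ * g, M24.mul_mem (M24.inv_mem hh) hg, ?_⟩
  rw [mul_smul, ← hkd, ← hsm, inv_smul_smul]

theorem dodecads_transitive {d d' : Finset GolayPt} (hd : d ∈ dodecads) (hd' : d' ∈ dodecads) :
    ∃ g : M24, g • d = d' := by
  obtain ⟨g, hg, h⟩ := dodecad_to_base hd
  obtain ⟨g', hg', h'⟩ := dodecad_to_base hd'
  refine ⟨⟨g'⁻¹ * g, M24.mul_mem (M24.inv_mem hg') hg⟩, ?_⟩
  change (g'⁻¹ * g) • d = d'
  rw [mul_smul, h, ← h', inv_smul_smul]

end Cfsg.Agent.Lib.helper3
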