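import Mathlib
import Cfsg.Agent.Lib.helper3.SU5.Defs

/-!
# Project SU5 (endgame, designer helper3): row N0 `nB_xA nB_yA nB_xD nB_yD nA_xC nA_yC`, VERBATIM.
-/

set_option autoImplicit false

namespace Cfsg.Agent.Lib.helper3.SU5

open Cfsg.Agent.Lib.helper15.St2 Cfsg.Agent.Lib.Helper27.STU
open Cfsg.Agent.Lib.helper3.STC (ng sws)

universe u v w w₀

namespace Dat

variable {F : Type u} [Field F] [StarRing F] {G : Type w} [Group G] (D : Dat F G)

theorem su5n0_star_ne (hT : Tab5 D) : star D.ξ₀.c ≠ 0 := fun h => hT.c0 (by simpa using congrArg star h)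

theorem nB_xA (hT : Tab5 D) (t : F) : cj D.nB (D.xA t) = D.xD (star D.ξ₀.c * t) := by
  have h := su5n0_star_ne D hT
  unfold xD
  congr 2
  field_simp

theorem nB_yA (hT : Tab5 D) (t : F) : cj D.nB (D.yA t) = D.yD ((star D.ξ₀.c)⁻¹ * t) := by
  have h := su5n0_star_ne D hT
  unfold yD
  congr 2
  field_simp

theorem nB_xD (hT : Tab5 D) (t : F) : cj D.nB (D.xD t) = D.xA (t / D.ξ₀.c) := by
  have h := su5n0_star_ne D hT
  have h0 := hT.c0
  unfold xD
  rw [cj_cj, hT.b2_xA]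
  congr 1
  field_simp

theorem nB_yD (hT : Tab5 D) (t : F) : cj D.nB (D.yD t) = D.yA (D.ξ₀.c * t) := by
  have h := su5n0_star_ne D hT
  have h0 := hT.c0
  unfold yD
  rw [cj_cj, hT.b2_yA]
  congr 1
  field_simp

theorem nA_xC (hT : Tab5 D) (ξ : Lam F True) : cj D.nA (D.xC ξ) = D.xB (Lam.act (-1) ξ) := by
  unfold xC
  rw [cj_cj, hT.a2_xB]

theorem nA_yC (hT : Tab5 D) (ξ : Lam F True) : cj D.nA (D.yC ξ) = D.yB (Lam.act (-1) ξ) := by
  unfold yC
  rw [cj_cj, hT.a2_yB]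

end Dat

end Cfsg.Agent.Lib.helper3.SU5
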