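import Mathlib
import Cfsg.Agent.Lib.Helper20.S3571.Defs

/-!
# Project S3571 (helper20), piece C3 : `preprimitive_of_cycle`  (helper3)

A transitive permutation group of degree `m` containing a cycle of prime length `p > m / 2` is
primitive: a block meeting the support of the cycle either is fixed by the cycle, then it contains
the support and is everything, or it has `p` pairwise different translates, then it is a point.
-/

set_option autoImplicit false

namespace Cfsg.Agent.Lib.Helper20.S3571
open Equiv MulAction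
open scoped Pointwise

/-- a block (nonempty, meeting the support of the cycle) that is fixed by the cycle is everything -/
theorem h3c3_fixed (m : ℕ) (H : Subgroup (Perm (Fin m)))
    [MulAction.IsPretransitive ↥H (Fin m)] (c : Perm (Fin m)) (hcH : c ∈ H)
    (hc : c.IsCycle) (hc2 : m < 2 * c.support.card) (B : Set (Fin m)) (hB : IsBlock ↥H B)
    (x₀ : Fin m) (hx₀ : x₀ ∈ c.support) (hx₀B : x₀ ∈ B)
    (hfix : (⟨c, hcH⟩ : ↥H) • B = B) : B = Set.univ := by
  have hpow : ∀ k : ℕ, ((⟨c, hcH⟩ : ↥H) ^ k) • B = B := by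
    intro k
    induction k with
    | zero => simp
    | succ j ih => rw [pow_succ, mul_smul, hfix, ih]
  have hsub : (c.support : Set (Fin m)) ⊆ B := by
    intro y hy
    have hy' : y ∈ c.support := hy
    obtain ⟨k, hk⟩ := (hc.sameCycle (Equiv.Perm.mem_support.1 hx₀)
      (Equiv.Perm.mem_support.1 hy')).exists_nat_pow_eq
    have : y ∈ ((⟨c, hcH⟩ : ↥H) ^ k) • B := by
      refine ⟨x₀, hx₀B, ?_⟩
      rw [← hk]
      rfl
    rwa [hpow k] at this
  apply hB.eq_univ_of_card_lt
  have h1 : c.support.card ≤ B.ncard := by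
    rw [← Set.ncard_coe_finset]
    exact Set.ncard_le_ncard hsub (Set.toFinite B)
  rw [Nat.card_eq_fintype_card, Fintype.card_fin]
  omega

/-- a block moved by the cycle has at least `p` translates -/
theorem h3c3_moved (m : ℕ) (H : Subgroup (Perm (Fin m)))
    (c : Perm (Fin m)) (hcH : c ∈ H)
    (hc : c.IsCycle) (hcp : (c.support.card).Prime) (B : Set (Fin m)) (hB : IsBlock ↥H B)
    (hmove : (⟨c, hcH⟩ : ↥H) • B ≠ B) : c.support.card ≤ (orbit ↥H B).ncard := by
  set p := c.support.card with hp
  set c' : ↥H := ⟨c, hcH⟩ with hc'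
  have hord : orderOf c = p := hc.orderOf
  have hpowp : c' ^ p = 1 := by
    apply Subtype.ext
    rw [Subgroup.coe_pow, Subgroup.coe_one, ← hord]
    exact pow_orderOf_eq_one c
  have hpowB : ∀ k : ℕ, (c' ^ k) • B = B → p ∣ k := by
    intro k hk
    by_contra hnd
    have hcop : Nat.Coprime k p := ((Nat.Prime.coprime_iff_not_dvd hcp).2 hnd).symm
    -- some power of `c' ^ k` is `c'`
    obtain ⟨a, b, hab⟩ : ∃ a b : ℕ, k * a = p * b + 1 := by
      have hp1 : 1 < p := hcp.one_lt
      obtain ⟨a, -, ha⟩ := Nat.exists_mul_mod_eq_one_of_coprime hcop hp1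
      refine ⟨a, k * a / p, ?_⟩
      have := Nat.div_add_mod (k * a) p
      rw [ha] at this
      omega
    have hfix : ∀ j : ℕ, ((c' ^ k) ^ j) • B = B := by
      intro j
      induction j with
      | zero => simp
      | succ i ih => rw [pow_succ, mul_smul, hk, ih]
    have h1 := hfix a
    rw [← pow_mul, hab, pow_succ, pow_mul, hpowp, one_pow, one_mul] at h1
    exact hmove h1
  -- the `p` translates are pairwise different
  let f : Fin p → Set (Fin m) := fun j => (c' ^ (j : ℕ)) • B
  have hinj : Function.Injective f := by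
    intro i j hij
    by_contra hne
    wlog hlt : (i : ℕ) < (j : ℕ) generalizing i j
    · refine this hij.symm (Ne.symm hne) ?_
      have : (i : ℕ) ≠ (j : ℕ) := fun h => hne (Fin.ext h)
      omega
    have heq : (c' ^ (i : ℕ)) • B = (c' ^ (j : ℕ)) • B := hij
    have hj : (j : ℕ) = (i : ℕ) + ((j : ℕ) - (i : ℕ)) := by omega
    rw [hj, pow_add, mul_smul] at heq
    have h2 : (c' ^ ((j : ℕ) - (i : ℕ))) • B = B := by
      have := congrArg (fun S => (c' ^ (i : ℕ))⁻¹ • S) heq
      simp only [inv_smul_smul] at this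
      exact this.symm
    have h3 := hpowB _ h2
    have h4 : (j : ℕ) - (i : ℕ) < p := by
      have := j.isLt
      omega
    have h5 := Nat.le_of_dvd (by omega) h3
    omega
  have hsub : Set.range f ⊆ orbit ↥H B := by
    rintro S ⟨j, rfl⟩
    exact ⟨c' ^ (j : ℕ), rfl⟩
  have hfin : (orbit ↥H B).Finite := Set.toFinite _
  have hcard : (Set.range f).ncard = p := by
    rw [Set.ncard_range_of_injective hinj, Nat.card_eq_fintype_card, Fintype.card_fin]
  rw [← hcard]
  exact Set.ncard_le_ncard hsub hfin

/-- C3: a transitive group containing a cycle of prime length `> m/2` is primitive. -/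
theorem preprimitive_of_cycle (m : ℕ) (H : Subgroup (Perm (Fin m)))
    (hHt : MulAction.IsPretransitive ↥H (Fin m)) (c : Perm (Fin m)) (hcH : c ∈ H)
    (hc : c.IsCycle) (hcp : (c.support.card).Prime) (hc2 : m < 2 * c.support.card) :
    MulAction.IsPreprimitive ↥H (Fin m) := by
  have := hHt
  refine { isTrivialBlock_of_isBlock := ?_ }
  intro B hB
  rcases Set.eq_empty_or_nonempty B with hBe | ⟨b, hb⟩
  · left
    rw [hBe]
    exact Set.subsingleton_empty
  -- a point of the support
  obtain ⟨x₀, hx₀⟩ : c.support.Nonempty := by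
    rw [← Finset.card_pos]
    exact hcp.pos
  obtain ⟨h, hh⟩ := MulAction.exists_smul_eq ↥H b x₀
  rw [← IsTrivialBlock.smul_iff h]
  have hB' : IsBlock ↥H (h • B) := hB.translate h
  have hx₀B : x₀ ∈ h • B := ⟨b, hb, hh⟩
  by_cases hfix : (⟨c, hcH⟩ : ↥H) • (h • B) = h • B
  · right
    exact h3c3_fixed m H c hcH hc hc2 (h • B) hB' x₀ hx₀ hx₀B hfix
  · left
    apply hB'.subsingleton_of_card_lt
    have := h3c3_moved m H c hcH hc hcp (h • B) hB' hfix
    rw [Nat.card_eq_fintype_card, Fintype.card_fin]
    omega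

end Cfsg.Agent.Lib.Helper20.S3571
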