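import Mathlib
import Cfsg.Agent.Lib.Helper20.S3571.Defs

/-!
# Project S3571 (helper20), piece C8 : `exists_perm_fixing`  (helper3)

An even permutation of prime order `r` with exactly `i` fixed points, built from the cycle type
`r, r, …, r` (`(m - i) / r` times).
-/

set_option autoImplicit false

namespace Cfsg.Agent.Lib.Helper20.S3571
open Equiv

theorem h3c8_lcm_replicate (k r : ℕ) (hk : 0 < k) : (Multiset.replicate k r).lcm = r := by
  induction k with
  | zero => omega
  | succ j ih =>
    rcases Nat.eq_zero_or_pos j with hj | hj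
    · subst hj
      simp
    · rw [Multiset.replicate_succ, Multiset.lcm_cons, ih hj]
      simp

/-- C8: an even permutation of prime order `r` with exactly `i` fixed points. -/
theorem exists_perm_fixing (m r i : ℕ) (hr : r.Prime) (him : i < m) (hd : r ∣ m - i)
    (hpar : r ≠ 2 ∨ 4 ∣ m - i) :
    ∃ a : Perm (Fin m), a ∈ alternatingGroup (Fin m) ∧ orderOf a = r ∧
      (Finset.univ.filter (fun x => a x = x)).card = i := by
  obtain ⟨k, hk⟩ := hd
  have hk0 : 0 < k := by
    rcases Nat.eq_zero_or_pos k with h | h
    · rw [h, mul_zero] at hk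
      omega
    · exact h
  have hr2 : 2 ≤ r := hr.two_le
  obtain ⟨a, ha⟩ := (Equiv.Perm.exists_with_cycleType_iff (α := Fin m)
    (m := Multiset.replicate k r)).2 (by
      refine ⟨?_, ?_⟩
      · rw [Multiset.sum_replicate, Fintype.card_fin, smul_eq_mul, mul_comm, ← hk]
        omega
      · intro x hx
        rw [Multiset.eq_of_mem_replicate hx]
        exact hr2)
  refine ⟨a, ?_, ?_, ?_⟩
  · rw [Equiv.Perm.mem_alternatingGroup, Equiv.Perm.sign_of_cycleType, ha, Multiset.sum_replicate,
      Multiset.card_replicate, smul_eq_mul]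
    have heven : Even (k * r + k) := by
      rcases hpar with h2 | h4
      · have hodd : Odd r := hr.odd_of_ne_two h2
        obtain ⟨j, hj⟩ := hodd
        exact ⟨k * (j + 1), by rw [hj]; ring⟩
      · by_cases h2 : r = 2
        · subst h2
          rw [hk] at h4
          have : 2 ∣ k := by omega
          obtain ⟨j, hj⟩ := this
          exact ⟨3 * j, by rw [hj]; ring⟩
        · have hodd : Odd r := hr.odd_of_ne_two h2
          obtain ⟨j, hj⟩ := hodd
          exact ⟨k * (j + 1), by rw [hj]; ring⟩
    exact heven.neg_one_pow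
  · rw [← Equiv.Perm.lcm_cycleType, ha, h3c8_lcm_replicate k r hk0]
  · have hfix : Finset.univ.filter (fun x => a x = x) = a.supportᶜ := by
      ext x
      simp [Equiv.Perm.mem_support]
    have hsupp : a.support.card = m - i := by
      rw [← Equiv.Perm.sum_cycleType, ha, Multiset.sum_replicate, smul_eq_mul, mul_comm, ← hk]
    rw [hfix, Finset.card_compl, hsupp, Fintype.card_fin]
    omega

end Cfsg.Agent.Lib.Helper20.S3571
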