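import Mathlib
import Cfsg.Agent.Lib.helper3.S5953.Defs
import Cfsg.Agent.Lib.Lead.HermCount
import Cfsg.Prelude.Def_LieClassical
import Cfsg.Agent.Lib.Helper11.S5953T10
import Cfsg.Agent.Lib.Helper25.S5953T4

set_option autoImplicit false

/-!
# Project S5953, row T11 (`genline`), VERBATIM (helper3)

An invariant `M` killed by an irreducible `f` of odd degree `t` with `2 t ≤ dim M` contains `v ≠ 0` whose cyclic
submodule is totally isotropic.  Counting proof: otherwise `M` is non-degenerate, every cyclic submodule is a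
non-degenerate `t`-space, `M \ 0` is their disjoint union, and the numbers of (isotropic) vectors do not match.
-/

namespace Cfsg.Agent.Lib.helper3.S5953

open Polynomial Module
open Cfsg.Agent.Lib.Helper24

/-- the cyclic submodule generated by `v` -/
def s5953t11_L {F V : Type*} [Field F] [AddCommGroup V] [Module F V] (x : Module.End F V) (v : V) :
    Submodule F V :=
  Submodule.span F (Set.range (fun a : ℕ => (x ^ a) v))

theorem s5953t11_pow_mem {F V : Type*} [Field F] [AddCommGroup V] [Module F V] (x : Module.End F V)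
    (v : V) (a : ℕ) : (x ^ a) v ∈ s5953t11_L x v :=
  Submodule.subset_span ⟨a, rfl⟩

theorem s5953t11_mem {F V : Type*} [Field F] [AddCommGroup V] [Module F V] (x : Module.End F V)
    (v : V) : v ∈ s5953t11_L x v := by
  have := s5953t11_pow_mem x v 0
  simpa using this

theorem s5953t11_inv {F V : Type*} [Field F] [AddCommGroup V] [Module F V] (x : Module.End F V)
    (v : V) : ElInv x (s5953t11_L x v) := by
  intro w hw
  unfold s5953t11_L at hw ⊢
  induction hw using Submodule.span_induction with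
  | mem w hw =>
    obtain ⟨a, rfl⟩ := hw
    apply Submodule.subset_span
    refine ⟨a + 1, ?_⟩
    show (x ^ (a + 1)) v = x ((x ^ a) v)
    rw [pow_succ', Module.End.mul_apply]
  | zero => rw [map_zero]; exact Submodule.zero_mem _
  | add u w _ _ hu hw => rw [map_add]; exact Submodule.add_mem _ hu hw
  | smul c u _ hu => rw [map_smul]; exact Submodule.smul_mem _ c hu

theorem s5953t11_le {F V : Type*} [Field F] [AddCommGroup V] [Module F V] {x : Module.End F V}
    {M : Submodule F V} (hM : ElInv x M) {v : V} (hv : v ∈ M) : s5953t11_L x v ≤ M := by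
  unfold s5953t11_L
  rw [Submodule.span_le]
  rintro _ ⟨a, rfl⟩
  exact el_pow_mem hM a hv

/-- the cyclic submodule of a vector killed by `f` has dimension at most `deg f` -/
theorem s5953t11_dim_le {F V : Type*} [Field F] [AddCommGroup V] [Module F V]
    [FiniteDimensional F V] (x : Module.End F V) (v : V) (f : F[X]) (hf : f.natDegree ≠ 0)
    (hfv : aeval x f v = 0) : finrank F (s5953t11_L x v) ≤ f.natDegree := by
  have hle : s5953t11_L x v ≤
      Submodule.span F (Set.range (fun k : Fin f.natDegree => (x ^ (k : ℕ)) v)) := by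
    unfold s5953t11_L
    rw [Submodule.span_le]
    rintro _ ⟨a, rfl⟩
    obtain ⟨g, ρ, hρ, h1⟩ : ∃ g ρ : F[X], ρ.natDegree < f.natDegree ∧ (X : F[X]) ^ a = g * f + ρ :=
      ⟨X ^ a / f, X ^ a % f, Polynomial.natDegree_mod_lt _ hf,
        (EuclideanDomain.div_add_mod' _ _).symm⟩
    have h2 : (x ^ a) v = aeval x ρ v := by
      have h3 : (x ^ a) v = aeval x ((X : F[X]) ^ a) v := by rw [map_pow, aeval_X]
      rw [h3, h1, map_add, map_mul, LinearMap.add_apply, Module.End.mul_apply, hfv,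
        map_zero, zero_add]
    show (x ^ a) v ∈ _
    rw [h2]
    exact el_low_mem x v f.natDegree _ hρ
  calc finrank F (s5953t11_L x v)
      ≤ finrank F (Submodule.span F (Set.range (fun k : Fin f.natDegree => (x ^ (k : ℕ)) v))) :=
        Submodule.finrank_mono hle
    _ ≤ Fintype.card (Fin f.natDegree) := finrank_range_le_card _
    _ = f.natDegree := Fintype.card_fin _

/-- invariant subspaces of a module killed by an irreducible `f` have dimension divisible by `deg f` -/
theorem s5953t11_dvd {F V : Type*} [Field F] [AddCommGroup V] [Module F V]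
    [FiniteDimensional F V] (x : Module.End F V) (f : F[X]) (hirr : Irreducible f)
    (U : Submodule F V) (hU : ElInv x U) (hkill : ∀ u ∈ U, aeval x f u = 0) :
    f.natDegree ∣ finrank F U := by
  have hpos : 0 < f.natDegree := hirr.natDegree_pos
  refine el_dvd_dim x U hU f hirr.ne_zero hkill f.natDegree hpos ?_
  intro P hP hPf
  have hass : Associated P f := hP.associated_of_dvd hirr hPf
  exact Polynomial.natDegree_eq_of_degree_eq (Polynomial.degree_eq_degree_of_associated hass)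


/-- the number of non-zero vectors of a subspace -/
theorem s5953t11_ncard_sub {F : Type*} [Field F] [Fintype F] {n : ℕ} (N : Submodule F (Fin n → F)) :
    {v : Fin n → F | v ∈ N ∧ v ≠ 0}.ncard = Fintype.card F ^ finrank F N - 1 := by
  classical
  have h1 : {v : Fin n → F | v ∈ N ∧ v ≠ 0} = (N : Set (Fin n → F)) \ {0} := by
    ext v
    simp
  rw [h1, Set.ncard_sdiff_singleton_of_mem (Submodule.zero_mem N)]
  congr 1
  rw [← Nat.card_coe_set_eq]
  have h2 : Nat.card ↥N = Fintype.card F ^ finrank F N := by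
    rw [Nat.card_eq_fintype_card]
    exact Module.card_eq_pow_finrank
  exact h2

/-- the number of non-zero isotropic vectors of a non-degenerate subspace -/
theorem s5953t11_ncard_iso {F : Type*} [Field F] [Fintype F] {q n : ℕ} (hF : Fintype.card F = q ^ 2)
    (N : Submodule F (Fin n → F)) (hN : HND q N) :
    {v : Fin n → F | v ∈ N ∧ v ≠ 0 ∧ hermI (Fin n) F q v v = 0}.ncard =
      (Cfsg.Agent.Lib.Lead.hermAB q (finrank F N)).1 - 1 := by
  classical
  have h1 : {v : Fin n → F | v ∈ N ∧ v ≠ 0 ∧ hermI (Fin n) F q v v = 0} =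
      {v : Fin n → F | v ∈ N ∧ hermI (Fin n) F q v v = 0} \ {0} := by
    ext v
    simp only [Set.mem_ofPred_eq, Set.mem_sdiff, Set.mem_singleton_iff]
    tauto
  have h0 : (0 : Fin n → F) ∈ {v : Fin n → F | v ∈ N ∧ hermI (Fin n) F q v v = 0} :=
    ⟨Submodule.zero_mem N, hermI_zero_left q 0⟩
  rw [h1, Set.ncard_sdiff_singleton_of_mem h0]
  congr 1
  rw [← iso_count hF N hN, ← Nat.card_coe_set_eq]
  rfl

/-- the arithmetic contradiction -/
theorem s5953t11_arith (q t d : ℕ) (hq : 2 ≤ q) (ht : Odd t) (htd : t < d) (At Ad k : ℕ)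
    (hAt1 : 1 ≤ At) (hAd1 : 1 ≤ Ad)
    (hAt : (q : ℤ) * (At : ℤ) = (q : ℤ) ^ (2 * t) + (-1) ^ t * ((q : ℤ) ^ (t + 1) - (q : ℤ) ^ t))
    (hAd : (q : ℤ) * (Ad : ℤ) = (q : ℤ) ^ (2 * d) + (-1) ^ d * ((q : ℤ) ^ (d + 1) - (q : ℤ) ^ d))
    (h1 : (q ^ 2) ^ d - 1 = k * ((q ^ 2) ^ t - 1)) (h2 : Ad - 1 = k * (At - 1)) : False := by
  have hqt : 1 ≤ (q ^ 2) ^ t := Nat.one_le_pow _ _ (by positivity)
  have hqd : 1 ≤ (q ^ 2) ^ d := Nat.one_le_pow _ _ (by positivity)
  have h1' : ((q : ℤ) ^ d) ^ 2 - 1 = (k : ℤ) * (((q : ℤ) ^ t) ^ 2 - 1) := by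
    have := congrArg (Nat.cast : ℕ → ℤ) h1
    push_cast [Nat.cast_sub hqt, Nat.cast_sub hqd] at this
    rw [← pow_mul, ← pow_mul, mul_comm d 2, mul_comm t 2]
    rw [← pow_mul, ← pow_mul] at this
    exact this
  have h2' : (Ad : ℤ) - 1 = (k : ℤ) * ((At : ℤ) - 1) := by
    have := congrArg (Nat.cast : ℕ → ℤ) h2
    push_cast [Nat.cast_sub hAt1, Nat.cast_sub hAd1] at this
    exact this
  set a : ℤ := (q : ℤ) ^ t with ha
  set D : ℤ := (q : ℤ) ^ d with hD
  have hAt' : (q : ℤ) * (At : ℤ) = a ^ 2 - ((q : ℤ) * a - a) := by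
    rw [hAt, ht.neg_one_pow, pow_succ, pow_mul', ← ha]
    ring
  obtain ⟨e, he, hAd'⟩ : ∃ e : ℤ, (e = 1 ∨ e = -1) ∧
      (q : ℤ) * (Ad : ℤ) = D ^ 2 + e * ((q : ℤ) * D - D) := by
    refine ⟨(-1) ^ d, neg_one_pow_eq_or ℤ d, ?_⟩
    rw [hAd, pow_succ, pow_mul', ← hD]
    ring
  have hEq : (D ^ 2 - 1) * ((At : ℤ) - 1) = (a ^ 2 - 1) * ((Ad : ℤ) - 1) := by
    rw [h1', h2']
    ring
  have key : ((q : ℤ) - 1) * (a + 1) * (D ^ 2 + e * D * (a - 1) - a) = 0 := by
    linear_combination (-(q : ℤ)) * hEq + (D ^ 2 - 1) * hAt' - (a ^ 2 - 1) * hAd'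
  have hq' : (2 : ℤ) ≤ (q : ℤ) := by exact_mod_cast hq
  have ha1 : (1 : ℤ) ≤ a := by
    rw [ha]
    exact one_le_pow₀ (by linarith)
  have hDa : a + 1 ≤ D := by
    have h3 : q ^ t < q ^ d := Nat.pow_lt_pow_right (by omega) htd
    have h4 : ((q ^ t : ℕ) : ℤ) < ((q ^ d : ℕ) : ℤ) := by exact_mod_cast h3
    push_cast at h4
    rw [ha, hD]
    linarith
  have hpos : 0 < D ^ 2 + e * D * (a - 1) - a := by
    rcases he with rfl | rfl
    · nlinarith
    · nlinarith
  have h5 : 0 < ((q : ℤ) - 1) * (a + 1) * (D ^ 2 + e * D * (a - 1) - a) := by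
    have h6 : 0 < ((q : ℤ) - 1) * (a + 1) := by nlinarith
    exact mul_pos h6 hpos
  linarith


/-- T11 [L] GENLINE: an invariant `M` killed by an irreducible `f` of ODD degree `t` with
`2 t ≤ dim M` contains `v ≠ 0` whose cyclic submodule is totally isotropic (counting isotropic vectors:
otherwise every cyclic submodule is a non-degenerate `t`-space and `M \ 0` is their disjoint union). -/
theorem genline {F : Type*} [Field F] [Fintype F] {q n : ℕ} (hF : Fintype.card F = q ^ 2)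
    {r : ℕ} (hr : 0 < r) {z : F} {x : Module.End F (Fin n → F)} (h : HCtx q r z x)
    (M : Submodule F (Fin n → F)) (hM : HInv x M) (f : F[X]) (hirr : Irreducible f)
    (ht : Odd f.natDegree) (hkill : ∀ u ∈ M, aeval x f u = 0)
    (hdim : 2 * f.natDegree ≤ finrank F M) :
    ∃ v ∈ M, v ≠ 0 ∧ ∀ a b : ℕ, hermI (Fin n) F q ((x ^ a) v) ((x ^ b) v) = 0 := by
  classical
  by_contra hcon
  push_neg at hcon
  have hq2 := Cfsg.Agent.Lib.Lead.two_le_q hF
  obtain ⟨t, ht_def⟩ : ∃ t, t = f.natDegree := ⟨_, rfl⟩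
  rw [← ht_def] at ht hdim
  have htpos : 0 < t := ht.pos
  have hfne : f.natDegree ≠ 0 := by rw [← ht_def]; exact htpos.ne'
  -- (A) `M` is non-degenerate
  have hMnd : HND q M := by
    intro u hu hall
    by_contra hu0
    obtain ⟨a, b, hab⟩ := hcon u hu hu0
    apply hab
    have hpi := perp_inv hr h M hM
    have hu' : u ∈ hperp q M := hall
    exact (el_pow_mem hpi a hu') _ (el_pow_mem hM b hu)
  -- (B) the dimension of the cyclic submodules
  have hLdim : ∀ v ∈ M, v ≠ 0 → finrank F (s5953t11_L x v) = t := by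
    intro v hv hv0
    have hle := s5953t11_dim_le x v f hfne (hkill v hv)
    have hdvd := s5953t11_dvd x f hirr _ (s5953t11_inv x v)
      (fun u hu => hkill u (s5953t11_le hM hv hu))
    rw [← ht_def] at hle hdvd
    have hpos : 0 < finrank F (s5953t11_L x v) := by
      rw [Module.finrank_pos_iff_exists_ne_zero]
      exact ⟨⟨v, s5953t11_mem x v⟩, fun h0 => hv0 (congrArg Subtype.val h0)⟩
    exact Nat.le_antisymm hle (Nat.le_of_dvd hpos hdvd)
  have hmin : ∀ v ∈ M, v ≠ 0 → ∀ U : Submodule F (Fin n → F), U ≤ s5953t11_L x v → ElInv x U →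
      U ≠ ⊥ → U = s5953t11_L x v := by
    intro v hv hv0 U hUL hU hU0
    apply Submodule.eq_of_le_of_finrank_le hUL
    rw [hLdim v hv hv0]
    have hdvd := s5953t11_dvd x f hirr U hU
      (fun u hu => hkill u (s5953t11_le hM hv (hUL hu)))
    rw [← ht_def] at hdvd
    have hpos : 0 < finrank F U :=
      Nat.pos_of_ne_zero (fun h0 => hU0 (Submodule.finrank_eq_zero.mp h0))
    exact Nat.le_of_dvd hpos hdvd
  have hsame : ∀ v ∈ M, v ≠ 0 → ∀ w ∈ s5953t11_L x v, w ≠ 0 →
      s5953t11_L x w = s5953t11_L x v := by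
    intro v hv hv0 w hw hw0
    apply hmin v hv hv0 _ (s5953t11_le (s5953t11_inv x v) hw) (s5953t11_inv x w)
    intro hbot
    have hmem := s5953t11_mem x w
    rw [hbot] at hmem
    exact hw0 ((Submodule.mem_bot F).mp hmem)
  -- (C) the cyclic submodules are non-degenerate
  have hLnd : ∀ v ∈ M, v ≠ 0 → HND q (s5953t11_L x v) := by
    intro v hv hv0
    have hLinv : ElInv x (s5953t11_L x v) := s5953t11_inv x v
    have hRinv : ElInv x (s5953t11_L x v ⊓ hperp q (s5953t11_L x v)) :=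
      el_inv_inf hLinv (perp_inv hr h _ hLinv)
    by_cases hR : s5953t11_L x v ⊓ hperp q (s5953t11_L x v) = ⊥
    · intro u hu hall
      have hmem : u ∈ s5953t11_L x v ⊓ hperp q (s5953t11_L x v) := ⟨hu, hall⟩
      rw [hR] at hmem
      exact (Submodule.mem_bot F).mp hmem
    · exfalso
      have hReq := hmin v hv hv0 _ inf_le_left hRinv hR
      obtain ⟨a, b, hab⟩ := hcon v hv hv0
      apply hab
      have h1 : (x ^ a) v ∈ s5953t11_L x v ⊓ hperp q (s5953t11_L x v) := by
        rw [hReq]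
        exact s5953t11_pow_mem x v a
      exact h1.2 _ (s5953t11_pow_mem x v b)
  -- counting
  obtain ⟨d, hd_def⟩ : ∃ d, d = finrank F M := ⟨_, rfl⟩
  rw [← hd_def] at hdim
  let S : Finset (Fin n → F) := Finset.univ.filter (fun v => v ∈ M ∧ v ≠ 0)
  let φ : (Fin n → F) → Submodule F (Fin n → F) := fun v => s5953t11_L x v
  let T : Finset (Submodule F (Fin n → F)) := S.image φ
  let Z : Finset (Fin n → F) := S.filter (fun v => hermI (Fin n) F q v v = 0)
  have hS := Finset.card_eq_sum_card_fiberwise (f := φ) (s := S) (t := T)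
    (fun v hv => Finset.mem_image_of_mem φ hv)
  have hZ := Finset.card_eq_sum_card_fiberwise (f := φ) (s := Z) (t := T)
    (fun v hv => Finset.mem_image_of_mem φ (Finset.mem_filter.mp hv).1)
  have hSmem : ∀ v, v ∈ S ↔ v ∈ M ∧ v ≠ 0 := by
    intro v
    simp only [S, Finset.mem_filter, Finset.mem_univ, true_and]
  have hfibS : ∀ Lb ∈ T, (S.filter (fun v => φ v = Lb)).card = (q ^ 2) ^ t - 1 := by
    intro Lb hLb
    obtain ⟨v0, hv0S, rfl⟩ := Finset.mem_image.mp hLb
    obtain ⟨hv0M, hv00⟩ := (hSmem v0).mp hv0S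
    rw [← Set.ncard_coe_finset]
    have hset : ((S.filter (fun v => φ v = φ v0) : Finset (Fin n → F)) : Set (Fin n → F)) =
        {v | v ∈ s5953t11_L x v0 ∧ v ≠ 0} := by
      ext v
      rw [Finset.mem_coe, Finset.mem_filter, hSmem]
      constructor
      · rintro ⟨⟨_, hv0⟩, hφ⟩
        refine ⟨?_, hv0⟩
        have h1 : v ∈ φ v := s5953t11_mem x v
        rw [hφ] at h1
        exact h1
      · rintro ⟨hvL, hv0⟩
        exact ⟨⟨s5953t11_le hM hv0M hvL, hv0⟩, hsame v0 hv0M hv00 v hvL hv0⟩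
    rw [hset, s5953t11_ncard_sub, hLdim v0 hv0M hv00, hF]
  have hfibZ : ∀ Lb ∈ T, (Z.filter (fun v => φ v = Lb)).card =
      (Cfsg.Agent.Lib.Lead.hermAB q t).1 - 1 := by
    intro Lb hLb
    obtain ⟨v0, hv0S, rfl⟩ := Finset.mem_image.mp hLb
    obtain ⟨hv0M, hv00⟩ := (hSmem v0).mp hv0S
    rw [← Set.ncard_coe_finset]
    have hset : ((Z.filter (fun v => φ v = φ v0) : Finset (Fin n → F)) : Set (Fin n → F)) =
        {v | v ∈ s5953t11_L x v0 ∧ v ≠ 0 ∧ hermI (Fin n) F q v v = 0} := by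
      ext v
      rw [Finset.mem_coe, Finset.mem_filter, Finset.mem_filter, hSmem]
      constructor
      · rintro ⟨⟨⟨_, hv0⟩, hiso⟩, hφ⟩
        refine ⟨?_, hv0, hiso⟩
        have h1 : v ∈ φ v := s5953t11_mem x v
        rw [hφ] at h1
        exact h1
      · rintro ⟨hvL, hv0, hiso⟩
        exact ⟨⟨⟨s5953t11_le hM hv0M hvL, hv0⟩, hiso⟩, hsame v0 hv0M hv00 v hvL hv0⟩
    rw [hset, s5953t11_ncard_iso hF _ (hLnd v0 hv0M hv00), hLdim v0 hv0M hv00]
  have hScard : S.card = (q ^ 2) ^ d - 1 := by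
    rw [← Set.ncard_coe_finset]
    have hset : ((S : Finset (Fin n → F)) : Set (Fin n → F)) = {v | v ∈ M ∧ v ≠ 0} := by
      ext v
      rw [Finset.mem_coe, hSmem]
      rfl
    rw [hset, s5953t11_ncard_sub, ← hd_def, hF]
  have hZcard : Z.card = (Cfsg.Agent.Lib.Lead.hermAB q d).1 - 1 := by
    rw [← Set.ncard_coe_finset]
    have hset : ((Z : Finset (Fin n → F)) : Set (Fin n → F)) =
        {v | v ∈ M ∧ v ≠ 0 ∧ hermI (Fin n) F q v v = 0} := by
      ext v
      rw [Finset.mem_coe, Finset.mem_filter, hSmem]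
      constructor
      · rintro ⟨⟨h1, h2⟩, h3⟩
        exact ⟨h1, h2, h3⟩
      · rintro ⟨h1, h2, h3⟩
        exact ⟨⟨h1, h2⟩, h3⟩
    rw [hset, s5953t11_ncard_iso hF M hMnd, ← hd_def]
  rw [Finset.sum_congr rfl hfibS, Finset.sum_const, smul_eq_mul, hScard] at hS
  rw [Finset.sum_congr rfl hfibZ, Finset.sum_const, smul_eq_mul, hZcard] at hZ
  obtain ⟨hAt, -⟩ := Cfsg.Agent.Lib.Lead.hermAB_closed q hq2 t
  obtain ⟨hAd, -⟩ := Cfsg.Agent.Lib.Lead.hermAB_closed q hq2 d
  -- `A ≥ 1`
  have hA1 : ∀ k : ℕ, 1 ≤ (Cfsg.Agent.Lib.Lead.hermAB q k).1 := by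
    intro k
    induction k with
    | zero => simp [Cfsg.Agent.Lib.Lead.hermAB]
    | succ k ih =>
      simp only [Cfsg.Agent.Lib.Lead.hermAB]
      omega
  exact s5953t11_arith q t d hq2 ht (by omega) _ _ T.card (hA1 t) (hA1 d) hAt hAd hS hZ

end Cfsg.Agent.Lib.helper3.S5953
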