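import Mathlib
import Cfsg.Prelude.Def_LieExceptional
import Cfsg.Agent.Lib.Helper21.S63.Act
import Cfsg.Agent.Lib.helper3.SuzukiPartition

/-!
# Project S63 (S3664), piece LF (helper3): traces of the elements of order 7 and 13 of `Sz(8)`.
-/

set_option autoImplicit false

namespace Cfsg.Agent.Lib.helper3.S63

open Cfsg Matrix Cfsg.Agent.Lib.helper3 Cfsg.Agent.Lib.Helper21.S63

/-- the element `a + b x + c x²` of `F8c` coded by the number `a + 2 b + 4 c` -/
def n8 (n : ℕ) : F8c := ⟨n.testBit 0, n.testBit 1, n.testBit 2⟩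

/-- the powers of the element `y13` of order 13 (as matrices) -/
def P13 : Fin 13 → Matrix (Fin 4) (Fin 4) F8c :=
  ![!![n8 1, n8 0, n8 0, n8 0; n8 0, n8 1, n8 0, n8 0; n8 0, n8 0, n8 1, n8 0; n8 0, n8 0, n8 0, n8 1],
    !![n8 7, n8 3, n8 0, n8 1; n8 3, n8 0, n8 1, n8 0; n8 0, n8 1, n8 0, n8 0; n8 1, n8 0, n8 0, n8 0],
    !![n8 7, n8 2, n8 3, n8 7; n8 2, n8 4, n8 0, n8 3; n8 3, n8 0, n8 1, n8 0; n8 7, n8 3, n8 0, n8 1],
    !![n8 2, n8 1, n8 2, n8 7; n8 1, n8 6, n8 4, n8 2; n8 2, n8 4, n8 0, n8 3; n8 7, n8 2, n8 3, n8 7],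
    !![n8 1, n8 4, n8 1, n8 2; n8 4, n8 7, n8 6, n8 1; n8 1, n8 6, n8 4, n8 2; n8 2, n8 1, n8 2, n8 7],
    !![n8 2, n8 2, n8 4, n8 1; n8 2, n8 1, n8 7, n8 4; n8 4, n8 7, n8 6, n8 1; n8 1, n8 4, n8 1, n8 2],
    !![n8 2, n8 2, n8 2, n8 2; n8 2, n8 1, n8 1, n8 2; n8 2, n8 1, n8 7, n8 4; n8 2, n8 2, n8 4, n8 1],
    !![n8 1, n8 4, n8 2, n8 2; n8 4, n8 7, n8 1, n8 2; n8 2, n8 1, n8 1, n8 2; n8 2, n8 2, n8 2, n8 2],
    !![n8 2, n8 1, n8 4, n8 1; n8 1, n8 6, n8 7, n8 4; n8 4, n8 7, n8 1, n8 2; n8 1, n8 4, n8 2, n8 2],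
    !![n8 7, n8 2, n8 1, n8 2; n8 2, n8 4, n8 6, n8 1; n8 1, n8 6, n8 7, n8 4; n8 2, n8 1, n8 4, n8 1],
    !![n8 7, n8 3, n8 2, n8 7; n8 3, n8 0, n8 4, n8 2; n8 2, n8 4, n8 6, n8 1; n8 7, n8 2, n8 1, n8 2],
    !![n8 1, n8 0, n8 3, n8 7; n8 0, n8 1, n8 0, n8 3; n8 3, n8 0, n8 4, n8 2; n8 7, n8 3, n8 2, n8 7],
    !![n8 0, n8 0, n8 0, n8 1; n8 0, n8 0, n8 1, n8 0; n8 0, n8 1, n8 0, n8 3; n8 1, n8 0, n8 3, n8 7]]

theorem P13_zero : P13 0 = 1 := by decide

theorem P13_succ : ∀ j : Fin 13, ∀ hj : j.val + 1 < 13, P13 ⟨j.val + 1, hj⟩ = P13 j * P13 1 := by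
  decide

theorem P13_last : P13 12 * P13 1 = 1 := by decide

theorem P13_pow : ∀ (j : ℕ) (hj : j < 13), P13 1 ^ j = P13 ⟨j, hj⟩ := by
  intro j
  induction j with
  | zero => intro _; rw [pow_zero]; exact P13_zero.symm
  | succ j ih =>
    intro hj
    rw [pow_succ, ih (by omega)]
    exact (P13_succ ⟨j, by omega⟩ hj).symm

theorem P13_pow_13 : P13 1 ^ 13 = 1 := by
  have : P13 1 ^ 13 = P13 1 ^ 12 * P13 1 := pow_succ _ 12
  rw [this, P13_pow 12 (by norm_num)]
  exact P13_last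

theorem P13_trace : ∀ j : Fin 13, j ≠ 0 → (P13 j).trace * (P13 j).trace ≠ (P13 j).trace := by
  decide

/-- the element of order 13 -/
noncomputable def y13 : S8 := gT F8c.card_eq' (0 : F8c) (n8 3) * gJ F8c.card_eq'

theorem szMat_y13 : szMat y13 = P13 1 := by
  have h1 : szMat y13 = szTmat 1 (0 : F8c) (n8 3) * szJmat F8c := rfl
  rw [h1]
  decide

theorem szMat_injective {g h : S8} (e : szMat g = szMat h) : g = h :=
  Subtype.ext (Subtype.ext e)

theorem szMat_y13_pow (j : ℕ) : szMat (y13 ^ j) = P13 ⟨j % 13, Nat.mod_lt _ (by norm_num)⟩ := by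
  rw [szMat_pow, szMat_y13]
  have : P13 1 ^ j = P13 1 ^ (j % 13) := by
    conv_lhs => rw [← Nat.div_add_mod j 13, pow_add, pow_mul, P13_pow_13, one_pow, one_mul]
  rw [this]
  exact P13_pow _ _

theorem y13_pow_13 : y13 ^ 13 = 1 := by
  apply szMat_injective
  rw [szMat_pow, szMat_y13, P13_pow_13]
  rfl

theorem y13_ne_one : y13 ≠ 1 := by
  intro h
  have := congrArg szMat h
  rw [szMat_y13] at this
  have h1 : szMat (1 : S8) = 1 := rfl
  rw [h1] at this
  revert this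
  decide

theorem orderOf_y13 : orderOf y13 = 13 := by
  have : Fact (Nat.Prime 13) := ⟨by norm_num⟩
  exact orderOf_eq_prime y13_pow_13 y13_ne_one

instance : Finite S8 := finite_Sz F8c.card_eq' hm1

theorem card_S8 : Nat.card S8 = 29120 := by
  rw [card_Sz hm1 F8c.card_eq']
  norm_num

/-- two elements of prime order `p` are conjugate up to a power, when `p ∥ #G`. -/
theorem conj_of_prime_order {G : Type*} [Group G] [Finite G] {p : ℕ} [Fact p.Prime]
    (hp : ¬ p ^ 2 ∣ Nat.card G) {s y : G} (hs : orderOf s = p) (hy : orderOf y = p) :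
    ∃ (u : G) (i : ℕ), s = u * y ^ i * u⁻¹ := by
  have hpp : p.Prime := Fact.out
  have key : ∀ x : G, orderOf x = p → ∃ P : Sylow p G, (P : Subgroup G) = Subgroup.zpowers x := by
    intro x hx
    have hc : Nat.card (Subgroup.zpowers x) = p := by rw [Nat.card_zpowers, hx]
    have hP : IsPGroup p (Subgroup.zpowers x) := IsPGroup.of_card (n := 1) (by rw [hc, pow_one])
    have hidx : ¬ p ∣ (Subgroup.zpowers x).index := by
      intro hd
      apply hp
      rw [← Subgroup.card_mul_index (Subgroup.zpowers x), hc, pow_two]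
      exact Nat.mul_dvd_mul_left p hd
    exact ⟨hP.toSylow hidx, rfl⟩
  obtain ⟨P, hP⟩ := key s hs
  obtain ⟨Q, hQ⟩ := key y hy
  obtain ⟨u, hu⟩ := MulAction.exists_smul_eq G Q P
  have hsP : s ∈ (P : Subgroup G) := by rw [hP]; exact Subgroup.mem_zpowers s
  rw [← hu, Sylow.coe_subgroup_smul, Subgroup.mem_pointwise_smul_iff_inv_smul_mem, hQ,
    MulAut.smul_def, ← map_inv, MulAut.conj_apply, inv_inv] at hsP
  have hfin : IsOfFinOrder y := isOfFinOrder_of_finite y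
  rw [← hfin.mem_powers_iff_mem_zpowers] at hsP
  obtain ⟨i, hi⟩ := hsP
  refine ⟨u, i, ?_⟩
  have hi' : y ^ i = u⁻¹ * s * u := hi
  rw [hi']
  group

theorem trace_conj (u s : S8) : (szMat (u * s * u⁻¹)).trace = (szMat s).trace := by
  rw [szMat_mul, szMat_mul, Matrix.trace_mul_cycle, ← szMat_mul, inv_mul_cancel]
  have h1 : szMat (1 : S8) = 1 := rfl
  rw [h1, Matrix.one_mul]

theorem szD_trace : ∀ t : F8c, t ≠ 0 → t ≠ 1 →
    (szDmat 1 t).trace * (szDmat 1 t).trace ≠ (szDmat 1 t).trace := by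
  decide

/-- a generator of the multiplicative group of `F8c` -/
def k0 : F8cˣ := ⟨F8c.X, F8c.X⁻¹, by decide, by decide⟩

/-- the torus element of order 7 -/
noncomputable def y7 : S8 := gD F8c.card_eq' k0

theorem szMat_gD (k : F8cˣ) : szMat (gD F8c.card_eq' k) = szDmat 1 (k : F8c) := rfl

theorem gD_injective {k : F8cˣ} (h : gD F8c.card_eq' k = 1) : k = 1 := by
  have := congrArg szMat h
  rw [szMat_gD] at this
  have h1 : szMat (1 : S8) = 1 := rfl
  rw [h1] at this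
  have hk : ∀ t : F8c, szDmat 1 t = 1 → t = 1 := by decide
  exact Units.ext (hk _ this)

theorem y7_pow (i : ℕ) : y7 ^ i = gD F8c.card_eq' (k0 ^ i) := by
  induction i with
  | zero => rw [pow_zero, pow_zero, gD_one]
  | succ i ih => rw [pow_succ, ih, pow_succ, gD_mul]; rfl

theorem orderOf_y7 : orderOf y7 = 7 := by
  have : Fact (Nat.Prime 7) := ⟨by norm_num⟩
  apply orderOf_eq_prime
  · exact gD_pow_card F8c.card_eq' k0
  · intro h
    have := gD_injective h
    revert this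
    decide

/-- S63-LF: elements of order 7 or 13 of `Sz(8)` have trace outside the prime field. -/
theorem trace_S8 (s : S8) (hs : orderOf s = 7 ∨ orderOf s = 13) :
    (szMat s).trace * (szMat s).trace ≠ (szMat s).trace := by
  rcases hs with hs | hs
  · have : Fact (Nat.Prime 7) := ⟨by norm_num⟩
    have hp : ¬ 7 ^ 2 ∣ Nat.card S8 := by rw [card_S8]; norm_num
    obtain ⟨u, i, rfl⟩ := conj_of_prime_order hp hs orderOf_y7
    rw [trace_conj, y7_pow, szMat_gD]
    apply szD_trace _ (Units.ne_zero _)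
    intro h1
    have hk : k0 ^ i = 1 := Units.ext h1
    have : u * y7 ^ i * u⁻¹ = 1 := by rw [y7_pow, hk, gD_one]; group
    rw [this, orderOf_one] at hs
    norm_num at hs
  · have : Fact (Nat.Prime 13) := ⟨by norm_num⟩
    have hp : ¬ 13 ^ 2 ∣ Nat.card S8 := by rw [card_S8]; norm_num
    obtain ⟨u, i, rfl⟩ := conj_of_prime_order hp hs orderOf_y13
    rw [trace_conj, szMat_y13_pow]
    apply P13_trace
    intro h0
    have hi : i % 13 = 0 := by
      have := congrArg Fin.val h0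
      simpa using this
    have hy : y13 ^ i = 1 := by
      rw [← Nat.div_add_mod i 13, hi, add_zero, pow_mul, y13_pow_13, one_pow]
    have : u * y13 ^ i * u⁻¹ = 1 := by rw [hy]; group
    rw [this, orderOf_one] at hs
    norm_num at hs

end Cfsg.Agent.Lib.helper3.S63
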