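import Mathlib
import Cfsg.Agent.Lib.helper3.S63LF

/-!
# Project S63 (S3664), piece LD (helper3): the elements of order 13 of `L = Sz(8) : 3` have no non-zero
fixed vector on `M = Mat₄(F₈)`.
-/

set_option autoImplicit false

namespace Cfsg.Agent.Lib.helper3.S63

open Cfsg Matrix Cfsg.Agent.Lib.helper3 Cfsg.Agent.Lib.Helper21.S63

/-- the key identity: `∑_j y^j ⊗ σ(y^j) = 0`. -/
theorem P13_sum : ∀ r a c b : Fin 4,
    ∑ j : Fin 13, P13 j r a * (P13 j c b * P13 j c b) = 0 := by
  decide

theorem F8c_add_self : ∀ t : F8c, t + t = 0 := by decide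

theorem M63_thirteen (W : M63) : 13 • W = W := by
  have h2 : W + W = 0 := by
    ext i j
    exact F8c_add_self _
  have : (13 : ℕ) • W = W + 6 • (W + W) := by abel
  rw [this, h2, smul_zero, add_zero]

theorem sum_P13_eq_zero (W : M63) :
    ∑ j : Fin 13, P13 j * W * ((P13 j).map F8c.frob)ᵀ = 0 := by
  ext r c
  rw [Matrix.sum_apply]
  simp only [Matrix.mul_apply, Matrix.transpose_apply, Matrix.map_apply, F8c.frob_apply,
    Finset.sum_mul, Matrix.zero_apply]
  rw [Finset.sum_comm]
  apply Finset.sum_eq_zero
  intro b _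
  rw [Finset.sum_comm]
  apply Finset.sum_eq_zero
  intro a _
  have h := P13_sum r a c b
  calc ∑ j : Fin 13, P13 j r a * W a b * (P13 j c b * P13 j c b)
      = W a b * ∑ j : Fin 13, P13 j r a * (P13 j c b * P13 j c b) := by
        rw [Finset.mul_sum]
        apply Finset.sum_congr rfl
        intro j _
        ring
    _ = 0 := by rw [h, mul_zero]

theorem orderOf_frob : orderOf F8c.frob = 3 := by
  have : Fact (Nat.Prime 3) := ⟨Nat.prime_three⟩
  exact orderOf_eq_prime F8c.frob_pow_three F8c.frob_ne_one

theorem card_C3 : Nat.card C3 = 3 := by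
  rw [Nat.card_zpowers, orderOf_frob]

instance : Finite C3 := Nat.finite_of_card_ne_zero (by rw [card_C3]; norm_num)

/-- the fixed points of `inl y13` -/
theorem fpf_y13 (W : M63) (hW : (SemidirectProduct.inl y13 : L63) • W = W) : W = 0 := by
  have hpow : ∀ n : ℕ, ((SemidirectProduct.inl y13 : L63) ^ n) • W = W := by
    intro n
    induction n with
    | zero => rw [pow_zero, one_smul]
    | succ n ih => rw [pow_succ, mul_smul, hW, ih]
  have hj : ∀ j : Fin 13, P13 j * W * ((P13 j).map F8c.frob)ᵀ = W := by
    intro j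
    have h1 := hpow j.val
    rw [← map_pow, smul63_def, SemidirectProduct.left_inl, SemidirectProduct.right_inl,
      szMat_y13_pow] at h1
    have e : (⟨j.val % 13, Nat.mod_lt _ (by norm_num)⟩ : Fin 13) = j := by
      apply Fin.ext
      exact Nat.mod_eq_of_lt j.isLt
    rw [e] at h1
    exact h1
  have hs := sum_P13_eq_zero W
  rw [Finset.sum_congr rfl (fun j _ => hj j), Finset.sum_const, Finset.card_univ,
    Fintype.card_fin, M63_thirteen] at hs
  exact hs

/-- S63-LD: every element of order 13 of `L` acts without non-zero fixed vectors on `M`. -/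
theorem fpf13_L63 (g : L63) (hg : orderOf g = 13) (X : M63) (hX : g • X = X) : X = 0 := by
  -- the image in `C3` is trivial
  have hr : g.right = 1 := by
    have h1 : orderOf (SemidirectProduct.rightHom g : C3) ∣ 13 := by
      rw [← hg]; exact orderOf_map_dvd _ g
    have h2 : orderOf (SemidirectProduct.rightHom g : C3) ∣ 3 := by
      rw [← card_C3]; exact orderOf_dvd_natCard _
    have h3 : orderOf (SemidirectProduct.rightHom g : C3) ∣ Nat.gcd 13 3 := Nat.dvd_gcd h1 h2
    have h4 : orderOf (SemidirectProduct.rightHom g : C3) = 1 := by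
      have : Nat.gcd 13 3 = 1 := by norm_num
      rw [this] at h3
      exact Nat.dvd_one.1 h3
    rw [orderOf_eq_one_iff] at h4
    exact h4
  set s : S8 := g.left with hs
  have hgs : g = SemidirectProduct.inl s := by
    apply SemidirectProduct.ext
    · rw [SemidirectProduct.left_inl]
    · rw [SemidirectProduct.right_inl, hr]
  have hos : orderOf s = 13 := by
    rw [← hg, hgs]
    exact (orderOf_injective (SemidirectProduct.inl : S8 →* L63)
      SemidirectProduct.inl_injective s).symm
  have : Fact (Nat.Prime 13) := ⟨by norm_num⟩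
  have hp : ¬ 13 ^ 2 ∣ Nat.card S8 := by rw [card_S8]; norm_num
  obtain ⟨u, i, hy⟩ := conj_of_prime_order hp orderOf_y13 hos
  have hpow : ∀ n : ℕ, (g ^ n) • X = X := by
    intro n
    induction n with
    | zero => rw [pow_zero, one_smul]
    | succ n ih => rw [pow_succ, mul_smul, hX, ih]
  set U : L63 := SemidirectProduct.inl u with hU
  have hyU : (SemidirectProduct.inl y13 : L63) = U * g ^ i * U⁻¹ := by
    rw [hy, hgs, hU, map_mul, map_mul, map_pow, map_inv]
  have hfix : (SemidirectProduct.inl y13 : L63) • (U • X) = U • X := by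
    rw [hyU, mul_smul, mul_smul, inv_smul_smul, hpow]
  have h0 := fpf_y13 (U • X) hfix
  have : X = U⁻¹ • (U • X) := (inv_smul_smul U X).symm
  rw [this, h0, smul_zero]

end Cfsg.Agent.Lib.helper3.S63
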