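import Mathlib
import Cfsg.Agent.Lib.helper3.SPM.Defs
import Cfsg.Agent.Lib.helper3.SPM.Defs2
import Cfsg.Agent.Lib.Helper9.SPME7core
import Cfsg.Agent.Lib.Helper29.SPME9core
import Cfsg.Agent.Lib.helper23.SPMI3core
import Cfsg.Agent.Lib.Helper25.SPMI4core
import Cfsg.Agent.Lib.helper8.SPMI5core
import Cfsg.Agent.Lib.Helper21.SPM.I6core
import Cfsg.Agent.Lib.Helper25.SPMT5core
import Cfsg.Agent.Lib.Helper9.SPMT6core
import Cfsg.Agent.Lib.helper14.SPMT8core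
import Cfsg.Agent.Lib.helper14.SPMT1
import Cfsg.Agent.Lib.helper14.SPMI1
import Cfsg.Agent.Lib.helper23.SPMC2core
import Cfsg.Agent.Lib.Helper29.SPMC3core
import Cfsg.Agent.Lib.helper8.SPMY3core
import Cfsg.Agent.Lib.Helper5.SPMY5core
import Cfsg.Agent.Lib.helper3.SPM.Y1core
import Cfsg.Agent.Lib.helper3.SPM.E5h3

/-!
# SPM express assembly (helper3)

The rows E7 E8 E9 I3 I4 I5 T4 T5 T6 T7 T8 C2 C3 Y1 Y2 Y3 Y5 Y6 of the SPM skeleton (`Skel1.lean.txt`), proved under the names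
`spmx_*` from the landed cores of the other seats (the verbatim names stay with their owners).
-/

set_option autoImplicit false

namespace Cfsg.Agent.Lib.helper3.SPM

open Cfsg.Agent.Lib.helper3.STC Cfsg.Agent.Lib.helper3.STC.Mat Cfsg.Agent.Lib.helper17.SLP

universe u v w v'

section main
variable {F : Type u} [Field F] {ι : Type w} [Fintype ι] [DecidableEq ι] {G : Type v} [Group G]
  (p : Pts ι) (ν : Equiv.Perm ι →* G) (lam : Sp4 F →* G)

theorem spmx_xr_pair (H : Glue p ν lam) (hS : SpFacts F) {i j : ι} (hij : i ≠ j) {a' b' : Fin 2 ⊕ Fin 2} (hab' : a' ≠ b') (t : F) :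
    lamP p ν lam i j (tm a' b' t) = xr p ν lam (pe2 i j a') (pe2 i j b') t :=
  spme7_core p ν lam H hS hij (fun hab'' t => spme5h3_xr_pair_short p ν lam H hS hij hab'' t) hab' t

theorem spmx_lamC_xr (H : Glue p ν lam) (hS : SpFacts F) (σ : Equiv.Perm ι) {a' b' : Fin 2 ⊕ Fin 2} (hab' : a' ≠ b') (t : F) :
    lamC ν lam σ (tm a' b' t) = xr p ν lam (sgm σ (pe p a')) (sgm σ (pe p b')) t :=
  spme8_core p ν lam H hS σ (fun hij _ _ hab'' t => spmx_xr_pair p ν lam H hS hij hab'' t) hab' t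

theorem spmx_xr_conj (H : Glue p ν lam) (hS : SpFacts F) (σ : Equiv.Perm ι) {a b : ι ⊕ ι} (hab : a ≠ b) (t : F) :
    ν σ * xr p ν lam a b t * (ν σ)⁻¹ = xr p ν lam (sgm σ a) (sgm σ b) t :=
  spme9_xr_conj_core H hS (fun hij _ _ hab'' t => spmx_xr_pair p ν lam H hS hij hab'' t) σ hab t

theorem spmx_pmon_nu (H : Glue p ν lam) (hS : SpFacts F) (σ : Equiv.Perm ι) : PMon p ν lam (ν σ) (sgm σ) (fun _ => 1) :=
  spme9_pmon_nu_core H hS (fun hij _ _ hab'' t => spmx_xr_pair p ν lam H hS hij hab'' t) σ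

theorem spmx_xr_sym (H : Glue p ν lam) (hS : SpFacts F) {a b : ι ⊕ ι} (hab : a ≠ b) (t : F) :
    xr p ν lam a b t = xr p ν lam (ng b) (ng a) (-(sg a * sg b * t)) :=
  spmi3_core p ν lam (fun hij _ _ hab'' t => spmx_xr_pair p ν lam H hS hij hab'' t) hab t

theorem spmx_xr_ssl (H : Glue p ν lam) (hS : SpFacts F) {a b : ι ⊕ ι} (hab : a ≠ b) (hab' : a ≠ ng b) (t u : F) :
    xr p ν lam a b t * xr p ν lam b (ng a) u * (xr p ν lam a b t)⁻¹ * (xr p ν lam b (ng a) u)⁻¹ =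
      xr p ν lam a (ng a) (2 * t * u) :=
  spmi4_ssl_core p ν lam (fun hij _ _ hab'' t => spmx_xr_pair p ν lam H hS hij hab'' t) hab hab' t u

theorem spmx_xr_ls (H : Glue p ν lam) (hS : SpFacts F) {a b : ι ⊕ ι} (hab : a ≠ b) (hab' : a ≠ ng b) (t u : F) :
    xr p ν lam a (ng a) t * xr p ν lam (ng a) b u * (xr p ν lam a (ng a) t)⁻¹ * (xr p ν lam (ng a) b u)⁻¹ =
      xr p ν lam a b (t * u) * xr p ν lam (ng b) b (sg a * sg b * t * u ^ 2) :=
  spmi4_ls_core p ν lam (fun hij _ _ hab'' t => spmx_xr_pair p ν lam H hS hij hab'' t) hab hab' t u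

theorem spmx_xr_rel (H : Glue p ν lam) (hS : SpFacts F) {a b : ι ⊕ ι} (hab : a ≠ b) (t u : F) (ht : t ≠ 0) :
    Cfsg.Agent.Lib.helper15.St2.cj (xr p ν lam a b t * xr p ν lam b a (-t⁻¹) * xr p ν lam a b t) (xr p ν lam a b u) =
      xr p ν lam b a (-(t⁻¹ ^ 2 * u)) :=
  spmi4_rel_core p ν lam (fun hij _ _ hab'' t => spmx_xr_pair p ν lam H hS hij hab'' t) hab t u ht

theorem spmx_xr_comm_pair (H : Glue p ν lam) (hS : SpFacts F) {i j : ι} (hij : i ≠ j) {a b c d : ι ⊕ ι}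
    (ha : ab a = i ∨ ab a = j) (hb : ab b = i ∨ ab b = j) (hc : ab c = i ∨ ab c = j) (hd : ab d = i ∨ ab d = j)
    (hab : a ≠ b) (hcd : c ≠ d) (hbc : b ≠ c) (had : a ≠ d) (hbd : b ≠ ng d) (hac : a ≠ ng c) (t u : F) :
    xr p ν lam a b t * xr p ν lam c d u = xr p ν lam c d u * xr p ν lam a b t :=
  spmi5_core p ν lam hij (fun hab'' t => spmx_xr_pair p ν lam H hS hij hab'' t) ha hb hc hd hab hcd hbc had hbd hac t u

theorem spmx_XrPair (H : Glue p ν lam) (hS : SpFacts F) {i j : ι} (hij : i ≠ j) : XrPair p ν lam i j :=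
  fun _ _ h t => spmx_xr_pair p ν lam H hS hij h t

theorem spmx_hl_pair [Finite F] (H : Glue p ν lam) (hS : SpFacts F) {k j : ι} (hkj : k ≠ j) {u : F} (hu : u ≠ 0) {a b : ι ⊕ ι} (hab : a ≠ b)
    (ha : ab a = k ∨ ab a = j) (hb : ab b = k ∨ ab b = j) (t : F) :
    hr p ν lam (Sum.inl k) (Sum.inr k) u * xr p ν lam a b t * (hr p ν lam (Sum.inl k) (Sum.inr k) u)⁻¹ =
      xr p ν lam a b (dhl (Sum.inl k) u a * (dhl (Sum.inl k) u b)⁻¹ * t) :=
  spmt4_hl_core hkj (spmx_XrPair p ν lam H hS hkj) hu hab ha hb t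

theorem spmx_wl_pair (H : Glue p ν lam) (hS : SpFacts F) {k j : ι} (hkj : k ≠ j) {u : F} (hu : u ≠ 0) {a b : ι ⊕ ι} (hab : a ≠ b)
    (ha : ab a = k ∨ ab a = j) (hb : ab b = k ∨ ab b = j) (t : F) :
    wr p ν lam (Sum.inl k) (Sum.inr k) u * xr p ν lam a b t * (wr p ν lam (Sum.inl k) (Sum.inr k) u)⁻¹ =
      xr p ν lam (Equiv.swap (Sum.inl k) (Sum.inr k) a) (Equiv.swap (Sum.inl k) (Sum.inr k) b)
        (dwl (Sum.inl k) u a * (dwl (Sum.inl k) u b)⁻¹ * t) :=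
  spmt4_wl_core hkj (spmx_XrPair p ν lam H hS hkj) hu hab ha hb t

theorem spmx_d3_base [Finite F] (H : Glue p ν lam) (hS : SpFacts F) (t : F) {g : G} (hg : g ∈ LB p ν lam p.o2) :
    Commute (xr p ν lam (Sum.inl p.o0) (Sum.inl p.o1) t) g :=
  spmt5_core p ν lam H (fun hg hg' => LB_comm p ν lam H hS p.h02 hg hg')
    (fun hu t => spmx_hl_pair p ν lam H hS p.h01 hu (a := Sum.inl p.o0) (b := Sum.inl p.o1)
      (fun h => p.h01 (Sum.inl.inj h)) (Or.inl rfl) (Or.inr rfl) t) t hg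

theorem spmx_d3_signs [Finite F] (H : Glue p ν lam) (hS : SpFacts F) {a b : ι ⊕ ι} (ha : ab a = p.o0) (hb : ab b = p.o1) (t : F) {g : G}
    (hg : g ∈ LB p ν lam p.o2) : Commute (xr p ν lam a b t) g :=
  spmt6_core p ν lam (fun t _ hg => spmx_d3_base p ν lam H hS t hg)
    (fun hkj _ hu _ _ hab ha hb t => spmx_wl_pair p ν lam H hS hkj hu hab ha hb t)
    (fun hik _ _ hg hg' => LB_comm p ν lam H hS hik hg hg') ha hb t hg

theorem spmx_d3_gen [Finite F] (H : Glue p ν lam) (hS : SpFacts F) {a b : ι ⊕ ι} (hab : ab a ≠ ab b) {k : ι} (hka : k ≠ ab a) (hkb : k ≠ ab b)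
    (t : F) {g : G} (hg : g ∈ LB p ν lam k) : Commute (xr p ν lam a b t) g :=
  spmt7_core p ν lam (fun ha hb t _ hg => spmx_d3_signs p ν lam H hS ha hb t hg)
    (fun σ _ _ hab t => spmx_xr_conj p ν lam H hS σ hab t)
    (fun σ k _ hg => LB_conj p ν lam H σ k hg) hab hka hkb t hg

theorem spmx_pmon_hl [Finite F] (H : Glue p ν lam) (hS : SpFacts F) (k : ι) {u : F} (hu : u ≠ 0) :
    PMon p ν lam (hr p ν lam (Sum.inl k) (Sum.inr k) u) 1 (dhl (Sum.inl k) u) :=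
  pmon_hl_core p ν lam (fun _ _ hkj _ hu _ _ hab ha hb t => spmx_hl_pair p ν lam H hS hkj hu hab ha hb t)
    (fun _ _ hab _ hka hkb t _ hg => spmx_d3_gen p ν lam H hS hab hka hkb t hg) k hu

theorem spmx_pmon_wl [Finite F] (H : Glue p ν lam) (hS : SpFacts F) (k : ι) {u : F} (hu : u ≠ 0) :
    PMon p ν lam (wr p ν lam (Sum.inl k) (Sum.inr k) u) (Equiv.swap (Sum.inl k) (Sum.inr k)) (dwl (Sum.inl k) u) :=
  pmon_wl_core p ν lam (fun _ _ hkj _ hu _ _ hab ha hb t => spmx_wl_pair p ν lam H hS hkj hu hab ha hb t)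
    (fun _ _ hab _ hka hkb t _ hg => spmx_d3_gen p ν lam H hS hab hka hkb t hg) k hu

theorem spmx_p1_base [Finite F] (H : Glue p ν lam) (hS : SpFacts F) : P1 p ν lam (Sum.inl p.o0) (Sum.inl p.o1) (Sum.inl p.o2) :=
  spmc2_core_p1 p ν lam H (fun σ _ _ hab' t => spmx_lamC_xr p ν lam H hS σ hab' t)
    (fun k _ hu => spmx_pmon_hl p ν lam H hS k hu) (fun a b => xr_zero p ν lam H hS a b)

theorem spmx_p2_base [Finite F] (H : Glue p ν lam) (hS : SpFacts F) : P2 p ν lam (Sum.inl p.o0) (Sum.inl p.o1) (Sum.inl p.o2) :=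
  spmc2_core_p2 p ν lam H (fun σ _ _ hab' t => spmx_lamC_xr p ν lam H hS σ hab' t)
    (fun k _ hu => spmx_pmon_hl p ν lam H hS k hu) (fun a b => xr_zero p ν lam H hS a b)

theorem spmx_p4_base [Finite F] (H : Glue p ν lam) (hS : SpFacts F) {x : ι} (hx : x ∈ p.o3) :
    P4 p ν lam (Sum.inl p.o0) (Sum.inl p.o1) (Sum.inl p.o2) (Sum.inl x) :=
  spmc2_core_p4 p ν lam H (fun σ _ _ hab' t => spmx_lamC_xr p ν lam H hS σ hab' t)
    (fun k _ hu => spmx_pmon_hl p ν lam H hS k hu) (fun a b => xr_zero p ν lam H hS a b) hx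

theorem spmx_p1_gen [Finite F] (H : Glue p ν lam) (hS : SpFacts F) {a b c : ι ⊕ ι} (hab : ab a ≠ ab b) (hbc : ab b ≠ ab c) (hac : ab a ≠ ab c) :
    P1 p ν lam a b c :=
  spmc3_p1_gen_core (spmx_pmon_nu p ν lam H hS) (fun k _ hu => spmx_pmon_wl p ν lam H hS k hu) (spmx_p1_base p ν lam H hS) hab hbc hac

theorem spmx_p2_gen [Finite F] (H : Glue p ν lam) (hS : SpFacts F) {a b c : ι ⊕ ι} (hab : ab a ≠ ab b) (hbc : ab b ≠ ab c) (hac : ab a ≠ ab c) :
    P2 p ν lam a b c :=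
  spmc3_p2_gen_core (spmx_pmon_nu p ν lam H hS) (fun k _ hu => spmx_pmon_wl p ν lam H hS k hu) (spmx_p2_base p ν lam H hS) hab hbc hac

theorem spmx_p4_gen [Finite F] (H : Glue p ν lam) (hS : SpFacts F) {a b c e : ι ⊕ ι} (hab : ab a ≠ ab b) (hac : ab a ≠ ab c) (hae : ab a ≠ ab e)
    (hbc : ab b ≠ ab c) (hbe : ab b ≠ ab e) (hce : ab c ≠ ab e) : P4 p ν lam a b c e :=
  spmc3_p4_gen_core (spmx_pmon_nu p ν lam H hS) (fun k _ hu => spmx_pmon_wl p ν lam H hS k hu)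
    (fun hx => spmx_p4_base p ν lam H hS hx) hab hac hae hbc hbe hce

theorem spmx_xr_comm [Finite F] (H : Glue p ν lam) (hS : SpFacts F) {a b c d : ι ⊕ ι} (hab : a ≠ b) (hcd : c ≠ d) (hbc : b ≠ c) (had : a ≠ d)
    (hbd : b ≠ ng d) (hac : a ≠ ng c) (t u : F) :
    xr p ν lam a b t * xr p ν lam c d u = xr p ν lam c d u * xr p ν lam a b t :=
  spmy1_core p ν lam
    (fun hij _ _ _ _ ha hb hc hd hab hcd hbc had hbd hac t u =>
      spmx_xr_comm_pair p ν lam H hS hij ha hb hc hd hab hcd hbc had hbd hac t u)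
    (fun hab _ hka hkb t _ hg => spmx_d3_gen p ν lam H hS hab hka hkb t hg)
    (fun hab hbc hac => spmx_p2_gen p ν lam H hS hab hbc hac)
    (fun hab hac hae hbc hbe hce => spmx_p4_gen p ν lam H hS hab hac hae hbc hbe hce)
    (fun hab t => spmx_xr_sym p ν lam H hS hab t) hab hcd hbc had hbd hac t u

theorem spmx_xr_comm3 [Finite F] (H : Glue p ν lam) (hS : SpFacts F) {a b c : ι ⊕ ι} (hab : a ≠ b) (hab' : a ≠ ng b) (hbc : b ≠ c) (hbc' : b ≠ ng c)
    (hac : a ≠ c) (hac' : a ≠ ng c) (t u : F) :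
    xr p ν lam a b t * xr p ν lam b c u * (xr p ν lam a b t)⁻¹ * (xr p ν lam b c u)⁻¹ = xr p ν lam a c (t * u) :=
  xr_comm3_core p ν lam (fun _ _ _ hab hbc hac => spmx_p1_gen p ν lam H hS hab hbc hac) hab hab' hbc hbc' hac hac' t u

theorem spmx_sysC_of_glue [Finite F] (H : Glue p ν lam) (hS : SpFacts F) :
    ∃ S : SysC F ι G, ∀ a b t, S.x a b t = xr p ν lam a b t :=
  spmy3_core p ν lam (fun hab t => spmx_xr_sym p ν lam H hS hab t)
    (fun hab hcd hbc had hbd hac t u => spmx_xr_comm p ν lam H hS hab hcd hbc had hbd hac t u)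
    (fun hab hab' hbc hbc' hac hac' t u => spmx_xr_comm3 p ν lam H hS hab hab' hbc hbc' hac hac' t u)
    (fun hab hab' t u => spmx_xr_ssl p ν lam H hS hab hab' t u)
    (fun hab hab' t u => spmx_xr_ls p ν lam H hS hab hab' t u)
    (fun hab t u ht => spmx_xr_rel p ν lam H hS hab t u ht)

theorem spmx_gen_top (H : Glue p ν lam) (hS : SpFacts F) (S : SysC F ι G) (hx : ∀ a b t, S.x a b t = xr p ν lam a b t)
    (hgen : Subgroup.closure (Set.range ν ∪ Set.range lam) = ⊤) : S.XQ (fun _ _ => True) = ⊤ :=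
  spmy5_core p ν lam H hS (fun hab t => spmx_lamC_xr p ν lam H hS 1 hab t)
    (fun σ _ _ hab t => spmx_xr_conj p ν lam H hS σ hab t) S hx hgen

theorem spmx_iso_of_glue [Finite F] (H : Glue p ν lam) (hS : SpFacts F)
    (hgen : Subgroup.closure (Set.range ν ∪ Set.range lam) = ⊤)
    (π : G →* ↥(Matrix.symplecticGroup ι F)) (hν : π.comp ν = permSp) (hlam : π.comp lam = rhoS p)
    (hxM : ∀ (a b : ι ⊕ ι) (t : F), a ≠ b → xr p (permSp (F := F)) (rhoS p) a b t = tm a b t)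
    (hgenM : (matSys ι F).XQ (fun _ _ => True) = ⊤)
    (hinj : ∀ (S : SysC F ι G) (R : S.Rep ι), S.XQ (fun _ _ => True) = ⊤ → Function.Injective R.φ) :
    Function.Bijective π :=
  spmy6_core p ν lam (spmx_sysC_of_glue p ν lam H hS) (fun S hx => spmx_gen_top p ν lam H hS S hx hgen)
    π hν hlam hxM hgenM hinj

end main

end Cfsg.Agent.Lib.helper3.SPM
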