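import Mathlib
import Cfsg.Agent.Lib.helper3.BSZ.Defs

set_option autoImplicit false

/-!
# BSZ row D05 (`bm_std`), core: the cited rows A07, D01-D04 are hypotheses.
-/

namespace Cfsg.Agent.Lib.helper3.BSZ

open Cfsg Cfsg.Agent.Lib.helper3

variable {F : Type*} [Field F] [Fintype F] {m : ℕ}

/-- an element of `Qs` commuting with a nontrivial element of `Qs`-complement type: anything commuting with `1 ≠ r ∈ Qs` lies in `Qs` -/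
theorem bszd05_comm_mem (hF : Fintype.card F = 2 ^ (2 * m + 1)) (hm : 1 ≤ m) {r y : Sz F m} (hrQ : r ∈ Qs hF)
    (hr1 : r ≠ 1) (hc : y * r = r * y) : y ∈ Qs hF := by
  obtain ⟨a, b, rfl⟩ := (mem_Qs hF).1 hrQ
  have hab : ¬ (a = 0 ∧ b = 0) := by
    rintro ⟨rfl, rfl⟩
    exact hr1 (gT_zero hF)
  exact centralizer_gT_le hF hm hab (Subgroup.mem_centralizer_singleton_iff.2 hc)

theorem bm_std_core (hF : Fintype.card F = 2 ^ (2 * m + 1)) (hm : 1 ≤ m)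
    (four_point : ∀ (H : Subgroup (Sz F m)) (_ : BinH H) (g a b g₁ g₂ g₃ : Sz F m)
      (_ : g₁ ∈ H) (_ : g⁻¹ * g₁ * g ∈ H) (_ : g⁻¹ * (a⁻¹ * g₂ * a) * g ∈ H)
      (_ : g⁻¹ * (b⁻¹ * g₃ * b) * g ∈ H) (_ : g₁ * g₂ * g₃ = 1),
      ∃ k ∈ H, g⁻¹ * k * g ∈ H ∧ g⁻¹ * (b⁻¹ * k * b) * g ∈ H ∧
        g⁻¹ * (a⁻¹ * (k⁻¹ * g₁) * a) * g ∈ H)
    (bm_elt : ∀ {c : Sz F m}, c • oInf F m = oInf F m → c ∉ Qs hF →
      ∃ (x y : F) (k : Fˣ), k ≠ 1 ∧ c = gT hF x y * gD hF k * (gT hF x y)⁻¹)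
    (bm_inv : ∀ (x y : F) (k : Fˣ),
      (gT hF x y * gJ hF * (gT hF x y)⁻¹) * (gT hF x y * gD hF k * (gT hF x y)⁻¹) *
        (gT hF x y * gJ hF * (gT hF x y)⁻¹)⁻¹ = (gT hF x y * gD hF k * (gT hF x y)⁻¹)⁻¹)
    (bm_meet : ∀ (x y : F) {h : Sz F m}, h ∈ Qs hF →
      ((gT hF x y * gJ hF * (gT hF x y)⁻¹)⁻¹ * h * (gT hF x y * gJ hF * (gT hF x y)⁻¹)) • oInf F m =
        oInf F m → h = 1)
    (bm_frob : ∀ (R : Subgroup (Sz F m)) {c : Sz F m}, (∀ r ∈ R, c * r * c⁻¹ ∈ R) →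
      (∀ r ∈ R, r ≠ 1 → (c * c) * r ≠ r * (c * c)) →
      ∀ v ∈ R, ∃ w ∈ R, c * (v * c * v⁻¹) = w * (c * c) * w⁻¹)
    (H : Subgroup (Sz F m))
    (hH : ∀ h ∈ H, h • oInf F m = oInf F m) {r c : Sz F m} (hr : r ∈ H) (hrQ : r ∈ Qs hF) (hr1 : r ≠ 1)
    (hc : c ∈ H) (hcQ : c ∉ Qs hF) : ¬ BinH H := by
  intro hB
  obtain ⟨x, y, k, hk1, hceq⟩ := bm_elt (hH c hc) hcQ
  set u : Sz F m := gT hF x y with hu
  set g : Sz F m := u * gJ hF * u⁻¹ with hg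
  have hg2 : g * g = 1 := by
    rw [hg]
    calc u * gJ hF * u⁻¹ * (u * gJ hF * u⁻¹) = u * (gJ hF * gJ hF) * u⁻¹ := by group
      _ = 1 := by rw [gJ_mul_self]; group
  have hginv : g⁻¹ = g := inv_eq_of_mul_eq_one_left hg2
  have hinv : g * c * g⁻¹ = c⁻¹ := by rw [hceq]; exact bm_inv x y k
  have hgcg : g⁻¹ * c * g = c⁻¹ := by
    have : g⁻¹ * c * g = g * c * g⁻¹ := by rw [hginv]
    rw [this, hinv]
  -- the key fact: elements of `K ∩ Qs` are trivial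
  have hKQ : ∀ h : Sz F m, g⁻¹ * h * g ∈ H → h ∈ Qs hF → h = 1 := fun h hh hQ =>
    bm_meet x y hQ (hH _ hh)
  -- `c` does not commute with nontrivial elements of `Qs`, nor does `c * c`
  have hcc_ne : c * c ≠ 1 := by
    intro h1
    have e : c * c = u * gD hF (k * k) * u⁻¹ := by
      rw [hceq, gD_mul]; group
    rw [e] at h1
    have h2 : gD hF (k * k) = 1 := by
      calc gD hF (k * k) = u⁻¹ * (u * gD hF (k * k) * u⁻¹) * u := by group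
        _ = 1 := by rw [h1]; group
    have h3 : k * k = 1 := by
      by_contra hne
      exact gD_ne_one hF hne h2
    have h4 : (k : F) ^ 2 = 1 := by
      have := congrArg (fun z : Fˣ => (z : F)) h3
      simpa [pow_two] using this
    exact hk1 (Units.ext (sz_sq_eq_one hF h4))
  have hccH : c * c ∈ H := H.mul_mem hc hc
  have hccg : g⁻¹ * (c * c) * g ∈ H := by
    have : g⁻¹ * (c * c) * g = (g⁻¹ * c * g) * (g⁻¹ * c * g) := by group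
    rw [this, hgcg]
    exact H.mul_mem (H.inv_mem hc) (H.inv_mem hc)
  have hccQ : c * c ∉ Qs hF := fun hQ => hcc_ne (hKQ _ hccg hQ)
  set R : Subgroup (Sz F m) := H ⊓ Qs hF with hR
  have hcn : ∀ r' ∈ R, c * r' * c⁻¹ ∈ R := fun r' hr' =>
    ⟨H.mul_mem (H.mul_mem hc hr'.1) (H.inv_mem hc), conj_mem_Qs hF hm (hH c hc) hr'.2⟩
  have hc2 : ∀ r' ∈ R, r' ≠ 1 → (c * c) * r' ≠ r' * (c * c) := fun r' hr' hr'1 hcomm =>
    hccQ (bszd05_comm_mem hF hm hr'.2 hr'1 hcomm)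
  obtain ⟨w, hwR, hw⟩ := bm_frob R hcn hc2 r ⟨hr, hrQ⟩
  have h2' : g⁻¹ * (r⁻¹ * (r * c * r⁻¹) * r) * g ∈ H := by
    have : r⁻¹ * (r * c * r⁻¹) * r = c := by group
    rw [this, hgcg]
    exact H.inv_mem hc
  have h3' : g⁻¹ * (w⁻¹ * (w * (c * c) * w⁻¹)⁻¹ * w) * g ∈ H := by
    have : g⁻¹ * (w⁻¹ * (w * (c * c) * w⁻¹)⁻¹ * w) * g = (g⁻¹ * c * g * (g⁻¹ * c * g))⁻¹ := by group
    rw [this, hgcg]
    have : (c⁻¹ * c⁻¹)⁻¹ = c * c := by rw [mul_inv_rev, inv_inv]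
    rw [this]
    exact hccH
  have hp : c * (r * c * r⁻¹) * (w * (c * c) * w⁻¹)⁻¹ = 1 := by
    rw [hw]; group
  have h1' : g⁻¹ * c * g ∈ H := by rw [hgcg]; exact H.inv_mem hc
  obtain ⟨k₀, hk₀H, hk₀g, hk₀w, hk₀r⟩ :=
    four_point H hB g r w c (r * c * r⁻¹) (w * (c * c) * w⁻¹)⁻¹ hc h1' h2' h3' hp
  -- step 1: `k₀⁻¹ * c = 1`
  have hy₀H : k₀⁻¹ * c ∈ H := H.mul_mem (H.inv_mem hk₀H) hc
  have hy₀g : g⁻¹ * (k₀⁻¹ * c) * g ∈ H := by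
    have : g⁻¹ * (k₀⁻¹ * c) * g = (g⁻¹ * k₀ * g)⁻¹ * (g⁻¹ * c * g) := by group
    rw [this]
    exact H.mul_mem (H.inv_mem hk₀g) h1'
  have step : ∀ (y₀ s : Sz F m), y₀ ∈ H → g⁻¹ * y₀ * g ∈ H → s ∈ H → s ∈ Qs hF → s ≠ 1 →
      g⁻¹ * (s⁻¹ * y₀ * s) * g ∈ H → y₀ = 1 := by
    intro y₀ s hy₀ hy₀g hsH hsQ hs1 hconj
    -- the commutator `y₀⁻¹ * (s⁻¹ * y₀ * s)` lies in `K ∩ Qs`
    have hcomQ : y₀⁻¹ * (s⁻¹ * y₀ * s) ∈ Qs hF := by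
      have h1 : y₀⁻¹ * s⁻¹ * y₀⁻¹⁻¹ ∈ Qs hF :=
        conj_mem_Qs hF hm (by
          have := hH y₀ hy₀
          rw [← this, inv_smul_smul, this]) ((Qs hF).inv_mem hsQ)
      have : y₀⁻¹ * (s⁻¹ * y₀ * s) = (y₀⁻¹ * s⁻¹ * y₀⁻¹⁻¹) * s := by group
      rw [this]
      exact (Qs hF).mul_mem h1 hsQ
    have hcomg : g⁻¹ * (y₀⁻¹ * (s⁻¹ * y₀ * s)) * g ∈ H := by
      have : g⁻¹ * (y₀⁻¹ * (s⁻¹ * y₀ * s)) * g = (g⁻¹ * y₀ * g)⁻¹ * (g⁻¹ * (s⁻¹ * y₀ * s) * g) := by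
        group
      rw [this]
      exact H.mul_mem (H.inv_mem hy₀g) hconj
    have hcom1 := hKQ _ hcomg hcomQ
    have hcomm : y₀ * s = s * y₀ := by
      have : s⁻¹ * y₀ * s = y₀ := by
        calc s⁻¹ * y₀ * s = y₀ * (y₀⁻¹ * (s⁻¹ * y₀ * s)) := by group
          _ = y₀ := by rw [hcom1, mul_one]
      calc y₀ * s = s * (s⁻¹ * y₀ * s) := by group
        _ = s * y₀ := by rw [this]
    exact hKQ _ hy₀g (bszd05_comm_mem hF hm hsQ hs1 hcomm)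
  have hck : k₀⁻¹ * c = 1 := step _ r hy₀H hy₀g hr hrQ hr1 hk₀r
  have hck' : c = k₀ := by
    calc c = k₀ * (k₀⁻¹ * c) := by group
      _ = k₀ := by rw [hck, mul_one]
  by_cases hw1 : w = 1
  · -- then `r * c * r⁻¹ = c`
    rw [hw1] at hw
    have : r * c * r⁻¹ = c := by
      have h5 : c * (r * c * r⁻¹) = c * c := by rw [hw]; group
      exact mul_left_cancel h5
    have hcomm : c * r = r * c := by
      calc c * r = (r * c * r⁻¹) * r := by rw [this]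
        _ = r * c := by group
    exact hcQ (bszd05_comm_mem hF hm hrQ hr1 hcomm)
  · have hk1' : k₀ = 1 := step k₀ w hk₀H hk₀g hwR.1 hwR.2 hw1 hk₀w
    rw [hk1'] at hck'
    rw [hck'] at hcQ
    exact hcQ (Qs hF).one_mem

end Cfsg.Agent.Lib.helper3.BSZ
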