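import Mathlib
import Cfsg.Agent.Lib.helper3.BSZ.Defs
import Cfsg.Agent.Lib.helper3.BSZD05core
import Cfsg.Agent.Lib.helper6.BSZA07
import Cfsg.Agent.Lib.Helper18.BSZD01
import Cfsg.Agent.Lib.Helper13.BSZD04

set_option autoImplicit false

/-!
# BSZ row D05 (`bm_std`), verbatim: the Borel case in standard position.
-/

namespace Cfsg.Agent.Lib.helper3.BSZ

open Cfsg Cfsg.Agent.Lib.helper3

variable {F : Type*} [Field F] [Fintype F] {m : ℕ}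

theorem bm_std (hF : Fintype.card F = 2 ^ (2 * m + 1)) (hm : 1 ≤ m) (H : Subgroup (Sz F m))
    (hH : ∀ h ∈ H, h • oInf F m = oInf F m) {r c : Sz F m} (hr : r ∈ H) (hrQ : r ∈ Qs hF) (hr1 : r ≠ 1)
    (hc : c ∈ H) (hcQ : c ∉ Qs hF) : ¬ BinH H :=
  bm_std_core hF hm (fun H hB g a b g₁ g₂ g₃ h1 h1' h2' h3' hp => four_point H hB g a b g₁ g₂ g₃ h1 h1' h2' h3' hp)
    (fun hc hcQ => bm_elt hF hm hc hcQ) (bm_inv hF) (fun x y _ hQ hh => bm_meet hF x y hQ hh)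
    (fun R _ hcn hc2 => bm_frob hF hm R hcn hc2) H hH hr hrQ hr1 hc hcQ

end Cfsg.Agent.Lib.helper3.BSZ
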