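import Mathlib
import Cfsg.Agent.Lib.helper3.BSZ.Defs

set_option autoImplicit false

/-!
# BSZ row G01 (`main_step`), core: the cited rows A03, B02, W11, D06, D07, E12, F04, F05 are hypotheses.
-/

namespace Cfsg.Agent.Lib.helper3.BSZ

open Cfsg Cfsg.Agent.Lib.helper3

variable {F : Type*} [Field F] [Fintype F] {m : ℕ}

theorem main_step_core (hF : Fintype.card F = 2 ^ (2 * m + 1)) (hm : 1 ≤ m)
    (binary_conj : ∀ (H : Subgroup (Sz F m)) (g : Sz F m), BinH H ↔ BinH (cj H g))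
    (odd_case : ∀ (H : Subgroup (Sz F m)), Odd (Nat.card H) → H ≠ ⊥ → ¬ BinH H)
    (twogroup_case : ∀ (H : Subgroup (Sz F m)), IsPGroup 2 H → BinH H → H = ⊥ ∨ IsSylCen H)
    (borel_mixed : ∀ (P : Sylow 2 (Sz F m)) (H : Subgroup (Sz F m)),
      H ≤ Subgroup.normalizer ((P : Subgroup (Sz F m)) : Set (Sz F m)) →
      H ⊓ (P : Subgroup (Sz F m)) ≠ ⊥ → ¬ H ≤ (P : Subgroup (Sz F m)) → ¬ BinH H)
    (stab_invol : ∀ (P : Sylow 2 (Sz F m)) {t : Sz F m},
      t ∈ Subgroup.normalizer ((P : Subgroup (Sz F m)) : Set (Sz F m)) → t ≠ 1 → t * t = 1 → t ∈ P)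
    (nu_case : ∀ {U : Subgroup (Sz F m)}, IsTorus m U → ∀ (H : Subgroup (Sz F m)),
      H ≤ Subgroup.normalizer (U : Set (Sz F m)) → ∀ {t : Sz F m}, t ∈ H → t ≠ 1 → t * t = 1 → ¬ BinH H)
    (sub_case : ∀ (K' : Subfield F) (k : ℕ), 1 ≤ k → k < m → Nat.card K' = 2 ^ (2 * k + 1) →
      ∀ (H : Subgroup (Sz F m)), H ≤ subStab m K' → BinH H → H = ⊥ ∨ IsPGroup 2 H ∨ H = subStab m K')
    (S_case : ∀ (K' : Subfield F) (k : ℕ), 1 ≤ k → k < m → Nat.card K' = 2 ^ (2 * k + 1) →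
      ¬ BinH (subStab m K'))
    (H : Subgroup (Sz F m)) (hH : H ≠ ⊤) (hB : BinH H) : H = ⊥ ∨ IsSylCen H := by
  haveI : Finite (Sz F m) := finite_Sz hF hm
  by_cases hodd : Odd (Nat.card H)
  · left
    by_contra hne
    exact odd_case H hodd hne hB
  by_cases h2 : IsPGroup 2 H
  · exact twogroup_case H h2 hB
  exfalso
  have heven : 2 ∣ Nat.card H := by
    rcases Nat.even_or_odd (Nat.card H) with he | ho
    · exact even_iff_two_dvd.1 he
    · exact absurd ho hodd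
  haveI : Fact (Nat.Prime 2) := ⟨Nat.prime_two⟩
  obtain ⟨x, hx⟩ := exists_prime_orderOf_dvd_card' (G := H) 2 heven
  have hto : orderOf (x : Sz F m) = 2 := by rw [Subgroup.orderOf_coe]; exact hx
  have ht : (x : Sz F m) ∈ H := x.2
  have ht1 : (x : Sz F m) ≠ 1 := by
    intro h1
    rw [h1, orderOf_one] at hto
    omega
  have ht2 : (x : Sz F m) * (x : Sz F m) = 1 := by
    have := pow_orderOf_eq_one (x : Sz F m)
    rw [hto, pow_two] at this
    exact this
  rcases sz_subgroup_cases hF hm H hH with ⟨P, hP⟩ | ⟨U, hU, hle⟩ | ⟨K', k, g, hk1, hk2, hK', hle⟩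
  · have htP : (x : Sz F m) ∈ P := stab_invol P (hP ht) ht1 ht2
    refine borel_mixed P H hP ?_ ?_ hB
    · intro hbot
      have : (x : Sz F m) ∈ H ⊓ (P : Subgroup (Sz F m)) := ⟨ht, htP⟩
      rw [hbot] at this
      exact ht1 (Subgroup.mem_bot.1 this)
    · intro hle
      exact h2 (P.isPGroup'.to_le hle)
  · exact nu_case hU H hle ht ht1 ht2 hB
  · have hB' : BinH (cj H g) := (binary_conj H g).1 hB
    rcases sub_case K' k hk1 hk2 hK' (cj H g) hle hB' with h | h | h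
    · have hbot : H = ⊥ := (Subgroup.map_eq_bot_iff_of_injective _ (MulAut.conj g).injective).1 h
      apply hodd
      rw [hbot]
      simp
    · apply h2
      exact h.of_equiv (Subgroup.equivMapOfInjective H _ (MulAut.conj g).injective).symm
    · rw [h] at hB'
      exact S_case K' k hk1 hk2 hK' hB'

end Cfsg.Agent.Lib.helper3.BSZ
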