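import Mathlib
import Cfsg.Agent.Lib.helper3.BSZ.Defs
import Cfsg.Agent.Lib.helper3.BSZG01core
import Cfsg.Agent.Lib.helper17.BSZA03
import Cfsg.Agent.Lib.Helper5.BSZB02
import Cfsg.Agent.Lib.helper15.BSZW11
import Cfsg.Agent.Lib.Helper5.BSZD06
import Cfsg.Agent.Lib.Helper5.BSZD07
import Cfsg.Agent.Lib.Helper1.BSZE11
import Cfsg.Agent.Lib.helper6.BSZF04
import Cfsg.Agent.Lib.Helper13.BSZF05

set_option autoImplicit false

/-!
# BSZ row G01 (`main_step`), verbatim: the induction step.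
-/

namespace Cfsg.Agent.Lib.helper3.BSZ

open Cfsg Cfsg.Agent.Lib.helper3

variable {F : Type*} [Field F] [Fintype F] {m : ℕ}

theorem main_step (hF : Fintype.card F = 2 ^ (2 * m + 1)) (hm : 1 ≤ m)
    (IH : ∀ (K : Type) [Field K] [Fintype K] (k : ℕ), Fintype.card K = 2 ^ (2 * k + 1) → 1 ≤ k → k < m →
      ∀ H' : Subgroup (Sz K k), H' ≠ ⊤ → BinH H' → (H' = ⊥ ∨ IsSylCen H'))
    (H : Subgroup (Sz F m)) (hH : H ≠ ⊤) (hB : BinH H) : H = ⊥ ∨ IsSylCen H :=
  main_step_core hF hm (fun H g => binary_conj H g) (fun H hodd hne => odd_case hF hm H hodd hne)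
    (fun H h2 hB => twogroup_case hF hm H h2 hB)
    (fun P H hHP h1 h2 => borel_mixed hF hm P H hHP h1 h2)
    (fun P _ ht ht1 ht2 => stab_invol hF hm P ht ht1 ht2)
    (fun hU H hHU _ ht ht1 ht2 => nu_case hF hm hU H hHU ht ht1 ht2)
    (fun K' k hk hkm hK' H hH hB => sub_case hF hm IH K' k hk hkm hK' H hH hB)
    (fun K' k hk hkm hK' => S_case hF hm IH K' k hk hkm hK')
    H hH hB

end Cfsg.Agent.Lib.helper3.BSZ
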