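import Mathlib
import Cfsg.Prelude.Def_Classical
import Cfsg.Agent.Lib.helper3.O9A.Defs

set_option autoImplicit false

/-!
# Project O9A, row SKEW (helper3): a skew nilpotent endomorphism with a chain of length `2 r + 1`
from `r` hyperbolic pairs and an anisotropic vector.
-/

namespace Cfsg.Agent.Lib.helper3.O9A

open Matrix Module Polynomial Cfsg.Agent.Lib.Helper1.S8U Cfsg.Agent.Lib.Helper16

section

variable {F : Type*} [Field F] {V : Type*} [AddCommGroup V] [Module F V]

/-- `x ↦ β (x, a) • b - β (x, b) • a` -/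
noncomputable def o9askew_S (Q : QuadraticForm F V) (a b : V) : Module.End F V :=
  ((QuadraticMap.polarBilin Q).flip a).smulRight b - ((QuadraticMap.polarBilin Q).flip b).smulRight a

theorem o9askew_S_apply (Q : QuadraticForm F V) (a b x : V) :
    o9askew_S Q a b x = QuadraticMap.polar Q x a • b - QuadraticMap.polar Q x b • a := by
  unfold o9askew_S
  simp [LinearMap.smulRight_apply, LinearMap.flip_apply, QuadraticMap.polarBilin_apply_apply]

theorem o9askew_S_skew (Q : QuadraticForm F V) (a b x x' : V) :
    QuadraticMap.polar Q (o9askew_S Q a b x) x' = - QuadraticMap.polar Q x (o9askew_S Q a b x') := by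
  rw [o9askew_S_apply, o9askew_S_apply, QuadraticMap.polar_sub_left, QuadraticMap.polar_sub_right,
    QuadraticMap.polar_smul_left, QuadraticMap.polar_smul_left, QuadraticMap.polar_smul_right,
    QuadraticMap.polar_smul_right]
  simp only [smul_eq_mul]
  rw [QuadraticMap.polar_comm Q b x', QuadraticMap.polar_comm Q a x', QuadraticMap.polar_comm Q x' a,
    QuadraticMap.polar_comm Q x' b]
  ring

theorem o9askew_polar_pres (Q : QuadraticForm F V) (a : Module.End F V) (ha : ∀ v, Q (a v) = Q v) (x y : V) :
    QuadraticMap.polar Q (a x) (a y) = QuadraticMap.polar Q x y := by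
  unfold QuadraticMap.polar
  rw [← map_add, ha, ha, ha]

theorem o9askew_S_comm (Q : QuadraticForm F V) (a : Module.End F V) (ha : ∀ v, Q (a v) = Q v) (u w : V)
    (hu : a u = u) (hw : a w = w) : Commute a (o9askew_S Q u w) := by
  show a * o9askew_S Q u w = o9askew_S Q u w * a
  apply LinearMap.ext
  intro x
  rw [Module.End.mul_apply, Module.End.mul_apply, o9askew_S_apply, o9askew_S_apply, map_sub, map_smul, map_smul, hu, hw]
  have h1 : QuadraticMap.polar Q (a x) u = QuadraticMap.polar Q x u := by
    conv_lhs => rw [← hu]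
    exact o9askew_polar_pres Q a ha x u
  have h2 : QuadraticMap.polar Q (a x) w = QuadraticMap.polar Q x w := by
    conv_lhs => rw [← hw]
    exact o9askew_polar_pres Q a ha x w
  rw [h1, h2]

end

theorem skew_nil {F : Type*} [Field F] (h2 : (2 : F) ≠ 0) {V : Type*} [AddCommGroup V] [Module F V] (Q : QuadraticForm F V) (r : ℕ)
    (e f : Fin r → V) (z : V) (he : ∀ i, Q (e i) = 0) (hf : ∀ i, Q (f i) = 0) (hz : Q z ≠ 0)
    (hef : ∀ i j, QuadraticMap.polar Q (e i) (f j) = if i = j then 1 else 0)
    (hee : ∀ i j, i ≠ j → QuadraticMap.polar Q (e i) (e j) = 0) (hff : ∀ i j, i ≠ j → QuadraticMap.polar Q (f i) (f j) = 0)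
    (hez : ∀ i, QuadraticMap.polar Q (e i) z = 0) (hfz : ∀ i, QuadraticMap.polar Q (f i) z = 0) :
    ∃ N : Module.End F V, (∀ x x', QuadraticMap.polar Q (N x) x' = - QuadraticMap.polar Q x (N x')) ∧ N ^ (2 * r) ≠ 0 ∧ N ^ (2 * r + 1) = 0 ∧
      ∀ a : Module.End F V, (∀ v, Q (a v) = Q v) → (∀ i, a (e i) = e i) → (∀ i, a (f i) = f i) → a z = z → Commute a N := by
  classical
  -- polar relations, all index pairs
  have hself : ∀ x, QuadraticMap.polar Q x x = 2 * Q x := fun x => by
    rw [QuadraticMap.polar_self]; simp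
  have hee' : ∀ i j, QuadraticMap.polar Q (e i) (e j) = 0 := by
    intro i j
    by_cases h : i = j
    · subst h; rw [hself, he, mul_zero]
    · exact hee i j h
  have hff' : ∀ i j, QuadraticMap.polar Q (f i) (f j) = 0 := by
    intro i j
    by_cases h : i = j
    · subst h; rw [hself, hf, mul_zero]
    · exact hff i j h
  have hfe : ∀ i j, QuadraticMap.polar Q (f j) (e i) = if i = j then 1 else 0 := fun i j => by
    rw [QuadraticMap.polar_comm]; exact hef i j
  have hze : ∀ i, QuadraticMap.polar Q z (e i) = 0 := fun i => by rw [QuadraticMap.polar_comm]; exact hez i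
  have hzf : ∀ i, QuadraticMap.polar Q z (f i) = 0 := fun i => by rw [QuadraticMap.polar_comm]; exact hfz i
  set c : F := 2 * Q z with hc
  have hc0 : c ≠ 0 := mul_ne_zero h2 hz
  have hzz : QuadraticMap.polar Q z z = c := hself z
  -- the successor vector
  let nxt : Fin r → V := fun i => if h : (i : ℕ) + 1 < r then e ⟨i + 1, h⟩ else z
  let N : Module.End F V := ∑ i : Fin r, o9askew_S Q (f i) (nxt i)
  have hN_apply : ∀ x, N x = ∑ i : Fin r, (QuadraticMap.polar Q x (f i) • nxt i - QuadraticMap.polar Q x (nxt i) • f i) := by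
    intro x
    show (∑ i : Fin r, o9askew_S Q (f i) (nxt i)) x = _
    rw [LinearMap.sum_apply]
    exact Finset.sum_congr rfl fun i _ => o9askew_S_apply Q _ _ x
  -- polar with nxt
  have he_nxt : ∀ j i, QuadraticMap.polar Q (e j) (nxt i) = 0 := by
    intro j i
    show QuadraticMap.polar Q (e j) (if h : (i : ℕ) + 1 < r then e ⟨i + 1, h⟩ else z) = 0
    split_ifs with h
    · exact hee' _ _
    · exact hez _
  have hf_nxt : ∀ j i, QuadraticMap.polar Q (f j) (nxt i) = if (i : ℕ) + 1 = j then 1 else 0 := by
    intro j i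
    show QuadraticMap.polar Q (f j) (if h : (i : ℕ) + 1 < r then e ⟨i + 1, h⟩ else z) = _
    split_ifs with h h' h'
    · rw [hfe]
      have : (⟨(i : ℕ) + 1, h⟩ : Fin r) = j := Fin.ext h'
      rw [if_pos this]
    · rw [hfe]
      have : ¬ (⟨(i : ℕ) + 1, h⟩ : Fin r) = j := fun hh => h' (by rw [← hh])
      rw [if_neg this]
    · exfalso
      have := j.2
      omega
    · exact hfz _
  have hz_nxt : ∀ i, QuadraticMap.polar Q z (nxt i) = if (i : ℕ) + 1 = r then c else 0 := by
    intro i
    show QuadraticMap.polar Q z (if h : (i : ℕ) + 1 < r then e ⟨i + 1, h⟩ else z) = _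
    split_ifs with h h' h'
    · omega
    · exact hze _
    · exact hzz
    · exfalso
      have := i.2
      omega
  -- the action of N
  have hNe : ∀ j, N (e j) = nxt j := by
    intro j
    rw [hN_apply]
    have : ∀ i : Fin r, QuadraticMap.polar Q (e j) (f i) • nxt i - QuadraticMap.polar Q (e j) (nxt i) • f i =
        if j = i then nxt i else 0 := by
      intro i
      rw [hef, he_nxt, zero_smul, sub_zero]
      split_ifs <;> simp
    rw [Finset.sum_congr rfl fun i _ => this i, Finset.sum_ite_eq]
    simp
  have hNf : ∀ j : Fin r, N (f j) = if h : 1 ≤ (j : ℕ) then - f ⟨j - 1, by omega⟩ else 0 := by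
    intro j
    rw [hN_apply]
    have h1 : ∀ i : Fin r, QuadraticMap.polar Q (f j) (f i) • nxt i - QuadraticMap.polar Q (f j) (nxt i) • f i =
        if (i : ℕ) + 1 = j then - f i else 0 := by
      intro i
      rw [hff', hf_nxt, zero_smul, zero_sub]
      split_ifs <;> simp
    rw [Finset.sum_congr rfl fun i _ => h1 i]
    split_ifs with h
    · rw [Finset.sum_eq_single (⟨j - 1, by omega⟩ : Fin r)]
      · rw [if_pos]
        show (j : ℕ) - 1 + 1 = j
        omega
      · intro i _ hi
        rw [if_neg]
        intro hh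
        apply hi
        apply Fin.ext
        show (i : ℕ) = j - 1
        omega
      · intro hh
        exact absurd (Finset.mem_univ _) hh
    · apply Finset.sum_eq_zero
      intro i _
      rw [if_neg]
      omega
  have hNz : N z = if h : 1 ≤ r then - (c • f ⟨r - 1, by omega⟩) else 0 := by
    rw [hN_apply]
    have h1 : ∀ i : Fin r, QuadraticMap.polar Q z (f i) • nxt i - QuadraticMap.polar Q z (nxt i) • f i =
        if (i : ℕ) + 1 = r then - (c • f i) else 0 := by
      intro i
      rw [hzf, hz_nxt, zero_smul, zero_sub]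
      split_ifs <;> simp
    rw [Finset.sum_congr rfl fun i _ => h1 i]
    split_ifs with h
    · rw [Finset.sum_eq_single (⟨r - 1, by omega⟩ : Fin r)]
      · rw [if_pos]
        show r - 1 + 1 = r
        omega
      · intro i _ hi
        rw [if_neg]
        intro hh
        apply hi
        apply Fin.ext
        show (i : ℕ) = r - 1
        omega
      · intro hh
        exact absurd (Finset.mem_univ _) hh
    · apply Finset.sum_eq_zero
      intro i _
      rw [if_neg]
      omega
  -- the chain
  let v : ℕ → V := fun i =>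
    if h : i < r then e ⟨i, h⟩
    else if h0 : i = r then z
    else if h' : i ≤ 2 * r then ((-1 : F) ^ (i - r) * c) • f ⟨2 * r - i, by omega⟩
    else 0
  have hv_lt : ∀ i (h : i < r), v i = e ⟨i, h⟩ := fun i h => by
    show (if h : i < r then e ⟨i, h⟩ else _) = _
    rw [dif_pos h]
  have hv_r : v r = z := by
    show (if h : r < r then e ⟨r, h⟩ else if h0 : r = r then z else _) = _
    rw [dif_neg (lt_irrefl r), dif_pos rfl]
  have hv_mid : ∀ i (h1 : r < i) (h2' : i ≤ 2 * r), v i = ((-1 : F) ^ (i - r) * c) • f ⟨2 * r - i, by omega⟩ := by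
    intro i h1 h2'
    show (if h : i < r then e ⟨i, h⟩ else if h0 : i = r then z else if h' : i ≤ 2 * r then _ else 0) = _
    rw [dif_neg (by omega), dif_neg (by omega), dif_pos h2']
  have hv_big : ∀ i, 2 * r < i → v i = 0 := by
    intro i h1
    show (if h : i < r then e ⟨i, h⟩ else if h0 : i = r then z else if h' : i ≤ 2 * r then _ else 0) = _
    rw [dif_neg (by omega), dif_neg (by omega), dif_neg (by omega)]
  have hNv : ∀ i, N (v i) = v (i + 1) := by
    intro i
    rcases lt_trichotomy i r with h | h | h
    · rw [hv_lt i h, hNe]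
      show (if h' : i + 1 < r then e ⟨i + 1, h'⟩ else z) = _
      split_ifs with h'
      · rw [hv_lt (i + 1) h']
      · have : i + 1 = r := by omega
        rw [this, hv_r]
    · subst h
      rw [hv_r, hNz]
      split_ifs with h'
      · rw [hv_mid (i + 1) (by omega) (by omega)]
        have h3 : i + 1 - i = 1 := by omega
        rw [h3, pow_one, neg_one_mul, neg_smul]
        have hidx : (⟨i - 1, by omega⟩ : Fin i) = ⟨2 * i - (i + 1), by omega⟩ := Fin.ext (by
          show i - 1 = 2 * i - (i + 1)
          omega)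
        rw [hidx]
      · rw [hv_big (i + 1) (by omega)]
    · by_cases h' : i ≤ 2 * r
      · rw [hv_mid i h h', map_smul, hNf]
        split_ifs with h4
        · rw [hv_mid (i + 1) (by omega) (by
            have : 1 ≤ 2 * r - i := h4
            omega)]
          have h5 : i + 1 - r = (i - r) + 1 := by omega
          have hidx : (⟨2 * r - i - 1, by omega⟩ : Fin r) = ⟨2 * r - (i + 1), by omega⟩ := Fin.ext (by
            show 2 * r - i - 1 = 2 * r - (i + 1)
            omega)
          rw [h5, pow_succ, smul_neg, ← neg_smul, hidx]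
          congr 1
          ring
        · rw [smul_zero, hv_big (i + 1) (by
            have : ¬ 1 ≤ 2 * r - i := h4
            omega)]
      · rw [hv_big i (by omega), map_zero, hv_big (i + 1) (by omega)]
  have hNpow : ∀ k i, (N ^ k) (v i) = v (i + k) := by
    intro k
    induction k with
    | zero => intro i; simp
    | succ k ih =>
      intro i
      rw [pow_succ, Module.End.mul_apply, hNv, ih]
      congr 1
      omega
  -- nxt and f in terms of the chain
  have hnxt_v : ∀ i : Fin r, nxt i = v ((i : ℕ) + 1) := by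
    intro i
    show (if h : (i : ℕ) + 1 < r then e ⟨i + 1, h⟩ else z) = _
    split_ifs with h
    · rw [hv_lt _ h]
    · have : (i : ℕ) + 1 = r := by have := i.2; omega
      rw [this, hv_r]
  have hf_v : ∀ i : Fin r, f i = ((-1 : F) ^ (2 * r - i - r) * c)⁻¹ • v (2 * r - i) := by
    intro i
    have hi := i.2
    rw [hv_mid (2 * r - i) (by omega) (by omega), smul_smul, inv_mul_cancel₀, one_smul]
    · congr 1
      apply Fin.ext
      show (i : ℕ) = 2 * r - (2 * r - i)
      omega
    · exact mul_ne_zero (pow_ne_zero _ (by norm_num)) hc0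
  refine ⟨N, ?_, ?_, ?_, ?_⟩
  · intro x x'
    show QuadraticMap.polar Q ((∑ i : Fin r, o9askew_S Q (f i) (nxt i)) x) x' =
      - QuadraticMap.polar Q x ((∑ i : Fin r, o9askew_S Q (f i) (nxt i)) x')
    rw [LinearMap.sum_apply, LinearMap.sum_apply]
    have hl : QuadraticMap.polar Q (∑ i : Fin r, o9askew_S Q (f i) (nxt i) x) x' =
        ∑ i : Fin r, QuadraticMap.polar Q (o9askew_S Q (f i) (nxt i) x) x' := by
      exact map_sum ((QuadraticMap.polarBilin Q).flip x') (fun i : Fin r => o9askew_S Q (f i) (nxt i) x) Finset.univ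
    have hr : QuadraticMap.polar Q x (∑ i : Fin r, o9askew_S Q (f i) (nxt i) x') =
        ∑ i : Fin r, QuadraticMap.polar Q x (o9askew_S Q (f i) (nxt i) x') := by
      exact map_sum ((QuadraticMap.polarBilin Q) x) (fun i : Fin r => o9askew_S Q (f i) (nxt i) x') Finset.univ
    rw [hl, hr, ← Finset.sum_neg_distrib]
    exact Finset.sum_congr rfl fun i _ => o9askew_S_skew Q _ _ x x'
  · intro h0
    have h1 : (N ^ (2 * r)) (v 0) = v (2 * r) := by rw [hNpow]; simp
    rw [h0, LinearMap.zero_apply] at h1
    rcases Nat.eq_zero_or_pos r with hr | hr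
    · subst hr
      rw [hv_r] at h1
      apply hz
      rw [← h1, map_zero]
    · rw [hv_mid (2 * r) (by omega) le_rfl] at h1
      have h3 := hef ⟨0, hr⟩ ⟨2 * r - 2 * r, by omega⟩
      have h4 : f ⟨2 * r - 2 * r, by omega⟩ = 0 := by
        rcases smul_eq_zero.mp h1.symm with h | h
        · exact absurd h (mul_ne_zero (pow_ne_zero _ (by norm_num)) hc0)
        · exact h
      rw [h4, QuadraticMap.polar_zero_right, if_pos (Fin.ext (by show 0 = 2 * r - 2 * r; omega))] at h3
      exact zero_ne_one h3
  · apply LinearMap.ext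
    intro x
    rw [pow_succ, Module.End.mul_apply, hN_apply, map_sum, LinearMap.zero_apply]
    apply Finset.sum_eq_zero
    intro i _
    have hi := i.2
    rw [map_sub, map_smul, map_smul, hnxt_v, hNpow, hv_big ((i : ℕ) + 1 + 2 * r) (by omega), smul_zero, zero_sub, hf_v,
      map_smul, hNpow, hv_big (2 * r - (i : ℕ) + 2 * r) (by omega), smul_zero, smul_zero, neg_zero]
  · intro a ha hae haf haz
    show Commute a (∑ i : Fin r, o9askew_S Q (f i) (nxt i))
    apply Commute.sum_right
    intro i _
    apply o9askew_S_comm Q a ha _ _ (haf i)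
    show a (if h : (i : ℕ) + 1 < r then e ⟨i + 1, h⟩ else z) = (if h : (i : ℕ) + 1 < r then e ⟨i + 1, h⟩ else z)
    split_ifs with h
    · exact hae _
    · exact haz

end Cfsg.Agent.Lib.helper3.O9A
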