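import Mathlib
import Cfsg.Agent.Lib.Helper19.SPD.Defs
import Cfsg.Agent.Lib.helper6.Symp

/-!
# Project SPD (S5961), row NONSC: a symplectic `x` with `x ^ r = 1`, `r` odd, which is scalar is `1`.
-/

set_option autoImplicit false
set_option linter.unusedVariables false
set_option linter.unusedSectionVars false

namespace Cfsg.Agent.Lib.Helper19.SPD

open Matrix

variable {F : Type*} [Field F] {d : ℕ}

/-- a scalar symplectic matrix has `z ^ 2 = 1` (`d ≥ 1`). -/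
theorem spdnonsc_sq_one (hd : 1 ≤ d) (z : F)
    (h : z • (1 : Matrix (Fin d ⊕ Fin d) (Fin d ⊕ Fin d) F) ∈ Matrix.symplecticGroup (Fin d) F) :
    z * z = 1 := by
  rw [Cfsg.Agent.Lib.helper6.mem_symplecticGroup_iff_sympForm] at h
  let i : Fin d ⊕ Fin d := Sum.inl ⟨0, by omega⟩
  have h1 := h (Pi.single i 1) (-(Matrix.J (Fin d) F *ᵥ Pi.single i 1))
  rw [Matrix.smul_mulVec, Matrix.one_mulVec, Matrix.smul_mulVec, Matrix.one_mulVec,
    Cfsg.Agent.Lib.helper6.sympForm_smul_left, Cfsg.Agent.Lib.helper6.sympForm_smul_right,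
    Cfsg.Agent.Lib.helper6.sympForm_J_single, Pi.single_eq_same, mul_one] at h1
  exact h1

/-- `z ^ 2 = 1` and `z ^ r = 1` with `r` odd force `z = 1`. -/
theorem spdnonsc_eq_one (r : ℕ) (hr : Odd r) (z : F) (h2 : z * z = 1) (hzr : z ^ r = 1) : z = 1 := by
  obtain ⟨k, rfl⟩ := hr
  rw [pow_succ, pow_mul, pow_two, h2, one_pow, one_mul] at hzr
  exact hzr

/-- NONSC [S-M]. -/
theorem nonscalar (r : ℕ) (hr : Odd r) (hd : 1 ≤ d) (x : ↥(Matrix.symplecticGroup (Fin d) F)) (hx : x ^ r = 1)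
    (hfx : Module.finrank F ↥(Fx (Matrix.toLin' (x : Matrix (Fin d ⊕ Fin d) (Fin d ⊕ Fin d) F))) ≠ 2 * d) :
    ∀ z : F, (x : Matrix (Fin d ⊕ Fin d) (Fin d ⊕ Fin d) F) ≠ z • (1 : Matrix (Fin d ⊕ Fin d) (Fin d ⊕ Fin d) F) := by
  intro z hxz
  have hmem : z • (1 : Matrix (Fin d ⊕ Fin d) (Fin d ⊕ Fin d) F) ∈ Matrix.symplecticGroup (Fin d) F := by
    rw [← hxz]
    exact x.2
  have h2 := spdnonsc_sq_one hd z hmem
  have hpow : (x : Matrix (Fin d ⊕ Fin d) (Fin d ⊕ Fin d) F) ^ r = 1 := by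
    have := congrArg (fun y : ↥(Matrix.symplecticGroup (Fin d) F) =>
      (y : Matrix (Fin d ⊕ Fin d) (Fin d ⊕ Fin d) F)) hx
    simpa using this
  rw [hxz, _root_.smul_pow, one_pow] at hpow
  let i : Fin d ⊕ Fin d := Sum.inl ⟨0, by omega⟩
  have hzr : z ^ r = 1 := by
    have := congrFun (congrFun hpow i) i
    simpa using this
  have hz1 := spdnonsc_eq_one r hr z h2 hzr
  apply hfx
  rw [hxz, hz1, one_smul]
  have hker : Fx (Matrix.toLin' (1 : Matrix (Fin d ⊕ Fin d) (Fin d ⊕ Fin d) F)) = ⊤ := by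
    unfold Fx
    rw [Matrix.toLin'_one]
    ext v
    simp
  rw [hker, finrank_top, Module.finrank_fintype_fun_eq_card, Fintype.card_sum, Fintype.card_fin]
  ring

end Cfsg.Agent.Lib.Helper19.SPD
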