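import Cfsg.Agent.Lib.helper7.TO.Basic

/-!
# Project TO, piece COMMB: `commB` (the commutator of an element of `Q_{A ⊗ w}` with `1 ⊗ τ_n`)
-/

set_option autoImplicit false

namespace Cfsg.Agent.Lib.helper7.TO

open Matrix Cfsg.Agent.Lib.helper7.TP Cfsg.Agent.Lib.Helper28.SympAbs
open scoped Kronecker

variable {a b : ℕ} {F : Type*} [Field F]

/-- a vector of `A` is determined by the functional `f₁ · u'`. -/
theorem tocommb_ext₁ (C : Ctx a b F) (t t' : Fin a → F)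
    (h : ∀ u' : Fin a → F, C.f₁ t u' = C.f₁ t' u') : t = t' := by
  by_contra hne
  have hne' : t - t' ≠ 0 := sub_ne_zero.mpr hne
  obtain ⟨x, hx⟩ := (C.hf₁.nondegenerate _ hne').2
  apply hx
  rw [Cfsg.Agent.Lib.Helper28.SympAbs.f_sub_left C.hf₁, h, sub_self]

/-- the contraction of `h⁻¹ (x' ⊗ y')` along `n`. -/
theorem tocommb_ctr (C : Ctx a b F) (h : Matrix.GeneralLinearGroup (Fin a × Fin b) F)
    (hh : h ∈ C.G) (w n : Fin b → F) (Z : Matrix (Fin a) (Fin a) F)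
    (hZ : ∀ x : Fin a → F,
      (h : Matrix (Fin a × Fin b) (Fin a × Fin b) F) *ᵥ ten x n = ten x n + ten (Z *ᵥ x) w)
    (x' : Fin a → F) (y' : Fin b → F) :
    ctr (C.fl₂ n) (((h⁻¹ : Matrix.GeneralLinearGroup (Fin a × Fin b) F) :
      Matrix (Fin a × Fin b) (Fin a × Fin b) F) *ᵥ ten x' y') =
      C.f₂ y' n • x' + C.f₂ y' w • (C.adj₁ Z *ᵥ x') := by
  apply tocommb_ext₁ C
  intro u'
  rw [← C.f_ten_right_B, C.G_f_inv hh, hZ, C.hf.add_right, C.f_ten, C.f_ten,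
    C.hf₁.bilinear.add_left, C.hf₁.bilinear.smul_left, C.hf₁.bilinear.smul_left]
  have e : C.f₁ x' (Z *ᵥ u') = C.f₁ (C.adj₁ Z *ᵥ x') u' := by
    rw [C.hf₁.skew x' (Z *ᵥ u'), C.f₁_adj, C.hf₁.skew u' _, neg_neg]
  rw [e]
  ring

/-- NTSB1: the commutator of an element of `Q_{A ⊗ w}` with `1 ⊗ τ_n`. -/
theorem commB (C : Ctx a b F) (h : Matrix.GeneralLinearGroup (Fin a × Fin b) F) (hh : h ∈ C.G)
    (w n : Fin b → F) (hn : C.f₂ n w = 0) (Z : Matrix (Fin a) (Fin a) F)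
    (hZ : ∀ x : Fin a → F,
      (h : Matrix (Fin a × Fin b) (Fin a × Fin b) F) *ᵥ ten x n = ten x n + ten (Z *ᵥ x) w)
    (c : F) :
    C.IsHB (h * C.tvB n c * h⁻¹ * (C.tvB n c)⁻¹) (c • Z) (c • C.adj₁ Z) (c • (Z * C.adj₁ Z))
      w n := by
  intro x y
  have hinv : (((C.tvB n c)⁻¹ : Matrix.GeneralLinearGroup (Fin a × Fin b) F) :
      Matrix (Fin a × Fin b) (Fin a × Fin b) F) =
      ELm (-(c • (1 : Matrix (Fin a) (Fin a) F))) n (C.fl₂ n) := rfl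
  have hnn : C.f₂ n n = 0 := C.hf₂.alternating n
  -- the inner vector
  have hX : (((C.tvB n c)⁻¹ : Matrix.GeneralLinearGroup (Fin a × Fin b) F) :
      Matrix (Fin a × Fin b) (Fin a × Fin b) F) *ᵥ ten x y =
      ten x y + ten (-(c * C.f₂ y n) • x) n := by
    rw [hinv, ELm_mulVec, C.ctr_fl₂_ten, Matrix.neg_mulVec, Matrix.smul_mulVec, Matrix.one_mulVec,
      smul_smul, neg_smul]
  have ht : ctr (C.fl₂ n) (((h⁻¹ : Matrix.GeneralLinearGroup (Fin a × Fin b) F) :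
      Matrix (Fin a × Fin b) (Fin a × Fin b) F) *ᵥ (ten x y + ten (-(c * C.f₂ y n) • x) n)) =
      C.f₂ y n • x + C.f₂ y w • (C.adj₁ Z *ᵥ x) := by
    rw [Matrix.mulVec_add, ctr_add, tocommb_ctr C h hh w n Z hZ, tocommb_ctr C h hh w n Z hZ, hnn,
      hn, zero_smul, zero_smul, add_zero, add_zero]
  rw [Units.val_mul, Units.val_mul, Units.val_mul, ← Matrix.mulVec_mulVec, ← Matrix.mulVec_mulVec,
    ← Matrix.mulVec_mulVec, hX]
  have htv : ((C.tvB n c : Matrix.GeneralLinearGroup (Fin a × Fin b) F) :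
      Matrix (Fin a × Fin b) (Fin a × Fin b) F) = ELm (c • (1 : Matrix (Fin a) (Fin a) F)) n
        (C.fl₂ n) := rfl
  rw [htv, ELm_mulVec, ht, Matrix.mulVec_add, Ctx.mulVec_inv_mulVec, hZ, Matrix.smul_mulVec,
    Matrix.one_mulVec, Matrix.mulVec_smul, Matrix.smul_mulVec, Matrix.smul_mulVec, Matrix.smul_mulVec,
    ← Matrix.mulVec_mulVec]
  simp only [ten_add_left, ten_smul_left, ten_neg_left, Matrix.mulVec_add, Matrix.mulVec_smul, smul_add, smul_smul,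
    neg_smul, mul_comm]
  abel

end Cfsg.Agent.Lib.helper7.TO
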