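import Cfsg.Agent.Lib.helper7.TO.Basic

/-!
# Project TO, piece COMMHB: `commHB` (the commutator of an element of the shape `IsHB` with
`τ_u(c) ⊗ 1`)
-/

set_option autoImplicit false

namespace Cfsg.Agent.Lib.helper7.TO

open Matrix Cfsg.Agent.Lib.helper7.TP Cfsg.Agent.Lib.Helper28.SympAbs
open scoped Kronecker

variable {a b : ℕ} {F : Type*} [Field F]

/-- an element of the shape `IsHB` fixes `A ⊗ w`. -/
theorem tocommhb_fix_w (C : Ctx a b F) (h : Matrix.GeneralLinearGroup (Fin a × Fin b) F)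
    (Z Zs κ : Matrix (Fin a) (Fin a) F) (w n : Fin b → F) (hwn : C.f₂ w n = 0)
    (hh : C.IsHB h Z Zs κ w n) (x : Fin a → F) :
    (h : Matrix (Fin a × Fin b) (Fin a × Fin b) F) *ᵥ ten x w = ten x w := by
  rw [hh, hwn, C.hf₂.alternating, zero_smul, zero_smul, zero_smul, add_zero, add_zero, add_zero]

/-- an element of the shape `IsHB` fixes `A ⊗ n`. -/
theorem tocommhb_fix_n (C : Ctx a b F) (h : Matrix.GeneralLinearGroup (Fin a × Fin b) F)
    (Z Zs κ : Matrix (Fin a) (Fin a) F) (w n : Fin b → F) (hwn : C.f₂ w n = 0)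
    (hh : C.IsHB h Z Zs κ w n) (x : Fin a → F) :
    (h : Matrix (Fin a × Fin b) (Fin a × Fin b) F) *ᵥ ten x n = ten x n := by
  have hnw : C.f₂ n w = 0 := by rw [C.hf₂.skew, hwn, neg_zero]
  rw [hh, hnw, C.hf₂.alternating, zero_smul, zero_smul, zero_smul, add_zero, add_zero, add_zero]

/-- the inverse of an element of the shape `IsHB`. -/
theorem tocommhb_inv (C : Ctx a b F) (h : Matrix.GeneralLinearGroup (Fin a × Fin b) F)
    (Z Zs κ : Matrix (Fin a) (Fin a) F) (w n : Fin b → F) (hwn : C.f₂ w n = 0)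
    (hh : C.IsHB h Z Zs κ w n) (x : Fin a → F) (y : Fin b → F) :
    ((h⁻¹ : Matrix.GeneralLinearGroup (Fin a × Fin b) F) :
      Matrix (Fin a × Fin b) (Fin a × Fin b) F) *ᵥ ten x y =
      ten x y - C.f₂ y n • ten (Z *ᵥ x) w - C.f₂ y w • ten (Zs *ᵥ x) n -
        C.f₂ y w • ten (κ *ᵥ x) w := by
  have key : (h : Matrix (Fin a × Fin b) (Fin a × Fin b) F) *ᵥ
      (ten x y - C.f₂ y n • ten (Z *ᵥ x) w - C.f₂ y w • ten (Zs *ᵥ x) n -
        C.f₂ y w • ten (κ *ᵥ x) w) = ten x y := by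
    rw [Matrix.mulVec_sub, Matrix.mulVec_sub, Matrix.mulVec_sub, Matrix.mulVec_smul,
      Matrix.mulVec_smul, Matrix.mulVec_smul, tocommhb_fix_w C h Z Zs κ w n hwn hh,
      tocommhb_fix_w C h Z Zs κ w n hwn hh, tocommhb_fix_n C h Z Zs κ w n hwn hh, hh]
    abel
  rw [← key, Ctx.inv_mulVec_mulVec, key]

/-- NTSB2: the commutator of an element of the shape `IsHB` with `τ_u(c) ⊗ 1`. -/
theorem commHB (C : Ctx a b F) (h : Matrix.GeneralLinearGroup (Fin a × Fin b) F)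
    (Z Zs κ : Matrix (Fin a) (Fin a) F) (w n : Fin b → F) (hwn : C.f₂ w n = 0)
    (hh : C.IsHB h Z Zs κ w n) (u : Fin a → F) (c : F) :
    C.IsHB (h * C.tvA u c * h⁻¹ * (C.tvA u c)⁻¹)
      (Z - tvm C.f₁ u c * Z * tvm C.f₁ u (-c)) (Zs - tvm C.f₁ u c * Zs * tvm C.f₁ u (-c))
      (κ - tvm C.f₁ u c * κ * tvm C.f₁ u (-c)) w n := by
  intro x y
  have hτ : ∀ (x' : Fin a → F) (y' : Fin b → F),
      ((C.tvA u c : Matrix.GeneralLinearGroup (Fin a × Fin b) F) :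
        Matrix (Fin a × Fin b) (Fin a × Fin b) F) *ᵥ ten x' y' = ten (tvm C.f₁ u c *ᵥ x') y' := by
    intro x' y'
    rw [C.tvA_eq_kA, kA_mulVec_ten, tvg_coe]
  have hτi : ∀ (x' : Fin a → F) (y' : Fin b → F),
      (((C.tvA u c)⁻¹ : Matrix.GeneralLinearGroup (Fin a × Fin b) F) :
        Matrix (Fin a × Fin b) (Fin a × Fin b) F) *ᵥ ten x' y' =
        ten (tvm C.f₁ u (-c) *ᵥ x') y' := by
    intro x' y'
    rw [C.tvA_eq_kA, ← map_inv, kA_mulVec_ten]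
    rfl
  have hττ : ∀ x' : Fin a → F, tvm C.f₁ u c *ᵥ (tvm C.f₁ u (-c) *ᵥ x') = x' := by
    intro x'
    rw [Matrix.mulVec_mulVec, tvm_mul_tvm C.hf₁, add_neg_cancel, tvm_zero, Matrix.one_mulVec]
  rw [Units.val_mul, Units.val_mul, Units.val_mul, ← Matrix.mulVec_mulVec, ← Matrix.mulVec_mulVec,
    ← Matrix.mulVec_mulVec, hτi, tocommhb_inv C h Z Zs κ w n hwn hh]
  simp only [Matrix.mulVec_sub, Matrix.mulVec_smul, hτ, hττ,
    tocommhb_fix_w C h Z Zs κ w n hwn hh, tocommhb_fix_n C h Z Zs κ w n hwn hh]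
  rw [hh]
  simp only [Matrix.sub_mulVec, ten_sub_left, smul_sub, ← Matrix.mulVec_mulVec]
  abel

end Cfsg.Agent.Lib.helper7.TO
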