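import Mathlib
import Cfsg.Agent.S0340
import Cfsg.Agent.Lib.helper6.PSL2Index

set_option autoImplicit false

namespace Cfsg.Agent.Lib.helper3.S496

theorem s720_zass_arith (q g : ℕ) (h2 : 2 ≤ q) (hg : g = Nat.gcd 2 (q - 1))
    (h : 720 * g = q * (q ^ 2 - 1)) : False := by
  have hg2 : g ≤ 2 := by
    rw [hg]
    exact Nat.le_of_dvd (by norm_num) (Nat.gcd_dvd_left 2 (q - 1))
  have hq : q ≤ 11 := by
    by_contra hcon
    push Not at hcon
    have h1 : 12 * (12 ^ 2 - 1) ≤ q * (q ^ 2 - 1) := by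
      apply Nat.mul_le_mul hcon
      apply Nat.sub_le_sub_right
      exact Nat.pow_le_pow_left hcon 2
    norm_num at h1
    omega
  interval_cases q <;> simp at hg <;> subst hg <;> omega

/-- 720-D4 -/
theorem s720_zass {G : Type*} [Group G] [Finite G] [IsSimpleGroup G] (hG : Nat.card G = 720)
    {Ω : Type*} [MulAction G Ω] [Finite Ω] (hZ : Cfsg.IsZassenhausGroup G Ω) : False := by
  rcases Cfsg.Agent.S0340.result hZ with ⟨F, hF, hFt, ⟨e⟩⟩ | hS
  · have hc : Nat.card (Matrix.ProjectiveSpecialLinearGroup (Fin 2) F) = 720 := by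
      rw [← hG]
      exact (Nat.card_congr e.toEquiv).symm
    have h1 := Cfsg.Agent.Lib.helper6.PSL2Index.card_PSL2_mul (F := F)
    rw [hc] at h1
    exact s720_zass_arith (Fintype.card F) _ Fintype.one_lt_card rfl h1
  · obtain ⟨-, m, hm, hcard⟩ := hS
    rw [hG] at hcard
    have h8 : 2 ^ 3 ≤ 2 ^ (2 * m + 1) := Nat.pow_le_pow_right (by norm_num) (by omega)
    set q := 2 ^ (2 * m + 1) with hq
    have h8' : 8 ≤ q := by simpa using h8
    have h1 : 8 ^ 2 * (8 ^ 2 + 1) * (8 - 1) ≤ q ^ 2 * (q ^ 2 + 1) * (q - 1) := by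
      apply Nat.mul_le_mul
      · apply Nat.mul_le_mul
        · exact Nat.pow_le_pow_left h8' 2
        · exact Nat.add_le_add_right (Nat.pow_le_pow_left h8' 2) 1
      · omega
    norm_num at h1
    omega

end Cfsg.Agent.Lib.helper3.S496
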