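import Mathlib
import Cfsg.Agent.Lib.Helper27.AltFus.Defs

set_option autoImplicit false

/-! Project AltFus (S5165), piece O7 : the torus element is generated by `p`-elements
normalizing `R2` (helper3). -/

namespace Cfsg.Agent.Lib.helper3.AltFus

open Cfsg.Agent.Lib.Helper27.AltFus Equiv

/-! ### generalities -/

theorem o7_mem_normalizer_closure {G : Type*} [Group G] (S : Set G) (g : G)
    (h1 : ∀ s ∈ S, g * s * g⁻¹ ∈ Subgroup.closure S)
    (h2 : ∀ s ∈ S, g⁻¹ * s * g ∈ Subgroup.closure S) :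
    g ∈ Subgroup.normalizer ((Subgroup.closure S : Subgroup G) : Set G) := by
  have key : ∀ (x : G), (∀ s ∈ S, x * s * x⁻¹ ∈ Subgroup.closure S) →
      ∀ h ∈ Subgroup.closure S, x * h * x⁻¹ ∈ Subgroup.closure S := by
    intro x hx h hh
    induction hh using Subgroup.closure_induction with
    | mem s hs => exact hx s hs
    | one => simp
    | mul a b _ _ ha hb =>
      have : x * (a * b) * x⁻¹ = (x * a * x⁻¹) * (x * b * x⁻¹) := by group
      rw [this]; exact Subgroup.mul_mem _ ha hb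
    | inv a _ ha =>
      have : x * a⁻¹ * x⁻¹ = (x * a * x⁻¹)⁻¹ := by group
      rw [this]; exact Subgroup.inv_mem _ ha
  rw [Subgroup.mem_normalizer_iff]
  intro h
  constructor
  · intro hh; exact key g h1 h hh
  · intro hh
    have := key g⁻¹ (by simpa using h2) _ hh
    have e : g⁻¹ * (g * h * g⁻¹) * g⁻¹⁻¹ = h := by group
    rwa [e] at this

theorem o7_sign_eq_one_of_pow {α : Type*} [Fintype α] [DecidableEq α] {p : ℕ} (hp : p.Prime)
    (hp2 : p ≠ 2) (g : Perm α) (hg : g ^ p = 1) : Perm.sign g = 1 := by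
  have h1 : Perm.sign g ^ p = 1 := by rw [← map_pow, hg, map_one]
  rcases Int.units_eq_one_or (Perm.sign g) with h | h
  · exact h
  · rw [h] at h1
    have hodd : Odd p := hp.odd_of_ne_two hp2
    rw [Odd.neg_one_pow hodd] at h1
    exact absurd h1 (by decide)

section model

variable (p : ℕ) [Fact p.Prime] (m' r : ℕ)

theorem o7_ext_mul (f g : Perm (Blk p m' × ZMod p)) :
    (ext (f * g) : Perm (Mdl p m' r)) = ext f * ext g := by
  ext q; rcases q with q | k <;> rfl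

theorem o7_ext_one : (ext (1 : Perm (Blk p m' × ZMod p)) : Perm (Mdl p m' r)) = 1 := by
  ext q; rcases q with q | k <;> rfl

theorem o7_ext_pow (f : Perm (Blk p m' × ZMod p)) (n : ℕ) :
    (ext (f ^ n) : Perm (Mdl p m' r)) = ext f ^ n := by
  induction n with
  | zero => rw [pow_zero, pow_zero, o7_ext_one]
  | succ n ih => rw [pow_succ, pow_succ, o7_ext_mul, ih]

theorem o7_ext_inv_of_mul (f g : Perm (Blk p m' × ZMod p)) (h : f * g = 1) :
    ((ext f : Perm (Mdl p m' r)))⁻¹ = ext g := by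
  rw [inv_eq_iff_mul_eq_one, ← o7_ext_mul, h, o7_ext_one]

theorem o7_sign_ext (f : Perm (Blk p m' × ZMod p)) :
    Perm.sign (ext f : Perm (Mdl p m' r)) = Perm.sign f := by
  unfold Cfsg.Agent.Lib.Helper27.AltFus.ext
  rw [Perm.sign_sumCongr, Perm.sign_one, mul_one]

/-! ### the elements -/

/-- `(inl j, x) ↦ (inl j, x + c)` -/
def zzn (c : ZMod p) : Perm (Blk p m' × ZMod p) := nrm 1 1 (Sum.elim (fun _ => c) (fun _ => 0))

/-- `(inl j, x) ↦ (inl (j + c), x)` -/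
def sgn (c : ZMod p) : Perm (Blk p m' × ZMod p) :=
  blk p m' (Equiv.Perm.sumCongr (Equiv.addRight c) 1)

theorem sh1_inl (t : ZMod p) (j x : ZMod p) :
    sh1 p m' t (Sum.inl j, x) = (Sum.inl j, x + t * j) := by
  simp [sh1]

theorem sh1_inr (t : ZMod p) (k : Fin m') (x : ZMod p) :
    sh1 p m' t (Sum.inr k, x) = (Sum.inr k, x) := by
  simp [sh1]

theorem sh2_inl (t : ZMod p) (j x : ZMod p) :
    sh2 p m' t (Sum.inl j, x) = (Sum.inl (j + t * x), x) := rfl

theorem sh2_inr (t : ZMod p) (k : Fin m') (x : ZMod p) :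
    sh2 p m' t (Sum.inr k, x) = (Sum.inr k, x) := rfl

theorem zzn_inl (c : ZMod p) (j x : ZMod p) :
    zzn p m' c (Sum.inl j, x) = (Sum.inl j, x + c) := by
  simp [zzn]

theorem zzn_inr (c : ZMod p) (k : Fin m') (x : ZMod p) :
    zzn p m' c (Sum.inr k, x) = (Sum.inr k, x) := by
  simp [zzn]

theorem sgn_inl (c : ZMod p) (j x : ZMod p) :
    sgn p m' c (Sum.inl j, x) = (Sum.inl (j + c), x) := by
  simp [sgn, blk]

theorem sgn_inr (c : ZMod p) (k : Fin m') (x : ZMod p) :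
    sgn p m' c (Sum.inr k, x) = (Sum.inr k, x) := by
  simp [sgn, blk]

theorem cyc_inr_inl (k : Fin m') (j x : ZMod p) :
    cyc p m' (Sum.inr k) (Sum.inl j, x) = (Sum.inl j, x) := by
  simp [cyc]

theorem cyc_inr_inr (k k' : Fin m') (x : ZMod p) :
    cyc p m' (Sum.inr k) (Sum.inr k', x) = (Sum.inr k', x + if k' = k then 1 else 0) := by
  by_cases h : k' = k
  · subst h; simp [cyc]
  · have : (Sum.inr k' : Blk p m') ≠ Sum.inr k := fun e => h (Sum.inr_injective e)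
    simp [cyc, h, Pi.single_apply, this]

theorem uu_inl (l : (ZMod p)ˣ) (j x : ZMod p) :
    uu p m' l (Sum.inl j, x) = (Sum.inl (((l⁻¹ : (ZMod p)ˣ) : ZMod p) * j), (l : ZMod p) * x) := by
  rw [uu, nrm_apply]
  refine Prod.ext ?_ ?_
  · rfl
  · show (l : ZMod p) * x + 0 = (l : ZMod p) * x
    rw [add_zero]

theorem uu_inr (l : (ZMod p)ˣ) (k : Fin m') (x : ZMod p) :
    uu p m' l (Sum.inr k, x) = (Sum.inr k, x) := by
  rw [uu, nrm_apply]
  refine Prod.ext ?_ ?_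
  · rfl
  · show ((1 : (ZMod p)ˣ) : ZMod p) * x + 0 = x
    rw [add_zero, Units.val_one, one_mul]

theorem zzn_one : zzn p m' 1 = zz p m' := rfl

theorem sgn_one : sgn p m' 1 = sig p m' := rfl

theorem sh1_add (s t : ZMod p) : sh1 p m' s * sh1 p m' t = sh1 p m' (s + t) := by
  ext1 q
  rcases q with ⟨j | k, x⟩
  · rw [Perm.mul_apply, sh1_inl, sh1_inl, sh1_inl]; congr 1; ring
  · rw [Perm.mul_apply, sh1_inr, sh1_inr, sh1_inr]

theorem sh2_add (s t : ZMod p) : sh2 p m' s * sh2 p m' t = sh2 p m' (s + t) := by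
  ext1 q
  rcases q with ⟨j | k, x⟩
  · rw [Perm.mul_apply, sh2_inl, sh2_inl, sh2_inl]; congr 2; ring
  · rw [Perm.mul_apply, sh2_inr, sh2_inr, sh2_inr]

theorem zzn_add (s t : ZMod p) : zzn p m' s * zzn p m' t = zzn p m' (s + t) := by
  ext1 q
  rcases q with ⟨j | k, x⟩
  · rw [Perm.mul_apply, zzn_inl, zzn_inl, zzn_inl]; congr 1; ring
  · rw [Perm.mul_apply, zzn_inr, zzn_inr, zzn_inr]

theorem sgn_add (s t : ZMod p) : sgn p m' s * sgn p m' t = sgn p m' (s + t) := by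
  ext1 q
  rcases q with ⟨j | k, x⟩
  · rw [Perm.mul_apply, sgn_inl, sgn_inl, sgn_inl]; congr 2; ring
  · rw [Perm.mul_apply, sgn_inr, sgn_inr, sgn_inr]

theorem sh1_zero : sh1 p m' 0 = 1 := by
  ext1 q
  rcases q with ⟨j | k, x⟩
  · rw [sh1_inl]; simp
  · rw [sh1_inr]; rfl

theorem sh2_zero : sh2 p m' 0 = 1 := by
  ext1 q
  rcases q with ⟨j | k, x⟩
  · rw [sh2_inl]; simp
  · rw [sh2_inr]; rfl

theorem zzn_zero : zzn p m' 0 = 1 := by
  ext1 q
  rcases q with ⟨j | k, x⟩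
  · rw [zzn_inl]; simp
  · rw [zzn_inr]; rfl

theorem sgn_zero : sgn p m' 0 = 1 := by
  ext1 q
  rcases q with ⟨j | k, x⟩
  · rw [sgn_inl]; simp
  · rw [sgn_inr]; rfl

theorem sh1_pow (t : ZMod p) (n : ℕ) : sh1 p m' t ^ n = sh1 p m' (n * t) := by
  induction n with
  | zero => rw [pow_zero, Nat.cast_zero, zero_mul, sh1_zero]
  | succ n ih => rw [pow_succ, ih, sh1_add]; congr 1; push_cast; ring

theorem sh2_pow (t : ZMod p) (n : ℕ) : sh2 p m' t ^ n = sh2 p m' (n * t) := by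
  induction n with
  | zero => rw [pow_zero, Nat.cast_zero, zero_mul, sh2_zero]
  | succ n ih => rw [pow_succ, ih, sh2_add]; congr 1; push_cast; ring

theorem zzn_pow (t : ZMod p) (n : ℕ) : zzn p m' t ^ n = zzn p m' (n * t) := by
  induction n with
  | zero => rw [pow_zero, Nat.cast_zero, zero_mul, zzn_zero]
  | succ n ih => rw [pow_succ, ih, zzn_add]; congr 1; push_cast; ring

theorem sgn_pow (t : ZMod p) (n : ℕ) : sgn p m' t ^ n = sgn p m' (n * t) := by
  induction n with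
  | zero => rw [pow_zero, Nat.cast_zero, zero_mul, sgn_zero]
  | succ n ih => rw [pow_succ, ih, sgn_add]; congr 1; push_cast; ring

theorem sh1_pow_p (t : ZMod p) : sh1 p m' t ^ p = 1 := by
  rw [sh1_pow, ZMod.natCast_self, zero_mul, sh1_zero]

theorem sh2_pow_p (t : ZMod p) : sh2 p m' t ^ p = 1 := by
  rw [sh2_pow, ZMod.natCast_self, zero_mul, sh2_zero]

theorem zzn_eq_pow (c : ZMod p) : zzn p m' c = zz p m' ^ c.val := by
  rw [← zzn_one, zzn_pow, mul_one, ZMod.natCast_zmod_val]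

theorem sgn_eq_pow (c : ZMod p) : sgn p m' c = sig p m' ^ c.val := by
  rw [← sgn_one, sgn_pow, mul_one, ZMod.natCast_zmod_val]

/-! ### conjugation formulas -/

theorem sh1_mul_sig (t : ZMod p) :
    sh1 p m' t * sig p m' = sig p m' * zzn p m' t * sh1 p m' t := by
  rw [← sgn_one]
  ext1 q
  rcases q with ⟨j | k, x⟩
  · simp only [Perm.mul_apply, sh1_inl, sgn_inl, zzn_inl]
    congr 1; ring
  · simp only [Perm.mul_apply, sh1_inr, sgn_inr, zzn_inr]

theorem sh1_mul_zz (t : ZMod p) : sh1 p m' t * zz p m' = zz p m' * sh1 p m' t := by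
  rw [← zzn_one]
  ext1 q
  rcases q with ⟨j | k, x⟩
  · simp only [Perm.mul_apply, sh1_inl, zzn_inl]
    congr 1; ring
  · simp only [Perm.mul_apply, sh1_inr, zzn_inr]

theorem sh1_mul_cyc (t : ZMod p) (k : Fin m') :
    sh1 p m' t * cyc p m' (Sum.inr k) = cyc p m' (Sum.inr k) * sh1 p m' t := by
  ext1 q
  rcases q with ⟨j | k', x⟩
  · simp only [Perm.mul_apply, sh1_inl, cyc_inr_inl]
  · simp only [Perm.mul_apply, sh1_inr, cyc_inr_inr]

theorem sh2_mul_sig (t : ZMod p) : sh2 p m' t * sig p m' = sig p m' * sh2 p m' t := by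
  rw [← sgn_one]
  ext1 q
  rcases q with ⟨j | k, x⟩
  · simp only [Perm.mul_apply, sh2_inl, sgn_inl]
    congr 2; ring
  · simp only [Perm.mul_apply, sh2_inr, sgn_inr]

theorem sh2_mul_zz (t : ZMod p) :
    sh2 p m' t * zz p m' = sgn p m' t * zz p m' * sh2 p m' t := by
  rw [← zzn_one]
  ext1 q
  rcases q with ⟨j | k, x⟩
  · simp only [Perm.mul_apply, sh2_inl, sgn_inl, zzn_inl]
    congr 2; ring
  · simp only [Perm.mul_apply, sh2_inr, sgn_inr, zzn_inr]

theorem sh2_mul_cyc (t : ZMod p) (k : Fin m') :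
    sh2 p m' t * cyc p m' (Sum.inr k) = cyc p m' (Sum.inr k) * sh2 p m' t := by
  ext1 q
  rcases q with ⟨j | k', x⟩
  · simp only [Perm.mul_apply, sh2_inl, cyc_inr_inl]
  · simp only [Perm.mul_apply, sh2_inr, cyc_inr_inr]

/-! ### membership in `R2` -/

theorem sig_mem_R2 : (ext (sig p m') : Perm (Mdl p m' r)) ∈ R2 p m' r :=
  Subgroup.subset_closure (Or.inl (by simp))

theorem zz_mem_R2 : (ext (zz p m') : Perm (Mdl p m' r)) ∈ R2 p m' r :=
  Subgroup.subset_closure (Or.inl (by simp))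

theorem cyc_mem_R2 (k : Fin m') : (ext (cyc p m' (Sum.inr k)) : Perm (Mdl p m' r)) ∈ R2 p m' r :=
  Subgroup.subset_closure (Or.inr ⟨k, rfl⟩)

theorem zzn_mem_R2 (c : ZMod p) : (ext (zzn p m' c) : Perm (Mdl p m' r)) ∈ R2 p m' r := by
  rw [zzn_eq_pow, o7_ext_pow]
  exact Subgroup.pow_mem _ (zz_mem_R2 p m' r) _

theorem sgn_mem_R2 (c : ZMod p) : (ext (sgn p m' c) : Perm (Mdl p m' r)) ∈ R2 p m' r := by
  rw [sgn_eq_pow, o7_ext_pow]
  exact Subgroup.pow_mem _ (sig_mem_R2 p m' r) _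

theorem sh1_inv (t : ZMod p) :
    ((ext (sh1 p m' t) : Perm (Mdl p m' r)))⁻¹ = ext (sh1 p m' (-t)) := by
  apply o7_ext_inv_of_mul
  rw [sh1_add, add_neg_cancel, sh1_zero]

theorem sh2_inv (t : ZMod p) :
    ((ext (sh2 p m' t) : Perm (Mdl p m' r)))⁻¹ = ext (sh2 p m' (-t)) := by
  apply o7_ext_inv_of_mul
  rw [sh2_add, add_neg_cancel, sh2_zero]

theorem sh1_conj_mem (t : ZMod p) :
    ∀ s ∈ (({ext (sig p m'), ext (zz p m')} : Set (Perm (Mdl p m' r))) ∪
      Set.range fun k : Fin m' => (ext (cyc p m' (Sum.inr k)) : Perm (Mdl p m' r))),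
      ext (sh1 p m' t) * s * (ext (sh1 p m' t))⁻¹ ∈ R2 p m' r := by
  rintro s ((hs | hs) | ⟨k, rfl⟩)
  · rw [hs, ← o7_ext_mul, sh1_mul_sig, o7_ext_mul, mul_inv_cancel_right, o7_ext_mul]
    exact Subgroup.mul_mem _ (sig_mem_R2 p m' r) (zzn_mem_R2 p m' r t)
  · rw [Set.mem_singleton_iff] at hs
    rw [hs, ← o7_ext_mul, sh1_mul_zz, o7_ext_mul, mul_inv_cancel_right]
    exact zz_mem_R2 p m' r
  · show ext (sh1 p m' t) * ext (cyc p m' (Sum.inr k)) * (ext (sh1 p m' t))⁻¹ ∈ R2 p m' r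
    rw [← o7_ext_mul, sh1_mul_cyc, o7_ext_mul, mul_inv_cancel_right]
    exact cyc_mem_R2 p m' r k

theorem sh2_conj_mem (t : ZMod p) :
    ∀ s ∈ (({ext (sig p m'), ext (zz p m')} : Set (Perm (Mdl p m' r))) ∪
      Set.range fun k : Fin m' => (ext (cyc p m' (Sum.inr k)) : Perm (Mdl p m' r))),
      ext (sh2 p m' t) * s * (ext (sh2 p m' t))⁻¹ ∈ R2 p m' r := by
  rintro s ((hs | hs) | ⟨k, rfl⟩)
  · rw [hs, ← o7_ext_mul, sh2_mul_sig, o7_ext_mul, mul_inv_cancel_right]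
    exact sig_mem_R2 p m' r
  · rw [Set.mem_singleton_iff] at hs
    rw [hs, ← o7_ext_mul, sh2_mul_zz, o7_ext_mul, mul_inv_cancel_right, o7_ext_mul]
    exact Subgroup.mul_mem _ (sgn_mem_R2 p m' r t) (zz_mem_R2 p m' r)
  · show ext (sh2 p m' t) * ext (cyc p m' (Sum.inr k)) * (ext (sh2 p m' t))⁻¹ ∈ R2 p m' r
    rw [← o7_ext_mul, sh2_mul_cyc, o7_ext_mul, mul_inv_cancel_right]
    exact cyc_mem_R2 p m' r k

theorem sh1_mem_normalizer (t : ZMod p) :
    (ext (sh1 p m' t) : Perm (Mdl p m' r)) ∈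
      Subgroup.normalizer ((R2 p m' r : Subgroup (Perm (Mdl p m' r))) : Set (Perm (Mdl p m' r))) := by
  unfold R2
  apply o7_mem_normalizer_closure
  · exact sh1_conj_mem p m' r t
  · intro s hs
    have := sh1_conj_mem p m' r (-t) s hs
    rw [← sh1_inv, inv_inv] at this
    exact this

theorem sh2_mem_normalizer (t : ZMod p) :
    (ext (sh2 p m' t) : Perm (Mdl p m' r)) ∈
      Subgroup.normalizer ((R2 p m' r : Subgroup (Perm (Mdl p m' r))) : Set (Perm (Mdl p m' r))) := by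
  unfold R2
  apply o7_mem_normalizer_closure
  · exact sh2_conj_mem p m' r t
  · intro s hs
    have := sh2_conj_mem p m' r (-t) s hs
    rw [← sh2_inv, inv_inv] at this
    exact this

/-! ### the statements of piece O7 -/

theorem sh1_mem_OpN_aux (hp : p ≠ 2) (t : ZMod p) :
    (ext (sh1 p m' t) : Perm (Mdl p m' r)) ∈
      OpN p (alternatingGroup (Mdl p m' r)) (R2 p m' r) := by
  have hpow : (ext (sh1 p m' t) : Perm (Mdl p m' r)) ^ p = 1 := by
    rw [← o7_ext_pow, sh1_pow_p, o7_ext_one]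
  refine Subgroup.subset_closure ⟨?_, sh1_mem_normalizer p m' r t, 1, by rw [pow_one]; exact hpow⟩
  rw [Perm.mem_alternatingGroup]
  exact o7_sign_eq_one_of_pow (Fact.out : p.Prime) hp _ hpow

theorem sh2_mem_OpN_aux (hp : p ≠ 2) (t : ZMod p) :
    (ext (sh2 p m' t) : Perm (Mdl p m' r)) ∈
      OpN p (alternatingGroup (Mdl p m' r)) (R2 p m' r) := by
  have hpow : (ext (sh2 p m' t) : Perm (Mdl p m' r)) ^ p = 1 := by
    rw [← o7_ext_pow, sh2_pow_p, o7_ext_one]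
  refine Subgroup.subset_closure ⟨?_, sh2_mem_normalizer p m' r t, 1, by rw [pow_one]; exact hpow⟩
  rw [Perm.mem_alternatingGroup]
  exact o7_sign_eq_one_of_pow (Fact.out : p.Prime) hp _ hpow

theorem uu_eq (l : (ZMod p)ˣ) :
    uu p m' l = sh1 p m' l * sh2 p m' (-((l⁻¹ : (ZMod p)ˣ) : ZMod p)) * sh1 p m' l *
      (sh1 p m' (-1) * sh2 p m' 1 * sh1 p m' (-1)) := by
  have hl : (l : ZMod p) * ((l⁻¹ : (ZMod p)ˣ) : ZMod p) = 1 := by
    rw [← Units.val_mul, mul_inv_cancel, Units.val_one]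
  ext1 q
  rcases q with ⟨j | k, x⟩
  · simp only [Perm.mul_apply, sh1_inl, sh2_inl, uu_inl]
    refine Prod.ext ?_ ?_
    · simp only
      congr 1
      linear_combination x * hl
    · simp only
      linear_combination ((l : ZMod p) * x - j) * hl
  · simp only [Perm.mul_apply, sh1_inr, sh2_inr, uu_inr]

theorem uu_mem_OpN_aux (hp : p ≠ 2) (l : (ZMod p)ˣ) :
    (ext (uu p m' l) : Perm (Mdl p m' r)) ∈
      OpN p (alternatingGroup (Mdl p m' r)) (R2 p m' r) := by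
  rw [uu_eq]
  simp only [o7_ext_mul]
  have h1 := fun t => sh1_mem_OpN_aux p m' r hp t
  have h2 := fun t => sh2_mem_OpN_aux p m' r hp t
  exact Subgroup.mul_mem _ (Subgroup.mul_mem _ (Subgroup.mul_mem _ (h1 _) (h2 _)) (h1 _))
    (Subgroup.mul_mem _ (Subgroup.mul_mem _ (h1 _) (h2 _)) (h1 _))

end model

/-! ### the statements in the argument order of the skeleton -/

theorem sh1_mem_OpN (p : ℕ) [Fact p.Prime] (hp : p ≠ 2) (m' r : ℕ) (t : ZMod p) :
    (ext (sh1 p m' t) : Perm (Mdl p m' r)) ∈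
      OpN p (alternatingGroup (Mdl p m' r)) (R2 p m' r) := sh1_mem_OpN_aux p m' r hp t

theorem sh2_mem_OpN (p : ℕ) [Fact p.Prime] (hp : p ≠ 2) (m' r : ℕ) (t : ZMod p) :
    (ext (sh2 p m' t) : Perm (Mdl p m' r)) ∈
      OpN p (alternatingGroup (Mdl p m' r)) (R2 p m' r) := sh2_mem_OpN_aux p m' r hp t

theorem uu_mem_OpN (p : ℕ) [Fact p.Prime] (hp : p ≠ 2) (m' r : ℕ) (l : (ZMod p)ˣ) :
    (ext (uu p m' l) : Perm (Mdl p m' r)) ∈
      OpN p (alternatingGroup (Mdl p m' r)) (R2 p m' r) := uu_mem_OpN_aux p m' r hp l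

end Cfsg.Agent.Lib.helper3.AltFus
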