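import Cfsg.Agent.Lib.Helper27.TS2.Defs

/-!
# Project TS2, row NT2 (core): the assembly `LamF + StabA => M <= T0` for `a = 2`, `b >= 7`

`ts2nt2_core` takes the STATEMENTS of the rows `ufpA_two`, `stabB_two`, `ufpB_two`, `papp_two`, `lin_two` (specialised to the
given `J1 J2 M`) as hypotheses.  The wrapper `nt_two` (statement verbatim from the Skel) is a one-liner once those rows have landed;
it is written at the end of this file as a comment-free recipe in the doc-string of `ts2nt2_core`.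
-/

set_option autoImplicit false
set_option linter.unusedSectionVars false
set_option linter.unusedVariables false

namespace Cfsg.Agent.Lib.Helper21.TS

open Matrix
open scoped Kronecker
open Cfsg.Agent.Lib.helper7.TP

variable {a b : ℕ} {F : Type*} [Field F]

variable {J1 : Matrix (Fin 2) (Fin 2) F} {J2 : Matrix (Fin b) (Fin b) F}
  {M : Subgroup (Matrix.GeneralLinearGroup (Fin 2 × Fin b) F)}

/-- the characteristic of a finite field as a `Fact`. -/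
theorem ts2nt2_prime [Fintype F] : Fact (ringChar F).Prime :=
  ⟨CharP.char_is_prime F (ringChar F)⟩

/-- NT2, core form.  Wrapper once the rows have landed:
`nt_two C hb hT0 hMS hL hS := ts2nt2_core hMS hS (ufpA_two C hb hT0 hMS hL hS)`
`  (fun p _ _ ufA => stabB_two p C (by omega) hT0 hMS ufA) (ufpB_two C hb hT0 hMS)`
`  (fun p _ _ ufA ufB g hg u hu w m hw hw0 hwm hm => papp_two p C (by omega) hT0 hMS ufA ufB g hg hu hw hw0 hwm hm)`
`  (fun g hg u hu hP => lin_two C hb g hg hu hP)`. -/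
theorem ts2nt2_core [Fintype F] (hMS : M ≤ SpV J1 J2) (hS : StabA M)
    (hA : UfpA J1 J2 M)
    (hSB : ∀ (p : ℕ) [Fact p.Prime] [CharP F p], UfpA J1 J2 M → StabB J1 J2 M)
    (hUB : StabB J1 J2 M → UfpB J1 J2 M)
    (hPP : ∀ (p : ℕ) [Fact p.Prime] [CharP F p], UfpA J1 J2 M → UfpB J1 J2 M →
      ∀ (g : Matrix.GeneralLinearGroup (Fin 2 × Fin b) F), g ∈ M → ∀ (u : Fin 2 → F), u ≠ 0 →
      ∀ (w m : Fin b → F), w ≠ 0 → bf J2 w w = 0 → bf J2 w m = 0 → bf J2 m m ≠ 0 →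
      ∃ u₁ : Fin 2 → F, u₁ ≠ 0 ∧ ∀ z : Fin b → F,
        (∀ i, bf J2 (fun j => ((g : Matrix (Fin 2 × Fin b) (Fin 2 × Fin b) F) *ᵥ ten u z) (i, j)) w = 0) →
        (∀ i, bf J2 (fun j => ((g : Matrix (Fin 2 × Fin b) (Fin 2 × Fin b) F) *ᵥ ten u z) (i, j)) m = 0) →
        ∃ z' : Fin b → F, (g : Matrix (Fin 2 × Fin b) (Fin 2 × Fin b) F) *ᵥ ten u z = ten u₁ z')
    (hLin : ∀ (g : Matrix.GeneralLinearGroup (Fin 2 × Fin b) F), g ∈ SpV J1 J2 →
      ∀ (u : Fin 2 → F), u ≠ 0 →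
      (∀ w m : Fin b → F, w ≠ 0 → bf J2 w w = 0 → bf J2 w m = 0 → bf J2 m m ≠ 0 →
        ∃ u₁ : Fin 2 → F, u₁ ≠ 0 ∧ ∀ z : Fin b → F,
          (∀ i, bf J2 (fun j => ((g : Matrix (Fin 2 × Fin b) (Fin 2 × Fin b) F) *ᵥ ten u z) (i, j)) w = 0) →
          (∀ i, bf J2 (fun j => ((g : Matrix (Fin 2 × Fin b) (Fin 2 × Fin b) F) *ᵥ ten u z) (i, j)) m = 0) →
          ∃ z' : Fin b → F, (g : Matrix (Fin 2 × Fin b) (Fin 2 × Fin b) F) *ᵥ ten u z = ten u₁ z') →
      ∃ u₂ : Fin 2 → F, u₂ ≠ 0 ∧ ∀ z : Fin b → F, ∃ z' : Fin b → F,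
        (g : Matrix (Fin 2 × Fin b) (Fin 2 × Fin b) F) *ᵥ ten u z = ten u₂ z') :
    M ≤ T0 J1 J2 := by
  intro g hg
  haveI : Fact (ringChar F).Prime := ts2nt2_prime
  have hStB : StabB J1 J2 M := hSB (ringChar F) hA
  have hUfB : UfpB J1 J2 M := hUB hStB
  have hu : (Pi.single 0 1 : Fin 2 → F) ≠ 0 := by
    intro h
    have := congrFun h 0
    simp at this
  obtain ⟨u₂, hu₂, h2⟩ := hLin g (hMS hg) _ hu
    (fun w m hw hw0 hwm hm => hPP (ringChar F) hA hUfB g hg _ hu w m hw hw0 hwm hm)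
  exact ⟨hS g hg _ u₂ hu hu₂ h2, hMS hg⟩

end Cfsg.Agent.Lib.Helper21.TS
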