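import Cfsg.Agent.Lib.Helper21.TS.XA
import Cfsg.Agent.Lib.Helper28.Transport

/-!
# Project TS, piece TRCTX: `formOfGram id G = bf G`; the Gram matrices of the two forms satisfy `Ctx`
-/

set_option autoImplicit false
set_option linter.unusedSectionVars false
set_option linter.unusedVariables false

namespace Cfsg.Agent.Lib.Helper21.TS

open Matrix
open scoped Kronecker
open Cfsg.Agent.Lib.helper7.TP

variable {a b : ℕ} {F : Type*} [Field F]
  {J1 : Matrix (Fin a) (Fin a) F} {J2 : Matrix (Fin b) (Fin b) F}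

/-- TRCTX [S]. `formOfGram id G = bf G`. -/
theorem ts_fog {κ : Type} [Fintype κ] (G : Matrix κ κ F) (x y : κ → F) :
    Cfsg.Geo.formOfGram id G x y = bf G x y := by
  simp only [Cfsg.Geo.formOfGram, bf, dotProduct, Matrix.mulVec, id, Finset.mul_sum, mul_assoc]

theorem tstrctx_f_zero_left {k : ℕ} {f : (Fin k → F) → (Fin k → F) → F}
    (hf : Cfsg.Geo.IsBilinearForm f) (y : Fin k → F) : f 0 y = 0 := by
  have := hf.smul_left 0 0 y
  simpa using this

theorem tstrctx_f_zero_right {k : ℕ} {f : (Fin k → F) → (Fin k → F) → F}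
    (hf : Cfsg.Geo.IsBilinearForm f) (x : Fin k → F) : f x 0 = 0 := by
  have := hf.smul_right 0 x 0
  simpa using this

theorem tstrctx_f_sum_left {k : ℕ} {f : (Fin k → F) → (Fin k → F) → F}
    (hf : Cfsg.Geo.IsBilinearForm f) {κ : Type*} (s : Finset κ) (g : κ → (Fin k → F))
    (y : Fin k → F) : f (∑ i ∈ s, g i) y = ∑ i ∈ s, f (g i) y := by
  classical
  induction s using Finset.induction_on with
  | empty => simp [tstrctx_f_zero_left hf]
  | insert j s hj ih => rw [Finset.sum_insert hj, Finset.sum_insert hj, hf.add_left, ih]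

theorem tstrctx_f_sum_right {k : ℕ} {f : (Fin k → F) → (Fin k → F) → F}
    (hf : Cfsg.Geo.IsBilinearForm f) {κ : Type*} (s : Finset κ) (g : κ → (Fin k → F))
    (x : Fin k → F) : f x (∑ i ∈ s, g i) = ∑ i ∈ s, f x (g i) := by
  classical
  induction s using Finset.induction_on with
  | empty => simp [tstrctx_f_zero_right hf]
  | insert j s hj ih => rw [Finset.sum_insert hj, Finset.sum_insert hj, hf.add_right, ih]

/-- a bilinear form is the form of its Gram matrix. -/
theorem tstrctx_form_gram {k : ℕ} {f : (Fin k → F) → (Fin k → F) → F}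
    (hf : Cfsg.Geo.IsBilinearForm f) (x y : Fin k → F) :
    f x y = bf (Cfsg.Geo.gramMatrix f) x y := by
  have hx : x = ∑ i, x i • (Pi.single i (1 : F) : Fin k → F) := by
    ext j
    simp [Finset.sum_apply, Pi.single_apply]
  have hy : y = ∑ i, y i • (Pi.single i (1 : F) : Fin k → F) := by
    ext j
    simp [Finset.sum_apply, Pi.single_apply]
  conv_lhs => rw [hx, hy]
  rw [tstrctx_f_sum_left hf]
  simp only [bf, dotProduct, Matrix.mulVec, Finset.mul_sum]
  apply Finset.sum_congr rfl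
  intro i _
  rw [hf.smul_left, tstrctx_f_sum_right hf, Finset.mul_sum]
  apply Finset.sum_congr rfl
  intro j _
  rw [hf.smul_right]
  unfold Cfsg.Geo.gramMatrix
  ring

/-- the Gram matrix of a non-degenerate bilinear form is non-singular. -/
theorem tstrctx_gram_det {k : ℕ} {f : (Fin k → F) → (Fin k → F) → F}
    (hf : Cfsg.Geo.IsBilinearForm f) (hnd : Cfsg.Geo.IsNondegenerateForm f) :
    (Cfsg.Geo.gramMatrix f).det ≠ 0 := by
  intro hdet
  obtain ⟨v, hv0, hv⟩ := Matrix.exists_mulVec_eq_zero_iff.mpr hdet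
  obtain ⟨⟨x, hx⟩, _⟩ := hnd v hv0
  apply hx
  rw [tstrctx_form_gram hf, bf, hv, dotProduct_zero]

/-- TRCTX [M]. the Gram matrices of the two forms satisfy `Ctx`. -/
theorem ts_ctx [Fintype F] (hodd : Odd (Fintype.card F))
    (f₁ : (Fin a → F) → (Fin a → F) → F) (f₂ : (Fin b → F) → (Fin b → F) → F)
    (hf₁ : Cfsg.Geo.IsSymplecticForm f₁) (hf₂ : Cfsg.Geo.IsSymmetricForm f₂) :
    Ctx (Cfsg.Geo.gramMatrix f₁) (Cfsg.Geo.gramMatrix f₂) := by
  refine ⟨?_, ?_, ?_, ?_, ?_⟩
  · intro h2
    obtain ⟨k, hk⟩ := hodd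
    have h := Nat.cast_card_eq_zero F
    rw [hk] at h
    push_cast at h
    rw [h2, zero_mul, zero_add] at h
    exact one_ne_zero h
  · ext i j
    simp only [Matrix.transpose_apply, Matrix.neg_apply]
    unfold Cfsg.Geo.gramMatrix
    exact hf₁.skew _ _
  · ext i j
    simp only [Matrix.transpose_apply]
    unfold Cfsg.Geo.gramMatrix
    exact hf₂.symm _ _
  · exact tstrctx_gram_det hf₁.bilinear hf₁.nondegenerate
  · exact tstrctx_gram_det hf₂.bilinear hf₂.nondegenerate

end Cfsg.Agent.Lib.Helper21.TS
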