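import Cfsg.Agent.Lib.Helper21.TS.XA
import Cfsg.Agent.Lib.Helper28.Transport

/-!
# Project TS, piece TRPSI: transport lemmas for `tmap e.symm P` with a general index type
-/

set_option autoImplicit false
set_option linter.unusedSectionVars false
set_option linter.unusedVariables false

namespace Cfsg.Agent.Lib.Helper21.TS

open Matrix
open scoped Kronecker
open Cfsg.Agent.Lib.helper7.TP

variable {a b : ℕ} {F : Type*} [Field F]
  {J1 : Matrix (Fin a) (Fin a) F} {J2 : Matrix (Fin b) (Fin b) F}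

/-- TRPSI [S-M]. the transported element acts through `g` in the coordinates `ψ x = P (x ∘ e)`
(copy of `Helper11.UTPTRANSFER.utptransfer_tmap_mulVec` with a general index type). -/
theorem ts_tmap_mulVec {ι : Type} [Fintype ι] [DecidableEq ι] (e : ι ≃ Fin a × Fin b)
    (P : Matrix.GeneralLinearGroup ι F) (g : Matrix.GeneralLinearGroup (Fin a × Fin b) F)
    (x : Fin a × Fin b → F) :
    ((Cfsg.Agent.Lib.Helper28.Transport.tmap e.symm P g : Matrix.GeneralLinearGroup ι F) :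
        Matrix ι ι F) *ᵥ ((P : Matrix ι ι F) *ᵥ (x ∘ e))
      = (P : Matrix ι ι F) *ᵥ (((g : Matrix (Fin a × Fin b) (Fin a × Fin b) F) *ᵥ x) ∘ e) := by
  change ((MulAut.conj P (Cfsg.Geo.glReindex e.symm g) : Matrix.GeneralLinearGroup ι F) :
        Matrix ι ι F) *ᵥ _ = _
  rw [MulAut.conj_apply, Units.val_mul, Units.val_mul, ← Matrix.mulVec_mulVec, ← Matrix.mulVec_mulVec,
    Matrix.mulVec_mulVec _ _ (P : Matrix ι ι F), ← Units.val_mul, inv_mul_cancel, Units.val_one,
    Matrix.one_mulVec, Cfsg.Agent.Lib.Helper28.Transport.reindex_coe]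
  congr 1
  rw [Matrix.reindex_apply, Matrix.submatrix_mulVec_equiv]
  simp [Function.comp_assoc]

/-- TRPSI [S]. `ψ` is onto. -/
theorem ts_psi_surj {ι : Type} [Fintype ι] [DecidableEq ι] (e : ι ≃ Fin a × Fin b)
    (P : Matrix.GeneralLinearGroup ι F) (u : ι → F) :
    ∃ x : Fin a × Fin b → F, u = (P : Matrix ι ι F) *ᵥ (x ∘ e) := by
  refine ⟨(((P⁻¹ : Matrix.GeneralLinearGroup ι F) : Matrix ι ι F) *ᵥ u) ∘ e.symm, ?_⟩
  have : ((((P⁻¹ : Matrix.GeneralLinearGroup ι F) : Matrix ι ι F) *ᵥ u) ∘ e.symm) ∘ e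
      = ((P⁻¹ : Matrix.GeneralLinearGroup ι F) : Matrix ι ι F) *ᵥ u := by
    funext i
    simp
  rw [this, Matrix.mulVec_mulVec, ← Units.val_mul, mul_inv_cancel, Units.val_one, Matrix.one_mulVec]

/-- TRPSI [S]. `φ` is onto (`φ = conj P ∘ glReindex e.symm`, both are isomorphisms). -/
theorem ts_tmap_surj {ι : Type} [Fintype ι] [DecidableEq ι] (e : ι ≃ Fin a × Fin b)
    (P : Matrix.GeneralLinearGroup ι F) (h : Matrix.GeneralLinearGroup ι F) :
    ∃ g : Matrix.GeneralLinearGroup (Fin a × Fin b) F,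
      Cfsg.Agent.Lib.Helper28.Transport.tmap e.symm P g = h := by
  refine ⟨(Cfsg.Geo.glReindex e.symm).symm ((MulAut.conj P).symm h), ?_⟩
  change (MulAut.conj P) ((Cfsg.Geo.glReindex e.symm) ((Cfsg.Geo.glReindex e.symm).symm
    ((MulAut.conj P).symm h))) = h
  rw [MulEquiv.apply_symm_apply, MulEquiv.apply_symm_apply]

end Cfsg.Agent.Lib.Helper21.TS
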