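import Mathlib
import Cfsg.Agent.Lib.Lead.BCG.Defs
import Cfsg.Agent.Lib.helper8.S5955X4
import Cfsg.Agent.Lib.helper6.Symp

set_option autoImplicit false
set_option linter.unusedVariables false
set_option linter.style.haveILetI false

/-!
# BCG row S3 (`sp_torus_minus`), helper3.
`K = FiniteField.Extension F p (2n)`, `σ a = a^(q^n)`, the twisted trace form `tr (θ a σ b)` with `σ θ = -θ`; the norm-one
elements of `K` act as isometries; S5955 `transport` to the standard space.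
-/

namespace Cfsg.Agent.Lib.Lead.BCG

open Polynomial Module Matrix Cfsg.Agent.Lib.Helper13.S5955 Cfsg.Agent.Lib.helper15.S5972
  Cfsg.Agent.Lib.Helper18.ONE Cfsg.Agent.Lib.Lead.BCS



/-- the field-theoretic core: in a finite field `K` with `Q^2` elements, `Q ≡ 3 (mod 4)`, `s ∣ Q + 1`:
units `t₀`, `y₀` with `t₀^(Q+1) = 1`, `y₀^(Q+1) = 1`, `t₀^2 = -1`, `orderOf y₀ = s`, `t₀^Q = -t₀`. -/
theorem bcgs3_units {K : Type*} [Field K] [Finite K] (Q : ℕ) (hK : Nat.card K = Q ^ 2)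
    (hQ4 : Q % 4 = 3) (s : ℕ) (hs : s.Prime) (hsQ : s ∣ Q + 1) :
    ∃ t₀ y₀ : K, t₀ ^ (Q + 1) = 1 ∧ y₀ ^ (Q + 1) = 1 ∧ t₀ * t₀ = -1 ∧ orderOf y₀ = s ∧
      t₀ ^ Q = -t₀ := by
  classical
  obtain ⟨γ, hγ⟩ := IsCyclic.exists_generator (α := Kˣ)
  have hord : orderOf γ = Q ^ 2 - 1 := by
    rw [orderOf_eq_card_of_forall_mem_zpowers hγ, Nat.card_units, hK]
  have hQ1 : 1 ≤ Q := by omega
  have hfac : Q ^ 2 - 1 = (Q - 1) * (Q + 1) := by
    obtain ⟨k, rfl⟩ : ∃ k, Q = k + 1 := ⟨Q - 1, by omega⟩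
    simp only [Nat.add_sub_cancel]
    have : (k + 1) ^ 2 = k * (k + 1 + 1) + 1 := by ring
    rw [this, Nat.add_sub_cancel]
  have h4 : 4 ∣ Q + 1 := by omega
  obtain ⟨a, ha⟩ := h4
  obtain ⟨b, hb⟩ := hsQ
  have hapos : 0 < a := by omega
  have hbpos : 0 < b := by
    rcases Nat.eq_zero_or_pos b with h | h
    · rw [h] at hb; omega
    · exact h
  have hQm : 0 < Q - 1 := by omega
  -- t₀ = γ ^ ((Q-1) * a), y₀ = γ ^ ((Q-1) * b)
  have hta : orderOf (γ ^ ((Q - 1) * a)) = 4 := by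
    rw [orderOf_pow_of_dvd (by positivity) (by rw [hord, hfac, ha]; exact ⟨4, by ring⟩), hord, hfac, ha]
    rw [show (Q - 1) * (4 * a) = 4 * ((Q - 1) * a) by ring]
    exact Nat.mul_div_cancel _ (by positivity)
  have hyb : orderOf (γ ^ ((Q - 1) * b)) = s := by
    rw [orderOf_pow_of_dvd (by positivity) (by rw [hord, hfac, hb]; exact ⟨s, by ring⟩), hord, hfac, hb]
    rw [show (Q - 1) * (s * b) = s * ((Q - 1) * b) by ring]
    exact Nat.mul_div_cancel _ (by positivity)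
  set t : Kˣ := γ ^ ((Q - 1) * a) with ht
  set y : Kˣ := γ ^ ((Q - 1) * b) with hy
  have ht4 : t ^ 4 = 1 := by rw [← hta]; exact pow_orderOf_eq_one t
  have htQ1 : t ^ (Q + 1) = 1 := by rw [ha, pow_mul, ht4, one_pow]
  have hyQ1 : y ^ (Q + 1) = 1 := by
    rw [hb, pow_mul]
    have : y ^ s = 1 := by rw [← hyb]; exact pow_orderOf_eq_one y
    rw [this, one_pow]
  have ht2 : (t : K) * (t : K) = -1 := by
    have h1 : ((t : K) * t - 1) * ((t : K) * t + 1) = 0 := by
      have : ((t ^ 4 : Kˣ) : K) = 1 := by rw [ht4]; rfl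
      rw [Units.val_pow_eq_pow_val] at this
      linear_combination this
    rcases mul_eq_zero.mp h1 with h | h
    · exfalso
      have : t ^ 2 = 1 := by
        apply Units.ext
        rw [Units.val_pow_eq_pow_val, pow_two]
        exact sub_eq_zero.mp h
      have := orderOf_dvd_of_pow_eq_one this
      rw [hta] at this
      omega
    · exact eq_neg_of_add_eq_zero_left h
  refine ⟨(t : K), (y : K), ?_, ?_, ht2, ?_, ?_⟩
  · rw [← Units.val_pow_eq_pow_val, htQ1]; rfl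
  · rw [← Units.val_pow_eq_pow_val, hyQ1]; rfl
  · rw [orderOf_units]; exact hyb
  · -- t^Q = t^(Q+1) * t⁻¹ = t⁻¹ = -t
    have h1 : (t : K) ^ Q * t = 1 := by
      rw [← pow_succ, ← Units.val_pow_eq_pow_val, htQ1]; rfl
    have ht0 : (t : K) ≠ 0 := t.ne_zero
    have : (t : K) ^ Q * (t * t) = -t * (t * t) := by
      rw [← mul_assoc, h1, ht2]; ring
    have ht2ne : (t : K) * t ≠ 0 := mul_ne_zero ht0 ht0
    exact mul_right_cancel₀ ht2ne this




/-- the twisted trace form `(a, b) ↦ tr (θ a σ(b))` -/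
noncomputable def bcgs3_B {F : Type*} [Field F] {K : Type*} [Field K] [Algebra F K]
    (σ : K ≃ₐ[F] K) (θ : K) : LinearMap.BilinForm F K :=
  (Algebra.traceForm F K).comp (LinearMap.mulLeft F θ) σ.toLinearMap

theorem bcgs3_B_apply {F : Type*} [Field F] {K : Type*} [Field K] [Algebra F K]
    (σ : K ≃ₐ[F] K) (θ : K) (a b : K) :
    bcgs3_B σ θ a b = Algebra.trace F K (θ * a * σ b) := rfl

theorem bcgs3_form {F : Type*} [Field F] (h2 : (2 : F) ≠ 0) {K : Type*} [Field K] [Algebra F K]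
    [FiniteDimensional F K] [Algebra.IsSeparable F K] (σ : K ≃ₐ[F] K) (hσ : ∀ a, σ (σ a) = a)
    (θ : K) (hθ0 : θ ≠ 0) (hθ : σ θ = -θ) :
    (∀ a, bcgs3_B σ θ a a = 0) ∧ (∀ a, (∀ b, bcgs3_B σ θ a b = 0) → a = 0) ∧
      ∀ c : K, c * σ c = 1 → ∀ a b, bcgs3_B σ θ (c * a) (c * b) = bcgs3_B σ θ a b := by
  refine ⟨?_, ?_, ?_⟩
  · intro a
    rw [bcgs3_B_apply]
    have h1 : σ (θ * a * σ a) = -(θ * a * σ a) := by
      rw [map_mul, map_mul, hσ, hθ]; ring
    have h3 := Algebra.trace_eq_of_algEquiv σ (θ * a * σ a)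
    rw [h1, map_neg] at h3
    have h4 : (2 : F) * Algebra.trace F K (θ * a * σ a) = 0 := by linear_combination -h3
    rcases mul_eq_zero.mp h4 with h | h
    · exact absurd h h2
    · exact h
  · intro a ha
    have hnd := traceForm_nondegenerate F K
    have h1 : ∀ c : K, Algebra.traceForm F K (θ * a) c = 0 := by
      intro c
      have := ha (σ.symm c)
      rw [bcgs3_B_apply, AlgEquiv.apply_symm_apply] at this
      rw [Algebra.traceForm_apply]
      exact this
    have h3 : θ * a = 0 := hnd.1 (θ * a) h1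
    rcases mul_eq_zero.mp h3 with h | h
    · exact absurd h hθ0
    · exact h
  · intro c hc a b
    rw [bcgs3_B_apply, bcgs3_B_apply]
    have : θ * (c * a) * σ (c * b) = θ * a * σ b := by
      rw [map_mul]
      linear_combination (θ * a * σ b) * hc
    rw [this]




/-- abstract-to-standard: a symplectic space `(K, B)` of dimension `2n` with an `F`-algebra `K` acting by left multiplication:
an algebra map `Φ : K → matrices` with `Φ c` symplectic when `c` is an isometry -/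
theorem bcgs3_transport {F : Type*} [Field F] {K : Type*} [Field K] [Algebra F K]
    [FiniteDimensional F K] (B : LinearMap.BilinForm F K) (halt : ∀ a, B a a = 0)
    (hnd : ∀ a, (∀ b, B a b = 0) → a = 0) (n : ℕ) (hdim : finrank F K = 2 * n) :
    ∃ Φ : K →ₐ[F] Matrix (Fin n ⊕ Fin n) (Fin n ⊕ Fin n) F,
      ∀ c : K, (∀ a b, B (c * a) (c * b) = B a b) → Φ c ∈ Matrix.symplecticGroup (Fin n) F := by
  have hctx : SCtx 1 B (1 : Module.End F K) :=
    ⟨halt, hnd, fun u v => rfl, pow_one 1⟩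
  obtain ⟨-, ψ, -, hψ, -⟩ := transport B 1 hctx n hdim
  refine ⟨(LinearMap.toMatrixAlgEquiv' (R := F) (n := Fin n ⊕ Fin n)).toAlgHom.comp
    ((ψ.symm.conjAlgEquiv F).toAlgHom.comp (Algebra.lmul F K)), ?_⟩
  intro c hc
  rw [Cfsg.Agent.Lib.helper6.mem_symplecticGroup_iff_sympForm]
  intro u v
  have key : ∀ w : Fin n ⊕ Fin n → F,
      ((LinearMap.toMatrixAlgEquiv' (R := F) (n := Fin n ⊕ Fin n)).toAlgHom.comp
        ((ψ.symm.conjAlgEquiv F).toAlgHom.comp (Algebra.lmul F K)) c) *ᵥ w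
        = ψ.symm (c * ψ w) := by
    intro w
    simp only [AlgHom.comp_apply]
    rw [← Matrix.toLinAlgEquiv'_apply]
    have : Matrix.toLinAlgEquiv' ((LinearMap.toMatrixAlgEquiv' (R := F) (n := Fin n ⊕ Fin n))
        ((ψ.symm.conjAlgEquiv F) ((Algebra.lmul F K) c))) =
        (ψ.symm.conjAlgEquiv F) ((Algebra.lmul F K) c) :=
      Matrix.toLinAlgEquiv'_toMatrixAlgEquiv' _
    erw [this, LinearEquiv.conjAlgEquiv_apply]
    simp
  rw [key, key, ← stdB_apply, ← hψ, LinearEquiv.apply_symm_apply, LinearEquiv.apply_symm_apply,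
    hc, hψ, stdB_apply]




theorem sp_torus_minus {F : Type*} [Field F] [Fintype F] {p : ℕ} [Fact p.Prime] [CharP F p]
    (n : ℕ) (hn : 1 ≤ n) (h4 : Fintype.card F ^ n % 4 = 3) (s : ℕ) [Fact s.Prime] (hs2 : s ≠ 2)
    (hs : s ∣ Fintype.card F ^ n + 1) :
    ∃ t y : Matrix.symplecticGroup (Fin n) F, Commute t y ∧ orderOf y = s ∧
      t * t = Cfsg.Agent.S0246.negOne F n := by
  classical
  have : NeZero (2 * n) := ⟨by omega⟩
  have h2 : (2 : F) ≠ 0 := by
    intro h
    have hev : Even (Fintype.card F) := Cfsg.Agent.S0246.two_eq_zero_iff.mp h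
    have hev2 : Even (Fintype.card F ^ n) := (Nat.even_pow.mpr ⟨hev, by omega⟩)
    rw [Nat.even_iff] at hev2
    omega
  have hcardK : Nat.card (FiniteField.Extension F p (2 * n)) = (Fintype.card F ^ n) ^ 2 := by
    rw [FiniteField.natCard_extension, Nat.card_eq_fintype_card, ← pow_mul, mul_comm]
  obtain ⟨t₀, y₀, ht1, hy1, ht2, hyord, htQ⟩ :=
    bcgs3_units (K := FiniteField.Extension F p (2 * n)) (Fintype.card F ^ n) hcardK h4 s
      (Fact.out) hs
  have hσ_apply : ∀ a : FiniteField.Extension F p (2 * n),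
      ((FiniteField.Extension.frob F p (2 * n)) ^ n) a = a ^ (Fintype.card F ^ n) := by
    intro a
    rw [FiniteField.Extension.frob_iterate_apply, Nat.card_eq_fintype_card]
  have hσσ : ∀ a : FiniteField.Extension F p (2 * n),
      ((FiniteField.Extension.frob F p (2 * n)) ^ n)
        (((FiniteField.Extension.frob F p (2 * n)) ^ n) a) = a := by
    intro a
    rw [hσ_apply, hσ_apply, ← pow_mul, ← pow_two, ← hcardK]
    letI := Fintype.ofFinite (FiniteField.Extension F p (2 * n))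
    rw [Nat.card_eq_fintype_card]
    exact FiniteField.pow_card a
  have ht0 : t₀ ≠ 0 := by
    intro h
    rw [h, mul_zero] at ht2
    exact one_ne_zero (neg_eq_zero.mp ht2.symm)
  obtain ⟨halt, hnd, hpres⟩ := bcgs3_form h2 ((FiniteField.Extension.frob F p (2 * n)) ^ n) hσσ t₀ ht0
    (by rw [hσ_apply, htQ])
  obtain ⟨Φ, hΦ⟩ := bcgs3_transport (bcgs3_B ((FiniteField.Extension.frob F p (2 * n)) ^ n) t₀)
    halt hnd n (FiniteField.finrank_extension F p (2 * n))
  have hmemt : Φ t₀ ∈ Matrix.symplecticGroup (Fin n) F :=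
    hΦ t₀ (hpres t₀ (by rw [hσ_apply, ← pow_succ']; exact ht1))
  have hmemy : Φ y₀ ∈ Matrix.symplecticGroup (Fin n) F :=
    hΦ y₀ (hpres y₀ (by rw [hσ_apply, ← pow_succ']; exact hy1))
  refine ⟨⟨Φ t₀, hmemt⟩, ⟨Φ y₀, hmemy⟩, ?_, ?_, ?_⟩
  · apply Subtype.ext
    show Φ t₀ * Φ y₀ = Φ y₀ * Φ t₀
    rw [← map_mul, ← map_mul, mul_comm t₀ y₀]
  · rw [← orderOf_submonoid]
    show orderOf (Φ y₀) = s
    haveI : Nonempty (Fin n ⊕ Fin n) := ⟨Sum.inl ⟨0, by omega⟩⟩
    have hinj : Function.Injective Φ := Φ.toRingHom.injective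
    have := orderOf_injective (MonoidHomClass.toMonoidHom Φ) hinj y₀
    rw [← hyord, ← this]
    rfl
  · apply Subtype.ext
    show Φ t₀ * Φ t₀ = _
    rw [← map_mul, ht2, map_neg, map_one, Cfsg.Agent.S0246.negOne_coe]


end Cfsg.Agent.Lib.Lead.BCG
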