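import Mathlib
import Cfsg.Agent.Lib.helper14.DBN.Defs
import Cfsg.Agent.Lib.Lead.DicksonGen
import Cfsg.Agent.S0786

/-!
Project DBN, row IDXB: the abelianisation of `OQ n F` (index of the commutator subgroup).
`OQ n F ≃* isometryGroup F ⇑Q` for the quadratic form `Q` with `⇑Q = Qh n`; then `S0786` (generation by
reflections) in odd characteristic and `Lead.DK.index_omega_char2` in characteristic two.
-/

set_option autoImplicit false

namespace Cfsg.Agent.Lib.helper14.DBN

open Matrix
open Cfsg.Agent.Lib.helper14.UBN Cfsg.Agent.Lib.helper14.OBN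

universe u
variable {F : Type u} [Field F] {n : ℕ}

/-- the two halves `pa k`, `rv (pa k)` cover `Fin n` for even `n` -/
theorem dbnidxb_sum_split (hn : n % 2 = 0) (f : Fin n → F) :
    ∑ i, f i = ∑ k : Fin (n / 2), (f (pa k) + f (rv (pa k))) := by
  have hinj : Function.Injective (Sum.elim (pa : Fin (n / 2) → Fin n) (fun k => rv (pa k))) := by
    rintro (a | a) (b | b) h
    · simp only [Sum.elim_inl] at h
      have := congrArg Fin.val h
      simp only [pa] at this
      exact congrArg Sum.inl (Fin.ext this)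
    · simp only [Sum.elim_inl, Sum.elim_inr] at h
      have := congrArg Fin.val h
      simp only [pa, rv, Fin.val_rev] at this
      have ha := a.2
      have hb := b.2
      omega
    · simp only [Sum.elim_inl, Sum.elim_inr] at h
      have := congrArg Fin.val h
      simp only [pa, rv, Fin.val_rev] at this
      have ha := a.2
      have hb := b.2
      omega
    · simp only [Sum.elim_inr] at h
      have := congrArg Fin.val h
      simp only [pa, rv, Fin.val_rev] at this
      have ha := a.2
      have hb := b.2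
      exact congrArg Sum.inr (Fin.ext (by omega))
  have hsurj : Function.Surjective (Sum.elim (pa : Fin (n / 2) → Fin n) (fun k => rv (pa k))) := by
    intro i
    have hi := i.2
    by_cases h : i.val < n / 2
    · exact ⟨Sum.inl ⟨i.val, h⟩, Fin.ext rfl⟩
    · refine ⟨Sum.inr ⟨n - 1 - i.val, by omega⟩, Fin.ext ?_⟩
      simp only [Sum.elim_inr, pa, rv, Fin.val_rev]
      omega
  rw [← (Equiv.ofBijective _ ⟨hinj, hsurj⟩).sum_comp, Fintype.sum_sum_type, Finset.sum_add_distrib]
  rfl

/-- the bilinear form `Σ_k u_{pa k} v_{rv (pa k)}` -/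
noncomputable def dbnidxb_B (n : ℕ) (F : Type u) [Field F] :
    LinearMap.BilinMap F (Fin n → F) F :=
  LinearMap.mk₂ F (fun u v => ∑ k : Fin (n / 2), u (pa k) * v (rv (pa k)))
    (by
      intro u u' v
      rw [← Finset.sum_add_distrib]
      apply Finset.sum_congr rfl
      intro k _
      rw [Pi.add_apply, add_mul])
    (by
      intro c u v
      rw [smul_eq_mul, Finset.mul_sum]
      apply Finset.sum_congr rfl
      intro k _
      rw [Pi.smul_apply, smul_eq_mul, mul_assoc])
    (by
      intro u v v'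
      rw [← Finset.sum_add_distrib]
      apply Finset.sum_congr rfl
      intro k _
      rw [Pi.add_apply, mul_add])
    (by
      intro c u v
      rw [smul_eq_mul, Finset.mul_sum]
      apply Finset.sum_congr rfl
      intro k _
      rw [Pi.smul_apply, smul_eq_mul, mul_left_comm])

theorem dbnidxb_B_apply (u v : Fin n → F) :
    dbnidxb_B n F u v = ∑ k : Fin (n / 2), u (pa k) * v (rv (pa k)) := rfl

/-- the quadratic form with `⇑Q = Qh n` -/
noncomputable def dbnidxb_Q (n : ℕ) (F : Type u) [Field F] : QuadraticForm F (Fin n → F) :=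
  (dbnidxb_B n F).toQuadraticMap

theorem dbnidxb_Q_apply (v : Fin n → F) : dbnidxb_Q n F v = Qh n v := by
  unfold dbnidxb_Q
  rw [LinearMap.BilinMap.toQuadraticMap_apply, dbnidxb_B_apply]
  rfl

theorem dbnidxb_coe : ⇑(dbnidxb_Q n F) = Qh n := funext dbnidxb_Q_apply

theorem dbnidxb_polar (hn : n % 2 = 0) (u v : Fin n → F) :
    QuadraticMap.polar (⇑(dbnidxb_Q n F)) u v = hJ (Sid F) u v := by
  unfold QuadraticMap.polar dbnidxb_Q
  rw [LinearMap.BilinMap.toQuadraticMap_apply, LinearMap.BilinMap.toQuadraticMap_apply,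
    LinearMap.BilinMap.toQuadraticMap_apply, map_add, map_add, LinearMap.add_apply,
    LinearMap.add_apply]
  have e : hJ (Sid F) u v = dbnidxb_B n F u v + dbnidxb_B n F v u := by
    unfold hJ
    rw [dbnidxb_sum_split hn, dbnidxb_B_apply, dbnidxb_B_apply, ← Finset.sum_add_distrib]
    apply Finset.sum_congr rfl
    intro k _
    rw [rv_rv]
    show u (pa k) * v (rv (pa k)) + u (rv (pa k)) * v (pa k) = _
    ring
  rw [e]
  ring

theorem dbnidxb_nondeg (hn : n % 2 = 0) :
    (QuadraticMap.polarBilin (dbnidxb_Q n F)).Nondegenerate := by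
  have key : ∀ u : Fin n → F, (∀ v, hJ (Sid F) u v = 0) → u = 0 := by
    intro u hu
    funext i
    have := hu (bV (rv i))
    rw [hJ_bV_right, rv_rv] at this
    exact this
  have keyR : ∀ u : Fin n → F, (∀ v, hJ (Sid F) v u = 0) → u = 0 := by
    intro u hu
    funext i
    have := hu (bV (rv i))
    rw [hJ_bV_left] at this
    simpa [Sid, rv_rv] using this
  constructor
  · intro u hu
    apply key u
    intro v
    rw [← dbnidxb_polar hn]
    exact hu v
  · intro u hu
    apply keyR u
    intro v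
    rw [← dbnidxb_polar hn]
    exact hu v

/-- the isomorphism with the isometry group of `Q` -/
noncomputable def dbnidxb_hom (n : ℕ) (F : Type u) [Field F] :
    ↥(OQ n F) →* ↥(Cfsg.isometryGroup F ⇑(dbnidxb_Q n F)) where
  toFun g := ⟨((g : GS n F) : GL (Fin n) F), by
    rw [Cfsg.Agent.Lib.Helper16.mem_iso_iff]
    intro x
    rw [dbnidxb_coe]
    exact g.2 x⟩
  map_one' := rfl
  map_mul' _ _ := rfl

theorem dbnidxb_hom_inj : Function.Injective (dbnidxb_hom n F) := by
  intro a b h
  have := congrArg (fun t : ↥(Cfsg.isometryGroup F ⇑(dbnidxb_Q n F)) => (t : GL (Fin n) F)) h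
  exact Subtype.ext (Subtype.ext this)

theorem dbnidxb_hom_surj (hn : n % 2 = 0) : Function.Surjective (dbnidxb_hom n F) := by
  intro t
  have ht : ∀ x, (dbnidxb_Q n F) (((t : GL (Fin n) F) : Matrix (Fin n) (Fin n) F) *ᵥ x) =
      (dbnidxb_Q n F) x := (Cfsg.Agent.Lib.Helper16.mem_iso_iff _ _).mp t.2
  have hJt : (t : GL (Fin n) F) ∈ GJ n (Sid F) := by
    intro u v
    show hJ (Sid F) (((t : GL (Fin n) F) : Matrix (Fin n) (Fin n) F) *ᵥ u)
      (((t : GL (Fin n) F) : Matrix (Fin n) (Fin n) F) *ᵥ v) = hJ (Sid F) u v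
    rw [← dbnidxb_polar hn, ← dbnidxb_polar hn]
    unfold QuadraticMap.polar
    rw [← Matrix.mulVec_add, ht, ht, ht]
  refine ⟨⟨⟨(t : GL (Fin n) F), hJt⟩, ?_⟩, ?_⟩
  · intro v
    have := ht v
    rw [dbnidxb_Q_apply, dbnidxb_Q_apply] at this
    exact this
  · exact Subtype.ext rfl

noncomputable def dbnidxb_equiv (hn : n % 2 = 0) :
    ↥(OQ n F) ≃* ↥(Cfsg.isometryGroup F ⇑(dbnidxb_Q n F)) :=
  MulEquiv.ofBijective (dbnidxb_hom n F) ⟨dbnidxb_hom_inj, dbnidxb_hom_surj hn⟩

/-- the index of the commutator subgroup is invariant under isomorphism -/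
theorem dbnidxb_index_comm {G H : Type*} [Group G] [Group H] (e : G ≃* H) :
    (commutator G).index = (commutator H).index := by
  have h : (commutator G).map (e : G →* H) = commutator H := by
    rw [commutator_def, Subgroup.map_commutator, commutator_def,
      Subgroup.map_top_of_surjective _ e.surjective]
  rw [← h]
  exact (Subgroup.index_map_equiv (commutator G) e).symm

theorem OQ_ab_even [Fintype F] (hn4 : 4 ≤ n) (hn : n % 2 = 0) (h2 : (2 : F) = 0)
    (hex : ¬ (Fintype.card F = 2 ∧ n = 4)) : (commutator ↥(OQ n F)).index ≤ 2 := by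
  haveI : CharP F 2 := CharTwo.of_one_ne_zero_of_two_eq_zero one_ne_zero h2
  rw [dbnidxb_index_comm (dbnidxb_equiv (F := F) hn)]
  have hcard : Fintype.card F ≠ 2 ∨ Fintype.card (Fin n) ≠ 4 := by
    rw [Fintype.card_fin]
    by_contra hc
    push_neg at hc
    exact hex hc
  have := Cfsg.Agent.Lib.Lead.DK.index_omega_char2 (dbnidxb_Q n F) (dbnidxb_nondeg hn)
    (by rw [Fintype.card_fin]; omega) hcard
  exact le_of_eq this

theorem OQ_ab_odd [Fintype F] (hn4 : 4 ≤ n) (hn : n % 2 = 0) (h2 : (2 : F) ≠ 0) :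
    ∃ k : ℕ, (commutator ↥(OQ n F)).index = 2 ^ k := by
  rw [dbnidxb_index_comm (dbnidxb_equiv (F := F) hn)]
  set G := ↥(Cfsg.isometryGroup F ⇑(dbnidxb_Q n F)) with hG
  have hF2 : Fintype.card F ≠ 2 := by
    intro h
    apply h2
    have := Nat.cast_card_eq_zero F
    rw [h] at this
    exact_mod_cast this
  have hgen := Cfsg.Agent.S0786.result (dbnidxb_Q n F) (dbnidxb_nondeg hn) (Or.inl hF2)
  have hsq : ∀ a : G ⧸ commutator G, a ^ 2 = 1 := by
    intro a
    obtain ⟨g, rfl⟩ := QuotientGroup.mk_surjective a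
    have hg : g ∈ Subgroup.closure {g : ↥(Cfsg.isometryGroup F ⇑(dbnidxb_Q n F)) |
        ∃ v : Fin n → F, (dbnidxb_Q n F) v ≠ 0 ∧
          ((g : Matrix.GeneralLinearGroup (Fin n) F) : Matrix (Fin n) (Fin n) F) =
            Cfsg.reflectionMatrix ⇑(dbnidxb_Q n F) v} := by
      rw [hgen]; exact Subgroup.mem_top g
    induction hg using Subgroup.closure_induction with
    | mem x hx =>
      obtain ⟨v, hv, hxv⟩ := hx
      have hxx : x * x = 1 := by
        apply Cfsg.Agent.Lib.Helper16.iso_ext'
        rw [Cfsg.Agent.Lib.Helper16.iso_mul_coe, hxv,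
          Cfsg.Agent.Lib.Helper16.refl_mul_self (dbnidxb_Q n F) v hv]
        rfl
      rw [← QuotientGroup.mk_pow, pow_two, hxx]
      rfl
    | one => exact one_pow 2
    | mul x y _ _ hx hy =>
      have hc : ∀ a b : Abelianization G, a * b = b * a := mul_comm
      have hc' : (y : G ⧸ commutator G) * (x : G ⧸ commutator G) =
          (x : G ⧸ commutator G) * (y : G ⧸ commutator G) := hc _ _
      rw [QuotientGroup.mk_mul, pow_two]
      calc ((x : G ⧸ commutator G) * (y : G ⧸ commutator G)) *
            ((x : G ⧸ commutator G) * (y : G ⧸ commutator G))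
          = (x : G ⧸ commutator G) * ((y : G ⧸ commutator G) * (x : G ⧸ commutator G)) *
              (y : G ⧸ commutator G) := by group
        _ = (x : G ⧸ commutator G) * ((x : G ⧸ commutator G) * (y : G ⧸ commutator G)) *
              (y : G ⧸ commutator G) := by rw [hc']
        _ = (x : G ⧸ commutator G) ^ 2 * (y : G ⧸ commutator G) ^ 2 := by
            rw [pow_two, pow_two, mul_assoc, mul_assoc, mul_assoc]
        _ = 1 := by rw [hx, hy, one_mul]
    | inv x _ hx =>
      rw [QuotientGroup.mk_inv, inv_pow, hx, inv_one]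
  have hp : IsPGroup 2 (G ⧸ commutator G) := by
    intro a
    exact ⟨1, by rw [pow_one]; exact hsq a⟩
  haveI : Fact (Nat.Prime 2) := ⟨Nat.prime_two⟩
  obtain ⟨k, hk⟩ := (IsPGroup.iff_card (p := 2) (G := G ⧸ commutator G)).mp hp
  exact ⟨k, by rw [Subgroup.index_eq_card]; exact hk⟩

end Cfsg.Agent.Lib.helper14.DBN
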