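import Mathlib
import Cfsg.Prelude.Def_Sporadic_a
import Cfsg.Agent.Lib.helper4.ElemClassB
import Cfsg.Agent.Lib.helper4.ElemResults
import Cfsg.Agent.Lib.helper3.GolayAut

set_option autoImplicit false

namespace Cfsg.Agent.Lib.helper3

open Cfsg
open Cfsg.Agent.Lib.helper4
open Cfsg.Agent.Lib.Helper12.Golay
open scoped Pointwise

/-- The two classes of involutions of `M24` (a corollary of helper4's `class2A`/`class2B`). -/
theorem m24_two_involution_classes : (∀ g ∈ Cfsg.M24, orderOf g = 2 → (Finset.univ.filter fun p => g p = p) ∈ Cfsg.octads ∨ ∀ p, g p ≠ p) ∧ (∃ g ∈ Cfsg.M24, orderOf g = 2 ∧ (Finset.univ.filter fun p => g p = p) ∈ Cfsg.octads) ∧ (∃ g ∈ Cfsg.M24, orderOf g = 2 ∧ ∀ p, g p ≠ p) ∧ ∀ g ∈ Cfsg.M24, ∀ h ∈ Cfsg.M24, orderOf g = 2 → orderOf h = 2 → ((∀ p, g p ≠ p) ↔ (∀ p, h p ≠ p)) → ∃ k ∈ Cfsg.M24, k * g * k⁻¹ = h := by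
  classical
  have hvA : ValidT rep2A := okK_valid okK_rep2A
  have hvB : ValidT rep2B := okK_valid okK_rep2B
  have hA_mem : fperm rep2A ∈ M24 := fperm_mem okK_rep2A
  have hB_mem : fperm rep2B ∈ M24 := fperm_mem okK_rep2B
  -- the fixed points of the two representatives
  have hA_fix : (Finset.univ.filter fun p : GolayPt => fperm rep2A p = p) ∈ octads := by
    have e : (Finset.univ.filter fun p : GolayPt => fperm rep2A p = p) =
        (Finset.univ.filter fun p : GolayPt => Cfsg.Agent.Lib.Helper12.Golay.tblFun rep2A p = p) := by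
      apply Finset.filter_congr
      intro p _
      rw [fperm_apply hvA]
    rw [e, Cfsg.Agent.Lib.Helper12.Golay.mem_octads_iff]
    decide
  have hB_fpf : ∀ p : GolayPt, fperm rep2B p ≠ p := by
    intro p
    rw [fperm_apply hvB]
    revert p
    decide
  have sqA : fperm rep2A * fperm rep2A = 1 := by
    refine Equiv.ext fun p => ?_
    rw [Equiv.Perm.mul_apply, fperm_apply hvA, fperm_apply hvA, Equiv.Perm.one_apply]
    revert p
    decide
  have sqB : fperm rep2B * fperm rep2B = 1 := by
    refine Equiv.ext fun p => ?_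
    rw [Equiv.Perm.mul_apply, fperm_apply hvB, fperm_apply hvB, Equiv.Perm.one_apply]
    revert p
    decide
  have hB_ne : fperm rep2B ≠ 1 := by
    intro h
    have := hB_fpf none
    rw [h] at this
    exact this rfl
  have hA_ne : fperm rep2A ≠ 1 := by
    intro h
    have h1 : fperm rep2A (some 1) = some 1 := by rw [h]; rfl
    rw [fperm_apply hvA] at h1
    revert h1
    decide
  have ordA : orderOf (fperm rep2A) = 2 := orderOf_eq_prime (by rw [pow_two]; exact sqA) hA_ne
  have ordB : orderOf (fperm rep2B) = 2 := orderOf_eq_prime (by rw [pow_two]; exact sqB) hB_ne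
  -- general facts about elements of order two
  have key : ∀ g ∈ M24, orderOf g = 2 → (∃ p, g p = p) → ∃ w ∈ M24, w * g * w⁻¹ = fperm rep2A := by
    intro g hg ho hf
    have h2 : g ^ 2 = 1 := by rw [← ho]; exact pow_orderOf_eq_one g
    have h1 : g ≠ 1 := by
      intro h
      rw [h, orderOf_one] at ho
      omega
    exact (class2A hg h2 h1 hf).2
  have keyB : ∀ g ∈ M24, orderOf g = 2 → (∀ p, g p ≠ p) → ∃ w ∈ M24, w * g * w⁻¹ = fperm rep2B := by
    intro g hg ho hf
    have h2 : g ^ 2 = 1 := by rw [← ho]; exact pow_orderOf_eq_one g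
    exact class2B hg h2 hf
  refine ⟨?_, ⟨_, hA_mem, ordA, hA_fix⟩, ⟨_, hB_mem, ordB, hB_fpf⟩, ?_⟩
  · intro g hg ho
    by_cases hf : ∃ p, g p = p
    · left
      obtain ⟨w, hw, e⟩ := key g hg ho hf
      have hset : (Finset.univ.filter fun p : GolayPt => g p = p) =
          w⁻¹ • (Finset.univ.filter fun p : GolayPt => fperm rep2A p = p) := by
        ext p
        rw [Finset.mem_smul_finset]
        simp only [Finset.mem_filter, Finset.mem_univ, true_and]
        constructor
        · intro hp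
          refine ⟨w p, ?_, by simp⟩
          rw [← e]
          simp [hp]
        · rintro ⟨q, hq, rfl⟩
          rw [← e] at hq
          simp only [Equiv.Perm.mul_apply] at hq
          have := congrArg (fun x => w⁻¹ x) hq
          simpa using this
      rw [hset]
      exact Cfsg.Agent.Lib.helper3.smul_octads_of_mem_M24 (M24.inv_mem hw) _ hA_fix
    · right
      push Not at hf
      exact hf
  · intro g hg h hh hog hoh hiff
    by_cases hf : ∀ p, g p ≠ p
    · obtain ⟨w1, hw1, e1⟩ := keyB g hg hog hf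
      obtain ⟨w2, hw2, e2⟩ := keyB h hh hoh (hiff.mp hf)
      refine ⟨w2⁻¹ * w1, M24.mul_mem (M24.inv_mem hw2) hw1, ?_⟩
      have : h = w2⁻¹ * fperm rep2B * w2 := by rw [← e2]; group
      rw [this, ← e1]
      group
    · have hf' : ¬ ∀ p, h p ≠ p := fun hh' => hf (hiff.mpr hh')
      push Not at hf hf'
      obtain ⟨w1, hw1, e1⟩ := key g hg hog hf
      obtain ⟨w2, hw2, e2⟩ := key h hh hoh hf'
      refine ⟨w2⁻¹ * w1, M24.mul_mem (M24.inv_mem hw2) hw1, ?_⟩
      have : h = w2⁻¹ * fperm rep2A * w2 := by rw [← e2]; group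
      rw [this, ← e1]
      group

end Cfsg.Agent.Lib.helper3
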