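import Mathlib
import Cfsg.Prelude.Def_Sporadic_a

set_option autoImplicit false

namespace Cfsg.Agent.Lib.helper3

open Cfsg

variable {α : Type*} [Fintype α] [DecidableEq α]

noncomputable def blocks (B : Set (Finset α)) : Finset (Finset α) := (Set.toFinite B).toFinset

theorem mem_blocks {B : Set (Finset α)} {b : Finset α} : b ∈ blocks B ↔ b ∈ B :=
  Set.Finite.mem_toFinset _

theorem ncard_eq_card_blocks (B : Set (Finset α)) : B.ncard = (blocks B).card :=
  Set.ncard_eq_toFinset_card B _

variable {t k : ℕ} {B : Set (Finset α)}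

theorem steiner_card (hB : IsSteinerSystem t k B) {b : Finset α} (hb : b ∈ B) : b.card = k :=
  hB.1 b hb

theorem steiner_unique (hB : IsSteinerSystem t k B) {b c s : Finset α} (hb : b ∈ B) (hc : c ∈ B)
    (hs : s.card = t) (hsb : s ⊆ b) (hsc : s ⊆ c) : b = c := by
  obtain ⟨d, _, hd⟩ := hB.2 s hs
  rw [hd b ⟨hb, hsb⟩, hd c ⟨hc, hsc⟩]

theorem steiner_eq_of_le_inter (hB : IsSteinerSystem t k B) {b c : Finset α} (hb : b ∈ B)
    (hc : c ∈ B) (h : t ≤ (b ∩ c).card) : c = b := by
  obtain ⟨s, hs, hcard⟩ := Finset.exists_subset_card_eq h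
  exact steiner_unique hB hc hb hcard (hs.trans Finset.inter_subset_right)
    (hs.trans Finset.inter_subset_left)

/-- number of blocks through a `j`-set, `j ≤ t` -/
theorem steiner_count_through (hB : IsSteinerSystem t k B) (u : Finset α) (hu : u.card ≤ t) :
    ((blocks B).filter (fun b => u ⊆ b)).card * Nat.choose (k - u.card) (t - u.card) =
      Nat.choose (Fintype.card α - u.card) (t - u.card) := by
  have hT := Finset.card_filter_powersetCard_subset u Finset.univ t (Finset.subset_univ _) hu
  rw [Finset.card_univ] at hT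
  rw [← hT]
  have hdisj : (((blocks B).filter (fun b => u ⊆ b) : Finset (Finset α)) : Set (Finset α)).PairwiseDisjoint
      (fun b => (b.powersetCard t).filter (u ⊆ ·)) := by
    intro b hb c hc hne
    rw [Function.onFun, Finset.disjoint_left]
    intro s hsb hsc
    rw [Finset.mem_filter, Finset.mem_powersetCard] at hsb hsc
    rw [Finset.mem_coe, Finset.mem_filter, mem_blocks] at hb hc
    exact hne (steiner_unique hB hb.1 hc.1 hsb.1.2 hsb.1.1 hsc.1.1)
  have heq : (Finset.univ.powersetCard t).filter (u ⊆ ·) =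
      ((blocks B).filter (fun b => u ⊆ b)).biUnion (fun b => (b.powersetCard t).filter (u ⊆ ·)) := by
    ext s
    simp only [Finset.mem_filter, Finset.mem_powersetCard, Finset.mem_biUnion, mem_blocks,
      Finset.subset_univ, true_and]
    constructor
    · rintro ⟨hs, hus⟩
      obtain ⟨b, ⟨hb, hsb⟩, _⟩ := hB.2 s hs
      exact ⟨b, ⟨hb, hus.trans hsb⟩, ⟨hsb, hs⟩, hus⟩
    · rintro ⟨b, _, ⟨_, hs⟩, hus⟩
      exact ⟨hs, hus⟩
  rw [heq, Finset.card_biUnion hdisj]
  have : ∀ b ∈ (blocks B).filter (fun b => u ⊆ b),
      ((b.powersetCard t).filter (u ⊆ ·)).card = Nat.choose (k - u.card) (t - u.card) := by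
    intro b hb
    rw [Finset.mem_filter, mem_blocks] at hb
    rw [Finset.card_filter_powersetCard_subset u b t hb.2 hu, steiner_card hB hb.1]
  rw [Finset.sum_congr rfl this, Finset.sum_const, smul_eq_mul]

theorem steiner_block_count (hB : IsSteinerSystem t k B) :
    B.ncard * Nat.choose k t = Nat.choose (Fintype.card α) t := by
  have := steiner_count_through hB ∅ (by simp)
  simpa [ncard_eq_card_blocks] using this

theorem steiner_inter_count (hB : IsSteinerSystem t k B) {b : Finset α} (hb : b ∈ B) (j : ℕ)
    (hj : j ≤ t) :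
    (∑ c ∈ blocks B, Nat.choose (b ∩ c).card j) * Nat.choose (k - j) (t - j) =
      Nat.choose k j * Nat.choose (Fintype.card α - j) (t - j) := by
  have h1 : ∀ c ∈ blocks B, Nat.choose (b ∩ c).card j =
      ((b.powersetCard j).bipartiteBelow (· ⊆ ·) c).card := by
    intro c _
    rw [← Finset.card_powersetCard]
    congr 1
    ext u
    simp only [Finset.bipartiteBelow, Finset.mem_filter, Finset.mem_powersetCard,
      Finset.subset_inter_iff]
    tauto
  rw [Finset.sum_congr rfl h1, ← Finset.sum_card_bipartiteAbove_eq_sum_card_bipartiteBelow,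
    Finset.sum_mul]
  have h2 : ∀ u ∈ b.powersetCard j, ((blocks B).bipartiteAbove (· ⊆ ·) u).card *
      Nat.choose (k - j) (t - j) = Nat.choose (Fintype.card α - j) (t - j) := by
    intro u hu
    rw [Finset.mem_powersetCard] at hu
    have := steiner_count_through hB u (by rw [hu.2]; exact hj)
    rw [hu.2] at this
    exact this
  rw [Finset.sum_congr rfl h2, Finset.sum_const, Finset.card_powersetCard, steiner_card hB hb,
    smul_eq_mul]

/-- number of blocks meeting `b` in exactly `i` points -/
noncomputable def interCount (B : Set (Finset α)) (b : Finset α) (i : ℕ) : ℕ :=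
  ((blocks B).filter (fun c => (b ∩ c).card = i)).card

theorem sum_interCount (hB : IsSteinerSystem t k B) {b : Finset α} (hb : b ∈ B) (f : ℕ → ℕ) :
    ∑ c ∈ blocks B, f (b ∩ c).card = ∑ i ∈ Finset.range (k + 1), interCount B b i * f i := by
  have hmaps : ∀ c ∈ blocks B, (b ∩ c).card ∈ Finset.range (k + 1) := by
    intro c _
    rw [Finset.mem_range, Nat.lt_succ_iff, ← steiner_card hB hb]
    exact Finset.card_le_card Finset.inter_subset_left
  rw [← Finset.sum_fiberwise_of_maps_to hmaps]
  apply Finset.sum_congr rfl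
  intro i _
  have : ∀ c ∈ (blocks B).filter (fun c => (b ∩ c).card = i), f (b ∩ c).card = f i := by
    intro c hc
    rw [(Finset.mem_filter.1 hc).2]
  rw [Finset.sum_congr rfl this, Finset.sum_const, smul_eq_mul]
  rfl

theorem steiner_inter_eq (hB : IsSteinerSystem t k B) {b : Finset α} (hb : b ∈ B) (j : ℕ)
    (hj : j ≤ t) :
    (∑ i ∈ Finset.range (k + 1), interCount B b i * Nat.choose i j) * Nat.choose (k - j) (t - j) =
      Nat.choose k j * Nat.choose (Fintype.card α - j) (t - j) := by
  rw [← sum_interCount hB hb (fun i => Nat.choose i j)]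
  exact steiner_inter_count hB hb j hj

theorem interCount_eq_zero (hB : IsSteinerSystem t k B) {b : Finset α} (hb : b ∈ B) {i : ℕ}
    (hti : t ≤ i) (hik : i ≠ k) : interCount B b i = 0 := by
  unfold interCount
  rw [Finset.card_eq_zero, Finset.filter_eq_empty_iff]
  intro c hc hcard
  rw [mem_blocks] at hc
  have := steiner_eq_of_le_inter hB hb hc (by rw [hcard]; exact hti)
  subst this
  rw [Finset.inter_self, steiner_card hB hb] at hcard
  exact hik hcard.symm

theorem interCount_self (hB : IsSteinerSystem t k B) {b : Finset α} (hb : b ∈ B) (htk : t ≤ k) :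
    interCount B b k = 1 := by
  unfold interCount
  rw [Finset.card_eq_one]
  refine ⟨b, ?_⟩
  ext c
  simp only [Finset.mem_filter, mem_blocks, Finset.mem_singleton]
  constructor
  · rintro ⟨hc, hcard⟩
    exact steiner_eq_of_le_inter hB hb hc (by rw [hcard]; exact htk)
  · rintro rfl
    exact ⟨hb, by rw [Finset.inter_self, steiner_card hB hb]⟩

theorem interCount_pos (hB : IsSteinerSystem t k B) {b c : Finset α} (hc : c ∈ B) :
    0 < interCount B b (b ∩ c).card := by
  unfold interCount
  rw [Finset.card_pos]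
  exact ⟨c, by simp [mem_blocks, hc]⟩

end Cfsg.Agent.Lib.helper3
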