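import Mathlib
import Cfsg.Agent.Lib.helper3.Steiner

set_option autoImplicit false

namespace Cfsg.Agent.Lib.helper3

open Cfsg

universe u v w

/-! ### Isomorphisms of set systems -/

theorem setSystemIso_refl {α : Type u} [DecidableEq α] (B : Set (Finset α)) :
    SetSystemIso B B := by
  refine ⟨Equiv.refl α, ?_⟩
  ext b
  simp

theorem image_symm_image {α : Type u} {β : Type v} [DecidableEq α] [DecidableEq β] (e : α ≃ β)
    (b : Finset α) : (b.image e).image e.symm = b := by
  rw [Finset.image_image]
  simp

theorem image_image_symm {α : Type u} {β : Type v} [DecidableEq α] [DecidableEq β] (e : α ≃ β)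
    (b : Finset β) : (b.image e.symm).image e = b := by
  rw [Finset.image_image]
  simp

theorem setSystemIso_symm {α : Type u} {β : Type v} [DecidableEq α] [DecidableEq β]
    {B : Set (Finset α)} {B' : Set (Finset β)} (h : SetSystemIso B B') : SetSystemIso B' B := by
  obtain ⟨e, he⟩ := h
  refine ⟨e.symm, ?_⟩
  ext b
  constructor
  · rintro ⟨c, hc, rfl⟩
    rw [← he] at hc
    obtain ⟨d, hd, rfl⟩ := hc
    dsimp only
    rw [image_symm_image]
    exact hd
  · intro hb
    refine ⟨b.image e, ?_, image_symm_image e b⟩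
    rw [← he]
    exact ⟨b, hb, rfl⟩

theorem setSystemIso_trans {α : Type u} {β : Type v} {γ : Type w} [DecidableEq α] [DecidableEq β]
    [DecidableEq γ] {B : Set (Finset α)} {B' : Set (Finset β)} {B'' : Set (Finset γ)}
    (h : SetSystemIso B B') (h' : SetSystemIso B' B'') : SetSystemIso B B'' := by
  obtain ⟨e, he⟩ := h
  obtain ⟨e', he'⟩ := h'
  refine ⟨e.trans e', ?_⟩
  rw [← he', ← he, Set.image_image]
  congr 1
  funext b
  rw [Finset.image_image]
  rfl

/-- the image of a Steiner system under a bijection -/
theorem isSteinerSystem_image {α : Type u} {β : Type v} [DecidableEq α] [DecidableEq β] {t k : ℕ}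
    {B : Set (Finset α)} (hB : IsSteinerSystem t k B) (e : α ≃ β) :
    IsSteinerSystem t k ((fun b => b.image e) '' B) := by
  constructor
  · rintro b ⟨c, hc, rfl⟩
    dsimp only
    rw [Finset.card_image_of_injective _ e.injective]
    exact hB.1 c hc
  · intro s hs
    have hs' : (s.image e.symm).card = t := by
      rw [Finset.card_image_of_injective _ e.symm.injective, hs]
    obtain ⟨b, ⟨hb, hsb⟩, huniq⟩ := hB.2 _ hs'
    refine ⟨b.image e, ⟨⟨b, hb, rfl⟩, ?_⟩, ?_⟩
    · rw [← image_image_symm e s]
      exact Finset.image_subset_image hsb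
    · rintro c ⟨⟨d, hd, rfl⟩, hsc⟩
      dsimp only at hsc ⊢
      have : s.image e.symm ⊆ d := by
        rw [← image_symm_image e d]
        exact Finset.image_subset_image hsc
      rw [huniq d ⟨hd, this⟩]

/-- a bijection carrying blocks into blocks of a Steiner system with the same parameters is an
isomorphism -/
theorem setSystemIso_of_image_mem {α : Type u} {β : Type v} [DecidableEq α] [DecidableEq β]
    {t k : ℕ} (htk : t ≤ k) {B : Set (Finset α)} {B' : Set (Finset β)}
    (hB : IsSteinerSystem t k B) (hB' : IsSteinerSystem t k B') (e : α ≃ β)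
    (h : ∀ b ∈ B, b.image e ∈ B') : (fun b => b.image e) '' B = B' := by
  apply Set.Subset.antisymm
  · rintro b ⟨c, hc, rfl⟩
    exact h c hc
  · intro b hb
    have hcard : t ≤ b.card := by rw [hB'.1 b hb]; exact htk
    obtain ⟨s, hsb, hs⟩ := Finset.exists_subset_card_eq hcard
    have hs' : (s.image e.symm).card = t := by
      rw [Finset.card_image_of_injective _ e.symm.injective, hs]
    obtain ⟨c, ⟨hc, hsc⟩, -⟩ := hB.2 _ hs'
    refine ⟨c, hc, ?_⟩
    dsimp only
    have h1 : s ⊆ c.image e := by
      rw [← image_image_symm e s]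
      exact Finset.image_subset_image hsc
    obtain ⟨d, -, hd⟩ := hB'.2 s hs
    rw [hd (c.image e) ⟨h c hc, h1⟩, hd b ⟨hb, hsb⟩]

end Cfsg.Agent.Lib.helper3
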