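import Mathlib
import Cfsg.Agent.Lib.helper3.StIso

set_option autoImplicit false

namespace Cfsg.Agent.Lib.helper3

open Cfsg
open scoped Pointwise

universe u v

/-! ### Transport of automorphism groups along isomorphisms of set systems -/

theorem mem_setSystemAut_iff {α : Type u} [DecidableEq α] {B : Set (Finset α)}
    {g : Equiv.Perm α} : g ∈ setSystemAut B ↔ ∀ b : Finset α, b.image g ∈ B ↔ b ∈ B :=
  MulAction.mem_stabilizer_set

theorem image_permCongr {α : Type u} {β : Type v} [DecidableEq α] [DecidableEq β] (e : α ≃ β)
    (g : Equiv.Perm α) (b : Finset α) :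
    (b.image e).image (e.permCongr g) = (b.image g).image e := by
  rw [Finset.image_image, Finset.image_image]
  apply Finset.image_congr
  intro a _
  simp [Equiv.permCongr_apply]

theorem image_mem_iff_of_iso {α : Type u} {β : Type v} [DecidableEq α] [DecidableEq β]
    {B : Set (Finset α)} {B' : Set (Finset β)} (e : α ≃ β)
    (h : (fun b => b.image e) '' B = B') (c : Finset α) : c.image e ∈ B' ↔ c ∈ B := by
  rw [← h]
  constructor
  · rintro ⟨b, hb, hbc⟩
    have : b = c := Finset.image_injective e.injective hbc
    rwa [← this]
  · intro hc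
    exact ⟨c, hc, rfl⟩

theorem permCongr_mem_iff {α : Type u} {β : Type v} [DecidableEq α] [DecidableEq β]
    {B : Set (Finset α)} {B' : Set (Finset β)} (e : α ≃ β)
    (h : (fun b => b.image e) '' B = B') (g : Equiv.Perm α) :
    e.permCongr g ∈ setSystemAut B' ↔ g ∈ setSystemAut B := by
  rw [mem_setSystemAut_iff, mem_setSystemAut_iff]
  constructor
  · intro hg b
    have := hg (b.image e)
    rw [image_permCongr, image_mem_iff_of_iso e h, image_mem_iff_of_iso e h] at this
    exact this
  · intro hg b'
    have hb' : b' = (b'.image e.symm).image e := (image_image_symm e b').symm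
    rw [hb', image_permCongr, image_mem_iff_of_iso e h, image_mem_iff_of_iso e h]
    exact hg _

/-- an isomorphism of set systems induces an isomorphism of the automorphism groups, compatible
with the actions on points -/
theorem aut_transfer {α : Type u} {β : Type v} [DecidableEq α] [DecidableEq β]
    {B : Set (Finset α)} {B' : Set (Finset β)} (e : α ≃ β)
    (h : (fun b => b.image e) '' B = B') :
    ∃ φ : setSystemAut B ≃* setSystemAut B',
      ∀ (g : setSystemAut B) (a : α), e (g • a) = φ g • e a := by
  have hmap : (setSystemAut B).map (e.permCongrHom : Equiv.Perm α →* Equiv.Perm β) =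
      setSystemAut B' := by
    ext g'
    rw [Subgroup.mem_map]
    constructor
    · rintro ⟨g, hg, rfl⟩
      exact (permCongr_mem_iff e h g).mpr hg
    · intro hg'
      refine ⟨e.symm.permCongr g', ?_, ?_⟩
      · rw [← permCongr_mem_iff e h]
        have : e.permCongr (e.symm.permCongr g') = g' := by
          ext x
          simp [Equiv.permCongr_apply]
        rw [this]
        exact hg'
      · ext x
        simp [Equiv.permCongr_apply]
  refine ⟨(e.permCongrHom.subgroupMap (setSystemAut B)).trans (MulEquiv.subgroupCongr hmap), ?_⟩
  intro g a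
  change e (g.1 a) = (e.permCongr g.1) (e a)
  simp [Equiv.permCongr_apply]

theorem isMultiplyPretransitive_of_equiv {G : Type*} {H : Type*} {α : Type*} {β : Type*}
    [Group G] [Group H] [MulAction G α] [MulAction H β] (φ : G ≃* H) (e : α ≃ β)
    (he : ∀ (g : G) (a : α), e (g • a) = φ g • e a) (n : ℕ)
    (hG : MulAction.IsMultiplyPretransitive G α n) : MulAction.IsMultiplyPretransitive H β n := by
  rw [MulAction.isMultiplyPretransitive_iff] at hG ⊢
  intro x y
  obtain ⟨g, hg⟩ := hG (x.trans e.symm.toEmbedding) (y.trans e.symm.toEmbedding)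
  refine ⟨φ g, ?_⟩
  ext i
  have := congrArg (fun z : Fin n ↪ α => e (z i)) hg
  simp only [Function.Embedding.smul_apply, Function.Embedding.trans_apply,
    Equiv.coe_toEmbedding, Equiv.apply_symm_apply, he] at this
  rw [Function.Embedding.smul_apply]
  exact this

end Cfsg.Agent.Lib.helper3
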