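import Mathlib
import Cfsg.Agent.Lib.helper3.StAut
import Cfsg.Agent.S0351

set_option autoImplicit false

namespace Cfsg.Agent.Lib.helper3

open Cfsg
open scoped Pointwise

universe u

/-! ### Derived systems and restriction of automorphisms -/

section

variable {α : Type u} [DecidableEq α]

/-- the derived system at the point `x` -/
def derived (B : Set (Finset α)) (x : α) : Set (Finset {a : α // a ≠ x}) :=
  {b' | ∃ b ∈ B, x ∈ b ∧ b' = Finset.subtype (fun a => a ≠ x) b}

theorem eq_of_subtype_eq {x : α} {c c' : Finset α} (hc : x ∈ c) (hc' : x ∈ c')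
    (h : Finset.subtype (fun a => a ≠ x) c = Finset.subtype (fun a => a ≠ x) c') : c = c' := by
  ext a
  by_cases ha : a = x
  · subst ha
    exact ⟨fun _ => hc', fun _ => hc⟩
  · have := congrArg (fun s => (⟨a, ha⟩ : {a : α // a ≠ x}) ∈ s) h
    simpa [Finset.mem_subtype] using this

theorem subtype_mem_derived_iff {B : Set (Finset α)} {x : α} {c : Finset α} (hc : x ∈ c) :
    Finset.subtype (fun a => a ≠ x) c ∈ derived B x ↔ c ∈ B := by
  constructor
  · rintro ⟨b, hb, hxb, h⟩
    rwa [eq_of_subtype_eq hc hxb h]
  · intro h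
    exact ⟨c, h, hc, rfl⟩

/-- every set of points other than `x` is the trace of a set containing `x` -/
theorem subtype_insert_map (x : α) (b' : Finset {a : α // a ≠ x}) :
    Finset.subtype (fun a => a ≠ x) (insert x (b'.map (Function.Embedding.subtype _))) = b' := by
  ext ⟨a, ha⟩
  simp [ha]

theorem fix_iff {x : α} {g : Equiv.Perm α} (h : g x = x) (a : α) : g a ≠ x ↔ a ≠ x := by
  rw [not_iff_not]
  constructor
  · intro ha
    exact g.injective (ha.trans h.symm)
  · rintro rfl
    exact h

theorem subtype_image_of_fix {x : α} (g : Equiv.Perm α) (hg : ∀ a, g a ≠ x ↔ a ≠ x)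
    (c : Finset α) :
    Finset.subtype (fun a => a ≠ x) (c.image g) =
      (Finset.subtype (fun a => a ≠ x) c).image (g.subtypePerm hg) := by
  ext ⟨a, ha⟩
  simp only [Finset.mem_subtype, Finset.mem_image, Subtype.exists, Equiv.Perm.subtypePerm_apply,
    Subtype.mk.injEq]
  constructor
  · rintro ⟨a', ha', rfl⟩
    exact ⟨a', (hg a').mp ha, ha', rfl⟩
  · rintro ⟨a', _, ha', rfl⟩
    exact ⟨a', ha', rfl⟩

theorem subtype_image_ofSubtype {x : α} (h : Equiv.Perm {a : α // a ≠ x}) (c : Finset α) :
    Finset.subtype (fun a => a ≠ x) (c.image (Equiv.Perm.ofSubtype h)) =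
      (Finset.subtype (fun a => a ≠ x) c).image h := by
  rw [subtype_image_of_fix (Equiv.Perm.ofSubtype h) (Equiv.Perm.ofSubtype_apply_mem_iff_mem h),
    Equiv.Perm.subtypePerm_ofSubtype]

theorem ofSubtype_fix {x : α} (h : Equiv.Perm {a : α // a ≠ x}) :
    Equiv.Perm.ofSubtype h x = x :=
  Equiv.Perm.ofSubtype_apply_of_not_mem h (by simp)

theorem mem_image_of_fix {x : α} {g : Equiv.Perm α} (hx : g x = x) (c : Finset α) :
    x ∈ c.image g ↔ x ∈ c := by
  rw [Finset.mem_image]
  constructor
  · rintro ⟨a, ha, hax⟩
    have : a = x := g.injective (hax.trans hx.symm)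
    rwa [← this]
  · intro h
    exact ⟨x, h, hx⟩

/-- the restriction of an automorphism fixing `x` is an automorphism of the derived system -/
theorem subtypePerm_mem_aut {B : Set (Finset α)} {x : α} {g : Equiv.Perm α}
    (hg : g ∈ setSystemAut B) (hx : g x = x) :
    g.subtypePerm (fix_iff hx) ∈ setSystemAut (derived B x) := by
  rw [mem_setSystemAut_iff] at hg ⊢
  intro b'
  have hb' := subtype_insert_map x b'
  set c := insert x (b'.map (Function.Embedding.subtype _)) with hc
  have hxc : x ∈ c := Finset.mem_insert_self _ _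
  rw [← hb', ← subtype_image_of_fix g (fix_iff hx) c,
    subtype_mem_derived_iff ((mem_image_of_fix hx c).mpr hxc), subtype_mem_derived_iff hxc]
  exact hg c

/-- the derived system of the image of `B` under the extension of an automorphism of the derived
system of `B` -/
theorem derived_image_ofSubtype {B : Set (Finset α)} {x : α} {h : Equiv.Perm {a : α // a ≠ x}}
    (hh : h ∈ setSystemAut (derived B x)) :
    derived ((fun b => b.image (Equiv.Perm.ofSubtype h)) '' B) x = derived B x := by
  have hh' := mem_setSystemAut_iff.mp (inv_mem hh)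
  ext b'
  have hb' := subtype_insert_map x b'
  set c := insert x (b'.map (Function.Embedding.subtype _)) with hc
  have hxc : x ∈ c := Finset.mem_insert_self _ _
  rw [← hb', subtype_mem_derived_iff hxc, subtype_mem_derived_iff hxc]
  constructor
  · rintro ⟨b, hb, hbc⟩
    dsimp only at hbc
    have hxb : x ∈ b := by
      rw [← mem_image_of_fix (ofSubtype_fix h) b, hbc]
      exact hxc
    have h1 : Finset.subtype (fun a => a ≠ x) b ∈ derived B x :=
      (subtype_mem_derived_iff hxb).mpr hb
    have h2 := (mem_setSystemAut_iff.mp hh _).mpr h1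
    rw [← subtype_image_ofSubtype, hbc] at h2
    exact (subtype_mem_derived_iff hxc).mp h2
  · intro hcB
    have h1 : Finset.subtype (fun a => a ≠ x) c ∈ derived B x :=
      (subtype_mem_derived_iff hxc).mpr hcB
    have h2 := (hh' _).mpr h1
    have h3 : (h⁻¹ : Equiv.Perm {a : α // a ≠ x}) = h.symm := rfl
    rw [← subtype_image_ofSubtype] at h2
    have hx2 : x ∈ c.image (Equiv.Perm.ofSubtype h⁻¹) :=
      (mem_image_of_fix (ofSubtype_fix _) c).mpr hxc
    have h4 := (subtype_mem_derived_iff hx2).mp h2
    refine ⟨_, h4, ?_⟩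
    dsimp only
    rw [Finset.image_image, map_inv]
    have : (⇑(Equiv.Perm.ofSubtype h) ∘ ⇑(Equiv.Perm.ofSubtype h)⁻¹) = id := by
      funext a
      simp
    rw [this, Finset.image_id]

/-- if `B` is determined by its derived system at `x`, the automorphisms of the derived system
extend to automorphisms of `B` -/
theorem ofSubtype_mem_aut {t k : ℕ} {B : Set (Finset α)} (hB : IsSteinerSystem t k B) {x : α}
    (hdet : ∀ B' : Set (Finset α), IsSteinerSystem t k B' → derived B' x = derived B x → B' = B)
    {h : Equiv.Perm {a : α // a ≠ x}} (hh : h ∈ setSystemAut (derived B x)) :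
    Equiv.Perm.ofSubtype h ∈ setSystemAut B :=
  hdet _ (isSteinerSystem_image hB (Equiv.Perm.ofSubtype h)) (derived_image_ofSubtype hh)

/-- restriction of the automorphisms fixing `x` to the derived system -/
def resHom (B : Set (Finset α)) (x : α) :
    MulAction.stabilizer (setSystemAut B) x →* setSystemAut (derived B x) where
  toFun g := ⟨g.1.1.subtypePerm (fix_iff g.2), subtypePerm_mem_aut g.1.2 g.2⟩
  map_one' := by
    apply Subtype.ext
    ext a
    rfl
  map_mul' g g' := by
    apply Subtype.ext
    ext a
    rfl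

theorem resHom_apply (B : Set (Finset α)) (x : α) (g : MulAction.stabilizer (setSystemAut B) x)
    (a : {a : α // a ≠ x}) : ((resHom B x g : Equiv.Perm {a : α // a ≠ x}) a : α) = g.1.1 a :=
  rfl

theorem ofSubtype_resHom (B : Set (Finset α)) (x : α)
    (g : MulAction.stabilizer (setSystemAut B) x) :
    Equiv.Perm.ofSubtype (resHom B x g : Equiv.Perm {a : α // a ≠ x}) = g.1.1 := by
  refine Equiv.Perm.ofSubtype_subtypePerm (fix_iff g.2) (fun a ha hax => ha ?_)
  rw [hax]
  exact g.2

theorem resHom_injective (B : Set (Finset α)) (x : α) : Function.Injective (resHom B x) := by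
  intro g g' h
  apply Subtype.ext
  apply Subtype.ext
  rw [← ofSubtype_resHom B x g, ← ofSubtype_resHom B x g', h]

theorem mem_range_resHom_iff (B : Set (Finset α)) (x : α) (h : setSystemAut (derived B x)) :
    h ∈ (resHom B x).range ↔ Equiv.Perm.ofSubtype h.1 ∈ setSystemAut B := by
  constructor
  · rintro ⟨g, rfl⟩
    rw [ofSubtype_resHom]
    exact g.1.2
  · intro hh
    refine ⟨⟨⟨Equiv.Perm.ofSubtype h.1, hh⟩, ofSubtype_fix h.1⟩, ?_⟩
    apply Subtype.ext
    exact Equiv.Perm.subtypePerm_ofSubtype h.1

theorem resHom_surjective {t k : ℕ} {B : Set (Finset α)} (hB : IsSteinerSystem t k B) {x : α}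
    (hdet : ∀ B' : Set (Finset α), IsSteinerSystem t k B' → derived B' x = derived B x → B' = B) :
    Function.Surjective (resHom B x) := by
  intro h
  exact (mem_range_resHom_iff B x h).mpr (ofSubtype_mem_aut hB hdet h.2)

/-- multiple transitivity passes to the derived system -/
theorem derived_aut_pretransitive {B : Set (Finset α)} {x : α} (n : ℕ)
    (hsurj : Function.Surjective (resHom B x))
    [MulAction.IsPretransitive (setSystemAut B) α]
    (hn : MulAction.IsMultiplyPretransitive (setSystemAut B) α (n + 1)) :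
    MulAction.IsMultiplyPretransitive (setSystemAut (derived B x)) {a : α // a ≠ x} n := by
  have h1 : MulAction.IsMultiplyPretransitive (MulAction.stabilizer (setSystemAut B) x)
      (SubMulAction.ofStabilizer (setSystemAut B) x) n :=
    SubMulAction.ofStabilizer.isMultiplyPretransitive.mp hn
  let ψ := MulEquiv.ofBijective (resHom B x) ⟨resHom_injective B x, hsurj⟩
  let e : SubMulAction.ofStabilizer (setSystemAut B) x ≃ {a : α // a ≠ x} :=
    Equiv.subtypeEquivRight (fun a => SubMulAction.mem_ofStabilizer_iff _ _)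
  exact isMultiplyPretransitive_of_equiv ψ e (fun g a => Subtype.ext rfl) n h1

end

end Cfsg.Agent.Lib.helper3
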