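import Mathlib

set_option autoImplicit false

namespace Cfsg.Agent.Lib.helper3

/-! ### Bit masks of finite sets and a fast population count -/

/-- population count of the lowest `n` bits, by recursion -/
def pcRec : ℕ → ℕ → ℕ
  | 0, _ => 0
  | n + 1, m => m % 2 + pcRec n (m / 2)

theorem pcRec_eq_length : ∀ (n m : ℕ), m < 2 ^ n → pcRec n m = m.bitIndices.length := by
  intro n
  induction n with
  | zero =>
    intro m hm
    have : m = 0 := by simpa using hm
    subst this
    simp [pcRec]
  | succ n ih =>
    intro m hm
    have hdiv : m / 2 < 2 ^ n := by
      rw [Nat.div_lt_iff_lt_mul (by norm_num)]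
      rw [pow_succ] at hm
      exact hm
    have hm2 : m = 2 * (m / 2) + m % 2 := (Nat.div_add_mod m 2).symm
    rcases Nat.mod_two_eq_zero_or_one m with h | h
    · rw [pcRec, ih _ hdiv, h]
      rw [h, add_zero] at hm2
      conv_rhs => rw [hm2, Nat.bitIndices_two_mul, List.length_map]
      simp
    · rw [pcRec, ih _ hdiv, h]
      rw [h] at hm2
      conv_rhs => rw [hm2, Nat.bitIndices_two_mul_add_one, List.length_cons, List.length_map]
      ring

theorem pcRec_split : ∀ (a b m : ℕ), pcRec (a + b) m = pcRec a (m % 2 ^ a) + pcRec b (m / 2 ^ a) := by
  intro a
  induction a with
  | zero =>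
    intro b m
    simp [pcRec]
  | succ a ih =>
    intro b m
    have h1 : a + 1 + b = (a + b) + 1 := by ring
    rw [h1, pcRec, ih, pcRec]
    have e1 : m % 2 ^ (a + 1) % 2 = m % 2 := by
      rw [pow_succ']
      exact Nat.mod_mul_right_mod m 2 (2 ^ a)
    have e2 : m % 2 ^ (a + 1) / 2 = m / 2 % 2 ^ a := by
      rw [pow_succ']
      exact Nat.mod_mul_right_div_self m 2 (2 ^ a)
    have e3 : m / 2 / 2 ^ a = m / 2 ^ (a + 1) := by
      rw [Nat.div_div_eq_div_mul, pow_succ']
    rw [e1, e2, e3]
    ring

/-- table of the population counts of the numbers below `4096`, four bits each -/
def pcTab : ℕ := 0xcbbabaa9baa9a998baa9a998a9989887baa9a998a9989887a998988798878776baa9a998a9989887a998988798878776a9989887988787769887877687767665baa9a998a9989887a998988798878776a9989887988787769887877687767665a998988798878776988787768776766598878776877676658776766576656554baa9a998a9989887a998988798878776a9989887988787769887877687767665a998988798878776988787768776766598878776877676658776766576656554a9989887988787769887877687767665988787768776766587767665766565549887877687767665877676657665655487767665766565547665655465545443baa9a998a9989887a998988798878776a998988798878776988787768776766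5a998988798878776988787768776766598878776877676658776766576656554a9989887988787769887877687767665988787768776766587767665766565549887877687767665877676657665655487767665766565547665655465545443a998988798878776988787768776766598878776877676658776766576656554988787768776766587767665766565548776766576656554766565546554544398878776877676658776766576656554877676657665655476656554655454438776766576656554766565546554544376656554655454436554544354434332baa9a998a9989887a998988798878776a9989887988787769887877687767665a998988798878776988787768776766598878776877676658776766576656554a9989887988787769887877687767665988787768776766587767665766565549887877687767665877676657665655487767665766565547665655465545443a998988798878776988787768776766598878776877676658776766576656554988787768776766587767665766565548776766576656554766565546554544398878776877676658776766576656554877676657665655476656554655454438776766576656554766565546554544376656554655454436554544354434332a9989887988787769887877687767665988787768776766587767665766565549887877687767665877676657665655487767665766565547665655465545443988787768776766587767665766565548776766576656554766565546554544387767665766565547665655465545443766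565546554544365545443544343329887877687767665877676657665655487767665766565547665655465545443877676657665655476656554655454437665655465545443655454435443433287767665766565547665655465545443766565546554544365545443544343327665655465545443655454435443433265545443544343325443433243323221baa9a998a9989887a998988798878776a9989887988787769887877687767665a998988798878776988787768776766598878776877676658776766576656554a9989887988787769887877687767665988787768776766587767665766565549887877687767665877676657665655487767665766565547665655465545443a998988798878776988787768776766598878776877676658776766576656554988787768776766587767665766565548776766576656554766565546554544398878776877676658776766576656554877676657665655476656554655454438776766576656554766565546554544376656554655454436554544354434332a998988798878776988787768776766598878776877676658776766576656554988787768776766587767665766565548776766576656554766565546554544398878776877676658776766576656554877676657665655476656554655454438776766576656554766565546554544376656554655454436554544354434332988787768776766587767665766565548776766576656554766565546554544387767665766565547665655465545443766565546554544365545443544343328776766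5766565547665655465545443766565546554544365545443544343327665655465545443655454435443433265545443544343325443433243323221a998988798878776988787768776766598878776877676658776766576656554988787768776766587767665766565548776766576656554766565546554544398878776877676658776766576656554877676657665655476656554655454438776766576656554766565546554544376656554655454436554544354434332988787768776766587767665766565548776766576656554766565546554544387767665766565547665655465545443766565546554544365545443544343328776766576656554766565546554544376656554655454436554544354434332766565546554544365545443544343326554544354434332544343324332322198878776877676658776766576656554877676657665655476656554655454438776766576656554766565546554544376656554655454436554544354434332877676657665655476656554655454437665655465545443655454435443433276656554655454436554544354434332655454435443433254434332433232218776766576656554766565546554544376656554655454436554544354434332766565546554544365545443544343326554544354434332544343324332322176656554655454436554544354434332655454435443433254434332433232216554544354434332544343324332322154434332433232214332322132212110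

/-- population count of a number below `4096` -/
def pc12 (v : ℕ) : ℕ := Nat.land (Nat.shiftRight pcTab (Nat.mul 4 v)) 15

/-- population count of a number below `2 ^ 24` (written with the bare operations, which the
kernel evaluates fastest) -/
def pc24 (m : ℕ) : ℕ := Nat.add (pc12 (Nat.land m 4095)) (pc12 (Nat.shiftRight m 12))

theorem pc12_eq_aux : ∀ a < 64, ∀ b < 64, pc12 (64 * a + b) = pcRec 12 (64 * a + b) := by
  decide +kernel

theorem pc12_eq (v : ℕ) (hv : v < 4096) : pc12 v = pcRec 12 v := by
  have h := pc12_eq_aux (v / 64) (by omega) (v % 64) (Nat.mod_lt _ (by norm_num))
  rwa [Nat.div_add_mod] at h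

theorem pc24_eq (m : ℕ) (hm : m < 2 ^ 24) : pc24 m = m.bitIndices.length := by
  rw [← pcRec_eq_length 24 m hm]
  have h := pcRec_split 12 12 m
  rw [show 12 + 12 = 24 from rfl] at h
  rw [h]
  unfold pc24
  have h1 : Nat.land m 4095 = m % 2 ^ 12 := Nat.and_two_pow_sub_one_eq_mod m 12
  have h2 : Nat.shiftRight m 12 = m / 2 ^ 12 := Nat.shiftRight_eq_div_pow m 12
  rw [h1, h2]
  show pc12 (m % 2 ^ 12) + pc12 (m / 2 ^ 12) = _
  have h3 : m % 2 ^ 12 < 4096 := Nat.mod_lt _ (by norm_num)
  have h4 : m / 2 ^ 12 < 4096 := by
    rw [Nat.div_lt_iff_lt_mul (by norm_num)]
    calc m < 2 ^ 24 := hm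
      _ = 4096 * 2 ^ 12 := by norm_num
  rw [pc12_eq _ h3, pc12_eq _ h4]

/-- the mask of a set of natural numbers -/
def maskN (s : Finset ℕ) : ℕ := ∑ i ∈ s, 2 ^ i

theorem testBit_maskN (s : Finset ℕ) (j : ℕ) : (maskN s).testBit j = true ↔ j ∈ s := by
  rw [← Nat.mem_bitIndices]
  unfold maskN
  conv_rhs => rw [← Finset.toFinset_bitIndices_sum_two_pow s]
  rw [List.mem_toFinset]

theorem maskN_injective : Function.Injective maskN :=
  Finset.geomSum_injective (le_refl 2)

theorem card_eq_length_bitIndices (s : Finset ℕ) : s.card = (maskN s).bitIndices.length := by
  conv_lhs => rw [← Finset.toFinset_bitIndices_sum_two_pow s]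
  rw [List.toFinset_card_of_nodup Nat.bitIndices_nodup]
  rfl

theorem maskN_lt (s : Finset ℕ) (N : ℕ) (h : ∀ i ∈ s, i < N) : maskN s < 2 ^ N := by
  apply Nat.lt_pow_two_of_testBit
  intro i hi
  rw [Bool.eq_false_iff]
  intro h1
  rw [testBit_maskN] at h1
  exact absurd (h i h1) (by omega)

theorem maskN_inter (a b : Finset ℕ) : maskN (a ∩ b) = maskN a &&& maskN b := by
  apply Nat.eq_of_testBit_eq
  intro i
  rw [Nat.testBit_and, Bool.eq_iff_iff, Bool.and_eq_true, testBit_maskN, testBit_maskN,
    testBit_maskN, Finset.mem_inter]

theorem maskN_insert (a : Finset ℕ) (x : ℕ) (hx : x ∉ a) : maskN (insert x a) = 2 ^ x + maskN a := by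
  unfold maskN
  rw [Finset.sum_insert hx]

theorem maskN_empty : maskN ∅ = 0 := rfl

/-- the mask of a set of elements of `Fin N` -/
def maskF {N : ℕ} (b : Finset (Fin N)) : ℕ := ∑ i ∈ b, 2 ^ (i : ℕ)

theorem maskF_eq_maskN {N : ℕ} (b : Finset (Fin N)) : maskF b = maskN (b.map Fin.valEmbedding) := by
  unfold maskF maskN
  rw [Finset.sum_map]
  rfl

theorem maskF_injective {N : ℕ} : Function.Injective (maskF (N := N)) := by
  intro a b h
  rw [maskF_eq_maskN, maskF_eq_maskN] at h
  exact Finset.map_injective _ (maskN_injective h)

theorem maskF_lt {N : ℕ} (b : Finset (Fin N)) : maskF b < 2 ^ N := by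
  rw [maskF_eq_maskN]
  apply maskN_lt
  intro i hi
  rw [Finset.mem_map] at hi
  obtain ⟨x, -, rfl⟩ := hi
  exact x.2

theorem testBit_maskF {N : ℕ} (b : Finset (Fin N)) (j : Fin N) :
    (maskF b).testBit (j : ℕ) = true ↔ j ∈ b := by
  rw [maskF_eq_maskN, testBit_maskN, Finset.mem_map]
  constructor
  · rintro ⟨x, hx, hxj⟩
    have : x = j := Fin.ext hxj
    rwa [← this]
  · intro h
    exact ⟨j, h, rfl⟩

theorem maskF_inter {N : ℕ} (a b : Finset (Fin N)) : maskF (a ∩ b) = maskF a &&& maskF b := by
  rw [maskF_eq_maskN, maskF_eq_maskN, maskF_eq_maskN, Finset.map_inter, maskN_inter]

theorem card_eq_pc24 {N : ℕ} (hN : N ≤ 24) (b : Finset (Fin N)) : b.card = pc24 (maskF b) := by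
  have h1 : maskF b < 2 ^ 24 := lt_of_lt_of_le (maskF_lt b) (Nat.pow_le_pow_right (by norm_num) hN)
  rw [pc24_eq _ h1, maskF_eq_maskN, ← card_eq_length_bitIndices, Finset.card_map]

theorem subset_iff_land {N : ℕ} (a b : Finset (Fin N)) : a ⊆ b ↔ maskF b &&& maskF a = maskF a := by
  rw [← maskF_inter]
  constructor
  · intro h
    rw [Finset.inter_eq_right.mpr h]
  · intro h
    exact Finset.inter_eq_right.mp (maskF_injective h)

/-- the set with a given mask -/
def ofMask (N : ℕ) (m : ℕ) : Finset (Fin N) := Finset.univ.filter (fun i => m.testBit (i : ℕ))

theorem maskF_ofMask {N : ℕ} (m : ℕ) (hm : m < 2 ^ N) : maskF (ofMask N m) = m := by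
  apply Nat.eq_of_testBit_eq
  intro i
  by_cases hi : i < N
  · rw [Bool.eq_iff_iff, testBit_maskF (ofMask N m) ⟨i, hi⟩]
    simp [ofMask]
  · have h1 : (maskF (ofMask N m)).testBit i = false :=
      Nat.testBit_lt_two_pow (lt_of_lt_of_le (maskF_lt _) (Nat.pow_le_pow_right (by norm_num)
        (by omega)))
    have h2 : m.testBit i = false :=
      Nat.testBit_lt_two_pow (lt_of_lt_of_le hm (Nat.pow_le_pow_right (by norm_num) (by omega)))
    rw [h1, h2]

theorem ofMask_maskF {N : ℕ} (b : Finset (Fin N)) : ofMask N (maskF b) = b :=
  maskF_injective (maskF_ofMask _ (maskF_lt b))

end Cfsg.Agent.Lib.helper3
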