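import Mathlib
import Cfsg.Agent.Lib.helper3.StMask
import Cfsg.Agent.Lib.helper3.StIso

set_option autoImplicit false

namespace Cfsg.Agent.Lib.helper3

open Cfsg

/-! ### A verified exhaustive search for the completions of a partial Steiner system -/

/-- evaluate the argument before applying the function (the kernel evaluates lazily, and this
turns the argument into a numeral once and for all) -/
def withNat {β : Type} (m : ℕ) (f : ℕ → β) : β :=
  match m with
  | 0 => f 0
  | n + 1 => f n.succ

theorem withNat_eq {β : Type} (m : ℕ) (f : ℕ → β) : withNat m f = f m := by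
  cases m <;> rfl

/-- all ways of adding `r` of the bits with the listed indices to `acc`, every intermediate set
passing the test `ok`, satisfy `P` -/
def forallSup (ok P : ℕ → Bool) : List ℕ → ℕ → ℕ → Bool
  | _, 0, acc => P acc
  | [], _ + 1, _ => true
  | x :: xs, r + 1, acc =>
    withNat (Nat.add acc (Nat.pow 2 x)) (fun a => !(ok a) || forallSup ok P xs r a) &&
      forallSup ok P xs (r + 1) acc

theorem forallSup_spec (ok P : ℕ → Bool) : ∀ (free : List ℕ) (r acc : ℕ), free.Nodup →
    forallSup ok P free r acc = true →
    ∀ T : Finset ℕ, T ⊆ free.toFinset → T.card = r →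
      (∀ T' : Finset ℕ, T' ⊆ T → ok (acc + maskN T') = true) → P (acc + maskN T) = true := by
  intro free
  induction free with
  | nil =>
    intro r acc _ h T hT hcard _
    have hT0 : T = ∅ := by
      rw [List.toFinset_nil, Finset.subset_empty] at hT
      exact hT
    subst hT0
    rw [Finset.card_empty] at hcard
    subst hcard
    rw [maskN_empty, add_zero]
    simpa [forallSup] using h
  | cons x xs ih =>
    intro r acc hnd h T hT hcard hok
    rw [List.nodup_cons] at hnd
    cases r with
    | zero =>
      have hT0 : T = ∅ := Finset.card_eq_zero.mp hcard
      subst hT0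
      rw [maskN_empty, add_zero]
      simpa [forallSup] using h
    | succ r =>
      have h' : (!(ok (acc + 2 ^ x)) || forallSup ok P xs r (acc + 2 ^ x)) = true ∧
          forallSup ok P xs (r + 1) acc = true := by
        have h0 : (withNat (Nat.add acc (Nat.pow 2 x))
            (fun a => !(ok a) || forallSup ok P xs r a) && forallSup ok P xs (r + 1) acc) = true := h
        rw [Bool.and_eq_true, withNat_eq] at h0
        exact h0
      by_cases hx : x ∈ T
      · have hT' : T.erase x ⊆ xs.toFinset := by
          intro y hy
          rw [Finset.mem_erase] at hy
          have := hT hy.2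
          rw [List.toFinset_cons, Finset.mem_insert] at this
          rcases this with rfl | h1
          · exact absurd rfl hy.1
          · exact h1
        have hc' : (T.erase x).card = r := by
          rw [Finset.card_erase_of_mem hx, hcard]
          rfl
        have hokx : ok (acc + 2 ^ x) = true := by
          have := hok {x} (Finset.singleton_subset_iff.mpr hx)
          rwa [maskN, Finset.sum_singleton] at this
        have h1 : forallSup ok P xs r (acc + 2 ^ x) = true := by
          have := h'.1
          rw [hokx, Bool.not_true, Bool.false_or] at this
          exact this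
        have hok' : ∀ T' : Finset ℕ, T' ⊆ T.erase x → ok (acc + 2 ^ x + maskN T') = true := by
          intro T' hT'sub
          have hxT' : x ∉ T' := fun hx' => Finset.notMem_erase x T (hT'sub hx')
          have := hok (insert x T') (by
            intro y hy
            rw [Finset.mem_insert] at hy
            rcases hy with rfl | hy
            · exact hx
            · exact Finset.mem_of_mem_erase (hT'sub hy))
          rw [maskN_insert _ _ hxT', ← add_assoc] at this
          exact this
        have := ih r (acc + 2 ^ x) hnd.2 h1 (T.erase x) hT' hc' hok'
        have hm : maskN T = 2 ^ x + maskN (T.erase x) := by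
          conv_lhs => rw [← Finset.insert_erase hx]
          exact maskN_insert _ _ (Finset.notMem_erase x T)
        rw [hm, ← add_assoc]
        exact this
      · have hT' : T ⊆ xs.toFinset := by
          intro y hy
          have := hT hy
          rw [List.toFinset_cons, Finset.mem_insert] at this
          rcases this with rfl | h1
          · exact absurd hy hx
          · exact h1
        exact ih (r + 1) acc hnd.2 h'.2 T hT' hcard hok

/-- the candidate block `b` meets every block of `K` in fewer than `t` points -/
def compat (t : ℕ) (b : ℕ) : List ℕ → Bool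
  | [] => true
  | c :: K => Nat.blt (pc24 (Nat.land b c)) t && compat t b K

theorem compat_eq_true (t b : ℕ) (K : List ℕ) :
    compat t b K = true ↔ ∀ c ∈ K, pc24 (b &&& c) < t := by
  induction K with
  | nil => simp [compat]
  | cons c K ih =>
    rw [compat, Bool.and_eq_true, ih, List.forall_mem_cons]
    have : Nat.blt (pc24 (Nat.land b c)) t = true ↔ pc24 (b &&& c) < t := by
      show Nat.ble (pc24 (Nat.land b c)).succ t = true ↔ _
      rw [Nat.ble_eq]
      rfl
    rw [this]

/-- the set `s` lies in some block of `K` -/
def covered (s : ℕ) : List ℕ → Bool
  | [] => false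
  | c :: K => Nat.beq (Nat.land c s) s || covered s K

theorem covered_eq_true (s : ℕ) (K : List ℕ) :
    covered s K = true ↔ ∃ c ∈ K, c &&& s = s := by
  induction K with
  | nil => simp [covered]
  | cons c K ih =>
    rw [covered, Bool.or_eq_true, ih, List.exists_mem_cons_iff]
    have : Nat.beq (Nat.land c s) s = true ↔ c &&& s = s := by
      rw [Nat.beq_eq]
      rfl
    rw [this]

/-- the indices below `N` of the bits not in `s` -/
def freeIdx (N s : ℕ) : List ℕ := (List.range N).filter (fun i => !s.testBit i)

/-- the list `K` is, as a set, one of the lists `finals` -/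
def finalOK (finals : List (List ℕ)) (K : List ℕ) : Bool :=
  finals.any (fun F => K.length == F.length && K.all (fun b => F.contains b))

/-- exhaustive search: following the script of `t`-sets, every way of choosing blocks through the
uncovered ones ends in one of the final systems -/
def solve (t k N : ℕ) (finals : List (List ℕ)) : List ℕ → List ℕ → Bool
  | [], K => finalOK finals K
  | s :: rest, K =>
    if covered s K then solve t k N finals rest K
    else forallSup (fun a => compat t a K) (fun b => !(compat t b K) ||
      solve t k N finals rest (b :: K)) (freeIdx N s) (k - t) s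

theorem freeIdx_nodup (N s : ℕ) : (freeIdx N s).Nodup :=
  List.Nodup.filter _ List.nodup_range

theorem solve_sound {t k N : ℕ} (hN : N ≤ 24) (finals : List (List ℕ))
    (S : Set (Finset (Fin N))) (hS : IsSteinerSystem t k S) :
    ∀ (script K : List ℕ), (∀ s ∈ script, s < 2 ^ N ∧ pc24 s = t) → K.Nodup →
      (∀ c ∈ K, ∃ b ∈ S, maskF b = c) → solve t k N finals script K = true →
      ∃ F ∈ finals, ∃ K' : List ℕ, K'.Nodup ∧ K'.length = F.length ∧ (∀ c ∈ K', c ∈ F) ∧
        ∀ c ∈ K', ∃ b ∈ S, maskF b = c := by
  intro script
  induction script with
  | nil =>
    intro K _ hnd hK h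
    have h1 : finalOK finals K = true := by simpa [solve] using h
    unfold finalOK at h1
    rw [List.any_eq_true] at h1
    obtain ⟨F, hF, h2⟩ := h1
    rw [Bool.and_eq_true, beq_iff_eq, List.all_eq_true] at h2
    refine ⟨F, hF, K, hnd, h2.1, ?_, hK⟩
    intro c hc
    have := h2.2 c hc
    simpa using this
  | cons s rest ih =>
    intro K hscript hnd hK h
    have hrest : ∀ s' ∈ rest, s' < 2 ^ N ∧ pc24 s' = t := fun s' hs' =>
      hscript s' (List.mem_cons_of_mem _ hs')
    by_cases hcov : covered s K = true
    · have h1 : solve t k N finals rest K = true := by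
        rw [solve, if_pos hcov] at h
        exact h
      exact ih K hrest hnd hK h1
    · rw [solve, if_neg hcov] at h
      obtain ⟨hs1, hs2⟩ := hscript s (List.mem_cons_self)
      -- the set with mask `s`
      set u : Finset (Fin N) := ofMask N s with hu
      have hmu : maskF u = s := maskF_ofMask s hs1
      have hucard : u.card = t := by rw [card_eq_pc24 hN, hmu, hs2]
      obtain ⟨b, ⟨hb, hub⟩, -⟩ := hS.2 u hucard
      -- the mask of `b`
      set T : Finset ℕ := (b \ u).map Fin.valEmbedding with hT
      have hTfree : T ⊆ (freeIdx N s).toFinset := by
        intro j hj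
        rw [hT, Finset.mem_map] at hj
        obtain ⟨x, hx, rfl⟩ := hj
        rw [Finset.mem_sdiff] at hx
        rw [List.mem_toFinset, freeIdx, List.mem_filter, List.mem_range]
        refine ⟨x.2, ?_⟩
        rw [Bool.not_eq_true', Bool.eq_false_iff]
        intro h1
        apply hx.2
        rw [← testBit_maskF, hmu]
        exact h1
      have hTcard : T.card = k - t := by
        rw [hT, Finset.card_map, Finset.card_sdiff_of_subset hub, hS.1 b hb, hucard]
      have hmask : maskF b = s + maskN T := by
        rw [← hmu, maskF_eq_maskN, maskF_eq_maskN, hT]
        unfold maskN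
        rw [← Finset.sum_union]
        · congr 1
          rw [← Finset.map_union, Finset.union_sdiff_of_subset hub]
        · rw [Finset.disjoint_map]
          exact Finset.disjoint_sdiff
      -- `b` is not among the blocks of `K`
      have hbK : ∀ c ∈ K, ∀ b' ∈ S, maskF b' = c → b' ≠ b := by
        intro c hc b' _ hb'c hbb
        apply hcov
        rw [covered_eq_true]
        refine ⟨c, hc, ?_⟩
        rw [← hb'c, ← hmu, ← subset_iff_land, hbb]
        exact hub
      have hcompatW : ∀ W : Finset (Fin N), W ⊆ b → compat t (maskF W) K = true := by
        intro W hW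
        rw [compat_eq_true]
        intro c hc
        obtain ⟨b', hb', hb'c⟩ := hK c hc
        have hne := hbK c hc b' hb' hb'c
        rw [← hb'c, ← maskF_inter, ← card_eq_pc24 hN]
        by_contra hlt
        push Not at hlt
        have hle : (W ∩ b').card ≤ (b ∩ b').card :=
          Finset.card_le_card (Finset.inter_subset_inter_right hW)
        exact hne (steiner_eq_of_le_inter hS hb hb' (le_trans hlt hle))
      have hcompat : compat t (maskF b) K = true := hcompatW b (Finset.Subset.refl b)
      have hok : ∀ T' : Finset ℕ, T' ⊆ T → compat t (s + maskN T') K = true := by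
        intro T' hT'
        set W : Finset (Fin N) := u ∪ (b \ u).filter (fun i => (i : ℕ) ∈ T') with hW
        have hWb : W ⊆ b := by
          intro i hi
          rw [hW, Finset.mem_union, Finset.mem_filter, Finset.mem_sdiff] at hi
          rcases hi with hi | hi
          · exact hub hi
          · exact hi.1.1
        have hWmask : maskF W = s + maskN T' := by
          have hmapW : W.map Fin.valEmbedding = u.map Fin.valEmbedding ∪ T' := by
            ext j
            simp only [hW, Finset.mem_map, Finset.mem_union, Finset.mem_filter, Finset.mem_sdiff,
              Fin.valEmbedding_apply]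
            constructor
            · rintro ⟨i, hi | hi, rfl⟩
              · exact Or.inl ⟨i, hi, rfl⟩
              · exact Or.inr hi.2
            · rintro (⟨i, hi, rfl⟩ | hj)
              · exact ⟨i, Or.inl hi, rfl⟩
              · have hjT := hT' hj
                rw [hT, Finset.mem_map] at hjT
                obtain ⟨i, hi, rfl⟩ := hjT
                rw [Finset.mem_sdiff] at hi
                exact ⟨i, Or.inr ⟨hi, hj⟩, rfl⟩
          have hdisj : Disjoint (u.map Fin.valEmbedding) T' := by
            rw [Finset.disjoint_left]
            intro j hj hj'
            have hjT := hT' hj'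
            rw [hT, Finset.mem_map] at hjT
            obtain ⟨i, hi, rfl⟩ := hjT
            rw [Finset.mem_map] at hj
            obtain ⟨i', hi', hii⟩ := hj
            have : i' = i := Fin.ext hii
            subst this
            rw [Finset.mem_sdiff] at hi
            exact hi.2 hi'
          rw [maskF_eq_maskN, hmapW, ← hmu, maskF_eq_maskN]
          unfold maskN
          exact Finset.sum_union hdisj
        rw [← hWmask]
        exact hcompatW W hWb
      have hP := forallSup_spec _ _ (freeIdx N s) (k - t) s (freeIdx_nodup N s) h T hTfree hTcard hok
      rw [← hmask] at hP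
      rw [hcompat, Bool.not_true, Bool.false_or] at hP
      have hnd' : (maskF b :: K).Nodup := by
        rw [List.nodup_cons]
        refine ⟨?_, hnd⟩
        intro hmem
        obtain ⟨b', hb', hb'c⟩ := hK _ hmem
        exact hbK _ hmem b' hb' hb'c (maskF_injective hb'c)
      have hK' : ∀ c ∈ maskF b :: K, ∃ b' ∈ S, maskF b' = c := by
        intro c hc
        rw [List.mem_cons] at hc
        rcases hc with rfl | hc
        · exact ⟨b, hb, rfl⟩
        · exact hK c hc
      exact ih (maskF b :: K) hrest hnd' hK' hP

/-- the conclusion of the search in terms of the system -/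
theorem solve_final {t k N total : ℕ} (hN : N ≤ 24) (finals : List (List ℕ))
    (S : Set (Finset (Fin N))) (hS : IsSteinerSystem t k S)
    (htotal : total * Nat.choose k t = Nat.choose N t) (hpos : 0 < Nat.choose k t)
    (hfin : ∀ F ∈ finals, F.Nodup ∧ F.length = total)
    (script K : List ℕ) (hscript : ∀ s ∈ script, s < 2 ^ N ∧ pc24 s = t) (hnd : K.Nodup)
    (hK : ∀ c ∈ K, ∃ b ∈ S, maskF b = c) (h : solve t k N finals script K = true) :
    ∃ F ∈ finals, ∀ b : Finset (Fin N), b ∈ S ↔ maskF b ∈ F := by
  obtain ⟨F, hF, K', hnd', hlen, hsub, hK'⟩ := solve_sound hN finals S hS script K hscript hnd hK h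
  refine ⟨F, hF, ?_⟩
  obtain ⟨hFnd, hFlen⟩ := hfin F hF
  have hcount : S.ncard = total := by
    have h1 := steiner_block_count hS
    rw [Fintype.card_fin, ← htotal] at h1
    exact Nat.eq_of_mul_eq_mul_right hpos h1
  -- `K'` and `F` have the same elements
  have h1 : K'.toFinset = F.toFinset := by
    apply Finset.eq_of_subset_of_card_le
    · intro c hc
      rw [List.mem_toFinset] at hc ⊢
      exact hsub c hc
    · rw [List.toFinset_card_of_nodup hnd', List.toFinset_card_of_nodup hFnd, hlen]
  -- `K'` is the set of masks of the blocks
  have h2 : K'.toFinset = (blocks S).image maskF := by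
    apply Finset.eq_of_subset_of_card_le
    · intro c hc
      rw [List.mem_toFinset] at hc
      obtain ⟨b, hb, rfl⟩ := hK' c hc
      rw [Finset.mem_image]
      exact ⟨b, mem_blocks.mpr hb, rfl⟩
    · rw [Finset.card_image_of_injective _ maskF_injective, ← ncard_eq_card_blocks, hcount,
        List.toFinset_card_of_nodup hnd', hlen, hFlen]
  intro b
  constructor
  · intro hb
    have : maskF b ∈ (blocks S).image maskF := Finset.mem_image.mpr ⟨b, mem_blocks.mpr hb, rfl⟩
    rw [← h2, h1, List.mem_toFinset] at this
    exact this
  · intro hb
    have : maskF b ∈ F.toFinset := List.mem_toFinset.mpr hb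
    rw [← h1, h2, Finset.mem_image] at this
    obtain ⟨b', hb', hbb⟩ := this
    rw [← maskF_injective hbb]
    exact mem_blocks.mp hb'

end Cfsg.Agent.Lib.helper3
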