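import Mathlib
import Cfsg.Agent.Lib.helper3.StSolve
import Cfsg.Agent.S0351

set_option autoImplicit false

namespace Cfsg.Agent.Lib.helper3

open Cfsg

universe u v

/-! ### Standard forms of Steiner systems and the extension step -/

/-- `e` carries the system `B` onto the system whose blocks have the masks in `F` -/
def IsStdVia {α : Type u} {N : ℕ} (F : List ℕ) (B : Set (Finset α)) (e : α ≃ Fin N) : Prop :=
  ∀ d : Finset (Fin N), d ∈ (fun b => b.image e) '' B ↔ maskF d ∈ F

theorem iso_of_isStdVia {α : Type u} {β : Type v} [DecidableEq α] [DecidableEq β] {N : ℕ}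
    {F : List ℕ} {B : Set (Finset α)} {B' : Set (Finset β)} {e : α ≃ Fin N} {e' : β ≃ Fin N}
    (h : IsStdVia F B e) (h' : IsStdVia F B' e') : SetSystemIso B B' := by
  have heq : (fun b => b.image e) '' B = (fun b => b.image e') '' B' := by
    ext d
    rw [h d, h' d]
  have h1 : SetSystemIso B ((fun b => b.image e) '' B) := ⟨e, rfl⟩
  have h2 : SetSystemIso B' ((fun b => b.image e') '' B') := ⟨e', rfl⟩
  rw [heq] at h1
  exact setSystemIso_trans h1 (setSystemIso_symm h2)

/-- a Steiner system all of whose blocks have masks in a list of the right length is given by that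
list -/
theorem isStd_of_forall_mem {t k N total : ℕ} (S : Set (Finset (Fin N)))
    (hS : IsSteinerSystem t k S) (htotal : total * Nat.choose k t = Nat.choose N t)
    (hpos : 0 < Nat.choose k t) (F : List ℕ) (hF : F.Nodup ∧ F.length = total)
    (h : ∀ d ∈ S, maskF d ∈ F) : ∀ d : Finset (Fin N), d ∈ S ↔ maskF d ∈ F := by
  have hcount : S.ncard = total := by
    have h1 := steiner_block_count hS
    rw [Fintype.card_fin, ← htotal] at h1
    exact Nat.eq_of_mul_eq_mul_right hpos h1
  have h2 : (blocks S).image maskF = F.toFinset := by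
    apply Finset.eq_of_subset_of_card_le
    · intro c hc
      rw [Finset.mem_image] at hc
      obtain ⟨b, hb, rfl⟩ := hc
      rw [List.mem_toFinset]
      exact h b (mem_blocks.mp hb)
    · rw [Finset.card_image_of_injective _ maskF_injective, ← ncard_eq_card_blocks, hcount,
        List.toFinset_card_of_nodup hF.1, hF.2]
  intro d
  constructor
  · exact h d
  · intro hd
    have : maskF d ∈ F.toFinset := List.mem_toFinset.mpr hd
    rw [← h2, Finset.mem_image] at this
    obtain ⟨b', hb', hbb⟩ := this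
    rw [← maskF_injective hbb]
    exact mem_blocks.mp hb'

/-- moving a standard form by a permutation of the points -/
theorem isStdVia_trans {α : Type u} [DecidableEq α] {t k N total : ℕ} {F F' : List ℕ}
    {B : Set (Finset α)} (hB : IsSteinerSystem t k B) {e : α ≃ Fin N} (h : IsStdVia F B e)
    (htotal : total * Nat.choose k t = Nat.choose N t) (hpos : 0 < Nat.choose k t)
    (hF' : F'.Nodup ∧ F'.length = total) (g : Equiv.Perm (Fin N))
    (hg : ∀ c ∈ F, maskF ((ofMask N c).image g) ∈ F') : IsStdVia F' B (e.trans g) := by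
  have hS : IsSteinerSystem t k ((fun b => b.image (e.trans g)) '' B) :=
    isSteinerSystem_image hB (e.trans g)
  apply isStd_of_forall_mem _ hS htotal hpos F' hF'
  rintro d ⟨b, hb, rfl⟩
  dsimp only
  have h1 : maskF (b.image e) ∈ F := (h (b.image e)).mp ⟨b, hb, rfl⟩
  have h2 := hg _ h1
  rw [ofMask_maskF, Finset.image_image] at h2
  exact h2

theorem maskF_insert_last {N : ℕ} (s : Finset (Fin N)) :
    maskF (insert (Fin.last N) (s.map Fin.castSuccEmb)) = maskF s + 2 ^ N := by
  have hnot : Fin.last N ∉ s.map Fin.castSuccEmb := by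
    intro h
    rw [Finset.mem_map] at h
    obtain ⟨i, -, hi⟩ := h
    have := congrArg Fin.val hi
    simp at this
    omega
  unfold maskF
  rw [Finset.sum_insert hnot, Finset.sum_map, add_comm]
  rfl

/-- a bijection from a set with one more point, built from a bijection of the other points -/
noncomputable def extendEquiv {α : Type u} [DecidableEq α] {N : ℕ} (x : α)
    (e0 : {a : α // a ≠ x} ≃ Fin N) : α ≃ Fin (N + 1) :=
  (Equiv.optionSubtypeNe x).symm.trans ((Equiv.optionCongr e0).trans finSuccEquivLast.symm)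

theorem extendEquiv_self {α : Type u} [DecidableEq α] {N : ℕ} (x : α)
    (e0 : {a : α // a ≠ x} ≃ Fin N) : extendEquiv x e0 x = Fin.last N := by
  simp [extendEquiv]

theorem extendEquiv_of_ne {α : Type u} [DecidableEq α] {N : ℕ} (x : α)
    (e0 : {a : α // a ≠ x} ≃ Fin N) (a : α) (ha : a ≠ x) :
    extendEquiv x e0 a = (e0 ⟨a, ha⟩).castSucc := by
  simp [extendEquiv, Equiv.optionSubtypeNe_symm_of_ne ha]

theorem image_extendEquiv {α : Type u} [DecidableEq α] {N : ℕ} (x : α)
    (e0 : {a : α // a ≠ x} ≃ Fin N) (b : Finset α) (hx : x ∈ b) :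
    b.image (extendEquiv x e0) =
      insert (Fin.last N) (((Finset.subtype (fun a => a ≠ x) b).image e0).map Fin.castSuccEmb) := by
  ext j
  simp only [Finset.mem_image, Finset.mem_insert, Finset.mem_map, Finset.mem_subtype,
    Fin.coe_castSuccEmb]
  constructor
  · rintro ⟨a, ha, rfl⟩
    by_cases hax : a = x
    · subst hax
      exact Or.inl (extendEquiv_self _ e0)
    · right
      refine ⟨e0 ⟨a, hax⟩, ⟨⟨a, hax⟩, ha, rfl⟩, ?_⟩
      rw [extendEquiv_of_ne x e0 a hax]
  · rintro (rfl | ⟨i, ⟨a, ha, rfl⟩, rfl⟩)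
    · exact ⟨x, hx, extendEquiv_self x e0⟩
    · exact ⟨a.1, ha, extendEquiv_of_ne x e0 a.1 a.2⟩

/-- the extension step: if the systems with parameters `(t, k, N)` have the standard form `F0`,
and the search shows that every system with parameters `(t + 1, k + 1, N + 1)` whose blocks through
the last point are those of `F0` is one of `finals`, each of which is carried to `Fstd` by a
permutation, then the systems with parameters `(t + 1, k + 1, N + 1)` have the standard form
`Fstd` -/
theorem ext_step {t k N total : ℕ} (hN : N + 1 ≤ 24) (F0 : List ℕ) (finals : List (List ℕ))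
    (script : List ℕ) (Fstd : List ℕ)
    (hprev : ∀ {γ : Type u} [Fintype γ] [DecidableEq γ], Fintype.card γ = N →
      ∀ D : Set (Finset γ), IsSteinerSystem t k D → ∃ e : γ ≃ Fin N, IsStdVia F0 D e)
    (hF0lt : ∀ c ∈ F0, c < 2 ^ N)
    (hsolve : solve (t + 1) (k + 1) (N + 1) finals script (F0.map (fun c => c + 2 ^ N)) = true)
    (hscript : ∀ s ∈ script, s < 2 ^ (N + 1) ∧ pc24 s = t + 1)
    (hK0 : (F0.map (fun c => c + 2 ^ N)).Nodup)
    (htotal : total * Nat.choose (k + 1) (t + 1) = Nat.choose (N + 1) (t + 1))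
    (hpos : 0 < Nat.choose (k + 1) (t + 1))
    (hfin : ∀ F ∈ finals, F.Nodup ∧ F.length = total)
    (hFstd : Fstd.Nodup ∧ Fstd.length = total)
    (hperm : ∀ F ∈ finals, ∃ g : Equiv.Perm (Fin (N + 1)),
      ∀ c ∈ F, maskF ((ofMask (N + 1) c).image g) ∈ Fstd)
    {α : Type u} [Fintype α] [DecidableEq α] (hα : Fintype.card α = N + 1)
    (B : Set (Finset α)) (hB : IsSteinerSystem (t + 1) (k + 1) B) :
    ∃ e : α ≃ Fin (N + 1), IsStdVia Fstd B e := by
  have hne : Nonempty α := by
    rw [← Fintype.card_pos_iff, hα]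
    omega
  obtain ⟨x⟩ := hne
  have hcard : Fintype.card {a : α // a ≠ x} = N := by
    have := Fintype.card_congr (Equiv.optionSubtypeNe x)
    rw [Fintype.card_option, hα] at this
    omega
  obtain ⟨e0, he0⟩ := hprev hcard _ (Cfsg.Agent.S0351.result hB x)
  set e := extendEquiv x e0 with he
  set S : Set (Finset (Fin (N + 1))) := (fun b => b.image e) '' B with hSdef
  have hS : IsSteinerSystem (t + 1) (k + 1) S := isSteinerSystem_image hB e
  have hK : ∀ c ∈ F0.map (fun c => c + 2 ^ N), ∃ b ∈ S, maskF b = c := by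
    intro c hc
    rw [List.mem_map] at hc
    obtain ⟨c0, hc0, rfl⟩ := hc
    have hc0lt := hF0lt c0 hc0
    have hmem := (he0 (ofMask N c0)).mpr (by rw [maskF_ofMask c0 hc0lt]; exact hc0)
    obtain ⟨b', ⟨b, hb, hxb, rfl⟩, hd⟩ := hmem
    dsimp only at hd
    refine ⟨b.image e, ⟨b, hb, rfl⟩, ?_⟩
    rw [he, image_extendEquiv x e0 b hxb, maskF_insert_last, hd, maskF_ofMask c0 hc0lt]
  obtain ⟨F, hF, hstd⟩ := solve_final hN finals S hS htotal hpos hfin script _ hscript hK0 hK hsolve
  obtain ⟨g, hg⟩ := hperm F hF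
  have h1 : IsStdVia F B e := by
    intro d
    exact hstd d
  exact ⟨e.trans g, isStdVia_trans hB h1 htotal hpos hFstd g hg⟩

end Cfsg.Agent.Lib.helper3
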