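import Mathlib
import Cfsg.Agent.Lib.helper3.StExt

set_option autoImplicit false

namespace Cfsg.Agent.Lib.helper3

open Cfsg

/-! ### Permutations given by tables, acting on masks -/

/-- the mask of the image of the set with mask `c` under the map given by the table -/
def tblMask (tbl : List ℕ) (c : ℕ) : ℕ → ℕ
  | 0 => 0
  | n + 1 => (if c.testBit n then 2 ^ tbl.getD n 0 else 0) + tblMask tbl c n

theorem tblMask_eq (tbl : List ℕ) (c n : ℕ) :
    tblMask tbl c n = ∑ i ∈ Finset.range n, if c.testBit i then 2 ^ tbl.getD i 0 else 0 := by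
  induction n with
  | zero => rfl
  | succ n ih => rw [tblMask, Finset.sum_range_succ, ih, add_comm]

theorem maskF_image_perm {N : ℕ} (g : Equiv.Perm (Fin N)) (tbl : List ℕ)
    (hg : ∀ i : Fin N, (g i : ℕ) = tbl.getD i 0) (c : ℕ) :
    maskF ((ofMask N c).image g) = tblMask tbl c N := by
  rw [tblMask_eq]
  unfold maskF ofMask
  rw [Finset.sum_image (fun a _ b _ h => g.injective h), Finset.sum_filter,
    ← Fin.sum_univ_eq_sum_range (fun i => if c.testBit i then 2 ^ tbl.getD i 0 else 0)]
  apply Finset.sum_congr rfl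
  intro i _
  rw [hg]

/-- the table is a permutation of `0, …, N - 1` -/
def tblOK (N : ℕ) (tbl : List ℕ) : Bool :=
  decide (tbl.length = N) && tbl.all (fun x => decide (x < N)) && decide tbl.Nodup

theorem exists_perm_of_tblOK {N : ℕ} {tbl : List ℕ} (h : tblOK N tbl = true) :
    ∃ g : Equiv.Perm (Fin N), ∀ i : Fin N, (g i : ℕ) = tbl.getD i 0 := by
  simp only [tblOK, Bool.and_eq_true, decide_eq_true_eq, List.all_eq_true] at h
  obtain ⟨⟨hlen, hlt⟩, hnd⟩ := h
  have hi : ∀ i : Fin N, (i : ℕ) < tbl.length := fun i => by rw [hlen]; exact i.2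
  have hget : ∀ i : Fin N, tbl.getD i 0 = tbl[(i : ℕ)]'(hi i) := by
    intro i
    rw [List.getD_eq_getElem?_getD, List.getElem?_eq_getElem (hi i)]
    rfl
  let f : Fin N → Fin N := fun i => ⟨tbl[(i : ℕ)]'(hi i), hlt _ (List.getElem_mem _)⟩
  have hinj : Function.Injective f := by
    intro i j hij
    have h1 := congrArg Fin.val hij
    simp only [f] at h1
    exact Fin.ext ((List.Nodup.getElem_inj_iff hnd).mp h1)
  refine ⟨Equiv.ofBijective f (Finite.injective_iff_bijective.mp hinj), fun i => ?_⟩
  rw [hget]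
  rfl

/-- each final is carried into `Fstd` by the corresponding table -/
def permsOK (N : ℕ) (Fstd : List ℕ) : List (List ℕ) → List (List ℕ) → Bool
  | [], [] => true
  | F :: fs, tbl :: ts =>
    tblOK N tbl && F.all (fun c => Fstd.contains (tblMask tbl c N)) && permsOK N Fstd fs ts
  | _, _ => false

theorem permsOK_spec {N : ℕ} (Fstd : List ℕ) : ∀ (finals tbls : List (List ℕ)),
    permsOK N Fstd finals tbls = true → ∀ F ∈ finals, ∃ g : Equiv.Perm (Fin N),
      ∀ c ∈ F, maskF ((ofMask N c).image g) ∈ Fstd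
  | [], _, _ => by
    intro F hF
    exact absurd hF List.not_mem_nil
  | F :: fs, [], h => by
    simp [permsOK] at h
  | F :: fs, tbl :: ts, h => by
    simp only [permsOK, Bool.and_eq_true, List.all_eq_true] at h
    obtain ⟨⟨h1, h2⟩, h3⟩ := h
    intro F' hF'
    rcases List.mem_cons.mp hF' with rfl | hF'
    · obtain ⟨g, hg⟩ := exists_perm_of_tblOK h1
      refine ⟨g, fun c hc => ?_⟩
      rw [maskF_image_perm g tbl hg]
      have := h2 c hc
      rwa [List.contains_iff_mem] at this
    · exact permsOK_spec Fstd fs ts h3 F' hF'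

end Cfsg.Agent.Lib.helper3
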