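import Mathlib
import Cfsg.Agent.Lib.helper3.StSolve
set_option autoImplicit false
namespace Cfsg.Agent.Lib.helper3

def planeK9 : List ℕ := [31, 481, 7681, 122881, 1966081, 139810, 279618, 559234, 1118466]
def planeScript : List ℕ := [36, 68, 132, 260, 40, 72, 136, 264, 48, 80, 144, 272]
def planeFinals : List (List ℕ) := [
  [272656, 151696, 1081936, 590896, 165128, 328328, 536648, 1067048, 541444, 1057924, 198724, 299044, 31, 481, 7681, 122881, 1966081, 139810, 279618, 559234, 1118466],
  [165136, 328336, 536656, 1067056, 272648, 151688, 1081928, 590888, 541444, 1057924, 198724, 299044, 31, 481, 7681, 122881, 1966081, 139810, 279618, 559234, 1118466],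
  [149776, 274576, 590416, 1082416, 533768, 1065608, 168008, 329768, 295684, 197764, 1058884, 544804, 31, 481, 7681, 122881, 1966081, 139810, 279618, 559234, 1118466],
  [533776, 1065616, 168016, 329776, 149768, 274568, 590408, 1082408, 295684, 197764, 1058884, 544804, 31, 481, 7681, 122881, 1966081, 139810, 279618, 559234, 1118466],
  [149776, 274576, 590416, 1082416, 295688, 197768, 1058888, 544808, 533764, 1065604, 168004, 329764, 31, 481, 7681, 122881, 1966081, 139810, 279618, 559234, 1118466],
  [295696, 197776, 1058896, 544816, 149768, 274568, 590408, 1082408, 533764, 1065604, 168004, 329764, 31, 481, 7681, 122881, 1966081, 139810, 279618, 559234, 1118466],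
  [272656, 151696, 1081936, 590896, 541448, 1057928, 198728, 299048, 165124, 328324, 536644, 1067044, 31, 481, 7681, 122881, 1966081, 139810, 279618, 559234, 1118466],
  [541456, 1057936, 198736, 299056, 272648, 151688, 1081928, 590888, 165124, 328324, 536644, 1067044, 31, 481, 7681, 122881, 1966081, 139810, 279618, 559234, 1118466],
  [165136, 328336, 536656, 1067056, 541448, 1057928, 198728, 299048, 272644, 151684, 1081924, 590884, 31, 481, 7681, 122881, 1966081, 139810, 279618, 559234, 1118466],
  [541456, 1057936, 198736, 299056, 165128, 328328, 536648, 1067048, 272644, 151684, 1081924, 590884, 31, 481, 7681, 122881, 1966081, 139810, 279618, 559234, 1118466],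
  [533776, 1065616, 168016, 329776, 295688, 197768, 1058888, 544808, 149764, 274564, 590404, 1082404, 31, 481, 7681, 122881, 1966081, 139810, 279618, 559234, 1118466],
  [295696, 197776, 1058896, 544816, 533768, 1065608, 168008, 329768, 149764, 274564, 590404, 1082404, 31, 481, 7681, 122881, 1966081, 139810, 279618, 559234, 1118466]]

theorem plane_solve : solve 2 5 21 planeFinals planeScript planeK9 = true := by decide +kernel

end Cfsg.Agent.Lib.helper3
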