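import Mathlib
import Cfsg.Agent.Lib.helper3.StPerm
import Cfsg.Agent.Lib.helper3.StPlaneData

set_option autoImplicit false

namespace Cfsg.Agent.Lib.helper3

open Cfsg

universe u

/-! ### Planes of order four: two pencils of lines form a grid -/

section Plane

variable {α : Type u} [Fintype α] [DecidableEq α] {L : Set (Finset α)}

theorem plane_exists_line (hL : IsSteinerSystem 2 5 L) {x y : α} (hxy : x ≠ y) :
    ∃ l ∈ L, x ∈ l ∧ y ∈ l := by
  obtain ⟨l, ⟨hl, hsub⟩, -⟩ := hL.2 {x, y} (Finset.card_pair hxy)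
  exact ⟨l, hl, hsub (by simp), hsub (by simp)⟩

theorem plane_line_unique (hL : IsSteinerSystem 2 5 L) {x y : α} (hxy : x ≠ y) {l m : Finset α}
    (hl : l ∈ L) (hm : m ∈ L) (hxl : x ∈ l) (hyl : y ∈ l) (hxm : x ∈ m) (hym : y ∈ m) : l = m := by
  apply steiner_unique hL hl hm (Finset.card_pair hxy)
  · intro z hz
    rw [Finset.mem_insert, Finset.mem_singleton] at hz
    rcases hz with rfl | rfl <;> assumption
  · intro z hz
    rw [Finset.mem_insert, Finset.mem_singleton] at hz
    rcases hz with rfl | rfl <;> assumption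

theorem plane_inter_le (hL : IsSteinerSystem 2 5 L) {l m : Finset α} (hl : l ∈ L) (hm : m ∈ L)
    (hne : l ≠ m) : (l ∩ m).card ≤ 1 := by
  by_contra h
  push Not at h
  exact hne (steiner_eq_of_le_inter hL hm hl (by rw [Finset.inter_comm]; omega))

/-- the lines through a point -/
noncomputable def thru (L : Set (Finset α)) (x : α) : Finset (Finset α) :=
  (blocks L).filter (fun l => x ∈ l)

theorem mem_thru {x : α} {l : Finset α} : l ∈ thru L x ↔ l ∈ L ∧ x ∈ l := by
  rw [thru, Finset.mem_filter, mem_blocks]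

theorem card_thru (hL : IsSteinerSystem 2 5 L) (hα : Fintype.card α = 21) (x : α) :
    (thru L x).card = 5 := by
  have h := steiner_count_through hL {x} (by simp)
  rw [Finset.card_singleton, hα] at h
  have h2 : (blocks L).filter (fun b => {x} ⊆ b) = thru L x := by
    unfold thru
    congr 1
    funext b
    rw [Finset.singleton_subset_iff]
  rw [h2] at h
  norm_num at h
  omega

theorem plane_lines_meet (hL : IsSteinerSystem 2 5 L) (hα : Fintype.card α = 21) {l m : Finset α}
    (hl : l ∈ L) (hm : m ∈ L) (hne : l ≠ m) : (l ∩ m).Nonempty := by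
  by_contra hempty
  rw [Finset.not_nonempty_iff_eq_empty] at hempty
  have hmcard : m.card = 5 := hL.1 m hm
  have hlcard : l.card = 5 := hL.1 l hl
  obtain ⟨x, hx⟩ : m.Nonempty := by
    rw [← Finset.card_pos, hmcard]
    norm_num
  have hxl : x ∉ l := by
    intro h
    have : x ∈ l ∩ m := Finset.mem_inter.mpr ⟨h, hx⟩
    rw [hempty] at this
    exact absurd this (Finset.notMem_empty x)
  -- the lines joining `x` to the points of `l`
  have hch : ∀ p : α, p ∈ l → ∃ n ∈ L, x ∈ n ∧ p ∈ n := by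
    intro p hp
    have hxp : x ≠ p := fun h => hxl (h ▸ hp)
    exact plane_exists_line hL hxp
  choose! f hf using hch
  have hinj : Set.InjOn f (l : Set α) := by
    intro p hp p' hp' hpp
    by_contra hne'
    have h1 := hf p hp
    have h2 := hf p' hp'
    rw [← hpp] at h2
    have : f p = l := plane_line_unique hL hne' h1.1 hl h1.2.2 h2.2.2 hp hp'
    exact hxl (this ▸ h1.2.1)
  have hsub : l.image f ⊆ (thru L x).erase m := by
    intro n hn
    rw [Finset.mem_image] at hn
    obtain ⟨p, hp, rfl⟩ := hn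
    rw [Finset.mem_erase, mem_thru]
    refine ⟨?_, (hf p hp).1, (hf p hp).2.1⟩
    intro heq
    have : p ∈ l ∩ m := Finset.mem_inter.mpr ⟨hp, heq ▸ (hf p hp).2.2⟩
    rw [hempty] at this
    exact absurd this (Finset.notMem_empty p)
  have h1 := Finset.card_le_card hsub
  rw [Finset.card_image_of_injOn hinj, hlcard,
    Finset.card_erase_of_mem (mem_thru.mpr ⟨hm, hx⟩), card_thru hL hα x] at h1
  omega

/-- two distinct lines meet in exactly one point -/
theorem plane_inter_eq_singleton (hL : IsSteinerSystem 2 5 L) (hα : Fintype.card α = 21)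
    {l m : Finset α} (hl : l ∈ L) (hm : m ∈ L) (hne : l ≠ m) : ∃ z, l ∩ m = {z} := by
  rw [← Finset.card_eq_one]
  have h1 := plane_inter_le hL hl hm hne
  have h2 := Finset.card_pos.mpr (plane_lines_meet hL hα hl hm hne)
  omega

/-- the grid: a line at infinity, four further lines through each of two of its points, and
their sixteen points of intersection -/
theorem plane_grid (hL : IsSteinerSystem 2 5 L) (hα : Fintype.card α = 21) :
    ∃ (ι : Fin 5 ⊕ (Fin 4 × Fin 4) → α) (linf : Finset α) (rows cols : Fin 4 → Finset α),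
      Function.Injective ι ∧ linf ∈ L ∧ (∀ a, rows a ∈ L) ∧ (∀ b, cols b ∈ L) ∧
      (∀ i, ι (Sum.inl i) ∈ linf) ∧ (∀ a, ι (Sum.inl 0) ∈ rows a) ∧
      (∀ b, ι (Sum.inl 1) ∈ cols b) ∧
      (∀ a b, ι (Sum.inr (a, b)) ∈ rows a) ∧ (∀ a b, ι (Sum.inr (a, b)) ∈ cols b) := by
  obtain ⟨x, y, hxy⟩ := Fintype.one_lt_card_iff.mp (by rw [hα]; norm_num : 1 < Fintype.card α)
  obtain ⟨linf, hlinf, -, -⟩ := plane_exists_line hL hxy
  have hcard : linf.card = 5 := hL.1 linf hlinf
  obtain ⟨E⟩ : Nonempty (Fin 5 ≃ linf) := ⟨(linf.equivFinOfCardEq hcard).symm⟩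
  have hp01 : (E 0 : α) ≠ (E 1 : α) := by
    intro h
    have := E.injective (Subtype.ext h)
    exact absurd this (by decide)
  have hEl : ∀ i, (E i : α) ∈ linf := fun i => (E i).2
  have hR : ((thru L (E 0 : α)).erase linf).card = 4 := by
    rw [Finset.card_erase_of_mem (mem_thru.mpr ⟨hlinf, hEl 0⟩), card_thru hL hα]
  have hC : ((thru L (E 1 : α)).erase linf).card = 4 := by
    rw [Finset.card_erase_of_mem (mem_thru.mpr ⟨hlinf, hEl 1⟩), card_thru hL hα]
  obtain ⟨ER⟩ : Nonempty (Fin 4 ≃ ((thru L (E 0 : α)).erase linf)) :=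
    ⟨(Finset.equivFinOfCardEq hR).symm⟩
  obtain ⟨EC⟩ : Nonempty (Fin 4 ≃ ((thru L (E 1 : α)).erase linf)) :=
    ⟨(Finset.equivFinOfCardEq hC).symm⟩
  have hrow : ∀ a, (ER a : Finset α) ∈ L ∧ (E 0 : α) ∈ (ER a : Finset α) ∧
      (ER a : Finset α) ≠ linf := by
    intro a
    have := (ER a).2
    rw [Finset.mem_erase, mem_thru] at this
    exact ⟨this.2.1, this.2.2, this.1⟩
  have hcol : ∀ b, (EC b : Finset α) ∈ L ∧ (E 1 : α) ∈ (EC b : Finset α) ∧
      (EC b : Finset α) ≠ linf := by
    intro b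
    have := (EC b).2
    rw [Finset.mem_erase, mem_thru] at this
    exact ⟨this.2.1, this.2.2, this.1⟩
  have hne : ∀ a b, (ER a : Finset α) ≠ (EC b : Finset α) := by
    intro a b h
    apply (hrow a).2.2
    exact plane_line_unique hL hp01 (hrow a).1 hlinf (hrow a).2.1 (h ▸ (hcol b).2.1)
      (hEl 0) (hEl 1)
  have hX : ∀ a b, ∃ z, (ER a : Finset α) ∩ (EC b : Finset α) = {z} := fun a b =>
    plane_inter_eq_singleton hL hα (hrow a).1 (hcol b).1 (hne a b)
  choose X hX using hX
  have hXr : ∀ a b, X a b ∈ (ER a : Finset α) := by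
    intro a b
    have : X a b ∈ (ER a : Finset α) ∩ (EC b : Finset α) := by
      rw [hX a b]
      exact Finset.mem_singleton_self _
    exact (Finset.mem_inter.mp this).1
  have hXc : ∀ a b, X a b ∈ (EC b : Finset α) := by
    intro a b
    have : X a b ∈ (ER a : Finset α) ∩ (EC b : Finset α) := by
      rw [hX a b]
      exact Finset.mem_singleton_self _
    exact (Finset.mem_inter.mp this).2
  have hXl : ∀ a b, X a b ∉ linf := by
    intro a b h
    have h0 : X a b = (E 0 : α) := by
      by_contra hne0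
      exact (hrow a).2.2
        (plane_line_unique hL hne0 (hrow a).1 hlinf (hXr a b) (hrow a).2.1 h (hEl 0))
    have h1 : X a b = (E 1 : α) := by
      by_contra hne1
      exact (hcol b).2.2
        (plane_line_unique hL hne1 (hcol b).1 hlinf (hXc a b) (hcol b).2.1 h (hEl 1))
    exact hp01 (h0.symm.trans h1)
  have hXinj : ∀ a b a' b', X a b = X a' b' → a = a' ∧ b = b' := by
    intro a b a' b' h
    constructor
    · have hne0 : X a b ≠ (E 0 : α) := fun h0 => hXl a b (h0 ▸ hEl 0)
      have : (ER a : Finset α) = (ER a' : Finset α) :=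
        plane_line_unique hL hne0 (hrow a).1 (hrow a').1 (hXr a b) (hrow a).2.1
          (h ▸ hXr a' b') (hrow a').2.1
      exact ER.injective (Subtype.ext this)
    · have hne1 : X a b ≠ (E 1 : α) := fun h1 => hXl a b (h1 ▸ hEl 1)
      have : (EC b : Finset α) = (EC b' : Finset α) :=
        plane_line_unique hL hne1 (hcol b).1 (hcol b').1 (hXc a b) (hcol b).2.1
          (h ▸ hXc a' b') (hcol b').2.1
      exact EC.injective (Subtype.ext this)
  refine ⟨Sum.elim (fun i => (E i : α)) (fun ab => X ab.1 ab.2), linf,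
    fun a => (ER a : Finset α), fun b => (EC b : Finset α), ?_, hlinf, fun a => (hrow a).1,
    fun b => (hcol b).1, hEl, fun a => (hrow a).2.1, fun b => (hcol b).2.1, hXr, hXc⟩
  rintro (i | ⟨a, b⟩) (j | ⟨a', b'⟩) h
  · simp only [Sum.elim_inl] at h
    rw [E.injective (Subtype.ext h)]
  · simp only [Sum.elim_inl, Sum.elim_inr] at h
    exact absurd (h ▸ hEl i) (hXl a' b')
  · simp only [Sum.elim_inl, Sum.elim_inr] at h
    exact absurd (h ▸ hEl j) (hXl a b)
  · simp only [Sum.elim_inr] at h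
    obtain ⟨rfl, rfl⟩ := hXinj a b a' b' h
    rfl

end Plane

/-! ### The standard plane and the normal form -/

/-- the lines of the standard plane of order four, as masks -/
def planeStd : List ℕ := [31, 481, 7681, 122881, 1966081, 139810, 279618, 559234, 1118466,
  1082404, 590404, 274564, 149764, 329768, 168008, 1065608, 533768, 544816, 1058896, 197776,
  295696]

/-- the tables of the maps carrying the twelve completions of the grid to the standard plane -/
def planeTbls : List (List ℕ) := [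
  [0, 1, 2, 3, 4, 5, 6, 8, 7, 13, 14, 16, 15, 17, 18, 20, 19, 9, 10, 12, 11],
  [0, 1, 2, 3, 4, 5, 6, 7, 8, 17, 18, 19, 20, 13, 14, 15, 16, 9, 10, 11, 12],
  [0, 1, 2, 3, 4, 5, 6, 8, 7, 13, 14, 16, 15, 9, 10, 12, 11, 17, 18, 20, 19],
  [0, 1, 2, 3, 4, 5, 6, 7, 8, 17, 18, 19, 20, 9, 10, 11, 12, 13, 14, 15, 16],
  [0, 1, 2, 3, 4, 5, 6, 7, 8, 13, 14, 15, 16, 17, 18, 19, 20, 9, 10, 11, 12],
  [0, 1, 2, 3, 4, 5, 6, 8, 7, 17, 18, 20, 19, 13, 14, 16, 15, 9, 10, 12, 11],
  [0, 1, 2, 3, 4, 5, 6, 7, 8, 13, 14, 15, 16, 9, 10, 11, 12, 17, 18, 19, 20],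
  [0, 1, 2, 3, 4, 5, 6, 8, 7, 17, 18, 20, 19, 9, 10, 12, 11, 13, 14, 16, 15],
  [0, 1, 2, 3, 4, 5, 6, 8, 7, 9, 10, 12, 11, 13, 14, 16, 15, 17, 18, 20, 19],
  [0, 1, 2, 3, 4, 5, 6, 7, 8, 9, 10, 11, 12, 17, 18, 19, 20, 13, 14, 15, 16],
  [0, 1, 2, 3, 4, 5, 6, 8, 7, 9, 10, 12, 11, 17, 18, 20, 19, 13, 14, 16, 15],
  [0, 1, 2, 3, 4, 5, 6, 7, 8, 9, 10, 11, 12, 13, 14, 15, 16, 17, 18, 19, 20]]

theorem planePerms_ok : permsOK 21 planeStd planeFinals planeTbls = true := by decide +kernel

theorem planeFinals_ok : ∀ F ∈ planeFinals, F.Nodup ∧ F.length = 21 := by decide +kernel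

theorem planeStd_ok : planeStd.Nodup ∧ planeStd.length = 21 := by decide +kernel

theorem planeScript_ok : ∀ s ∈ planeScript, s < 2 ^ 21 ∧ pc24 s = 2 := by decide +kernel

theorem planeK9_nodup : planeK9.Nodup := by decide +kernel

/-- numbering of the grid: the points at infinity first, then the sixteen grid points -/
def gridFun : Fin 5 ⊕ (Fin 4 × Fin 4) → Fin 21
  | Sum.inl i => ⟨i, by omega⟩
  | Sum.inr (a, b) => ⟨5 + 4 * a + b, by omega⟩

theorem gridFun_bijective : Function.Bijective gridFun := by decide +kernel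

noncomputable def gridIdx : Fin 5 ⊕ (Fin 4 × Fin 4) ≃ Fin 21 :=
  Equiv.ofBijective gridFun gridFun_bijective

theorem grid_line_image {α : Type u} [DecidableEq α] {ι : Fin 5 ⊕ (Fin 4 × Fin 4) → α}
    (hι : Function.Bijective ι) {l : Finset α} (hl : l.card = 5)
    (T : Finset (Fin 5 ⊕ (Fin 4 × Fin 4))) (hT : T.card = 5) (h : ∀ s ∈ T, ι s ∈ l) :
    l.image ((Equiv.ofBijective ι hι).symm.trans gridIdx) = T.image gridFun := by
  have h1 : T.image ι = l := by
    apply Finset.eq_of_subset_of_card_le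
    · intro z hz
      rw [Finset.mem_image] at hz
      obtain ⟨s, hs, rfl⟩ := hz
      exact h s hs
    · rw [Finset.card_image_of_injective _ hι.injective, hT, hl]
  rw [← h1, Finset.image_image]
  apply Finset.image_congr
  intro s _
  have : (Equiv.ofBijective ι hι).symm (ι s) = s :=
    (Equiv.ofBijective ι hι).symm_apply_apply s
  simp only [Function.comp_apply, Equiv.trans_apply, this, gridIdx, Equiv.ofBijective_apply]

def gridTinf : Finset (Fin 5 ⊕ (Fin 4 × Fin 4)) := Finset.univ.image Sum.inl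

def gridTrow (a : Fin 4) : Finset (Fin 5 ⊕ (Fin 4 × Fin 4)) :=
  insert (Sum.inl 0) (Finset.univ.image (fun b => Sum.inr (a, b)))

def gridTcol (b : Fin 4) : Finset (Fin 5 ⊕ (Fin 4 × Fin 4)) :=
  insert (Sum.inl 1) (Finset.univ.image (fun a => Sum.inr (a, b)))

theorem gridTinf_card : gridTinf.card = 5 := by decide +kernel

theorem gridTrow_card : ∀ a, (gridTrow a).card = 5 := by decide +kernel

theorem gridTcol_card : ∀ b, (gridTcol b).card = 5 := by decide +kernel

theorem gridTinf_mask : maskF (gridTinf.image gridFun) = 31 := by decide +kernel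

theorem gridTrow_mask : ∀ a, maskF ((gridTrow a).image gridFun) =
    ![481, 7681, 122881, 1966081] a := by decide +kernel

theorem gridTcol_mask : ∀ b, maskF ((gridTcol b).image gridFun) =
    ![139810, 279618, 559234, 1118466] b := by decide +kernel

/-- every plane of order four can be numbered so that its lines are those of the standard
plane -/
theorem plane_std {α : Type u} [Fintype α] [DecidableEq α] (hα : Fintype.card α = 21)
    (L : Set (Finset α)) (hL : IsSteinerSystem 2 5 L) :
    ∃ e : α ≃ Fin 21, IsStdVia planeStd L e := by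
  obtain ⟨ι, linf, rows, cols, hinj, hlinf, hrows, hcols, h1, h2, h3, h4, h5⟩ :=
    plane_grid hL hα
  have hbij : Function.Bijective ι := by
    rw [Fintype.bijective_iff_injective_and_card]
    refine ⟨hinj, ?_⟩
    rw [hα]
    simp
  set e := (Equiv.ofBijective ι hbij).symm.trans gridIdx with he
  have hS : IsSteinerSystem 2 5 ((fun b => b.image e) '' L) := isSteinerSystem_image hL e
  have hinfm : maskF (linf.image e) = 31 := by
    rw [he, grid_line_image hbij (hL.1 _ hlinf) gridTinf gridTinf_card ?_]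
    · exact gridTinf_mask
    · intro s hs
      rw [gridTinf, Finset.mem_image] at hs
      obtain ⟨i, -, rfl⟩ := hs
      exact h1 i
  have hrowm : ∀ a, maskF ((rows a).image e) = ![481, 7681, 122881, 1966081] a := by
    intro a
    rw [he, grid_line_image hbij (hL.1 _ (hrows a)) (gridTrow a) (gridTrow_card a) ?_]
    · exact gridTrow_mask a
    · intro s hs
      rw [gridTrow, Finset.mem_insert, Finset.mem_image] at hs
      rcases hs with rfl | ⟨b, -, rfl⟩
      · exact h2 a
      · exact h4 a b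
  have hcolm : ∀ b, maskF ((cols b).image e) = ![139810, 279618, 559234, 1118466] b := by
    intro b
    rw [he, grid_line_image hbij (hL.1 _ (hcols b)) (gridTcol b) (gridTcol_card b) ?_]
    · exact gridTcol_mask b
    · intro s hs
      rw [gridTcol, Finset.mem_insert, Finset.mem_image] at hs
      rcases hs with rfl | ⟨a, -, rfl⟩
      · exact h3 b
      · exact h5 a b
  have hK : ∀ c ∈ planeK9, ∃ b ∈ (fun b => b.image e) '' L, maskF b = c := by
    intro c hc
    simp only [planeK9, List.mem_cons, List.not_mem_nil, or_false] at hc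
    rcases hc with rfl | rfl | rfl | rfl | rfl | rfl | rfl | rfl | rfl
    · exact ⟨_, ⟨linf, hlinf, rfl⟩, hinfm⟩
    · exact ⟨_, ⟨rows 0, hrows 0, rfl⟩, hrowm 0⟩
    · exact ⟨_, ⟨rows 1, hrows 1, rfl⟩, hrowm 1⟩
    · exact ⟨_, ⟨rows 2, hrows 2, rfl⟩, hrowm 2⟩
    · exact ⟨_, ⟨rows 3, hrows 3, rfl⟩, hrowm 3⟩
    · exact ⟨_, ⟨cols 0, hcols 0, rfl⟩, hcolm 0⟩
    · exact ⟨_, ⟨cols 1, hcols 1, rfl⟩, hcolm 1⟩
    · exact ⟨_, ⟨cols 2, hcols 2, rfl⟩, hcolm 2⟩
    · exact ⟨_, ⟨cols 3, hcols 3, rfl⟩, hcolm 3⟩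
  obtain ⟨F, hF, hstd⟩ := solve_final (total := 21) (by norm_num) planeFinals _ hS (by decide)
    (by decide) planeFinals_ok planeScript planeK9 planeScript_ok planeK9_nodup hK plane_solve
  obtain ⟨g, hg⟩ := permsOK_spec planeStd planeFinals planeTbls planePerms_ok F hF
  exact ⟨e.trans g, isStdVia_trans hL (fun d => hstd d) (by decide) (by decide) planeStd_ok g hg⟩

end Cfsg.Agent.Lib.helper3
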