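import Mathlib
import Cfsg.Agent.Lib.helper3.StSolve
set_option autoImplicit false
namespace Cfsg.Agent.Lib.helper3

def w22K : List ℕ := [2097183, 2097633, 2104833, 2220033, 4063233, 2236962, 2376770, 2656386, 3215618, 3179556, 2687556, 2371716, 2246916, 2426920, 2265160, 3162760, 2630920, 2641968, 3156048, 2294928, 2392848]
def w22Script : List ℕ := [35, 67, 131, 259, 37, 69, 133, 261, 41, 73, 137, 265, 49, 81, 145, 273, 38, 70, 134, 518, 1030, 8198, 32774, 42, 74, 138, 522, 1034, 2058, 8202, 16394, 50, 82, 146, 530, 1042, 2066, 8210, 16402, 44, 76, 140, 524, 1036, 2060, 8204, 16396, 52, 84, 148, 532, 1044, 2068, 8212, 16404, 56, 88, 152, 536, 1048, 8216, 32792, 608, 1120, 8288, 16480, 672, 1184, 2208, 8352, 16544, 800, 1312, 2336, 8480, 33056, 704, 1216, 2240, 8384, 32960, 832, 1344, 2368, 8512, 16704, 896, 1408, 8576, 16768, 9728, 17920, 10752, 35328, 12800, 20992, 11264, 19456, 13312, 37888, 14336, 22528]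
def w22Finals : List (List ℕ) := [
  [1657856, 437248, 479744, 1618432, 54656, 76672, 792896, 1181504, 1409216, 680128, 753952, 1335584, 1185952, 788128, 78944, 51808, 1315864, 657944, 82264, 41144, 104468, 26132, 1573268, 393332, 835596, 1253388, 3276, 4908, 1228818, 860178, 4818, 3378, 30730, 99850, 393610, 1572970, 660486, 1313286, 41286, 82086, 143633, 280721, 558161, 1114673, 1083657, 594057, 270921, 148521, 328965, 164485, 1069125, 534565, 541443, 1057923, 198723, 299043, 2097183, 2097633, 2104833, 2220033, 4063233, 2236962, 2376770, 2656386, 3215618, 3179556, 2687556, 2371716, 2246916, 2426920, 2265160, 3162760, 2630920, 2641968, 3156048, 2294928, 2392848],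
  [889856, 1209344, 1280512, 813568, 1314176, 660352, 1622336, 467264, 88256, 42688, 47392, 83744, 442528, 1646752, 658528, 1315424, 52248, 78360, 786648, 1179960, 1392660, 696340, 5460, 2740, 1579020, 394764, 98700, 24684, 399378, 1574418, 24978, 98418, 737290, 1351690, 2890, 5290, 76806, 53766, 1179846, 786726, 592145, 1085585, 148049, 271409, 282889, 141449, 1115209, 557609, 1057541, 541829, 297029, 200741, 165123, 328323, 536643, 1067043, 2097183, 2097633, 2104833, 2220033, 4063233, 2236962, 2376770, 2656386, 3215618, 3179556, 2687556, 2371716, 2246916, 2426920, 2265160, 3162760, 2630920, 2641968, 3156048, 2294928, 2392848],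
  [1366016, 735232, 706048, 1385984, 868736, 1220992, 101696, 29504, 1578176, 395968, 398624, 1575712, 27808, 103072, 1261664, 827488, 1671192, 417816, 6552, 1656, 789524, 1184276, 49364, 74036, 87052, 43532, 1311052, 655532, 46098, 84498, 655698, 1310898, 1182730, 791050, 73930, 49450, 491526, 1597446, 1926, 6246, 1066257, 533137, 331857, 165937, 197385, 296073, 542793, 1060905, 561413, 1116293, 140357, 279077, 272643, 151683, 1081923, 590883, 2097183, 2097633, 2104833, 2220033, 4063233, 2236962, 2376770, 2656386, 3215618, 3179556, 2687556, 2371716, 2246916, 2426920, 2265160, 3162760, 2630920, 2641968, 3156048, 2294928, 2392848]]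

theorem w22_solve : solve 3 6 22 w22Finals w22Script w22K = true := by decide +kernel

end Cfsg.Agent.Lib.helper3
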