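import Mathlib
import Cfsg.Agent.Lib.helper3.StPlane
import Cfsg.Agent.Lib.helper3.StW22Data

set_option autoImplicit false

namespace Cfsg.Agent.Lib.helper3

open Cfsg

universe u

/-! ### The standard form of the Steiner systems `S(3, 6, 22)` -/

/-- the blocks of the standard `S(3, 6, 22)`, as masks -/
def w22Std : List ℕ := w22Finals.headD []

/-- the tables of the maps carrying the three extensions of the standard plane to the first -/
def w22Tbls : List (List ℕ) := [
  [0, 1, 2, 3, 4, 5, 6, 7, 8, 9, 10, 11, 12, 13, 14, 15, 16, 17, 18, 19, 20, 21],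
  [0, 1, 2, 3, 4, 5, 8, 6, 7, 17, 20, 18, 19, 9, 12, 10, 11, 13, 16, 14, 15, 21],
  [0, 1, 2, 3, 4, 5, 7, 8, 6, 13, 15, 16, 14, 17, 19, 20, 18, 9, 11, 12, 10, 21]]

theorem w22Perms_ok : permsOK 22 w22Std w22Finals w22Tbls = true := by decide +kernel

theorem w22Finals_ok : ∀ F ∈ w22Finals, F.Nodup ∧ F.length = 77 := by decide +kernel

theorem w22Std_ok : w22Std.Nodup ∧ w22Std.length = 77 := by decide +kernel

theorem w22Script_ok : ∀ s ∈ w22Script, s < 2 ^ 22 ∧ pc24 s = 3 := by decide +kernel

theorem w22K_eq : planeStd.map (fun c => c + 2 ^ 21) = w22K := by decide +kernel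

theorem w22K_nodup : w22K.Nodup := by decide +kernel

theorem planeStd_lt : ∀ c ∈ planeStd, c < 2 ^ 21 := by decide +kernel

/-- every Steiner system `S(3, 6, 22)` can be numbered so that its blocks are the standard ones -/
theorem w22_std {α : Type u} [Fintype α] [DecidableEq α] (hα : Fintype.card α = 22)
    (B : Set (Finset α)) (hB : IsSteinerSystem 3 6 B) :
    ∃ e : α ≃ Fin 22, IsStdVia w22Std B e := by
  refine ext_step (t := 2) (k := 5) (N := 21) (total := 77) (by norm_num) planeStd w22Finals
    w22Script w22Std (fun hγ D hD => plane_std hγ D hD) planeStd_lt ?_ w22Script_ok ?_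
    (by decide) (by decide) w22Finals_ok w22Std_ok
    (permsOK_spec w22Std w22Finals w22Tbls w22Perms_ok) hα B hB
  · rw [w22K_eq]
    exact w22_solve
  · rw [w22K_eq]
    exact w22K_nodup

end Cfsg.Agent.Lib.helper3
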