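import Mathlib
import Cfsg.Agent.Lib.helper3.StW22
import Cfsg.Agent.Lib.helper3.StW23Data

set_option autoImplicit false

namespace Cfsg.Agent.Lib.helper3

open Cfsg

universe u

/-! ### The standard form of the Steiner systems `S(4, 7, 23)` -/

/-- the blocks of the standard `S(4, 7, 23)`, as masks -/
def w23Std : List ℕ := w23Finals.headD []

/-- the tables of the maps carrying the two extensions of the standard `S(3, 6, 22)` to the
first -/
def w23Tbls : List (List ℕ) := [
  [0, 1, 2, 3, 4, 5, 6, 7, 8, 9, 10, 11, 12, 13, 14, 15, 16, 17, 18, 19, 20, 21, 22],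
  [0, 1, 2, 3, 4, 5, 8, 6, 7, 17, 20, 18, 19, 9, 12, 10, 11, 13, 16, 14, 15, 22, 21]]

theorem w23Perms_ok : permsOK 23 w23Std w23Finals w23Tbls = true := by decide +kernel

theorem w23Finals_ok : ∀ F ∈ w23Finals, F.Nodup ∧ F.length = 253 := by decide +kernel

theorem w23Std_ok : w23Std.Nodup ∧ w23Std.length = 253 := by decide +kernel

theorem w23Script_ok : ∀ s ∈ w23Script, s < 2 ^ 23 ∧ pc24 s = 4 := by decide +kernel

theorem w23K_eq : w22Std.map (fun c => c + 2 ^ 22) = w23K := by decide +kernel

theorem w23K_nodup : w23K.Nodup := by decide +kernel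

theorem w22Std_lt : ∀ c ∈ w22Std, c < 2 ^ 22 := by decide +kernel

/-- every Steiner system `S(4, 7, 23)` can be numbered so that its blocks are the standard ones -/
theorem w23_std {α : Type u} [Fintype α] [DecidableEq α] (hα : Fintype.card α = 23)
    (B : Set (Finset α)) (hB : IsSteinerSystem 4 7 B) :
    ∃ e : α ≃ Fin 23, IsStdVia w23Std B e := by
  refine ext_step (t := 3) (k := 6) (N := 22) (total := 253) (by norm_num) w22Std w23Finals
    w23Script w23Std (fun hγ D hD => w22_std hγ D hD) w22Std_lt ?_ w23Script_ok ?_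
    (by decide) (by decide) w23Finals_ok w23Std_ok
    (permsOK_spec w23Std w23Finals w23Tbls w23Perms_ok) hα B hB
  · rw [w23K_eq]
    exact w23_solve
  · rw [w23K_eq]
    exact w23K_nodup

end Cfsg.Agent.Lib.helper3
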