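import Mathlib
import Cfsg.Agent.Lib.helper3.StW23
import Cfsg.Agent.S0353

set_option autoImplicit false

namespace Cfsg.Agent.Lib.helper3

open Cfsg

universe u v

/-! ### A Steiner system `S(5, 8, 24)` is determined by its blocks through one point -/

theorem steiner24_subset_of_through {α : Type u} [Fintype α] [DecidableEq α]
    (hα : Fintype.card α = 24) {B B' : Set (Finset α)} (hB : IsSteinerSystem 5 8 B)
    (hB' : IsSteinerSystem 5 8 B') (x : α) (h : ∀ b ∈ B, x ∈ b → b ∈ B') : B ⊆ B' := by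
  intro c hc
  by_cases hxc : x ∈ c
  · exact h c hc hxc
  have hccard : c.card = 8 := hB.1 c hc
  obtain ⟨T, hTc, hTcard⟩ := Finset.exists_subset_card_eq (show 4 ≤ c.card by omega)
  have hxT : x ∉ T := fun hx => hxc (hTc hx)
  have hscard : (insert x T).card = 5 := by rw [Finset.card_insert_of_notMem hxT, hTcard]
  obtain ⟨b0, ⟨hb0, hsb0⟩, -⟩ := hB.2 (insert x T) hscard
  have hxb0 : x ∈ b0 := hsb0 (Finset.mem_insert_self x T)
  have hTb0 : T ⊆ b0 := (Finset.subset_insert x T).trans hsb0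
  have hne : c ≠ b0 := fun hcb => hxc (hcb ▸ hxb0)
  have h4 : (b0 ∩ c).card = 4 := by
    have h1 : 4 ≤ (b0 ∩ c).card := by
      rw [← hTcard]
      exact Finset.card_le_card (Finset.subset_inter hTb0 hTc)
    have h2 : ¬ 5 ≤ (b0 ∩ c).card := fun h5 => hne (steiner_eq_of_le_inter hB hb0 hc h5)
    omega
  have hb1 : symmDiff b0 c ∈ B := Cfsg.Agent.S0353.result hα hB hb0 hc h4
  have hxb1 : x ∈ symmDiff b0 c := by
    rw [Finset.mem_symmDiff]
    exact Or.inl ⟨hxb0, hxc⟩
  have hb0' : b0 ∈ B' := h b0 hb0 hxb0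
  have hb1' : symmDiff b0 c ∈ B' := h _ hb1 hxb1
  have hinter : b0 ∩ symmDiff b0 c = b0 \ c := by
    ext z
    simp only [Finset.mem_inter, Finset.mem_symmDiff, Finset.mem_sdiff]
    tauto
  have h4' : (b0 ∩ symmDiff b0 c).card = 4 := by
    rw [hinter, Finset.card_sdiff, Finset.inter_comm, h4, hB.1 b0 hb0]
  have := Cfsg.Agent.S0353.result hα hB' hb0' hb1' h4'
  rwa [symmDiff_symmDiff_cancel_left] at this

theorem steiner24_eq_of_through {α : Type u} [Fintype α] [DecidableEq α]
    (hα : Fintype.card α = 24) {B B' : Set (Finset α)} (hB : IsSteinerSystem 5 8 B)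
    (hB' : IsSteinerSystem 5 8 B') (x : α) (h : ∀ b, x ∈ b → (b ∈ B ↔ b ∈ B')) : B = B' :=
  Set.Subset.antisymm
    (steiner24_subset_of_through hα hB hB' x (fun b hb hx => (h b hx).mp hb))
    (steiner24_subset_of_through hα hB' hB x (fun b hb hx => (h b hx).mpr hb))

/-- the blocks through the new point of an extension in standard position -/
theorem through_last_iff {α : Type u} [Fintype α] [DecidableEq α] {N : ℕ}
    {B : Set (Finset α)} (x : α) (F0 : List ℕ) (hF0lt : ∀ c ∈ F0, c < 2 ^ N)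
    (e0 : {a : α // a ≠ x} ≃ Fin N)
    (he0 : IsStdVia F0 {b' : Finset {a : α // a ≠ x} |
      ∃ b ∈ B, x ∈ b ∧ b' = Finset.subtype (fun a => a ≠ x) b} e0)
    (d : Finset (Fin (N + 1))) (hd : Fin.last N ∈ d) :
    d ∈ (fun b => b.image (extendEquiv x e0)) '' B ↔
      ∃ c0 ∈ F0, d = insert (Fin.last N) ((ofMask N c0).map Fin.castSuccEmb) := by
  constructor
  · rintro ⟨b, hb, rfl⟩
    have hxb : x ∈ b := by
      rw [Finset.mem_image] at hd
      obtain ⟨a, ha, hae⟩ := hd
      rw [← extendEquiv_self x e0] at hae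
      rwa [← (extendEquiv x e0).injective hae]
    have hmem := (he0 ((Finset.subtype (fun a => a ≠ x) b).image e0)).mp
      ⟨_, ⟨b, hb, hxb, rfl⟩, rfl⟩
    refine ⟨_, hmem, ?_⟩
    dsimp only
    rw [ofMask_maskF, image_extendEquiv x e0 b hxb]
  · rintro ⟨c0, hc0, rfl⟩
    have hc0lt := hF0lt c0 hc0
    have hmem := (he0 (ofMask N c0)).mpr (by rw [maskF_ofMask c0 hc0lt]; exact hc0)
    obtain ⟨b', ⟨b, hb, hxb, rfl⟩, hd'⟩ := hmem
    dsimp only at hd'
    refine ⟨b, hb, ?_⟩
    dsimp only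
    rw [image_extendEquiv x e0 b hxb, hd']

theorem w23Std_lt : ∀ c ∈ w23Std, c < 2 ^ 23 := by decide +kernel

/-- any two Steiner systems `S(5, 8, 24)` are isomorphic -/
theorem w24_iso {α : Type u} {β : Type v} [Fintype α] [DecidableEq α] [Fintype β]
    [DecidableEq β] (hα : Fintype.card α = 24) (hβ : Fintype.card β = 24)
    {B : Set (Finset α)} {B' : Set (Finset β)} (hB : IsSteinerSystem 5 8 B)
    (hB' : IsSteinerSystem 5 8 B') : SetSystemIso B B' := by
  obtain ⟨x⟩ : Nonempty α := by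
    rw [← Fintype.card_pos_iff, hα]
    norm_num
  obtain ⟨x'⟩ : Nonempty β := by
    rw [← Fintype.card_pos_iff, hβ]
    norm_num
  have hcard : Fintype.card {a : α // a ≠ x} = 23 := by
    have := Fintype.card_congr (Equiv.optionSubtypeNe x)
    rw [Fintype.card_option, hα] at this
    omega
  have hcard' : Fintype.card {a : β // a ≠ x'} = 23 := by
    have := Fintype.card_congr (Equiv.optionSubtypeNe x')
    rw [Fintype.card_option, hβ] at this
    omega
  obtain ⟨e0, he0⟩ := w23_std hcard _ (Cfsg.Agent.S0351.result hB x)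
  obtain ⟨e0', he0'⟩ := w23_std hcard' _ (Cfsg.Agent.S0351.result hB' x')
  have hS := isSteinerSystem_image hB (extendEquiv x e0)
  have hS' := isSteinerSystem_image hB' (extendEquiv x' e0')
  have heq : (fun b => b.image (extendEquiv x e0)) '' B =
      (fun b => b.image (extendEquiv x' e0')) '' B' := by
    apply steiner24_eq_of_through (by simp) hS hS' (Fin.last 23)
    intro d hd
    rw [through_last_iff x w23Std w23Std_lt e0 he0 d hd,
      through_last_iff x' w23Std w23Std_lt e0' he0' d hd]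
  have h1 : SetSystemIso B ((fun b => b.image (extendEquiv x e0)) '' B) := ⟨_, rfl⟩
  have h2 : SetSystemIso B' ((fun b => b.image (extendEquiv x' e0')) '' B') := ⟨_, rfl⟩
  rw [heq] at h1
  exact setSystemIso_trans h1 (setSystemIso_symm h2)

end Cfsg.Agent.Lib.helper3
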