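import Mathlib
import Cfsg.Agent.Lib.helper3.StW24
import Cfsg.Agent.Lib.helper3.StDerived
import Cfsg.Agent.Lib.helper3.GolaySteiner
import Cfsg.Agent.Lib.helper3.GolayCoset
import Cfsg.Agent.S0369
import Cfsg.Agent.S0366

set_option autoImplicit false

namespace Cfsg.Agent.Lib.helper3

open Cfsg
open scoped Pointwise

universe u

/-! ### The automorphisms of the derived system of an `S(5, 8, 24)` -/

/-- a Steiner system `S(5, 8, 24)` is determined by its derived system at a point -/
theorem steiner24_det {α : Type u} [Fintype α] [DecidableEq α] (hα : Fintype.card α = 24)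
    {B : Set (Finset α)} (hB : IsSteinerSystem 5 8 B) (x : α) (B' : Set (Finset α))
    (hB' : IsSteinerSystem 5 8 B') (h : derived B' x = derived B x) : B' = B := by
  apply steiner24_eq_of_through hα hB' hB x
  intro b hxb
  rw [← subtype_mem_derived_iff (B := B') hxb, ← subtype_mem_derived_iff (B := B) hxb, h]

theorem card_ne_subtype {α : Type u} [Fintype α] [DecidableEq α] {n : ℕ}
    (hα : Fintype.card α = n + 1) (x : α) : Fintype.card {a : α // a ≠ x} = n := by
  have := Fintype.card_congr (Equiv.optionSubtypeNe x)
  rw [Fintype.card_option, hα] at this
  omega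

theorem octads_aut_five : MulAction.IsMultiplyPretransitive (setSystemAut octads) GolayPt 5 := by
  have h := Cfsg.Agent.S0366.result
  rwa [Cfsg.Agent.S0369.result] at h

theorem octads_aut_one : MulAction.IsPretransitive (setSystemAut octads) GolayPt := by
  haveI := octads_aut_five
  have h1 : MulAction.IsMultiplyPretransitive (setSystemAut octads) GolayPt 1 :=
    MulAction.isMultiplyPretransitive_of_le (n := 5) (by norm_num)
      (by rw [Nat.card_eq_fintype_card, card_golayPt]; norm_num)
  exact MulAction.is_one_pretransitive_iff.mp h1

/-- the standard `S(4, 7, 23)`: the derived system of the octads at the extra point -/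
theorem w23_model : IsSteinerSystem 4 7 (derived octads (none : GolayPt)) :=
  Cfsg.Agent.S0351.result octads_steiner none

theorem resHom_octads_surjective (x : GolayPt) : Function.Surjective (resHom octads x) :=
  resHom_surjective octads_steiner (steiner24_det card_golayPt octads_steiner x)

/-- the point stabiliser of the automorphism group of the octads is the automorphism group of the
derived system -/
noncomputable def w23AutEquiv (x : GolayPt) :
    MulAction.stabilizer (setSystemAut octads) x ≃* setSystemAut (derived octads x) :=
  MulEquiv.ofBijective (resHom octads x) ⟨resHom_injective _ _, resHom_octads_surjective x⟩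

theorem w23_model_four (x : GolayPt) :
    MulAction.IsMultiplyPretransitive (setSystemAut (derived octads x))
      {a : GolayPt // a ≠ x} 4 := by
  haveI := octads_aut_one
  exact derived_aut_pretransitive 4 (resHom_octads_surjective x) octads_aut_five

/-- the automorphism group of any `S(4, 7, 23)`, compared with the point stabiliser of the
automorphism group of the octads -/
theorem w23_aut_transfer {α : Type u} [Fintype α] [DecidableEq α] (hα : Fintype.card α = 23)
    {B : Set (Finset α)} (hB : IsSteinerSystem 4 7 B) :
    ∃ (e : {a : GolayPt // a ≠ none} ≃ α)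
      (φ : MulAction.stabilizer (setSystemAut octads) (none : GolayPt) ≃* setSystemAut B),
      (fun b => b.image e) '' (derived octads none) = B ∧
      ∀ (g : MulAction.stabilizer (setSystemAut octads) (none : GolayPt))
        (a : {a : GolayPt // a ≠ none}), (φ g : Equiv.Perm α) (e a) = e ⟨g.1.1 a, by
          have := (fix_iff g.2 a.1).mpr a.2
          exact this⟩ := by
  have hc23 : Fintype.card {a : GolayPt // a ≠ none} = 23 := card_ne_subtype card_golayPt none
  obtain ⟨e, he⟩ : SetSystemIso (derived octads (none : GolayPt)) B :=
    by
      obtain ⟨e1, he1⟩ := w23_std hc23 _ w23_model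
      obtain ⟨e2, he2⟩ := w23_std hα B hB
      exact iso_of_isStdVia he1 he2
  obtain ⟨φ, hφ⟩ := aut_transfer e he
  refine ⟨e, (w23AutEquiv none).trans φ, he, ?_⟩
  intro g a
  have := hφ (w23AutEquiv none g) a
  rw [MulEquiv.trans_apply]
  exact this.symm

end Cfsg.Agent.Lib.helper3
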