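import Mathlib
import Cfsg.Agent.Lib.helper3.StW23Aut

set_option autoImplicit false

namespace Cfsg.Agent.Lib.helper3

open Cfsg
open scoped Pointwise

universe u

/-! ### Extensions of a system in standard position -/

/-- the search bounds the extensions of a system in standard position -/
theorem ext_finals {t k N total : ℕ} (hN : N + 1 ≤ 24) (F0 : List ℕ) (finals : List (List ℕ))
    (script : List ℕ) (hF0lt : ∀ c ∈ F0, c < 2 ^ N)
    (hsolve : solve (t + 1) (k + 1) (N + 1) finals script (F0.map (fun c => c + 2 ^ N)) = true)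
    (hscript : ∀ s ∈ script, s < 2 ^ (N + 1) ∧ pc24 s = t + 1)
    (hK0 : (F0.map (fun c => c + 2 ^ N)).Nodup)
    (htotal : total * Nat.choose (k + 1) (t + 1) = Nat.choose (N + 1) (t + 1))
    (hpos : 0 < Nat.choose (k + 1) (t + 1))
    (hfin : ∀ F ∈ finals, F.Nodup ∧ F.length = total)
    {α : Type u} [Fintype α] [DecidableEq α] (B : Set (Finset α))
    (hB : IsSteinerSystem (t + 1) (k + 1) B) (x : α) (e0 : {a : α // a ≠ x} ≃ Fin N)
    (he0 : IsStdVia F0 (derived B x) e0) :
    ∃ F ∈ finals, IsStdVia F B (extendEquiv x e0) := by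
  set e := extendEquiv x e0 with he
  set S : Set (Finset (Fin (N + 1))) := (fun b => b.image e) '' B with hSdef
  have hS : IsSteinerSystem (t + 1) (k + 1) S := isSteinerSystem_image hB e
  have hK : ∀ c ∈ F0.map (fun c => c + 2 ^ N), ∃ b ∈ S, maskF b = c := by
    intro c hc
    rw [List.mem_map] at hc
    obtain ⟨c0, hc0, rfl⟩ := hc
    have hc0lt := hF0lt c0 hc0
    have hmem := (he0 (ofMask N c0)).mpr (by rw [maskF_ofMask c0 hc0lt]; exact hc0)
    obtain ⟨b', ⟨b, hb, hxb, rfl⟩, hd⟩ := hmem
    dsimp only at hd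
    refine ⟨b.image e, ⟨b, hb, rfl⟩, ?_⟩
    rw [he, image_extendEquiv x e0 b hxb, maskF_insert_last, hd, maskF_ofMask c0 hc0lt]
  obtain ⟨F, hF, hstd⟩ := solve_final hN finals S hS htotal hpos hfin script _ hscript hK0 hK hsolve
  exact ⟨F, hF, fun d => hstd d⟩

theorem eq_of_isStdVia {α : Type u} [DecidableEq α] {N : ℕ} {F : List ℕ} {B B' : Set (Finset α)}
    {e : α ≃ Fin N} (h : IsStdVia F B e) (h' : IsStdVia F B' e) : B = B' := by
  have heq : (fun b => b.image e) '' B = (fun b => b.image e) '' B' := by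
    ext d
    rw [h d, h' d]
  exact (Set.image_injective.mpr (Finset.image_injective e.injective)) heq

/-- among three Steiner systems `S(4, 7, 23)` with the same derived system at a point, two
coincide -/
theorem w23_three_ext {α : Type u} [Fintype α] [DecidableEq α] (hα : Fintype.card α = 23)
    (x : α) {E1 E2 E3 : Set (Finset α)} (h1 : IsSteinerSystem 4 7 E1)
    (h2 : IsSteinerSystem 4 7 E2) (h3 : IsSteinerSystem 4 7 E3)
    (h12 : derived E2 x = derived E1 x) (h13 : derived E3 x = derived E1 x) :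
    E1 = E2 ∨ E1 = E3 ∨ E2 = E3 := by
  have hc22 : Fintype.card {a : α // a ≠ x} = 22 := card_ne_subtype hα x
  obtain ⟨e0, he0⟩ := w22_std hc22 _ (Cfsg.Agent.S0351.result h1 x)
  have key : ∀ E : Set (Finset α), IsSteinerSystem 4 7 E → derived E x = derived E1 x →
      ∃ F ∈ w23Finals, IsStdVia F E (extendEquiv x e0) := by
    intro E hE hder
    refine ext_finals (t := 3) (k := 6) (N := 22) (total := 253) (by norm_num) w22Std w23Finals
      w23Script w22Std_lt ?_ w23Script_ok ?_ (by decide) (by decide) w23Finals_ok E hE x e0 ?_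
    · rw [w23K_eq]
      exact w23_solve
    · rw [w23K_eq]
      exact w23K_nodup
    · rw [hder]
      exact he0
  obtain ⟨F1, hF1, hs1⟩ := key E1 h1 rfl
  obtain ⟨F2, hF2, hs2⟩ := key E2 h2 h12
  obtain ⟨F3, hF3, hs3⟩ := key E3 h3 h13
  obtain ⟨Fa, Fb, hab⟩ : ∃ Fa Fb, w23Finals = [Fa, Fb] := ⟨_, _, rfl⟩
  rw [hab] at hF1 hF2 hF3
  simp only [List.mem_cons, List.not_mem_nil, or_false] at hF1 hF2 hF3
  rcases hF1 with rfl | rfl <;> rcases hF2 with rfl | rfl <;> rcases hF3 with rfl | rfl
  · exact Or.inl (eq_of_isStdVia hs1 hs2)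
  · exact Or.inl (eq_of_isStdVia hs1 hs2)
  · exact Or.inr (Or.inl (eq_of_isStdVia hs1 hs3))
  · exact Or.inr (Or.inr (eq_of_isStdVia hs2 hs3))
  · exact Or.inr (Or.inr (eq_of_isStdVia hs2 hs3))
  · exact Or.inr (Or.inl (eq_of_isStdVia hs1 hs3))
  · exact Or.inl (eq_of_isStdVia hs1 hs2)
  · exact Or.inl (eq_of_isStdVia hs1 hs2)

/-! ### The restrictions have index at most two when there are at most two extensions -/

theorem smul_eq_image_image {α : Type u} [DecidableEq α] (g : Equiv.Perm α) (B : Set (Finset α)) :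
    g • B = (fun b => b.image g) '' B := rfl

theorem range_resHom_mul_mem {α : Type u} [DecidableEq α] {t k : ℕ} {B : Set (Finset α)}
    (hB : IsSteinerSystem t k B) (x : α)
    (h3 : ∀ E2 E3 : Set (Finset α), IsSteinerSystem t k E2 → IsSteinerSystem t k E3 →
      derived E2 x = derived B x → derived E3 x = derived B x → B = E2 ∨ B = E3 ∨ E2 = E3)
    (a b : setSystemAut (derived B x)) (ha : a ∉ (resHom B x).range)
    (hb : b ∉ (resHom B x).range) : a⁻¹ * b ∈ (resHom B x).range := by
  rw [mem_range_resHom_iff, MulAction.mem_stabilizer_iff] at ha hb ⊢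
  have hEa : IsSteinerSystem t k (Equiv.Perm.ofSubtype a.1 • B) := by
    rw [smul_eq_image_image]
    exact isSteinerSystem_image hB _
  have hEb : IsSteinerSystem t k (Equiv.Perm.ofSubtype b.1 • B) := by
    rw [smul_eq_image_image]
    exact isSteinerSystem_image hB _
  have hda : derived (Equiv.Perm.ofSubtype a.1 • B) x = derived B x := by
    rw [smul_eq_image_image]
    exact derived_image_ofSubtype a.2
  have hdb : derived (Equiv.Perm.ofSubtype b.1 • B) x = derived B x := by
    rw [smul_eq_image_image]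
    exact derived_image_ofSubtype b.2
  rcases h3 _ _ hEa hEb hda hdb with h | h | h
  · exact absurd h.symm ha
  · exact absurd h.symm hb
  · have h1 : ((a⁻¹ * b : setSystemAut (derived B x)) : Equiv.Perm {c : α // c ≠ x}) =
        (a.1)⁻¹ * b.1 := rfl
    rw [h1, map_mul, map_inv, mul_smul, inv_smul_eq_iff]
    exact h.symm

end Cfsg.Agent.Lib.helper3
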