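import Mathlib
import Cfsg.Agent.Lib.helper3.StW22Aut
import Cfsg.Agent.S0372

set_option autoImplicit false

namespace Cfsg.Agent.Lib.helper3

open Cfsg
open scoped Pointwise

/-! ### The standard `S(3, 6, 22)` and an automorphism that does not extend -/

/-- the 23 points other than the extra point -/
abbrev X23 : Type := {a : GolayPt // a ≠ none}

/-- the residue `0` among the 23 points -/
def y0 : X23 := ⟨some 0, by simp⟩

/-- the 22 points other than the extra point and the residue `0` -/
abbrev X22 : Type := {a : X23 // a ≠ y0}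

/-- the standard `S(4, 7, 23)` -/
abbrev D0 : Set (Finset X23) := derived octads none

/-- the standard `S(3, 6, 22)` -/
abbrev D00 : Set (Finset X22) := derived D0 y0

theorem D0_steiner : IsSteinerSystem 4 7 D0 := w23_model

theorem D00_steiner : IsSteinerSystem 3 6 D00 := Cfsg.Agent.S0351.result D0_steiner y0

theorem card_X23 : Fintype.card X23 = 23 := card_ne_subtype card_golayPt none

theorem card_X22 : Fintype.card X22 = 22 := card_ne_subtype card_X23 y0

/-- the trace of a set of points on the 22 points -/
def dsub (o : Finset GolayPt) : Finset X22 :=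
  Finset.subtype (fun a => a ≠ y0) (Finset.subtype (fun a => a ≠ none) o)

theorem mem_dsub {o : Finset GolayPt} {p : X22} : p ∈ dsub o ↔ (p.1.1 : GolayPt) ∈ o := by
  simp [dsub, Finset.mem_subtype]

theorem mem_D00_iff {b : Finset X22} :
    b ∈ D00 ↔ ∃ o ∈ octads, none ∈ o ∧ some 0 ∈ o ∧ b = dsub o := by
  constructor
  · rintro ⟨b', ⟨o, ho, hno, rfl⟩, hy, rfl⟩
    refine ⟨o, ho, hno, ?_, rfl⟩
    rw [Finset.mem_subtype] at hy
    exact hy
  · rintro ⟨o, ho, hno, h0o, rfl⟩
    refine ⟨_, ⟨o, ho, hno, rfl⟩, ?_, rfl⟩
    rw [Finset.mem_subtype]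
    exact h0o

theorem projInv_none : projInv none = some 0 := rfl

theorem projInv_zero : projInv (some 0) = none := by decide

theorem projInv_projInv (a : GolayPt) : projInv (projInv a) = a := projInv.left_inv a

theorem projInv_eq_none_iff (a : GolayPt) : projInv a = none ↔ a = some 0 := by
  constructor
  · intro h
    rw [← projInv_projInv a, h, projInv_none]
  · rintro rfl
    exact projInv_zero

theorem projInv_eq_zero_iff (a : GolayPt) : projInv a = some 0 ↔ a = none := by
  constructor
  · intro h
    rw [← projInv_projInv a, h, projInv_zero]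
  · rintro rfl
    exact projInv_none

theorem X22_ne_zero (p : X22) : (p.1.1 : GolayPt) ≠ some 0 := by
  intro h
  exact p.2 (Subtype.ext h)

theorem X22_ne_none (p : X22) : (p.1.1 : GolayPt) ≠ none := p.1.2

/-- the map `x ↦ -1/x` on the 22 points -/
def swapFun (p : X22) : X22 :=
  ⟨⟨projInv p.1.1, fun h => X22_ne_zero p ((projInv_eq_none_iff _).mp h)⟩,
    fun h => X22_ne_none p ((projInv_eq_zero_iff _).mp (congrArg Subtype.val h))⟩

theorem swapFun_swapFun (p : X22) : swapFun (swapFun p) = p := by
  apply Subtype.ext
  apply Subtype.ext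
  exact projInv_projInv _

/-- the permutation of the 22 points induced by `x ↦ -1/x` -/
def swap22 : Equiv.Perm X22 where
  toFun := swapFun
  invFun := swapFun
  left_inv := swapFun_swapFun
  right_inv := swapFun_swapFun

theorem swap22_apply (p : X22) : ((swap22 p).1.1 : GolayPt) = projInv p.1.1 := rfl

theorem projInv_mem_aut : projInv ∈ setSystemAut octads := by
  rw [← Cfsg.Agent.S0369.result]
  exact Cfsg.Agent.S0372.result

theorem dsub_image_swap (o : Finset GolayPt) : (dsub o).image swap22 = dsub (o.image projInv) := by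
  ext p
  rw [Finset.mem_image, mem_dsub, Finset.mem_image]
  constructor
  · rintro ⟨q, hq, rfl⟩
    exact ⟨q.1.1, mem_dsub.mp hq, rfl⟩
  · rintro ⟨a, ha, hap⟩
    have h1 : a ≠ none := by
      rintro rfl
      exact X22_ne_zero p (hap ▸ projInv_none)
    have h2 : (⟨a, h1⟩ : X23) ≠ y0 := by
      intro h
      have : a = some 0 := congrArg Subtype.val h
      subst this
      exact X22_ne_none p (hap ▸ projInv_zero)
    refine ⟨⟨⟨a, h1⟩, h2⟩, mem_dsub.mpr ha, ?_⟩
    apply Subtype.ext
    apply Subtype.ext
    exact hap

theorem swap22_mem : swap22 ∈ setSystemAut D00 := by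
  rw [MulAction.mem_stabilizer_set' (Set.toFinite D00)]
  intro b hb
  obtain ⟨o, ho, hno, h0o, rfl⟩ := mem_D00_iff.mp hb
  change (dsub o).image swap22 ∈ D00
  rw [dsub_image_swap]
  refine mem_D00_iff.mpr ⟨o.image projInv, ?_, ?_, ?_, rfl⟩
  · exact (mem_setSystemAut_iff.mp projInv_mem_aut o).mpr ho
  · exact Finset.mem_image.mpr ⟨some 0, h0o, projInv_zero⟩
  · exact Finset.mem_image.mpr ⟨none, hno, projInv_none⟩

/-- an octad through the extra point that misses the residue `0` -/
theorem exists_octad_none_not_zero : ∃ o ∈ octads, (none : GolayPt) ∈ o ∧ some 0 ∉ o := by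
  by_contra hcon
  push Not at hcon
  have h1 := steiner_count_through octads_steiner ({none} : Finset GolayPt) (by simp)
  have h2 := steiner_count_through octads_steiner ({none, some 0} : Finset GolayPt)
    (by rw [Finset.card_pair (by simp)]; norm_num)
  have heq : (blocks octads).filter (fun b => ({none} : Finset GolayPt) ⊆ b) =
      (blocks octads).filter (fun b => ({none, some 0} : Finset GolayPt) ⊆ b) := by
    apply Finset.filter_congr
    intro b hb
    rw [mem_blocks] at hb
    constructor
    · intro h
      have hn : none ∈ b := h (Finset.mem_singleton_self _)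
      intro z hz
      rw [Finset.mem_insert, Finset.mem_singleton] at hz
      rcases hz with rfl | rfl
      · exact hn
      · exact hcon b hb hn
    · intro h z hz
      rw [Finset.mem_singleton] at hz
      subst hz
      exact h (Finset.mem_insert_self _ _)
  rw [heq] at h1
  rw [Finset.card_pair (by simp), card_golayPt] at h2
  rw [Finset.card_singleton, card_golayPt] at h1
  norm_num [Nat.choose] at h1 h2
  omega

theorem swap22_not_mem_range : (⟨swap22, swap22_mem⟩ : setSystemAut D00) ∉ (resHom D0 y0).range := by
  rw [mem_range_resHom_iff]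
  intro h
  -- the extension to the 23 points is an automorphism, hence so is its extension to the 24 points
  have h' : Equiv.Perm.ofSubtype (Equiv.Perm.ofSubtype swap22 : Equiv.Perm X23) ∈
      setSystemAut octads :=
    ofSubtype_mem_aut octads_steiner (steiner24_det card_golayPt octads_steiner none) h
  set g : Equiv.Perm GolayPt := Equiv.Perm.ofSubtype (Equiv.Perm.ofSubtype swap22 : Equiv.Perm X23)
    with hg
  have hgnone : g none = none := ofSubtype_fix _
  have hgval : ∀ a : GolayPt, a ≠ none → a ≠ some 0 → g a = projInv a := by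
    intro a h1 h2
    have h3 : (⟨a, h1⟩ : X23) ≠ y0 := fun h => h2 (congrArg Subtype.val h)
    have e1 : g a = ((Equiv.Perm.ofSubtype swap22 : Equiv.Perm X23) ⟨a, h1⟩ : GolayPt) :=
      Equiv.Perm.ofSubtype_apply_of_mem (p := fun a : GolayPt => a ≠ none) _ h1
    have e2 : (Equiv.Perm.ofSubtype swap22 : Equiv.Perm X23) ⟨a, h1⟩ =
        (swap22 ⟨⟨a, h1⟩, h3⟩ : X23) :=
      Equiv.Perm.ofSubtype_apply_of_mem (p := fun a : X23 => a ≠ y0) _ h3
    rw [e1, e2]
    rfl
  obtain ⟨o, ho, hno, h0o⟩ := exists_octad_none_not_zero
  have ho1 : o.image g ∈ octads := (mem_setSystemAut_iff.mp h' o).mpr ho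
  have ho2 : o.image projInv ∈ octads := (mem_setSystemAut_iff.mp projInv_mem_aut o).mpr ho
  have hsub : (o.erase none).image projInv ⊆ o.image g ∩ o.image projInv := by
    intro z hz
    rw [Finset.mem_image] at hz
    obtain ⟨a, ha, rfl⟩ := hz
    rw [Finset.mem_erase] at ha
    have ha0 : a ≠ some 0 := fun h => h0o (h ▸ ha.2)
    rw [Finset.mem_inter]
    refine ⟨?_, Finset.mem_image_of_mem _ ha.2⟩
    rw [← hgval a ha.1 ha0]
    exact Finset.mem_image_of_mem _ ha.2
  have hcard : 5 ≤ (o.image g ∩ o.image projInv).card := by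
    refine le_trans ?_ (Finset.card_le_card hsub)
    rw [Finset.card_image_of_injective _ projInv.injective, Finset.card_erase_of_mem hno,
      octads_steiner.1 o ho]
    norm_num
  have heq := steiner_eq_of_le_inter octads_steiner ho1 ho2 hcard
  have hmem : none ∈ o.image g := Finset.mem_image.mpr ⟨none, hno, hgnone⟩
  rw [← heq, Finset.mem_image] at hmem
  obtain ⟨a, ha, hanone⟩ := hmem
  rw [projInv_eq_none_iff] at hanone
  exact h0o (hanone ▸ ha)

end Cfsg.Agent.Lib.helper3
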