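import Mathlib

set_option autoImplicit false

/-! Counting in a strongly regular graph with parameters `(100, 22, 0, 6)`:
the neighbourhood of a vertex carries a Steiner system `S(3, 6, 22)`. -/

namespace Cfsg.Agent.Lib.helper3

open Finset

universe u

variable {V : Type u} [Fintype V] [DecidableEq V] (G : SimpleGraph V) [DecidableRel G.Adj]

/-- combinatorial form of the parameters `(100, 22, 0, 6)` -/
structure IsHS100 : Prop where
  card : Fintype.card V = 100
  deg : ∀ v, (univ.filter (fun x => G.Adj v x)).card = 22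
  tri : ∀ v w x, G.Adj v w → G.Adj v x → G.Adj w x → False
  mu : ∀ v w, v ≠ w → ¬G.Adj v w → (univ.filter (fun x => G.Adj v x ∧ G.Adj w x)).card = 6

theorem isHS100_of_srg (h : G.IsSRGWith 100 22 0 6) : IsHS100 G := by
  have hcn : ∀ v w, Fintype.card (G.commonNeighbors v w) =
      (univ.filter (fun x => G.Adj v x ∧ G.Adj w x)).card := by
    intro v w
    rw [← Nat.card_eq_fintype_card, Nat.card_coe_set_eq]
    have : G.commonNeighbors v w = ↑(univ.filter (fun x => G.Adj v x ∧ G.Adj w x)) := by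
      ext x
      simp [SimpleGraph.mem_commonNeighbors]
    rw [this, Set.ncard_coe_finset]
  refine ⟨h.card, fun v => ?_, fun v w x hvw hvx hwx => ?_, fun v w hne hna => ?_⟩
  · have := h.regular v
    rw [← this, SimpleGraph.degree]
    congr 1
    ext x
    simp
  · have h0 := h.of_adj v w hvw
    rw [hcn, Finset.card_eq_zero] at h0
    have : x ∈ univ.filter (fun x => G.Adj v x ∧ G.Adj w x) := by
      rw [Finset.mem_filter]
      exact ⟨Finset.mem_univ _, hvx, hwx⟩
    rw [h0] at this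
    exact absurd this (Finset.notMem_empty _)
  · rw [← hcn]
    exact h.of_not_adj hne hna

variable {G}

/-- the neighbours of the base vertex -/
def hsN (G : SimpleGraph V) [DecidableRel G.Adj] (v0 : V) : Finset V :=
  univ.filter (fun x => G.Adj v0 x)

/-- the non-neighbours of the base vertex -/
def hsM (G : SimpleGraph V) [DecidableRel G.Adj] (v0 : V) : Finset V :=
  univ.filter (fun x => x ≠ v0 ∧ ¬G.Adj v0 x)

/-- the block of a vertex: its neighbours among the neighbours of the base vertex -/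
def hsBlk (G : SimpleGraph V) [DecidableRel G.Adj] (v0 m : V) : Finset V :=
  (hsN G v0).filter (fun p => G.Adj m p)

theorem mem_hsN {v0 x : V} : x ∈ hsN G v0 ↔ G.Adj v0 x := by
  simp [hsN]

theorem mem_hsM {v0 x : V} : x ∈ hsM G v0 ↔ x ≠ v0 ∧ ¬G.Adj v0 x := by
  simp [hsM]

theorem mem_hsBlk {v0 m p : V} : p ∈ hsBlk G v0 m ↔ G.Adj v0 p ∧ G.Adj m p := by
  simp [hsBlk, mem_hsN]

theorem hs_trichotomy (v0 x : V) : x = v0 ∨ x ∈ hsN G v0 ∨ x ∈ hsM G v0 := by
  rw [mem_hsN, mem_hsM]
  tauto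

theorem hsN_card (h : IsHS100 G) (v0 : V) : (hsN G v0).card = 22 := h.deg v0

theorem hsM_card (h : IsHS100 G) (v0 : V) : (hsM G v0).card = 77 := by
  have h1 := Finset.card_filter_add_card_filter_not (s := (univ : Finset V)) (fun x => G.Adj v0 x)
  rw [Finset.card_univ, h.card, h.deg v0] at h1
  have h2 : univ.filter (fun x => ¬G.Adj v0 x) = insert v0 (hsM G v0) := by
    ext x
    rw [Finset.mem_insert, mem_hsM, Finset.mem_filter]
    constructor
    · rintro ⟨_, hx⟩
      by_cases hxv : x = v0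
      · exact Or.inl hxv
      · exact Or.inr ⟨hxv, hx⟩
    · rintro (rfl | ⟨_, hx⟩)
      · exact ⟨Finset.mem_univ _, G.loopless.irrefl _⟩
      · exact ⟨Finset.mem_univ _, hx⟩
  have h3 : v0 ∉ hsM G v0 := by
    rw [mem_hsM]
    tauto
  rw [h2, Finset.card_insert_of_notMem h3] at h1
  omega

theorem hsN_indep (h : IsHS100 G) {v0 p q : V} (hp : p ∈ hsN G v0) (hq : q ∈ hsN G v0) :
    ¬G.Adj p q := fun hpq => h.tri v0 p q (mem_hsN.mp hp) (mem_hsN.mp hq) hpq

theorem hsBlk_subset (v0 m : V) : hsBlk G v0 m ⊆ hsN G v0 := Finset.filter_subset _ _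

theorem hsBlk_card (h : IsHS100 G) {v0 m : V} (hm : m ∈ hsM G v0) : (hsBlk G v0 m).card = 6 := by
  rw [mem_hsM] at hm
  rw [← h.mu v0 m (Ne.symm hm.1) hm.2]
  congr 1
  ext p
  rw [mem_hsBlk, Finset.mem_filter]
  simp

/-- a point lies in 21 blocks -/
theorem hs_through_one (h : IsHS100 G) {v0 p : V} (hp : p ∈ hsN G v0) :
    ((hsM G v0).filter (fun m => G.Adj m p)).card = 21 := by
  have hp' := mem_hsN.mp hp
  have h1 : univ.filter (fun x => G.Adj p x) = insert v0 ((hsM G v0).filter (fun m => G.Adj m p)) := by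
    ext x
    rw [Finset.mem_insert, Finset.mem_filter, Finset.mem_filter, mem_hsM]
    constructor
    · rintro ⟨_, hx⟩
      by_cases hxv : x = v0
      · exact Or.inl hxv
      · exact Or.inr ⟨⟨hxv, fun hvx => h.tri v0 p x hp' hvx hx⟩, hx.symm⟩
    · rintro (rfl | ⟨_, hx⟩)
      · exact ⟨Finset.mem_univ _, hp'.symm⟩
      · exact ⟨Finset.mem_univ _, hx.symm⟩
  have h2 : v0 ∉ (hsM G v0).filter (fun m => G.Adj m p) := by
    rw [Finset.mem_filter, mem_hsM]
    tauto
  have h3 := h.deg p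
  rw [h1, Finset.card_insert_of_notMem h2] at h3
  omega

/-- two points lie in 5 blocks -/
theorem hs_through_two (h : IsHS100 G) {v0 p q : V} (hp : p ∈ hsN G v0) (hq : q ∈ hsN G v0)
    (hpq : p ≠ q) : ((hsM G v0).filter (fun m => G.Adj m p ∧ G.Adj m q)).card = 5 := by
  have hp' := mem_hsN.mp hp
  have hq' := mem_hsN.mp hq
  have h1 : univ.filter (fun x => G.Adj p x ∧ G.Adj q x) =
      insert v0 ((hsM G v0).filter (fun m => G.Adj m p ∧ G.Adj m q)) := by
    ext x
    rw [Finset.mem_insert, Finset.mem_filter, Finset.mem_filter, mem_hsM]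
    constructor
    · rintro ⟨_, hx, hx'⟩
      by_cases hxv : x = v0
      · exact Or.inl hxv
      · exact Or.inr ⟨⟨hxv, fun hvx => h.tri v0 p x hp' hvx hx⟩, hx.symm, hx'.symm⟩
    · rintro (rfl | ⟨_, hx, hx'⟩)
      · exact ⟨Finset.mem_univ _, hp'.symm, hq'.symm⟩
      · exact ⟨Finset.mem_univ _, hx.symm, hx'.symm⟩
  have h2 : v0 ∉ (hsM G v0).filter (fun m => G.Adj m p ∧ G.Adj m q) := by
    rw [Finset.mem_filter, mem_hsM]
    tauto
  have h3 := h.mu p q hpq (hsN_indep h hp hq)
  rw [h1, Finset.card_insert_of_notMem h2] at h3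
  omega

/-- a block vertex has 16 neighbours among the block vertices -/
theorem hs_adj_count (h : IsHS100 G) {v0 m : V} (hm : m ∈ hsM G v0) :
    ((hsM G v0).filter (fun m' => G.Adj m m')).card = 16 := by
  have hm' := mem_hsM.mp hm
  have h1 : univ.filter (fun x => G.Adj m x) =
      hsBlk G v0 m ∪ (hsM G v0).filter (fun m' => G.Adj m m') := by
    ext x
    rw [Finset.mem_union, Finset.mem_filter, Finset.mem_filter, mem_hsBlk, mem_hsM]
    constructor
    · rintro ⟨_, hx⟩
      by_cases hvx : G.Adj v0 x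
      · exact Or.inl ⟨hvx, hx⟩
      · refine Or.inr ⟨⟨?_, hvx⟩, hx⟩
        rintro rfl
        exact hm'.2 hx.symm
    · rintro (⟨_, hx⟩ | ⟨_, hx⟩)
      · exact ⟨Finset.mem_univ _, hx⟩
      · exact ⟨Finset.mem_univ _, hx⟩
  have h2 : Disjoint (hsBlk G v0 m) ((hsM G v0).filter (fun m' => G.Adj m m')) := by
    rw [Finset.disjoint_left]
    intro x hx hx'
    rw [mem_hsBlk] at hx
    rw [Finset.mem_filter, mem_hsM] at hx'
    exact hx'.1.2 hx.1
  have h3 := h.deg m
  rw [h1, Finset.card_union_of_disjoint h2, hsBlk_card h hm] at h3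
  omega

/-- adjacent block vertices have disjoint blocks -/
theorem hs_inter_of_adj (h : IsHS100 G) {v0 m m' : V} (hadj : G.Adj m m') :
    ((hsBlk G v0 m).filter (fun p => G.Adj m' p)).card = 0 := by
  rw [Finset.card_eq_zero, Finset.filter_eq_empty_iff]
  intro p hp hp'
  rw [mem_hsBlk] at hp
  exact h.tri m m' p hadj hp.2 hp'

/-- the intersection number of two blocks -/
def hsI (G : SimpleGraph V) [DecidableRel G.Adj] (v0 m m' : V) : ℕ :=
  ((hsBlk G v0 m).filter (fun p => G.Adj m' p)).card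

theorem hsI_le (h : IsHS100 G) {v0 m : V} (hm : m ∈ hsM G v0) (m' : V) : hsI G v0 m m' ≤ 6 := by
  rw [← hsBlk_card h hm]
  exact Finset.card_filter_le _ _

theorem hs_sum_one (h : IsHS100 G) {v0 m : V} (hm : m ∈ hsM G v0) :
    ∑ m' ∈ (hsM G v0).erase m, hsI G v0 m m' = 120 := by
  have hdc := Finset.sum_card_bipartiteAbove_eq_sum_card_bipartiteBelow (s := hsBlk G v0 m)
    (t := (hsM G v0).erase m) (fun p m' => G.Adj m' p)
  have hR : ∑ m' ∈ (hsM G v0).erase m, hsI G v0 m m' =
      ∑ m' ∈ (hsM G v0).erase m,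
        ((hsBlk G v0 m).bipartiteBelow (fun p m' => G.Adj m' p) m').card := rfl
  rw [hR, ← hdc]
  have hL : ∀ p ∈ hsBlk G v0 m,
      (((hsM G v0).erase m).bipartiteAbove (fun p m' => G.Adj m' p) p).card = 20 := by
    intro p hp
    have hp' := mem_hsBlk.mp hp
    have : ((hsM G v0).erase m).bipartiteAbove (fun p m' => G.Adj m' p) p =
        ((hsM G v0).filter (fun m' => G.Adj m' p)).erase m := by
      ext x
      simp only [Finset.mem_bipartiteAbove, Finset.mem_erase, Finset.mem_filter]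
      tauto
    rw [this, Finset.card_erase_of_mem (Finset.mem_filter.mpr ⟨hm, hp'.2⟩),
      hs_through_one h (mem_hsN.mpr hp'.1)]
  rw [Finset.sum_congr rfl hL, Finset.sum_const, hsBlk_card h hm]
  rfl

theorem hs_sum_two (h : IsHS100 G) {v0 m : V} (hm : m ∈ hsM G v0) :
    ∑ m' ∈ (hsM G v0).erase m, (hsI G v0 m m' * hsI G v0 m m' - hsI G v0 m m') = 120 := by
  have hdc := Finset.sum_card_bipartiteAbove_eq_sum_card_bipartiteBelow
    (s := (hsBlk G v0 m).offDiag) (t := (hsM G v0).erase m)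
    (fun (pq : V × V) m' => G.Adj m' pq.1 ∧ G.Adj m' pq.2)
  have hR : ∀ m' ∈ (hsM G v0).erase m,
      (((hsBlk G v0 m).offDiag).bipartiteBelow
        (fun (pq : V × V) m' => G.Adj m' pq.1 ∧ G.Adj m' pq.2) m').card =
      hsI G v0 m m' * hsI G v0 m m' - hsI G v0 m m' := by
    intro m' _
    have : ((hsBlk G v0 m).offDiag).bipartiteBelow
        (fun (pq : V × V) m' => G.Adj m' pq.1 ∧ G.Adj m' pq.2) m' =
        ((hsBlk G v0 m).filter (fun p => G.Adj m' p)).offDiag := by
      ext ⟨p, q⟩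
      simp only [Finset.mem_bipartiteBelow, Finset.mem_offDiag, Finset.mem_filter]
      tauto
    rw [this, Finset.offDiag_card]
    rfl
  rw [← Finset.sum_congr rfl hR, ← hdc]
  have hL : ∀ pq ∈ (hsBlk G v0 m).offDiag,
      (((hsM G v0).erase m).bipartiteAbove
        (fun (pq : V × V) m' => G.Adj m' pq.1 ∧ G.Adj m' pq.2) pq).card = 4 := by
    rintro ⟨p, q⟩ hpq
    rw [Finset.mem_offDiag] at hpq
    obtain ⟨hp, hq, hne⟩ := hpq
    have hp' := mem_hsBlk.mp hp
    have hq' := mem_hsBlk.mp hq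
    have : ((hsM G v0).erase m).bipartiteAbove
        (fun (pq : V × V) m' => G.Adj m' pq.1 ∧ G.Adj m' pq.2) (p, q) =
        ((hsM G v0).filter (fun m' => G.Adj m' p ∧ G.Adj m' q)).erase m := by
      ext x
      simp only [Finset.mem_bipartiteAbove, Finset.mem_erase, Finset.mem_filter]
      tauto
    rw [this, Finset.card_erase_of_mem (Finset.mem_filter.mpr ⟨hm, hp'.2, hq'.2⟩),
      hs_through_two h (mem_hsN.mpr hp'.1) (mem_hsN.mpr hq'.1) hne]
  rw [Finset.sum_congr rfl hL, Finset.sum_const, Finset.offDiag_card, hsBlk_card h hm]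
  rfl

/-- non-adjacent block vertices have blocks meeting in two points -/
theorem hs_inter_two (h : IsHS100 G) {v0 m m' : V} (hm : m ∈ hsM G v0) (hm' : m' ∈ hsM G v0)
    (hne : m ≠ m') (hna : ¬G.Adj m m') : hsI G v0 m m' = 2 := by
  obtain ⟨t, ht⟩ : ∃ t, t = (hsM G v0).erase m := ⟨_, rfl⟩
  have htc : t.card = 76 := by
    rw [ht, Finset.card_erase_of_mem hm, hsM_card h]
  have hA : t.filter (fun x => G.Adj m x) = (hsM G v0).filter (fun x => G.Adj m x) := by
    ext x
    rw [ht]
    simp only [Finset.mem_filter, Finset.mem_erase]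
    constructor
    · rintro ⟨⟨_, hx⟩, hx'⟩
      exact ⟨hx, hx'⟩
    · rintro ⟨hx, hx'⟩
      refine ⟨⟨?_, hx⟩, hx'⟩
      rintro rfl
      exact G.loopless.irrefl _ hx'
  have hAc : (t.filter (fun x => G.Adj m x)).card = 16 := by
    rw [hA, hs_adj_count h hm]
  have hRc : (t.filter (fun x => ¬G.Adj m x)).card = 60 := by
    have := Finset.card_filter_add_card_filter_not (s := t) (fun x => G.Adj m x)
    omega
  have hA0 : ∀ x ∈ t.filter (fun x => G.Adj m x), hsI G v0 m x = 0 := by
    intro x hx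
    exact hs_inter_of_adj h (Finset.mem_filter.mp hx).2
  have hs1 : ∑ x ∈ t.filter (fun x => ¬G.Adj m x), hsI G v0 m x = 120 := by
    have h1 := hs_sum_one h hm
    rw [← ht, ← Finset.sum_filter_add_sum_filter_not t (fun x => G.Adj m x),
      Finset.sum_eq_zero hA0, zero_add] at h1
    exact h1
  have hs2 : ∑ x ∈ t.filter (fun x => ¬G.Adj m x),
      (hsI G v0 m x * hsI G v0 m x - hsI G v0 m x) = 120 := by
    have h1 := hs_sum_two h hm
    rw [← ht, ← Finset.sum_filter_add_sum_filter_not t (fun x => G.Adj m x),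
      Finset.sum_eq_zero (fun x hx => by simp [hA0 x hx]), zero_add] at h1
    exact h1
  have hs3 : ∑ x ∈ t.filter (fun x => ¬G.Adj m x), (hsI G v0 m x * hsI G v0 m x + 4) = 480 := by
    have : ∀ x ∈ t.filter (fun x => ¬G.Adj m x), hsI G v0 m x * hsI G v0 m x + 4 =
        (hsI G v0 m x * hsI G v0 m x - hsI G v0 m x) + hsI G v0 m x + 4 := by
      intro x _
      rw [Nat.sub_add_cancel (Nat.le_mul_self _)]
    rw [Finset.sum_congr rfl this, Finset.sum_add_distrib, Finset.sum_add_distrib, hs1, hs2,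
      Finset.sum_const, hRc]
    rfl
  have hs4 : ∑ x ∈ t.filter (fun x => ¬G.Adj m x), 4 * hsI G v0 m x = 480 := by
    rw [← Finset.mul_sum, hs1]
    rfl
  have hle : ∀ x ∈ t.filter (fun x => ¬G.Adj m x),
      4 * hsI G v0 m x ≤ hsI G v0 m x * hsI G v0 m x + 4 := by
    intro x _
    have := hsI_le h hm x
    interval_cases hsI G v0 m x <;> omega
  have heq := (Finset.sum_eq_sum_iff_of_le hle).mp (hs4.trans hs3.symm)
  have hmem : m' ∈ t.filter (fun x => ¬G.Adj m x) := by
    rw [Finset.mem_filter, ht, Finset.mem_erase]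
    exact ⟨⟨Ne.symm hne, hm'⟩, hna⟩
  have h2 := heq m' hmem
  have := hsI_le h hm m'
  interval_cases hsI G v0 m m' <;> omega

/-- distinct block vertices have blocks meeting in at most two points -/
theorem hs_inter_le (h : IsHS100 G) {v0 m m' : V} (hm : m ∈ hsM G v0) (hm' : m' ∈ hsM G v0)
    (hne : m ≠ m') : hsI G v0 m m' ≤ 2 := by
  by_cases hadj : G.Adj m m'
  · have := hs_inter_of_adj (v0 := v0) h hadj
    unfold hsI
    omega
  · exact (hs_inter_two h hm hm' hne hadj).le

/-- three points lie in exactly one block -/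
theorem hs_block_unique (h : IsHS100 G) {v0 : V} {T : Finset V} (hT : T ⊆ hsN G v0)
    (hT3 : T.card = 3) : ((hsM G v0).filter (fun m => T ⊆ hsBlk G v0 m)).card = 1 := by
  obtain ⟨S3, hS3⟩ : ∃ S3, S3 = (hsN G v0).powersetCard 3 := ⟨_, rfl⟩
  have hS3card : S3.card = 1540 := by
    rw [hS3, Finset.card_powersetCard, hsN_card h]
    rfl
  have hle : ∀ T ∈ S3, ((hsM G v0).filter (fun m => T ⊆ hsBlk G v0 m)).card ≤ 1 := by
    intro T hT
    rw [hS3, Finset.mem_powersetCard] at hT
    rw [Finset.card_le_one]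
    intro m hm m' hm'
    rw [Finset.mem_filter] at hm hm'
    by_contra hne
    have h1 := hs_inter_le h hm.1 hm'.1 hne
    have h2 : T ⊆ (hsBlk G v0 m).filter (fun p => G.Adj m' p) := by
      intro p hp
      rw [Finset.mem_filter]
      exact ⟨hm.2 hp, (mem_hsBlk.mp (hm'.2 hp)).2⟩
    have h3 := Finset.card_le_card h2
    unfold hsI at h1
    omega
  have hdc := Finset.sum_card_bipartiteAbove_eq_sum_card_bipartiteBelow (s := S3)
    (t := hsM G v0) (fun (T : Finset V) (m : V) => T ⊆ hsBlk G v0 m)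
  have hbelow : ∀ m ∈ hsM G v0,
      (S3.bipartiteBelow (fun (T : Finset V) (m : V) => T ⊆ hsBlk G v0 m) m).card = 20 := by
    intro m hm
    have : S3.bipartiteBelow (fun (T : Finset V) (m : V) => T ⊆ hsBlk G v0 m) m =
        (hsBlk G v0 m).powersetCard 3 := by
      ext T
      rw [Finset.mem_bipartiteBelow, hS3, Finset.mem_powersetCard, Finset.mem_powersetCard]
      constructor
      · rintro ⟨⟨_, h3⟩, hTb⟩
        exact ⟨hTb, h3⟩
      · rintro ⟨hTb, h3⟩
        exact ⟨⟨hTb.trans (hsBlk_subset v0 m), h3⟩, hTb⟩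
    rw [this, Finset.card_powersetCard, hsBlk_card h hm]
    rfl
  rw [Finset.sum_congr rfl hbelow, Finset.sum_const, hsM_card h] at hdc
  have hsum : ∑ T ∈ S3, ((hsM G v0).filter (fun m => T ⊆ hsBlk G v0 m)).card = 1540 := by
    have : ∀ T ∈ S3, ((hsM G v0).bipartiteAbove
        (fun (T : Finset V) (m : V) => T ⊆ hsBlk G v0 m) T).card =
        ((hsM G v0).filter (fun m => T ⊆ hsBlk G v0 m)).card := fun T _ => rfl
    rw [← Finset.sum_congr rfl this, hdc]
    rfl
  have hTS3 : T ∈ S3 := by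
    rw [hS3, Finset.mem_powersetCard]
    exact ⟨hT, hT3⟩
  by_contra hne
  have hlt : ((hsM G v0).filter (fun m => T ⊆ hsBlk G v0 m)).card < 1 :=
    lt_of_le_of_ne (hle T hTS3) hne
  have := Finset.sum_lt_sum hle ⟨T, hTS3, hlt⟩
  rw [hsum, Finset.sum_const, hS3card] at this
  simp at this

/-- distinct block vertices have distinct blocks -/
theorem hsBlk_injOn (h : IsHS100 G) {v0 m m' : V} (hm : m ∈ hsM G v0) (hm' : m' ∈ hsM G v0)
    (heq : hsBlk G v0 m = hsBlk G v0 m') : m = m' := by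
  by_contra hne
  have h1 := hs_inter_le h hm hm' hne
  have h2 : (hsBlk G v0 m).filter (fun p => G.Adj m' p) = hsBlk G v0 m := by
    rw [Finset.filter_eq_self]
    intro p hp
    rw [heq] at hp
    exact (mem_hsBlk.mp hp).2
  unfold hsI at h1
  rw [h2, hsBlk_card h hm] at h1
  omega

/-- adjacency of block vertices is disjointness of blocks -/
theorem hs_adj_iff_disjoint (h : IsHS100 G) {v0 m m' : V} (hm : m ∈ hsM G v0)
    (hm' : m' ∈ hsM G v0) : G.Adj m m' ↔ (m ≠ m' ∧ Disjoint (hsBlk G v0 m) (hsBlk G v0 m')) := by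
  constructor
  · intro hadj
    refine ⟨G.ne_of_adj hadj, ?_⟩
    rw [Finset.disjoint_left]
    intro p hp hp'
    exact h.tri m m' p hadj (mem_hsBlk.mp hp).2 (mem_hsBlk.mp hp').2
  · rintro ⟨hne, hd⟩
    by_contra hna
    have h2 := hs_inter_two h hm hm' hne hna
    unfold hsI at h2
    have : (hsBlk G v0 m).filter (fun p => G.Adj m' p) = ∅ := by
      rw [Finset.filter_eq_empty_iff]
      intro p hp hp'
      exact Finset.disjoint_left.mp hd hp (mem_hsBlk.mpr ⟨(mem_hsBlk.mp hp).1, hp'⟩)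
    rw [this] at h2
    simp at h2

end Cfsg.Agent.Lib.helper3
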