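import Mathlib
import Cfsg.Agent.Lib.helper3.HSCount
import Cfsg.Agent.S0410
import Cfsg.Agent.Lib.helper2.Stn22b

set_option autoImplicit false

/-! A strongly regular graph with parameters `(100, 22, 0, 6)` is the point-block graph of any
Steiner system `S(3, 6, 22)`, with a prescribed vertex as the extra vertex. -/

namespace Cfsg.Agent.Lib.helper3

open Cfsg Finset Cfsg.Agent.Lib.helper2

universe u v

variable {V : Type u} [Fintype V] [DecidableEq V] {G : SimpleGraph V} [DecidableRel G.Adj]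

/-- the block of a vertex as a set of points of the subtype of neighbours -/
def hsBlkS (G : SimpleGraph V) [DecidableRel G.Adj] (v0 m : V) : Finset ↥(hsN G v0) :=
  univ.filter (fun p => G.Adj m p.1)

/-- the system of blocks on the neighbours of the base vertex -/
def hsSys (G : SimpleGraph V) [DecidableRel G.Adj] (v0 : V) : Set (Finset ↥(hsN G v0)) :=
  {b | ∃ m ∈ hsM G v0, b = hsBlkS G v0 m}

theorem mem_hsBlkS {v0 m : V} {p : ↥(hsN G v0)} : p ∈ hsBlkS G v0 m ↔ G.Adj m p.1 := by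
  simp [hsBlkS]

theorem hsBlkS_map (v0 m : V) :
    (hsBlkS G v0 m).map (Function.Embedding.subtype _) = hsBlk G v0 m := by
  ext p
  rw [Finset.mem_map, mem_hsBlk]
  constructor
  · rintro ⟨q, hq, rfl⟩
    exact ⟨mem_hsN.mp q.2, mem_hsBlkS.mp hq⟩
  · rintro ⟨h1, h2⟩
    exact ⟨⟨p, mem_hsN.mpr h1⟩, mem_hsBlkS.mpr h2, rfl⟩

theorem hsBlkS_card (h : IsHS100 G) {v0 m : V} (hm : m ∈ hsM G v0) :
    (hsBlkS G v0 m).card = 6 := by
  rw [← Finset.card_map (Function.Embedding.subtype _), hsBlkS_map, hsBlk_card h hm]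

theorem subset_hsBlkS_iff {v0 m : V} (T : Finset ↥(hsN G v0)) :
    T ⊆ hsBlkS G v0 m ↔ T.map (Function.Embedding.subtype _) ⊆ hsBlk G v0 m := by
  rw [← hsBlkS_map, Finset.map_subset_map]

theorem hsBlkS_injOn (h : IsHS100 G) {v0 m m' : V} (hm : m ∈ hsM G v0) (hm' : m' ∈ hsM G v0)
    (heq : hsBlkS G v0 m = hsBlkS G v0 m') : m = m' := by
  apply hsBlk_injOn h hm hm'
  rw [← hsBlkS_map, ← hsBlkS_map, heq]

theorem hsSys_steiner (h : IsHS100 G) (v0 : V) : IsSteinerSystem 3 6 (hsSys G v0) := by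
  refine ⟨?_, ?_⟩
  · rintro b ⟨m, hm, rfl⟩
    exact hsBlkS_card h hm
  · intro T hT
    have hT' : T.map (Function.Embedding.subtype _) ⊆ hsN G v0 := by
      intro p hp
      rw [Finset.mem_map] at hp
      obtain ⟨q, _, rfl⟩ := hp
      exact q.2
    have h1 := hs_block_unique h hT' (by rw [Finset.card_map, hT])
    obtain ⟨m, hm⟩ := Finset.card_eq_one.mp h1
    have hmm : m ∈ (hsM G v0).filter
        (fun m => T.map (Function.Embedding.subtype _) ⊆ hsBlk G v0 m) := by
      rw [hm]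
      exact Finset.mem_singleton_self m
    rw [Finset.mem_filter] at hmm
    refine ⟨hsBlkS G v0 m, ⟨⟨m, hmm.1, rfl⟩, (subset_hsBlkS_iff T).mpr hmm.2⟩, ?_⟩
    rintro b ⟨⟨m', hm', rfl⟩, hTb⟩
    have : m' ∈ (hsM G v0).filter
        (fun m => T.map (Function.Embedding.subtype _) ⊆ hsBlk G v0 m) := by
      rw [Finset.mem_filter]
      exact ⟨hm', (subset_hsBlkS_iff T).mp hTb⟩
    rw [hm, Finset.mem_singleton] at this
    rw [this]

theorem hsN_card_coe (h : IsHS100 G) (v0 : V) : Fintype.card ↥(hsN G v0) = 22 := by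
  rw [Fintype.card_coe, hsN_card h]

/-- the map to the vertices of the point-block graph -/
def hsMap {α : Type v} [DecidableEq α] {B : Set (Finset α)} (v0 : V) (e : ↥(hsN G v0) ≃ α)
    (hmemB : ∀ m ∈ hsM G v0, (hsBlkS G v0 m).image e ∈ B) : V → Option (α ⊕ B) := fun x =>
  if h0 : x = v0 then none
  else if hN : x ∈ hsN G v0 then some (Sum.inl (e ⟨x, hN⟩))
  else some (Sum.inr ⟨(hsBlkS G v0 x).image e,
    hmemB x (mem_hsM.mpr ⟨h0, fun hadj => hN (mem_hsN.mpr hadj)⟩)⟩)

theorem hsMap_base {α : Type v} [DecidableEq α] {B : Set (Finset α)} (v0 : V)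
    (e : ↥(hsN G v0) ≃ α) (hmemB : ∀ m ∈ hsM G v0, (hsBlkS G v0 m).image e ∈ B) :
    hsMap v0 e hmemB v0 = none := dif_pos rfl

theorem hsMap_N {α : Type v} [DecidableEq α] {B : Set (Finset α)} (v0 : V)
    (e : ↥(hsN G v0) ≃ α) (hmemB : ∀ m ∈ hsM G v0, (hsBlkS G v0 m).image e ∈ B)
    (p : V) (hp : p ∈ hsN G v0) : hsMap v0 e hmemB p = some (Sum.inl (e ⟨p, hp⟩)) := by
  have hne : p ≠ v0 := (G.ne_of_adj (mem_hsN.mp hp)).symm
  unfold hsMap
  rw [dif_neg hne, dif_pos hp]

theorem hsMap_M {α : Type v} [DecidableEq α] {B : Set (Finset α)} (v0 : V)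
    (e : ↥(hsN G v0) ≃ α) (hmemB : ∀ m ∈ hsM G v0, (hsBlkS G v0 m).image e ∈ B)
    (m : V) (hm : m ∈ hsM G v0) :
    hsMap v0 e hmemB m = some (Sum.inr ⟨(hsBlkS G v0 m).image e, hmemB m hm⟩) := by
  have hm' := mem_hsM.mp hm
  have hN : m ∉ hsN G v0 := fun hmem => hm'.2 (mem_hsN.mp hmem)
  unfold hsMap
  rw [dif_neg hm'.1, dif_neg hN]

/-- the pointed uniqueness theorem -/
theorem hs_pointed {α : Type v} [Fintype α] [DecidableEq α] (hα : Fintype.card α = 22)
    {B : Set (Finset α)} (hB : IsSteinerSystem 3 6 B) (h : IsHS100 G) (v0 : V) :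
    ∃ φ : G ≃g pointBlockGraph B, φ v0 = none := by
  obtain ⟨e, he⟩ := Cfsg.Agent.S0410.result (hsN_card_coe h v0) hα (hsSys_steiner h v0) hB
  have hmemB : ∀ m ∈ hsM G v0, (hsBlkS G v0 m).image e ∈ B := by
    intro m hm
    rw [← he]
    exact ⟨_, ⟨m, hm, rfl⟩, rfl⟩
  obtain ⟨φ, hφ⟩ : ∃ φ, φ = hsMap v0 e hmemB := ⟨_, rfl⟩
  have φ0 : φ v0 = none := by rw [hφ]; exact hsMap_base v0 e hmemB
  have φN : ∀ p (hp : p ∈ hsN G v0), φ p = some (Sum.inl (e ⟨p, hp⟩)) := by
    rw [hφ]; exact hsMap_N v0 e hmemB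
  have φM : ∀ m (hm : m ∈ hsM G v0),
      φ m = some (Sum.inr ⟨(hsBlkS G v0 m).image e, hmemB m hm⟩) := by
    rw [hφ]; exact hsMap_M v0 e hmemB
  have hdisj : ∀ m m', Disjoint ((hsBlkS G v0 m).image e) ((hsBlkS G v0 m').image e) ↔
      Disjoint (hsBlk G v0 m) (hsBlk G v0 m') := by
    intro m m'
    rw [Finset.disjoint_image e.injective, ← hsBlkS_map, ← hsBlkS_map, Finset.disjoint_map]
  have hadj : ∀ x y, (pointBlockGraph B).Adj (φ x) (φ y) ↔ G.Adj x y := by
    intro x y
    rcases hs_trichotomy (G := G) v0 x with hx | hx | hx <;>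
      rcases hs_trichotomy (G := G) v0 y with hy | hy | hy
    · subst hx
      subst hy
      rw [φ0]
      exact ⟨fun hh => absurd hh stn22_pb_none_none, fun hh => absurd hh (G.loopless.irrefl _)⟩
    · subst hx
      rw [φ0, φN y hy]
      exact ⟨fun _ => mem_hsN.mp hy, fun _ => stn22_pb_none_inl _⟩
    · subst hx
      rw [φ0, φM y hy]
      exact ⟨fun hh => absurd hh (stn22_pb_none_inr _), fun hh => absurd hh (mem_hsM.mp hy).2⟩
    · subst hy
      rw [φ0, φN x hx]
      exact ⟨fun _ => (mem_hsN.mp hx).symm, fun _ => stn22_pb_inl_none _⟩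
    · rw [φN x hx, φN y hy]
      exact ⟨fun hh => absurd hh (stn22_pb_inl_inl _ _), fun hh => absurd hh (hsN_indep h hx hy)⟩
    · rw [φN x hx, φM y hy, stn22_pb_inl_inr]
      show e ⟨x, hx⟩ ∈ (hsBlkS G v0 y).image e ↔ _
      rw [e.injective.mem_finset_image, mem_hsBlkS]
      exact G.adj_comm _ _
    · subst hy
      rw [φ0, φM x hx]
      exact ⟨fun hh => absurd hh (stn22_pb_inr_none _),
        fun hh => absurd hh.symm (mem_hsM.mp hx).2⟩
    · rw [φM x hx, φN y hy, stn22_pb_inr_inl]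
      show e ⟨y, hy⟩ ∈ (hsBlkS G v0 x).image e ↔ _
      rw [e.injective.mem_finset_image, mem_hsBlkS]
    · rw [φM x hx, φM y hy, stn22_pb_inr_inr hB]
      show Disjoint ((hsBlkS G v0 x).image e) ((hsBlkS G v0 y).image e) ↔ _
      rw [hdisj, hs_adj_iff_disjoint h hx hy]
      constructor
      · intro hd
        refine ⟨?_, hd⟩
        rintro rfl
        rw [Finset.disjoint_self_iff_empty] at hd
        have := hsBlk_card h hx
        rw [hd] at this
        simp at this
      · exact fun hh => hh.2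
  have hinj : Function.Injective φ := by
    intro x y hxy
    rcases hs_trichotomy (G := G) v0 x with hx | hx | hx <;>
      rcases hs_trichotomy (G := G) v0 y with hy | hy | hy
    · rw [hx, hy]
    · subst hx
      rw [φ0, φN y hy] at hxy
      exact absurd hxy (by simp)
    · subst hx
      rw [φ0, φM y hy] at hxy
      exact absurd hxy (by simp)
    · subst hy
      rw [φ0, φN x hx] at hxy
      exact absurd hxy (by simp)
    · rw [φN x hx, φN y hy] at hxy
      have h1 := e.injective (Sum.inl_injective (Option.some_injective _ hxy))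
      exact congrArg Subtype.val h1
    · rw [φN x hx, φM y hy] at hxy
      exact absurd hxy (by simp)
    · subst hy
      rw [φ0, φM x hx] at hxy
      exact absurd hxy (by simp)
    · rw [φM x hx, φN y hy] at hxy
      exact absurd hxy (by simp)
    · rw [φM x hx, φM y hy] at hxy
      have h1 := congrArg Subtype.val (Sum.inr_injective (Option.some_injective _ hxy))
      have h2 := Finset.image_injective e.injective h1
      exact hsBlkS_injOn h hx hy h2
  have hsurj : Function.Surjective φ := by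
    rintro (_ | a | ⟨b, hb⟩)
    · exact ⟨v0, φ0⟩
    · refine ⟨(e.symm a).1, ?_⟩
      rw [φN _ (e.symm a).2]
      simp
    · have hb' := hb
      rw [← he] at hb'
      obtain ⟨_, ⟨m, hm, rfl⟩, rfl⟩ := hb'
      exact ⟨m, φM m hm⟩
  exact ⟨⟨Equiv.ofBijective φ ⟨hinj, hsurj⟩, fun {x y} => hadj x y⟩, φ0⟩

end Cfsg.Agent.Lib.helper3
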