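import Mathlib
import Cfsg.Agent.Lib.helper3.StW22Swap
import Cfsg.Agent.S0378
import Cfsg.Agent.S0379
import Cfsg.Prelude.Def_Sporadic

set_option autoImplicit false

namespace Cfsg.Agent.Lib.helper3

open Cfsg
open scoped Pointwise

universe u

/-! ### The automorphism group of the Steiner systems `S(3, 6, 22)` -/

/-- the automorphisms of the standard `S(3, 6, 22)` that extend to the standard `S(4, 7, 23)` -/
abbrev R22 : Subgroup (setSystemAut D00) := (resHom D0 y0).range

theorem R22_mul_mem (a b : setSystemAut D00) (ha : a ∉ R22) (hb : b ∉ R22) : a⁻¹ * b ∈ R22 :=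
  range_resHom_mul_mem D0_steiner y0
    (fun _ _ h2 h3 h12 h13 => w23_three_ext card_X23 y0 D0_steiner h2 h3 h12 h13) a b ha hb

theorem R22_index : R22.index = 2 := by
  rw [Subgroup.index_eq_two_iff]
  refine ⟨⟨swap22, swap22_mem⟩, fun b => ?_⟩
  by_cases hb : b ∈ R22
  · refine Or.inr ⟨hb, fun h => swap22_not_mem_range ?_⟩
    have := R22.mul_mem (R22.inv_mem hb) h
    rwa [inv_mul_cancel_left] at this
  · refine Or.inl ⟨?_, hb⟩
    have hb' : b⁻¹ ∉ R22 := fun h => hb (by simpa using R22.inv_mem h)
    have := R22_mul_mem b⁻¹ ⟨swap22, swap22_mem⟩ hb' swap22_not_mem_range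
    rwa [inv_inv] at this

/-- stabilisers correspond under an equivariant injection -/
noncomputable def stabilizerCongrOfMap {G H X Y : Type*} [Group G] [Group H] [MulAction G X]
    [MulAction H Y] (φ : G ≃* H) (f : X → Y) (hf : Function.Injective f)
    (hφ : ∀ (g : G) (x : X), f (g • x) = φ g • f x) (x : X) :
    MulAction.stabilizer G x ≃* MulAction.stabilizer H (f x) :=
  (φ.subgroupMap (MulAction.stabilizer G x)).trans (MulEquiv.subgroupCongr (by
    ext h
    rw [Subgroup.mem_map, MulAction.mem_stabilizer_iff]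
    constructor
    · rintro ⟨g, hg, rfl⟩
      rw [MulAction.mem_stabilizer_iff] at hg
      change φ g • f x = f x
      rw [← hφ, hg]
    · intro hh
      refine ⟨φ.symm h, ?_, φ.apply_symm_apply h⟩
      rw [MulAction.mem_stabilizer_iff]
      apply hf
      rw [hφ, φ.apply_symm_apply, hh]))

/-- the stabiliser of a point in a point stabiliser, as an intersection -/
def stabStabEquiv {G X : Type*} [Group G] [MulAction G X] (a b : X) :
    MulAction.stabilizer (MulAction.stabilizer G a) b ≃*
      ↥(MulAction.stabilizer G a ⊓ MulAction.stabilizer G b) where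
  toFun g := ⟨g.1.1, ⟨g.1.2, g.2⟩⟩
  invFun g := ⟨⟨g.1, g.2.1⟩, g.2.2⟩
  left_inv _ := rfl
  right_inv _ := rfl
  map_mul' _ _ := rfl

theorem w23AutEquiv_symm_smul (g : setSystemAut D0) (a : X23) :
    ((g • a : X23) : GolayPt) = ((w23AutEquiv none).symm g) • (a : GolayPt) := by
  obtain ⟨g', rfl⟩ := (w23AutEquiv none).surjective g
  rw [MulEquiv.symm_apply_apply]
  rfl

/-- the extendable automorphisms form a copy of the two-point stabiliser -/
noncomputable def R22Equiv : R22 ≃*
    ↥(MulAction.stabilizer (setSystemAut octads) (none : GolayPt) ⊓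
      MulAction.stabilizer (setSystemAut octads) (some 0 : GolayPt)) :=
  ((MonoidHom.ofInjective (resHom_injective D0 y0)).symm.trans
    (stabilizerCongrOfMap (w23AutEquiv none).symm (Subtype.val : X23 → GolayPt)
      Subtype.val_injective w23AutEquiv_symm_smul y0)).trans
    (stabStabEquiv (none : GolayPt) (some 0 : GolayPt))

theorem R22_isM22 : IsM22 R22 := by
  have hM : M24 = setSystemAut octads := Cfsg.Agent.S0369.result
  have hsimple : IsSimpleGroup ↥(MulAction.stabilizer (setSystemAut octads) (none : GolayPt) ⊓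
      MulAction.stabilizer (setSystemAut octads) (some 0 : GolayPt)) := by
    have h := Cfsg.Agent.S0379.result none (some 0) (by simp)
    rwa [hM] at h
  have hcard : Nat.card ↥(MulAction.stabilizer (setSystemAut octads) (none : GolayPt) ⊓
      MulAction.stabilizer (setSystemAut octads) (some 0 : GolayPt)) = 443520 := by
    have h := Cfsg.Agent.S0378.result none (some 0) (by simp)
    rwa [hM] at h
  refine ⟨R22Equiv.isSimpleGroup, ?_⟩
  rw [← hcard]
  exact Nat.card_congr R22Equiv.toEquiv

theorem isMultiplyPretransitive_of_map {G : Type*} {H : Type*} {α : Type*} {β : Type*}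
    [Group G] [Group H] [MulAction G α] [MulAction H β] (φ : G → H) (e : α ≃ β)
    (he : ∀ (g : G) (a : α), e (g • a) = φ g • e a) (n : ℕ)
    (hG : MulAction.IsMultiplyPretransitive G α n) : MulAction.IsMultiplyPretransitive H β n := by
  rw [MulAction.isMultiplyPretransitive_iff] at hG ⊢
  intro x y
  obtain ⟨g, hg⟩ := hG (x.trans e.symm.toEmbedding) (y.trans e.symm.toEmbedding)
  refine ⟨φ g, ?_⟩
  ext i
  have := congrArg (fun z : Fin n ↪ α => e (z i)) hg
  simp only [Function.Embedding.smul_apply, Function.Embedding.trans_apply,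
    Equiv.coe_toEmbedding, Equiv.apply_symm_apply, he] at this
  rw [Function.Embedding.smul_apply]
  exact this

theorem D00_aut_three : MulAction.IsMultiplyPretransitive (setSystemAut D00) X22 3 := by
  have h4 : MulAction.IsMultiplyPretransitive (setSystemAut D0) X23 4 := w23_model_four none
  haveI : MulAction.IsPretransitive (setSystemAut D0) X23 := by
    have h1 : MulAction.IsMultiplyPretransitive (setSystemAut D0) X23 1 :=
      MulAction.isMultiplyPretransitive_of_le (n := 4) (by norm_num)
        (by rw [Nat.card_eq_fintype_card, card_X23]; norm_num)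
    exact MulAction.is_one_pretransitive_iff.mp h1
  have h3 : MulAction.IsMultiplyPretransitive (MulAction.stabilizer (setSystemAut D0) y0)
      (SubMulAction.ofStabilizer (setSystemAut D0) y0) 3 :=
    SubMulAction.ofStabilizer.isMultiplyPretransitive.mp h4
  let e : SubMulAction.ofStabilizer (setSystemAut D0) y0 ≃ X22 :=
    Equiv.subtypeEquivRight (fun a => SubMulAction.mem_ofStabilizer_iff _ _)
  exact isMultiplyPretransitive_of_map (resHom D0 y0) e (fun g a => Subtype.ext rfl) 3 h3

theorem D00_aut_card : Nat.card (setSystemAut D00) = 887040 := by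
  have h := R22.index_mul_card
  rw [R22_index, R22_isM22.2] at h
  omega

/-- the automorphism group of any Steiner system `S(3, 6, 22)` -/
theorem w22_aut {α : Type u} [Fintype α] [DecidableEq α] (hα : Fintype.card α = 22)
    {B : Set (Finset α)} (hB : IsSteinerSystem 3 6 B) :
    Nat.card (setSystemAut B) = 887040 ∧
      MulAction.IsMultiplyPretransitive (setSystemAut B) α 3 ∧
      ∃ H : Subgroup (setSystemAut B), H.index = 2 ∧ IsM22 H := by
  obtain ⟨e, he⟩ : SetSystemIso D00 B := by
    obtain ⟨e1, he1⟩ := w22_std card_X22 _ D00_steiner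
    obtain ⟨e2, he2⟩ := w22_std hα B hB
    exact iso_of_isStdVia he1 he2
  obtain ⟨φ, hφ⟩ := aut_transfer e he
  refine ⟨?_, ?_, R22.map (φ : setSystemAut D00 →* setSystemAut B), ?_, ?_⟩
  · rw [← D00_aut_card]
    exact Nat.card_congr φ.symm.toEquiv
  · exact isMultiplyPretransitive_of_equiv φ e hφ 3 D00_aut_three
  · rw [Subgroup.index_map_equiv, R22_index]
  · have ψ : R22 ≃* R22.map (φ : setSystemAut D00 →* setSystemAut B) := φ.subgroupMap R22
    haveI := R22_isM22.1
    refine ⟨ψ.symm.isSimpleGroup, ?_⟩
    rw [← R22_isM22.2]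
    exact Nat.card_congr ψ.symm.toEquiv

end Cfsg.Agent.Lib.helper3
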