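import Mathlib
import Cfsg.Agent.Lib.helper3.StPerm

set_option autoImplicit false

namespace Cfsg.Agent.Lib.helper3

open Cfsg

/-! ### Checking that an automorphism fixing some points is the identity -/

/-- all ways of inserting `x` into a list -/
def insertAll (x : ℕ) : List ℕ → List (List ℕ)
  | [] => [[x]]
  | y :: ys => (x :: y :: ys) :: (insertAll x ys).map (y :: ·)

theorem mem_insertAll (x : ℕ) (a b : List ℕ) : a ++ x :: b ∈ insertAll x (a ++ b) := by
  induction a with
  | nil => cases b <;> simp [insertAll]
  | cons y ys ih =>
    simp only [List.cons_append, insertAll, List.mem_cons, List.mem_map]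
    right
    exact ⟨_, ih, rfl⟩

/-- all rearrangements of a list -/
def permsOf : List ℕ → List (List ℕ)
  | [] => [[]]
  | x :: xs => (permsOf xs).flatMap (insertAll x)

theorem mem_permsOf : ∀ (l t : List ℕ), t.Perm l → t ∈ permsOf l
  | [], t, h => by
    rw [List.perm_nil] at h
    subst h
    simp [permsOf]
  | x :: xs, t, h => by
    have hx : x ∈ t := h.symm.subset List.mem_cons_self
    obtain ⟨a, b, rfl⟩ := List.append_of_mem hx
    have h' : (a ++ b).Perm xs := by
      have h1 : (a ++ x :: b).Perm (x :: (a ++ b)) := List.perm_middle
      exact List.Perm.cons_inv (h1.symm.trans h)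
    simp only [permsOf, List.mem_flatMap]
    exact ⟨a ++ b, mem_permsOf xs _ h', mem_insertAll x a b⟩

/-- every rearrangement `t` of `rest`, other than `rest` itself, gives a table `pre ++ t` that
moves some block of `F` outside `F` -/
def rigidAll (F : List ℕ) (N : ℕ) (pre rest : List ℕ) : Bool :=
  (permsOf rest).all (fun t =>
    decide (t = rest) || F.any (fun c => !(F.contains (tblMask (pre ++ t) c N))))

theorem eq_one_of_rigidAll {N : ℕ} (F : List ℕ) (pre rest : List ℕ)
    (hpr : pre ++ rest = List.range N) (h : rigidAll F N pre rest = true)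
    (g : Equiv.Perm (Fin N)) (hg : ∀ c ∈ F, maskF ((ofMask N c).image g) ∈ F)
    (hfix : ∀ i : Fin N, (i : ℕ) < pre.length → g i = i) : g = 1 := by
  set L : List ℕ := (List.finRange N).map (fun i => ((g i : Fin N) : ℕ)) with hLdef
  have hLlen : L.length = N := by rw [hLdef, List.length_map, List.length_finRange]
  have hLperm : L.Perm (List.range N) := by
    have h1 : L = ((List.finRange N).map g).map (fun i : Fin N => (i : ℕ)) := by
      rw [hLdef, List.map_map]
      rfl
    rw [h1, ← List.map_coe_finRange_eq_range]
    exact (Equiv.Perm.map_finRange_perm g).map _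
  have hLget : ∀ (i : ℕ) (hi : i < L.length), L[i] = ((g ⟨i, by rw [← hLlen]; exact hi⟩ : Fin N) : ℕ) := by
    intro i hi
    simp [hLdef]
  have hget : ∀ i : Fin N, ((g i : Fin N) : ℕ) = L.getD i 0 := by
    intro i
    have hi : (i : ℕ) < L.length := by rw [hLlen]; exact i.2
    rw [List.getD_eq_getElem _ _ hi, hLget _ hi]
  have hprelen : pre.length ≤ N := by
    have := congrArg List.length hpr
    rw [List.length_append, List.length_range] at this
    omega
  have hpre : pre = (List.range N).take pre.length := by
    rw [← hpr, List.take_left']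
    rfl
  have htake : L.take pre.length = pre := by
    apply List.ext_getElem
    · rw [List.length_take, hLlen]
      omega
    · intro i h1 h2
      rw [List.getElem_take, hLget]
      have hiN : i < N := by omega
      rw [hfix ⟨i, hiN⟩ h2]
      conv_rhs => rw [List.getElem_of_eq hpre h2]
      rw [List.getElem_take, List.getElem_range]
  have hLsplit : L = pre ++ L.drop pre.length := by
    conv_lhs => rw [← List.take_append_drop pre.length L, htake]
  have htperm : (L.drop pre.length).Perm rest := by
    rw [hLsplit, ← hpr] at hLperm
    exact (List.perm_append_left_iff pre).mp hLperm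
  have hmem := mem_permsOf rest _ htperm
  unfold rigidAll at h
  rw [List.all_eq_true] at h
  have hc := h _ hmem
  rw [Bool.or_eq_true, decide_eq_true_eq, List.any_eq_true] at hc
  rcases hc with hc | ⟨c, hcF, hc⟩
  · rw [hc, hpr] at hLsplit
    ext i
    rw [Equiv.Perm.one_apply, hget i, hLsplit]
    rw [List.getD_eq_getElem _ _ (by rw [List.length_range]; exact i.2), List.getElem_range]
  · exfalso
    rw [← hLsplit, ← maskF_image_perm g L hget c] at hc
    have := hg c hcF
    rw [Bool.not_eq_true', ← Bool.not_eq_true, List.contains_iff_mem] at hc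
    exact hc this

end Cfsg.Agent.Lib.helper3
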