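import Mathlib
import Cfsg.Agent.Lib.helper3.StSmallData

set_option autoImplicit false

namespace Cfsg.Agent.Lib.helper3

open Cfsg

universe u

/-! ### The small Steiner systems `S(2, 3, 9)`, `S(3, 4, 10)`, `S(4, 5, 11)`, `S(5, 6, 12)` -/

/-- a numbering of the points in which a given set comes first -/
theorem exists_numbering_of_card {α : Type u} [Fintype α] [DecidableEq α] {N k : ℕ}
    (hα : Fintype.card α = N) (b : Finset α) (hb : b.card = k) :
    ∃ e : α ≃ Fin N, ∀ a, a ∈ b ↔ ((e a : Fin N) : ℕ) < k := by
  classical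
  have hkN : k ≤ N := by
    rw [← hb, ← hα]
    exact Finset.card_le_univ b
  let e0 : α ≃ Fin N := Fintype.equivFinOfCardEq hα
  have hc1 : Fintype.card {i : Fin N // e0.symm i ∈ b} = k := by
    rw [← hb, Fintype.card_subtype]
    apply Finset.card_bij (fun i _ => e0.symm i)
    · intro i hi
      exact (Finset.mem_filter.mp hi).2
    · intro i _ j _ h
      exact e0.symm.injective h
    · intro a ha
      exact ⟨e0 a, Finset.mem_filter.mpr ⟨Finset.mem_univ _, by simpa using ha⟩, by simp⟩
  have hc2 : Fintype.card {i : Fin N // (i : ℕ) < k} = k := by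
    rw [Fintype.card_subtype]
    have : (Finset.univ.filter (fun i : Fin N => (i : ℕ) < k)) =
        (Finset.univ : Finset (Fin k)).map (Fin.castLEEmb hkN) := by
      ext i
      simp only [Finset.mem_filter, Finset.mem_univ, true_and, Finset.mem_map,
        Fin.castLEEmb_apply]
      constructor
      · intro hi
        exact ⟨⟨i, hi⟩, rfl⟩
      · rintro ⟨j, rfl⟩
        exact j.2
    rw [this, Finset.card_map, Finset.card_univ, Fintype.card_fin]
  let es : {i : Fin N // e0.symm i ∈ b} ≃ {i : Fin N // (i : ℕ) < k} :=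
    Fintype.equivOfCardEq (hc1.trans hc2.symm)
  refine ⟨e0.trans es.extendSubtype, fun a => ?_⟩
  constructor
  · intro ha
    have hp : e0.symm (e0 a) ∈ b := by simpa using ha
    exact es.extendSubtype_mem (e0 a) hp
  · intro hlt
    by_contra ha
    have hp : ¬ e0.symm (e0 a) ∈ b := by simpa using ha
    exact es.extendSubtype_not_mem (e0 a) hp hlt

theorem mask_first_three : maskF (Finset.univ.filter (fun i : Fin 9 => (i : ℕ) < 3)) = 7 := by
  decide +kernel

/-- every Steiner system `S(2, 3, 9)` can be numbered so that its blocks are the standard ones -/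
theorem sts9_std {α : Type u} [Fintype α] [DecidableEq α] (hα : Fintype.card α = 9)
    (L : Set (Finset α)) (hL : IsSteinerSystem 2 3 L) :
    ∃ e : α ≃ Fin 9, IsStdVia sts9Std L e := by
  obtain ⟨x, y, hxy⟩ := Fintype.one_lt_card_iff.mp (by rw [hα]; norm_num : 1 < Fintype.card α)
  obtain ⟨b, ⟨hb, -⟩, -⟩ := hL.2 {x, y} (Finset.card_pair hxy)
  obtain ⟨e, he⟩ := exists_numbering_of_card hα b (hL.1 b hb)
  have hS : IsSteinerSystem 2 3 ((fun b => b.image e) '' L) := isSteinerSystem_image hL e
  have himg : b.image e = Finset.univ.filter (fun i : Fin 9 => (i : ℕ) < 3) := by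
    ext i
    rw [Finset.mem_image, Finset.mem_filter]
    constructor
    · rintro ⟨a, ha, rfl⟩
      exact ⟨Finset.mem_univ _, (he a).mp ha⟩
    · rintro ⟨-, hi⟩
      refine ⟨e.symm i, (he _).mpr (by simpa using hi), by simp⟩
  have hK : ∀ c ∈ [7], ∃ d ∈ (fun b => b.image e) '' L, maskF d = c := by
    intro c hc
    rw [List.mem_singleton] at hc
    subst hc
    exact ⟨b.image e, ⟨b, hb, rfl⟩, by rw [himg]; exact mask_first_three⟩
  obtain ⟨F, hF, hstd⟩ := solve_final (total := 12) (by norm_num) sts9Finals _ hS (by decide)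
    (by decide) sts9Finals_ok sts9Script [7] sts9Script_ok (by decide) hK sts9_solve
  obtain ⟨g, hg⟩ := permsOK_spec sts9Std sts9Finals sts9Tbls sts9Perms_ok F hF
  exact ⟨e.trans g, isStdVia_trans hL (fun d => hstd d) (by decide) (by decide) sts9Std_ok g hg⟩

/-- every Steiner system `S(3, 4, 10)` can be numbered so that its blocks are the standard
ones -/
theorem w10_std {α : Type u} [Fintype α] [DecidableEq α] (hα : Fintype.card α = 10)
    (B : Set (Finset α)) (hB : IsSteinerSystem 3 4 B) :
    ∃ e : α ≃ Fin 10, IsStdVia w10Std B e :=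
  ext_step (t := 2) (k := 3) (N := 9) (total := 30) (by norm_num) sts9Std w10Finals
    w10Script w10Std (fun hγ D hD => sts9_std hγ D hD) sts9Std_lt w10_solve w10Script_ok
    w10K_nodup (by decide) (by decide) w10Finals_ok w10Std_ok
    (permsOK_spec w10Std w10Finals w10Tbls w10Perms_ok) hα B hB

/-- every Steiner system `S(4, 5, 11)` can be numbered so that its blocks are the standard
ones -/
theorem w11_std {α : Type u} [Fintype α] [DecidableEq α] (hα : Fintype.card α = 11)
    (B : Set (Finset α)) (hB : IsSteinerSystem 4 5 B) :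
    ∃ e : α ≃ Fin 11, IsStdVia w11Std B e :=
  ext_step (t := 3) (k := 4) (N := 10) (total := 66) (by norm_num) w10Std w11Finals
    w11Script w11Std (fun hγ D hD => w10_std hγ D hD) w10Std_lt w11_solve w11Script_ok
    w11K_nodup (by decide) (by decide) w11Finals_ok w11Std_ok
    (permsOK_spec w11Std w11Finals w11Tbls w11Perms_ok) hα B hB

/-- every Steiner system `S(5, 6, 12)` can be numbered so that its blocks are the standard
ones -/
theorem w12_std {α : Type u} [Fintype α] [DecidableEq α] (hα : Fintype.card α = 12)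
    (B : Set (Finset α)) (hB : IsSteinerSystem 5 6 B) :
    ∃ e : α ≃ Fin 12, IsStdVia w12Std B e :=
  ext_step (t := 4) (k := 5) (N := 11) (total := 132) (by norm_num) w11Std w12Finals
    w12Script w12Std (fun hγ D hD => w11_std hγ D hD) w11Std_lt w12_solve w12Script_ok
    w12K_nodup (by decide) (by decide) w12Finals_ok w12Std_ok
    (permsOK_spec w12Std w12Finals w12Tbls w12Perms_ok) hα B hB

end Cfsg.Agent.Lib.helper3
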