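import Mathlib
import Cfsg.Agent.Lib.helper3.StRigid
import Cfsg.Agent.Lib.helper3.StSmall
import Cfsg.Agent.Lib.helper3.StAut

set_option autoImplicit false

namespace Cfsg.Agent.Lib.helper3

open Cfsg

universe u

/-! ### Automorphisms of a Steiner system `S(5, 6, 12)` fixing five suitable points -/

theorem w12_rigid : rigidAll w12Std 12 [0, 1, 2, 3, 4] [5, 6, 7, 8, 9, 10, 11] = true := by
  decide +kernel

/-- in every Steiner system `S(5, 6, 12)` there are five points whose pointwise stabiliser in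
the automorphism group is trivial -/
theorem aut_rigid12 {α : Type u} [Fintype α] [DecidableEq α] (hα : Fintype.card α = 12)
    {B : Set (Finset α)} (hB : IsSteinerSystem 5 6 B) :
    ∃ x0 : Fin 5 ↪ α, ∀ g ∈ setSystemAut B, (∀ i, g (x0 i) = x0 i) → g = 1 := by
  obtain ⟨e, he⟩ := w12_std hα B hB
  refine ⟨(Fin.castLEEmb (by norm_num : 5 ≤ 12)).trans e.symm.toEmbedding, ?_⟩
  intro g hg hfix
  have hg' : e.permCongr g ∈ setSystemAut ((fun b => b.image e) '' B) :=
    (permCongr_mem_iff e rfl g).mpr hg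
  have hg'' := mem_setSystemAut_iff.mp hg'
  have hpres : ∀ c ∈ w12Std, maskF ((ofMask 12 c).image (e.permCongr g)) ∈ w12Std := by
    intro c hc
    have hclt := w12Std_lt c hc
    have h1 : ofMask 12 c ∈ (fun b => b.image e) '' B :=
      (he _).mpr (by rw [maskF_ofMask c hclt]; exact hc)
    exact (he _).mp ((hg'' _).mpr h1)
  have hfix' : ∀ i : Fin 12, (i : ℕ) < [0, 1, 2, 3, 4].length → (e.permCongr g) i = i := by
    intro i hi
    have hi5 : (i : ℕ) < 5 := hi
    have := hfix ⟨i, hi5⟩
    simp only [Function.Embedding.trans_apply, Equiv.coe_toEmbedding, Fin.castLEEmb_apply] at this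
    have hcast : Fin.castLE (by norm_num : 5 ≤ 12) ⟨(i : ℕ), hi5⟩ = i := Fin.ext rfl
    rw [hcast] at this
    rw [Equiv.permCongr_apply, this, Equiv.apply_symm_apply]
  have hone := eq_one_of_rigidAll w12Std [0, 1, 2, 3, 4] [5, 6, 7, 8, 9, 10, 11] (by decide)
    w12_rigid (e.permCongr g) hpres hfix'
  ext a
  have := congrArg (fun p : Equiv.Perm (Fin 12) => e.symm (p (e a))) hone
  simpa [Equiv.permCongr_apply] using this

end Cfsg.Agent.Lib.helper3
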