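import Mathlib
import Cfsg.Agent.Lib.helper3.StW12Rigid
import Cfsg.Agent.Lib.helper3.GolaySteiner
import Cfsg.Agent.Lib.helper3.GolayCoset
import Cfsg.Agent.S0369
import Cfsg.Agent.S0384

set_option autoImplicit false

namespace Cfsg.Agent.Lib.helper3

open Cfsg
open scoped Pointwise

universe u

/-! ### The hexads of a dodecad -/

/-- the traces on a dodecad of the octads meeting it in six points -/
def hexads (d : Finset GolayPt) : Set (Finset ↥d) :=
  {b | ∃ o ∈ octads, (o ∩ d).card = 6 ∧ b = Finset.subtype (fun a => a ∈ d) o}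

theorem octad_dodecad_inter {o d : Finset GolayPt} (ho : o ∈ octads) (hd : d ∈ dodecads) :
    (o ∩ d).card = 2 ∨ (o ∩ d).card = 4 ∨ (o ∩ d).card = 6 := by
  obtain ⟨v, hv, rfl, hv8⟩ := (mem_octads_iff o).1 ho
  obtain ⟨⟨w, hw, rfl⟩, hw12⟩ := hd
  have h := support₂_add_card v w
  have hvw : v + w ∈ golayCode := golayCode.add_mem hv hw
  have hwt := golay_weights (v + w) hvw
  have e1 : (support₂ v).card = 8 := hv8
  have e2 : (support₂ w).card = 12 := hw12
  have e3 : (support₂ (v + w)).card = hammingNorm (v + w) := rfl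
  have hle : (support₂ v ∩ support₂ w).card ≤ 8 := by
    rw [← e1]
    exact Finset.card_le_card Finset.inter_subset_left
  rw [e1, e2, e3] at h
  rcases hwt with h0 | h0 | h0 | h0 | h0 <;> omega

theorem card_subtype_mem {α : Type u} [DecidableEq α] (d o : Finset α) :
    (Finset.subtype (fun a => a ∈ d) o).card = (o ∩ d).card := by
  rw [Finset.card_subtype, Finset.filter_mem_eq_inter]

theorem hexads_steiner {d : Finset GolayPt} (hd : d ∈ dodecads) :
    IsSteinerSystem 5 6 (hexads d) := by
  constructor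
  · rintro b ⟨o, -, h6, rfl⟩
    rw [card_subtype_mem, h6]
  · intro s hs
    set s' : Finset GolayPt := s.map (Function.Embedding.subtype _) with hs'
    have hs'card : s'.card = 5 := by rw [hs', Finset.card_map, hs]
    have hs'd : s' ⊆ d := by
      intro a ha
      rw [hs', Finset.mem_map] at ha
      obtain ⟨x, -, rfl⟩ := ha
      exact x.2
    obtain ⟨o, ⟨ho, hso⟩, huniq⟩ := octads_steiner.2 s' hs'card
    have h5 : 5 ≤ (o ∩ d).card := by
      rw [← hs'card]
      exact Finset.card_le_card (Finset.subset_inter hso hs'd)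
    have h6 : (o ∩ d).card = 6 := by
      rcases octad_dodecad_inter ho hd with h | h | h <;> omega
    have hsub : ∀ o' : Finset GolayPt, s ⊆ Finset.subtype (fun a => a ∈ d) o' ↔ s' ⊆ o' := by
      intro o'
      constructor
      · intro h a ha
        rw [hs', Finset.mem_map] at ha
        obtain ⟨x, hx, rfl⟩ := ha
        have := h hx
        rwa [Finset.mem_subtype] at this
      · intro h x hx
        rw [Finset.mem_subtype]
        apply h
        rw [hs', Finset.mem_map]
        exact ⟨x, hx, rfl⟩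
    refine ⟨Finset.subtype (fun a => a ∈ d) o, ⟨⟨o, ho, h6, rfl⟩, (hsub o).mpr hso⟩, ?_⟩
    rintro b ⟨⟨o', ho', -, rfl⟩, hsb⟩
    rw [huniq o' ⟨ho', (hsub o').mp hsb⟩]

theorem subtype_image_subtypePerm {α : Type u} [DecidableEq α] (p : α → Prop) [DecidablePred p]
    (g : Equiv.Perm α) (hg : ∀ a, p (g a) ↔ p a) (c : Finset α) :
    Finset.subtype p (c.image g) = (Finset.subtype p c).image (g.subtypePerm hg) := by
  ext ⟨a, ha⟩
  simp only [Finset.mem_subtype, Finset.mem_image, Subtype.exists, Equiv.Perm.subtypePerm_apply,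
    Subtype.mk.injEq]
  constructor
  · rintro ⟨a', ha', rfl⟩
    exact ⟨a', (hg a').mp ha, ha', rfl⟩
  · rintro ⟨a', _, ha', rfl⟩
    exact ⟨a', ha', rfl⟩

theorem octads_aut_eq : M24 = setSystemAut octads := Cfsg.Agent.S0369.result

/-- the permutation of the dodecad induced by an element of its stabiliser -/
theorem stab_mem_iff {d : Finset GolayPt} (g : MulAction.stabilizer M24 d) (a : GolayPt) :
    ((g : M24) : Equiv.Perm GolayPt) a ∈ d ↔ a ∈ d :=
  MulAction.mem_stabilizer_finset.mp g.2 a

theorem restrict_mem_aut {d : Finset GolayPt} (g : MulAction.stabilizer M24 d) :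
    ((g : M24) : Equiv.Perm GolayPt).subtypePerm (stab_mem_iff g) ∈ setSystemAut (hexads d) := by
  rw [MulAction.mem_stabilizer_set' (Set.toFinite _)]
  rintro b ⟨o, ho, h6, rfl⟩
  change (Finset.subtype (fun a => a ∈ d) o).image
    (⇑(((g : M24) : Equiv.Perm GolayPt).subtypePerm (stab_mem_iff g))) ∈ hexads d
  rw [← subtype_image_subtypePerm (fun a => a ∈ d) _ (stab_mem_iff g) o]
  have hgM : ((g : M24) : Equiv.Perm GolayPt) ∈ setSystemAut octads := by
    rw [← octads_aut_eq]
    exact (g : M24).2
  refine ⟨o.image ((g : M24) : Equiv.Perm GolayPt), (mem_setSystemAut_iff.mp hgM o).mpr ho, ?_, rfl⟩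
  have : o.image ((g : M24) : Equiv.Perm GolayPt) ∩ d =
      (o ∩ d).image ((g : M24) : Equiv.Perm GolayPt) := by
    ext a
    simp only [Finset.mem_inter, Finset.mem_image]
    constructor
    · rintro ⟨⟨a', ha', rfl⟩, had⟩
      exact ⟨a', ⟨ha', (stab_mem_iff g a').mp had⟩, rfl⟩
    · rintro ⟨a', ⟨ha', had⟩, rfl⟩
      exact ⟨⟨a', ha', rfl⟩, (stab_mem_iff g a').mpr had⟩
  rw [this, Finset.card_image_of_injective _ (Equiv.injective _), h6]

/-- restriction of the stabiliser of a dodecad to the dodecad -/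
def hexRes (d : Finset GolayPt) : MulAction.stabilizer M24 d →* setSystemAut (hexads d) where
  toFun g := ⟨_, restrict_mem_aut g⟩
  map_one' := by
    apply Subtype.ext
    ext a
    rfl
  map_mul' g g' := by
    apply Subtype.ext
    ext a
    rfl

theorem hexRes_apply (d : Finset GolayPt) (g : MulAction.stabilizer M24 d) (a : ↥d) :
    ((hexRes d g : Equiv.Perm ↥d) a : GolayPt) = ((g : M24) : Equiv.Perm GolayPt) a := rfl

theorem hexRes_injective {d : Finset GolayPt} (hd : d ∈ dodecads) :
    Function.Injective (hexRes d) := by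
  rw [injective_iff_map_eq_one]
  intro g hg
  have hfix : ∀ a : ↥d, ((g : M24) : Equiv.Perm GolayPt) a = a := by
    intro a
    rw [← hexRes_apply, hg]
    rfl
  have hcard : d.card = 12 := hd.2
  obtain ⟨x⟩ : Nonempty (Fin 5 ↪ ↥d) := by
    rw [Function.Embedding.nonempty_iff_card_le]
    simp [hcard]
  set x' : Fin 5 ↪ GolayPt := x.trans (Function.Embedding.subtype _) with hx'
  obtain ⟨g0, -, huniq⟩ := Cfsg.Agent.S0384.result d hd x' x' (fun i => (x i).2) (fun i => (x i).2)
  have h1 := huniq g (fun i => hfix (x i))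
  have h2 := huniq 1 (fun i => rfl)
  rw [h1, h2]

theorem hexads_five (d : Finset GolayPt) (hd : d ∈ dodecads) :
    MulAction.IsMultiplyPretransitive (setSystemAut (hexads d)) ↥d 5 := by
  rw [MulAction.isMultiplyPretransitive_iff]
  intro x y
  obtain ⟨g, hg, -⟩ := Cfsg.Agent.S0384.result d hd (x.trans (Function.Embedding.subtype _))
    (y.trans (Function.Embedding.subtype _)) (fun i => (x i).2) (fun i => (y i).2)
  refine ⟨hexRes d g, ?_⟩
  apply Function.Embedding.ext
  intro i
  apply Subtype.ext
  rw [Function.Embedding.smul_apply]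
  exact hg i

end Cfsg.Agent.Lib.helper3
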