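import Mathlib
import Cfsg.Agent.Lib.helper3.StW12Model
import Cfsg.Agent.Lib.helper3.Golay
import Cfsg.Agent.S0382
import Cfsg.Agent.S0383
import Cfsg.Prelude.Def_Sporadic

set_option autoImplicit false

namespace Cfsg.Agent.Lib.helper3

open Cfsg
open scoped Pointwise

universe u

/-! ### The automorphism group of the Steiner systems `S(5, 6, 12)` -/

/-- a 5-transitive automorphism group of an `S(5, 6, 12)` is sharply 5-transitive -/
theorem aut12_sharp {α : Type u} [Fintype α] [DecidableEq α] (hα : Fintype.card α = 12)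
    {B : Set (Finset α)} (hB : IsSteinerSystem 5 6 B)
    (htrans : MulAction.IsMultiplyPretransitive (setSystemAut B) α 5) :
    (∀ x : Fin 5 ↪ α, MulAction.stabilizer (setSystemAut B) x = ⊥) ∧
      Nat.card (setSystemAut B) = 95040 := by
  obtain ⟨x0, hx0⟩ := aut_rigid12 hα hB
  have htr : ∀ x y : Fin 5 ↪ α, ∃ g : setSystemAut B, ∀ i, (g : Equiv.Perm α) (x i) = y i := by
    intro x y
    obtain ⟨g, hg⟩ := (MulAction.isMultiplyPretransitive_iff.mp htrans) x y
    exact ⟨g, fun i => congrArg (fun z : Fin 5 ↪ α => z i) hg⟩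
  have hall : ∀ x : Fin 5 ↪ α, MulAction.stabilizer (setSystemAut B) x = ⊥ := by
    intro x
    rw [Subgroup.eq_bot_iff_forall]
    intro g hg
    rw [MulAction.mem_stabilizer_iff] at hg
    have hgx : ∀ i, (g : Equiv.Perm α) (x i) = x i := fun i =>
      congrArg (fun z : Fin 5 ↪ α => z i) hg
    obtain ⟨k, hk⟩ := htr x0 x
    have h1 : ((k⁻¹ * g * k : setSystemAut B) : Equiv.Perm α) = 1 := by
      apply hx0 _ (k⁻¹ * g * k).2
      intro i
      change (k : Equiv.Perm α)⁻¹ ((g : Equiv.Perm α) ((k : Equiv.Perm α) (x0 i))) = x0 i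
      rw [hk i, hgx i, ← hk i]
      exact Equiv.symm_apply_apply (k : Equiv.Perm α) (x0 i)
    have h2 : k⁻¹ * g * k = 1 := Subtype.ext h1
    have := congrArg (fun z => k * z * k⁻¹) h2
    simpa [mul_assoc] using this
  refine ⟨hall, ?_⟩
  have hbij : Function.Bijective
      (fun g : setSystemAut B => x0.trans (g : Equiv.Perm α).toEmbedding) := by
    constructor
    · intro g g' hgg
      have hfix : ∀ i, ((g'⁻¹ * g : setSystemAut B) : Equiv.Perm α) (x0 i) = x0 i := by
        intro i
        have := congrArg (fun z : Fin 5 ↪ α => z i) hgg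
        simp only [Function.Embedding.trans_apply, Equiv.coe_toEmbedding] at this
        change (g' : Equiv.Perm α)⁻¹ ((g : Equiv.Perm α) (x0 i)) = x0 i
        rw [this]
        exact Equiv.symm_apply_apply (g' : Equiv.Perm α) (x0 i)
      have h1 := hx0 _ (g'⁻¹ * g).2 hfix
      have h2 : g'⁻¹ * g = 1 := Subtype.ext h1
      exact (inv_mul_eq_one.mp h2).symm
    · intro y
      obtain ⟨g, hg⟩ := htr x0 y
      exact ⟨g, Function.Embedding.ext hg⟩
  rw [Nat.card_eq_of_bijective _ hbij, Nat.card_eq_fintype_card, Fintype.card_embedding_eq, hα,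
    Fintype.card_fin]
  rfl

theorem exists_dodecad : ∃ d : Finset GolayPt, d ∈ dodecads := by
  have h : dodecads.ncard ≠ 0 := by
    rw [dodecads_ncard]
    norm_num
  exact Set.nonempty_of_ncard_ne_zero h

theorem hexRes_bijective {d : Finset GolayPt} (hd : d ∈ dodecads) :
    Function.Bijective (hexRes d) := by
  have hc12 : Fintype.card ↥d = 12 := by
    rw [Fintype.card_coe]
    exact hd.2
  have hsharp := aut12_sharp hc12 (hexads_steiner hd) (hexads_five d hd)
  rw [Nat.bijective_iff_injective_and_card]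
  exact ⟨hexRes_injective hd, by rw [hsharp.2, Cfsg.Agent.S0382.result d hd]⟩

/-- the automorphism group of any Steiner system `S(5, 6, 12)` -/
theorem w12_aut {α : Type u} [Fintype α] [DecidableEq α] (hα : Fintype.card α = 12)
    {B : Set (Finset α)} (hB : IsSteinerSystem 5 6 B) :
    IsM12 (setSystemAut B) ∧ MulAction.IsMultiplyPretransitive (setSystemAut B) α 5 ∧
      ∀ x : Fin 5 ↪ α, MulAction.stabilizer (setSystemAut B) x = ⊥ := by
  obtain ⟨d, hd⟩ := exists_dodecad
  have hc12 : Fintype.card ↥d = 12 := by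
    rw [Fintype.card_coe]
    exact hd.2
  obtain ⟨e, he⟩ : SetSystemIso (hexads d) B := by
    obtain ⟨e1, he1⟩ := w12_std hc12 _ (hexads_steiner hd)
    obtain ⟨e2, he2⟩ := w12_std hα B hB
    exact iso_of_isStdVia he1 he2
  obtain ⟨φ, hφ⟩ := aut_transfer e he
  have h5 : MulAction.IsMultiplyPretransitive (setSystemAut B) α 5 :=
    isMultiplyPretransitive_of_equiv φ e hφ 5 (hexads_five d hd)
  have hsharp := aut12_sharp hα hB h5
  let ψ : MulAction.stabilizer M24 d ≃* setSystemAut B :=
    (MulEquiv.ofBijective (hexRes d) (hexRes_bijective hd)).trans φ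
  have : IsSimpleGroup (MulAction.stabilizer M24 d) := Cfsg.Agent.S0383.result d hd
  exact ⟨⟨ψ.symm.isSimpleGroup, hsharp.2⟩, h5, hsharp.1⟩

end Cfsg.Agent.Lib.helper3
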