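import Mathlib
import Cfsg.Agent.Lib.helper3.TGMon
import Cfsg.Agent.Lib.helper3.StW12Aut
import Cfsg.Agent.S1592
import Cfsg.Agent.S1593

set_option autoImplicit false

/-! The monomial automorphism group of the ternary code of length 12. -/

namespace Cfsg.Agent.Lib.helper3

open Cfsg Cfsg.Agent.Lib.Lead.TG

/-- stepwise transitivity gives multiple transitivity -/
theorem exists_of_stages {α : Type*} (P : Set (Equiv.Perm α)) (h1 : (1 : Equiv.Perm α) ∈ P)
    (hmul : ∀ σ ∈ P, ∀ τ ∈ P, σ * τ ∈ P) (n : ℕ) (b : ℕ → α)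
    (H : ∀ k < n, ∀ z : α, (∀ j < k, z ≠ b j) →
      ∃ τ ∈ P, (∀ j < k, τ (b j) = b j) ∧ τ (b k) = z) :
    ∀ k ≤ n, ∀ y : ℕ → α, (∀ i < k, ∀ j < k, y i = y j → i = j) →
      ∃ σ ∈ P, ∀ i < k, σ (b i) = y i := by
  intro k
  induction k with
  | zero =>
    intro _ y _
    exact ⟨1, h1, fun i hi => absurd hi (Nat.not_lt_zero _)⟩
  | succ k ih =>
    intro hk y hy
    obtain ⟨σ, hσ, hσy⟩ := ih (by omega) y (fun i hi j hj => hy i (by omega) j (by omega))
    have hz : ∀ j < k, σ.symm (y k) ≠ b j := by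
      intro j hj h
      have h2 : y k = σ (b j) := by rw [← h, Equiv.apply_symm_apply]
      rw [hσy j hj] at h2
      have := hy k (by omega) j (by omega) h2
      omega
    obtain ⟨τ, hτ, hτfix, hτk⟩ := H k (by omega) _ hz
    refine ⟨σ * τ, hmul σ hσ τ hτ, fun i hi => ?_⟩
    rcases Nat.lt_succ_iff_lt_or_eq.mp hi with h | rfl
    · rw [Equiv.Perm.mul_apply, hτfix i h, hσy i h]
    · rw [Equiv.Perm.mul_apply, hτk, Equiv.apply_symm_apply]

/-- the permutation parts of the monomial automorphisms are 5-transitive -/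
theorem monAut_five (y : Fin 5 ↪ ArrayPt) :
    ∃ σ : Equiv.Perm ArrayPt, IsMonAut σ ∧ ∀ i : Fin 5, σ (tgPt i.val) = y i := by
  have H : ∀ k < 5, ∀ z : ArrayPt, (∀ j < k, z ≠ tgPt j) →
      ∃ τ ∈ {σ | IsMonAut σ}, (∀ j < k, τ (tgPt j) = tgPt j) ∧ τ (tgPt k) = z := by
    intro k hk z hz
    obtain ⟨d, hd, hfix, hk'⟩ := stage_cover ⟨k, hk⟩ z (fun j hj => hz j.val hj)
    obtain ⟨τ, hτ, hτd⟩ := tgood_spec d (stage_good ⟨k, hk⟩ d hd)
    refine ⟨τ, hτ, fun j hj => ?_, ?_⟩
    · rw [hτd]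
      exact hfix ⟨j, by omega⟩ hj
    · rw [hτd]
      exact hk'
  have := exists_of_stages {σ | IsMonAut σ} isMonAut_one (fun σ hσ τ hτ => isMonAut_mul hσ hτ) 5
    tgPt H 5 le_rfl (fun i => if h : i < 5 then y ⟨i, h⟩ else y 0) (by
      intro i hi j hj hij
      rw [dif_pos hi, dif_pos hj] at hij
      have := y.injective hij
      exact congrArg Fin.val this)
  obtain ⟨σ, hσ, hσy⟩ := this
  refine ⟨σ, hσ, fun i => ?_⟩
  rw [hσy i.val i.isLt, dif_pos i.isLt]

theorem card_arrayPt' : Fintype.card ArrayPt = 12 := by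
  simp [Fintype.card_prod, ZMod.card]

theorem card_monAut_ge : 95040 ≤ Nat.card {σ : Equiv.Perm ArrayPt // IsMonAut σ} := by
  have hb : Function.Injective (fun i : Fin 5 => tgPt i.val) := by decide
  let Φ : {σ : Equiv.Perm ArrayPt // IsMonAut σ} → (Fin 5 ↪ ArrayPt) :=
    fun σ => (⟨fun i : Fin 5 => tgPt i.val, hb⟩ : Fin 5 ↪ ArrayPt).trans σ.1.toEmbedding
  have hΦ : Function.Surjective Φ := by
    intro y
    obtain ⟨σ, hσ, hσy⟩ := monAut_five y
    exact ⟨⟨σ, hσ⟩, Function.Embedding.ext (fun i => hσy i)⟩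
  have h := Nat.card_le_card_of_surjective Φ hΦ
  have hc : Nat.card (Fin 5 ↪ ArrayPt) = 95040 := by
    rw [Nat.card_eq_fintype_card, Fintype.card_embedding_eq, card_arrayPt', Fintype.card_fin]
    rfl
  omega

theorem ternarySupport_monomialMap (σ : Equiv.Perm ArrayPt) (c : ArrayPt → (ZMod 3)ˣ)
    (x : ArrayPt → ZMod 3) :
    ternarySupport (monomialMap σ c x) = (ternarySupport x).image σ := by
  ext i
  rw [Cfsg.Agent.S1592.mem_supp, Finset.mem_image]
  show ((c i : (ZMod 3)ˣ) : ZMod 3) * x (σ.symm i) ≠ 0 ↔ _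
  rw [ne_eq, Units.mul_right_eq_zero]
  constructor
  · intro h
    exact ⟨σ.symm i, (Cfsg.Agent.S1592.mem_supp _ _).mpr h, Equiv.apply_symm_apply _ _⟩
  · rintro ⟨a, ha, rfl⟩
    rw [Equiv.symm_apply_apply]
    exact (Cfsg.Agent.S1592.mem_supp _ _).mp ha

/-- for a finite set system, mapping blocks to blocks suffices -/
theorem mem_setSystemAut_of_forall {α : Type*} [DecidableEq α] [Finite α] {B : Set (Finset α)}
    (g : Equiv.Perm α) (h : ∀ b ∈ B, b.image g ∈ B) : g ∈ setSystemAut B := by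
  rw [mem_setSystemAut_iff]
  have hinj : Function.Injective (fun b : Finset α => b.image g) :=
    Finset.image_injective g.injective
  have hsub : (fun b : Finset α => b.image g) '' B ⊆ B := by
    rintro _ ⟨b, hb, rfl⟩
    exact h b hb
  have heq : (fun b : Finset α => b.image g) '' B = B :=
    Set.eq_of_subset_of_ncard_le hsub (by rw [Set.ncard_image_of_injective _ hinj]) (Set.toFinite B)
  intro b
  constructor
  · intro hb
    rw [← heq] at hb
    obtain ⟨b', hb', hbb⟩ := hb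
    rw [← hinj hbb]
    exact hb'
  · exact h b

/-- the hexads of the ternary code -/
def tHex : Set (Finset ArrayPt) :=
  {h : Finset ArrayPt | ∃ x ∈ ternaryGolayCode, ternarySupport x = h ∧ h.card = 6}

theorem monAut_subset : {σ : Equiv.Perm ArrayPt | IsMonAut σ} ⊆ (setSystemAut tHex : Set _) := by
  rintro σ ⟨c, hc⟩
  apply mem_setSystemAut_of_forall
  rintro b ⟨x, hx, rfl, h6⟩
  refine ⟨monomialMap σ c x, hc x hx, ternarySupport_monomialMap σ c x, ?_⟩
  rw [Finset.card_image_of_injective _ σ.injective]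
  exact h6

theorem card_tHex_aut : Nat.card (setSystemAut tHex) = 95040 :=
  (w12_aut card_arrayPt' Cfsg.Agent.S1592.result.1).1.2

theorem monAut_eq : {σ : Equiv.Perm ArrayPt | IsMonAut σ} = (setSystemAut tHex : Set _) := by
  apply Set.eq_of_subset_of_ncard_le monAut_subset _ (Set.toFinite _)
  have h1 : (setSystemAut tHex : Set (Equiv.Perm ArrayPt)).ncard = 95040 := by
    rw [← card_tHex_aut]
    exact (Nat.card_coe_set_eq _)
  have h2 : {σ : Equiv.Perm ArrayPt | IsMonAut σ}.ncard =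
      Nat.card {σ : Equiv.Perm ArrayPt // IsMonAut σ} := (Nat.card_coe_set_eq _).symm
  rw [h1, h2]
  exact card_monAut_ge

theorem card_monAut : Nat.card {σ : Equiv.Perm ArrayPt // IsMonAut σ} = 95040 := by
  have h2 : {σ : Equiv.Perm ArrayPt | IsMonAut σ}.ncard =
      Nat.card {σ : Equiv.Perm ArrayPt // IsMonAut σ} := (Nat.card_coe_set_eq _).symm
  rw [← h2, monAut_eq, ← card_tHex_aut]
  exact (Nat.card_coe_set_eq _)

theorem monomialMap_injective (σ : Equiv.Perm ArrayPt) (c : ArrayPt → (ZMod 3)ˣ) :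
    Function.Injective (monomialMap σ c) := by
  intro x y h
  funext p
  have := congrFun h (σ p)
  simp only [monomialMap, Equiv.symm_apply_apply] at this
  exact (c (σ p)).isUnit.mul_left_cancel this

/-- a monomial map preserving the code maps it onto itself -/
theorem monomialMap_surjOn (σ : Equiv.Perm ArrayPt) (c : ArrayPt → (ZMod 3)ˣ)
    (h : ∀ x ∈ ternaryGolayCode, monomialMap σ c x ∈ ternaryGolayCode)
    (y : ArrayPt → ZMod 3) (hy : y ∈ ternaryGolayCode) :
    ∃ x ∈ ternaryGolayCode, monomialMap σ c x = y := by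
  let F : ternaryGolayCode → ternaryGolayCode := fun x => ⟨monomialMap σ c x.1, h x.1 x.2⟩
  have hF : Function.Injective F := by
    intro x x' hxx
    exact Subtype.ext (monomialMap_injective σ c (congrArg Subtype.val hxx))
  obtain ⟨x, hx⟩ := (Finite.injective_iff_surjective.mp hF) ⟨y, hy⟩
  exact ⟨x.1, x.2, congrArg Subtype.val hx⟩

theorem units3_cases : ∀ u v : (ZMod 3)ˣ, u = v ∨ u = -v := by decide

theorem units3_neg_ne : ∀ u : (ZMod 3)ˣ, -u ≠ u := by decide

/-- two sign vectors for the same permutation differ by a global sign -/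
theorem sign_unique (σ : Equiv.Perm ArrayPt) (c c' : ArrayPt → (ZMod 3)ˣ)
    (h : ∀ x ∈ ternaryGolayCode, monomialMap σ c x ∈ ternaryGolayCode)
    (h' : ∀ x ∈ ternaryGolayCode, monomialMap σ c' x ∈ ternaryGolayCode)
    (h0 : c (0, 0) = c' (0, 0)) : c = c' := by
  have hd : ∀ y ∈ ternaryGolayCode,
      monomialMap 1 (fun i => c' i * (c i)⁻¹) y ∈ ternaryGolayCode := by
    intro y hy
    obtain ⟨x, hx, rfl⟩ := monomialMap_surjOn σ c h y hy
    have : monomialMap 1 (fun i => c' i * (c i)⁻¹) (monomialMap σ c x) = monomialMap σ c' x := by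
      funext i
      show ((c' i * (c i)⁻¹ : (ZMod 3)ˣ) : ZMod 3) * (((c i : (ZMod 3)ˣ) : ZMod 3) * x (σ.symm i)) =
        ((c' i : (ZMod 3)ˣ) : ZMod 3) * x (σ.symm i)
      rw [← mul_assoc, ← Units.val_mul, inv_mul_cancel_right]
    rw [this]
    exact h' x hx
  funext p
  rcases Cfsg.Agent.S1593.result _ hd with h1 | h1
  · have := h1 p
    rw [mul_inv_eq_one] at this
    exact this.symm
  · exfalso
    have := h1 (0, 0)
    rw [h0, mul_inv_cancel] at this
    revert this
    decide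

/-- the monomial automorphism group is a double cover of its permutation parts -/
theorem card_mon : Nat.card {f : Equiv.Perm ArrayPt × (ArrayPt → (ZMod 3)ˣ) //
    ∀ x ∈ ternaryGolayCode, monomialMap f.1 f.2 x ∈ ternaryGolayCode} = 190080 := by
  let Φ : {f : Equiv.Perm ArrayPt × (ArrayPt → (ZMod 3)ˣ) //
      ∀ x ∈ ternaryGolayCode, monomialMap f.1 f.2 x ∈ ternaryGolayCode} →
      {σ : Equiv.Perm ArrayPt // IsMonAut σ} × (ZMod 3)ˣ :=
    fun f => (⟨f.1.1, ⟨f.1.2, f.2⟩⟩, f.1.2 (0, 0))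
  have hΦ : Function.Bijective Φ := by
    constructor
    · rintro ⟨⟨σ, c⟩, h⟩ ⟨⟨σ', c'⟩, h'⟩ heq
      have h1 : σ = σ' := congrArg (fun t => t.1.1) heq
      have h2 : c (0, 0) = c' (0, 0) := congrArg (fun t => t.2) heq
      subst h1
      have := sign_unique σ c c' h h' h2
      subst this
      rfl
    · rintro ⟨⟨σ, c, hc⟩, u⟩
      rcases units3_cases u (c (0, 0)) with hu | hu
      · exact ⟨⟨(σ, c), hc⟩, by rw [hu]⟩
      · refine ⟨⟨(σ, fun i => -c i), fun x hx => ?_⟩, by rw [hu]⟩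
        show monomialMap σ (fun i => -c i) x ∈ ternaryGolayCode
        rw [monomialMap_neg_sign]
        exact Submodule.neg_mem _ (hc x hx)
  rw [Nat.card_congr (Equiv.ofBijective Φ hΦ), Nat.card_prod, card_monAut]
  have : Nat.card (ZMod 3)ˣ = 2 := by
    rw [Nat.card_eq_fintype_card]
    rfl
  rw [this]

end Cfsg.Agent.Lib.helper3
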