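import Mathlib
import Cfsg.Agent.Lib.helper3.HSUnique
import Cfsg.Agent.Lib.helper3.StW22Main
import Cfsg.Agent.Lib.helper3.TGMonMain
import Cfsg.Agent.S0428

set_option autoImplicit false

/-! The automorphism group of the point-block graph of a Steiner system `S(3, 6, 22)`. -/

namespace Cfsg.Agent.Lib.helper3

open Cfsg Finset Cfsg.Agent.Lib.helper2

universe u

variable {α : Type u} [Fintype α] [DecidableEq α] {B : Set (Finset α)}

/-- the permutation of the blocks induced by an automorphism of the system -/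
def autBlockEquiv (π : setSystemAut B) : B ≃ B where
  toFun b := ⟨b.1.image π.1, (mem_setSystemAut_iff.mp π.2 b.1).mpr b.2⟩
  invFun b := ⟨b.1.image (π⁻¹).1, (mem_setSystemAut_iff.mp (π⁻¹).2 b.1).mpr b.2⟩
  left_inv b := by
    apply Subtype.ext
    show (b.1.image π.1).image (π.1⁻¹ : Equiv.Perm α) = b.1
    rw [Finset.image_image]
    have : (⇑(π.1⁻¹ : Equiv.Perm α) ∘ ⇑π.1) = id := by
      funext a
      simp
    rw [this, Finset.image_id]
  right_inv b := by
    apply Subtype.ext
    show (b.1.image (π.1⁻¹ : Equiv.Perm α)).image π.1 = b.1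
    rw [Finset.image_image]
    have : (⇑π.1 ∘ ⇑(π.1⁻¹ : Equiv.Perm α)) = id := by
      funext a
      simp
    rw [this, Finset.image_id]

/-- the automorphism of the point-block graph induced by an automorphism of the system -/
def autGraphIso (hB : IsSteinerSystem 3 6 B) (π : setSystemAut B) :
    pointBlockGraph B ≃g pointBlockGraph B where
  toEquiv := Equiv.optionCongr (Equiv.sumCongr π.1 (autBlockEquiv π))
  map_rel_iff' := by
    intro x y
    rcases x with _ | a | b <;> rcases y with _ | a' | c
    · exact ⟨fun hh => absurd hh stn22_pb_none_none, fun hh => absurd hh stn22_pb_none_none⟩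
    · exact ⟨fun _ => stn22_pb_none_inl _, fun _ => stn22_pb_none_inl _⟩
    · exact ⟨fun hh => absurd hh (stn22_pb_none_inr _), fun hh => absurd hh (stn22_pb_none_inr _)⟩
    · exact ⟨fun _ => stn22_pb_inl_none _, fun _ => stn22_pb_inl_none _⟩
    · exact ⟨fun hh => absurd hh (stn22_pb_inl_inl _ _), fun hh => absurd hh (stn22_pb_inl_inl _ _)⟩
    · show (pointBlockGraph B).Adj (some (Sum.inl (π.1 a))) (some (Sum.inr (autBlockEquiv π c))) ↔ _
      rw [stn22_pb_inl_inr, stn22_pb_inl_inr]
      show π.1 a ∈ c.1.image π.1 ↔ _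
      rw [π.1.injective.mem_finset_image]
    · exact ⟨fun hh => absurd hh (stn22_pb_inr_none _), fun hh => absurd hh (stn22_pb_inr_none _)⟩
    · show (pointBlockGraph B).Adj (some (Sum.inr (autBlockEquiv π b))) (some (Sum.inl (π.1 a'))) ↔ _
      rw [stn22_pb_inr_inl, stn22_pb_inr_inl]
      show π.1 a' ∈ b.1.image π.1 ↔ _
      rw [π.1.injective.mem_finset_image]
    · show (pointBlockGraph B).Adj (some (Sum.inr (autBlockEquiv π b)))
        (some (Sum.inr (autBlockEquiv π c))) ↔ _
      rw [stn22_pb_inr_inr hB, stn22_pb_inr_inr hB]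
      show Disjoint (b.1.image π.1) (c.1.image π.1) ↔ _
      rw [Finset.disjoint_image π.1.injective]

theorem autGraphIso_none (hB : IsSteinerSystem 3 6 B) (π : setSystemAut B) :
    autGraphIso hB π none = none := rfl

theorem autGraphIso_inl (hB : IsSteinerSystem 3 6 B) (π : setSystemAut B) (a : α) :
    autGraphIso hB π (some (Sum.inl a)) = some (Sum.inl (π.1 a)) := rfl

theorem autGraphIso_inr (hB : IsSteinerSystem 3 6 B) (π : setSystemAut B) (b : B) :
    autGraphIso hB π (some (Sum.inr b)) = some (Sum.inr (autBlockEquiv π b)) := rfl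

theorem pb_adj_none_iff (x : Option (α ⊕ B)) :
    (pointBlockGraph B).Adj none x ↔ ∃ a, x = some (Sum.inl a) := by
  rcases x with _ | a | b
  · exact ⟨fun hh => absurd hh stn22_pb_none_none, fun ⟨a, ha⟩ => by simp at ha⟩
  · exact ⟨fun _ => ⟨a, rfl⟩, fun _ => stn22_pb_none_inl _⟩
  · exact ⟨fun hh => absurd hh (stn22_pb_none_inr _), fun ⟨a, ha⟩ => by simp at ha⟩

/-- an automorphism fixing the extra vertex maps points to points -/
theorem hsaut_pt (φ : pointBlockGraph B ≃g pointBlockGraph B) (hφ : φ none = none) (a : α) :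
    ∃ a', φ (some (Sum.inl a)) = some (Sum.inl a') := by
  have h1 : (pointBlockGraph B).Adj (φ none) (φ (some (Sum.inl a))) :=
    φ.map_rel_iff.mpr (stn22_pb_none_inl a)
  rw [hφ] at h1
  exact (pb_adj_none_iff _).mp h1

theorem hsaut_symm_none (φ : pointBlockGraph B ≃g pointBlockGraph B) (hφ : φ none = none) :
    φ.symm none = none := by
  rw [← hφ, RelIso.symm_apply_apply, hφ]

/-- the point map of an automorphism fixing the extra vertex -/
noncomputable def hsautPt (φ : pointBlockGraph B ≃g pointBlockGraph B) (hφ : φ none = none)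
    (a : α) : α := Classical.choose (hsaut_pt φ hφ a)

theorem hsautPt_spec (φ : pointBlockGraph B ≃g pointBlockGraph B) (hφ : φ none = none) (a : α) :
    φ (some (Sum.inl a)) = some (Sum.inl (hsautPt φ hφ a)) :=
  Classical.choose_spec (hsaut_pt φ hφ a)

/-- the point permutation of an automorphism fixing the extra vertex -/
noncomputable def hsautPerm (φ : pointBlockGraph B ≃g pointBlockGraph B) (hφ : φ none = none) :
    Equiv.Perm α where
  toFun := hsautPt φ hφ
  invFun := hsautPt φ.symm (hsaut_symm_none φ hφ)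
  left_inv a := by
    have h1 := hsautPt_spec φ.symm (hsaut_symm_none φ hφ) (hsautPt φ hφ a)
    rw [← hsautPt_spec φ hφ a, RelIso.symm_apply_apply] at h1
    exact (Sum.inl_injective (Option.some_injective _ h1)).symm
  right_inv a := by
    have h1 := hsautPt_spec φ hφ (hsautPt φ.symm (hsaut_symm_none φ hφ) a)
    rw [← hsautPt_spec φ.symm (hsaut_symm_none φ hφ) a, RelIso.apply_symm_apply] at h1
    exact (Sum.inl_injective (Option.some_injective _ h1)).symm

theorem hsautPerm_spec (φ : pointBlockGraph B ≃g pointBlockGraph B) (hφ : φ none = none) (a : α) :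
    φ (some (Sum.inl a)) = some (Sum.inl (hsautPerm φ hφ a)) := hsautPt_spec φ hφ a

/-- an automorphism fixing the extra vertex maps blocks to blocks, by its point permutation -/
theorem hsaut_blk (φ : pointBlockGraph B ≃g pointBlockGraph B) (hφ : φ none = none) (b : B) :
    ∃ b' : B, φ (some (Sum.inr b)) = some (Sum.inr b') ∧ b'.1 = b.1.image (hsautPerm φ hφ) := by
  rcases hcase : φ (some (Sum.inr b)) with _ | a' | b'
  · exfalso
    rw [← hφ] at hcase
    have := φ.injective hcase
    simp at this
  · exfalso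
    obtain ⟨a, ha⟩ := hsaut_pt φ.symm (hsaut_symm_none φ hφ) a'
    rw [← hcase, RelIso.symm_apply_apply] at ha
    simp at ha
  · refine ⟨b', rfl, ?_⟩
    ext a'
    obtain ⟨a, rfl⟩ := (hsautPerm φ hφ).surjective a'
    rw [(hsautPerm φ hφ).injective.mem_finset_image, ← stn22_pb_inl_inr, ← hsautPerm_spec φ hφ a,
      ← hcase, φ.map_rel_iff, stn22_pb_inl_inr]

theorem hsautPerm_mem (φ : pointBlockGraph B ≃g pointBlockGraph B) (hφ : φ none = none) :
    hsautPerm φ hφ ∈ setSystemAut B := by
  apply mem_setSystemAut_of_forall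
  intro b hb
  obtain ⟨b', _, hb'⟩ := hsaut_blk φ hφ ⟨b, hb⟩
  rw [← hb']
  exact b'.2

theorem autGraphIso_hsautPerm (hB : IsSteinerSystem 3 6 B)
    (φ : pointBlockGraph B ≃g pointBlockGraph B) (hφ : φ none = none) :
    autGraphIso hB ⟨hsautPerm φ hφ, hsautPerm_mem φ hφ⟩ = φ := by
  apply RelIso.ext
  intro x
  rcases x with _ | a | b
  · rw [autGraphIso_none, hφ]
  · rw [autGraphIso_inl, hsautPerm_spec φ hφ a]
  · obtain ⟨b', h1, h2⟩ := hsaut_blk φ hφ b
    rw [autGraphIso_inr, h1]
    congr 2
    exact Subtype.ext h2.symm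

/-- the stabiliser of the extra vertex is the automorphism group of the system -/
theorem card_stabilizer_none (hB : IsSteinerSystem 3 6 B) :
    Nat.card (MulAction.stabilizer (pointBlockGraph B ≃g pointBlockGraph B)
      (none : Option (α ⊕ B))) = Nat.card (setSystemAut B) := by
  symm
  let F : setSystemAut B → MulAction.stabilizer (pointBlockGraph B ≃g pointBlockGraph B)
      (none : Option (α ⊕ B)) := fun π => ⟨autGraphIso hB π, autGraphIso_none hB π⟩
  apply Nat.card_congr (Equiv.ofBijective F ⟨?_, ?_⟩)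
  · intro π π' hh
    apply Subtype.ext
    apply Equiv.ext
    intro a
    have h1 : autGraphIso hB π (some (Sum.inl a)) = autGraphIso hB π' (some (Sum.inl a)) := by
      have := congrArg (fun t : MulAction.stabilizer (pointBlockGraph B ≃g pointBlockGraph B)
        (none : Option (α ⊕ B)) => t.1 (some (Sum.inl a))) hh
      exact this
    rw [autGraphIso_inl, autGraphIso_inl] at h1
    exact Sum.inl_injective (Option.some_injective _ h1)
  · rintro ⟨φ, hφ⟩
    have hφ' : φ none = none := hφ
    exact ⟨⟨hsautPerm φ hφ', hsautPerm_mem φ hφ'⟩, Subtype.ext (autGraphIso_hsautPerm hB φ hφ')⟩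

/-- the order of the automorphism group of the point-block graph -/
theorem card_hs_aut (hα : Fintype.card α = 22) (hB : IsSteinerSystem 3 6 B) :
    Nat.card (pointBlockGraph B ≃g pointBlockGraph B) = 88704000 := by
  classical
  haveI : Fintype B := Fintype.ofFinite B
  have hsrg := Cfsg.Agent.S0428.result hα hB
  have hΓ := isHS100_of_srg (pointBlockGraph B) hsrg
  haveI : MulAction.IsPretransitive (pointBlockGraph B ≃g pointBlockGraph B) (Option (α ⊕ B)) := by
    refine ⟨fun x y => ?_⟩
    obtain ⟨φx, hx⟩ := hs_pointed hα hB hΓ x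
    obtain ⟨φy, hy⟩ := hs_pointed hα hB hΓ y
    refine ⟨φy⁻¹ * φx, ?_⟩
    show φy⁻¹ (φx x) = y
    rw [hx, ← hy, RelIso.inv_apply_self]
  have h1 := MulAction.index_stabilizer_of_transitive (pointBlockGraph B ≃g pointBlockGraph B)
    (none : Option (α ⊕ B))
  have h2 := (MulAction.stabilizer (pointBlockGraph B ≃g pointBlockGraph B)
    (none : Option (α ⊕ B))).index_mul_card
  rw [h1, card_stabilizer_none hB, (w22_aut hα hB).1, Nat.card_eq_fintype_card, hΓ.card] at h2
  rw [← h2]

end Cfsg.Agent.Lib.helper3
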