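import Cfsg.Agent.Lib.helper3.A7Trans

set_option autoImplicit false
set_option linter.unusedSectionVars false

/-!
# Rank 3 permutation groups with two suborbits of different sizes give strongly regular graphs
-/

namespace Cfsg.Agent.Lib.helper3

open MulAction

section rank3

variable {Ω : Type*} [Fintype Ω] [DecidableEq Ω] (G : Subgroup (Equiv.Perm Ω)) (a b c : Ω)

/-- the orbital relation of the pair `(a, b)` -/
def r3Rel (x y : Ω) : Prop := ∃ g : ↥G, g • a = x ∧ g • b = y

/-- the orbital graph -/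
def r3Graph : SimpleGraph Ω := SimpleGraph.fromRel (r3Rel G a b)

variable {G a b c}

theorem r3_smul_def (g : ↥G) (x : Ω) : g • x = (g : Equiv.Perm Ω) x := rfl

/-- the hypotheses of a rank 3 action with subdegrees `1, k, l` -/
structure R3Hyp (G : Subgroup (Equiv.Perm Ω)) (a b c : Ω) (k l : ℕ) : Prop where
  trans : MulAction.IsPretransitive ↥G Ω
  hk : (orbit ↥(stabilizer ↥G a) b).ncard = k
  hl : (orbit ↥(stabilizer ↥G a) c).ncard = l
  hkl : k ≠ l
  hk1 : k ≠ 1
  hl1 : l ≠ 1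
  hn : Fintype.card Ω = 1 + k + l

variable {k l : ℕ}

theorem r3_orbit_self : orbit ↥(stabilizer ↥G a) a = {a} := by
  ext y
  constructor
  · rintro ⟨s, rfl⟩
    exact s.2
  · rintro rfl
    exact mem_orbit_self _

theorem r3_b_ne (h : R3Hyp G a b c k l) : b ≠ a := by
  rintro rfl
  have := h.hk
  rw [r3_orbit_self, Set.ncard_singleton] at this
  exact h.hk1 this.symm

theorem r3_c_ne (h : R3Hyp G a b c k l) : c ≠ a := by
  rintro rfl
  have := h.hl
  rw [r3_orbit_self, Set.ncard_singleton] at this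
  exact h.hl1 this.symm

theorem r3_a_notMem_b (h : R3Hyp G a b c k l) : a ∉ orbit ↥(stabilizer ↥G a) b := by
  intro hm
  have := orbit_eq_iff.mpr hm
  have h2 := h.hk
  rw [← this, r3_orbit_self, Set.ncard_singleton] at h2
  exact h.hk1 h2.symm

theorem r3_a_notMem_c (h : R3Hyp G a b c k l) : a ∉ orbit ↥(stabilizer ↥G a) c := by
  intro hm
  have := orbit_eq_iff.mpr hm
  have h2 := h.hl
  rw [← this, r3_orbit_self, Set.ncard_singleton] at h2
  exact h.hl1 h2.symm

theorem r3_disj (h : R3Hyp G a b c k l) (y : Ω) (hb : y ∈ orbit ↥(stabilizer ↥G a) b)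
    (hc : y ∈ orbit ↥(stabilizer ↥G a) c) : False := by
  have h1 := orbit_eq_iff.mpr hb
  have h2 := orbit_eq_iff.mpr hc
  apply h.hkl
  rw [← h.hk, ← h.hl, ← h1, ← h2]

/-- the three suborbits cover everything -/
theorem r3_cover (h : R3Hyp G a b c k l) (y : Ω) :
    y = a ∨ y ∈ orbit ↥(stabilizer ↥G a) b ∨ y ∈ orbit ↥(stabilizer ↥G a) c := by
  classical
  have hu : ({a} ∪ orbit ↥(stabilizer ↥G a) b ∪ orbit ↥(stabilizer ↥G a) c : Set Ω) =
      Set.univ := by
    apply Set.eq_of_subset_of_ncard_le (Set.subset_univ _) _ (Set.toFinite _)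
    rw [Set.ncard_univ, Nat.card_eq_fintype_card, h.hn, Set.ncard_union_eq, Set.ncard_union_eq,
      Set.ncard_singleton, h.hk, h.hl]
    · rw [Set.disjoint_left]
      intro x hx hx2
      rw [Set.mem_singleton_iff] at hx
      exact r3_a_notMem_b h (hx ▸ hx2)
    · rw [Set.disjoint_left]
      intro x hx hx2
      rcases hx with hx | hx
      · rw [Set.mem_singleton_iff] at hx
        exact r3_a_notMem_c h (hx ▸ hx2)
      · exact r3_disj h x hx hx2
  have : y ∈ ({a} ∪ orbit ↥(stabilizer ↥G a) b ∪ orbit ↥(stabilizer ↥G a) c : Set Ω) := by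
    rw [hu]; trivial
  rcases this with (hy | hy) | hy
  · exact Or.inl hy
  · exact Or.inr (Or.inl hy)
  · exact Or.inr (Or.inr hy)

/-- some element of the group exchanges `a` and `b` -/
theorem r3_swap (h : R3Hyp G a b c k l) : ∃ g0 : ↥G, g0 • a = b ∧ g0 • b = a := by
  classical
  have := h.trans
  obtain ⟨g1, hg1⟩ := MulAction.exists_smul_eq ↥G a b
  have hy : g1⁻¹ • a ≠ a := by
    intro hh
    apply r3_b_ne h
    rw [← hg1, ← hh, smul_inv_smul, hh]
  have e1 := card_orbit_pair_eq (G := ↥G) a (g1⁻¹ • a)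
  have e2 := card_orbit_pair_eq (G := ↥G) a b
  have e3 : orbit ↥G (b, a) = orbit ↥G (a, g1⁻¹ • a) := by
    rw [orbit_eq_iff]
    refine ⟨g1, ?_⟩
    show (g1 • a, g1 • g1⁻¹ • a) = (b, a)
    rw [hg1, smul_inv_smul]
  have e4 : Nat.card (orbit ↥G (b, a)) = Nat.card (orbit ↥G (a, b)) := by
    apply Nat.card_congr
    exact
      { toFun := fun x => ⟨(x.1.2, x.1.1), by
          obtain ⟨g, hg⟩ := x.2
          refine ⟨g, ?_⟩
          have hg1 : g • b = x.1.1 := congrArg Prod.fst hg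
          have hg2 : g • a = x.1.2 := congrArg Prod.snd hg
          exact Prod.ext hg2 hg1⟩
        invFun := fun x => ⟨(x.1.2, x.1.1), by
          obtain ⟨g, hg⟩ := x.2
          refine ⟨g, ?_⟩
          have hg1 : g • a = x.1.1 := congrArg Prod.fst hg
          have hg2 : g • b = x.1.2 := congrArg Prod.snd hg
          exact Prod.ext hg2 hg1⟩
        left_inv := fun x => rfl
        right_inv := fun x => rfl }
  rw [e3, e1, e2] at e4
  have hpos : 0 < Nat.card (orbit ↥G a) := by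
    have : Nonempty (orbit ↥G a) := ⟨⟨a, mem_orbit_self a⟩⟩
    exact Nat.card_pos
  have e5 := Nat.eq_of_mul_eq_mul_left hpos e4
  rw [Nat.card_coe_set_eq, Nat.card_coe_set_eq, h.hk] at e5
  rcases r3_cover h (g1⁻¹ • a) with hh | hh | hh
  · exact absurd hh hy
  · obtain ⟨s, hs⟩ := hh
    have hs' : (s : ↥G) • b = g1⁻¹ • a := hs
    refine ⟨g1 * s, ?_, ?_⟩
    · rw [mul_smul]
      have : (s : ↥G) • a = a := s.2
      rw [this, hg1]
    · rw [mul_smul, hs', smul_inv_smul]
  · exfalso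
    have := orbit_eq_iff.mpr hh
    rw [this, h.hl] at e5
    exact h.hkl e5.symm

theorem r3Rel_symm (h : R3Hyp G a b c k l) {x y : Ω} (hxy : r3Rel G a b x y) :
    r3Rel G a b y x := by
  obtain ⟨g0, h1, h2⟩ := r3_swap h
  obtain ⟨g, rfl, rfl⟩ := hxy
  exact ⟨g * g0, by rw [mul_smul, h1], by rw [mul_smul, h2]⟩

theorem r3_adj_iff (h : R3Hyp G a b c k l) (x y : Ω) :
    (r3Graph G a b).Adj x y ↔ r3Rel G a b x y := by
  unfold r3Graph
  rw [SimpleGraph.fromRel_adj]
  constructor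
  · rintro ⟨-, h1 | h1⟩
    · exact h1
    · exact r3Rel_symm h h1
  · intro h1
    refine ⟨?_, Or.inl h1⟩
    obtain ⟨g, rfl, rfl⟩ := h1
    intro hh
    exact r3_b_ne h (smul_left_cancel g hh).symm

theorem r3_adj_smul (h : R3Hyp G a b c k l) (g : ↥G) (x y : Ω) :
    (r3Graph G a b).Adj (g • x) (g • y) ↔ (r3Graph G a b).Adj x y := by
  rw [r3_adj_iff h, r3_adj_iff h]
  constructor
  · rintro ⟨g', h1, h2⟩
    refine ⟨g⁻¹ * g', ?_, ?_⟩
    · rw [mul_smul, h1, inv_smul_smul]
    · rw [mul_smul, h2, inv_smul_smul]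
  · rintro ⟨g', rfl, rfl⟩
    exact ⟨g * g', mul_smul _ _ _, mul_smul _ _ _⟩

/-- neighbours of `g • a` -/
theorem r3_adj_base (h : R3Hyp G a b c k l) (g : ↥G) (y : Ω) :
    (r3Graph G a b).Adj (g • a) y ↔ g⁻¹ • y ∈ orbit ↥(stabilizer ↥G a) b := by
  rw [r3_adj_iff h]
  constructor
  · rintro ⟨g', h1, rfl⟩
    refine ⟨⟨g⁻¹ * g', ?_⟩, ?_⟩
    · rw [mem_stabilizer_iff, mul_smul, h1, inv_smul_smul]
    · show (g⁻¹ * g') • b = _
      rw [mul_smul]
  · rintro ⟨s, hs⟩
    have hs' : (s : ↥G) • b = g⁻¹ • y := hs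
    refine ⟨g * s, ?_, ?_⟩
    · rw [mul_smul]
      have : (s : ↥G) • a = a := s.2
      rw [this]
    · rw [mul_smul, hs', smul_inv_smul]

theorem r3_nbr_ncard (h : R3Hyp G a b c k l) (v : Ω) :
    ((r3Graph G a b).neighborSet v).ncard = k := by
  have := h.trans
  obtain ⟨g, rfl⟩ := MulAction.exists_smul_eq ↥G a v
  have : (r3Graph G a b).neighborSet (g • a) =
      (fun z => g • z) '' orbit ↥(stabilizer ↥G a) b := by
    ext y
    rw [SimpleGraph.mem_neighborSet, r3_adj_base h]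
    constructor
    · intro hy
      exact ⟨g⁻¹ • y, hy, smul_inv_smul g y⟩
    · rintro ⟨z, hz, rfl⟩
      rw [inv_smul_smul]
      exact hz
  rw [this, Set.ncard_image_of_injective _ (MulAction.injective g), h.hk]

theorem r3_exists_of_not_adj (h : R3Hyp G a b c k l) (v w : Ω) (hvw : v ≠ w)
    (hna : ¬ (r3Graph G a b).Adj v w) : ∃ g : ↥G, g • a = v ∧ g • c = w := by
  have := h.trans
  obtain ⟨g1, rfl⟩ := MulAction.exists_smul_eq ↥G a v
  rcases r3_cover h (g1⁻¹ • w) with hh | hh | hh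
  · exfalso
    apply hvw
    rw [← hh, smul_inv_smul]
  · exfalso
    exact hna ((r3_adj_base h g1 w).mpr hh)
  · obtain ⟨s, hs⟩ := hh
    have hs' : (s : ↥G) • c = g1⁻¹ • w := hs
    refine ⟨g1 * s, ?_, ?_⟩
    · rw [mul_smul]
      have : (s : ↥G) • a = a := s.2
      rw [this]
    · rw [mul_smul, hs', smul_inv_smul]

/-- the orbital graph of a rank 3 group with distinct subdegrees is strongly regular -/
theorem r3_isSRG (h : R3Hyp G a b c k l) [DecidableRel (r3Graph G a b).Adj] :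
    ∃ ℓ μ : ℕ, (r3Graph G a b).IsSRGWith (1 + k + l) k ℓ μ := by
  classical
  refine ⟨Fintype.card ((r3Graph G a b).commonNeighbors a b),
    Fintype.card ((r3Graph G a b).commonNeighbors a c), ?_⟩
  have key : ∀ (g : ↥G) (x y : Ω),
      Fintype.card ((r3Graph G a b).commonNeighbors (g • x) (g • y)) =
        Fintype.card ((r3Graph G a b).commonNeighbors x y) := by
    intro g x y
    symm
    apply Fintype.card_congr
    refine Equiv.subtypeEquiv (MulAction.toPerm g) ?_
    intro z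
    rw [SimpleGraph.mem_commonNeighbors, SimpleGraph.mem_commonNeighbors]
    show _ ↔ (r3Graph G a b).Adj (g • x) (g • z) ∧ (r3Graph G a b).Adj (g • y) (g • z)
    rw [r3_adj_smul h, r3_adj_smul h]
  refine ⟨h.hn, ?_, ?_, ?_⟩
  · intro v
    rw [← SimpleGraph.card_neighborSet_eq_degree, ← Nat.card_eq_fintype_card,
      Nat.card_coe_set_eq]
    exact r3_nbr_ncard h v
  · intro v w hvw
    rw [r3_adj_iff h] at hvw
    obtain ⟨g, rfl, rfl⟩ := hvw
    exact key g a b
  · intro v w hvw hna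
    obtain ⟨g, rfl, rfl⟩ := r3_exists_of_not_adj h v w hvw hna
    exact key g a c

end rank3

end Cfsg.Agent.Lib.helper3
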