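import Mathlib

set_option autoImplicit false

/-!
# Feasibility of strongly regular graph parameters via idempotents

An idempotent real matrix has a natural number as its trace.  For a strongly regular graph the
matrices `(A - τ I - c J)/(θ - τ)` are idempotent, which gives the integrality conditions.  We apply
this to `(100, 22, ℓ, μ)`: only `(ℓ, μ) = (0, 6)` survives.
-/

namespace Cfsg.Agent.Lib.helper3

open Matrix

/-- the trace of an idempotent real matrix is a natural number -/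
theorem idem_trace_nat {V : Type*} [Fintype V] [DecidableEq V] (P : Matrix V V ℝ)
    (h : P * P = P) : ∃ n : ℕ, P.trace = n := by
  have hid : IsIdempotentElem (Matrix.toLin' P) := by
    show Matrix.toLin' P * Matrix.toLin' P = Matrix.toLin' P
    rw [Module.End.mul_eq_comp, ← Matrix.toLin'_mul, h]
  have ht := (LinearMap.IsIdempotentElem.isProj_range _ hid).trace
  rw [Matrix.trace_toLin'_eq] at ht
  exact ⟨_, ht⟩

section srg

variable {V : Type*} [Fintype V] [DecidableEq V]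

/-- the quadratic relation makes `A - τ - cJ` an eigen-projection up to a scalar -/
theorem srg_idem (A J : Matrix V V ℝ) (a b c0 k n c θ τ : ℝ)
    (hAA : A * A = a • (1 : Matrix V V ℝ) + b • A + c0 • J) (hAJ : A * J = k • J)
    (hJA : J * A = k • J) (hJJ : J * J = n • J) (h1 : a = -(θ * τ)) (h2 : b = θ + τ)
    (h4 : k = n * c + τ) (h3 : c0 = -(c * (θ - k))) :
    (A - τ • (1 : Matrix V V ℝ) - c • J) * (A - τ • (1 : Matrix V V ℝ) - c • J) =
      (θ - τ) • (A - τ • (1 : Matrix V V ℝ) - c • J) := by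
  subst h1 h2 h3
  subst h4
  simp only [sub_mul, mul_sub, smul_mul_assoc, mul_smul_comm, Matrix.one_mul, Matrix.mul_one,
    hAA, hAJ, hJA, hJJ]
  module

/-- the scaled matrix is idempotent -/
theorem srg_idem' (A J : Matrix V V ℝ) (a b c0 k n c θ τ : ℝ)
    (hAA : A * A = a • (1 : Matrix V V ℝ) + b • A + c0 • J) (hAJ : A * J = k • J)
    (hJA : J * A = k • J) (hJJ : J * J = n • J) (h1 : a = -(θ * τ)) (h2 : b = θ + τ)
    (h4 : k = n * c + τ) (h3 : c0 = -(c * (θ - k))) (hne : θ - τ ≠ 0) :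
    ((θ - τ)⁻¹ • (A - τ • (1 : Matrix V V ℝ) - c • J)) *
      ((θ - τ)⁻¹ • (A - τ • (1 : Matrix V V ℝ) - c • J)) =
      (θ - τ)⁻¹ • (A - τ • (1 : Matrix V V ℝ) - c • J) := by
  rw [smul_mul_assoc, mul_smul_comm, srg_idem A J a b c0 k n c θ τ hAA hAJ hJA hJJ h1 h2 h4 h3,
    smul_smul, smul_smul]
  congr 1
  field_simp

variable (G : SimpleGraph V) [DecidableRel G.Adj] {n k ℓ μ : ℕ}

theorem srg_matrix_facts (h : G.IsSRGWith n k ℓ μ) :
    G.adjMatrix ℝ * G.adjMatrix ℝ = ((k : ℝ) - μ) • (1 : Matrix V V ℝ) +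
        ((ℓ : ℝ) - μ) • G.adjMatrix ℝ + (μ : ℝ) • (Matrix.of fun _ _ => (1 : ℝ)) ∧
      G.adjMatrix ℝ * (Matrix.of fun _ _ => (1 : ℝ)) = (k : ℝ) • (Matrix.of fun _ _ => (1 : ℝ)) ∧
      (Matrix.of fun _ _ => (1 : ℝ)) * G.adjMatrix ℝ = (k : ℝ) • (Matrix.of fun _ _ => (1 : ℝ)) ∧
      (Matrix.of fun (_ _ : V) => (1 : ℝ)) * (Matrix.of fun _ _ => (1 : ℝ)) =
        (n : ℝ) • (Matrix.of fun _ _ => (1 : ℝ)) ∧
      (Matrix.of fun (_ _ : V) => (1 : ℝ)).trace = n ∧ (1 : Matrix V V ℝ).trace = n ∧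
      (G.adjMatrix ℝ).trace = 0 := by
  refine ⟨?_, ?_, ?_, ?_, ?_, ?_, ?_⟩
  · have h1 := h.matrix_eq (α := ℝ)
    have h2 := G.one_add_adjMatrix_add_compl_adjMatrix_eq_of_one ℝ
    rw [G.compl_adjMatrix_eq_adjMatrix_compl ℝ] at h2
    have h3 : Gᶜ.adjMatrix ℝ = (Matrix.of fun _ _ => (1 : ℝ)) - 1 - G.adjMatrix ℝ := by
      have : (Matrix.of (1 : V → V → ℝ)) = (Matrix.of fun _ _ => (1 : ℝ)) := rfl
      rw [← this, ← h2]
      abel
    rw [pow_two, h3] at h1
    rw [h1, ← Nat.cast_smul_eq_nsmul ℝ k, ← Nat.cast_smul_eq_nsmul ℝ ℓ,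
      ← Nat.cast_smul_eq_nsmul ℝ μ]
    module
  · ext v w
    rw [SimpleGraph.adjMatrix_mul_apply]
    simp [h.regular.degree_eq v]
  · ext v w
    rw [SimpleGraph.mul_adjMatrix_apply]
    simp [h.regular.degree_eq w]
  · ext v w
    simp [Matrix.mul_apply, h.card]
  · simp [Matrix.trace, h.card]
  · simp [Matrix.trace, h.card]
  · exact SimpleGraph.trace_adjMatrix ℝ G

/-- trace of the eigen-projection -/
theorem srg_trace_formula (h : G.IsSRGWith n k ℓ μ) (θ τ c : ℝ) :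
    ((θ - τ)⁻¹ • (G.adjMatrix ℝ - τ • (1 : Matrix V V ℝ) -
      c • (Matrix.of fun _ _ => (1 : ℝ)))).trace = (θ - τ)⁻¹ * (-(τ * n) - c * n) := by
  obtain ⟨-, -, -, -, hJ, h1, hA⟩ := srg_matrix_facts G h
  rw [Matrix.trace_smul, Matrix.trace_sub, Matrix.trace_sub, Matrix.trace_smul, Matrix.trace_smul,
    hJ, h1, hA]
  simp only [smul_eq_mul]
  ring

/-- integrality: the multiplicity is a natural number -/
theorem srg_mult_nat (h : G.IsSRGWith n k ℓ μ) (θ τ c : ℝ)
    (h1 : (k : ℝ) - μ = -(θ * τ)) (h2 : (ℓ : ℝ) - μ = θ + τ) (h4 : (k : ℝ) = n * c + τ)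
    (h3 : (μ : ℝ) = -(c * (θ - k))) (hne : θ - τ ≠ 0) :
    ∃ m : ℕ, (θ - τ)⁻¹ * (-(τ * n) - c * n) = m := by
  obtain ⟨hAA, hAJ, hJA, hJJ, -, -, -⟩ := srg_matrix_facts G h
  have hP := srg_idem' (G.adjMatrix ℝ) (Matrix.of fun _ _ => (1 : ℝ)) _ _ _ _ _ c θ τ
    hAA hAJ hJA hJJ h1 h2 h4 h3 hne
  obtain ⟨m, hm⟩ := idem_trace_nat _ hP
  rw [srg_trace_formula G h] at hm
  exact ⟨m, hm⟩

theorem not_isSquare_56 : ¬ IsSquare (56 : ℕ) := by
  rintro ⟨r, hr⟩
  have : r ≤ 7 := by nlinarith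
  interval_cases r <;> omega

/-- the parameters of a strongly regular graph with 100 vertices and valency 22 -/
theorem srg_100_22_params (h : G.IsSRGWith 100 22 ℓ μ) : ℓ = 0 ∧ μ = 6 := by
  classical
  -- ℓ ≤ 21
  have hcard : Fintype.card V = 100 := h.card
  have hV : Nonempty V := by
    rw [← Fintype.card_pos_iff, hcard]; norm_num
  obtain ⟨v⟩ := hV
  have hdeg : G.degree v = 22 := h.regular.degree_eq v
  have hne : (G.neighborFinset v).Nonempty := by
    rw [← Finset.card_pos, G.card_neighborFinset_eq_degree, hdeg]; norm_num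
  obtain ⟨w, hw⟩ := hne
  rw [SimpleGraph.mem_neighborFinset] at hw
  have hℓ : ℓ ≤ 21 := by
    have h1 := h.of_adj v w hw
    rw [← h1, ← Set.toFinset_card]
    have hsub : (G.commonNeighbors v w).toFinset ⊆ (G.neighborFinset v).erase w := by
      intro x hx
      rw [Set.mem_toFinset, SimpleGraph.mem_commonNeighbors] at hx
      rw [Finset.mem_erase, SimpleGraph.mem_neighborFinset]
      exact ⟨fun hxw => G.loopless.irrefl w (hxw ▸ hx.2), hx.1⟩
    have := Finset.card_le_card hsub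
    rw [Finset.card_erase_of_mem ((G.mem_neighborFinset v w).mpr hw),
      G.card_neighborFinset_eq_degree, hdeg] at this
    exact this
  have hp := h.param_eq G (by norm_num)
  have hcases : (ℓ = 0 ∧ μ = 6) ∨ (ℓ = 7 ∧ μ = 4) ∨ (ℓ = 14 ∧ μ = 2) ∨ (ℓ = 21 ∧ μ = 0) := by
    interval_cases ℓ <;> omega
  rcases hcases with hc | ⟨rfl, rfl⟩ | ⟨rfl, rfl⟩ | ⟨rfl, rfl⟩
  · exact hc
  · exfalso
    obtain ⟨m, hm⟩ := srg_mult_nat G h 6 (-3) (1 / 4) (by norm_num) (by norm_num) (by norm_num)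
      (by norm_num) (by norm_num)
    have : (275 : ℝ) = 9 * m := by
      have : ((6 : ℝ) - -3)⁻¹ * (-(-3 * ((100 : ℕ) : ℝ)) - 1 / 4 * ((100 : ℕ) : ℝ)) = 275 / 9 := by
        norm_num
      rw [this] at hm
      linarith
    have h2 : (275 : ℕ) = 9 * m := by exact_mod_cast this
    omega
  · exfalso
    set s : ℝ := Real.sqrt 56 with hs
    have hss : s * s = 56 := Real.mul_self_sqrt (by norm_num)
    have hspos : 0 < s := Real.sqrt_pos.mpr (by norm_num)
    obtain ⟨m, hm⟩ := srg_mult_nat G h (6 + s) (6 - s) ((16 + s) / 100)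
      (by push_cast; nlinarith) (by push_cast; ring) (by push_cast; ring)
      (by push_cast; nlinarith) (by
        have : (6 + s) - (6 - s) = 2 * s := by ring
        rw [this]; positivity)
    have hirr : Irrational s := by
      have := irrational_sqrt_natCast_iff.mpr not_isSquare_56
      simpa [hs] using this
    have h2 : ((6 + s) - (6 - s))⁻¹ * (-((6 - s) * ((100 : ℕ) : ℝ)) -
        (16 + s) / 100 * ((100 : ℕ) : ℝ)) = (99 * s - 616) / (2 * s) := by
      have : (6 + s) - (6 - s) = 2 * s := by ring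
      rw [this]
      push_cast
      field_simp
      ring
    rw [h2, div_eq_iff (by positivity)] at hm
    -- s * (99 - 2 m) = 616
    have h3 : s * (99 - 2 * (m : ℝ)) = 616 := by linarith
    have h4 : (99 - 2 * (m : ℝ)) ≠ 0 := by
      intro h0
      rw [h0, mul_zero] at h3
      norm_num at h3
    apply hirr
    refine ⟨616 / (99 - 2 * (m : ℚ)), ?_⟩
    push_cast
    rw [div_eq_iff h4]
    linarith
  · exfalso
    obtain ⟨m, hm⟩ := srg_mult_nat G h 22 (-1) (23 / 100) (by norm_num) (by norm_num)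
      (by norm_num) (by norm_num) (by norm_num)
    have : (77 : ℝ) = 23 * m := by
      have : ((22 : ℝ) - -1)⁻¹ * (-(-1 * ((100 : ℕ) : ℝ)) - 23 / 100 * ((100 : ℕ) : ℝ)) =
          77 / 23 := by
        norm_num
      rw [this] at hm
      linarith
    have h2 : (77 : ℕ) = 23 * m := by exact_mod_cast this
    omega

end srg

end Cfsg.Agent.Lib.helper3
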