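import Mathlib
import Cfsg.Agent.Lib.helper3.SrgFeas
import Cfsg.Agent.Lib.helper3.Rank3Srg
import Cfsg.Agent.Lib.helper3.HSAut
import Cfsg.Agent.Lib.Lead.HSGraph
import Cfsg.Agent.S0378
import Cfsg.Prelude.Def_Spor_Conway
import Cfsg.Prelude.Def_Spor_Mathieu

set_option autoImplicit false

/-!
# Recognition of the Higman–Sims group from its rank 3 action on 100 points
-/

namespace Cfsg.Agent.Lib.helper3

open MulAction Cfsg

/-! ### two subgroups of index two, one of them simple -/

theorem eq_of_index_two_of_simple {A : Type*} [Group A] [Finite A] (K S : Subgroup A)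
    (hK : K.index = 2) (hcard : Nat.card ↥K ≤ Nat.card ↥S) (hS : IsSimpleGroup ↥S)
    (h2 : 2 < Nat.card ↥S) : S = K := by
  haveI : K.Normal := Subgroup.normal_of_index_eq_two hK
  haveI : (K.subgroupOf S).Normal := inferInstance
  rcases (inferInstance : (K.subgroupOf S).Normal).eq_bot_or_eq_top with h | h
  · exfalso
    have h1 := Subgroup.relIndex_dvd_index_of_normal K S
    rw [Subgroup.relIndex, h, Subgroup.index_bot, hK] at h1
    have := Nat.le_of_dvd (by norm_num) h1
    omega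
  · rw [Subgroup.subgroupOf_eq_top] at h
    exact Subgroup.eq_of_le_of_card_ge h hcard

/-! ### the group as automorphisms of its orbital graph -/

section aut

variable {Ω : Type*} [Fintype Ω] [DecidableEq Ω] {G : Subgroup (Equiv.Perm Ω)} {a b c : Ω}
  {k l : ℕ}

/-- the automorphism of the orbital graph induced by an element of the group -/
def r3Aut (h : R3Hyp G a b c k l) (g : ↥G) : r3Graph G a b ≃g r3Graph G a b where
  toEquiv := g.1
  map_rel_iff' := by
    intro x y
    exact r3_adj_smul h g x y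

theorem r3Aut_apply (h : R3Hyp G a b c k l) (g : ↥G) (x : Ω) : r3Aut h g x = g.1 x := rfl

/-- the action on the orbital graph as a homomorphism -/
def r3AutHom (h : R3Hyp G a b c k l) : ↥G →* (r3Graph G a b ≃g r3Graph G a b) :=
  MonoidHom.mk' (r3Aut h) (by
    intro g g'
    apply RelIso.ext
    intro x
    rfl)

theorem r3AutHom_injective (h : R3Hyp G a b c k l) : Function.Injective (r3AutHom h) := by
  intro g g' hgg
  apply Subtype.ext
  apply Equiv.ext
  intro x
  have := congrArg (fun σ : r3Graph G a b ≃g r3Graph G a b => σ x) hgg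
  exact this

end aut

/-! ### transport of the automorphism group along an isomorphism of graphs -/

/-- the automorphism groups of isomorphic graphs are in bijection -/
def autCongr {V W : Type*} {Γ : SimpleGraph V} {Δ : SimpleGraph W} (φ : Γ ≃g Δ) :
    (Γ ≃g Γ) ≃ (Δ ≃g Δ) where
  toFun σ := (φ.symm.trans σ).trans φ
  invFun τ := (φ.trans τ).trans φ.symm
  left_inv σ := by
    apply RelIso.ext
    intro x
    simp [RelIso.trans_apply]
  right_inv τ := by
    apply RelIso.ext
    intro x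
    simp [RelIso.trans_apply]

/-! ### the order of the two point stabiliser of the group of the code -/

theorem mem_sporM22' {g : Equiv.Perm GolayPt} :
    g ∈ Cfsg.Spor.M22 ↔ g ∈ M24 ∧ g none = none ∧ g (some 0) = some 0 := by
  unfold Cfsg.Spor.M22 Cfsg.Spor.M23
  constructor
  · intro h
    obtain ⟨h1, h2⟩ := Subgroup.mem_inf.mp h
    obtain ⟨h3, h4⟩ := Subgroup.mem_inf.mp h1
    exact ⟨h3, MulAction.mem_stabilizer_iff.mp h4, MulAction.mem_stabilizer_iff.mp h2⟩
  · rintro ⟨h1, h2, h3⟩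
    exact Subgroup.mem_inf.mpr ⟨Subgroup.mem_inf.mpr ⟨h1, MulAction.mem_stabilizer_iff.mpr h2⟩,
      MulAction.mem_stabilizer_iff.mpr h3⟩

theorem card_sporM22' : Nat.card ↥Cfsg.Spor.M22 = 443520 := by
  have h : (MulAction.stabilizer ↥M24 (none : GolayPt) ⊓
      MulAction.stabilizer ↥M24 (some 0 : GolayPt)).map M24.subtype = Cfsg.Spor.M22 := by
    ext x
    rw [Subgroup.mem_map, mem_sporM22']
    constructor
    · rintro ⟨y, hy, rfl⟩
      rw [Subgroup.mem_inf, MulAction.mem_stabilizer_iff, MulAction.mem_stabilizer_iff] at hy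
      exact ⟨y.2, hy.1, hy.2⟩
    · rintro ⟨h1, h2, h3⟩
      refine ⟨⟨x, h1⟩, ?_, rfl⟩
      rw [Subgroup.mem_inf, MulAction.mem_stabilizer_iff, MulAction.mem_stabilizer_iff]
      exact ⟨h2, h3⟩
  rw [← h, Subgroup.card_map_of_injective M24.subtype_injective,
    Cfsg.Agent.S0378.result none (some 0) (by decide)]

/-! ### the recognition theorem, against the stabiliser of the standard pair -/

open Cfsg.Agent.Lib.Lead.HS Cfsg.Agent.Lib.Lead.HSG in
theorem hs_recog_G0 {Ω : Type*} [Fintype Ω] [DecidableEq Ω] {G : Subgroup (Equiv.Perm Ω)}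
    {a b c : Ω} (h : R3Hyp G a b c 22 77) (hG : Nat.card ↥G = 44352000) :
    Nonempty (↥G ≃* ↥Cfsg.Agent.Lib.Lead.HS.G0) := by
  classical
  obtain ⟨ℓ, μ, hsrg⟩ := r3_isSRG h
  have hsrg' : (r3Graph G a b).IsSRGWith 100 22 ℓ μ := hsrg
  obtain ⟨rfl, rfl⟩ := srg_100_22_params (r3Graph G a b) hsrg'
  have hΓ := isHS100_of_srg (r3Graph G a b) hsrg'
  obtain ⟨φ, -⟩ := hs_pointed card_X22 D00_steiner hΓ a
  have hB : (fun b : Finset X22 => b.image (Equiv.refl X22)) '' D00 = D00 := by
    ext t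
    constructor
    · rintro ⟨s, hs, rfl⟩
      simpa using hs
    · intro ht
      exact ⟨t, ht, by simp⟩
  let eΩ : Ω ≃ ↥XS := φ.toEquiv.trans (eV D00 (Equiv.refl X22) hB)
  have hadj : ∀ x y, (r3Graph G a b).Adj x y ↔ dotInt (eΩ x).1.1 (eΩ y).1.1 = 8 := by
    intro x y
    rw [← φ.map_rel_iff]
    exact adj_iff D00 (Equiv.refl X22) hB (φ x) (φ y)
  have hA : Nat.card (r3Graph G a b ≃g r3Graph G a b) = 88704000 := by
    rw [Nat.card_congr (autCongr φ)]
    exact card_hs_aut card_X22 D00_steiner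
  haveI : Finite (r3Graph G a b ≃g r3Graph G a b) :=
    Nat.finite_of_card_ne_zero (by rw [hA]; norm_num)
  have inj0 := psi_injective (r3Graph G a b) eΩ hadj
  have injG := r3AutHom_injective h
  have hS : Nat.card ↥(psi (r3Graph G a b) eΩ hadj).range = 44352000 := by
    rw [← Nat.card_congr (MonoidHom.ofInjective inj0).toEquiv, card_G0]
  have hK : Nat.card ↥(r3AutHom h).range = 44352000 := by
    rw [← Nat.card_congr (MonoidHom.ofInjective injG).toEquiv, hG]
  have hKi : (r3AutHom h).range.index = 2 := by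
    have := (r3AutHom h).range.index_mul_card
    rw [hK, hA] at this
    omega
  have hsimp : IsSimpleGroup ↥(psi (r3Graph G a b) eΩ hadj).range := by
    haveI := G0_simple
    exact (MonoidHom.ofInjective inj0).symm.isSimpleGroup
  have hSK := eq_of_index_two_of_simple (r3AutHom h).range (psi (r3Graph G a b) eΩ hadj).range
    hKi (by rw [hK, hS]) hsimp (by rw [hS]; norm_num)
  exact ⟨(MonoidHom.ofInjective injG).trans ((MulEquiv.subgroupCongr hSK.symm).trans
    (MonoidHom.ofInjective inj0).symm)⟩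

/-! ### the stabiliser of the standard pair against the group of the definitions -/

/-- the second vector of the pair attached to the two vectors of the definitions -/
def hsW : ↥leechLattice := -(Spor.leechV + Spor.leechU')

set_option maxRecDepth 100000 in
theorem hsW_chk : sqNorm Spor.leechV.1 = 48 ∧ sqNorm hsW.1 = 48 ∧
    dotInt Spor.leechV.1 hsW.1 = -32 := by decide +kernel

theorem co0_perm_neg {f : Equiv.Perm ↥leechLattice} (hf : f ∈ Co0) (x : ↥leechLattice) :
    f (-x) = -f x :=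
  (AddMonoidHom.mk' f hf.1).map_neg x

theorem hs_map_eq : (stabilizer ↥Co0 Spor.leechV ⊓ stabilizer ↥Co0 hsW).map Co0.subtype =
    Spor.HS := by
  ext f
  rw [Subgroup.mem_map]
  unfold Spor.HS Spor.Co3
  constructor
  · rintro ⟨g, hg, rfl⟩
    rw [Subgroup.mem_inf, mem_stabilizer_iff, mem_stabilizer_iff] at hg
    have h1 : g.1 Spor.leechV = Spor.leechV := hg.1
    have h2 : g.1 hsW = hsW := hg.2
    refine Subgroup.mem_inf.mpr ⟨Subgroup.mem_inf.mpr ⟨g.2, mem_stabilizer_iff.mpr h1⟩,
      mem_stabilizer_iff.mpr ?_⟩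
    show g.1 Spor.leechU' = Spor.leechU'
    have hU : Spor.leechU' = -(Spor.leechV + hsW) := by
      unfold hsW
      abel
    rw [hU, co0_perm_neg g.2, g.2.1, h1, h2]
  · intro hf
    obtain ⟨h12, h3⟩ := Subgroup.mem_inf.mp hf
    obtain ⟨h1, h2⟩ := Subgroup.mem_inf.mp h12
    have h2' : f Spor.leechV = Spor.leechV := mem_stabilizer_iff.mp h2
    have h3' : f Spor.leechU' = Spor.leechU' := mem_stabilizer_iff.mp h3
    refine ⟨⟨f, h1⟩, ?_, rfl⟩
    rw [Subgroup.mem_inf, mem_stabilizer_iff, mem_stabilizer_iff]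
    refine ⟨h2', ?_⟩
    show f hsW = hsW
    unfold hsW
    rw [co0_perm_neg h1, h1.1, h2', h3']

open Cfsg.Agent.Lib.Lead.HS Cfsg.Agent.Lib.Lead.CP Cfsg.Agent.Lib.Lead.CW in
theorem g0_iso_hs : Nonempty (↥Cfsg.Agent.Lib.Lead.HS.G0 ≃* ↥Spor.HS) := by
  obtain ⟨k0, h1, h2⟩ := hs_pair u48 wS Spor.leechV hsW frame_chk.1 frame_chk.2.1
    frame_chk.2.2.1 hsW_chk.1 hsW_chk.2.1 hsW_chk.2.2
  exact ⟨(conjEquiv Spor.leechV hsW k0 h1 h2).trans
    (((stabilizer ↥Co0 Spor.leechV ⊓ stabilizer ↥Co0 hsW).equivMapOfInjective Co0.subtype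
      Co0.subtype_injective).trans (MulEquiv.subgroupCongr hs_map_eq))⟩

/-- the recognition theorem -/
theorem hs_recog {Ω : Type*} [Fintype Ω] [DecidableEq Ω] {G : Subgroup (Equiv.Perm Ω)}
    {a b c : Ω} (h : R3Hyp G a b c 22 77) (hG : Nat.card ↥G = 44352000) :
    Nonempty (↥G ≃* ↥Spor.HS) := by
  obtain ⟨e1⟩ := hs_recog_G0 h hG
  obtain ⟨e2⟩ := g0_iso_hs
  exact ⟨e1.trans e2⟩

end Cfsg.Agent.Lib.helper3
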