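import Mathlib
import Cfsg.Agent.Lib.Helper9.A2S.Defs

/-!
# Project A2S (helper9, S2221), piece PS5 : `card_sumSub`  (helper3)
-/

set_option autoImplicit false

namespace Cfsg.Agent.Lib.Helper9.A2S

open Equiv

/-- A2S-PS5 -/
theorem card_sumSub {β γ : Type*} [Fintype β] [DecidableEq β] [Fintype γ] [DecidableEq γ]
    (T : Subgroup (Perm β)) (U : Subgroup (Perm γ)) :
    Nat.card ↥(sumSub T U) = Nat.card ↥T * Nat.card ↥U := by
  unfold sumSub
  rw [Subgroup.card_map_of_injective (Perm.sumCongrHom_injective),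
    Nat.card_congr (Subgroup.prodEquiv T U).toEquiv, Nat.card_prod]

end Cfsg.Agent.Lib.Helper9.A2S
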