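import Mathlib
import Cfsg.Agent.Lib.Helper9.A2S.Defs

/-!
# Project A2S (helper9, S2221), piece PS6 : `sumSub_bot_even_equiv`  (helper3)
-/

set_option autoImplicit false

namespace Cfsg.Agent.Lib.Helper9.A2S

open Equiv

/-- A2S-PS6 -/
theorem sumSub_bot_even_equiv {β γ : Type*} [Fintype β] [DecidableEq β] [Fintype γ] [DecidableEq γ]
    (T : Subgroup (Perm β)) :
    Nonempty (↥(sumSub T (⊥ : Subgroup (Perm γ)) ⊓ alternatingGroup (β ⊕ γ)) ≃*
      ↥(T ⊓ alternatingGroup β)) := by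
  classical
  let g : Perm β →* Perm (β ⊕ γ) :=
    (Perm.sumCongrHom β γ).comp (MonoidHom.inl (Perm β) (Perm γ))
  have hg : ∀ t, g t = Perm.sumCongr t 1 := fun t => rfl
  have hginj : Function.Injective g := by
    intro a b hab
    have := Perm.sumCongrHom_injective hab
    exact (Prod.mk.inj this).1
  have hmem : ∀ t : ↥(T ⊓ alternatingGroup β),
      (g.comp (T ⊓ alternatingGroup β).subtype) t ∈
        sumSub T (⊥ : Subgroup (Perm γ)) ⊓ alternatingGroup (β ⊕ γ) := by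
    intro t
    obtain ⟨ht1, ht2⟩ := Subgroup.mem_inf.1 t.2
    refine Subgroup.mem_inf.2 ⟨?_, ?_⟩
    · exact ⟨((t : Perm β), 1), ⟨ht1, Subgroup.mem_bot.2 rfl⟩, rfl⟩
    · rw [Perm.mem_alternatingGroup]
      change Perm.sign (Perm.sumCongr (t : Perm β) 1) = 1
      rw [Perm.sign_sumCongr, Perm.sign_one, mul_one]
      exact Perm.mem_alternatingGroup.1 ht2
  let f : ↥(T ⊓ alternatingGroup β) →*
      ↥(sumSub T (⊥ : Subgroup (Perm γ)) ⊓ alternatingGroup (β ⊕ γ)) :=
    (g.comp (T ⊓ alternatingGroup β).subtype).codRestrict _ hmem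
  have hfinj : Function.Injective f := by
    intro a b hab
    have h1 : g (a : Perm β) = g (b : Perm β) := congrArg Subtype.val hab
    exact Subtype.ext (hginj h1)
  have hfsurj : Function.Surjective f := by
    rintro ⟨w, hw⟩
    obtain ⟨hw1, hw2⟩ := Subgroup.mem_inf.1 hw
    obtain ⟨⟨t, u⟩, ⟨ht, hu⟩, rfl⟩ := hw1
    have hu1 : u = 1 := Subgroup.mem_bot.1 hu
    subst hu1
    have hsign : Perm.sign t = 1 := by
      have := Perm.mem_alternatingGroup.1 hw2
      change Perm.sign (Perm.sumCongr t 1) = 1 at this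
      rwa [Perm.sign_sumCongr, Perm.sign_one, mul_one] at this
    refine ⟨⟨t, Subgroup.mem_inf.2 ⟨ht, Perm.mem_alternatingGroup.2 hsign⟩⟩, ?_⟩
    apply Subtype.ext
    rfl
  exact ⟨(MulEquiv.ofBijective f ⟨hfinj, hfsurj⟩).symm⟩

end Cfsg.Agent.Lib.Helper9.A2S
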