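import Mathlib
import Cfsg.Prelude.Def_LieExceptional
import Cfsg.Agent.Lib.helper3.WLen
import Cfsg.Agent.Lib.helper3.BNPair
import Cfsg.Agent.Lib.helper3.BNWeyl
import Cfsg.Agent.Lib.helper3.BNLen

set_option autoImplicit false

namespace Cfsg.Agent.Lib.helper3

open DoubleCoset Classical

variable {G : Type*} [Group G] {P : Cfsg.BNPair G}

theorem dc_sinv {s : G} (hs : s ∈ P.S) : dc P s⁻¹ = dc P s := by
  have := dc_mul_sinv (P := P) (n := 1) hs
  simpa using this

/-- the subgroup `B ∪ B s B` -/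
def rankOneSubgroup {s : G} (hs : s ∈ P.S) : Subgroup G where
  carrier := (P.B : Set G) ∪ dc P s
  one_mem' := Or.inl P.B.one_mem
  mul_mem' := by
    intro x y hx hy
    rcases hx with hx | hx <;> rcases hy with hy | hy
    · exact Or.inl (P.B.mul_mem hx hy)
    · exact Or.inr (dc_mul_left hx hy)
    · exact Or.inr (dc_mul_right hy hx)
    · obtain ⟨b₁, h₁, b₂, h₂, rfl⟩ := mem_dc.1 hx
      obtain ⟨b₃, h₃, b₄, h₄, rfl⟩ := mem_dc.1 hy
      have e : b₁ * s * b₂ * (b₃ * s * b₄) = b₁ * (s * (b₂ * b₃) * s) * b₄ := by group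
      rw [e]
      rcases t3 hs (S_mem_N hs) (P.B.mul_mem h₂ h₃) with h | h
      · left
        rw [dc_of_mem_B (P.sq_mem s hs)] at h
        exact P.B.mul_mem (P.B.mul_mem h₁ h) h₄
      · right
        exact dc_mul_right h₄ (dc_mul_left h₁ h)
  inv_mem' := by
    intro x hx
    rcases hx with hx | hx
    · exact Or.inl (P.B.inv_mem hx)
    · right
      have := dc_inv hx
      rwa [dc_sinv hs] at this

theorem parabolic_empty : P.parabolic ∅ = P.B := by
  unfold Cfsg.BNPair.parabolic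
  simp

theorem union_dc_isSubgroup_iff {n : G} (hn : n ∈ P.N) (hnB : n ∉ P.B) :
    (∃ H : Subgroup G, (H : Set G) = (P.B : Set G) ∪ dc P n) ↔ ∃ s ∈ P.S, s⁻¹ * n ∈ P.B := by
  constructor
  · rintro ⟨H, hH⟩
    have hBH : P.B ≤ H := by
      intro x hx
      have : x ∈ (H : Set G) := by rw [hH]; exact Or.inl hx
      exact this
    have hnH : n ∈ H := by
      have : n ∈ (H : Set G) := by rw [hH]; exact Or.inr (dc_self n)
      exact this
    have hpar := eq_parabolic_of_le hBH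
    by_cases hJ : {s | s ∈ P.S ∧ s ∈ H} = ∅
    · rw [hJ, parabolic_empty] at hpar
      exact absurd (hpar ▸ hnH) hnB
    · obtain ⟨s, hs, hsH⟩ := Set.nonempty_iff_ne_empty.2 hJ
      refine ⟨s, hs, ?_⟩
      have : s ∈ (H : Set G) := hsH
      rw [hH] at this
      rcases this with h | h
      · exact absurd h (S_not_mem_B hs)
      · exact (dc_eq_iff (S_mem_N hs) hn).1 (dc_eq_of_mem h)
  · rintro ⟨s, hs, h⟩
    refine ⟨rankOneSubgroup hs, ?_⟩
    have : dc P n = dc P s := ((dc_eq_iff (S_mem_N hs) hn).2 h).symm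
    rw [this]
    rfl

/-! ### simplicity criterion -/

theorem commute_of_normal {K : Subgroup G} [K.Normal] {s₁ s₂ : G} (hs₁ : s₁ ∈ P.S) (hs₂ : s₂ ∈ P.S)
    (h₁ : s₁ ∈ K ⊔ P.B) (h₂ : s₂ ∉ K ⊔ P.B) : s₁ * s₂ * s₁⁻¹ * s₂⁻¹ ∈ P.B := by
  set M := K ⊔ P.B with hM
  have hBM : P.B ≤ M := le_sup_right
  have hKM : K ≤ M := le_sup_left
  have hs₁N := S_mem_N hs₁
  have hs₂N := S_mem_N hs₂
  have hne : s₁ ≠ s₂ := fun h => h₂ (h ▸ h₁)
  have h₁' : s₁ ∈ (↑(K ⊔ P.B) : Set G) := h₁
  rw [Subgroup.normal_mul] at h₁'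
  obtain ⟨k, hk, b, hb, e⟩ := Set.mem_mul.1 h₁'
  have hk' : k = s₁ * b⁻¹ := by rw [← e]; group
  have hconj : s₂ * k * s₂⁻¹ ∈ K := ‹K.Normal›.conj_mem k hk s₂
  have e2 : s₂ * k * s₂⁻¹ = (s₂ * s₁) * b⁻¹ * s₂⁻¹ := by rw [hk']; group
  have h3 := t3_right_inv hs₂ (P.N.mul_mem hs₂N hs₁N) (P.B.inv_mem hb)
  rw [← e2] at h3
  have t₁T : projG P s₁ ∈ TW P := ⟨s₁, hs₁, rfl⟩
  have t₂T : projG P s₂ ∈ TW P := ⟨s₂, hs₂, rfl⟩
  have hne' : projG P s₁ * projG P s₂ ≠ 1 := by
    intro h
    have h' : projG P s₁ = projG P s₂ := by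
      have := TW_sq _ t₂T
      calc projG P s₁ = projG P s₁ * (projG P s₂ * projG P s₂) := by rw [this, mul_one]
        _ = (projG P s₁ * projG P s₂) * projG P s₂ := by rw [mul_assoc]
        _ = projG P s₂ := by rw [h, one_mul]
    exact hne (projG_inj_S hs₁ hs₂ h')
  have hne'' : projG P s₂ * projG P s₁ ≠ 1 := by
    intro h
    apply hne'
    have : projG P s₁ * projG P s₂ = (projG P s₂ * projG P s₁)⁻¹ := by
      rw [mul_inv_rev]
      congr 1
      · exact (inv_eq_of_mul_eq_one_left (TW_sq _ t₁T)).symm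
      · exact (inv_eq_of_mul_eq_one_left (TW_sq _ t₂T)).symm
    rw [this, h, inv_one]
  rcases h3 with h3 | h3
  · -- s₂ s₁ s₂⁻¹ ∈ M
    have hnM : s₂ * s₁ * s₂⁻¹ ∈ M := dc_subset_of_mem hBM h3 (hKM hconj)
    have hnN : s₂ * s₁ * s₂⁻¹ ∈ P.N := P.N.mul_mem (P.N.mul_mem hs₂N hs₁N) (P.N.inv_mem hs₂N)
    have hpn : projG P (s₂ * s₁ * s₂⁻¹) = projG P s₂ * (projG P s₁ * projG P s₂) := by
      rw [projG_mul (P.N.mul_mem hs₂N hs₁N) (P.N.inv_mem hs₂N), projG_mul hs₂N hs₁N, projG_sinv hs₂,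
        mul_assoc]
    -- step (i): t₂ ∈ PsW t₁
    have hi : projG P s₂ ∈ PsW P (projG P s₁) := by
      by_contra hcon
      obtain ⟨i, hi, e⟩ := exchange (PsW P) TW_sq PsW_A PsW_C t₁T [projG P s₂]
        (by simpa using t₂T) (by simpa using hcon)
      simp at hi
      subst hi
      simp at e
      exact hne' e
    have hlen2 : wlen (TW P) (projG P s₁ * projG P s₂) = 2 := by
      rw [(mem_Ps_iff (PsW P) TW_sq TW_closure PsW_A PsW_B PsW_C t₁T _).1 hi,
        wlen_of_mem TW_sq TW_closure t₂T (projG_S_ne_one hs₂)]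
    by_cases hii : projG P s₁ * projG P s₂ ∈ PsW P (projG P s₂)
    · exfalso
      have hlen3 : lenN P (s₂ * s₁ * s₂⁻¹) = 3 := by
        unfold lenN
        rw [hpn, (mem_Ps_iff (PsW P) TW_sq TW_closure PsW_A PsW_B PsW_C t₂T _).1 hii, hlen2]
      have hL : ∀ s ∈ [s₂, s₁, s₂], s ∈ P.S := by
        intro s hs
        simp only [List.mem_cons, List.not_mem_nil, or_false] at hs
        rcases hs with rfl | rfl | rfl <;> assumption
      have hp : projG P [s₂, s₁, s₂].prod = projG P (s₂ * s₁ * s₂⁻¹) := by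
        rw [projG_list_prod hL, hpn]
        simp
      have := letters_mem_of_mem hBM hnN hnM hL hp (by rw [hlen3]; rfl) s₂ (by simp)
      exact h₂ this
    · obtain ⟨i, hi, e⟩ := exchange (PsW P) TW_sq PsW_A PsW_C t₂T [projG P s₁, projG P s₂]
        (by intro x hx; simp at hx; rcases hx with rfl | rfl; · exact t₁T
            · exact t₂T) (by simpa using hii)
      simp at hi
      have hi' : i = 0 ∨ i = 1 := by omega
      rcases hi' with rfl | rfl
      · exfalso
        simp at e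
        exact hne' e
      · simp at e
        -- t₂ t₁ t₂ = t₁
        rw [← projG_eq_one_iff (P.N.mul_mem (P.N.mul_mem (P.N.mul_mem hs₁N hs₂N) (P.N.inv_mem hs₁N))
          (P.N.inv_mem hs₂N))]
        rw [projG_mul (P.N.mul_mem (P.N.mul_mem hs₁N hs₂N) (P.N.inv_mem hs₁N)) (P.N.inv_mem hs₂N),
          projG_mul (P.N.mul_mem hs₁N hs₂N) (P.N.inv_mem hs₁N), projG_mul hs₁N hs₂N,
          projG_sinv hs₁, projG_sinv hs₂]
        have e1 := TW_sq _ t₁T
        have e2 := TW_sq _ t₂T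
        calc projG P s₁ * projG P s₂ * projG P s₁ * projG P s₂
            = projG P s₂ * (projG P s₂ * (projG P s₁ * projG P s₂)) * projG P s₁ * projG P s₂ := by
              rw [← mul_assoc (projG P s₂) (projG P s₂), e2, one_mul]
          _ = projG P s₂ * projG P s₁ * projG P s₁ * projG P s₂ := by rw [e]
          _ = 1 := by rw [mul_assoc (projG P s₂), e1, mul_one, e2]
  · exfalso
    have : s₂ * s₁ ∈ M := dc_subset_of_mem hBM h3 (hKM hconj)
    apply h₂
    have e : s₂ = (s₂ * s₁) * s₁⁻¹ := by group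
    rw [e]
    exact M.mul_mem this (M.inv_mem h₁)

theorem isSimpleGroup_of_irreducible [Nontrivial G]
    (hirr : P.Irreducible) (hsolv : Group.IsSolvable P.B) (hperf : commutator G = ⊤)
    (hcore : P.B.normalCore = ⊥) : IsSimpleGroup G := by
  refine ⟨fun K hK => ?_⟩
  by_cases hKbot : K = ⊥
  · exact Or.inl hKbot
  right
  set M := K ⊔ P.B with hM
  have hBM : P.B ≤ M := le_sup_right
  have hpar := eq_parabolic_of_le hBM
  set J := {s | s ∈ P.S ∧ s ∈ M} with hJ
  have hJS : J ⊆ P.S := fun s hs => hs.1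
  have hcases : J = ∅ ∨ P.S \ J = ∅ := by
    by_contra hcon
    push Not at hcon
    obtain ⟨h1, h2⟩ := hcon
    obtain ⟨s, hs, s', hs', hnot⟩ := hirr J hJS h1 h2
    apply hnot
    apply commute_of_normal (K := K) hs.1 hs'.1 hs.2
    intro h
    exact hs'.2 ⟨hs'.1, h⟩
  have hMtop : M = ⊤ := by
    rcases hcases with h | h
    · exfalso
      rw [h, parabolic_empty] at hpar
      have hKB : K ≤ P.B := by rw [← hpar]; exact le_sup_left
      have : K ≤ P.B.normalCore := Subgroup.normal_le_normalCore.2 hKB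
      rw [hcore] at this
      exact hKbot (le_bot_iff.1 this)
    · have hSJ : P.S ⊆ J := by
        intro s hs
        by_contra hsJ
        have : s ∈ P.S \ J := ⟨hs, hsJ⟩
        rw [h] at this
        exact this
      rw [hpar, eq_top_iff, ← parabolic_S (P := P)]
      exact parabolic_mono hSJ
  -- K ⊔ B = ⊤, B solvable, G perfect
  have hsurj : Function.Surjective ((QuotientGroup.mk' K).comp P.B.subtype) := by
    intro x
    obtain ⟨g, rfl⟩ := QuotientGroup.mk'_surjective K x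
    have hg : g ∈ (↑(K ⊔ P.B) : Set G) := by
      show g ∈ M
      rw [hMtop]; trivial
    rw [Subgroup.normal_mul] at hg
    obtain ⟨k, hk, b, hb, rfl⟩ := Set.mem_mul.1 hg
    refine ⟨⟨b, hb⟩, ?_⟩
    simp only [MonoidHom.coe_comp, Subgroup.coe_subtype, Function.comp_apply, QuotientGroup.mk'_apply]
    rw [QuotientGroup.eq]
    have : b⁻¹ * (k * b) = b⁻¹ * k * b := by group
    rw [this]
    have := hK.conj_mem k hk b⁻¹
    simpa using this
  haveI := hsolv
  haveI : Group.IsSolvable (G ⧸ K) := Group.isSolvable_of_surjective hsurj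
  haveI : Group.IsPerfect G := ⟨hperf⟩
  haveI : Group.IsPerfect (G ⧸ K) := inferInstance
  have hsub : Subsingleton (G ⧸ K) := by
    by_contra hns
    rw [not_subsingleton_iff_nontrivial] at hns
    exact Group.IsPerfect.not_isSolvable (G ⧸ K) inferInstance
  exact QuotientGroup.subgroup_eq_top_of_subsingleton K hsub

end Cfsg.Agent.Lib.helper3
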