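import Mathlib
import Cfsg.Prelude.Def_Sporadic_a
import Cfsg.Agent.Lib.helper3.Golay
import Cfsg.Agent.Lib.helper3.GolayAut
import Cfsg.Agent.Lib.helper3.GolayOrbits
import Cfsg.Agent.Lib.helper3.GolayOrder
import Cfsg.Agent.Lib.helper3.GolayPerm

set_option autoImplicit false

namespace Cfsg.Agent.Lib.helper3

open Cfsg
open scoped Pointwise

/-- the action of a coordinate permutation on binary words -/
def act (σ : Equiv.Perm GolayPt) (w : GolayPt → ZMod 2) : GolayPt → ZMod 2 := fun p => w (σ.symm p)

theorem act_apply (σ : Equiv.Perm GolayPt) (w : GolayPt → ZMod 2) (p : GolayPt) :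
    act σ w p = w (σ.symm p) := rfl

theorem act_add (σ : Equiv.Perm GolayPt) (v w : GolayPt → ZMod 2) :
    act σ (v + w) = act σ v + act σ w := rfl

theorem act_sub (σ : Equiv.Perm GolayPt) (v w : GolayPt → ZMod 2) :
    act σ (v - w) = act σ v - act σ w := rfl

theorem act_zero (σ : Equiv.Perm GolayPt) : act σ 0 = 0 := rfl

theorem act_one_word (σ : Equiv.Perm GolayPt) : act σ (1 : GolayPt → ZMod 2) = 1 := rfl

theorem act_one (w : GolayPt → ZMod 2) : act 1 w = w := rfl

theorem act_mul (σ τ : Equiv.Perm GolayPt) (w : GolayPt → ZMod 2) :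
    act (σ * τ) w = act σ (act τ w) := rfl

theorem act_inv_act (σ : Equiv.Perm GolayPt) (w : GolayPt → ZMod 2) : act σ⁻¹ (act σ w) = w := by
  rw [← act_mul, inv_mul_cancel, act_one]

theorem act_act_inv (σ : Equiv.Perm GolayPt) (w : GolayPt → ZMod 2) : act σ (act σ⁻¹ w) = w := by
  rw [← act_mul, mul_inv_cancel, act_one]

theorem support₂_act (σ : Equiv.Perm GolayPt) (w : GolayPt → ZMod 2) :
    support₂ (act σ w) = σ • support₂ w := support₂_comp_symm w σ

theorem act_mem_code {σ : Equiv.Perm GolayPt} (hσ : σ ∈ M24) {w : GolayPt → ZMod 2}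
    (hw : w ∈ golayCode) : act σ w ∈ golayCode :=
  comp_symm_mem_of_octads σ (smul_octads_of_mem_M24 hσ) hw

theorem act_mem_code_iff {σ : Equiv.Perm GolayPt} (hσ : σ ∈ M24) {w : GolayPt → ZMod 2} :
    act σ w ∈ golayCode ↔ w ∈ golayCode := by
  constructor
  · intro h
    have := act_mem_code (M24.inv_mem hσ) h
    rwa [act_inv_act] at this
  · exact act_mem_code hσ

theorem hammingNorm_act (σ : Equiv.Perm GolayPt) (w : GolayPt → ZMod 2) :
    hammingNorm (act σ w) = hammingNorm w := by
  have h1 : hammingNorm (act σ w) = (support₂ (act σ w)).card := rfl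
  have h2 : hammingNorm w = (support₂ w).card := rfl
  rw [h1, h2, support₂_act, card_smul_finset]

/-- the action of the inverse of a table permutation, on bitmask words -/
theorem act_inv_gword {L : List ℕ} (hlt : ∀ x ∈ L, x < 24) (hlen : L.length = 24)
    (g : Equiv.Perm GolayPt) (hg : ∀ p, g p = tblFun L p) (m : ℕ) :
    act g⁻¹ (gword m) = gword (permMask L m) := by
  funext p
  rw [act_apply, ← gword_tblFun L hlt hlen m p, ← hg]
  rfl

/-- invariance of a subspace under the coordinate permutations preserving the code -/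
def PermInv (W : Submodule (ZMod 2) (GolayPt → ZMod 2)) : Prop :=
  ∀ σ ∈ M24, ∀ w ∈ W, act σ w ∈ W

theorem permInv_code : PermInv golayCode := fun _ hσ _ hw => act_mem_code hσ hw

theorem permInv_inf {W W' : Submodule (ZMod 2) (GolayPt → ZMod 2)} (h : PermInv W)
    (h' : PermInv W') : PermInv (W ⊓ W') :=
  fun σ hσ w hw => ⟨h σ hσ w hw.1, h' σ hσ w hw.2⟩

/-- a word with given support -/
theorem eq_of_support₂_eq {v w : GolayPt → ZMod 2} (h : support₂ v = support₂ w) : v = w :=
  support₂_injective h

theorem one_word_mem : (1 : GolayPt → ZMod 2) ∈ golayCode :=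
  Submodule.subset_span (Or.inr rfl)

theorem eq_zero_of_hammingNorm {w : GolayPt → ZMod 2} (h : hammingNorm w = 0) : w = 0 :=
  hammingNorm_eq_zero.1 h

theorem eq_one_of_hammingNorm {w : GolayPt → ZMod 2} (h : hammingNorm w = 24) : w = 1 := by
  have h1 : (support₂ w).card = 24 := h
  have h2 : support₂ w = Finset.univ := by
    apply Finset.eq_univ_of_card
    rw [h1]
    simp [ZMod.card]
  funext p
  have hp : p ∈ support₂ w := by rw [h2]; exact Finset.mem_univ p
  simp only [support₂, Finset.mem_filter, Finset.mem_univ, true_and] at hp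
  rcases zmod2_eq (w p) with h0 | h0
  · exact absurd h0 hp
  · rw [h0]; rfl

/-- an invariant subspace containing a word of weight 8 of the code contains the code -/
theorem code_le_of_octad {W : Submodule (ZMod 2) (GolayPt → ZMod 2)} (hW : PermInv W)
    {c : GolayPt → ZMod 2} (hcW : c ∈ W) (hc : c ∈ golayCode) (h8 : hammingNorm c = 8) :
    golayCode ≤ W := by
  have hoct : support₂ c ∈ octads := (mem_octads_iff _).2 ⟨c, hc, rfl, h8⟩
  have hall : ∀ c' ∈ golayCode, hammingNorm c' = 8 → c' ∈ W := by
    intro c' hc' h8'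
    have hoct' : support₂ c' ∈ octads := (mem_octads_iff _).2 ⟨c', hc', rfl, h8'⟩
    obtain ⟨g, hg⟩ := octads_transitive hoct hoct'
    have h1 : act (g : Equiv.Perm GolayPt) c = c' := by
      apply eq_of_support₂_eq
      rw [support₂_act]
      exact hg
    rw [← h1]
    exact hW _ g.2 c hcW
  intro w hw
  obtain ⟨k, _, rfl⟩ := (mem_golayCode_iff w).1 hw
  apply gword_xcombo_mem W golayBasis
  intro b hb
  apply hall _ (basis_mem b hb)
  rw [hammingNorm_gword]
  exact basis_popc b hb

theorem mask_facts : popc (golayMask 1) = 8 ∧ popc (golayMask 2) = 8 ∧ popc (golayMask 3) = 8 ∧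
    popc (golayMask 13) = 12 ∧ popc (golayMask 14) = 12 ∧ popc (golayMask 51) = 12 ∧
    golayMask 1 ^^^ golayMask 2 = golayMask 3 ∧ golayMask 13 ^^^ golayMask 14 = golayMask 3 := by
  decide

set_option maxRecDepth 1000000 in
theorem popc_compl_mask : ∀ k : Fin 4096, popc (golayMask k) = 16 →
    popc (16777215 ^^^ golayMask k) = 8 := by
  decide +kernel

theorem one_word_eq : (1 : GolayPt → ZMod 2) = gword 16777215 := by
  funext p
  exact one_eq_gword p

theorem add_self_word (w : GolayPt → ZMod 2) : w + w = 0 := by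
  funext p
  exact CharTwo.add_self_eq_zero (w p)

/-- an invariant subspace containing a codeword other than zero and the all-ones word contains
the whole code -/
theorem code_le_of_mem {W : Submodule (ZMod 2) (GolayPt → ZMod 2)} (hW : PermInv W)
    {c : GolayPt → ZMod 2} (hcW : c ∈ W) (hc : c ∈ golayCode) (h0 : c ≠ 0) (h1 : c ≠ 1) :
    golayCode ≤ W := by
  obtain ⟨hp1, hp2, hp3, hp13, hp14, _, hx12, hx1314⟩ := mask_facts
  have hO : ∀ k, popc (golayMask k) = 8 → gset (golayMask k) ∈ octads :=
    fun k hk => gset_mem_octads (golayMask_mem k) hk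
  have hthree : gword (golayMask 3) ∈ W → golayCode ≤ W := by
    intro h
    refine code_le_of_octad hW h (golayMask_mem 3) ?_
    rw [hammingNorm_gword]
    exact hp3
  rcases golay_weights c hc with h | h | h | h | h
  · exact absurd (eq_zero_of_hammingNorm h) h0
  · exact code_le_of_octad hW hcW hc h
  · -- a dodecad
    have hd : support₂ c ∈ dodecads := ⟨⟨c, hc, rfl⟩, h⟩
    have hD : ∀ k, popc (golayMask k) = 12 → gset (golayMask k) ∈ dodecads := by
      intro k hk
      refine ⟨⟨gword (golayMask k), golayMask_mem k, support₂_gword _⟩, ?_⟩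
      rw [card_gset]
      exact hk
    obtain ⟨g₁, hg₁⟩ := dodecads_transitive hd (hD 13 hp13)
    obtain ⟨g₂, hg₂⟩ := dodecads_transitive hd (hD 14 hp14)
    have e₁ : act (g₁ : Equiv.Perm GolayPt) c = gword (golayMask 13) := by
      apply eq_of_support₂_eq
      rw [support₂_act, support₂_gword]
      exact hg₁
    have e₂ : act (g₂ : Equiv.Perm GolayPt) c = gword (golayMask 14) := by
      apply eq_of_support₂_eq
      rw [support₂_act, support₂_gword]
      exact hg₂
    apply hthree
    rw [← hx1314, gword_xor, ← e₁, ← e₂]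
    exact W.add_mem (hW _ g₁.2 c hcW) (hW _ g₂.2 c hcW)
  · -- the complement of an octad
    obtain ⟨k, hk, rfl⟩ := (mem_golayCode_iff c).1 hc
    rw [hammingNorm_gword] at h
    have h8 := popc_compl_mask ⟨k, hk⟩ h
    simp only at h8
    set c' : GolayPt → ZMod 2 := gword (16777215 ^^^ golayMask k) with hc'
    have hc'1 : c' = 1 + gword (golayMask k) := by rw [hc', gword_xor, ← one_word_eq]
    have hc'C : c' ∈ golayCode := by
      rw [hc'1]
      exact golayCode.add_mem one_word_mem hc
    have hc'8 : hammingNorm c' = 8 := by rw [hc', hammingNorm_gword]; exact h8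
    have hoct : support₂ c' ∈ octads := (mem_octads_iff _).2 ⟨c', hc'C, rfl, hc'8⟩
    obtain ⟨g₁, hg₁⟩ := octads_transitive hoct (hO 1 hp1)
    obtain ⟨g₂, hg₂⟩ := octads_transitive hoct (hO 2 hp2)
    have e₁ : act (g₁ : Equiv.Perm GolayPt) c' = gword (golayMask 1) := by
      apply eq_of_support₂_eq
      rw [support₂_act, support₂_gword (golayMask 1)]
      exact hg₁
    have e₂ : act (g₂ : Equiv.Perm GolayPt) c' = gword (golayMask 2) := by
      apply eq_of_support₂_eq
      rw [support₂_act, support₂_gword (golayMask 2)]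
      exact hg₂
    have hck : gword (golayMask k) = 1 + c' := by
      rw [hc'1, ← add_assoc, add_self_word, zero_add]
    have f₁ : act (g₁ : Equiv.Perm GolayPt) (gword (golayMask k)) = 1 + gword (golayMask 1) := by
      rw [hck, act_add, act_one_word, e₁]
    have f₂ : act (g₂ : Equiv.Perm GolayPt) (gword (golayMask k)) = 1 + gword (golayMask 2) := by
      rw [hck, act_add, act_one_word, e₂]
    apply hthree
    have : gword (golayMask 3) = (1 + gword (golayMask 1)) + (1 + gword (golayMask 2)) := by
      rw [← hx12, gword_xor]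
      have := add_self_word (1 : GolayPt → ZMod 2)
      calc gword (golayMask 1) + gword (golayMask 2)
          = (1 + 1) + (gword (golayMask 1) + gword (golayMask 2)) := by rw [this, zero_add]
        _ = _ := by abel
    rw [this, ← f₁, ← f₂]
    exact W.add_mem (hW _ g₁.2 _ hcW) (hW _ g₂.2 _ hcW)
  · exact absurd (eq_one_of_hammingNorm h) h1

end Cfsg.Agent.Lib.helper3
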