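import Cfsg.Agent.Lib.Helper12.TCG.Parts

/-!
Upper bound for the index of a subgroup from a coset enumeration certificate in the format of helper12
(`Cfsg.Agent.Lib.Helper12.TCG`): only the covering part of the certificate is used, no permutation
representation is needed (helper3).
-/

set_option autoImplicit false

namespace Cfsg.Agent.Lib.Helper3.TCUpper

open Cfsg.Agent.Lib.Helper12.TC Cfsg.Agent.Lib.Helper12.TCG

set_option maxHeartbeats 1000000 in
/-- the index of the subgroup is at most the number of rows of the final table -/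
theorem index_le {G : Type*} [Group G] (v : ℕ → G) (g IV : ℕ) (hg : g ≤ 15)
    (hiv : ivK IV g = true)
    (hvinv : ∀ s < g, v (invS IV s) = (v s)⁻¹) (hvge : ∀ s, ¬ s < g → v s = 1)
    (hgen : ∀ γ : G, γ ∈ Subgroup.closure {y | ∃ x < g, y = v x})
    (baseL : List (List ℕ)) (hbase : ∀ b ∈ baseL, wprod v b = 1) (hlet : lettersK g baseL = true)
    (sw : List (List ℕ)) (hletsw : lettersK g sw = true) (H : Subgroup G)
    (hswH : ∀ w ∈ sw, wprod v w ∈ H)
    (F : ℕ → ℕ) (RW : ℕ) (finrecs : List ℕ) (rotW : List (ℕ × ℕ))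
    (chunks : List (ℕ × List ℕ)) (D K R0 R N : ℕ)
    (hdefs : defsK F D = true)
    (hchunks : ∀ c ∈ chunks, chunkG IV F RW R0 c.2 c.1 = true)
    (hcover : coverK D K chunks = true)
    (hrelc : relCheckK RW R0 R baseL rotW sw = true)
    (hfin : finG IV F K g finrecs = true) (hlen : finrecs.length = N) :
    Finite (G ⧸ H) ∧ Nat.card (G ⧸ H) ≤ N := by
  have hg16 : g ≤ 16 := by omega
  have hv15 : v 15 = 1 := hvge 15 (by omega)
  have hiv15 : invS IV 15 = 15 := ivK_ge hiv (by omega) (by decide)
  have hinv : ∀ s, s < 16 → v (invS IV s) = (v s)⁻¹ := by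
    intro s hs16
    by_cases hs : s < g
    · exact hvinv s hs
    · rw [ivK_ge hiv hs hs16, hvge s hs, inv_one]
  have hlet15 : ∀ L : List (List ℕ), lettersK g L = true → lettersK 15 L = true := by
    intro L hL
    refine (allListK_iff L _).mpr (fun w hw => (allListK_iff w _).mpr (fun s hs => ?_))
    have : s < g := lettersK_lt hL hw hs
    exact Nat.ble_eq_true_of_le (by omega)
  obtain ⟨hrel1, hrel2⟩ := relCheck_sound H v hrelc (hlet15 _ hlet) (hlet15 _ hletsw) hbase hswH
  have hvalid : ∀ k < K, Valid H v F k := by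
    intro k
    induction k using Nat.strong_induction_on with
    | _ k ih =>
      intro hk
      by_cases hkD : k < D
      · exact defsK_sound H v F hdefs hkD
      · exact chunks_valid H v F IV hv15 hinv hiv15 hrel1 hrel2 chunks K D hchunks hcover k
          (Nat.le_of_not_lt hkD) hk (fun j hj => ih j hj (lt_trans hj hk))
  have hcov := covering H v F IV hinv hg16 hiv hvalid hfin hgen
  let Θ : Fin (repsOf finrecs).length → G ⧸ H :=
    fun i => (((tau v F ((repsOf finrecs).get i))⁻¹ : G) : G ⧸ H)
  have hΘ : Function.Surjective Θ := by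
    intro q
    induction q using QuotientGroup.induction_on with
    | H γ =>
      obtain ⟨ℓ, hℓ, hmem⟩ := hcov γ⁻¹
      obtain ⟨i, hi⟩ := List.mem_iff_get.mp hℓ
      refine ⟨i, ?_⟩
      show (((tau v F ((repsOf finrecs).get i))⁻¹ : G) : G ⧸ H) = (γ : G ⧸ H)
      rw [QuotientGroup.eq, hi]
      rw [inv_inv] at hmem ⊢
      exact hmem
  have hfinite : Finite (G ⧸ H) := Finite.of_surjective Θ hΘ
  refine ⟨hfinite, ?_⟩
  have := Nat.card_le_card_of_surjective Θ hΘ
  rw [Nat.card_fin] at this
  have h2 : (repsOf finrecs).length = N := by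
    rw [← hlen]; exact List.length_map _
  rwa [h2] at this

/-- the order of the group from the index of a cyclic subgroup -/
theorem card_le_of_index_le {G : Type*} [Group G] (d : G) (n N : ℕ) (hn : 0 < n) (hd : d ^ n = 1)
    (hfin : Finite (G ⧸ Subgroup.zpowers d)) (hN : Nat.card (G ⧸ Subgroup.zpowers d) ≤ N) :
    Finite G ∧ Nat.card G ≤ N * n := by
  have hof : IsOfFinOrder d := isOfFinOrder_iff_pow_eq_one.mpr ⟨n, hn, hd⟩
  have hfz : Finite (Subgroup.zpowers d) := by
    rw [Subgroup.zpowers_eq_closure]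
    exact (finite_zpowers.mpr hof) |> fun h => by
      rw [← Subgroup.zpowers_eq_closure]; exact h
  have hG : Finite G := Finite.of_equiv _ (Subgroup.groupEquivQuotientProdSubgroup (s := Subgroup.zpowers d)).symm
  refine ⟨hG, ?_⟩
  rw [Subgroup.card_eq_card_quotient_mul_card_subgroup (Subgroup.zpowers d), Nat.card_zpowers]
  have h1 : orderOf d ≤ n := Nat.le_of_dvd hn (orderOf_dvd_of_pow_eq_one hd)
  exact Nat.mul_le_mul hN h1

end Cfsg.Agent.Lib.Helper3.TCUpper
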