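import Mathlib
import Cfsg.Agent.Lib.helper2.S91Defs
import Cfsg.Agent.Lib.helper23.SylowQuot

/-!
# Project S91 (S4091), piece NORM (helper3): passing to `H = N_G(P ⊓ L) ≥ N_G(P)`.
-/

set_option autoImplicit false

namespace Cfsg.Agent.Lib.helper2.S91
open Subgroup

universe u

/-- `N_G(P) ≤ N_G(P ⊓ L)` for `L` normal. -/
theorem norm_normalizer_le {G : Type*} [Group G] (P L : Subgroup G) [L.Normal] :
    normalizer (P : Set G) ≤ normalizer ((P ⊓ L : Subgroup G) : Set G) := by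
  intro g hg
  rw [mem_normalizer_iff] at hg ⊢
  intro x
  rw [mem_inf, mem_inf, ← hg x]
  constructor
  · rintro ⟨h1, h2⟩
    exact ⟨h1, ‹L.Normal›.conj_mem x h2 g⟩
  · rintro ⟨h1, h2⟩
    refine ⟨h1, ?_⟩
    have := ‹L.Normal›.conj_mem _ h2 g⁻¹
    simpa [mul_assoc] using this

/-- the `p`-elements of a subgroup, counted inside the subgroup or inside the group. -/
theorem norm_uIn_subgroup {G : Type*} [Group G] (p : ℕ) (H : Subgroup G) :
    Nat.card {g : ↥H // ∃ k : ℕ, orderOf g = p ^ k} = uIn p (H : Set G) := by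
  unfold uIn
  apply Nat.card_congr
  refine ⟨fun g => ⟨(g.1 : G), g.1.2, by obtain ⟨k, hk⟩ := g.2; exact ⟨k, by rw [← hk, Subgroup.orderOf_coe]⟩⟩,
    fun g => ⟨⟨g.1, g.2.1⟩, by obtain ⟨k, hk⟩ := g.2.2; exact ⟨k, by rw [← hk, ← Subgroup.orderOf_coe]⟩⟩,
    fun g => by ext; rfl, fun g => by ext; rfl⟩

/-- S91-NORM -/
theorem norm_step {G : Type u} [Group G] [Finite G] (p : ℕ) [Fact p.Prime] (L : Subgroup G)
    [L.Normal] (P : Sylow p G)
    (h : ∀ Q : Sylow p ↥(normalizer (((P : Subgroup G) ⊓ L : Subgroup G) : Set G)),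
        Nat.card ↥(Q : Subgroup ↥(normalizer (((P : Subgroup G) ⊓ L : Subgroup G) : Set G))) ^ p *
        Nat.card (Sylow p ↥(normalizer (((P : Subgroup G) ⊓ L : Subgroup G) : Set G))) ^ (p - 1) ≤
        Nat.card {g : ↥(normalizer (((P : Subgroup G) ⊓ L : Subgroup G) : Set G)) //
          ∃ k : ℕ, orderOf g = p ^ k} ^ p) :
    Nat.card ↥(P : Subgroup G) ^ p * Nat.card (Sylow p G) ^ (p - 1) ≤
      (normalizer (((P : Subgroup G) ⊓ L : Subgroup G) : Set G)).index ^ (p - 1) *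
        uIn p (normalizer (((P : Subgroup G) ⊓ L : Subgroup G) : Set G) : Set G) ^ p := by
  set H : Subgroup G := normalizer (((P : Subgroup G) ⊓ L : Subgroup G) : Set G) with hH
  have hNH : normalizer ((P : Subgroup G) : Set G) ≤ H := norm_normalizer_le (P : Subgroup G) L
  have hPH : (P : Subgroup G) ≤ H := le_trans le_normalizer hNH
  -- the Sylow subgroup of `H`
  have hQ := h (P.subtype hPH)
  have hcQ : Nat.card ↥((P.subtype hPH : Sylow p ↥H) : Subgroup ↥H) = Nat.card ↥(P : Subgroup G) := by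
    rw [Sylow.coe_subtype]
    exact Nat.card_congr (Subgroup.subgroupOfEquivOfLe hPH).toEquiv
  have hnH : Nat.card (Sylow p ↥H) = (normalizer ((P : Subgroup G) : Set G)).relIndex H :=
    Cfsg.Agent.Lib.helper23.card_sylow_eq_relIndex_normalizer H (P : Subgroup G) hPH
      (Cfsg.Agent.Lib.helper23.card_sylow_of_le P H hPH)
  have hnG : Nat.card (Sylow p G) = Nat.card (Sylow p ↥H) * H.index := by
    rw [Sylow.card_eq_index_normalizer P, hnH]
    exact (Subgroup.relIndex_mul_index hNH).symm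
  rw [hcQ, norm_uIn_subgroup] at hQ
  rw [hnG, mul_pow]
  calc Nat.card ↥(P : Subgroup G) ^ p * (Nat.card (Sylow p ↥H) ^ (p - 1) * H.index ^ (p - 1))
      = H.index ^ (p - 1) * (Nat.card ↥(P : Subgroup G) ^ p * Nat.card (Sylow p ↥H) ^ (p - 1)) := by
        ring
    _ ≤ H.index ^ (p - 1) * uIn p (H : Set G) ^ p := Nat.mul_le_mul_left _ hQ

end Cfsg.Agent.Lib.helper2.S91
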