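import Mathlib
import Cfsg.Agent.Lib.Helper9.A2S.Defs

/-!
# Project A2S (helper9, S2221), piece PS7 : `sumSub_swap_even_equiv`  (helper3)

The even part of `T × ⟨τ⟩` (with `τ` an odd involution) is isomorphic to `T`, by
`t ↦ (t, 1)` for even `t` and `t ↦ (t, τ)` for odd `t`.
-/

set_option autoImplicit false

namespace Cfsg.Agent.Lib.Helper9.A2S

open Equiv

theorem h3ps7_mem_zpowers {γ : Type*} (τ : Perm γ) (hτ : τ * τ = 1) (u : Perm γ)
    (hu : u ∈ Subgroup.zpowers τ) : u = 1 ∨ u = τ := by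
  obtain ⟨k, rfl⟩ := Subgroup.mem_zpowers_iff.1 hu
  have h2 : τ ^ (2 : ℤ) = 1 := by rw [zpow_two]; exact hτ
  have hk := Int.emod_add_mul_ediv k 2
  rw [← hk, zpow_add, zpow_mul, h2, one_zpow, mul_one]
  rcases Int.emod_two_eq_zero_or_one k with h | h <;> rw [h] <;> simp

/-- A2S-PS7 -/
theorem sumSub_swap_even_equiv {β γ : Type*} [Fintype β] [DecidableEq β] [Fintype γ] [DecidableEq γ]
    (T : Subgroup (Perm β)) (τ : Perm γ) (hτ : τ * τ = 1) (hs : Perm.sign τ = -1) :
    Nonempty (↥(sumSub T (Subgroup.zpowers τ) ⊓ alternatingGroup (β ⊕ γ)) ≃* ↥T) := by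
  classical
  have hτ1 : τ ≠ 1 := by
    intro h
    rw [h, Perm.sign_one] at hs
    exact absurd hs (by decide)
  let uf : Perm β → Perm γ := fun t => if Perm.sign t = 1 then 1 else τ
  have huf_mul : ∀ a b : Perm β, uf (a * b) = uf a * uf b := by
    intro a b
    simp only [uf, Perm.sign_mul]
    rcases Int.units_eq_one_or (Perm.sign a) with ha | ha <;>
      rcases Int.units_eq_one_or (Perm.sign b) with hb | hb <;> rw [ha, hb] <;> simp [hτ]
  let ufHom : Perm β →* Perm γ := MonoidHom.mk' uf huf_mul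
  have huf_mem : ∀ t : Perm β, uf t ∈ Subgroup.zpowers τ := by
    intro t
    simp only [uf]
    split_ifs
    · exact Subgroup.one_mem _
    · exact Subgroup.mem_zpowers τ
  have huf_sign : ∀ t : Perm β, Perm.sign t * Perm.sign (uf t) = 1 := by
    intro t
    simp only [uf]
    rcases Int.units_eq_one_or (Perm.sign t) with ht | ht <;> rw [ht] <;> simp [hs]
  let g : ↥T →* Perm (β ⊕ γ) :=
    (Perm.sumCongrHom β γ).comp ((T.subtype).prod (ufHom.comp T.subtype))
  have hg : ∀ t : ↥T, g t = Perm.sumCongr (t : Perm β) (uf t) := fun t => rfl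
  have hmem : ∀ t : ↥T, g t ∈ sumSub T (Subgroup.zpowers τ) ⊓ alternatingGroup (β ⊕ γ) := by
    intro t
    refine Subgroup.mem_inf.2 ⟨?_, ?_⟩
    · exact ⟨((t : Perm β), uf t), ⟨t.2, huf_mem t⟩, rfl⟩
    · rw [Perm.mem_alternatingGroup, hg, Perm.sign_sumCongr]
      exact huf_sign t
  let f : ↥T →* ↥(sumSub T (Subgroup.zpowers τ) ⊓ alternatingGroup (β ⊕ γ)) :=
    g.codRestrict _ hmem
  have hfinj : Function.Injective f := by
    intro a b hab
    have h1 : g a = g b := congrArg Subtype.val hab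
    have h2 := Perm.sumCongrHom_injective h1
    exact Subtype.ext (Prod.mk.inj h2).1
  have hfsurj : Function.Surjective f := by
    rintro ⟨w, hw⟩
    obtain ⟨hw1, hw2⟩ := Subgroup.mem_inf.1 hw
    obtain ⟨⟨t, u⟩, ⟨ht, hu⟩, rfl⟩ := hw1
    have hsign : Perm.sign t * Perm.sign u = 1 := by
      have := Perm.mem_alternatingGroup.1 hw2
      change Perm.sign (Perm.sumCongr t u) = 1 at this
      rwa [Perm.sign_sumCongr] at this
    have hu' : u = uf t := by
      simp only [uf]
      rcases h3ps7_mem_zpowers τ hτ u hu with h1 | h1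
      · subst h1
        rw [Perm.sign_one, mul_one] at hsign
        rw [if_pos hsign]
      · subst h1
        rw [hs] at hsign
        have hne : Perm.sign t ≠ 1 := by
          intro h
          rw [h] at hsign
          exact absurd hsign (by decide)
        rw [if_neg hne]
    refine ⟨⟨t, ht⟩, ?_⟩
    apply Subtype.ext
    change Perm.sumCongr t (uf t) = Perm.sumCongr t u
    rw [hu']
  exact ⟨(MulEquiv.ofBijective f ⟨hfinj, hfsurj⟩).symm⟩

end Cfsg.Agent.Lib.Helper9.A2S
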