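import Mathlib

set_option autoImplicit false

/-!
# A copy of the alternating group of degree 7 inside GL(4, 2)

Seven non-degenerate alternating forms on a 4-space over the field with 2 elements, any two of
which have a non-degenerate sum, are permuted by a subgroup of GL(4, 2) which induces exactly the
even permutations on them.
-/

namespace Cfsg.Agent.Lib.helper3

open Matrix Equiv

/-- the seven alternating forms -/
def a7Omega : Fin 7 → Matrix (Fin 4) (Fin 4) (ZMod 2) :=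
  ![!![0,0,0,1;0,0,1,0;0,1,0,0;1,0,0,0],
    !![0,1,0,0;1,0,1,0;0,1,0,1;0,0,1,0],
    !![0,0,1,0;0,0,1,1;1,1,0,1;0,1,1,0],
    !![0,1,1,0;1,0,1,1;1,1,0,0;0,1,0,0],
    !![0,1,0,1;1,0,0,1;0,0,0,1;1,1,1,0],
    !![0,0,1,1;0,0,0,1;1,0,0,0;1,1,0,0],
    !![0,1,1,1;1,0,0,0;1,0,0,1;1,0,1,0]]

/-- decode a 16-bit number as a 4 × 4 matrix -/
def a7Dec (n : ℕ) : Matrix (Fin 4) (Fin 4) (ZMod 2) :=
  fun i j => if n.testBit (4 * i.val + j.val) then 1 else 0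

/-- the table of matrices inducing the 3-cycles -/
def a7TabL : List ℕ := [0, 0, 0, 0, 0, 0, 0, 0, 0, 54862, 29291, 61893, 22506, 41871, 0, 21103, 0, 46668, 61309, 56083, 14686, 0, 63050, 12909, 0, 31388, 51419, 48887, 0, 30180, 27484, 65213, 0, 8137, 39544, 0, 54219, 24370, 19706, 39912, 0, 6105, 0, 10158, 48511, 15062, 7769, 37880, 0, 0, 0, 21103, 63050, 30180, 54219, 10158, 0, 0, 0, 0, 0, 0, 0, 54862, 0, 0, 4713, 51446, 23223, 19615, 29291, 0, 38472, 0, 63794, 60762, 28435, 61893, 0, 19671, 32019, 0, 47590, 51250, 22506, 0, 56982, 27003, 15815, 0, 58300, 41871, 0, 51390, 60210, 19475, 26525, 0, 0, 54862, 0, 12909, 27484, 24370, 48511, 21103, 0, 0, 38472, 19671, 56982, 51390, 0, 0, 0, 0, 0, 0, 0, 46668, 4713, 0, 0, 9133, 42372, 12773, 61309, 51446, 0, 42892, 0, 11175, 19547, 56083, 23223, 0, 8613, 44934, 0, 62868, 14686, 19615, 0, 46532, 51322, 29109, 0, 0, 29291, 46668, 0, 65213,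 19706, 15062, 63050, 0, 4713, 0, 32019, 27003, 60210, 12909, 38472, 0, 0, 42892, 8613, 46532, 0, 0, 0, 0, 0, 0, 0, 31388, 63794, 9133, 0, 0, 44430, 24083, 51419, 60762, 42372, 0, 10671, 0, 25077, 48887, 28435, 12773, 0, 55858, 58836, 0, 0, 61893, 61309, 31388, 0, 39912, 7769, 30180, 0, 51446, 63794, 0, 15815, 19475, 27484, 19671, 0, 9133, 0, 44934, 51322, 65213, 32019, 42892, 0, 0, 10671, 55858, 0, 0, 0, 0, 0, 0, 0, 8137, 47590, 11175, 44430, 0, 0, 37480, 39544, 51250, 19547, 24083, 0, 5705, 0, 0, 22506, 56083, 51419, 8137, 0, 37880, 54219, 0, 23223, 60762, 47590, 0, 26525, 24370, 56982, 0, 42372, 11175, 0, 29109, 19706, 27003, 8613, 0, 44430, 0, 58836, 39912, 15815, 44934, 10671, 0, 0, 5705, 0, 0, 0, 0, 0, 0, 0, 6105, 58300, 62868, 25077, 37480, 0, 0, 0, 41871, 14686, 48887, 39544, 6105, 0, 10158, 0, 19615, 28435, 51250, 58300, 0, 48511, 51390, 0, 12773, 19547, 62868, 0, 15062, 60210,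 46532, 0, 24083, 25077, 0, 7769, 19475, 51322, 55858, 0, 37480, 0, 37880, 26525, 29109, 58836, 5705, 0, 0, 0, 0, 0, 0, 0, 0, 0]

/-- the matrix inducing the 3-cycle a → b → c → a -/
def a7Tab (a b c : Fin 7) : Matrix (Fin 4) (Fin 4) (ZMod 2) :=
  a7Dec (a7TabL.getD (49 * a.val + 7 * b.val + c.val) 0)

set_option maxRecDepth 100000 in
theorem a7Tab_inv : ∀ a b c : Fin 7, a ≠ b → b ≠ c → a ≠ c →
    a7Tab a b c * a7Tab c b a = 1 := by decide +kernel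

set_option maxRecDepth 100000 in
theorem a7Tab_act : ∀ a b c : Fin 7, a ≠ b → b ≠ c → a ≠ c → ∀ i : Fin 7,
    a7Tab a b c * a7Omega i * (a7Tab a b c)ᵀ = a7Omega ((swap a b * swap b c) i) := by
  decide +kernel

/-- explicit bilinear form value -/
def a7B (w : Matrix (Fin 4) (Fin 4) (ZMod 2)) (x y : Fin 4 → ZMod 2) : ZMod 2 :=
  x 0 * (w 0 0 * y 0 + w 0 1 * y 1 + w 0 2 * y 2 + w 0 3 * y 3) +
  x 1 * (w 1 0 * y 0 + w 1 1 * y 1 + w 1 2 * y 2 + w 1 3 * y 3) +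
  x 2 * (w 2 0 * y 0 + w 2 1 * y 1 + w 2 2 * y 2 + w 2 3 * y 3) +
  x 3 * (w 3 0 * y 0 + w 3 1 * y 1 + w 3 2 * y 2 + w 3 3 * y 3)

theorem a7B_eq (w h : Matrix (Fin 4) (Fin 4) (ZMod 2)) (i j : Fin 4) :
    (h * w * hᵀ) i j = a7B w (h i) (h j) := by
  simp only [Matrix.mul_apply, Matrix.transpose_apply, Fin.sum_univ_four, a7B]
  ring

set_option maxRecDepth 100000 in
set_option synthInstance.maxSize 2000 in
set_option synthInstance.maxHeartbeats 400000 in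
theorem a7_bf : ∀ a0 a1 a2 a3 b0 b1 b2 b3 : ZMod 2,
    (∀ i : Fin 7, 2 ≤ i.val → a7B (a7Omega i) ![a0,a1,a2,a3] ![b0,b1,b2,b3] = a7Omega i 0 1) →
    ∀ c0 c1 c2 c3 : ZMod 2,
    (∀ i : Fin 7, 2 ≤ i.val → a7B (a7Omega i) ![a0,a1,a2,a3] ![c0,c1,c2,c3] = a7Omega i 0 2 ∧
      a7B (a7Omega i) ![b0,b1,b2,b3] ![c0,c1,c2,c3] = a7Omega i 1 2) →
    ∀ d0 d1 d2 d3 : ZMod 2,
    (∀ i : Fin 7, 2 ≤ i.val → a7B (a7Omega i) ![a0,a1,a2,a3] ![d0,d1,d2,d3] = a7Omega i 0 3 ∧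
      a7B (a7Omega i) ![b0,b1,b2,b3] ![d0,d1,d2,d3] = a7Omega i 1 3 ∧
      a7B (a7Omega i) ![c0,c1,c2,c3] ![d0,d1,d2,d3] = a7Omega i 2 3) →
    (a0 = 1 ∧ a1 = 0 ∧ a2 = 0 ∧ a3 = 0) ∧ (b0 = 0 ∧ b1 = 1 ∧ b2 = 0 ∧ b3 = 0) ∧
    (c0 = 0 ∧ c1 = 0 ∧ c2 = 1 ∧ c3 = 0) ∧ (d0 = 0 ∧ d1 = 0 ∧ d2 = 0 ∧ d3 = 1) := by
  decide +kernel

theorem a7_row (x : Fin 4 → ZMod 2) : ![x 0, x 1, x 2, x 3] = x := by
  funext j
  fin_cases j <;> rfl

/-- a matrix fixing the last five forms is the identity -/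
theorem a7_bf_mat (h : Matrix (Fin 4) (Fin 4) (ZMod 2))
    (hh : ∀ i : Fin 7, 2 ≤ i.val → h * a7Omega i * hᵀ = a7Omega i) : h = 1 := by
  have e : ∀ (i : Fin 7) (hi : 2 ≤ i.val) (r s : Fin 4),
      a7B (a7Omega i) (h r) (h s) = a7Omega i r s := by
    intro i hi r s
    rw [← a7B_eq, hh i hi]
  have key := a7_bf (h 0 0) (h 0 1) (h 0 2) (h 0 3) (h 1 0) (h 1 1) (h 1 2) (h 1 3)
    (by intro i hi; rw [a7_row, a7_row]; exact e i hi 0 1)
    (h 2 0) (h 2 1) (h 2 2) (h 2 3)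
    (by intro i hi; rw [a7_row, a7_row, a7_row]; exact ⟨e i hi 0 2, e i hi 1 2⟩)
    (h 3 0) (h 3 1) (h 3 2) (h 3 3)
    (by intro i hi; rw [a7_row, a7_row, a7_row, a7_row]; exact ⟨e i hi 0 3, e i hi 1 3, e i hi 2 3⟩)
  obtain ⟨⟨h00, h01, h02, h03⟩, ⟨h10, h11, h12, h13⟩, ⟨h20, h21, h22, h23⟩,
    ⟨h30, h31, h32, h33⟩⟩ := key
  ext r s
  fin_cases r <;> fin_cases s <;> simp [*]

theorem a7Omega_injective : Function.Injective a7Omega := by decide +kernel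

/-- the graph of the action on the seven forms -/
def a7K : Subgroup (Perm (Fin 7) × GL (Fin 4) (ZMod 2)) where
  carrier := {p | ∀ i, (p.2 : Matrix (Fin 4) (Fin 4) (ZMod 2)) * a7Omega i *
    (p.2 : Matrix (Fin 4) (Fin 4) (ZMod 2))ᵀ = a7Omega (p.1 i)}
  one_mem' := by
    intro i
    simp
  mul_mem' := by
    intro p q hp hq i
    have h1 := hq i
    have h2 := hp (q.1 i)
    show ((p.2 * q.2 : GL (Fin 4) (ZMod 2)) : Matrix (Fin 4) (Fin 4) (ZMod 2)) * a7Omega i *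
      ((p.2 * q.2 : GL (Fin 4) (ZMod 2)) : Matrix (Fin 4) (Fin 4) (ZMod 2))ᵀ = a7Omega ((p.1 * q.1) i)
    rw [Units.val_mul, Matrix.transpose_mul, Perm.mul_apply, ← h2, ← h1]
    simp only [Matrix.mul_assoc]
  inv_mem' := by
    intro p hp i
    have h1 := hp (p.1⁻¹ i)
    have h0 : p.1 (p.1⁻¹ i) = i := Equiv.apply_symm_apply p.1 i
    rw [h0] at h1
    show ((p.2⁻¹ : GL (Fin 4) (ZMod 2)) : Matrix (Fin 4) (Fin 4) (ZMod 2)) * a7Omega i *
      ((p.2⁻¹ : GL (Fin 4) (ZMod 2)) : Matrix (Fin 4) (Fin 4) (ZMod 2))ᵀ = a7Omega (p.1⁻¹ i)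
    rw [← h1]
    have h3 : ((p.2⁻¹ : GL (Fin 4) (ZMod 2)) : Matrix (Fin 4) (Fin 4) (ZMod 2)) *
        (p.2 : Matrix (Fin 4) (Fin 4) (ZMod 2)) = 1 := by
      rw [← Units.val_mul, inv_mul_cancel, Units.val_one]
    have h4 : (p.2 : Matrix (Fin 4) (Fin 4) (ZMod 2))ᵀ *
        ((p.2⁻¹ : GL (Fin 4) (ZMod 2)) : Matrix (Fin 4) (Fin 4) (ZMod 2))ᵀ = 1 := by
      rw [← Matrix.transpose_mul, h3, Matrix.transpose_one]
    calc _ = (((p.2⁻¹ : GL (Fin 4) (ZMod 2)) : Matrix (Fin 4) (Fin 4) (ZMod 2)) *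
          (p.2 : Matrix (Fin 4) (Fin 4) (ZMod 2))) * a7Omega (p.1⁻¹ i) *
          ((p.2 : Matrix (Fin 4) (Fin 4) (ZMod 2))ᵀ *
          ((p.2⁻¹ : GL (Fin 4) (ZMod 2)) : Matrix (Fin 4) (Fin 4) (ZMod 2))ᵀ) := by
          simp only [Matrix.mul_assoc]
      _ = _ := by rw [h3, h4, Matrix.one_mul, Matrix.mul_one]

theorem mem_a7K (p : Perm (Fin 7) × GL (Fin 4) (ZMod 2)) :
    p ∈ a7K ↔ ∀ i, (p.2 : Matrix (Fin 4) (Fin 4) (ZMod 2)) * a7Omega i *
      (p.2 : Matrix (Fin 4) (Fin 4) (ZMod 2))ᵀ = a7Omega (p.1 i) := Iff.rfl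

/-- first projection -/
def a7P1 : ↥a7K →* Perm (Fin 7) := (MonoidHom.fst _ _).comp a7K.subtype

/-- second projection -/
def a7P2 : ↥a7K →* GL (Fin 4) (ZMod 2) := (MonoidHom.snd _ _).comp a7K.subtype

theorem a7P2_injective : Function.Injective a7P2 := by
  intro x y hxy
  have h2 : x.1.2 = y.1.2 := hxy
  apply Subtype.ext
  apply Prod.ext _ h2
  ext i
  have hx := x.2 i
  have hy := y.2 i
  rw [h2, hy] at hx
  rw [a7Omega_injective hx]

theorem a7P1_injective : Function.Injective a7P1 := by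
  rw [injective_iff_map_eq_one]
  intro x hx
  have h1 : x.1.1 = 1 := hx
  have h2 : (x.1.2 : Matrix (Fin 4) (Fin 4) (ZMod 2)) = 1 := by
    apply a7_bf_mat
    intro i _
    have := x.2 i
    rw [h1] at this
    simpa using this
  apply Subtype.ext
  apply Prod.ext h1
  exact Units.ext h2

/-- the GL element inducing a 3-cycle -/
def a7G (a b c : Fin 7) (ab : a ≠ b) (bc : b ≠ c) (ac : a ≠ c) : GL (Fin 4) (ZMod 2) :=
  ⟨a7Tab a b c, a7Tab c b a, a7Tab_inv a b c ab bc ac,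
    a7Tab_inv c b a bc.symm ab.symm ac.symm⟩

theorem a7_alt_le : alternatingGroup (Fin 7) ≤ a7P1.range := by
  rw [← Perm.closure_three_cycles_eq_alternating, Subgroup.closure_le]
  intro σ hσ
  have hσ' : Perm.IsThreeCycle σ := hσ
  obtain ⟨a, ha⟩ : ∃ a, a ∈ σ.support := by
    have := hσ'.card_support
    apply Finset.card_pos.mp
    omega
  have h1 := hσ'.eq_swap_mul_swap_iff_mem_support.mpr ha
  have h2 := hσ'.nodup_iff_mem_support.mpr ha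
  simp only [List.nodup_cons, List.mem_cons, List.not_mem_nil, or_false,
    not_or, not_false_eq_true, List.nodup_nil, and_true] at h2
  obtain ⟨⟨ab, ac⟩, bc⟩ := h2
  refine ⟨⟨(σ, a7G a (σ a) (σ (σ a)) ab bc ac), ?_⟩, rfl⟩
  intro i
  show a7Tab a (σ a) (σ (σ a)) * a7Omega i * (a7Tab a (σ a) (σ (σ a)))ᵀ = a7Omega (σ i)
  rw [a7Tab_act a _ _ ab bc ac i, ← h1]

theorem a7_swap_not_mem : swap (0 : Fin 7) 1 ∉ a7P1.range := by
  rintro ⟨y, hy⟩
  have h1 : y.1.1 = swap (0 : Fin 7) 1 := hy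
  have h2 : (y.1.2 : Matrix (Fin 4) (Fin 4) (ZMod 2)) = 1 := by
    apply a7_bf_mat
    intro i hi
    have := y.2 i
    rw [h1, swap_apply_of_ne_of_ne] at this
    · exact this
    · intro h; rw [h] at hi; simp at hi
    · intro h; rw [h] at hi; simp at hi
  have h3 := y.2 0
  rw [h1, h2, swap_apply_left] at h3
  simp only [Matrix.one_mul, Matrix.transpose_one, Matrix.mul_one] at h3
  have := a7Omega_injective h3
  exact absurd this (by decide)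

theorem a7_range_P1 : a7P1.range = alternatingGroup (Fin 7) := by
  apply le_antisymm _ a7_alt_le
  rintro σ ⟨x, rfl⟩
  rw [Perm.mem_alternatingGroup]
  by_contra hs
  have hs' : Perm.sign (a7P1 x) = -1 := by
    rcases Int.units_eq_one_or (Perm.sign (a7P1 x)) with h | h
    · exact absurd h hs
    · exact h
  have hev : (a7P1 x)⁻¹ * swap (0 : Fin 7) 1 ∈ alternatingGroup (Fin 7) := by
    rw [Perm.mem_alternatingGroup, map_mul, map_inv, hs', Perm.sign_swap (by decide)]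
    decide
  have h1 := a7_alt_le hev
  have h2 : a7P1 x * ((a7P1 x)⁻¹ * swap (0 : Fin 7) 1) ∈ a7P1.range :=
    mul_mem ⟨x, rfl⟩ h1
  rw [mul_inv_cancel_left] at h2
  exact a7_swap_not_mem h2

/-- a subgroup of GL(4, 2) isomorphic to the alternating group of degree 7 -/
theorem a7_exists_zmod : ∃ H : Subgroup (GL (Fin 4) (ZMod 2)),
    Nonempty (↥H ≃* ↥(alternatingGroup (Fin 7))) := by
  refine ⟨a7P2.range, ⟨?_⟩⟩
  exact ((MonoidHom.ofInjective a7P2_injective).symm.trans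
    (MonoidHom.ofInjective a7P1_injective)).trans (MulEquiv.subgroupCongr a7_range_P1)

end Cfsg.Agent.Lib.helper3
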