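import Cfsg.Agent.Lib.helper3.A7Trans

set_option autoImplicit false

/-!
# Subgroups of order 2520 of GL(4, 2) are 2-transitive on non-zero vectors
-/

namespace Cfsg.Agent.Lib.helper3

open MulAction Matrix

section gl4

variable {F : Type*} [Field F]

/-- the natural action of GL(4, F) on column vectors -/
@[reducible] def gl4Act : MulAction (GL (Fin 4) F) (Fin 4 → F) where
  smul g v := (g : Matrix (Fin 4) (Fin 4) F) *ᵥ v
  one_smul v := by
    show ((1 : GL (Fin 4) F) : Matrix (Fin 4) (Fin 4) F) *ᵥ v = v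
    simp
  mul_smul g h v := by
    show ((g * h : GL (Fin 4) F) : Matrix (Fin 4) (Fin 4) F) *ᵥ v =
      (g : Matrix (Fin 4) (Fin 4) F) *ᵥ ((h : Matrix (Fin 4) (Fin 4) F) *ᵥ v)
    simp [Matrix.mulVec_mulVec]

attribute [local instance] gl4Act

theorem gl4_smul_def (g : GL (Fin 4) F) (v : Fin 4 → F) :
    g • v = (g : Matrix (Fin 4) (Fin 4) F) *ᵥ v := rfl

theorem gl4_smul_zero (g : GL (Fin 4) F) : g • (0 : Fin 4 → F) = 0 := by
  rw [gl4_smul_def, Matrix.mulVec_zero]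

theorem gl4_smul_eq_zero (g : GL (Fin 4) F) (v : Fin 4 → F) (h : g • v = 0) : v = 0 := by
  have := congrArg (fun y => g⁻¹ • y) h
  simpa [gl4_smul_zero] using this

theorem gl4_exists_moved (g : GL (Fin 4) F) (hg : g ≠ 1) : ∃ v : Fin 4 → F, g • v ≠ v := by
  by_contra hcon
  push Not at hcon
  apply hg
  apply Units.ext
  rw [Matrix.ext_iff_mulVec]
  intro v
  rw [← gl4_smul_def, hcon v]
  simp

/-- the fixed vectors of an element, as an additive subgroup -/
def gl4Fix (g : GL (Fin 4) F) : AddSubgroup (Fin 4 → F) where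
  carrier := {v | g • v = v}
  zero_mem' := gl4_smul_zero g
  add_mem' := by
    intro a b ha hb
    show g • (a + b) = a + b
    rw [gl4_smul_def, Matrix.mulVec_add, ← gl4_smul_def, ← gl4_smul_def, ha, hb]
  neg_mem' := by
    intro a ha
    show g • (-a) = -a
    rw [gl4_smul_def, Matrix.mulVec_neg, ← gl4_smul_def, ha]

theorem mem_gl4Fix (g : GL (Fin 4) F) (v : Fin 4 → F) : v ∈ gl4Fix g ↔ g • v = v := Iff.rfl

variable [Fintype F]

omit [Field F] in
theorem gl4_card_vec (hF : Fintype.card F = 2) : Nat.card (Fin 4 → F) = 16 := by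
  rw [Nat.card_eq_fintype_card, Fintype.card_fun, hF]
  rfl

/-- the number of fixed vectors of an element of prime order `p` -/
theorem gl4_card_fix (hF : Fintype.card F = 2) (g : GL (Fin 4) F) (p : ℕ) [Fact p.Prime]
    (hg : g ^ p = 1) (hg1 : g ≠ 1) :
    Nat.card (gl4Fix g) ∣ 16 ∧ Nat.card (gl4Fix g) ≠ 16 ∧ 16 ≡ Nat.card (gl4Fix g) [MOD p] := by
  have hV := gl4_card_vec hF
  refine ⟨?_, ?_, ?_⟩
  · rw [← hV]
    exact AddSubgroup.card_addSubgroup_dvd_card _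
  · intro h16
    obtain ⟨v, hv⟩ := gl4_exists_moved g hg1
    have htop : gl4Fix g = ⊤ := by
      apply AddSubgroup.eq_top_of_card_eq
      rw [h16, hV]
    have : v ∈ gl4Fix g := by rw [htop]; trivial
    exact hv this
  · have h := card_modEq_fixed_of_prime_order g p hg (Set.univ : Set (Fin 4 → F))
      (fun x _ => Set.mem_univ _)
    rw [Nat.card_congr (Equiv.Set.univ (Fin 4 → F)), hV] at h
    have e : {x : Fin 4 → F // x ∈ (Set.univ : Set (Fin 4 → F)) ∧ g • x = x} ≃ ↥(gl4Fix g) :=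
      { toFun := fun x => ⟨x.1, x.2.2⟩
        invFun := fun x => ⟨x.1, Set.mem_univ _, x.2⟩
        left_inv := fun x => rfl
        right_inv := fun x => rfl }
    rw [Nat.card_congr e] at h
    exact h

theorem gl4_card_fix_five (hF : Fintype.card F = 2) (g : GL (Fin 4) F)
    (hg : g ^ 5 = 1) (hg1 : g ≠ 1) : Nat.card (gl4Fix g) = 1 := by
  have : Fact (Nat.Prime 5) := ⟨by norm_num⟩
  obtain ⟨h1, h2, h3⟩ := gl4_card_fix hF g 5 hg hg1
  have hle : Nat.card (gl4Fix g) ≤ 16 := Nat.le_of_dvd (by norm_num) h1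
  unfold Nat.ModEq at h3
  generalize Nat.card (gl4Fix g) = d at *
  interval_cases d <;> omega

theorem gl4_card_fix_seven (hF : Fintype.card F = 2) (g : GL (Fin 4) F)
    (hg : g ^ 7 = 1) (hg1 : g ≠ 1) : Nat.card (gl4Fix g) = 2 := by
  have : Fact (Nat.Prime 7) := ⟨by norm_num⟩
  obtain ⟨h1, h2, h3⟩ := gl4_card_fix hF g 7 hg hg1
  have hle : Nat.card (gl4Fix g) ≤ 16 := Nat.le_of_dvd (by norm_num) h1
  unfold Nat.ModEq at h3
  generalize Nat.card (gl4Fix g) = d at *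
  interval_cases d <;> omega

section sub

variable (hF : Fintype.card F = 2) (H : Subgroup (GL (Fin 4) F))

omit [Fintype F] in
theorem gl4_sub_smul_def (h : ↥H) (v : Fin 4 → F) : h • v = (h : GL (Fin 4) F) • v := rfl

omit [Fintype F] in
theorem gl4_coe_pow_eq_one (x : ↥H) (n : ℕ) (hx : orderOf x = n) :
    (x : GL (Fin 4) F) ^ n = 1 := by
  rw [← Subgroup.coe_pow, ← hx, pow_orderOf_eq_one, Subgroup.coe_one]

omit [Fintype F] in
theorem gl4_coe_ne_one (x : ↥H) (n : ℕ) (hx : orderOf x = n) (hn : n ≠ 1) :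
    (x : GL (Fin 4) F) ≠ 1 := by
  intro h
  apply hn
  rw [← hx, orderOf_eq_one_iff]
  exact Subtype.ext h

include hF in
/-- two non-zero fixed vectors of an element of order 7 coincide -/
theorem gl4_fix_seven_unique (g : GL (Fin 4) F) (hg : g ^ 7 = 1) (hg1 : g ≠ 1)
    (y₁ y₂ : Fin 4 → F) (h₁ : g • y₁ = y₁) (h₂ : g • y₂ = y₂) (n₁ : y₁ ≠ 0) (n₂ : y₂ ≠ 0) :
    y₁ = y₂ := by
  have hc := gl4_card_fix_seven hF g hg hg1
  rw [Nat.card_eq_two_iff] at hc
  obtain ⟨a, b, hab, huniv⟩ := hc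
  have hmem : ∀ z : ↥(gl4Fix g), z = a ∨ z = b := by
    intro z
    have : z ∈ ({a, b} : Set ↥(gl4Fix g)) := by rw [huniv]; trivial
    simpa using this
  have z0 := hmem ⟨0, (gl4Fix g).zero_mem⟩
  have z1 := hmem ⟨y₁, h₁⟩
  have z2 := hmem ⟨y₂, h₂⟩
  have e1 : (⟨y₁, h₁⟩ : ↥(gl4Fix g)) ≠ ⟨0, (gl4Fix g).zero_mem⟩ := by
    intro h; exact n₁ (congrArg Subtype.val h)
  have e2 : (⟨y₂, h₂⟩ : ↥(gl4Fix g)) ≠ ⟨0, (gl4Fix g).zero_mem⟩ := by
    intro h; exact n₂ (congrArg Subtype.val h)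
  have : (⟨y₁, h₁⟩ : ↥(gl4Fix g)) = ⟨y₂, h₂⟩ := by
    rcases z0 with z0 | z0 <;> rcases z1 with z1 | z1 <;> rcases z2 with z2 | z2 <;>
      first
      | exact absurd (z1.trans z0.symm) e1
      | exact absurd (z2.trans z0.symm) e2
      | exact z1.trans z2.symm
  exact congrArg Subtype.val this

include hF in
/-- a non-identity element of order 5 fixes no non-zero vector -/
theorem gl4_fix_five_zero (g : GL (Fin 4) F) (hg : g ^ 5 = 1) (hg1 : g ≠ 1)
    (y : Fin 4 → F) (h : g • y = y) : y = 0 := by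
  have hc := gl4_card_fix_five hF g hg hg1
  have hbot : gl4Fix g = ⊥ := AddSubgroup.eq_bot_of_card_eq _ hc
  have : y ∈ gl4Fix g := h
  rw [hbot, AddSubgroup.mem_bot] at this
  exact this

omit [Fintype F] in
theorem gl4_zero_notMem_orbit (K : Subgroup ↥H) (v : Fin 4 → F) (hv : v ≠ 0) :
    (0 : Fin 4 → F) ∉ orbit ↥K v := by
  rintro ⟨h, hh⟩
  exact hv (gl4_smul_eq_zero _ v hh)

omit [Fintype F] in
theorem gl4_zero_notMem_orbit' (v : Fin 4 → F) (hv : v ≠ 0) :
    (0 : Fin 4 → F) ∉ orbit ↥H v := by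
  rintro ⟨h, hh⟩
  exact hv (gl4_smul_eq_zero _ v hh)

include hF in
theorem gl4_ncard_compl_zero : ({0}ᶜ : Set (Fin 4 → F)).ncard = 15 := by
  have hV := gl4_card_vec hF
  rw [Set.ncard_compl, Set.ncard_singleton, hV]

include hF in
/-- the orbit of a non-zero vector under a subgroup containing elements of orders 5 and 7 is
everything non-zero -/
theorem gl4_orbit_eq (x5 x7 : ↥H) (h5 : orderOf x5 = 5) (h7 : orderOf x7 = 7)
    (v : Fin 4 → F) (hv : v ≠ 0) : orbit ↥H v = {0}ᶜ := by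
  classical
  have h0 := gl4_zero_notMem_orbit' H v hv
  have hsub : orbit ↥H v ⊆ {0}ᶜ := by
    intro y hy hy0
    rw [Set.mem_singleton_iff] at hy0
    exact h0 (hy0 ▸ hy)
  have hc := gl4_ncard_compl_zero hF
  have hle : (orbit ↥H v).ncard ≤ 15 := hc ▸ Set.ncard_le_ncard hsub (Set.toFinite _)
  have hpos : 0 < (orbit ↥H v).ncard :=
    (Set.ncard_pos (Set.toFinite _)).mpr ⟨v, mem_orbit_self v⟩
  have hinv : ∀ x : ↥H, ∀ y ∈ orbit ↥H v, x • y ∈ orbit ↥H v := by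
    rintro x y ⟨h, rfl⟩
    exact ⟨x * h, mul_smul x h v⟩
  have e5 : (orbit ↥H v).ncard % 5 = 0 := by
    have : Fact (Nat.Prime 5) := ⟨by norm_num⟩
    have h := card_modEq_fixed_of_prime_order x5 5 (h5 ▸ pow_orderOf_eq_one x5) (orbit ↥H v)
      (hinv x5)
    have hemp : IsEmpty {y : Fin 4 → F // y ∈ orbit ↥H v ∧ x5 • y = y} := by
      constructor
      rintro ⟨y, hy, hfix⟩
      have := gl4_fix_five_zero hF (x5 : GL (Fin 4) F) (gl4_coe_pow_eq_one H x5 5 h5)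
        (gl4_coe_ne_one H x5 5 h5 (by norm_num)) y hfix
      exact h0 (this ▸ hy)
    rw [Nat.card_of_isEmpty (α := {y : Fin 4 → F // y ∈ orbit ↥H v ∧ x5 • y = y}),
      Nat.card_coe_set_eq] at h
    exact h
  have e7 : (orbit ↥H v).ncard % 7 ≤ 1 := by
    have : Fact (Nat.Prime 7) := ⟨by norm_num⟩
    have h := card_modEq_fixed_of_prime_order x7 7 (h7 ▸ pow_orderOf_eq_one x7) (orbit ↥H v)
      (hinv x7)
    have hss : Subsingleton {y : Fin 4 → F // y ∈ orbit ↥H v ∧ x7 • y = y} := by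
      constructor
      rintro ⟨y₁, hy₁, hf₁⟩ ⟨y₂, hy₂, hf₂⟩
      apply Subtype.ext
      exact gl4_fix_seven_unique hF (x7 : GL (Fin 4) F) (gl4_coe_pow_eq_one H x7 7 h7)
        (gl4_coe_ne_one H x7 7 h7 (by norm_num)) y₁ y₂ hf₁ hf₂
        (fun h => h0 (h ▸ hy₁)) (fun h => h0 (h ▸ hy₂))
    have hle1 := Finite.card_le_one_iff_subsingleton.mpr hss
    rw [Nat.card_coe_set_eq] at h
    unfold Nat.ModEq at h
    rw [h]
    exact (Nat.mod_le _ _).trans hle1
  have h15 : (orbit ↥H v).ncard = 15 := by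
    generalize (orbit ↥H v).ncard = n at *
    interval_cases n <;> omega
  exact Set.eq_of_subset_of_ncard_le hsub (by rw [hc, h15]) (Set.toFinite _)

include hF in
theorem gl4_ncard_compl_pair (a : Fin 4 → F) (ha : a ≠ 0) :
    ({0, a}ᶜ : Set (Fin 4 → F)).ncard = 14 := by
  have hV := gl4_card_vec hF
  rw [Set.ncard_compl, Set.ncard_pair (Ne.symm ha), hV]

include hF in
/-- orbits of the stabiliser of `a`, when it contains an element of order 7 -/
theorem gl4_stab_orbit (a : Fin 4 → F) (ha : a ≠ 0) (x7 : ↥(stabilizer ↥H a))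
    (h7 : orderOf x7 = 7) (w : Fin 4 → F) (hw0 : w ≠ 0) (hwa : w ≠ a) :
    orbit ↥(stabilizer ↥H a) w ⊆ {0, a}ᶜ ∧ (orbit ↥(stabilizer ↥H a) w).ncard % 7 = 0 ∧
      0 < (orbit ↥(stabilizer ↥H a) w).ncard := by
  classical
  have h0 := gl4_zero_notMem_orbit H (stabilizer ↥H a) w hw0
  have h1 : a ∉ orbit ↥(stabilizer ↥H a) w := by
    rintro ⟨h, hh⟩
    apply hwa
    have h2 : (h : ↥H) • w = a := hh
    have h3 : (h : ↥H) • a = a := h.2
    have h4 : (h : ↥H) • w = (h : ↥H) • a := h2.trans h3.symm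
    exact smul_left_cancel _ h4
  have hsub : orbit ↥(stabilizer ↥H a) w ⊆ {0, a}ᶜ := by
    intro y hy hy0
    rcases hy0 with hy0 | hy0
    · exact h0 (hy0 ▸ hy)
    · rw [Set.mem_singleton_iff] at hy0
      exact h1 (hy0 ▸ hy)
  refine ⟨hsub, ?_, (Set.ncard_pos (Set.toFinite _)).mpr ⟨w, mem_orbit_self w⟩⟩
  have : Fact (Nat.Prime 7) := ⟨by norm_num⟩
  have hinv : ∀ y ∈ orbit ↥(stabilizer ↥H a) w, x7 • y ∈ orbit ↥(stabilizer ↥H a) w := by
    rintro y ⟨h, rfl⟩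
    exact ⟨x7 * h, mul_smul x7 h w⟩
  have h := card_modEq_fixed_of_prime_order x7 7 (h7 ▸ pow_orderOf_eq_one x7)
    (orbit ↥(stabilizer ↥H a) w) hinv
  have hx7 : orderOf (x7 : ↥H) = 7 := by rw [Subgroup.orderOf_coe, h7]
  have hemp : IsEmpty {y : Fin 4 → F // y ∈ orbit ↥(stabilizer ↥H a) w ∧ x7 • y = y} := by
    constructor
    rintro ⟨y, hy, hfix⟩
    have hya : y = a := gl4_fix_seven_unique hF ((x7 : ↥H) : GL (Fin 4) F)
      (gl4_coe_pow_eq_one H (x7 : ↥H) 7 hx7)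
      (gl4_coe_ne_one H (x7 : ↥H) 7 hx7 (by norm_num)) y a hfix x7.2
      (fun h => h0 (h ▸ hy)) ha
    exact h1 (hya ▸ hy)
  rw [Nat.card_of_isEmpty (α := {y : Fin 4 → F // y ∈ orbit ↥(stabilizer ↥H a) w ∧ x7 • y = y}),
    Nat.card_coe_set_eq] at h
  exact h

include hF in
/-- a subgroup of order 2520 of GL(4, 2) is 2-transitive on the non-zero vectors -/
theorem gl4_two_trans (hH : Nat.card ↥H = 2520) (v w v' w' : Fin 4 → F) (hv : v ≠ 0)
    (hw : w ≠ 0) (hvw : v ≠ w) (hv' : v' ≠ 0) (hw' : w' ≠ 0) (hvw' : v' ≠ w') :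
    ∃ g ∈ H, (g : Matrix (Fin 4) (Fin 4) F) *ᵥ v = v' ∧
      (g : Matrix (Fin 4) (Fin 4) F) *ᵥ w = w' := by
  classical
  have hfin : Finite ↥H := Nat.finite_of_card_ne_zero (by rw [hH]; norm_num)
  have : Fact (Nat.Prime 5) := ⟨by norm_num⟩
  have : Fact (Nat.Prime 7) := ⟨by norm_num⟩
  have : Fact (Nat.Prime 2) := ⟨by norm_num⟩
  obtain ⟨x5, h5⟩ := exists_prime_orderOf_dvd_card' (G := ↥H) 5 (by rw [hH]; norm_num)
  obtain ⟨x7, h7⟩ := exists_prime_orderOf_dvd_card' (G := ↥H) 7 (by rw [hH]; norm_num)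
  obtain ⟨t, ht⟩ := exists_prime_orderOf_dvd_card' (G := ↥H) 2 (by rw [hH]; norm_num)
  have horb := gl4_orbit_eq hF H x5 x7 h5 h7
  -- a point moved by the involution
  obtain ⟨a, hta⟩ := gl4_exists_moved (t : GL (Fin 4) F) (gl4_coe_ne_one H t 2 ht (by norm_num))
  have hta' : t • a ≠ a := hta
  have ha : a ≠ 0 := by
    rintro rfl
    exact hta (gl4_smul_zero _)
  have htt : t • (t • a) = a := by
    rw [← mul_smul, ← pow_two, ← ht, pow_orderOf_eq_one, one_smul]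
  have hb0 : t • a ≠ 0 := by
    intro h
    apply ha
    exact gl4_smul_eq_zero _ a h
  -- the stabiliser of a
  have hca : Nat.card (orbit ↥H a) = 15 := by
    rw [Nat.card_coe_set_eq, horb a ha, gl4_ncard_compl_zero hF]
  have hstab : Nat.card ↥(stabilizer ↥H a) = 168 := by
    have := card_orbit_mul_card_stabilizer' (G := ↥H) a
    rw [hca, hH] at this
    omega
  obtain ⟨y7, hy7⟩ := exists_prime_orderOf_dvd_card' (G := ↥(stabilizer ↥H a)) 7
    (by rw [hstab]; norm_num)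
  have hpar : 2 ∣ Nat.card (orbit ↥(stabilizer ↥H a) (t • a)) := by
    apply even_card_orbit_of_swap (G := ↥H) a (t • a) (Ne.symm hta') t rfl htt
    rw [hca]
    norm_num
  obtain ⟨hsub, hmod, hpos⟩ := gl4_stab_orbit hF H a ha y7 hy7 (t • a) hb0 hta'
  have hc14 := gl4_ncard_compl_pair hF a ha
  have hle : (orbit ↥(stabilizer ↥H a) (t • a)).ncard ≤ 14 :=
    hc14 ▸ Set.ncard_le_ncard hsub (Set.toFinite _)
  rw [Nat.card_coe_set_eq] at hpar
  have h14 : (orbit ↥(stabilizer ↥H a) (t • a)).ncard = 14 := by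
    generalize (orbit ↥(stabilizer ↥H a) (t • a)).ncard = n at *
    interval_cases n <;> omega
  have horb2 : orbit ↥(stabilizer ↥H a) (t • a) = {0, a}ᶜ :=
    Set.eq_of_subset_of_ncard_le hsub (by rw [hc14, h14]) (Set.toFinite _)
  -- transitivity on pairs
  have hpair : ∀ x y : Fin 4 → F, x ≠ 0 → y ≠ 0 → x ≠ y →
      ∃ h : ↥H, h • a = x ∧ h • (t • a) = y := by
    intro x y hx hy hxy
    have hxa : x ∈ orbit ↥H a := by
      rw [horb a ha]
      exact hx
    obtain ⟨h1, hh1⟩ := hxa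
    have hh1' : h1 • a = x := hh1
    have hy' : h1⁻¹ • y ∈ orbit ↥(stabilizer ↥H a) (t • a) := by
      rw [horb2]
      intro hmem
      rcases hmem with hmem | hmem
      · apply hy
        have := congrArg (fun z => h1 • z) hmem
        simpa [gl4_sub_smul_def, gl4_smul_zero] using this
      · rw [Set.mem_singleton_iff] at hmem
        apply hxy
        have := congrArg (fun z => h1 • z) hmem
        simp only [smul_inv_smul] at this
        rw [← hh1', this]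
    obtain ⟨h2, hh2⟩ := hy'
    have hh2' : (h2 : ↥H) • (t • a) = h1⁻¹ • y := hh2
    refine ⟨h1 * h2, ?_, ?_⟩
    · rw [mul_smul]
      have : (h2 : ↥H) • a = a := h2.2
      rw [this, hh1']
    · rw [mul_smul, hh2', smul_inv_smul]
  obtain ⟨h, hh1, hh2⟩ := hpair v w hv hw hvw
  obtain ⟨h', hh1', hh2'⟩ := hpair v' w' hv' hw' hvw'
  refine ⟨((h' * h⁻¹ : ↥H) : GL (Fin 4) F), (h' * h⁻¹).2, ?_, ?_⟩
  · show (h' * h⁻¹) • v = v'
    rw [mul_smul, ← hh1, inv_smul_smul, hh1']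
  · show (h' * h⁻¹) • w = w'
    rw [mul_smul, ← hh2, inv_smul_smul, hh2']

end sub

end gl4

end Cfsg.Agent.Lib.helper3
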