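import Mathlib
import Cfsg.Prelude.Def_KGroupFacts
import Cfsg.Agent.Lib.helper3.AltStepF

set_option autoImplicit false

/-!
The kernel of a stem extension of the alternating group of degree four or five has order at most
two.
-/

namespace Cfsg.Agent.Lib.helper3

open Cfsg Equiv

section Small

theorem not_mem_zpowers_of_invol {G : Type*} [Group G] {s t : G} (hs : s ^ 2 = 1) (ht1 : t ≠ 1)
    (hts : t ≠ s) : t ∉ Subgroup.zpowers s := by
  intro h
  obtain ⟨j, hj⟩ := Subgroup.mem_zpowers_iff.mp h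
  obtain ⟨q, hq | hq⟩ := Int.even_or_odd' j
  · apply ht1
    rw [← hj, hq, zpow_mul, zpow_ofNat, hs, one_zpow]
  · apply hts
    rw [← hj, hq, zpow_add, zpow_mul, zpow_ofNat, hs, one_zpow, one_mul, zpow_one]

def a4s : alternatingGroup (Fin 4) :=
  ⟨swap 0 1 * swap 2 3, by rw [Equiv.Perm.mem_alternatingGroup]; decide⟩
def a4t : alternatingGroup (Fin 4) :=
  ⟨swap 0 2 * swap 1 3, by rw [Equiv.Perm.mem_alternatingGroup]; decide⟩
def a4c : alternatingGroup (Fin 4) :=
  ⟨swap 0 1 * swap 1 2, by rw [Equiv.Perm.mem_alternatingGroup]; decide⟩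

theorem a4_facts : a4s ^ 2 = 1 ∧ a4t ^ 2 = 1 ∧ a4s * a4t = a4t * a4s ∧ a4s ≠ 1 ∧ a4t ≠ 1 ∧
    a4t ≠ a4s ∧ a4c ^ 3 = 1 ∧ a4c ≠ 1 := by
  decide

theorem alt4_card : Nat.card (alternatingGroup (Fin 4)) = 12 := by
  rw [nat_card_alternatingGroup, Nat.card_eq_fintype_card, Fintype.card_fin]
  decide

theorem alt4_card_le {Γ : Type*} [Group Γ] [Finite Γ] (σ : Γ →* alternatingGroup (Fin 4))
    (hσ : IsStemExtension σ) : Nat.card σ.ker ≤ 2 := by
  obtain ⟨hsurj, hcen, hder⟩ := hσ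
  obtain ⟨f1, f2, f3, f4, f5, f6, f7, f8⟩ := a4_facts
  have hcard := alt4_card
  have : Fact (Nat.Prime 2) := ⟨Nat.prime_two⟩
  apply Nat.le_of_dvd (by norm_num)
  apply card_ker_dvd_of_cyclic σ 2
  refine stem_ker_cyclic_two σ hsurj hcen hder a4s a4t f1 f2 ?_ ?_
  · have h4 := card_closure_abelian_pair 2 a4s a4t f3 f1 f2 f4
      (not_mem_zpowers_of_invol f1 f5 f6)
    have h := Subgroup.index_mul_card (Subgroup.closure {a4s, a4t})
    rw [h4, hcard] at h
    omega
  · intro p hp hp2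
    by_cases h3 : p = 3
    · subst h3
      apply local_trivial_of_zpowers σ hcen 3 a4c
      have ho : orderOf a4c = 3 := orderOf_eq_prime f7 f8
      rw [hcard, ho]
      norm_num
    · apply local_trivial_of_zpowers σ hcen p 1
      rw [orderOf_one, Nat.div_one, hcard]
      intro hd
      have h12 : (12 : ℕ) = 2 ^ 2 * 3 := by norm_num
      rw [h12] at hd
      rcases (Nat.Prime.dvd_mul hp).1 hd with h | h
      · exact hp2 ((Nat.prime_dvd_prime_iff_eq hp Nat.prime_two).1 (hp.dvd_of_dvd_pow h))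
      · exact h3 ((Nat.prime_dvd_prime_iff_eq hp Nat.prime_three).1 h)

def a5s : alternatingGroup (Fin 5) :=
  ⟨swap 0 1 * swap 2 3, by rw [Equiv.Perm.mem_alternatingGroup]; decide⟩
def a5t : alternatingGroup (Fin 5) :=
  ⟨swap 0 2 * swap 1 3, by rw [Equiv.Perm.mem_alternatingGroup]; decide⟩
def a5c : alternatingGroup (Fin 5) :=
  ⟨swap 0 1 * swap 1 2, by rw [Equiv.Perm.mem_alternatingGroup]; decide⟩
def a5d : alternatingGroup (Fin 5) :=
  ⟨swap 0 1 * swap 1 2 * swap 2 3 * swap 3 4, by rw [Equiv.Perm.mem_alternatingGroup]; decide⟩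

theorem a5_facts : a5s ^ 2 = 1 ∧ a5t ^ 2 = 1 ∧ a5s * a5t = a5t * a5s ∧ a5s ≠ 1 ∧ a5t ≠ 1 ∧
    a5t ≠ a5s ∧ a5c ^ 3 = 1 ∧ a5c ≠ 1 ∧ a5d ^ 5 = 1 ∧ a5d ≠ 1 := by
  decide

theorem alt5_card : Nat.card (alternatingGroup (Fin 5)) = 60 := by
  rw [nat_card_alternatingGroup, Nat.card_eq_fintype_card, Fintype.card_fin]
  decide

theorem alt5_card_le {Γ : Type*} [Group Γ] [Finite Γ] (σ : Γ →* alternatingGroup (Fin 5))
    (hσ : IsStemExtension σ) : Nat.card σ.ker ≤ 2 := by
  obtain ⟨hsurj, hcen, hder⟩ := hσ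
  obtain ⟨f1, f2, f3, f4, f5, f6, f7, f8, f9, f10⟩ := a5_facts
  have hcard := alt5_card
  have : Fact (Nat.Prime 2) := ⟨Nat.prime_two⟩
  have : Fact (Nat.Prime 3) := ⟨Nat.prime_three⟩
  have : Fact (Nat.Prime 5) := ⟨Nat.prime_five⟩
  apply Nat.le_of_dvd (by norm_num)
  apply card_ker_dvd_of_cyclic σ 2
  refine stem_ker_cyclic_two σ hsurj hcen hder a5s a5t f1 f2 ?_ ?_
  · have h4 := card_closure_abelian_pair 2 a5s a5t f3 f1 f2 f4
      (not_mem_zpowers_of_invol f1 f5 f6)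
    have h := Subgroup.index_mul_card (Subgroup.closure {a5s, a5t})
    rw [h4, hcard] at h
    omega
  · intro p hp hp2
    by_cases h3 : p = 3
    · subst h3
      apply local_trivial_of_zpowers σ hcen 3 a5c
      have ho : orderOf a5c = 3 := orderOf_eq_prime f7 f8
      rw [hcard, ho]
      norm_num
    by_cases h5 : p = 5
    · subst h5
      apply local_trivial_of_zpowers σ hcen 5 a5d
      have ho : orderOf a5d = 5 := orderOf_eq_prime f9 f10
      rw [hcard, ho]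
      norm_num
    · apply local_trivial_of_zpowers σ hcen p 1
      rw [orderOf_one, Nat.div_one, hcard]
      intro hd
      have h60 : (60 : ℕ) = 2 ^ 2 * 3 * 5 := by norm_num
      rw [h60] at hd
      rcases (Nat.Prime.dvd_mul hp).1 hd with h | h
      · rcases (Nat.Prime.dvd_mul hp).1 h with h | h
        · exact hp2 ((Nat.prime_dvd_prime_iff_eq hp Nat.prime_two).1 (hp.dvd_of_dvd_pow h))
        · exact h3 ((Nat.prime_dvd_prime_iff_eq hp Nat.prime_three).1 h)
      · exact h5 ((Nat.prime_dvd_prime_iff_eq hp Nat.prime_five).1 h)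

end Small

end Cfsg.Agent.Lib.helper3
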