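import Mathlib
import Cfsg.Prelude.Def_LieExceptional
import Cfsg.Agent.Lib.helper3.BNSimple

set_option autoImplicit false

namespace Cfsg.Agent.Lib.helper3

open DoubleCoset Classical

section RankOne

variable {G : Type*} [Group G] {P : Cfsg.BNPair G}

theorem exists_S_eq_singleton (h : P.rank = 1) : ∃ s, P.S = {s} := by
  unfold Cfsg.BNPair.rank at h
  rw [Nat.card_eq_one_iff_unique] at h
  obtain ⟨hsub, ⟨s, hs⟩⟩ := h
  refine ⟨s, ?_⟩
  ext x
  constructor
  · intro hx
    have : (⟨x, hx⟩ : P.S) = ⟨s, hs⟩ := Subsingleton.elim _ _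
    exact congrArg Subtype.val this
  · intro hx
    rw [Set.mem_singleton_iff] at hx
    exact hx ▸ hs

theorem rankOne_cases {s : G} (hS : P.S = {s}) (g : G) : g ∈ P.B ∨ g ∈ dc P s := by
  have hs : s ∈ P.S := by rw [hS]; rfl
  have hB : P.B ≤ rankOneSubgroup hs := fun x hx => Or.inl hx
  have hsM : s ∈ rankOneSubgroup hs := Or.inr (dc_self s)
  have : P.parabolic P.S ≤ rankOneSubgroup hs := by
    apply sup_le hB
    rw [Subgroup.closure_le, hS]
    intro x hx
    rw [Set.mem_singleton_iff] at hx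
    exact hx ▸ hsM
  rw [parabolic_S] at this
  exact this (Subgroup.mem_top g)

theorem two_pretransitive_of_rank_one (h : P.rank = 1) :
    MulAction.IsMultiplyPretransitive G (G ⧸ P.B) 2 := by
  obtain ⟨s, hS⟩ := exists_S_eq_singleton h
  rw [MulAction.is_two_pretransitive_iff]
  intro a b c d hab hcd
  induction a using QuotientGroup.induction_on with | H x => ?_
  induction b using QuotientGroup.induction_on with | H y => ?_
  induction c using QuotientGroup.induction_on with | H z => ?_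
  induction d using QuotientGroup.induction_on with | H u => ?_
  have hxy : x⁻¹ * y ∉ P.B := fun h => hab (QuotientGroup.eq.2 h)
  have hzu : z⁻¹ * u ∉ P.B := fun h => hcd (QuotientGroup.eq.2 h)
  have h1 := (rankOne_cases hS (x⁻¹ * y)).resolve_left hxy
  have h2 := (rankOne_cases hS (z⁻¹ * u)).resolve_left hzu
  obtain ⟨b₁, hb₁, b₂, hb₂, e₁⟩ := mem_dc.1 h1
  obtain ⟨b₃, hb₃, b₄, hb₄, e₂⟩ := mem_dc.1 h2
  refine ⟨z * b₃ * b₁⁻¹ * x⁻¹, ?_, ?_⟩
  · show ((z * b₃ * b₁⁻¹ * x⁻¹ * x : G) : G ⧸ P.B) = (z : G ⧸ P.B)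
    rw [QuotientGroup.eq]
    have : (z * b₃ * b₁⁻¹ * x⁻¹ * x)⁻¹ * z = b₁ * b₃⁻¹ := by group
    rw [this]
    exact P.B.mul_mem hb₁ (P.B.inv_mem hb₃)
  · show ((z * b₃ * b₁⁻¹ * x⁻¹ * y : G) : G ⧸ P.B) = (u : G ⧸ P.B)
    rw [QuotientGroup.eq]
    have hy : y = x * (b₁ * s * b₂) := by rw [← e₁]; group
    have hu : u = z * (b₃ * s * b₄) := by rw [← e₂]; group
    have : (z * b₃ * b₁⁻¹ * x⁻¹ * y)⁻¹ * u = b₂⁻¹ * b₄ := by rw [hy, hu]; group
    rw [this]
    exact P.B.mul_mem (P.B.inv_mem hb₂) hb₄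

end RankOne

section OfTwoTransitive

variable {G Ω : Type*} [Group G] [MulAction G Ω]

open MulAction
open scoped Pointwise

theorem mem_stabilizer_pair_iff {x y : Ω} (hxy : x ≠ y) (g : G) :
    g ∈ stabilizer G ({x, y} : Set Ω) ↔ (g • x = x ∧ g • y = y) ∨ (g • x = y ∧ g • y = x) := by
  rw [mem_stabilizer_iff, Set.smul_set_insert, Set.smul_set_singleton, Set.pair_eq_pair_iff]

theorem bnpair_of_two_transitive
    (h2 : MulAction.IsMultiplyPretransitive G Ω 2) {x y z : Ω} (hxy : x ≠ y) (hyz : y ≠ z) (hxz : x ≠ z) :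
    ∃ P : Cfsg.BNPair G, P.B = MulAction.stabilizer G x ∧
      P.N = MulAction.stabilizer G ({x, y} : Set Ω) ∧ P.rank = 1 := by
  rw [MulAction.is_two_pretransitive_iff] at h2
  obtain ⟨s₀, hs₀x, hs₀y⟩ := h2 hxy hxy.symm
  have hs₀x' : s₀⁻¹ • y = x := by rw [← hs₀x, inv_smul_smul]
  have hs₀N : s₀ ∈ stabilizer G ({x, y} : Set Ω) :=
    (mem_stabilizer_pair_iff hxy s₀).2 (Or.inr ⟨hs₀x, hs₀y⟩)
  -- F1
  have F1 : ∀ g : G, g • x = x ∨ ∃ b₁ ∈ stabilizer G x, ∃ b₂ ∈ stabilizer G x, g = b₁ * s₀ * b₂ := by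
    intro g
    by_cases hg : g • x = x
    · exact Or.inl hg
    · right
      obtain ⟨b, hbx, hby⟩ := h2 (Ne.symm hg) hxy
      have hbB : b ∈ stabilizer G x := hbx
      refine ⟨b⁻¹, Subgroup.inv_mem _ hbB, s₀⁻¹ * b * g, ?_, by group⟩
      rw [mem_stabilizer_iff, mul_smul, mul_smul, hby, hs₀x']
  have hNcases : ∀ n ∈ stabilizer G ({x, y} : Set Ω),
      (n • x = x ∧ n • y = y) ∨ (n • x = y ∧ n • y = x) :=
    fun n hn => (mem_stabilizer_pair_iff hxy n).1 hn
  have f_sup : stabilizer G x ⊔ stabilizer G ({x, y} : Set Ω) = ⊤ := by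
    rw [eq_top_iff]
    intro g _
    rcases F1 g with h | ⟨b₁, h₁, b₂, h₂, rfl⟩
    · exact Subgroup.mem_sup_left h
    · exact Subgroup.mul_mem _ (Subgroup.mul_mem _ (Subgroup.mem_sup_left h₁)
        (Subgroup.mem_sup_right hs₀N)) (Subgroup.mem_sup_left h₂)
  have f_conj : ∀ n ∈ stabilizer G ({x, y} : Set Ω),
      ∀ t ∈ stabilizer G x ⊓ stabilizer G ({x, y} : Set Ω), n * t * n⁻¹ ∈ stabilizer G x := by
    rintro n hn t ⟨htB, htN⟩
    have htx : t • x = x := htB
    have hty : t • y = y := by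
      rcases hNcases t htN with h | h
      · exact h.2
      · exact absurd (htx.symm.trans h.1) hxy
    rw [mem_stabilizer_iff, mul_smul, mul_smul]
    rcases hNcases n hn with h | h
    · have : n⁻¹ • x = x := by rw [← h.1, inv_smul_smul, h.1]
      rw [this, htx, h.1]
    · have : n⁻¹ • x = y := by rw [← h.2, inv_smul_smul]
      rw [this, hty, h.2]
  have f_subset : ({s₀} : Set G) ⊆ ((stabilizer G ({x, y} : Set Ω) : Subgroup G) : Set G) := by
    intro s hs
    rw [Set.mem_singleton_iff] at hs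
    rw [hs]; exact hs₀N
  have f_sq : ∀ s ∈ ({s₀} : Set G), s * s ∈ stabilizer G x := by
    intro s hs
    rw [Set.mem_singleton_iff] at hs
    rw [hs, mem_stabilizer_iff, mul_smul, hs₀x, hs₀y]
  have f_inj : ∀ s ∈ ({s₀} : Set G), ∀ s' ∈ ({s₀} : Set G), s⁻¹ * s' ∈ stabilizer G x → s = s' := by
    intro s hs s' hs' _
    rw [Set.mem_singleton_iff] at hs hs'
    rw [hs, hs']
  have f_closure : Subgroup.closure ({s₀} : Set G) ⊔ (stabilizer G x ⊓ stabilizer G ({x, y} : Set Ω))
      = stabilizer G ({x, y} : Set Ω) := by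
    apply le_antisymm
    · apply sup_le
      · rw [Subgroup.closure_le]
        exact f_subset
      · exact inf_le_right
    · intro n hn
      rcases hNcases n hn with h | h
      · exact Subgroup.mem_sup_right ⟨h.1, hn⟩
      · have hmem : s₀⁻¹ * n ∈ stabilizer G x ⊓ stabilizer G ({x, y} : Set Ω) := by
          refine ⟨?_, Subgroup.mul_mem _ (Subgroup.inv_mem _ hs₀N) hn⟩
          show (s₀⁻¹ * n) • x = x
          rw [mul_smul, h.1, hs₀x']
        have h1 : s₀ ∈ Subgroup.closure ({s₀} : Set G) ⊔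
            (stabilizer G x ⊓ stabilizer G ({x, y} : Set Ω)) :=
          Subgroup.mem_sup_left (Subgroup.subset_closure (Set.mem_singleton s₀))
        have h2' : s₀⁻¹ * n ∈ Subgroup.closure ({s₀} : Set G) ⊔
            (stabilizer G x ⊓ stabilizer G ({x, y} : Set Ω)) :=
          Subgroup.mem_sup_right hmem
        have := Subgroup.mul_mem _ h1 h2'
        simpa using this
  have f_union : ∀ s ∈ ({s₀} : Set G), ∀ n ∈ stabilizer G ({x, y} : Set Ω), ∀ b ∈ stabilizer G x,
      s * b * n ∈ doubleCoset (s * n) ((stabilizer G x : Subgroup G) : Set G) (stabilizer G x) ∪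
        doubleCoset n ((stabilizer G x : Subgroup G) : Set G) (stabilizer G x) := by
    intro s hs n hn b hb
    rw [Set.mem_singleton_iff] at hs
    subst hs
    rcases hNcases n hn with h | h
    · have hnB : n ∈ stabilizer G x := h.1
      rcases F1 (s * b * n) with hg | ⟨b₁, h₁, b₂, h₂, e⟩
      · right
        rw [mem_doubleCoset]
        exact ⟨s * b * n * n⁻¹, Subgroup.mul_mem _ hg (Subgroup.inv_mem _ hnB), 1,
          Subgroup.one_mem _, by group⟩
      · left
        rw [mem_doubleCoset]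
        exact ⟨b₁, h₁, n⁻¹ * b₂, Subgroup.mul_mem _ (Subgroup.inv_mem _ hnB) h₂, by rw [e]; group⟩
    · have hsnB : s * n ∈ stabilizer G x := by
        rw [mem_stabilizer_iff, mul_smul, h.1, hs₀y]
      have hnsB : n⁻¹ * s ∈ stabilizer G x := by
        rw [mem_stabilizer_iff, mul_smul, hs₀x, ← h.1, inv_smul_smul]
      rcases F1 (s * b * n) with hg | ⟨b₁, h₁, b₂, h₂, e⟩
      · left
        rw [mem_doubleCoset]
        exact ⟨s * b * n * (s * n)⁻¹, Subgroup.mul_mem _ hg (Subgroup.inv_mem _ hsnB), 1,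
          Subgroup.one_mem _, by group⟩
      · right
        rw [mem_doubleCoset]
        exact ⟨b₁, h₁, n⁻¹ * s * b₂, Subgroup.mul_mem _ hnsB h₂, by rw [e]; group⟩
  have f_ne : ∀ s ∈ ({s₀} : Set G), (fun b : G => s * b * s) '' ((stabilizer G x : Subgroup G) : Set G)
      ≠ ((stabilizer G x : Subgroup G) : Set G) := by
    intro s hs
    rw [Set.mem_singleton_iff] at hs
    subst hs
    intro heq
    obtain ⟨b, hbx, hby⟩ := h2 hxy hxz
    have hbB : b ∈ stabilizer G x := hbx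
    have : s * b * s ∈ ((stabilizer G x : Subgroup G) : Set G) := by
      rw [← heq]; exact ⟨b, hbB, rfl⟩
    have h3 : (s * b * s) • x = x := this
    rw [mul_smul, mul_smul, hs₀x, hby] at h3
    have : z = y := by
      have := congrArg (fun w => s⁻¹ • w) h3
      simp only [inv_smul_smul] at this
      rw [this, ← hs₀y, inv_smul_smul]
    exact hyz this.symm
  refine ⟨⟨stabilizer G x, stabilizer G ({x, y} : Set Ω), {s₀}, f_sup, f_conj, f_subset, f_sq, f_inj,
    f_closure, f_union, f_ne⟩, rfl, rfl, ?_⟩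
  unfold Cfsg.BNPair.rank
  simp

end OfTwoTransitive

end Cfsg.Agent.Lib.helper3
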