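import Mathlib
import Cfsg.Agent.Lib.helper3.BSZ.Defs
import Cfsg.Agent.Lib.helper3.BSZE07core
import Cfsg.Agent.Lib.helper6.BSZA04
import Cfsg.Agent.Lib.Helper1.BSZE01

set_option autoImplicit false

/-!
# BSZ row E07 (`nu_meet`), verbatim.
-/

namespace Cfsg.Agent.Lib.helper3.BSZ

open Cfsg Cfsg.Agent.Lib.helper3

variable {F : Type*} [Field F] [Fintype F] {m : ℕ}

theorem nu_meet (hF : Fintype.card F = 2 ^ (2 * m + 1)) (hm : 1 ≤ m) {U : Subgroup (Sz F m)} (hU : IsTorus m U)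
    (H : Subgroup (Sz F m)) (hHU : H ≤ Subgroup.normalizer (U : Set (Sz F m))) (hB : BinH H) {b₀ b₁ : F}
    (hb₀ : b₀ ≠ 0) (hb₁ : b₁ ≠ 0) (hne : b₁ ≠ b₀) (ht : gT hF 0 b₀ ∈ H) {d : Sz F m}
    (hd : d * gT hF 0 b₀ * d⁻¹ = gT hF 0 b₁) (v : Sz F m) (hv : v ∈ Qs hF) :
    ∃ t' ∈ H, t' ≠ 1 ∧ t' * t' = 1 ∧ (v * d)⁻¹ * t' * (v * d) ∈ H :=
  nu_meet_core hF hm (fun H hB a b g₁ g₂ g₃ h1 h2 h3 hp => three_point H hB a b g₁ g₂ g₃ h1 h2 h3 hp)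
    (fun hU => nu_two_invol hF hm hU) (fun hU hU' hne => nu_no_odd hF hm hU hU' hne)
    (fun hU K hK hne hodd => nu_invol_of_ne_bot hF hm hU K hK hne hodd)
    hU H hHU hB hb₀ hb₁ hne ht hd v hv

end Cfsg.Agent.Lib.helper3.BSZ
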