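import Mathlib
import Cfsg.Agent.Lib.helper3.BSZG01
import Cfsg.Agent.Lib.Helper9.BSZG02core
import Cfsg.Agent.Lib.Helper22.BSZG04core
import Cfsg.Agent.Lib.Helper11.BSZB06

/-!
# Project BSZ (helper3, S5737): own-name copies of the final wrappers G02 G03 G04
(`bszfin_main_zero`, `bszfin_main_sz`, `bszfin_main_lie`), on the landed cores of helper9 and
helper22 and the landed row G01 `main_step`.  The verbatim row names stay with their owners.
-/

set_option autoImplicit false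

namespace Cfsg.Agent.Lib.helper3.BSZ

open Cfsg Cfsg.Agent.Lib.helper3

theorem bszfin_main_zero : ∀ (m : ℕ) (K : Type) [Field K] [Fintype K],
    Fintype.card K = 2 ^ (2 * m + 1) → 1 ≤ m →
    ∀ H : Subgroup (Sz K m), H ≠ ⊤ → BinH H → (H = ⊥ ∨ IsSylCen H) :=
  bszg02_core (fun _ _ _ _ hF hm IH H hH hB => main_step hF hm IH H hH hB)

theorem bszfin_main_sz {F : Type*} [Field F] [Fintype F] {m : ℕ}
    (hF : Fintype.card F = 2 ^ (2 * m + 1)) (hm : 1 ≤ m) (H : Subgroup (Sz F m)) (hH : H ≠ ⊤) :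
    BinH H ↔ (H = ⊥ ∨ IsSylCen H) :=
  bszg03_core hF hm H hH (fun IH hH hB => main_step hF hm IH H hH hB) bszfin_main_zero
    binary_bot (fun h => sylCen_binary hF hm h)

theorem bszfin_main_lie {F : Type*} [Field F] [Fintype F] (a : ℕ) (ha : 1 ≤ a)
    (hF : Fintype.card F = 2 ^ (2 * a + 1))
    (H : Subgroup (Cfsg.Lie.Sz F (2 ^ (a + 1)))) (hH : H ≠ ⊤) :
    BinH H ↔ (H = ⊥ ∨ IsSylCen H) :=
  bszg04_core a ha hF (fun H hH => bszfin_main_sz hF ha H hH) H hH

end Cfsg.Agent.Lib.helper3.BSZ
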