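import Mathlib
import Cfsg.Agent.Lib.Helper22.C3L.Defs
import Cfsg.Agent.Lib.Helper10.C3O.Defs
import Cfsg.Agent.Lib.Helper10.C3OKSG
import Cfsg.Agent.Lib.helper3.C3OHYP
import Cfsg.Agent.Lib.helper3.C3OISO
import Cfsg.Agent.Lib.helper4.C3ODALLbase
import Cfsg.Agent.Lib.helper4.C3OSTRICTcore

set_option autoImplicit false
set_option linter.unusedVariables false
set_option linter.unusedSectionVars false

/-! Project C3O, row ORB: an element of `OmB` fixing a non-singular vector and moving another vector out of a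
small subspace (helper3). -/

namespace Cfsg.Agent.Lib.Helper10.C3O

open Module Cfsg.Agent.Lib.Helper22.C3L

variable {F K V : Type*} [Field F] [Field K] [Algebra F K] [AddCommGroup V] [Module F V] [Module K V]
  [IsScalarTower F K V]

/-- in a non-degenerate space of dimension at least three: for `w ≠ 0` a singular `u` not orthogonal to `w`, and
`y`, `z` orthogonal to `u` and not to each other -/
theorem c3oorb_pick [Finite K] [FiniteDimensional K V] (h2 : (2 : F) ≠ 0) (B : V →ₗ[K] V →ₗ[K] K)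
    (hBs : ∀ x y, B x y = B y x) (hBn : ∀ x, x ≠ 0 → ∃ y, B x y ≠ 0) (hd : 3 ≤ finrank K V) {w : V}
    (hw : w ≠ 0) :
    ∃ u y z : V, B u u = 0 ∧ B w u ≠ 0 ∧ B u y = 0 ∧ B u z = 0 ∧ B y z ≠ 0 := by
  have hiso : ∃ u : V, u ≠ 0 ∧ B u u = 0 := by
    obtain ⟨u, _, hu, hu0⟩ := iso_ex B hBs (⊤ : Submodule K V) (by rw [finrank_top]; exact hd)
    exact ⟨u, hu, hu0⟩
  obtain ⟨u, hu0, huw⟩ : ∃ u : V, B u u = 0 ∧ B u w ≠ 0 := by
    by_contra hcon
    push Not at hcon
    exact hw (c3odall_span h2 B hBs hBn hiso hcon)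
  have hu : u ≠ 0 := by
    rintro rfl
    apply huw
    rw [map_zero, LinearMap.zero_apply]
  obtain ⟨u', hu'0, huu'⟩ := hyp_ex h2 B hBs hBn hu hu0
  obtain ⟨y, hy, hyu, hyu'⟩ := c3ostrict_perp_ex B hBs hd hu0 hu'0 huu'
  obtain ⟨z₀, hz₀⟩ := hBn y hy
  obtain ⟨hz1, hz2⟩ := c3odall_proj B hBs hu0 hu'0 huu' z₀
  refine ⟨u, y, z₀ - B z₀ u' • u - B z₀ u • u', hu0, ?_, ?_, ?_, ?_⟩
  · rw [hBs]; exact huw
  · rw [hBs]; exact hyu
  · rw [hBs]; exact hz1
  · rw [map_sub, map_sub, map_smul, map_smul, hyu, hyu', smul_zero, smul_zero, sub_zero, sub_zero]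
    exact hz₀

/-- ORB [M-L] `x` non-singular, `x' ∉ K x`, `L ∋ x, x'` an `F`-subspace of dimension `≤ [K:F]`: some element of
`OmB` fixes `x` and moves `x'` out of `L` (`dim_K V ≥ 4`). -/
theorem orb_out [Finite K] [FiniteDimensional K V] (h2 : (2 : F) ≠ 0) (B : V →ₗ[K] V →ₗ[K] K)
    (hBs : ∀ x y, B x y = B y x) (hBn : ∀ x, x ≠ 0 → ∃ y, B x y ≠ 0) (hd : 4 ≤ finrank K V) {x x' : V}
    (hx : B x x ≠ 0) (hx' : x' ∉ Kl F K x) (L : Submodule F V) (hxL : x ∈ L) (hx'L : x' ∈ L)
    (hL : finrank F L ≤ finrank F K) : ∃ g ∈ OmB F B, g x = x ∧ g x' ∉ L := by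
  -- the orthogonal of `x`
  set X : Submodule K V := LinearMap.ker (B x) with hX
  have hmemX : ∀ v : V, v ∈ X ↔ B x v = 0 := fun v => LinearMap.mem_ker
  set BX : ↥X →ₗ[K] ↥X →ₗ[K] K := B.compl₁₂ X.subtype X.subtype with hBX
  have hBXa : ∀ a b : ↥X, BX a b = B a.1 b.1 := fun a b => rfl
  have hBXs : ∀ a b : ↥X, BX a b = BX b a := fun a b => hBs _ _
  have hBXn : ∀ a : ↥X, a ≠ 0 → ∃ b : ↥X, BX a b ≠ 0 := by
    intro a ha
    have ha1 : a.1 ≠ 0 := fun h => ha (Subtype.ext h)
    obtain ⟨z, hz⟩ := hBn a.1 ha1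
    have hzX : z - (B x z / B x x) • x ∈ X := by
      rw [hmemX, map_sub, map_smul, smul_eq_mul, div_mul_cancel₀ _ hx, sub_self]
    refine ⟨⟨_, hzX⟩, ?_⟩
    rw [hBXa]
    show B a.1 (z - (B x z / B x x) • x) ≠ 0
    have hax : B a.1 x = 0 := by rw [hBs]; exact (hmemX _).1 a.2
    rw [map_sub, map_smul, hax, smul_zero, sub_zero]
    exact hz
  have hXd : 3 ≤ finrank K ↥X := by
    have h1 : finrank K (LinearMap.range (B x)) + finrank K ↥X = finrank K V :=
      LinearMap.finrank_range_add_finrank_ker (B x)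
    have h3 : finrank K (LinearMap.range (B x)) ≤ 1 := by
      have := Submodule.finrank_le (LinearMap.range (B x))
      rwa [finrank_self] at this
    omega
  -- the component of `x'` in the orthogonal of `x`
  have hwX : x' - (B x x' / B x x) • x ∈ X := by
    rw [hmemX, map_sub, map_smul, smul_eq_mul, div_mul_cancel₀ _ hx, sub_self]
  have hw0 : (⟨_, hwX⟩ : ↥X) ≠ 0 := by
    intro h
    have h1 : x' - (B x x' / B x x) • x = 0 := congrArg Subtype.val h
    apply hx'
    rw [mem_Kl]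
    exact ⟨B x x' / B x x, (sub_eq_zero.1 h1).symm⟩
  obtain ⟨u, y, z, hu0, hwu, huy, huz, hyz⟩ := c3oorb_pick (F := F) h2 BX hBXs hBXn hXd hw0
  rw [hBXa] at hu0 hwu huy huz hyz
  have hxu : B x u.1 = 0 := (hmemX _).1 u.2
  have hxy : B x y.1 = 0 := (hmemX _).1 y.2
  have hxz : B x z.1 = 0 := (hmemX _).1 z.2
  have hc : B x' u.1 ≠ 0 := by
    have : B (x' - (B x x' / B x x) • x) u.1 = B x' u.1 := by
      rw [map_sub, map_smul, LinearMap.sub_apply, LinearMap.smul_apply, hxu, smul_zero, sub_zero]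
    rw [← this]
    exact hwu
  -- suppose that the orbit stays in `L`
  by_contra hcon
  push Not at hcon
  haveI : Module.Finite F K := Module.Finite.of_finite
  haveI : FiniteDimensional F V := Module.Finite.trans K V
  -- the functional `v ↦ B v z` on `L`
  let θ : ↥L →ₗ[F] K :=
    { toFun := fun v => B v.1 z.1
      map_add' := fun a b => by
        show B (a.1 + b.1) z.1 = _
        rw [map_add, LinearMap.add_apply]
      map_smul' := fun c a => by
        show B (c • a.1) z.1 = c • B a.1 z.1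
        rw [← algebraMap_smul K c a.1, map_smul, LinearMap.smul_apply, smul_eq_mul, Algebra.smul_def] }
  have hθ : ∀ v : ↥L, θ v = B v.1 z.1 := fun v => rfl
  have hsurj : Function.Surjective θ := by
    intro t
    set k : K := t / (B x' u.1 * B y.1 z.1) with hk
    have huky : B u.1 (k • y.1) = 0 := by rw [map_smul, huy, smul_zero]
    obtain ⟨g, hg, hgv⟩ := ksg_mem h2 B hBs hBn hu0 huky
    have hgx : g x = x := by
      rw [hgv, ksg, hxu, map_smul, hxy]
      simp
    have hgL := hcon g hg hgx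
    refine ⟨⟨g x', hgL⟩ - ⟨x', hx'L⟩, ?_⟩
    rw [map_sub, hθ, hθ]
    show B (g x') z.1 - B x' z.1 = t
    rw [hgv, ksg]
    simp only [map_add, map_sub, map_smul, LinearMap.add_apply, LinearMap.sub_apply, LinearMap.smul_apply,
      smul_eq_mul, huz, mul_zero, sub_zero]
    rw [hk]
    field_simp
    ring
  have hker : (⟨x, hxL⟩ : ↥L) ∈ LinearMap.ker θ := by
    rw [LinearMap.mem_ker, hθ]
    exact hxz
  have hkpos : 1 ≤ finrank F (LinearMap.ker θ) := by
    have hne : (LinearMap.ker θ) ≠ ⊥ := by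
      intro hb
      rw [hb, Submodule.mem_bot] at hker
      have : x = 0 := congrArg Subtype.val hker
      apply hx
      rw [this, map_zero]
    have h0 : finrank F (LinearMap.ker θ) ≠ 0 := fun h => hne (Submodule.finrank_eq_zero.1 h)
    omega
  have hrn := LinearMap.finrank_range_add_finrank_ker θ
  rw [LinearMap.range_eq_top.2 hsurj, finrank_top] at hrn
  omega

end Cfsg.Agent.Lib.Helper10.C3O
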