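import Mathlib
import Cfsg.Agent.Lib.helper3.C6U.Defs
import Cfsg.Agent.Lib.helper6.HermIsoCount

set_option autoImplicit false
set_option linter.unusedVariables false
set_option linter.unusedSectionVars false

/-!
# Project C6U, row E5 (`nf_five`): normal form of a unitary element of order 5 of `GU_4(p)` when `ord_5(p) = 4`.

`act u g v = g(u) v` is the action of `F[X]` on `F⁴` through `u`; `c6ue5_star σ g` is the adjoint polynomial
(`h(g(u) v, w) = h(v, g*(u) w)`, `g* = g^σ(X⁴)`, as `u⁻¹ = u⁴`).  `K_t = ker (u² - t u + 1)`.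
-/

namespace Cfsg.Agent.Lib.helper3.C6U

open Polynomial Matrix
open Cfsg.Agent.Lib.Helper10.C6P
open Cfsg.Agent.Lib.Lead Cfsg.Agent.Lib.Lead.HI Cfsg.Agent.Lib.helper6.HF

variable {F : Type*} [Field F]

/-- the action of a polynomial on a vector through the matrix `u` -/
noncomputable def c6ue5_act (u : M4 F) (g : F[X]) (v : Fin 4 → F) : Fin 4 → F := (aeval u g) *ᵥ v

theorem c6ue5_act_mul (u : M4 F) (g h : F[X]) (v : Fin 4 → F) :
    c6ue5_act u (g * h) v = c6ue5_act u g (c6ue5_act u h v) := by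
  simp only [c6ue5_act, map_mul, Matrix.mulVec_mulVec]

theorem c6ue5_act_add (u : M4 F) (g h : F[X]) (v : Fin 4 → F) :
    c6ue5_act u (g + h) v = c6ue5_act u g v + c6ue5_act u h v := by
  simp only [c6ue5_act, map_add, Matrix.add_mulVec]

theorem c6ue5_act_sub (u : M4 F) (g h : F[X]) (v : Fin 4 → F) :
    c6ue5_act u (g - h) v = c6ue5_act u g v - c6ue5_act u h v := by
  simp only [c6ue5_act, map_sub, Matrix.sub_mulVec]

theorem c6ue5_act_neg (u : M4 F) (g : F[X]) (v : Fin 4 → F) :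
    c6ue5_act u (-g) v = -c6ue5_act u g v := by
  simp only [c6ue5_act, map_neg, Matrix.neg_mulVec]

theorem c6ue5_act_C (u : M4 F) (c : F) (v : Fin 4 → F) : c6ue5_act u (C c) v = c • v := by
  simp only [c6ue5_act, aeval_C, Algebra.algebraMap_eq_smul_one, Matrix.smul_mulVec, Matrix.one_mulVec]

theorem c6ue5_act_X (u : M4 F) (v : Fin 4 → F) : c6ue5_act u X v = u *ᵥ v := by
  simp only [c6ue5_act, aeval_X]

theorem c6ue5_act_one (u : M4 F) (v : Fin 4 → F) : c6ue5_act u 1 v = v := by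
  simp only [c6ue5_act, map_one, Matrix.one_mulVec]

theorem c6ue5_act_zero (u : M4 F) (v : Fin 4 → F) : c6ue5_act u 0 v = 0 := by
  simp only [c6ue5_act, map_zero, Matrix.zero_mulVec]

theorem c6ue5_act_vadd (u : M4 F) (g : F[X]) (v w : Fin 4 → F) :
    c6ue5_act u g (v + w) = c6ue5_act u g v + c6ue5_act u g w := Matrix.mulVec_add _ _ _

theorem c6ue5_act_vsub (u : M4 F) (g : F[X]) (v w : Fin 4 → F) :
    c6ue5_act u g (v - w) = c6ue5_act u g v - c6ue5_act u g w := Matrix.mulVec_sub _ _ _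

theorem c6ue5_act_vneg (u : M4 F) (g : F[X]) (v : Fin 4 → F) :
    c6ue5_act u g (-v) = -c6ue5_act u g v := Matrix.mulVec_neg _ _

theorem c6ue5_act_vsmul (u : M4 F) (g : F[X]) (c : F) (v : Fin 4 → F) :
    c6ue5_act u g (c • v) = c • c6ue5_act u g v := Matrix.mulVec_smul _ _ _

theorem c6ue5_act_vzero (u : M4 F) (g : F[X]) : c6ue5_act u g 0 = 0 := Matrix.mulVec_zero _

theorem c6ue5_act_vsum (u : M4 F) (g : F[X]) {k : ℕ} (c : Fin k → F) (s : Fin k → (Fin 4 → F)) :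
    c6ue5_act u g (∑ j, c j • s j) = ∑ j, c j • c6ue5_act u g (s j) := by
  have h := map_sum (Matrix.mulVecLin (aeval u g)) (fun j => c j • s j) Finset.univ
  simp only [Matrix.mulVecLin_apply, Matrix.mulVec_smul] at h
  exact h

theorem c6ue5_act_five (u : M4 F) (hu : u ^ 5 = 1) (q : F[X]) (v : Fin 4 → F) :
    c6ue5_act u (q * (X ^ 5 - 1)) v = 0 := by
  simp only [c6ue5_act, map_mul, map_sub, map_pow, aeval_X, map_one, hu, sub_self, mul_zero,
    Matrix.zero_mulVec]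

/-- congruence modulo `X⁵ - 1` and `n` on the kernel of `n(u)` -/
theorem c6ue5_act_congr (u : M4 F) (hu : u ^ 5 = 1) {n g h q₁ q₂ : F[X]} {e : Fin 4 → F}
    (he : c6ue5_act u n e = 0) (hgh : g = h + q₁ * (X ^ 5 - 1) + q₂ * n) :
    c6ue5_act u g e = c6ue5_act u h e := by
  rw [hgh, c6ue5_act_add, c6ue5_act_add, c6ue5_act_five u hu, c6ue5_act_mul, he, c6ue5_act_vzero,
    add_zero, add_zero]

/-- the adjoint polynomial: conjugate the coefficients and substitute `X⁴` (`= X⁻¹`) -/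
noncomputable def c6ue5_star (σ : F →+* F) (g : F[X]) : F[X] := (g.map σ).comp (X ^ 4)

section herm

variable [Fintype F] {p : ℕ}

local notation "H" => Cfsg.hermForm 4 F p

theorem c6ue5_pres (σ : F →+* F) (hσ : ∀ x, σ x = x ^ p) (u : M4 F) (hU : IsU p u) (v w : Fin 4 → F) :
    H (u *ᵥ v) (u *ᵥ w) = H v w := by
  have hm : u.map (fun a => a ^ p) = u.map σ := by
    ext i j
    simp only [Matrix.map_apply, hσ]
  have h1 : uᵀ * u.map σ = 1 := by
    rw [← hm]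
    exact hU
  exact (preserves_iff σ hσ u).mpr h1 v w

theorem c6ue5_adj_X (σ : F →+* F) (hσ : ∀ x, σ x = x ^ p) (u : M4 F) (hU : IsU p u) (hu : u ^ 5 = 1)
    (v w : Fin 4 → F) : H (u *ᵥ v) w = H v ((u ^ 4) *ᵥ w) := by
  have h1 : u *ᵥ ((u ^ 4) *ᵥ w) = w := by
    rw [Matrix.mulVec_mulVec, ← pow_succ', hu, Matrix.one_mulVec]
  conv_lhs => rw [← h1]
  exact c6ue5_pres σ hσ u hU v _

theorem c6ue5_adj_pow (σ : F →+* F) (hσ : ∀ x, σ x = x ^ p) (u : M4 F) (hU : IsU p u) (hu : u ^ 5 = 1)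
    (n : ℕ) : ∀ v w : Fin 4 → F, H ((u ^ n) *ᵥ v) w = H v (((u ^ 4) ^ n) *ᵥ w) := by
  induction n with
  | zero => intro v w; simp only [pow_zero, Matrix.one_mulVec]
  | succ n ih =>
    intro v w
    rw [pow_succ, ← Matrix.mulVec_mulVec, ih, c6ue5_adj_X σ hσ u hU hu, Matrix.mulVec_mulVec, ← pow_succ']

/-- the adjoint formula -/
theorem c6ue5_adjL (σ : F →+* F) (hσ : ∀ x, σ x = x ^ p) (hσσ : ∀ x, σ (σ x) = x) (u : M4 F)
    (hU : IsU p u) (hu : u ^ 5 = 1) (g : F[X]) :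
    ∀ v w : Fin 4 → F, H (c6ue5_act u g v) w = H v (c6ue5_act u (c6ue5_star σ g) w) := by
  induction g using Polynomial.induction_on' with
  | add g h hg hh =>
    intro v w
    have hs : c6ue5_star σ (g + h) = c6ue5_star σ g + c6ue5_star σ h := by
      simp only [c6ue5_star, Polynomial.map_add, add_comp]
    rw [hs, c6ue5_act_add, c6ue5_act_add, herm_add_left, herm_add_right σ hσ, hg, hh]
  | monomial n c =>
    intro v w
    have hs : c6ue5_star σ (monomial n c) = C (σ c) * (X ^ 4) ^ n := by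
      rw [c6ue5_star, ← C_mul_X_pow_eq_monomial, Polynomial.map_mul, Polynomial.map_C, Polynomial.map_pow,
        Polynomial.map_X, mul_comp, C_comp, pow_comp, X_comp]
    rw [hs, ← C_mul_X_pow_eq_monomial, c6ue5_act_mul, c6ue5_act_C, c6ue5_act_mul, c6ue5_act_C,
      herm_smul_left, herm_smul_right, ← hσ, hσσ]
    congr 1
    simp only [c6ue5_act, map_pow, aeval_X]
    exact c6ue5_adj_pow σ hσ u hU hu n v w

theorem c6ue5_adjR (σ : F →+* F) (hσ : ∀ x, σ x = x ^ p) (hσσ : ∀ x, σ (σ x) = x) (u : M4 F)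
    (hU : IsU p u) (hu : u ^ 5 = 1) (g : F[X]) (v w : Fin 4 → F) :
    H v (c6ue5_act u g w) = H (c6ue5_act u (c6ue5_star σ g) v) w := by
  rw [herm_symm σ hσ hσσ, c6ue5_adjL σ hσ hσσ u hU hu, ← herm_symm σ hσ hσσ]


theorem c6ue5_herm_sub_right (σ : F →+* F) (hσ : ∀ x, σ x = x ^ p) (v a b : Fin 4 → F) :
    H v (a - b) = H v a - H v b := by
  simp only [Cfsg.hermForm, Pi.sub_apply, ← hσ, map_sub, mul_sub, Finset.sum_sub_distrib]

theorem c6ue5_herm_neg_left (v w : Fin 4 → F) : H (-v) w = -H v w := by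
  simp only [Cfsg.hermForm, Pi.neg_apply, neg_mul, Finset.sum_neg_distrib]

theorem c6ue5_herm_zero_left (w : Fin 4 → F) : H 0 w = 0 := by
  simp only [Cfsg.hermForm, Pi.zero_apply, zero_mul, Finset.sum_const_zero]

end herm

/-- `X² - t X + 1` -/
noncomputable def c6ue5_nq (t : F) : F[X] := X ^ 2 - C t * X + 1

/-- `(X - 1)(X² - t X + 1)` -/
noncomputable def c6ue5_P (t : F) : F[X] := (X - 1) * c6ue5_nq t

theorem c6ue5_star_nq (σ : F →+* F) (t : F) :
    c6ue5_star σ (c6ue5_nq t) = (X ^ 4) ^ 2 - C (σ t) * X ^ 4 + 1 := by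
  simp only [c6ue5_star, c6ue5_nq, Polynomial.map_add, Polynomial.map_sub, Polynomial.map_mul,
    Polynomial.map_pow, Polynomial.map_X, Polynomial.map_C, Polynomial.map_one, add_comp, sub_comp,
    mul_comp, pow_comp, X_comp, C_comp, one_comp]

theorem c6ue5_star_P (σ : F →+* F) (t : F) :
    c6ue5_star σ (c6ue5_P t) = (X ^ 4 - 1) * ((X ^ 4) ^ 2 - C (σ t) * X ^ 4 + 1) := by
  simp only [c6ue5_star, c6ue5_P, c6ue5_nq, Polynomial.map_add, Polynomial.map_sub, Polynomial.map_mul,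
    Polynomial.map_pow, Polynomial.map_X, Polynomial.map_C, Polynomial.map_one, add_comp, sub_comp,
    mul_comp, pow_comp, X_comp, C_comp, one_comp]

theorem c6ue5_poly5 (t t' : F) (ht' : t' = -1 - t) (ht : t ^ 2 + t = 1) :
    c6ue5_nq t' * c6ue5_P t = 1 * (X ^ 5 - 1) := by
  have hC : (C t : F[X]) ^ 2 + C t = 1 := by rw [← C_pow, ← C_add, ht, C_1]
  have hC' : (C t' : F[X]) = -1 - C t := by rw [ht', C_sub, C_neg, C_1]
  unfold c6ue5_P c6ue5_nq
  rw [hC']
  linear_combination (-(X - 1) * X ^ 2) * hC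

theorem c6ue5_mem (u : M4 F) (hu : u ^ 5 = 1) (t t' : F) (ht' : t' = -1 - t) (ht : t ^ 2 + t = 1)
    (w : Fin 4 → F) : c6ue5_act u (c6ue5_nq t') (c6ue5_act u (c6ue5_P t) w) = 0 := by
  rw [← c6ue5_act_mul, c6ue5_poly5 t t' ht' ht, c6ue5_act_five u hu]

section herm2

variable [Fintype F] {p : ℕ}

local notation "H" => Cfsg.hermForm 4 F p

/-- `K_t = ker (u² - t u + 1)` is totally isotropic -/
theorem c6ue5_ti (σ : F →+* F) (hσ : ∀ x, σ x = x ^ p) (hσσ : ∀ x, σ (σ x) = x) (u : M4 F)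
    (hU : IsU p u) (hu : u ^ 5 = 1) (t t' : F) (hst' : σ t' = t) (hc : t - t' ≠ 0)
    (e e' : Fin 4 → F) (he : c6ue5_act u (c6ue5_nq t) e = 0) (he' : c6ue5_act u (c6ue5_nq t) e' = 0) :
    H e e' = 0 := by
  have h1 : c6ue5_act u (c6ue5_nq t' * X ^ 4) e' = c6ue5_act u (C (t - t')) e' :=
    c6ue5_act_congr u hu (q₁ := C (t - t')) (q₂ := X ^ 4) he' (by
      unfold c6ue5_nq
      rw [C_sub]
      ring)
  have h2 : c6ue5_act u (c6ue5_star σ (c6ue5_nq t')) e = c6ue5_act u 0 e :=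
    c6ue5_act_congr u hu (q₁ := C t * X ^ 4 - X ^ 5 - 1) (q₂ := X ^ 8) he (by
      rw [c6ue5_star_nq, hst']
      unfold c6ue5_nq
      ring)
  have h3 : H e ((t - t') • e') = 0 := by
    rw [← c6ue5_act_C u, ← h1, c6ue5_act_mul, c6ue5_adjR σ hσ hσσ u hU hu, h2, c6ue5_act_zero,
      c6ue5_herm_zero_left]
  rw [herm_smul_right] at h3
  exact (mul_eq_zero.mp h3).resolve_left (pow_ne_zero _ hc)

/-- duality: prescribed pairings of `(u - 1)(u² - t u + 1) w ∈ K_t'` against independent vectors of `K_t` -/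
theorem c6ue5_dual (σ : F →+* F) (hσ : ∀ x, σ x = x ^ p) (hσσ : ∀ x, σ (σ x) = x) (u : M4 F)
    (hU : IsU p u) (hu : u ^ 5 = 1) (t t' : F) (ht' : t' = -1 - t) (ht : t ^ 2 + t = 1)
    (hst : σ t = t') (hc : t - t' ≠ 0) (h2 : 2 - t ≠ 0) {k : ℕ} (s : Fin k → (Fin 4 → F))
    (hs : ∀ j, c6ue5_act u (c6ue5_nq t) (s j) = 0) (hli : LinearIndependent F s) (c : Fin k → F) :
    ∃ w : Fin 4 → F, ∀ j, H (c6ue5_act u (c6ue5_P t) w) (s j) = c j := by
  have hC : (C t : F[X]) ^ 2 + C t = 1 := by rw [← C_pow, ← C_add, ht, C_1]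
  have hC' : (C t' : F[X]) = -1 - C t := by rw [ht', C_sub, C_neg, C_1]
  have hinj : ∀ x : Fin 4 → F, c6ue5_act u (c6ue5_nq t) x = 0 →
      c6ue5_act u (c6ue5_star σ (c6ue5_P t)) x = 0 → x = 0 := by
    intro x hx hGx
    have h1 : c6ue5_act u (((1 - C t) * (C t - X) - 2 * C t) * c6ue5_star σ (c6ue5_P t)) x =
        c6ue5_act u (C ((t - t') * (2 - t))) x :=
      c6ue5_act_congr u hu
        (q₁ := (1) * X^8 * C t + (-1) * X^8 + (-1) * X^7 * (C t)^2 + (-1) * X^7 * C t + (1) * X^4 * (C t)^2 + (-1) * X^4 * C t + (-1) * X^3 * (C t)^3 + (-1) * X^3 * (C t)^2 + (1) * X^3 * C t + (-1) * X^3 + (-1) * X^2 * (C t)^2 + (-1) * X^2 * C t + (-1) * (C t)^2 + (1) * C t)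
        (q₂ := (1) * X^2 * (C t)^3 + (2) * X^2 * (C t)^2 + (-1) * X^2 * C t + (1) * X * (C t)^4 + (1) * X * (C t)^3 + (-2) * X * (C t)^2 + (1) * X * C t + (-1) * X + (1) * (C t)^5 + (1) * (C t)^4 + (-3) * (C t)^3 + (-2) * (C t)^2 + (-1) * C t)
        hx (by
          rw [c6ue5_star_P, hst, C_mul, C_sub, C_sub, C_ofNat, hC']
          unfold c6ue5_nq
          linear_combination ((1) * X * (C t)^4 + (-3) * X * (C t)^2 + (-2) * X + (-1) * (C t)^3 + (2) * C t + (2)) * hC)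
    rw [c6ue5_act_mul, hGx, c6ue5_act_vzero, c6ue5_act_C] at h1
    exact (smul_eq_zero.mp h1.symm).resolve_left (mul_ne_zero hc h2)
  have hli' : LinearIndependent F (fun j => c6ue5_act u (c6ue5_star σ (c6ue5_P t)) (s j)) := by
    rw [Fintype.linearIndependent_iff]
    intro g hg j
    rw [← c6ue5_act_vsum] at hg
    have hx : c6ue5_act u (c6ue5_nq t) (∑ j, g j • s j) = 0 := by
      rw [c6ue5_act_vsum]
      apply Finset.sum_eq_zero
      intro j _
      rw [hs j, smul_zero]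
    have h0 := hinj _ hx hg
    exact Fintype.linearIndependent_iff.mp hli g h0 j
  obtain ⟨w, hw⟩ := Lmap_surj σ hσ hσσ _ hli' c
  refine ⟨w, fun j => ?_⟩
  rw [c6ue5_adjL σ hσ hσσ u hU hu]
  have h := Lmap_apply σ hσ (fun j => c6ue5_act u (c6ue5_star σ (c6ue5_P t)) (s j)) w j
  rw [hw] at h
  exact h.symm


/-- the Gram matrix of the matrix with columns `b j` -/
theorem c6ue5_gram_of (b : Fin 4 → (Fin 4 → F)) (j k : Fin 4) :
    gram p (Matrix.of (fun i j => b j i) : M4 F) j k = H (b j) (b k) := by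
  simp only [gram, Matrix.mul_apply, Matrix.transpose_apply, Matrix.map_apply, Matrix.of_apply,
    Cfsg.hermForm]

theorem c6ue5_mul_of (u : M4 F) (b : Fin 4 → (Fin 4 → F)) (i k : Fin 4) :
    (u * (Matrix.of (fun i j => b j i) : M4 F)) i k = (u *ᵥ b k) i := by
  simp only [Matrix.mul_apply, Matrix.of_apply, Matrix.mulVec, dotProduct]

theorem c6ue5_G5_sq : G5 F * G5 F = 1 := by
  ext i j
  fin_cases i <;> fin_cases j <;> simp [G5, Matrix.mul_apply, Fin.sum_univ_four]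

end herm2

section main

variable [Fintype F] {p : ℕ}

local notation "H" => Cfsg.hermForm 4 F p

theorem c6ue5_noroot (τ : F) (hirr : Irreducible (X ^ 2 - C τ * X + 1 : F[X])) (r : F) :
    r ^ 2 - τ * r + 1 ≠ 0 := by
  intro hr
  have hroot : IsRoot (X ^ 2 - C τ * X + 1 : F[X]) r := by
    rw [IsRoot.def]
    simp only [eval_add, eval_sub, eval_pow, eval_X, eval_mul, eval_C, eval_one]
    exact hr
  have hdeg := degree_eq_one_of_irreducible_of_root hirr hroot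
  have h2 : (X ^ 2 - C τ * X + 1 : F[X]) = C 1 * X ^ 2 + C (-τ) * X + C 1 := by
    rw [C_neg, C_1]
    ring
  rw [h2, degree_quadratic one_ne_zero] at hdeg
  exact absurd hdeg (by decide)

end main

section row

variable [Fintype F] {p : ℕ} [Fact p.Prime] [CharP F p]

local notation "H" => Cfsg.hermForm 4 F p

/-- E5 : normal form of a unitary element of order 5 when `ord_5(p) = 4`. -/
theorem nf_five (hF : Fintype.card F = p ^ 2) (τ : F) (hτ : τ ^ 2 + τ = 1) (hτp : τ ^ p = -1 - τ)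
    (hirr : Irreducible (X ^ 2 - C τ * X + 1 : F[X])) (u : M4 F) (hU : IsU p u) (hu : u ^ 5 = 1) (hne : u ≠ 1) :
    ∃ B : GL (Fin 4) F, gram p (B : M4 F) = G5 F ∧ ((B⁻¹ : GL (Fin 4) F) : M4 F) * u * (B : M4 F) = D5 τ := by
  classical
  obtain ⟨σ, hσ⟩ := exists_frob hF
  have hσσ := frob_frob hF σ hσ
  obtain ⟨τ', hτ'⟩ : ∃ τ' : F, τ' = -1 - τ := ⟨_, rfl⟩
  have hst : σ τ = τ' := by rw [hσ, hτp, hτ']
  have hst' : σ τ' = τ := by rw [← hst, hσσ]
  have hroot := c6ue5_noroot τ hirr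
  have h2 : 2 - τ ≠ 0 := by
    intro h
    apply hroot 1
    linear_combination h
  have hc : τ - τ' ≠ 0 := by
    intro h
    apply h2
    rw [hτ'] at h
    linear_combination (-3 + (τ + 1) * (2 * τ + 1)) * h - 4 * (τ + 1) * hτ
  have ht'2 : τ' ^ 2 + τ' = 1 := by
    rw [hτ']
    linear_combination hτ
  have h2' : 2 - τ' ≠ 0 := by
    intro h
    apply h2
    rw [hτ'] at h
    linear_combination (-(τ - 1)) * h + hτ
  have hc' : τ' - τ ≠ 0 := fun h => hc (by linear_combination -h)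
  have ht'' : τ = -1 - τ' := by
    rw [hτ']
    ring
  -- a non-zero vector of `K_τ`
  have hex : ∃ e₁ : Fin 4 → F, c6ue5_act u (c6ue5_nq τ) e₁ = 0 ∧ e₁ ≠ 0 := by
    have hv : ∃ v₀ : Fin 4 → F, u *ᵥ v₀ ≠ v₀ := by
      by_contra hcon
      push Not at hcon
      apply hne
      ext i j
      have h := congrFun (hcon (Pi.single j 1)) i
      simpa [Matrix.one_apply, Pi.single_apply] using h
    obtain ⟨v₀, hv₀⟩ := hv
    have hv' : c6ue5_act u (X - 1) v₀ ≠ 0 := by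
      intro h
      apply hv₀
      rw [c6ue5_act_sub, c6ue5_act_X, c6ue5_act_one, sub_eq_zero] at h
      exact h
    have hnn : c6ue5_act u (c6ue5_nq τ) (c6ue5_act u (c6ue5_nq τ') (c6ue5_act u (X - 1) v₀)) = 0 := by
      rw [← c6ue5_act_mul, ← c6ue5_act_mul]
      have hp5 : c6ue5_nq τ * c6ue5_nq τ' * (X - 1) = 1 * (X ^ 5 - 1) := by
        rw [← c6ue5_poly5 τ τ' hτ' hτ]
        unfold c6ue5_P
        ring
      rw [hp5, c6ue5_act_five u hu]
    by_cases hA : c6ue5_act u (c6ue5_nq τ') (c6ue5_act u (X - 1) v₀) = 0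
    · have hli : LinearIndependent F (fun _ : Fin 1 => c6ue5_act u (X - 1) v₀) :=
        linearIndependent_unique_iff.mpr hv'
      obtain ⟨w, hw⟩ := c6ue5_dual σ hσ hσσ u hU hu τ' τ ht'' ht'2 hst' hc' h2'
        (fun _ : Fin 1 => c6ue5_act u (X - 1) v₀) (fun _ => hA) hli (fun _ => 1)
      refine ⟨c6ue5_act u (c6ue5_P τ') w, c6ue5_mem u hu τ' τ ht'' ht'2 w, ?_⟩
      intro h0
      have h1 := hw 0
      rw [h0, c6ue5_herm_zero_left] at h1
      exact zero_ne_one h1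
    · exact ⟨_, hnn, hA⟩
  obtain ⟨e₁, he₁, he₁0⟩ := hex
  obtain ⟨e₂, he₂def⟩ : ∃ e₂ : Fin 4 → F, e₂ = u *ᵥ e₁ := ⟨_, rfl⟩
  have he₂X : e₂ = c6ue5_act u X e₁ := by rw [he₂def, c6ue5_act_X]
  have he₂ : c6ue5_act u (c6ue5_nq τ) e₂ = 0 := by
    rw [he₂X, ← c6ue5_act_mul, mul_comm, c6ue5_act_mul, he₁, c6ue5_act_vzero]
  have hue₂ : u *ᵥ e₂ = -e₁ + τ • e₂ := by
    have h := c6ue5_act_congr u hu (g := X ^ 2) (h := C τ * X - 1) (q₁ := 0) (q₂ := 1) he₁ (by
      unfold c6ue5_nq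
      ring)
    rw [pow_two, c6ue5_act_mul, c6ue5_act_X, c6ue5_act_sub, c6ue5_act_mul, c6ue5_act_C, c6ue5_act_X,
      c6ue5_act_one, ← he₂def] at h
    rw [h]
    abel
  have hui₁ : (u ^ 4) *ᵥ e₁ = τ • e₁ - e₂ := by
    have h := c6ue5_act_congr u hu (g := X ^ 4) (h := C τ - X) (q₁ := C τ - X) (q₂ := X ^ 4) he₁ (by
      unfold c6ue5_nq
      ring)
    rw [c6ue5_act_sub, c6ue5_act_C, c6ue5_act_X, ← he₂def] at h
    rw [← h]
    simp only [c6ue5_act, map_pow, aeval_X]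
  -- independence
  have hli : LinearIndependent F ![e₁, e₂] := by
    rw [LinearIndependent.pair_iff]
    intro a b hab
    by_cases hb : b = 0
    · subst hb
      rw [zero_smul, add_zero] at hab
      exact ⟨(smul_eq_zero.mp hab).resolve_right he₁0, rfl⟩
    · exfalso
      have hr : e₂ = (-a / b) • e₁ := by
        have h1 : b • e₂ = -(a • e₁) := eq_neg_of_add_eq_zero_right hab
        have h2 : e₂ = b⁻¹ • (b • e₂) := by rw [smul_smul, inv_mul_cancel₀ hb, one_smul]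
        rw [h2, h1, smul_neg, smul_smul, ← neg_smul]
        congr 1
        field_simp
      have h := he₁
      unfold c6ue5_nq at h
      rw [c6ue5_act_add, c6ue5_act_sub, pow_two, c6ue5_act_mul, c6ue5_act_mul, c6ue5_act_C, c6ue5_act_X,
        c6ue5_act_X, c6ue5_act_one, ← he₂def, hr, Matrix.mulVec_smul, ← he₂def, hr, smul_smul, smul_smul,
        ← sub_smul] at h
      have h' : (-a / b * (-a / b) - τ * (-a / b) + 1) • e₁ = 0 := by
        rw [add_smul, one_smul]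
        exact h
      have h3 := (smul_eq_zero.mp h').resolve_right he₁0
      apply hroot (-a / b)
      linear_combination h3
  have hsK : ∀ j, c6ue5_act u (c6ue5_nq τ) (![e₁, e₂] j) = 0 := by
    intro j
    fin_cases j
    · exact he₁
    · exact he₂
  obtain ⟨w, hw⟩ := c6ue5_dual σ hσ hσσ u hU hu τ τ' hτ' hτ hst hc h2 ![e₁, e₂] hsK hli ![0, 1]
  obtain ⟨f₂, hf₂def⟩ : ∃ f₂ : Fin 4 → F, f₂ = c6ue5_act u (c6ue5_P τ) w := ⟨_, rfl⟩
  have hf₂1 : H f₂ e₁ = 0 := by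
    have h := hw 0
    rw [← hf₂def] at h
    simpa using h
  have hf₂2 : H f₂ e₂ = 1 := by
    have h := hw 1
    rw [← hf₂def] at h
    simpa using h
  have hf₂K : c6ue5_act u (c6ue5_nq τ') f₂ = 0 := by
    rw [hf₂def]
    exact c6ue5_mem u hu τ τ' hτ' hτ w
  obtain ⟨f₁, hf₁def⟩ : ∃ f₁ : Fin 4 → F, f₁ = -(u *ᵥ f₂) := ⟨_, rfl⟩
  have hf₁K : c6ue5_act u (c6ue5_nq τ') f₁ = 0 := by
    rw [hf₁def, c6ue5_act_vneg, ← c6ue5_act_X, ← c6ue5_act_mul, mul_comm, c6ue5_act_mul, hf₂K,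
      c6ue5_act_vzero, neg_zero]
  have huf₂ : u *ᵥ f₂ = -f₁ := by rw [hf₁def, neg_neg]
  have huf₁ : u *ᵥ f₁ = τ' • f₁ + f₂ := by
    have h := c6ue5_act_congr u hu (g := X ^ 2) (h := C τ' * X - 1) (q₁ := 0) (q₂ := 1) hf₂K (by
      unfold c6ue5_nq
      ring)
    rw [pow_two, c6ue5_act_mul, c6ue5_act_X, c6ue5_act_sub, c6ue5_act_mul, c6ue5_act_C, c6ue5_act_X,
      c6ue5_act_one] at h
    rw [hf₁def, Matrix.mulVec_neg, h, smul_neg]
    abel
  -- pairings
  have hTI := c6ue5_ti σ hσ hσσ u hU hu τ τ' hst' hc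
  have hTI' := c6ue5_ti σ hσ hσσ u hU hu τ' τ hst hc'
  have hf₁1 : H f₁ e₁ = 1 := by
    rw [hf₁def, c6ue5_herm_neg_left, c6ue5_adj_X σ hσ u hU hu, hui₁, c6ue5_herm_sub_right σ hσ,
      herm_smul_right, hf₂1, hf₂2]
    ring
  have hf₁2 : H f₁ e₂ = 0 := by
    rw [hf₁def, c6ue5_herm_neg_left, he₂def, c6ue5_pres σ hσ u hU, hf₂1, neg_zero]
  have hsym : ∀ a b : Fin 4 → F, H a b = σ (H b a) := fun a b => herm_symm σ hσ hσσ a b
  -- the matrix
  obtain ⟨b, hb⟩ : ∃ b : Fin 4 → (Fin 4 → F), b = ![e₁, e₂, f₁, f₂] := ⟨_, rfl⟩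
  obtain ⟨B, hB⟩ : ∃ B : M4 F, B = Matrix.of (fun i j => b j i) := ⟨_, rfl⟩
  have hgram : gram p B = G5 F := by
    ext j k
    rw [hB, c6ue5_gram_of, hb]
    fin_cases j <;> fin_cases k
    · simpa [G5] using hTI e₁ e₁ he₁ he₁
    · simpa [G5] using hTI e₁ e₂ he₁ he₂
    · have h := hsym e₁ f₁
      rw [hf₁1, map_one] at h
      simpa [G5] using h
    · have h := hsym e₁ f₂
      rw [hf₂1, map_zero] at h
      simpa [G5] using h
    · simpa [G5] using hTI e₂ e₁ he₂ he₁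
    · simpa [G5] using hTI e₂ e₂ he₂ he₂
    · have h := hsym e₂ f₁
      rw [hf₁2, map_zero] at h
      simpa [G5] using h
    · have h := hsym e₂ f₂
      rw [hf₂2, map_one] at h
      simpa [G5] using h
    · simpa [G5] using hf₁1
    · simpa [G5] using hf₁2
    · simpa [G5] using hTI' f₁ f₁ hf₁K hf₁K
    · simpa [G5] using hTI' f₁ f₂ hf₁K hf₂K
    · simpa [G5] using hf₂1
    · simpa [G5] using hf₂2
    · simpa [G5] using hTI' f₂ f₁ hf₂K hf₁K
    · simpa [G5] using hTI' f₂ f₂ hf₂K hf₂K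
  have hmul : u * B = B * D5 τ := by
    ext i k
    rw [hB, c6ue5_mul_of, hb]
    fin_cases k
    · have h := congrFun he₂def i
      simp [D5, Matrix.mul_apply, Fin.sum_univ_four, ← h]
    · have h := congrFun hue₂ i
      simp [D5, Matrix.mul_apply, Fin.sum_univ_four, h]
      ring
    · have h := congrFun huf₁ i
      simp [D5, Matrix.mul_apply, Fin.sum_univ_four, h, hτ']
      ring
    · have h := congrFun huf₂ i
      simp [D5, Matrix.mul_apply, Fin.sum_univ_four, h]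
  have hunit : IsUnit B := by
    have h1 : Bᵀ * (B.map (fun a => a ^ p) * G5 F) = 1 := by
      rw [← Matrix.mul_assoc]
      have : Bᵀ * B.map (fun a => a ^ p) = G5 F := hgram
      rw [this, c6ue5_G5_sq]
    have h2 : IsUnit Bᵀ.det := Matrix.isUnit_det_of_right_inverse h1
    rw [Matrix.isUnit_iff_isUnit_det]
    rw [Matrix.det_transpose] at h2
    exact h2
  refine ⟨hunit.unit, ?_, ?_⟩
  · exact hgram
  · have h1 : ((hunit.unit⁻¹ : GL (Fin 4) F) : M4 F) * B = 1 := by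
      have := Units.inv_mul hunit.unit
      exact this
    show ((hunit.unit⁻¹ : GL (Fin 4) F) : M4 F) * u * B = D5 τ
    rw [Matrix.mul_assoc, hmul, ← Matrix.mul_assoc, h1, Matrix.one_mul]

end row

end Cfsg.Agent.Lib.helper3.C6U
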