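import Mathlib
import Cfsg.Prelude.Def_Sporadic_a
import Cfsg.Agent.Lib.helper3.GolayCoset

set_option autoImplicit false

namespace Cfsg.Agent.Lib.helper3

open Cfsg Finset

/-! ### A binary code of length 24 with 4096 words and minimum weight 8: its octads form a
Steiner system -/

section

variable {α : Type*} [Fintype α] [DecidableEq α]

theorem sub_eq_add_wordC (v w : α → ZMod 2) : v - w = v + w := by
  funext p
  simp only [Pi.sub_apply, Pi.add_apply]
  exact CharTwo.sub_eq_add _ _

theorem norm_sub_add_inter_word (v v' : α → ZMod 2) :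
    hammingNorm (v - v') + 2 * (support₂ v ∩ support₂ v').card =
      hammingNorm v + hammingNorm v' := by
  rw [sub_eq_add_wordC]
  exact support₂_add_card v v'

/-- the indicator word of a set of points -/
def indW (t : Finset α) : α → ZMod 2 := fun p => if p ∈ t then 1 else 0

theorem support₂_indW (t : Finset α) : support₂ (indW t) = t := by
  ext p
  simp only [support₂, indW, Finset.mem_filter, Finset.mem_univ, true_and]
  by_cases h : p ∈ t <;> simp [h]

theorem hammingNorm_indW (t : Finset α) : hammingNorm (indW t) = t.card := by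
  rw [norm_eq_card_support₂, support₂_indW]

theorem indW_support₂ (v : α → ZMod 2) : indW (support₂ v) = v :=
  support₂_injective (support₂_indW _)

theorem support₂_sub_of_disjoint_word {a b : α → ZMod 2}
    (h : Disjoint (support₂ a) (support₂ b)) : support₂ (a - b) = support₂ a ∪ support₂ b := by
  rw [sub_eq_add_wordC]
  ext p
  simp only [support₂, Finset.mem_filter, Finset.mem_univ, true_and, Finset.mem_union,
    Pi.add_apply]
  have hp : ¬ (p ∈ support₂ a ∧ p ∈ support₂ b) := fun hh =>
    Finset.disjoint_left.1 h hh.1 hh.2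
  simp only [support₂, Finset.mem_filter, Finset.mem_univ, true_and] at hp
  rcases zmod2_eq (a p) with ha | ha <;> rcases zmod2_eq (b p) with hb | hb <;>
    simp_all

variable (C : Submodule (ZMod 2) (α → ZMod 2))

open Classical in
/-- coset representatives of weight at most three -/
noncomputable def cN3 (w : α → ZMod 2) : Finset (α → ZMod 2) :=
  univ.filter (fun v => hammingNorm v ≤ 3 ∧ w - v ∈ C)

open Classical in
/-- coset representatives of weight four -/
noncomputable def cN4 (w : α → ZMod 2) : Finset (α → ZMod 2) :=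
  univ.filter (fun v => hammingNorm v = 4 ∧ w - v ∈ C)

variable {C}

theorem mem_cN3 {w v : α → ZMod 2} : v ∈ cN3 C w ↔ hammingNorm v ≤ 3 ∧ w - v ∈ C := by
  classical
  simp [cN3]

theorem mem_cN4 {w v : α → ZMod 2} : v ∈ cN4 C w ↔ hammingNorm v = 4 ∧ w - v ∈ C := by
  classical
  simp [cN4]

theorem diff_mem_code {w v v' : α → ZMod 2} (h : w - v ∈ C) (h' : w - v' ∈ C) : v - v' ∈ C := by
  have : v - v' = (w - v') - (w - v) := by abel
  rw [this]
  exact C.sub_mem h' h

variable (hmin : ∀ v ∈ C, v ≠ 0 → 8 ≤ hammingNorm v)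

include hmin

theorem weight_ge_eight_code {v v' : α → ZMod 2} (h : v - v' ∈ C) (hne : v ≠ v') :
    8 ≤ hammingNorm (v - v') :=
  hmin _ h (sub_ne_zero.mpr hne)

theorem card_cN3_le (w : α → ZMod 2) : (cN3 C w).card ≤ 1 := by
  rw [Finset.card_le_one]
  intro v hv v' hv'
  rw [mem_cN3] at hv hv'
  by_contra hne
  have h8 := weight_ge_eight_code hmin (diff_mem_code hv.2 hv'.2) hne
  have := norm_sub_add_inter_word v v'
  omega

theorem cN4_eq_empty {w : α → ZMod 2} (h : (cN3 C w).Nonempty) : cN4 C w = ∅ := by
  obtain ⟨v, hv⟩ := h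
  rw [mem_cN3] at hv
  rw [Finset.eq_empty_iff_forall_notMem]
  intro v' hv'
  rw [mem_cN4] at hv'
  have hne : v ≠ v' := by
    rintro rfl
    omega
  have h8 := weight_ge_eight_code hmin (diff_mem_code hv.2 hv'.2) hne
  have := norm_sub_add_inter_word v v'
  omega

theorem cN4_disjoint (w : α → ZMod 2) {v v' : α → ZMod 2} (hv : v ∈ cN4 C w)
    (hv' : v' ∈ cN4 C w) (hne : v ≠ v') : Disjoint (support₂ v) (support₂ v') := by
  rw [mem_cN4] at hv hv'
  have h8 := weight_ge_eight_code hmin (diff_mem_code hv.2 hv'.2) hne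
  have := norm_sub_add_inter_word v v'
  have h0 : (support₂ v ∩ support₂ v').card = 0 := by omega
  rw [Finset.card_eq_zero] at h0
  exact Finset.disjoint_iff_inter_eq_empty.2 h0

theorem card_biUnion_cN4 (w : α → ZMod 2) :
    ((cN4 C w).biUnion support₂).card = (cN4 C w).card * 4 := by
  have hdisj : ((cN4 C w : Finset (α → ZMod 2)) : Set (α → ZMod 2)).PairwiseDisjoint
      support₂ := by
    intro v hv v' hv' hne
    exact cN4_disjoint hmin w hv hv' hne
  have hcard := Finset.card_biUnion hdisj
  have h4 : ∀ v ∈ cN4 C w, (support₂ v).card = 4 := by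
    intro v hv
    rw [mem_cN4] at hv
    exact hv.1
  rw [Finset.sum_congr rfl h4, Finset.sum_const, smul_eq_mul] at hcard
  exact hcard

variable (hα : Fintype.card α = 24)

include hα

theorem card_cN4_le (w : α → ZMod 2) : (cN4 C w).card ≤ 6 := by
  have h1 := card_biUnion_cN4 hmin w
  have hle : ((cN4 C w).biUnion support₂).card ≤ 24 := by
    have := Finset.card_le_univ ((cN4 C w).biUnion support₂)
    omega
  omega

variable (hcard : Nat.card C = 4096)

include hcard

omit hmin hα in
theorem card_coset_code (v : α → ZMod 2)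
    [DecidablePred fun w : α → ZMod 2 => w - v ∈ C] :
    (univ.filter (fun w : α → ZMod 2 => w - v ∈ C)).card = 4096 := by
  classical
  rw [← hcard, ← card_filter_natCard' (fun w => w ∈ C)]
  apply Finset.card_nbij' (fun w => w - v) (fun c => c + v)
  · intro w hw
    simp only [Finset.mem_coe, Finset.mem_filter, Finset.mem_univ, true_and] at hw ⊢
    exact hw
  · intro c hc
    simp only [Finset.mem_coe, Finset.mem_filter, Finset.mem_univ, true_and] at hc ⊢
    rw [add_sub_cancel_right]
    exact hc
  · intro w _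
    simp
  · intro c _
    simp

omit hmin in
theorem sum_card_cN3 : ∑ w : α → ZMod 2, (cN3 C w).card = 2325 * 4096 := by
  classical
  set B3 : Finset (α → ZMod 2) := univ.filter (fun v => hammingNorm v ≤ 3) with hB3
  have h := Finset.sum_card_bipartiteAbove_eq_sum_card_bipartiteBelow
    (s := (univ : Finset (α → ZMod 2))) (t := B3) (fun w v => w - v ∈ C)
  simp only [Finset.bipartiteAbove, Finset.bipartiteBelow] at h
  have e1 : ∀ w : α → ZMod 2, cN3 C w = B3.filter (fun v => w - v ∈ C) := by
    intro w
    ext v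
    rw [mem_cN3, Finset.mem_filter, hB3, Finset.mem_filter]
    simp only [Finset.mem_univ, true_and]
  have hcard3 : B3.card = 2325 := by
    rw [hB3, card_hammingNorm_le, hα]
    simp [Finset.sum_range_succ, Nat.choose]
  calc ∑ w : α → ZMod 2, (cN3 C w).card
      = ∑ w : α → ZMod 2, (B3.filter (fun v => w - v ∈ C)).card :=
        Finset.sum_congr rfl (fun w _ => by rw [e1 w])
    _ = ∑ v ∈ B3, (univ.filter (fun w : α → ZMod 2 => w - v ∈ C)).card := h
    _ = ∑ v ∈ B3, 4096 := Finset.sum_congr rfl (fun v _ => card_coset_code hcard v)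
    _ = B3.card * 4096 := by rw [Finset.sum_const, smul_eq_mul]
    _ = 2325 * 4096 := by rw [hcard3]

omit hmin in
theorem sum_card_cN4 : ∑ w : α → ZMod 2, (cN4 C w).card = 10626 * 4096 := by
  classical
  set B4 : Finset (α → ZMod 2) := univ.filter (fun v => hammingNorm v = 4) with hB4
  have h := Finset.sum_card_bipartiteAbove_eq_sum_card_bipartiteBelow
    (s := (univ : Finset (α → ZMod 2))) (t := B4) (fun w v => w - v ∈ C)
  simp only [Finset.bipartiteAbove, Finset.bipartiteBelow] at h
  have e1 : ∀ w : α → ZMod 2, cN4 C w = B4.filter (fun v => w - v ∈ C) := by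
    intro w
    ext v
    rw [mem_cN4, Finset.mem_filter, hB4, Finset.mem_filter]
    simp only [Finset.mem_univ, true_and]
  have hcard4 : B4.card = 10626 := by
    rw [hB4, card_hammingNorm_eq, hα]
    simp [Nat.choose]
  calc ∑ w : α → ZMod 2, (cN4 C w).card
      = ∑ w : α → ZMod 2, (B4.filter (fun v => w - v ∈ C)).card :=
        Finset.sum_congr rfl (fun w _ => by rw [e1 w])
    _ = ∑ v ∈ B4, (univ.filter (fun w : α → ZMod 2 => w - v ∈ C)).card := h
    _ = ∑ v ∈ B4, 4096 := Finset.sum_congr rfl (fun v _ => card_coset_code hcard v)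
    _ = B4.card * 4096 := by rw [Finset.sum_const, smul_eq_mul]
    _ = 10626 * 4096 := by rw [hcard4]

theorem coset_le_code (w : α → ZMod 2) : (cN4 C w).card + 6 * (cN3 C w).card ≤ 6 := by
  have h3 : (cN3 C w).card ≤ 1 := card_cN3_le hmin w
  have h4 : (cN4 C w).card ≤ 6 := card_cN4_le hmin hα w
  rcases Nat.eq_zero_or_pos (cN3 C w).card with h0 | h0
  · omega
  · have : cN4 C w = ∅ := cN4_eq_empty hmin (Finset.card_pos.1 h0)
    rw [this, Finset.card_empty]
    omega

theorem coset_count_code (w : α → ZMod 2) : (cN4 C w).card + 6 * (cN3 C w).card = 6 := by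
  have hE : Fintype.card (α → ZMod 2) = 16777216 := by
    rw [Fintype.card_fun, hα, ZMod.card]
    norm_num
  have hsum : ∑ w : α → ZMod 2, ((cN4 C w).card + 6 * (cN3 C w).card) = 16777216 * 6 := by
    have e : (10626 * 4096 + 6 * (2325 * 4096) : ℕ) = 16777216 * 6 := by norm_num
    rw [← e]
    exact sum_combine (fun w => (cN3 C w).card) (fun w => (cN4 C w).card) _ _ _ (fun _ => rfl)
      (sum_card_cN3 hα hcard) (sum_card_cN4 hα hcard)
  exact forall_eq_of_sum_eq (fun w => (cN4 C w).card + 6 * (cN3 C w).card) 6 16777216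
    (coset_le_code hmin hα hcard) hE hsum w

theorem card_cN4_of_weight_four {v : α → ZMod 2} (hv : hammingNorm v = 4) :
    (cN4 C v).card = 6 := by
  have h := coset_count_code hmin hα hcard v
  have h3 : cN3 C v = ∅ := by
    rw [Finset.eq_empty_iff_forall_notMem]
    intro v' hv'
    rw [mem_cN3] at hv'
    have hne : v ≠ v' := by
      rintro rfl
      omega
    have h8 := weight_ge_eight_code hmin hv'.2 hne
    have := norm_sub_add_inter_word v v'
    omega
  rw [h3, Finset.card_empty] at h
  omega

/-- the words of weight 8 form a Steiner system `S(5, 8, 24)` -/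
theorem code_octads_steiner : IsSteinerSystem 5 8 (wordsOfWeight (C : Set (α → ZMod 2)) 8) := by
  refine ⟨fun b hb => hb.2, ?_⟩
  intro s hs
  -- split off a point
  obtain ⟨p, hp⟩ : s.Nonempty := by
    rw [← Finset.card_pos, hs]
    norm_num
  set T := s.erase p with hT
  have hTcard : T.card = 4 := by rw [hT, Finset.card_erase_of_mem hp, hs]
  have hpT : p ∉ T := Finset.notMem_erase p s
  have hsT : s = insert p T := (Finset.insert_erase hp).symm
  set v := indW T with hv
  have hv4 : hammingNorm v = 4 := by rw [hv, hammingNorm_indW, hTcard]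
  have h6 := card_cN4_of_weight_four hmin hα hcard hv4
  have hcover : (cN4 C v).biUnion support₂ = univ := by
    apply Finset.eq_univ_of_card
    rw [card_biUnion_cN4 hmin v, h6, hα]
  have hp' : p ∈ (cN4 C v).biUnion support₂ := by
    rw [hcover]
    exact Finset.mem_univ p
  rw [Finset.mem_biUnion] at hp'
  obtain ⟨v', hv', hpv'⟩ := hp'
  have hvmem : v ∈ cN4 C v := mem_cN4.mpr ⟨hv4, by rw [sub_self]; exact C.zero_mem⟩
  have hne : v ≠ v' := by
    rintro rfl
    rw [hv, support₂_indW] at hpv'
    exact hpT hpv'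
  have hdisj := cN4_disjoint hmin v hvmem hv' hne
  have hv'mem := mem_cN4.mp hv'
  have hsupp : support₂ (v - v') = support₂ v ∪ support₂ v' :=
    support₂_sub_of_disjoint_word hdisj
  have hw8 : (support₂ (v - v')).card = 8 := by
    rw [hsupp, Finset.card_union_of_disjoint hdisj]
    have h1 : (support₂ v).card = 4 := hv4
    have h2 : (support₂ v').card = 4 := hv'mem.1
    omega
  have hsub : s ⊆ support₂ (v - v') := by
    rw [hsT, hsupp]
    intro q hq
    rw [Finset.mem_insert] at hq
    rw [Finset.mem_union]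
    rcases hq with rfl | hq
    · exact Or.inr hpv'
    · left
      rw [hv, support₂_indW]
      exact hq
  refine ⟨support₂ (v - v'), ⟨⟨⟨v - v', hv'mem.2, rfl⟩, hw8⟩, hsub⟩, ?_⟩
  rintro o' ⟨⟨⟨u, hu, rfl⟩, hu8⟩, hso'⟩
  by_contra hne'
  have hne'' : u ≠ v - v' := fun h => hne' (by rw [h])
  have h8 := weight_ge_eight_code hmin (C.sub_mem hu hv'mem.2) hne''
  have hcnt := norm_sub_add_inter_word u (v - v')
  have hinter : 5 ≤ (support₂ u ∩ support₂ (v - v')).card := by
    rw [← hs]
    exact Finset.card_le_card (Finset.subset_inter hso' hsub)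
  have e1 : hammingNorm u = 8 := hu8
  have e2 : hammingNorm (v - v') = 8 := hw8
  omega

end

end Cfsg.Agent.Lib.helper3
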