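import Mathlib
import Cfsg.Agent.Lib.helper3.CoxExch

set_option autoImplicit false

namespace Cfsg.Agent.Lib.helper3

section CoxRoot

variable {n : ℕ}

/-- pairing of `v` with the `i`-th simple coroot -/
def rcor (C : Fin n → Fin n → ℤ) (i : Fin n) (v : Fin n → ℤ) : ℤ := ∑ j, v j * C j i

/-- the simple reflection as a function -/
def rfun (C : Fin n → Fin n → ℤ) (i : Fin n) (v : Fin n → ℤ) : Fin n → ℤ :=
  fun k => if k = i then v k - rcor C i v else v k

theorem rcor_add (C : Fin n → Fin n → ℤ) (i : Fin n) (u v : Fin n → ℤ) :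
    rcor C i (u + v) = rcor C i u + rcor C i v := by
  unfold rcor
  rw [← Finset.sum_add_distrib]
  exact Finset.sum_congr rfl (fun j _ => by rw [Pi.add_apply, add_mul])

theorem rcor_smul (C : Fin n → Fin n → ℤ) (i : Fin n) (c : ℤ) (v : Fin n → ℤ) :
    rcor C i (c • v) = c * rcor C i v := by
  unfold rcor
  rw [Finset.mul_sum]
  exact Finset.sum_congr rfl (fun j _ => by rw [Pi.smul_apply, smul_eq_mul, mul_assoc])

theorem rcor_neg (C : Fin n → Fin n → ℤ) (i : Fin n) (v : Fin n → ℤ) :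
    rcor C i (-v) = - rcor C i v := by
  have := rcor_smul C i (-1) v
  simpa using this

theorem rcor_sub (C : Fin n → Fin n → ℤ) (i : Fin n) (u v : Fin n → ℤ) :
    rcor C i (u - v) = rcor C i u - rcor C i v := by
  rw [sub_eq_add_neg, rcor_add, rcor_neg, ← sub_eq_add_neg]

theorem rcor_single (C : Fin n → Fin n → ℤ) (i j : Fin n) :
    rcor C i (Pi.single j 1) = C j i := by
  unfold rcor
  rw [Finset.sum_eq_single j]
  · rw [Pi.single_eq_same, one_mul]
  · intro k _ hk
    rw [Pi.single_eq_of_ne hk, zero_mul]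
  · intro h
    exact absurd (Finset.mem_univ j) h

theorem rfun_eq (C : Fin n → Fin n → ℤ) (i : Fin n) (v : Fin n → ℤ) :
    rfun C i v = v - rcor C i v • Pi.single i 1 := by
  funext k
  unfold rfun
  by_cases h : k = i
  · rw [if_pos h, Pi.sub_apply, Pi.smul_apply, h, Pi.single_eq_same, smul_eq_mul, mul_one]
  · rw [if_neg h, Pi.sub_apply, Pi.smul_apply, Pi.single_eq_of_ne h, smul_zero, sub_zero]

theorem rfun_add (C : Fin n → Fin n → ℤ) (i : Fin n) (u v : Fin n → ℤ) :
    rfun C i (u + v) = rfun C i u + rfun C i v := by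
  rw [rfun_eq, rfun_eq, rfun_eq, rcor_add, add_smul]
  abel

theorem rfun_smul (C : Fin n → Fin n → ℤ) (i : Fin n) (c : ℤ) (v : Fin n → ℤ) :
    rfun C i (c • v) = c • rfun C i v := by
  rw [rfun_eq, rfun_eq, rcor_smul, smul_sub, mul_smul]

theorem rfun_single_self (C : Fin n → Fin n → ℤ) (hC2 : ∀ i, C i i = 2) (i : Fin n) :
    rfun C i (Pi.single i 1) = - Pi.single i 1 := by
  rw [rfun_eq, rcor_single, hC2, two_smul]
  abel

theorem rfun_rfun (C : Fin n → Fin n → ℤ) (hC2 : ∀ i, C i i = 2) (i : Fin n) (v : Fin n → ℤ) :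
    rfun C i (rfun C i v) = v := by
  rw [rfun_eq C i (rfun C i v)]
  have h1 : rcor C i (rfun C i v) = - rcor C i v := by
    rw [rfun_eq, rcor_sub, rcor_smul, rcor_single, hC2]
    ring
  rw [h1, rfun_eq, neg_smul]
  abel

/-- certified data of a finite root system in simple-root coordinates -/
structure RootCert (n : ℕ) where
  C : Fin n → Fin n → ℤ
  sym : Fin n → Fin n → ℤ
  L : List (Fin n → ℤ)
  hC2 : ∀ i, C i i = 2
  hsymm : ∀ i j, sym i j = sym j i
  hpos : ∀ i, 0 < sym i i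
  hrel : ∀ i j, C j i * sym i i = 2 * sym j i
  hL_nonneg : ∀ β ∈ L, ∀ k, 0 ≤ β k
  hL_ne : ∀ β ∈ L, β ≠ 0
  hL_simple : ∀ i, Pi.single i 1 ∈ L
  hL_refl : ∀ i, ∀ β ∈ L, β = Pi.single i 1 ∨ rfun C i β ∈ L

namespace RootCert

variable (R : RootCert n)

/-- the simple reflections as linear automorphisms -/
def rL (i : Fin n) : (Fin n → ℤ) ≃ₗ[ℤ] (Fin n → ℤ) where
  toFun := rfun R.C i
  invFun := rfun R.C i
  map_add' := rfun_add R.C i
  map_smul' := rfun_smul R.C i
  left_inv := rfun_rfun R.C R.hC2 i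
  right_inv := rfun_rfun R.C R.hC2 i

theorem rL_apply (i : Fin n) (v : Fin n → ℤ) : R.rL i v = rfun R.C i v := rfl

theorem rL_mul_self (i : Fin n) : R.rL i * R.rL i = 1 := by
  apply LinearEquiv.ext
  intro v
  rw [LinearEquiv.mul_apply, rL_apply, rL_apply, rfun_rfun R.C R.hC2]
  rfl

theorem rL_inv (i : Fin n) : (R.rL i)⁻¹ = R.rL i := inv_eq_of_mul_eq_one_left (R.rL_mul_self i)

theorem rL_injective : Function.Injective R.rL := by
  intro i j h
  by_contra hij
  have h1 : R.rL i (Pi.single i 1) i = R.rL j (Pi.single i 1) i := by rw [h]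
  rw [rL_apply, rL_apply, rfun_single_self R.C R.hC2, rfun_eq, Pi.neg_apply, Pi.sub_apply,
    Pi.smul_apply, Pi.single_eq_same, Pi.single_eq_of_ne hij] at h1
  norm_num at h1

/-- the bilinear form -/
def bf (u v : Fin n → ℤ) : ℤ := ∑ j, ∑ k, u j * R.sym j k * v k

theorem bf_add_left (u u' v : Fin n → ℤ) : R.bf (u + u') v = R.bf u v + R.bf u' v := by
  unfold bf
  rw [← Finset.sum_add_distrib]
  refine Finset.sum_congr rfl (fun j _ => ?_)
  rw [← Finset.sum_add_distrib]
  refine Finset.sum_congr rfl (fun k _ => ?_)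
  rw [Pi.add_apply]
  ring

theorem bf_smul_left (c : ℤ) (u v : Fin n → ℤ) : R.bf (c • u) v = c * R.bf u v := by
  unfold bf
  rw [Finset.mul_sum]
  refine Finset.sum_congr rfl (fun j _ => ?_)
  rw [Finset.mul_sum]
  refine Finset.sum_congr rfl (fun k _ => ?_)
  rw [Pi.smul_apply, smul_eq_mul]
  ring

theorem bf_comm (u v : Fin n → ℤ) : R.bf u v = R.bf v u := by
  unfold bf
  rw [Finset.sum_comm]
  refine Finset.sum_congr rfl (fun j _ => ?_)
  refine Finset.sum_congr rfl (fun k _ => ?_)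
  rw [R.hsymm k j]
  ring

theorem bf_add_right (u v v' : Fin n → ℤ) : R.bf u (v + v') = R.bf u v + R.bf u v' := by
  rw [bf_comm, bf_add_left, bf_comm, R.bf_comm v']

theorem bf_smul_right (c : ℤ) (u v : Fin n → ℤ) : R.bf u (c • v) = c * R.bf u v := by
  rw [bf_comm, bf_smul_left, bf_comm]

theorem bf_sub_left (u u' v : Fin n → ℤ) : R.bf (u - u') v = R.bf u v - R.bf u' v := by
  have h : u - u' = u + (-1 : ℤ) • u' := by rw [neg_smul, one_smul, sub_eq_add_neg]
  rw [h, bf_add_left, bf_smul_left]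
  ring

theorem bf_sub_right (u v v' : Fin n → ℤ) : R.bf u (v - v') = R.bf u v - R.bf u v' := by
  rw [bf_comm, bf_sub_left, bf_comm, R.bf_comm v']

theorem bf_single_right (u : Fin n → ℤ) (i : Fin n) :
    R.bf u (Pi.single i 1) = ∑ j, u j * R.sym j i := by
  unfold bf
  refine Finset.sum_congr rfl (fun j _ => ?_)
  rw [Finset.sum_eq_single i]
  · rw [Pi.single_eq_same, mul_one]
  · intro k _ hk
    rw [Pi.single_eq_of_ne hk, mul_zero]
  · intro h
    exact absurd (Finset.mem_univ i) h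

theorem bf_single_single (i j : Fin n) :
    R.bf (Pi.single i 1) (Pi.single j 1) = R.sym i j := by
  rw [bf_single_right, Finset.sum_eq_single i]
  · rw [Pi.single_eq_same, one_mul]
  · intro k _ hk
    rw [Pi.single_eq_of_ne hk, zero_mul]
  · intro h
    exact absurd (Finset.mem_univ i) h

theorem rcor_mul_sym (i : Fin n) (v : Fin n → ℤ) :
    rcor R.C i v * R.sym i i = 2 * R.bf v (Pi.single i 1) := by
  rw [bf_single_right]
  unfold rcor
  rw [Finset.sum_mul, Finset.mul_sum]
  refine Finset.sum_congr rfl (fun j _ => ?_)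
  rw [mul_assoc, R.hrel]
  ring

theorem bf_rfun (i : Fin n) (u v : Fin n → ℤ) :
    R.bf (rfun R.C i u) (rfun R.C i v) = R.bf u v := by
  rw [rfun_eq, rfun_eq]
  simp only [bf_sub_left, bf_sub_right, bf_smul_left, bf_smul_right, bf_single_single]
  have hu := R.rcor_mul_sym i u
  have hv := R.rcor_mul_sym i v
  have hs := ne_of_gt (R.hpos i)
  have hc : R.bf (Pi.single i 1) v = R.bf v (Pi.single i 1) := R.bf_comm _ _
  rw [hc]
  apply mul_left_cancel₀ hs
  linear_combination (R.bf v (Pi.single i 1)) * hu + (rcor R.C i u * R.sym i i - R.bf u (Pi.single i 1)) * hv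

/-- the ambient group of linear automorphisms -/
abbrev GLn (n : ℕ) : Type := (Fin n → ℤ) ≃ₗ[ℤ] (Fin n → ℤ)

/-- the reflection subgroup generated by the simple reflections indexed by `J` -/
def WJ (J : Set (Fin n)) : Subgroup (GLn n) := Subgroup.closure (R.rL '' J)

theorem rL_mem_WJ {J : Set (Fin n)} {i : Fin n} (hi : i ∈ J) : R.rL i ∈ R.WJ J :=
  Subgroup.subset_closure ⟨i, hi, rfl⟩

theorem WJ_mono {J K : Set (Fin n)} (h : J ⊆ K) : R.WJ J ≤ R.WJ K :=
  Subgroup.closure_mono (Set.image_mono h)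

theorem inv_apply_apply (w : GLn n) (v : Fin n → ℤ) : w⁻¹ (w v) = v := by
  rw [← LinearEquiv.mul_apply, inv_mul_cancel]
  rfl

theorem apply_inv_apply (w : GLn n) (v : Fin n → ℤ) : w (w⁻¹ v) = v := by
  rw [← LinearEquiv.mul_apply, mul_inv_cancel]
  rfl

theorem bf_invariant {J : Set (Fin n)} {w : GLn n} (hw : w ∈ R.WJ J) :
    ∀ u v : Fin n → ℤ, R.bf (w u) (w v) = R.bf u v := by
  unfold WJ at hw
  induction hw using Subgroup.closure_induction with
  | mem x hx =>
    obtain ⟨i, _, rfl⟩ := hx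
    exact R.bf_rfun i
  | one => intro u v; rfl
  | mul x y _ _ hx hy =>
    intro u v
    rw [LinearEquiv.mul_apply, LinearEquiv.mul_apply, hx, hy]
  | inv x _ hx =>
    intro u v
    have := hx (x⁻¹ u) (x⁻¹ v)
    rw [apply_inv_apply, apply_inv_apply] at this
    exact this.symm

/-- the roots of the parabolic subsystem -/
def PhiJ (J : Set (Fin n)) : Set (Fin n → ℤ) :=
  {β | (β ∈ R.L ∨ -β ∈ R.L) ∧ ∀ k, k ∉ J → β k = 0}

theorem rfun_neg (i : Fin n) (v : Fin n → ℤ) : rfun R.C i (-v) = - rfun R.C i v := by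
  have := rfun_smul R.C i (-1) v
  simpa using this

theorem rfun_mem_PhiJ {J : Set (Fin n)} {i : Fin n} (hi : i ∈ J) {β : Fin n → ℤ}
    (hβ : β ∈ R.PhiJ J) : rfun R.C i β ∈ R.PhiJ J := by
  obtain ⟨h1, h2⟩ := hβ
  refine ⟨?_, ?_⟩
  · rcases h1 with h | h
    · rcases R.hL_refl i β h with h' | h'
      · right
        rw [h', rfun_single_self R.C R.hC2, neg_neg]
        exact R.hL_simple i
      · exact Or.inl h'
    · rcases R.hL_refl i (-β) h with h' | h'
      · left
        have : β = - Pi.single i 1 := by rw [← h', neg_neg]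
        rw [this, rfun_neg, rfun_single_self R.C R.hC2, neg_neg]
        exact R.hL_simple i
      · right
        rw [← rfun_neg]
        exact h'
  · intro k hk
    have hki : k ≠ i := fun h => hk (h ▸ hi)
    unfold rfun
    rw [if_neg hki]
    exact h2 k hk

theorem single_mem_PhiJ {J : Set (Fin n)} {i : Fin n} (hi : i ∈ J) :
    (Pi.single i 1 : Fin n → ℤ) ∈ R.PhiJ J := by
  refine ⟨Or.inl (R.hL_simple i), ?_⟩
  intro k hk
  have hki : k ≠ i := fun h => hk (h ▸ hi)
  exact Pi.single_eq_of_ne hki _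

theorem mem_PhiJ_of_mem_WJ {J : Set (Fin n)} {w : GLn n} (hw : w ∈ R.WJ J) :
    ∀ β ∈ R.PhiJ J, w β ∈ R.PhiJ J ∧ w⁻¹ β ∈ R.PhiJ J := by
  unfold WJ at hw
  induction hw using Subgroup.closure_induction with
  | mem x hx =>
    obtain ⟨i, hi, rfl⟩ := hx
    intro β hβ
    rw [R.rL_inv]
    exact ⟨R.rfun_mem_PhiJ hi hβ, R.rfun_mem_PhiJ hi hβ⟩
  | one =>
    intro β hβ
    rw [inv_one]
    exact ⟨hβ, hβ⟩
  | mul x y _ _ hx hy =>
    intro β hβ
    rw [mul_inv_rev, LinearEquiv.mul_apply, LinearEquiv.mul_apply]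
    exact ⟨(hx _ (hy β hβ).1).1, (hy _ (hx β hβ).2).2⟩
  | inv x _ hx =>
    intro β hβ
    rw [inv_inv]
    exact ⟨(hx β hβ).2, (hx β hβ).1⟩

theorem PhiJ_ne_zero {J : Set (Fin n)} {β : Fin n → ℤ} (hβ : β ∈ R.PhiJ J) : β ≠ 0 := by
  rcases hβ.1 with h | h
  · exact R.hL_ne β h
  · intro h0
    apply R.hL_ne (-β) h
    rw [h0, neg_zero]

theorem PhiJ_sign {J : Set (Fin n)} {β : Fin n → ℤ} (hβ : β ∈ R.PhiJ J) :
    (∀ k, 0 ≤ β k) ∨ (∀ k, β k ≤ 0) := by
  rcases hβ.1 with h | h
  · exact Or.inl (R.hL_nonneg β h)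
  · right
    intro k
    have := R.hL_nonneg (-β) h k
    rw [Pi.neg_apply] at this
    omega

theorem PhiJ_not_both {J : Set (Fin n)} {β : Fin n → ℤ} (hβ : β ∈ R.PhiJ J)
    (h1 : ∀ k, 0 ≤ β k) (h2 : ∀ k, β k ≤ 0) : False := by
  apply R.PhiJ_ne_zero hβ
  funext k
  exact le_antisymm (h2 k) (h1 k)

theorem mem_L_of_nonneg {J : Set (Fin n)} {β : Fin n → ℤ} (hβ : β ∈ R.PhiJ J)
    (h1 : ∀ k, 0 ≤ β k) : β ∈ R.L := by
  rcases hβ.1 with h | h
  · exact h
  · exfalso
    apply R.PhiJ_not_both hβ h1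
    intro k
    have := R.hL_nonneg (-β) h k
    rw [Pi.neg_apply] at this
    omega

/-- the distinguished involutions of `WJ J` -/
def TJ (J : Set (Fin n)) : Set (R.WJ J) := {t | ∃ i ∈ J, (t : GLn n) = R.rL i}

/-- the half-spaces -/
def PsJ (J : Set (Fin n)) (t : R.WJ J) : Set (R.WJ J) :=
  {w | ∀ i ∈ J, (t : GLn n) = R.rL i → ∀ k, 0 ≤ ((w : GLn n)⁻¹ (Pi.single i 1)) k}

theorem conj_eq_of_apply_single {J : Set (Fin n)} {w : GLn n} (hw : w ∈ R.WJ J) {i j : Fin n}
    (h : w (Pi.single j 1) = Pi.single i 1) : w * R.rL j = R.rL i * w := by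
  apply LinearEquiv.ext
  intro v
  rw [LinearEquiv.mul_apply, LinearEquiv.mul_apply, rL_apply, rL_apply, rfun_eq, rfun_eq,
    map_sub, map_smul, h]
  have hsii : R.sym i i = R.sym j j := by
    rw [← R.bf_single_single i i, ← h, R.bf_invariant hw, R.bf_single_single]
  have key : rcor R.C j v = rcor R.C i (w v) := by
    have h1 := R.rcor_mul_sym j v
    have h2 := R.rcor_mul_sym i (w v)
    rw [← h, R.bf_invariant hw] at h2
    rw [hsii] at h2
    have hs := ne_of_gt (R.hpos j)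
    apply mul_right_cancel₀ hs
    rw [h1, h2]
  rw [key]

theorem exchSys (J : Set (Fin n)) : ExchSys (R.TJ J) (R.PsJ J) where
  hT2 := by
    rintro t ⟨i, _, hi⟩
    apply Subtype.ext
    rw [Subgroup.coe_mul, hi, R.rL_mul_self]
    rfl
  hgen := by
    have : R.TJ J = ((↑) : R.WJ J → GLn n) ⁻¹' (R.rL '' J) := by
      ext t
      constructor
      · rintro ⟨i, hi, h⟩
        exact ⟨i, hi, h.symm⟩
      · rintro ⟨i, hi, h⟩
        exact ⟨i, hi, h.symm⟩
    rw [this]
    exact Subgroup.closure_closure_coe_preimage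
  hA := by
    rintro t _ i _ _ k
    rw [Subgroup.coe_one, inv_one]
    show 0 ≤ (Pi.single i (1 : ℤ) : Fin n → ℤ) k
    by_cases h : k = i
    · rw [h, Pi.single_eq_same]
      exact zero_le_one
    · rw [Pi.single_eq_of_ne h]
  hB := by
    rintro t ⟨i, hi, hti⟩ w hw hw'
    have h1 := hw i hi hti
    have h2 := hw' i hi hti
    rw [Subgroup.coe_mul, mul_inv_rev, LinearEquiv.mul_apply, hti, R.rL_inv, rL_apply,
      rfun_single_self R.C R.hC2, map_neg] at h2
    have hβ := (R.mem_PhiJ_of_mem_WJ w.2 _ (R.single_mem_PhiJ hi)).2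
    apply R.PhiJ_not_both hβ h1
    intro k
    have := h2 k
    rw [Pi.neg_apply] at this
    omega
  hC := by
    rintro t ⟨i, hi, hti⟩ t' ⟨j, hj, htj⟩ w hw hw'
    have h1 := hw i hi hti
    have hβ := (R.mem_PhiJ_of_mem_WJ w.2 _ (R.single_mem_PhiJ hi)).2
    have hβL := R.mem_L_of_nonneg hβ h1
    have hβj : (w : GLn n)⁻¹ (Pi.single i 1) = Pi.single j 1 := by
      rcases R.hL_refl j _ hβL with h | h
      · exact h
      · exfalso
        apply hw'
        intro i' hi' hti' k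
        have hii' : i = i' := R.rL_injective (hti.symm.trans hti')
        subst hii'
        rw [Subgroup.coe_mul, mul_inv_rev, LinearEquiv.mul_apply, htj, R.rL_inv, rL_apply]
        exact R.hL_nonneg _ h k
    have hwj : (w : GLn n) (Pi.single j 1) = Pi.single i 1 := by
      rw [← hβj, apply_inv_apply]
    apply Subtype.ext
    rw [Subgroup.coe_mul, Subgroup.coe_mul, hti, htj]
    exact (R.conj_eq_of_apply_single w.2 hwj).symm

end RootCert

end CoxRoot

section CoxeterGiven

variable {W : Type*} [Group W] {T : Set W} {Ps : W → Set W} {B : Type*}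

/-- version of `coxeter_of_exch` with a prescribed Coxeter matrix -/
theorem coxeter_of_exch_matrix (E : ExchSys T Ps) (s : B → W) (hs : ∀ i, s i ∈ T)
    (hsurj : T ⊆ Set.range s) (M : CoxeterMatrix B) (hM : ∀ i j, orderOf (s i * s j) = M i j) :
    ∃ cs : CoxeterSystem M W, ∀ i, cs.simple i = s i := by
  have hs2 : ∀ i, s i * s i = 1 := fun i => E.hT2 _ (hs i)
  have hlift : M.IsLiftable s := by
    intro i j
    rw [← hM]
    exact pow_orderOf_eq_one _
  set π : M.Group →* W := M.toCoxeterSystem.lift ⟨s, hlift⟩ with hπ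
  set σ : B → M.Group := M.toCoxeterSystem.simple with hσdef
  have hπσ : ∀ i, π (σ i) = s i := fun i => M.toCoxeterSystem.lift_apply_simple hlift i
  have hσ2 : ∀ i, σ i * σ i = 1 := fun i => M.toCoxeterSystem.simple_mul_simple_self i
  have hbraid : ∀ a b : B, ∀ q : ℕ, (s a * s b) ^ q = 1 → (σ a * σ b) ^ q = 1 := by
    intro a b q h
    have hd : M a b ∣ q := by
      rw [← hM]
      exact orderOf_dvd_of_pow_eq_one h
    obtain ⟨k, rfl⟩ := hd
    rw [pow_mul, M.toCoxeterSystem.simple_mul_simple_pow, one_pow]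
  have hπl : ∀ ω : List B, π (lprod σ ω) = lprod s ω := by
    intro ω
    induction ω with
    | nil => rw [lprod_nil, lprod_nil, map_one]
    | cons a ω ih => rw [lprod_cons, lprod_cons, map_mul, ih, hπσ]
  have hbij : Function.Bijective π := by
    constructor
    · rw [injective_iff_map_eq_one]
      intro g hg
      obtain ⟨ω, rfl⟩ := M.toCoxeterSystem.wordProd_surjective g
      obtain ⟨ρ, hr, h1, h2⟩ := exists_red_word E hs hσ2 hbraid ω
      have e1 : M.toCoxeterSystem.wordProd ω = lprod σ ω := rfl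
      rw [e1] at hg ⊢
      rw [hπl, ← h1] at hg
      unfold Red at hr
      rw [hg, wlen_one] at hr
      have : ρ = [] := List.eq_nil_of_length_eq_zero hr.symm
      rw [← h2, this, lprod_nil]
    · intro w
      obtain ⟨L, hL, hw⟩ := exists_word E.hT2 E.hgen w
      have : ∀ L : List W, (∀ x ∈ L, x ∈ T) → ∃ ω : List B, lprod s ω = L.prod := by
        intro L
        induction L with
        | nil => intro _; exact ⟨[], rfl⟩
        | cons x L ih =>
          intro hL
          obtain ⟨ω, hω⟩ := ih (fun y hy => hL y (List.mem_cons_of_mem _ hy))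
          obtain ⟨i, hi⟩ := hsurj (hL x List.mem_cons_self)
          exact ⟨i :: ω, by rw [lprod_cons, hω, hi, List.prod_cons]⟩
      obtain ⟨ω, hω⟩ := this L hL
      exact ⟨lprod σ ω, by rw [hπl, hω, hw]⟩
  refine ⟨M.toCoxeterSystem.map (MulEquiv.ofBijective π hbij), ?_⟩
  intro i
  rw [CoxeterSystem.map_simple]
  exact hπσ i

end CoxeterGiven

end Cfsg.Agent.Lib.helper3
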