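import Mathlib
import Cfsg.Agent.Lib.helper3.CoxRoot

set_option autoImplicit false

namespace Cfsg.Agent.Lib.helper3

namespace RootCert

variable {n : ℕ} (R : RootCert n)

/-- a vector translated along two simple roots -/
def stv (i j : Fin n) (v : Fin n → ℤ) (p q : ℤ) : Fin n → ℤ :=
  v - p • Pi.single i 1 - q • Pi.single j 1

theorem stv_zero (i j : Fin n) (v : Fin n → ℤ) : stv i j v 0 0 = v := by
  unfold stv
  rw [zero_smul, zero_smul, sub_zero, sub_zero]

theorem stv_apply_left {i j : Fin n} (hij : i ≠ j) (v : Fin n → ℤ) (p q : ℤ) :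
    stv i j v p q i = v i - p := by
  unfold stv
  rw [Pi.sub_apply, Pi.sub_apply, Pi.smul_apply, Pi.smul_apply, Pi.single_eq_same,
    Pi.single_eq_of_ne hij, smul_zero, sub_zero, smul_eq_mul, mul_one]

theorem stv_apply_right {i j : Fin n} (hij : i ≠ j) (v : Fin n → ℤ) (p q : ℤ) :
    stv i j v p q j = v j - q := by
  unfold stv
  rw [Pi.sub_apply, Pi.sub_apply, Pi.smul_apply, Pi.smul_apply, Pi.single_eq_same,
    Pi.single_eq_of_ne hij.symm, smul_zero, sub_zero, smul_eq_mul, mul_one]

theorem mul_apply_stv (i j : Fin n) (v : Fin n → ℤ) (p q : ℤ) :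
    (R.rL i * R.rL j) (stv i j v p q) =
      stv i j v (rcor R.C i v - R.C j i * rcor R.C j v + (R.C i j * R.C j i - 1) * p + R.C j i * q)
        (rcor R.C j v - R.C i j * p - q) := by
  rw [LinearEquiv.mul_apply, rL_apply, rL_apply, rfun_eq, rfun_eq]
  unfold stv
  simp only [rcor_sub, rcor_smul, rcor_single, R.hC2]
  module

/-- the iteration of the affine map describing powers of a product of two reflections -/
def fiter (a b x y : ℤ) : ℕ → ℤ × ℤ
  | 0 => (0, 0)
  | k + 1 => (x - b * y + (a * b - 1) * (fiter a b x y k).1 + b * (fiter a b x y k).2,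
      y - a * (fiter a b x y k).1 - (fiter a b x y k).2)

theorem pow_apply_eq (i j : Fin n) (v : Fin n → ℤ) (k : ℕ) :
    ((R.rL i * R.rL j) ^ k) v =
      stv i j v (fiter (R.C i j) (R.C j i) (rcor R.C i v) (rcor R.C j v) k).1
        (fiter (R.C i j) (R.C j i) (rcor R.C i v) (rcor R.C j v) k).2 := by
  induction k with
  | zero =>
    rw [pow_zero]
    show v = _
    rw [fiter, stv_zero]
  | succ k ih =>
    rw [pow_succ', LinearEquiv.mul_apply, ih, mul_apply_stv, fiter]

theorem pow_eq_one_of_fiter (i j : Fin n) (m : ℕ)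
    (h : ∀ x y : ℤ, fiter (R.C i j) (R.C j i) x y m = (0, 0)) : (R.rL i * R.rL j) ^ m = 1 := by
  apply LinearEquiv.ext
  intro v
  rw [pow_apply_eq, h]
  show stv i j v 0 0 = v
  exact stv_zero i j v

theorem pow_ne_one_of_fiter {i j : Fin n} (hij : i ≠ j) (k : ℕ)
    (h : fiter (R.C i j) (R.C j i) 2 (R.C i j) k ≠ (0, 0)) : (R.rL i * R.rL j) ^ k ≠ 1 := by
  intro h1
  apply h
  have h2 := R.pow_apply_eq i j (Pi.single i 1) k
  rw [h1, rcor_single, rcor_single, R.hC2] at h2
  have h3 := congrFun h2 i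
  have h4 := congrFun h2 j
  rw [stv_apply_left hij] at h3
  rw [stv_apply_right hij] at h4
  have e1 : ((1 : GLn n) (Pi.single i 1 : Fin n → ℤ)) = Pi.single i 1 := rfl
  rw [e1] at h3 h4
  apply Prod.ext
  · show _ = (0 : ℤ)
    omega
  · show _ = (0 : ℤ)
    omega

theorem orderOf_rL_mul {i j : Fin n} (hij : i ≠ j) (m : ℕ)
    (h : (R.C i j, R.C j i, m) ∈ ([(0, 0, 2), (-1, -1, 3), (-1, -2, 4), (-2, -1, 4), (-1, -3, 6),
      (-3, -1, 6)] : List (ℤ × ℤ × ℕ))) : orderOf (R.rL i * R.rL j) = m := by
  simp only [List.mem_cons, Prod.mk.injEq, List.not_mem_nil, or_false] at h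
  rcases h with ⟨ha, hb, rfl⟩ | ⟨ha, hb, rfl⟩ | ⟨ha, hb, rfl⟩ | ⟨ha, hb, rfl⟩ | ⟨ha, hb, rfl⟩ |
    ⟨ha, hb, rfl⟩
  · apply orderOf_eq_prime
    · apply R.pow_eq_one_of_fiter
      intro x y
      rw [ha, hb]
      simp only [fiter]
      apply Prod.ext <;> ring
    · have := R.pow_ne_one_of_fiter hij 1 (by rw [ha, hb]; decide)
      rwa [pow_one] at this
  · apply orderOf_eq_prime
    · apply R.pow_eq_one_of_fiter
      intro x y
      rw [ha, hb]
      simp only [fiter]
      apply Prod.ext <;> ring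
    · have := R.pow_ne_one_of_fiter hij 1 (by rw [ha, hb]; decide)
      rwa [pow_one] at this
  · apply orderOf_eq_of_pow_and_pow_div_prime (by norm_num)
    · apply R.pow_eq_one_of_fiter
      intro x y
      rw [ha, hb]
      simp only [fiter]
      apply Prod.ext <;> ring
    · intro p hp hd
      have hp2 : p = 2 := by
        have : p ∣ 2 ^ 2 := by simpa using hd
        exact (Nat.prime_dvd_prime_iff_eq hp Nat.prime_two).1 (hp.dvd_of_dvd_pow this)
      subst hp2
      exact R.pow_ne_one_of_fiter hij _ (by rw [ha, hb]; decide)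
  · apply orderOf_eq_of_pow_and_pow_div_prime (by norm_num)
    · apply R.pow_eq_one_of_fiter
      intro x y
      rw [ha, hb]
      simp only [fiter]
      apply Prod.ext <;> ring
    · intro p hp hd
      have hp2 : p = 2 := by
        have : p ∣ 2 ^ 2 := by simpa using hd
        exact (Nat.prime_dvd_prime_iff_eq hp Nat.prime_two).1 (hp.dvd_of_dvd_pow this)
      subst hp2
      exact R.pow_ne_one_of_fiter hij _ (by rw [ha, hb]; decide)
  · apply orderOf_eq_of_pow_and_pow_div_prime (by norm_num)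
    · apply R.pow_eq_one_of_fiter
      intro x y
      rw [ha, hb]
      simp only [fiter]
      apply Prod.ext <;> ring
    · intro p hp hd
      have hp23 : p = 2 ∨ p = 3 := by
        have : p ∣ 2 * 3 := by simpa using hd
        rcases (Nat.Prime.dvd_mul hp).1 this with h | h
        · exact Or.inl ((Nat.prime_dvd_prime_iff_eq hp Nat.prime_two).1 h)
        · exact Or.inr ((Nat.prime_dvd_prime_iff_eq hp Nat.prime_three).1 h)
      rcases hp23 with rfl | rfl
      · exact R.pow_ne_one_of_fiter hij _ (by rw [ha, hb]; decide)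
      · exact R.pow_ne_one_of_fiter hij _ (by rw [ha, hb]; decide)
  · apply orderOf_eq_of_pow_and_pow_div_prime (by norm_num)
    · apply R.pow_eq_one_of_fiter
      intro x y
      rw [ha, hb]
      simp only [fiter]
      apply Prod.ext <;> ring
    · intro p hp hd
      have hp23 : p = 2 ∨ p = 3 := by
        have : p ∣ 2 * 3 := by simpa using hd
        rcases (Nat.Prime.dvd_mul hp).1 this with h | h
        · exact Or.inl ((Nat.prime_dvd_prime_iff_eq hp Nat.prime_two).1 h)
        · exact Or.inr ((Nat.prime_dvd_prime_iff_eq hp Nat.prime_three).1 h)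
      rcases hp23 with rfl | rfl
      · exact R.pow_ne_one_of_fiter hij _ (by rw [ha, hb]; decide)
      · exact R.pow_ne_one_of_fiter hij _ (by rw [ha, hb]; decide)

end RootCert

end Cfsg.Agent.Lib.helper3
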