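import Mathlib
import Cfsg.Agent.Lib.helper3.CoxRootOrd

set_option autoImplicit false

namespace Cfsg.Agent.Lib.helper3

/-- orbit-stabilizer for a subgroup `H` and the subgroup `H'` of its elements fixing `a` -/
theorem card_eq_orbit_mul_sub {G α : Type*} [Group G] [MulAction G α] (H H' : Subgroup G) (a : α)
    (h : ∀ g, g ∈ H' ↔ g ∈ H ∧ g • a = a) :
    Nat.card H = Nat.card (MulAction.orbit H a) * Nat.card H' := by
  rw [← Nat.card_congr (MulAction.orbitProdStabilizerEquivGroup H a), Nat.card_prod]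
  congr 1
  apply Nat.card_congr
  exact
    { toFun := fun x => ⟨x.1.1, (h _).2 ⟨x.1.2, x.2⟩⟩
      invFun := fun y => ⟨⟨y.1, ((h _).1 y.2).1⟩, ((h _).1 y.2).2⟩
      left_inv := fun _ => rfl
      right_inv := fun _ => rfl }

namespace RootCert

variable {n : ℕ} (R : RootCert n)

/-- the Coxeter presentation of a parabolic subgroup -/
theorem coxeterSystem {B : Type*} (e : B → Fin n) (he : Function.Injective e) (M : CoxeterMatrix B)
    (hM : ∀ b b', b ≠ b' → (R.C (e b) (e b'), R.C (e b') (e b), M b b') ∈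
      ([(0, 0, 2), (-1, -1, 3), (-1, -2, 4), (-2, -1, 4), (-1, -3, 6), (-3, -1, 6)] :
        List (ℤ × ℤ × ℕ))) :
    ∃ cs : CoxeterSystem M (R.WJ (Set.range e)),
      ∀ b, ((cs.simple b : R.WJ (Set.range e)) : GLn n) = R.rL (e b) := by
  set s : B → R.WJ (Set.range e) := fun b => ⟨R.rL (e b), R.rL_mem_WJ ⟨b, rfl⟩⟩ with hs
  obtain ⟨cs, hcs⟩ := coxeter_of_exch_matrix (R.exchSys (Set.range e)) s
    (fun b => ⟨e b, ⟨b, rfl⟩, rfl⟩)
    (by
      rintro t ⟨i, ⟨b, rfl⟩, hi⟩
      exact ⟨b, Subtype.ext hi.symm⟩) M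
    (by
      intro b b'
      by_cases hbb : b = b'
      · subst hbb
        rw [M.diagonal]
        have : s b * s b = 1 := by
          apply Subtype.ext
          rw [Subgroup.coe_mul]
          exact R.rL_mul_self (e b)
        rw [this, orderOf_one]
      · rw [← Subgroup.orderOf_coe, Subgroup.coe_mul]
        exact R.orderOf_rL_mul (fun h => hbb (he h)) _ (hM b b' hbb))
  exact ⟨cs, fun b => by rw [hcs b]⟩

theorem bf_expand (u v : Fin n → ℤ) : R.bf u v = ∑ k, v k * R.bf u (Pi.single k 1) := by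
  simp only [bf_single_right]
  unfold bf
  rw [Finset.sum_comm]
  refine Finset.sum_congr rfl (fun k _ => ?_)
  rw [Finset.mul_sum]
  refine Finset.sum_congr rfl (fun j _ => ?_)
  ring

theorem rL_apply_of_rcor_eq_zero {i : Fin n} {lam : Fin n → ℤ} (h : rcor R.C i lam = 0) :
    R.rL i lam = lam := by
  rw [rL_apply, rfun_eq, h, zero_smul, sub_zero]

theorem fixes_of_mem_WJ {J' : Set (Fin n)} {lam : Fin n → ℤ} (h0 : ∀ i ∈ J', rcor R.C i lam = 0)
    {w : GLn n} (hw : w ∈ R.WJ J') : w lam = lam ∧ w⁻¹ lam = lam := by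
  unfold WJ at hw
  induction hw using Subgroup.closure_induction with
  | mem x hx =>
    obtain ⟨i, hi, rfl⟩ := hx
    rw [R.rL_inv]
    exact ⟨R.rL_apply_of_rcor_eq_zero (h0 i hi), R.rL_apply_of_rcor_eq_zero (h0 i hi)⟩
  | one => exact ⟨rfl, by rw [inv_one]; rfl⟩
  | mul x y _ _ hx hy =>
    rw [mul_inv_rev, LinearEquiv.mul_apply, LinearEquiv.mul_apply, hy.1, hx.1, hx.2, hy.2]
    exact ⟨rfl, rfl⟩
  | inv x _ hx =>
    rw [inv_inv]
    exact ⟨hx.2, hx.1⟩

/-- the stabilizer of a dominant vector is the parabolic subgroup of the reflections fixing it -/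
theorem mem_WJ_of_fixes (J J' : Set (Fin n)) (lam : Fin n → ℤ)
    (hdom : ∀ i ∈ J, 0 ≤ rcor R.C i lam)
    (hJ' : ∀ i, i ∈ J' ↔ i ∈ J ∧ rcor R.C i lam = 0) :
    ∀ (q : ℕ) (w : R.WJ J), wlen (R.TJ J) w = q → (w : GLn n) lam = lam → (w : GLn n) ∈ R.WJ J' := by
  have E := R.exchSys J
  intro q
  induction q using Nat.strong_induction_on with
  | _ q IH =>
  intro w hq hfix
  obtain ⟨L, hL, hprod, hlen⟩ := exists_reduced E.hT2 E.hgen w
  cases L with
  | nil =>
    rw [List.prod_nil] at hprod
    rw [← hprod]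
    exact (R.WJ J').one_mem
  | cons t L' =>
    have ht : t ∈ R.TJ J := hL t List.mem_cons_self
    rw [List.prod_cons] at hprod
    rw [List.length_cons] at hlen
    have htw : t * w = L'.prod := by
      rw [← hprod, ← mul_assoc, E.hT2 t ht, one_mul]
    have hlt : wlen (R.TJ J) (t * w) < wlen (R.TJ J) w := by
      have := wlen_le (T := R.TJ J) (w := t * w) (L := L')
        (fun x hx => hL x (List.mem_cons_of_mem _ hx)) htw.symm
      omega
    have hnot : w ∉ R.PsJ J t := by
      rw [not_mem_Ps_iff (R.PsJ J) E.hT2 E.hgen E.hA E.hB E.hC ht]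
      have := wlen_mul_le E.hT2 E.hgen ht (t * w)
      rw [← mul_assoc, E.hT2 t ht, one_mul] at this
      omega
    obtain ⟨i, hi, hti⟩ := ht
    have hneg : ∀ k, ((w : GLn n)⁻¹ (Pi.single i 1)) k ≤ 0 := by
      have hβ := (R.mem_PhiJ_of_mem_WJ w.2 _ (R.single_mem_PhiJ hi)).2
      rcases R.PhiJ_sign hβ with h | h
      · exfalso
        apply hnot
        intro i' _ hti' k
        have hii' : i = i' := R.rL_injective (hti.symm.trans hti')
        subst hii'
        exact h k
      · exact h
    have hsupp : ∀ k, k ∉ J → ((w : GLn n)⁻¹ (Pi.single i 1)) k = 0 :=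
      ((R.mem_PhiJ_of_mem_WJ w.2 _ (R.single_mem_PhiJ hi)).2).2
    have hfix' : (w : GLn n)⁻¹ lam = lam := by
      nth_rewrite 1 [← hfix]
      exact inv_apply_apply _ _
    have h1 := R.rcor_mul_sym i lam
    have h2 : R.bf lam (Pi.single i 1) = R.bf lam ((w : GLn n)⁻¹ (Pi.single i 1)) := by
      have hwinv : (w : GLn n)⁻¹ ∈ R.WJ J := (R.WJ J).inv_mem w.2
      have := R.bf_invariant hwinv lam (Pi.single i 1)
      rw [hfix'] at this
      exact this.symm
    have h3 : 2 * R.bf lam ((w : GLn n)⁻¹ (Pi.single i 1)) ≤ 0 := by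
      rw [bf_expand, Finset.mul_sum]
      apply Finset.sum_nonpos
      intro k _
      by_cases hk : k ∈ J
      · have h4 := R.rcor_mul_sym k lam
        have h5 := hdom k hk
        have h6 := R.hpos k
        have h7 := hneg k
        have : 0 ≤ 2 * R.bf lam (Pi.single k 1) := by
          rw [← h4]
          positivity
        nlinarith
      · rw [hsupp k hk, zero_mul, mul_zero]
    have hzero : rcor R.C i lam = 0 := by
      have h5 := hdom i hi
      have h6 := R.hpos i
      have : rcor R.C i lam * R.sym i i ≤ 0 := by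
        rw [h1, h2]
        exact h3
      nlinarith
    have hiJ' : i ∈ J' := (hJ' i).2 ⟨hi, hzero⟩
    have htfix : (t : GLn n) lam = lam := by
      rw [hti]
      exact R.rL_apply_of_rcor_eq_zero hzero
    have htwfix : ((t * w : R.WJ J) : GLn n) lam = lam := by
      rw [Subgroup.coe_mul, LinearEquiv.mul_apply, hfix, htfix]
    have hrec := IH _ (by rw [← hq]; exact hlt) (t * w) rfl htwfix
    have htJ' : (t : GLn n) ∈ R.WJ J' := by
      rw [hti]
      exact R.rL_mem_WJ hiJ'
    have : (w : GLn n) = (t : GLn n) * ((t * w : R.WJ J) : GLn n) := by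
      rw [Subgroup.coe_mul, ← mul_assoc]
      have := congrArg (fun x : R.WJ J => (x : GLn n)) (E.hT2 t ⟨i, hi, hti⟩)
      simp only [Subgroup.coe_mul, Subgroup.coe_one] at this
      rw [this, one_mul]
    rw [this]
    exact (R.WJ J').mul_mem htJ' hrec

/-- one step of the computation of the order of a parabolic subgroup -/
theorem card_WJ_step (J J' : Set (Fin n)) (lam : Fin n → ℤ)
    (hdom : ∀ i ∈ J, 0 ≤ rcor R.C i lam)
    (hJ' : ∀ i, i ∈ J' ↔ i ∈ J ∧ rcor R.C i lam = 0) :
    Nat.card (R.WJ J) = Nat.card (MulAction.orbit (R.WJ J) lam) * Nat.card (R.WJ J') := by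
  apply card_eq_orbit_mul_sub
  intro g
  constructor
  · intro hg
    have hsub : J' ⊆ J := fun i hi => ((hJ' i).1 hi).1
    refine ⟨R.WJ_mono hsub hg, ?_⟩
    exact (R.fixes_of_mem_WJ (fun i hi => ((hJ' i).1 hi).2) hg).1
  · rintro ⟨hg, hfix⟩
    exact R.mem_WJ_of_fixes J J' lam hdom hJ' _ ⟨g, hg⟩ rfl hfix

theorem smul_eq_apply {J : Set (Fin n)} (w : R.WJ J) (v : Fin n → ℤ) : w • v = (w : GLn n) v := rfl

/-- reachability certificate: each listed vector is the image of an earlier one under a reflection -/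
def reachChk (C : Fin n → Fin n → ℤ) (Jb : Fin n → Bool) :
    List (Fin n → ℤ) → List (Fin n → ℤ) → List (ℕ × Fin n) → Bool
  | _, [], _ => true
  | _, _ :: _, [] => false
  | seen, v :: rest, (p, i) :: cs =>
    Jb i && (match seen[p]? with
      | some u => decide (v = rfun C i u)
      | none => false) && reachChk C Jb (seen ++ [v]) rest cs

theorem mem_orbit_of_reachChk (Jb : Fin n → Bool) (lam : Fin n → ℤ) :
    ∀ (rest seen : List (Fin n → ℤ)) (cs : List (ℕ × Fin n)),
      reachChk R.C Jb seen rest cs = true →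
      (∀ u ∈ seen, u ∈ MulAction.orbit (R.WJ {i | Jb i = true}) lam) →
      ∀ v ∈ rest, v ∈ MulAction.orbit (R.WJ {i | Jb i = true}) lam := by
  intro rest
  induction rest with
  | nil => intro _ _ _ _ v hv; simp at hv
  | cons v rest ih =>
    intro seen cs h hseen
    cases cs with
    | nil => simp [reachChk] at h
    | cons c cs =>
      obtain ⟨p, i⟩ := c
      rw [reachChk, Bool.and_eq_true, Bool.and_eq_true] at h
      obtain ⟨⟨hJ, hm⟩, hrest⟩ := h
      have hv : v ∈ MulAction.orbit (R.WJ {i | Jb i = true}) lam := by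
        cases hsp : seen[p]? with
        | none => rw [hsp] at hm; simp at hm
        | some u =>
          rw [hsp] at hm
          have hvu : v = rfun R.C i u := of_decide_eq_true hm
          have hu := hseen u (List.mem_of_getElem? hsp)
          obtain ⟨w, hw⟩ := hu
          refine ⟨⟨R.rL i, R.rL_mem_WJ hJ⟩ * w, ?_⟩
          show (⟨R.rL i, R.rL_mem_WJ hJ⟩ * w : R.WJ {i | Jb i = true}) • lam = v
          rw [mul_smul]
          have hw' : w • lam = u := hw
          rw [hw', hvu]
          rfl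
      intro v' hv'
      rcases List.mem_cons.1 hv' with h' | h'
      · rw [h']
        exact hv
      · apply ih (seen ++ [v]) cs hrest _ v' h'
        intro u hu
        rcases List.mem_append.1 hu with h'' | h''
        · exact hseen u h''
        · rw [List.mem_singleton] at h''
          rw [h'']
          exact hv

/-- the orbit of `lam` from a certificate -/
theorem card_orbit_of_cert (Jb : Fin n → Bool) (lam : Fin n → ℤ) (O : List (Fin n → ℤ))
    (cs : List (ℕ × Fin n)) (hnodup : O.Nodup)
    (hclosed : ∀ i, Jb i = true → ∀ v ∈ lam :: O, rfun R.C i v ∈ lam :: O)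
    (hlam : lam ∉ O)
    (hreach : reachChk R.C Jb [lam] O cs = true) :
    Nat.card (MulAction.orbit (R.WJ {i | Jb i = true}) lam) = O.length + 1 := by
  have hsub : ∀ w : GLn n, w ∈ R.WJ {i | Jb i = true} →
      ∀ v ∈ lam :: O, w v ∈ lam :: O ∧ w⁻¹ v ∈ lam :: O := by
    intro w hw
    unfold WJ at hw
    induction hw using Subgroup.closure_induction with
    | mem x hx =>
      obtain ⟨i, hi, rfl⟩ := hx
      intro v hv
      rw [R.rL_inv]
      exact ⟨hclosed i hi v hv, hclosed i hi v hv⟩
    | one =>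
      intro v hv
      rw [inv_one]
      exact ⟨hv, hv⟩
    | mul x y _ _ hx hy =>
      intro v hv
      rw [mul_inv_rev, LinearEquiv.mul_apply, LinearEquiv.mul_apply]
      exact ⟨(hx _ (hy v hv).1).1, (hy _ (hx v hv).2).2⟩
    | inv x _ hx =>
      intro v hv
      rw [inv_inv]
      exact ⟨(hx v hv).2, (hx v hv).1⟩
  have horb : MulAction.orbit (R.WJ {i | Jb i = true}) lam = {v | v ∈ lam :: O} := by
    ext v
    constructor
    · rintro ⟨w, rfl⟩
      exact (hsub w w.2 lam List.mem_cons_self).1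
    · intro hv
      rcases List.mem_cons.1 hv with h | h
      · rw [h]
        exact MulAction.mem_orbit_self lam
      · exact R.mem_orbit_of_reachChk Jb lam O [lam] cs hreach
          (by
            intro u hu
            rw [List.mem_singleton] at hu
            rw [hu]
            exact MulAction.mem_orbit_self lam) v h
  rw [horb]
  have hnd : (lam :: O).Nodup := List.nodup_cons.2 ⟨hlam, hnodup⟩
  have : {v | v ∈ lam :: O} = ((lam :: O).toFinset : Set (Fin n → ℤ)) := by
    ext v
    simp
  rw [this, Nat.card_coe_set_eq, Set.ncard_coe_finset, List.toFinset_card_of_nodup hnd,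
    List.length_cons]

theorem card_WJ_empty (Jb : Fin n → Bool) (h : ∀ i, Jb i = false) :
    Nat.card (R.WJ {i | Jb i = true}) = 1 := by
  have : {i | Jb i = true} = (∅ : Set (Fin n)) := by
    ext i
    simp [h i]
  rw [this]
  unfold WJ
  rw [Set.image_empty, Subgroup.closure_empty]
  exact Subgroup.card_bot

/-- one step of the order computation from a certificate -/
theorem card_WJ_cert (Jb Jb' : Fin n → Bool) (lam : Fin n → ℤ) (O : List (Fin n → ℤ))
    (cs : List (ℕ × Fin n)) (hnodup : O.Nodup)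
    (hdom : ∀ i, Jb i = true → 0 ≤ rcor R.C i lam)
    (hJ' : ∀ i, Jb' i = (Jb i && decide (rcor R.C i lam = 0)))
    (hclosed : ∀ i, Jb i = true → ∀ v ∈ lam :: O, rfun R.C i v ∈ lam :: O)
    (hlam : lam ∉ O)
    (hreach : reachChk R.C Jb [lam] O cs = true) :
    Nat.card (R.WJ {i | Jb i = true}) = (O.length + 1) * Nat.card (R.WJ {i | Jb' i = true}) := by
  rw [← R.card_orbit_of_cert Jb lam O cs hnodup hclosed hlam hreach]
  apply R.card_WJ_step
  · intro i hi
    exact hdom i hi
  · intro i
    show Jb' i = true ↔ Jb i = true ∧ rcor R.C i lam = 0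
    rw [hJ' i, Bool.and_eq_true, decide_eq_true_iff]

end RootCert

end Cfsg.Agent.Lib.helper3
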