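import Mathlib
import Cfsg.Agent.Lib.helper3.CoxRootCard

set_option autoImplicit false

namespace Cfsg.Agent.Lib.helper3

def e8C : Fin 8 → Fin 8 → ℤ :=
  ![![2, 0, -1, 0, 0, 0, 0, 0],
    ![0, 2, 0, -1, 0, 0, 0, 0],
    ![-1, 0, 2, -1, 0, 0, 0, 0],
    ![0, -1, -1, 2, -1, 0, 0, 0],
    ![0, 0, 0, -1, 2, -1, 0, 0],
    ![0, 0, 0, 0, -1, 2, -1, 0],
    ![0, 0, 0, 0, 0, -1, 2, -1],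
    ![0, 0, 0, 0, 0, 0, -1, 2]]

def v8 (a b c d e f g h : ℤ) : Fin 8 → ℤ := ![a, b, c, d, e, f, g, h]

def e8L : List (Fin 8 → ℤ) :=
  [(v8 0 0 0 0 0 0 0 1),
    (v8 0 0 0 0 0 0 1 0),
    (v8 0 0 0 0 0 1 0 0),
    (v8 0 0 0 0 1 0 0 0),
    (v8 0 0 0 1 0 0 0 0),
    (v8 0 0 1 0 0 0 0 0),
    (v8 0 1 0 0 0 0 0 0),
    (v8 1 0 0 0 0 0 0 0),
    (v8 0 0 0 0 0 0 1 1),
    (v8 0 0 0 0 0 1 1 0),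
    (v8 0 0 0 0 1 1 0 0),
    (v8 0 0 0 1 1 0 0 0),
    (v8 0 0 1 1 0 0 0 0),
    (v8 0 1 0 1 0 0 0 0),
    (v8 1 0 1 0 0 0 0 0),
    (v8 0 0 0 0 0 1 1 1),
    (v8 0 0 0 0 1 1 1 0),
    (v8 0 0 0 1 1 1 0 0),
    (v8 0 0 1 1 1 0 0 0),
    (v8 0 1 0 1 1 0 0 0),
    (v8 0 1 1 1 0 0 0 0),
    (v8 1 0 1 1 0 0 0 0),
    (v8 0 0 0 0 1 1 1 1),
    (v8 0 0 0 1 1 1 1 0),
    (v8 0 0 1 1 1 1 0 0),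
    (v8 0 1 0 1 1 1 0 0),
    (v8 0 1 1 1 1 0 0 0),
    (v8 1 0 1 1 1 0 0 0),
    (v8 1 1 1 1 0 0 0 0),
    (v8 0 0 0 1 1 1 1 1),
    (v8 0 0 1 1 1 1 1 0),
    (v8 0 1 0 1 1 1 1 0),
    (v8 0 1 1 1 1 1 0 0),
    (v8 0 1 1 2 1 0 0 0),
    (v8 1 0 1 1 1 1 0 0),
    (v8 1 1 1 1 1 0 0 0),
    (v8 0 0 1 1 1 1 1 1),
    (v8 0 1 0 1 1 1 1 1),
    (v8 0 1 1 1 1 1 1 0),
    (v8 0 1 1 2 1 1 0 0),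
    (v8 1 0 1 1 1 1 1 0),
    (v8 1 1 1 1 1 1 0 0),
    (v8 1 1 1 2 1 0 0 0),
    (v8 0 1 1 1 1 1 1 1),
    (v8 0 1 1 2 1 1 1 0),
    (v8 0 1 1 2 2 1 0 0),
    (v8 1 0 1 1 1 1 1 1),
    (v8 1 1 1 1 1 1 1 0),
    (v8 1 1 1 2 1 1 0 0),
    (v8 1 1 2 2 1 0 0 0),
    (v8 0 1 1 2 1 1 1 1),
    (v8 0 1 1 2 2 1 1 0),
    (v8 1 1 1 1 1 1 1 1),
    (v8 1 1 1 2 1 1 1 0),
    (v8 1 1 1 2 2 1 0 0),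
    (v8 1 1 2 2 1 1 0 0),
    (v8 0 1 1 2 2 1 1 1),
    (v8 0 1 1 2 2 2 1 0),
    (v8 1 1 1 2 1 1 1 1),
    (v8 1 1 1 2 2 1 1 0),
    (v8 1 1 2 2 1 1 1 0),
    (v8 1 1 2 2 2 1 0 0),
    (v8 0 1 1 2 2 2 1 1),
    (v8 1 1 1 2 2 1 1 1),
    (v8 1 1 1 2 2 2 1 0),
    (v8 1 1 2 2 1 1 1 1),
    (v8 1 1 2 2 2 1 1 0),
    (v8 1 1 2 3 2 1 0 0),
    (v8 0 1 1 2 2 2 2 1),
    (v8 1 1 1 2 2 2 1 1),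
    (v8 1 1 2 2 2 1 1 1),
    (v8 1 1 2 2 2 2 1 0),
    (v8 1 1 2 3 2 1 1 0),
    (v8 1 2 2 3 2 1 0 0),
    (v8 1 1 1 2 2 2 2 1),
    (v8 1 1 2 2 2 2 1 1),
    (v8 1 1 2 3 2 1 1 1),
    (v8 1 1 2 3 2 2 1 0),
    (v8 1 2 2 3 2 1 1 0),
    (v8 1 1 2 2 2 2 2 1),
    (v8 1 1 2 3 2 2 1 1),
    (v8 1 1 2 3 3 2 1 0),
    (v8 1 2 2 3 2 1 1 1),
    (v8 1 2 2 3 2 2 1 0),
    (v8 1 1 2 3 2 2 2 1),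
    (v8 1 1 2 3 3 2 1 1),
    (v8 1 2 2 3 2 2 1 1),
    (v8 1 2 2 3 3 2 1 0),
    (v8 1 1 2 3 3 2 2 1),
    (v8 1 2 2 3 2 2 2 1),
    (v8 1 2 2 3 3 2 1 1),
    (v8 1 2 2 4 3 2 1 0),
    (v8 1 1 2 3 3 3 2 1),
    (v8 1 2 2 3 3 2 2 1),
    (v8 1 2 2 4 3 2 1 1),
    (v8 1 2 3 4 3 2 1 0),
    (v8 1 2 2 3 3 3 2 1),
    (v8 1 2 2 4 3 2 2 1),
    (v8 1 2 3 4 3 2 1 1),
    (v8 2 2 3 4 3 2 1 0),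
    (v8 1 2 2 4 3 3 2 1),
    (v8 1 2 3 4 3 2 2 1),
    (v8 2 2 3 4 3 2 1 1),
    (v8 1 2 2 4 4 3 2 1),
    (v8 1 2 3 4 3 3 2 1),
    (v8 2 2 3 4 3 2 2 1),
    (v8 1 2 3 4 4 3 2 1),
    (v8 2 2 3 4 3 3 2 1),
    (v8 1 2 3 5 4 3 2 1),
    (v8 2 2 3 4 4 3 2 1),
    (v8 1 3 3 5 4 3 2 1),
    (v8 2 2 3 5 4 3 2 1),
    (v8 2 2 4 5 4 3 2 1),
    (v8 2 3 3 5 4 3 2 1),
    (v8 2 3 4 5 4 3 2 1),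
    (v8 2 3 4 6 4 3 2 1),
    (v8 2 3 4 6 5 3 2 1),
    (v8 2 3 4 6 5 4 2 1),
    (v8 2 3 4 6 5 4 3 1),
    (v8 2 3 4 6 5 4 3 2)]

set_option maxRecDepth 1000000 in
theorem e8_hL_refl : ∀ i, ∀ β ∈ e8L, β = Pi.single i 1 ∨ rfun e8C i β ∈ e8L := by
  decide +kernel

set_option maxRecDepth 1000000 in
def e8Cert : RootCert 8 where
  C := e8C
  sym := e8C
  L := e8L
  hC2 := by decide +kernel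
  hsymm := by decide +kernel
  hpos := by decide +kernel
  hrel := by decide +kernel
  hL_nonneg := by decide +kernel
  hL_ne := by decide +kernel
  hL_simple := by decide +kernel
  hL_refl := e8_hL_refl

end Cfsg.Agent.Lib.helper3
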