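import Mathlib
import Cfsg.Agent.Lib.helper3.CoxRootCard

set_option autoImplicit false

namespace Cfsg.Agent.Lib.helper3

/-- the matrix of a linear automorphism of `ℤⁿ` -/
noncomputable def toMat (n : ℕ) : RootCert.GLn n →* Matrix (Fin n) (Fin n) ℤ where
  toFun f := LinearMap.toMatrix' (f : (Fin n → ℤ) →ₗ[ℤ] (Fin n → ℤ))
  map_one' := LinearMap.toMatrix'_id
  map_mul' f g := by
    rw [LinearEquiv.coe_toLinearMap_mul]
    exact LinearMap.toMatrix'_mul _ _

theorem toMat_apply (n : ℕ) (f : RootCert.GLn n) (k j : Fin n) : toMat n f k j = f (Pi.single j 1) k := by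
  show LinearMap.toMatrix' (f : (Fin n → ℤ) →ₗ[ℤ] (Fin n → ℤ)) k j = _
  rw [LinearMap.toMatrix'_apply]
  rfl

theorem toMat_injective (n : ℕ) : Function.Injective (toMat n) := by
  intro f g h
  apply LinearEquiv.toLinearMap_injective
  exact LinearMap.toMatrix'.injective h

namespace RootCert

variable {n : ℕ} (R : RootCert n)

/-- the matrix of a simple reflection -/
def refMat (i : Fin n) : Matrix (Fin n) (Fin n) ℤ :=
  Matrix.of fun k j => (if k = j then 1 else 0) - (if k = i then R.C j i else 0)

theorem toMat_rL (i : Fin n) : toMat n (R.rL i) = R.refMat i := by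
  ext k j
  rw [toMat_apply, rL_apply, rfun_eq, rcor_single]
  unfold refMat
  rw [Matrix.of_apply, Pi.sub_apply, Pi.smul_apply, Pi.single_apply, Pi.single_apply, smul_eq_mul]
  by_cases h : k = i
  · rw [if_pos h, if_pos h, mul_one]
  · rw [if_neg h, if_neg h, mul_zero]

theorem toMat_list_prod {l : ℕ} (e : Fin l → Fin n) (ω : List (Fin l)) :
    toMat n ((ω.map (fun b => R.rL (e b))).prod) = (ω.map (fun b => R.refMat (e b))).prod := by
  rw [map_list_prod, List.map_map]
  congr 1
  apply List.map_congr_left
  intro b _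
  exact R.toMat_rL (e b)

/-- the order of a product of generators of the presented group from a matrix computation -/
theorem orderOf_wordProd {l : ℕ} (e : Fin l → Fin n) (he : Function.Injective e)
    (M : CoxeterMatrix (Fin l))
    (hM : ∀ b b', b ≠ b' → (R.C (e b) (e b'), R.C (e b') (e b), M b b') ∈
      ([(0, 0, 2), (-1, -1, 3), (-1, -2, 4), (-2, -1, 4), (-1, -3, 6), (-3, -1, 6)] :
        List (ℤ × ℤ × ℕ))) (ω : List (Fin l)) :
    orderOf ((ω.map M.simple).prod) = orderOf ((ω.map (fun b => R.refMat (e b))).prod) := by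
  obtain ⟨cs, hcs⟩ := R.coxeterSystem e he M hM
  have h1 : cs.mulEquiv ((ω.map cs.simple).prod) = (ω.map M.simple).prod := by
    rw [map_list_prod, List.map_map]
    congr 1
    apply List.map_congr_left
    intro b _
    exact cs.mulEquiv.apply_symm_apply (M.simple b)
  rw [← h1, MulEquiv.orderOf_eq, ← Subgroup.orderOf_coe, ← R.toMat_list_prod e ω,
    orderOf_injective (toMat n) (toMat_injective n)]
  congr 1
  rw [← Subgroup.coe_subtype, map_list_prod, List.map_map]
  congr 1
  apply List.map_congr_left
  intro b _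
  exact hcs b

end RootCert

end Cfsg.Agent.Lib.helper3
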