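import Mathlib
import Cfsg.Agent.Lib.helper3.CoxMat
import Cfsg.Agent.Lib.helper3.CoxE8
import Cfsg.Prelude.Def_ChevStructure

set_option autoImplicit false

namespace Cfsg.Agent.Lib.helper3

def m8 (r0 r1 r2 r3 r4 r5 r6 r7 : Fin 8 → ℤ) : Matrix (Fin 8) (Fin 8) ℤ := Matrix.of ![r0, r1, r2, r3, r4, r5, r6, r7]

def d4coxe : Fin 4 → Fin 8 := ![1, 3, 2, 4]

theorem d4coxe_inj : Function.Injective d4coxe := by decide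

def d4coxCm : Matrix (Fin 8) (Fin 8) ℤ :=
  (m8 (v8 1 0 0 0 0 0 0 0) (v8 1 0 (-1) 1 (-1) 1 0 0) (v8 1 0 (-1) 1 0 0 0 0) (v8 1 1 (-1) 1 (-1) 1 0 0) (v8 0 0 0 1 (-1) 1 0 0) (v8 0 0 0 0 0 1 0 0) (v8 0 0 0 0 0 0 1 0) (v8 0 0 0 0 0 0 0 1))

set_option maxRecDepth 1000000 in
theorem d4cox_prod : ((List.finRange 4).map (fun b => e8Cert.refMat (d4coxe b))).prod = d4coxCm := by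
  have hfr : List.finRange 4 = [0, 1, 2, 3] := by decide
  rw [hfr]
  simp only [List.map_cons, List.map_nil, List.prod_cons, List.prod_nil, mul_one]
  rw [show e8Cert.refMat (d4coxe 2) * e8Cert.refMat (d4coxe 3) = (m8 (v8 1 0 0 0 0 0 0 0) (v8 0 1 0 0 0 0 0 0) (v8 1 0 (-1) 1 0 0 0 0) (v8 0 0 0 1 0 0 0 0) (v8 0 0 0 1 (-1) 1 0 0) (v8 0 0 0 0 0 1 0 0) (v8 0 0 0 0 0 0 1 0) (v8 0 0 0 0 0 0 0 1)) from by decide +kernel]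
  rw [show e8Cert.refMat (d4coxe 1) * (m8 (v8 1 0 0 0 0 0 0 0) (v8 0 1 0 0 0 0 0 0) (v8 1 0 (-1) 1 0 0 0 0) (v8 0 0 0 1 0 0 0 0) (v8 0 0 0 1 (-1) 1 0 0) (v8 0 0 0 0 0 1 0 0) (v8 0 0 0 0 0 0 1 0) (v8 0 0 0 0 0 0 0 1)) = (m8 (v8 1 0 0 0 0 0 0 0) (v8 0 1 0 0 0 0 0 0) (v8 1 0 (-1) 1 0 0 0 0) (v8 1 1 (-1) 1 (-1) 1 0 0) (v8 0 0 0 1 (-1) 1 0 0) (v8 0 0 0 0 0 1 0 0) (v8 0 0 0 0 0 0 1 0) (v8 0 0 0 0 0 0 0 1)) from by decide +kernel]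
  rw [show e8Cert.refMat (d4coxe 0) * (m8 (v8 1 0 0 0 0 0 0 0) (v8 0 1 0 0 0 0 0 0) (v8 1 0 (-1) 1 0 0 0 0) (v8 1 1 (-1) 1 (-1) 1 0 0) (v8 0 0 0 1 (-1) 1 0 0) (v8 0 0 0 0 0 1 0 0) (v8 0 0 0 0 0 0 1 0) (v8 0 0 0 0 0 0 0 1)) = d4coxCm from by decide +kernel]

set_option maxRecDepth 1000000 in
theorem d4cox_order : orderOf d4coxCm = 6 := by
  have p1 : d4coxCm ^ 1 = d4coxCm := pow_one _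
  have p2 : d4coxCm ^ 2 = (m8 (v8 1 0 0 0 0 0 0 0) (v8 1 1 0 (-1) 0 1 0 0) (v8 1 1 0 0 (-1) 1 0 0) (v8 2 1 (-1) 0 (-1) 2 0 0) (v8 1 1 (-1) 0 0 1 0 0) (v8 0 0 0 0 0 1 0 0) (v8 0 0 0 0 0 0 1 0) (v8 0 0 0 0 0 0 0 1)) := by
    show d4coxCm ^ (1 + 1) = (m8 (v8 1 0 0 0 0 0 0 0) (v8 1 1 0 (-1) 0 1 0 0) (v8 1 1 0 0 (-1) 1 0 0) (v8 2 1 (-1) 0 (-1) 2 0 0) (v8 1 1 (-1) 0 0 1 0 0) (v8 0 0 0 0 0 1 0 0) (v8 0 0 0 0 0 0 1 0) (v8 0 0 0 0 0 0 0 1))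
    rw [pow_add, p1]
    decide +kernel
  have p3 : d4coxCm ^ 3 = (m8 (v8 1 0 0 0 0 0 0 0) (v8 1 (-1) 0 0 0 1 0 0) (v8 2 0 (-1) 0 0 1 0 0) (v8 2 0 0 (-1) 0 2 0 0) (v8 1 0 0 0 (-1) 2 0 0) (v8 0 0 0 0 0 1 0 0) (v8 0 0 0 0 0 0 1 0) (v8 0 0 0 0 0 0 0 1)) := by
    show d4coxCm ^ (2 + 1) = (m8 (v8 1 0 0 0 0 0 0 0) (v8 1 (-1) 0 0 0 1 0 0) (v8 2 0 (-1) 0 0 1 0 0) (v8 2 0 0 (-1) 0 2 0 0) (v8 1 0 0 0 (-1) 2 0 0) (v8 0 0 0 0 0 1 0 0) (v8 0 0 0 0 0 0 1 0) (v8 0 0 0 0 0 0 0 1))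
    rw [pow_add, p2, p1]
    decide +kernel
  have p6 : d4coxCm ^ 6 = 1 := by
    show d4coxCm ^ (3 + 3) = 1
    rw [pow_add, p3]
    decide +kernel
  apply orderOf_eq_of_pow_and_pow_div_prime (by norm_num) p6
  intro p hp hd
  have hle : p ≤ 6 := Nat.le_of_dvd (by norm_num) hd
  interval_cases p <;> first | omega | (exfalso; revert hp; decide) | skip
  · show d4coxCm ^ 3 ≠ 1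
    rw [p3]
    decide +kernel
  · show d4coxCm ^ 2 ≠ 1
    rw [p2]
    decide +kernel

theorem d4cox_coxeter_order : orderOf (((List.finRange 4).map (Cfsg.Lie.coxeterD4).simple).prod) = 6 := by
  rw [e8Cert.orderOf_wordProd d4coxe d4coxe_inj (Cfsg.Lie.coxeterD4) (by decide) (List.finRange 4), d4cox_prod]
  exact d4cox_order

def e6coxe : Fin 6 → Fin 8 := ![0, 1, 2, 3, 4, 5]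

theorem e6coxe_inj : Function.Injective e6coxe := by decide

def e6coxCm : Matrix (Fin 8) (Fin 8) ℤ :=
  (m8 (v8 0 1 0 0 0 (-1) 1 0) (v8 0 0 1 0 0 (-1) 1 0) (v8 1 1 0 0 0 (-1) 1 0) (v8 0 1 1 0 0 (-1) 1 0) (v8 0 0 0 1 0 (-1) 1 0) (v8 0 0 0 0 1 (-1) 1 0) (v8 0 0 0 0 0 0 1 0) (v8 0 0 0 0 0 0 0 1))

set_option maxRecDepth 1000000 in
theorem e6cox_prod : ((List.finRange 6).map (fun b => e8Cert.refMat (e6coxe b))).prod = e6coxCm := by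
  have hfr : List.finRange 6 = [0, 1, 2, 3, 4, 5] := by decide
  rw [hfr]
  simp only [List.map_cons, List.map_nil, List.prod_cons, List.prod_nil, mul_one]
  rw [show e8Cert.refMat (e6coxe 4) * e8Cert.refMat (e6coxe 5) = (m8 (v8 1 0 0 0 0 0 0 0) (v8 0 1 0 0 0 0 0 0) (v8 0 0 1 0 0 0 0 0) (v8 0 0 0 1 0 0 0 0) (v8 0 0 0 1 0 (-1) 1 0) (v8 0 0 0 0 1 (-1) 1 0) (v8 0 0 0 0 0 0 1 0) (v8 0 0 0 0 0 0 0 1)) from by decide +kernel]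
  rw [show e8Cert.refMat (e6coxe 3) * (m8 (v8 1 0 0 0 0 0 0 0) (v8 0 1 0 0 0 0 0 0) (v8 0 0 1 0 0 0 0 0) (v8 0 0 0 1 0 0 0 0) (v8 0 0 0 1 0 (-1) 1 0) (v8 0 0 0 0 1 (-1) 1 0) (v8 0 0 0 0 0 0 1 0) (v8 0 0 0 0 0 0 0 1)) = (m8 (v8 1 0 0 0 0 0 0 0) (v8 0 1 0 0 0 0 0 0) (v8 0 0 1 0 0 0 0 0) (v8 0 1 1 0 0 (-1) 1 0) (v8 0 0 0 1 0 (-1) 1 0) (v8 0 0 0 0 1 (-1) 1 0) (v8 0 0 0 0 0 0 1 0) (v8 0 0 0 0 0 0 0 1)) from by decide +kernel]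
  rw [show e8Cert.refMat (e6coxe 2) * (m8 (v8 1 0 0 0 0 0 0 0) (v8 0 1 0 0 0 0 0 0) (v8 0 0 1 0 0 0 0 0) (v8 0 1 1 0 0 (-1) 1 0) (v8 0 0 0 1 0 (-1) 1 0) (v8 0 0 0 0 1 (-1) 1 0) (v8 0 0 0 0 0 0 1 0) (v8 0 0 0 0 0 0 0 1)) = (m8 (v8 1 0 0 0 0 0 0 0) (v8 0 1 0 0 0 0 0 0) (v8 1 1 0 0 0 (-1) 1 0) (v8 0 1 1 0 0 (-1) 1 0) (v8 0 0 0 1 0 (-1) 1 0) (v8 0 0 0 0 1 (-1) 1 0) (v8 0 0 0 0 0 0 1 0) (v8 0 0 0 0 0 0 0 1)) from by decide +kernel]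
  rw [show e8Cert.refMat (e6coxe 1) * (m8 (v8 1 0 0 0 0 0 0 0) (v8 0 1 0 0 0 0 0 0) (v8 1 1 0 0 0 (-1) 1 0) (v8 0 1 1 0 0 (-1) 1 0) (v8 0 0 0 1 0 (-1) 1 0) (v8 0 0 0 0 1 (-1) 1 0) (v8 0 0 0 0 0 0 1 0) (v8 0 0 0 0 0 0 0 1)) = (m8 (v8 1 0 0 0 0 0 0 0) (v8 0 0 1 0 0 (-1) 1 0) (v8 1 1 0 0 0 (-1) 1 0) (v8 0 1 1 0 0 (-1) 1 0) (v8 0 0 0 1 0 (-1) 1 0) (v8 0 0 0 0 1 (-1) 1 0) (v8 0 0 0 0 0 0 1 0) (v8 0 0 0 0 0 0 0 1)) from by decide +kernel]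
  rw [show e8Cert.refMat (e6coxe 0) * (m8 (v8 1 0 0 0 0 0 0 0) (v8 0 0 1 0 0 (-1) 1 0) (v8 1 1 0 0 0 (-1) 1 0) (v8 0 1 1 0 0 (-1) 1 0) (v8 0 0 0 1 0 (-1) 1 0) (v8 0 0 0 0 1 (-1) 1 0) (v8 0 0 0 0 0 0 1 0) (v8 0 0 0 0 0 0 0 1)) = e6coxCm from by decide +kernel]

set_option maxRecDepth 1000000 in
theorem e6cox_order : orderOf e6coxCm = 12 := by
  have p1 : e6coxCm ^ 1 = e6coxCm := pow_one _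
  have p2 : e6coxCm ^ 2 = (m8 (v8 0 0 1 0 (-1) 0 1 0) (v8 1 1 0 0 (-1) 0 1 0) (v8 0 1 1 0 (-1) (-1) 2 0) (v8 1 1 1 0 (-1) (-1) 2 0) (v8 0 1 1 0 (-1) 0 1 0) (v8 0 0 0 1 (-1) 0 1 0) (v8 0 0 0 0 0 0 1 0) (v8 0 0 0 0 0 0 0 1)) := by
    show e6coxCm ^ (1 + 1) = (m8 (v8 0 0 1 0 (-1) 0 1 0) (v8 1 1 0 0 (-1) 0 1 0) (v8 0 1 1 0 (-1) (-1) 2 0) (v8 1 1 1 0 (-1) (-1) 2 0) (v8 0 1 1 0 (-1) 0 1 0) (v8 0 0 0 1 (-1) 0 1 0) (v8 0 0 0 0 0 0 1 0) (v8 0 0 0 0 0 0 0 1))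
    rw [pow_add, p1]
    decide +kernel
  have p4 : e6coxCm ^ 4 = (m8 (v8 0 0 0 0 0 (-1) 2 0) (v8 1 0 0 0 (-1) 0 2 0) (v8 1 1 0 (-1) 0 (-1) 3 0) (v8 1 1 1 (-1) (-1) (-1) 4 0) (v8 1 1 0 0 (-1) (-1) 3 0) (v8 1 0 0 0 0 (-1) 2 0) (v8 0 0 0 0 0 0 1 0) (v8 0 0 0 0 0 0 0 1)) := by
    show e6coxCm ^ (2 + 2) = (m8 (v8 0 0 0 0 0 (-1) 2 0) (v8 1 0 0 0 (-1) 0 2 0) (v8 1 1 0 (-1) 0 (-1) 3 0) (v8 1 1 1 (-1) (-1) (-1) 4 0) (v8 1 1 0 0 (-1) (-1) 3 0) (v8 1 0 0 0 0 (-1) 2 0) (v8 0 0 0 0 0 0 1 0) (v8 0 0 0 0 0 0 0 1))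
    rw [pow_add, p2]
    decide +kernel
  have p3 : e6coxCm ^ 3 = (m8 (v8 1 1 0 (-1) 0 0 1 0) (v8 0 1 1 (-1) 0 (-1) 2 0) (v8 1 1 1 (-1) (-1) 0 2 0) (v8 1 2 1 (-1) (-1) (-1) 3 0) (v8 1 1 1 (-1) 0 (-1) 2 0) (v8 0 1 1 (-1) 0 0 1 0) (v8 0 0 0 0 0 0 1 0) (v8 0 0 0 0 0 0 0 1)) := by
    show e6coxCm ^ (2 + 1) = (m8 (v8 1 1 0 (-1) 0 0 1 0) (v8 0 1 1 (-1) 0 (-1) 2 0) (v8 1 1 1 (-1) (-1) 0 2 0) (v8 1 2 1 (-1) (-1) (-1) 3 0) (v8 1 1 1 (-1) 0 (-1) 2 0) (v8 0 1 1 (-1) 0 0 1 0) (v8 0 0 0 0 0 0 1 0) (v8 0 0 0 0 0 0 0 1))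
    rw [pow_add, p2, p1]
    decide +kernel
  have p6 : e6coxCm ^ 6 = (m8 (v8 0 0 0 (-1) 1 0 1 0) (v8 0 (-1) 0 0 0 0 2 0) (v8 0 0 0 (-1) 0 1 2 0) (v8 0 0 0 (-1) 0 0 4 0) (v8 1 0 0 (-1) 0 0 3 0) (v8 0 0 1 (-1) 0 0 2 0) (v8 0 0 0 0 0 0 1 0) (v8 0 0 0 0 0 0 0 1)) := by
    show e6coxCm ^ (3 + 3) = (m8 (v8 0 0 0 (-1) 1 0 1 0) (v8 0 (-1) 0 0 0 0 2 0) (v8 0 0 0 (-1) 0 1 2 0) (v8 0 0 0 (-1) 0 0 4 0) (v8 1 0 0 (-1) 0 0 3 0) (v8 0 0 1 (-1) 0 0 2 0) (v8 0 0 0 0 0 0 1 0) (v8 0 0 0 0 0 0 0 1))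
    rw [pow_add, p3]
    decide +kernel
  have p12 : e6coxCm ^ 12 = 1 := by
    show e6coxCm ^ (6 + 6) = 1
    rw [pow_add, p6]
    decide +kernel
  apply orderOf_eq_of_pow_and_pow_div_prime (by norm_num) p12
  intro p hp hd
  have hle : p ≤ 12 := Nat.le_of_dvd (by norm_num) hd
  interval_cases p <;> first | omega | (exfalso; revert hp; decide) | skip
  · show e6coxCm ^ 6 ≠ 1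
    rw [p6]
    decide +kernel
  · show e6coxCm ^ 4 ≠ 1
    rw [p4]
    decide +kernel

theorem e6cox_coxeter_order : orderOf (((List.finRange 6).map (CoxeterMatrix.E₆).simple).prod) = 12 := by
  rw [e8Cert.orderOf_wordProd e6coxe e6coxe_inj (CoxeterMatrix.E₆) (by decide) (List.finRange 6), e6cox_prod]
  exact e6cox_order

def e7coxe : Fin 7 → Fin 8 := ![0, 1, 2, 3, 4, 5, 6]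

theorem e7coxe_inj : Function.Injective e7coxe := by decide

def e7coxCm : Matrix (Fin 8) (Fin 8) ℤ :=
  (m8 (v8 0 1 0 0 0 0 (-1) 1) (v8 0 0 1 0 0 0 (-1) 1) (v8 1 1 0 0 0 0 (-1) 1) (v8 0 1 1 0 0 0 (-1) 1) (v8 0 0 0 1 0 0 (-1) 1) (v8 0 0 0 0 1 0 (-1) 1) (v8 0 0 0 0 0 1 (-1) 1) (v8 0 0 0 0 0 0 0 1))

set_option maxRecDepth 1000000 in
theorem e7cox_prod : ((List.finRange 7).map (fun b => e8Cert.refMat (e7coxe b))).prod = e7coxCm := by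
  have hfr : List.finRange 7 = [0, 1, 2, 3, 4, 5, 6] := by decide
  rw [hfr]
  simp only [List.map_cons, List.map_nil, List.prod_cons, List.prod_nil, mul_one]
  rw [show e8Cert.refMat (e7coxe 5) * e8Cert.refMat (e7coxe 6) = (m8 (v8 1 0 0 0 0 0 0 0) (v8 0 1 0 0 0 0 0 0) (v8 0 0 1 0 0 0 0 0) (v8 0 0 0 1 0 0 0 0) (v8 0 0 0 0 1 0 0 0) (v8 0 0 0 0 1 0 (-1) 1) (v8 0 0 0 0 0 1 (-1) 1) (v8 0 0 0 0 0 0 0 1)) from by decide +kernel]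
  rw [show e8Cert.refMat (e7coxe 4) * (m8 (v8 1 0 0 0 0 0 0 0) (v8 0 1 0 0 0 0 0 0) (v8 0 0 1 0 0 0 0 0) (v8 0 0 0 1 0 0 0 0) (v8 0 0 0 0 1 0 0 0) (v8 0 0 0 0 1 0 (-1) 1) (v8 0 0 0 0 0 1 (-1) 1) (v8 0 0 0 0 0 0 0 1)) = (m8 (v8 1 0 0 0 0 0 0 0) (v8 0 1 0 0 0 0 0 0) (v8 0 0 1 0 0 0 0 0) (v8 0 0 0 1 0 0 0 0) (v8 0 0 0 1 0 0 (-1) 1) (v8 0 0 0 0 1 0 (-1) 1) (v8 0 0 0 0 0 1 (-1) 1) (v8 0 0 0 0 0 0 0 1)) from by decide +kernel]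
  rw [show e8Cert.refMat (e7coxe 3) * (m8 (v8 1 0 0 0 0 0 0 0) (v8 0 1 0 0 0 0 0 0) (v8 0 0 1 0 0 0 0 0) (v8 0 0 0 1 0 0 0 0) (v8 0 0 0 1 0 0 (-1) 1) (v8 0 0 0 0 1 0 (-1) 1) (v8 0 0 0 0 0 1 (-1) 1) (v8 0 0 0 0 0 0 0 1)) = (m8 (v8 1 0 0 0 0 0 0 0) (v8 0 1 0 0 0 0 0 0) (v8 0 0 1 0 0 0 0 0) (v8 0 1 1 0 0 0 (-1) 1) (v8 0 0 0 1 0 0 (-1) 1) (v8 0 0 0 0 1 0 (-1) 1) (v8 0 0 0 0 0 1 (-1) 1) (v8 0 0 0 0 0 0 0 1)) from by decide +kernel]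
  rw [show e8Cert.refMat (e7coxe 2) * (m8 (v8 1 0 0 0 0 0 0 0) (v8 0 1 0 0 0 0 0 0) (v8 0 0 1 0 0 0 0 0) (v8 0 1 1 0 0 0 (-1) 1) (v8 0 0 0 1 0 0 (-1) 1) (v8 0 0 0 0 1 0 (-1) 1) (v8 0 0 0 0 0 1 (-1) 1) (v8 0 0 0 0 0 0 0 1)) = (m8 (v8 1 0 0 0 0 0 0 0) (v8 0 1 0 0 0 0 0 0) (v8 1 1 0 0 0 0 (-1) 1) (v8 0 1 1 0 0 0 (-1) 1) (v8 0 0 0 1 0 0 (-1) 1) (v8 0 0 0 0 1 0 (-1) 1) (v8 0 0 0 0 0 1 (-1) 1) (v8 0 0 0 0 0 0 0 1)) from by decide +kernel]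
  rw [show e8Cert.refMat (e7coxe 1) * (m8 (v8 1 0 0 0 0 0 0 0) (v8 0 1 0 0 0 0 0 0) (v8 1 1 0 0 0 0 (-1) 1) (v8 0 1 1 0 0 0 (-1) 1) (v8 0 0 0 1 0 0 (-1) 1) (v8 0 0 0 0 1 0 (-1) 1) (v8 0 0 0 0 0 1 (-1) 1) (v8 0 0 0 0 0 0 0 1)) = (m8 (v8 1 0 0 0 0 0 0 0) (v8 0 0 1 0 0 0 (-1) 1) (v8 1 1 0 0 0 0 (-1) 1) (v8 0 1 1 0 0 0 (-1) 1) (v8 0 0 0 1 0 0 (-1) 1) (v8 0 0 0 0 1 0 (-1) 1) (v8 0 0 0 0 0 1 (-1) 1) (v8 0 0 0 0 0 0 0 1)) from by decide +kernel]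
  rw [show e8Cert.refMat (e7coxe 0) * (m8 (v8 1 0 0 0 0 0 0 0) (v8 0 0 1 0 0 0 (-1) 1) (v8 1 1 0 0 0 0 (-1) 1) (v8 0 1 1 0 0 0 (-1) 1) (v8 0 0 0 1 0 0 (-1) 1) (v8 0 0 0 0 1 0 (-1) 1) (v8 0 0 0 0 0 1 (-1) 1) (v8 0 0 0 0 0 0 0 1)) = e7coxCm from by decide +kernel]

set_option maxRecDepth 1000000 in
theorem e7cox_order : orderOf e7coxCm = 18 := by
  have p1 : e7coxCm ^ 1 = e7coxCm := pow_one _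
  have p2 : e7coxCm ^ 2 = (m8 (v8 0 0 1 0 0 (-1) 0 1) (v8 1 1 0 0 0 (-1) 0 1) (v8 0 1 1 0 0 (-1) (-1) 2) (v8 1 1 1 0 0 (-1) (-1) 2) (v8 0 1 1 0 0 (-1) 0 1) (v8 0 0 0 1 0 (-1) 0 1) (v8 0 0 0 0 1 (-1) 0 1) (v8 0 0 0 0 0 0 0 1)) := by
    show e7coxCm ^ (1 + 1) = (m8 (v8 0 0 1 0 0 (-1) 0 1) (v8 1 1 0 0 0 (-1) 0 1) (v8 0 1 1 0 0 (-1) (-1) 2) (v8 1 1 1 0 0 (-1) (-1) 2) (v8 0 1 1 0 0 (-1) 0 1) (v8 0 0 0 1 0 (-1) 0 1) (v8 0 0 0 0 1 (-1) 0 1) (v8 0 0 0 0 0 0 0 1))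
    rw [pow_add, p1]
    decide +kernel
  have p3 : e7coxCm ^ 3 = (m8 (v8 1 1 0 0 (-1) 0 0 1) (v8 0 1 1 0 (-1) 0 (-1) 2) (v8 1 1 1 0 (-1) (-1) 0 2) (v8 1 2 1 0 (-1) (-1) (-1) 3) (v8 1 1 1 0 (-1) 0 (-1) 2) (v8 0 1 1 0 (-1) 0 0 1) (v8 0 0 0 1 (-1) 0 0 1) (v8 0 0 0 0 0 0 0 1)) := by
    show e7coxCm ^ (2 + 1) = (m8 (v8 1 1 0 0 (-1) 0 0 1) (v8 0 1 1 0 (-1) 0 (-1) 2) (v8 1 1 1 0 (-1) (-1) 0 2) (v8 1 2 1 0 (-1) (-1) (-1) 3) (v8 1 1 1 0 (-1) 0 (-1) 2) (v8 0 1 1 0 (-1) 0 0 1) (v8 0 0 0 1 (-1) 0 0 1) (v8 0 0 0 0 0 0 0 1))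
    rw [pow_add, p2, p1]
    decide +kernel
  have p6 : e7coxCm ^ 6 = (m8 (v8 0 1 0 0 (-1) 0 0 2) (v8 0 1 1 (-1) 0 (-1) 0 3) (v8 1 1 0 0 (-1) (-1) 0 4) (v8 1 2 1 (-1) (-1) (-1) (-1) 6) (v8 1 2 1 (-1) (-1) (-1) 0 4) (v8 0 1 1 0 (-1) (-1) 0 3) (v8 0 1 0 0 0 (-1) 0 2) (v8 0 0 0 0 0 0 0 1)) := by
    show e7coxCm ^ (3 + 3) = (m8 (v8 0 1 0 0 (-1) 0 0 2) (v8 0 1 1 (-1) 0 (-1) 0 3) (v8 1 1 0 0 (-1) (-1) 0 4) (v8 1 2 1 (-1) (-1) (-1) (-1) 6) (v8 1 2 1 (-1) (-1) (-1) 0 4) (v8 0 1 1 0 (-1) (-1) 0 3) (v8 0 1 0 0 0 (-1) 0 2) (v8 0 0 0 0 0 0 0 1))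
    rw [pow_add, p3]
    decide +kernel
  have p4 : e7coxCm ^ 4 = (m8 (v8 0 1 1 (-1) 0 0 (-1) 2) (v8 1 1 1 (-1) 0 (-1) 0 2) (v8 1 2 1 (-1) (-1) 0 (-1) 3) (v8 1 2 2 (-1) (-1) (-1) (-1) 4) (v8 1 2 1 (-1) 0 (-1) (-1) 3) (v8 1 1 1 (-1) 0 0 (-1) 2) (v8 0 1 1 (-1) 0 0 0 1) (v8 0 0 0 0 0 0 0 1)) := by
    show e7coxCm ^ (2 + 2) = (m8 (v8 0 1 1 (-1) 0 0 (-1) 2) (v8 1 1 1 (-1) 0 (-1) 0 2) (v8 1 2 1 (-1) (-1) 0 (-1) 3) (v8 1 2 2 (-1) (-1) (-1) (-1) 4) (v8 1 2 1 (-1) 0 (-1) (-1) 3) (v8 1 1 1 (-1) 0 0 (-1) 2) (v8 0 1 1 (-1) 0 0 0 1) (v8 0 0 0 0 0 0 0 1))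
    rw [pow_add, p2]
    decide +kernel
  have p8 : e7coxCm ^ 8 = (m8 (v8 1 0 (-1) 0 0 0 0 2) (v8 0 1 0 (-1) 0 0 0 3) (v8 1 0 0 (-1) 0 0 0 4) (v8 1 1 0 (-1) (-1) 0 0 6) (v8 1 1 0 (-1) 0 (-1) 0 5) (v8 1 1 0 (-1) 0 0 (-1) 4) (v8 1 1 0 (-1) 0 0 0 2) (v8 0 0 0 0 0 0 0 1)) := by
    show e7coxCm ^ (4 + 4) = (m8 (v8 1 0 (-1) 0 0 0 0 2) (v8 0 1 0 (-1) 0 0 0 3) (v8 1 0 0 (-1) 0 0 0 4) (v8 1 1 0 (-1) (-1) 0 0 6) (v8 1 1 0 (-1) 0 (-1) 0 5) (v8 1 1 0 (-1) 0 0 (-1) 4) (v8 1 1 0 (-1) 0 0 0 2) (v8 0 0 0 0 0 0 0 1))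
    rw [pow_add, p4]
    decide +kernel
  have p9 : e7coxCm ^ 9 = (m8 (v8 (-1) 0 0 0 0 0 0 2) (v8 0 (-1) 0 0 0 0 0 3) (v8 0 0 (-1) 0 0 0 0 4) (v8 0 0 0 (-1) 0 0 0 6) (v8 0 0 0 0 (-1) 0 0 5) (v8 0 0 0 0 0 (-1) 0 4) (v8 0 0 0 0 0 0 (-1) 3) (v8 0 0 0 0 0 0 0 1)) := by
    show e7coxCm ^ (8 + 1) = (m8 (v8 (-1) 0 0 0 0 0 0 2) (v8 0 (-1) 0 0 0 0 0 3) (v8 0 0 (-1) 0 0 0 0 4) (v8 0 0 0 (-1) 0 0 0 6) (v8 0 0 0 0 (-1) 0 0 5) (v8 0 0 0 0 0 (-1) 0 4) (v8 0 0 0 0 0 0 (-1) 3) (v8 0 0 0 0 0 0 0 1))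
    rw [pow_add, p8, p1]
    decide +kernel
  have p18 : e7coxCm ^ 18 = 1 := by
    show e7coxCm ^ (9 + 9) = 1
    rw [pow_add, p9]
    decide +kernel
  apply orderOf_eq_of_pow_and_pow_div_prime (by norm_num) p18
  intro p hp hd
  have hle : p ≤ 18 := Nat.le_of_dvd (by norm_num) hd
  interval_cases p <;> first | omega | (exfalso; revert hp; decide) | skip
  · show e7coxCm ^ 9 ≠ 1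
    rw [p9]
    decide +kernel
  · show e7coxCm ^ 6 ≠ 1
    rw [p6]
    decide +kernel

theorem e7cox_coxeter_order : orderOf (((List.finRange 7).map (CoxeterMatrix.E₇).simple).prod) = 18 := by
  rw [e8Cert.orderOf_wordProd e7coxe e7coxe_inj (CoxeterMatrix.E₇) (by decide) (List.finRange 7), e7cox_prod]
  exact e7cox_order

def e8coxe : Fin 8 → Fin 8 := ![0, 1, 2, 3, 4, 5, 6, 7]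

theorem e8coxe_inj : Function.Injective e8coxe := by decide

def e8coxCm : Matrix (Fin 8) (Fin 8) ℤ :=
  (m8 (v8 0 1 0 0 0 0 0 (-1)) (v8 0 0 1 0 0 0 0 (-1)) (v8 1 1 0 0 0 0 0 (-1)) (v8 0 1 1 0 0 0 0 (-1)) (v8 0 0 0 1 0 0 0 (-1)) (v8 0 0 0 0 1 0 0 (-1)) (v8 0 0 0 0 0 1 0 (-1)) (v8 0 0 0 0 0 0 1 (-1)))

set_option maxRecDepth 1000000 in
theorem e8cox_prod : ((List.finRange 8).map (fun b => e8Cert.refMat (e8coxe b))).prod = e8coxCm := by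
  have hfr : List.finRange 8 = [0, 1, 2, 3, 4, 5, 6, 7] := by decide
  rw [hfr]
  simp only [List.map_cons, List.map_nil, List.prod_cons, List.prod_nil, mul_one]
  rw [show e8Cert.refMat (e8coxe 6) * e8Cert.refMat (e8coxe 7) = (m8 (v8 1 0 0 0 0 0 0 0) (v8 0 1 0 0 0 0 0 0) (v8 0 0 1 0 0 0 0 0) (v8 0 0 0 1 0 0 0 0) (v8 0 0 0 0 1 0 0 0) (v8 0 0 0 0 0 1 0 0) (v8 0 0 0 0 0 1 0 (-1)) (v8 0 0 0 0 0 0 1 (-1))) from by decide +kernel]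
  rw [show e8Cert.refMat (e8coxe 5) * (m8 (v8 1 0 0 0 0 0 0 0) (v8 0 1 0 0 0 0 0 0) (v8 0 0 1 0 0 0 0 0) (v8 0 0 0 1 0 0 0 0) (v8 0 0 0 0 1 0 0 0) (v8 0 0 0 0 0 1 0 0) (v8 0 0 0 0 0 1 0 (-1)) (v8 0 0 0 0 0 0 1 (-1))) = (m8 (v8 1 0 0 0 0 0 0 0) (v8 0 1 0 0 0 0 0 0) (v8 0 0 1 0 0 0 0 0) (v8 0 0 0 1 0 0 0 0) (v8 0 0 0 0 1 0 0 0) (v8 0 0 0 0 1 0 0 (-1)) (v8 0 0 0 0 0 1 0 (-1)) (v8 0 0 0 0 0 0 1 (-1))) from by decide +kernel]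
  rw [show e8Cert.refMat (e8coxe 4) * (m8 (v8 1 0 0 0 0 0 0 0) (v8 0 1 0 0 0 0 0 0) (v8 0 0 1 0 0 0 0 0) (v8 0 0 0 1 0 0 0 0) (v8 0 0 0 0 1 0 0 0) (v8 0 0 0 0 1 0 0 (-1)) (v8 0 0 0 0 0 1 0 (-1)) (v8 0 0 0 0 0 0 1 (-1))) = (m8 (v8 1 0 0 0 0 0 0 0) (v8 0 1 0 0 0 0 0 0) (v8 0 0 1 0 0 0 0 0) (v8 0 0 0 1 0 0 0 0) (v8 0 0 0 1 0 0 0 (-1)) (v8 0 0 0 0 1 0 0 (-1)) (v8 0 0 0 0 0 1 0 (-1)) (v8 0 0 0 0 0 0 1 (-1))) from by decide +kernel]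
  rw [show e8Cert.refMat (e8coxe 3) * (m8 (v8 1 0 0 0 0 0 0 0) (v8 0 1 0 0 0 0 0 0) (v8 0 0 1 0 0 0 0 0) (v8 0 0 0 1 0 0 0 0) (v8 0 0 0 1 0 0 0 (-1)) (v8 0 0 0 0 1 0 0 (-1)) (v8 0 0 0 0 0 1 0 (-1)) (v8 0 0 0 0 0 0 1 (-1))) = (m8 (v8 1 0 0 0 0 0 0 0) (v8 0 1 0 0 0 0 0 0) (v8 0 0 1 0 0 0 0 0) (v8 0 1 1 0 0 0 0 (-1)) (v8 0 0 0 1 0 0 0 (-1)) (v8 0 0 0 0 1 0 0 (-1)) (v8 0 0 0 0 0 1 0 (-1)) (v8 0 0 0 0 0 0 1 (-1))) from by decide +kernel]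
  rw [show e8Cert.refMat (e8coxe 2) * (m8 (v8 1 0 0 0 0 0 0 0) (v8 0 1 0 0 0 0 0 0) (v8 0 0 1 0 0 0 0 0) (v8 0 1 1 0 0 0 0 (-1)) (v8 0 0 0 1 0 0 0 (-1)) (v8 0 0 0 0 1 0 0 (-1)) (v8 0 0 0 0 0 1 0 (-1)) (v8 0 0 0 0 0 0 1 (-1))) = (m8 (v8 1 0 0 0 0 0 0 0) (v8 0 1 0 0 0 0 0 0) (v8 1 1 0 0 0 0 0 (-1)) (v8 0 1 1 0 0 0 0 (-1)) (v8 0 0 0 1 0 0 0 (-1)) (v8 0 0 0 0 1 0 0 (-1)) (v8 0 0 0 0 0 1 0 (-1)) (v8 0 0 0 0 0 0 1 (-1))) from by decide +kernel]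
  rw [show e8Cert.refMat (e8coxe 1) * (m8 (v8 1 0 0 0 0 0 0 0) (v8 0 1 0 0 0 0 0 0) (v8 1 1 0 0 0 0 0 (-1)) (v8 0 1 1 0 0 0 0 (-1)) (v8 0 0 0 1 0 0 0 (-1)) (v8 0 0 0 0 1 0 0 (-1)) (v8 0 0 0 0 0 1 0 (-1)) (v8 0 0 0 0 0 0 1 (-1))) = (m8 (v8 1 0 0 0 0 0 0 0) (v8 0 0 1 0 0 0 0 (-1)) (v8 1 1 0 0 0 0 0 (-1)) (v8 0 1 1 0 0 0 0 (-1)) (v8 0 0 0 1 0 0 0 (-1)) (v8 0 0 0 0 1 0 0 (-1)) (v8 0 0 0 0 0 1 0 (-1)) (v8 0 0 0 0 0 0 1 (-1))) from by decide +kernel]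
  rw [show e8Cert.refMat (e8coxe 0) * (m8 (v8 1 0 0 0 0 0 0 0) (v8 0 0 1 0 0 0 0 (-1)) (v8 1 1 0 0 0 0 0 (-1)) (v8 0 1 1 0 0 0 0 (-1)) (v8 0 0 0 1 0 0 0 (-1)) (v8 0 0 0 0 1 0 0 (-1)) (v8 0 0 0 0 0 1 0 (-1)) (v8 0 0 0 0 0 0 1 (-1))) = e8coxCm from by decide +kernel]

set_option maxRecDepth 1000000 in
theorem e8cox_order : orderOf e8coxCm = 30 := by
  have p1 : e8coxCm ^ 1 = e8coxCm := pow_one _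
  have p2 : e8coxCm ^ 2 = (m8 (v8 0 0 1 0 0 0 (-1) 0) (v8 1 1 0 0 0 0 (-1) 0) (v8 0 1 1 0 0 0 (-1) (-1)) (v8 1 1 1 0 0 0 (-1) (-1)) (v8 0 1 1 0 0 0 (-1) 0) (v8 0 0 0 1 0 0 (-1) 0) (v8 0 0 0 0 1 0 (-1) 0) (v8 0 0 0 0 0 1 (-1) 0)) := by
    show e8coxCm ^ (1 + 1) = (m8 (v8 0 0 1 0 0 0 (-1) 0) (v8 1 1 0 0 0 0 (-1) 0) (v8 0 1 1 0 0 0 (-1) (-1)) (v8 1 1 1 0 0 0 (-1) (-1)) (v8 0 1 1 0 0 0 (-1) 0) (v8 0 0 0 1 0 0 (-1) 0) (v8 0 0 0 0 1 0 (-1) 0) (v8 0 0 0 0 0 1 (-1) 0))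
    rw [pow_add, p1]
    decide +kernel
  have p3 : e8coxCm ^ 3 = (m8 (v8 1 1 0 0 0 (-1) 0 0) (v8 0 1 1 0 0 (-1) 0 (-1)) (v8 1 1 1 0 0 (-1) (-1) 0) (v8 1 2 1 0 0 (-1) (-1) (-1)) (v8 1 1 1 0 0 (-1) 0 (-1)) (v8 0 1 1 0 0 (-1) 0 0) (v8 0 0 0 1 0 (-1) 0 0) (v8 0 0 0 0 1 (-1) 0 0)) := by
    show e8coxCm ^ (2 + 1) = (m8 (v8 1 1 0 0 0 (-1) 0 0) (v8 0 1 1 0 0 (-1) 0 (-1)) (v8 1 1 1 0 0 (-1) (-1) 0) (v8 1 2 1 0 0 (-1) (-1) (-1)) (v8 1 1 1 0 0 (-1) 0 (-1)) (v8 0 1 1 0 0 (-1) 0 0) (v8 0 0 0 1 0 (-1) 0 0) (v8 0 0 0 0 1 (-1) 0 0))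
    rw [pow_add, p2, p1]
    decide +kernel
  have p6 : e8coxCm ^ 6 = (m8 (v8 1 1 0 0 0 (-1) 0 (-1)) (v8 1 1 1 0 (-1) 0 (-1) (-1)) (v8 2 2 1 (-1) 0 (-1) (-1) (-1)) (v8 2 3 2 (-1) (-1) (-1) (-1) (-2)) (v8 2 2 1 0 (-1) (-1) (-1) (-1)) (v8 1 1 1 0 0 (-1) (-1) (-1)) (v8 1 1 0 0 0 0 (-1) (-1)) (v8 1 0 0 0 0 0 0 (-1))) := by
    show e8coxCm ^ (3 + 3) = (m8 (v8 1 1 0 0 0 (-1) 0 (-1)) (v8 1 1 1 0 (-1) 0 (-1) (-1)) (v8 2 2 1 (-1) 0 (-1) (-1) (-1)) (v8 2 3 2 (-1) (-1) (-1) (-1) (-2)) (v8 2 2 1 0 (-1) (-1) (-1) (-1)) (v8 1 1 1 0 0 (-1) (-1) (-1)) (v8 1 1 0 0 0 0 (-1) (-1)) (v8 1 0 0 0 0 0 0 (-1)))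
    rw [pow_add, p3]
    decide +kernel
  have p4 : e8coxCm ^ 4 = (m8 (v8 0 1 1 0 (-1) 0 0 (-1)) (v8 1 1 1 0 (-1) 0 (-1) 0) (v8 1 2 1 0 (-1) (-1) 0 (-1)) (v8 1 2 2 0 (-1) (-1) (-1) (-1)) (v8 1 2 1 0 (-1) 0 (-1) (-1)) (v8 1 1 1 0 (-1) 0 0 (-1)) (v8 0 1 1 0 (-1) 0 0 0) (v8 0 0 0 1 (-1) 0 0 0)) := by
    show e8coxCm ^ (2 + 2) = (m8 (v8 0 1 1 0 (-1) 0 0 (-1)) (v8 1 1 1 0 (-1) 0 (-1) 0) (v8 1 2 1 0 (-1) (-1) 0 (-1)) (v8 1 2 2 0 (-1) (-1) (-1) (-1)) (v8 1 2 1 0 (-1) 0 (-1) (-1)) (v8 1 1 1 0 (-1) 0 0 (-1)) (v8 0 1 1 0 (-1) 0 0 0) (v8 0 0 0 1 (-1) 0 0 0))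
    rw [pow_add, p2]
    decide +kernel
  have p5 : e8coxCm ^ 5 = (m8 (v8 1 1 1 (-1) 0 0 (-1) 0) (v8 1 2 1 (-1) 0 (-1) 0 (-1)) (v8 1 2 2 (-1) (-1) 0 (-1) (-1)) (v8 2 3 2 (-1) (-1) (-1) (-1) (-1)) (v8 1 2 2 (-1) 0 (-1) (-1) (-1)) (v8 1 2 1 (-1) 0 0 (-1) (-1)) (v8 1 1 1 (-1) 0 0 0 (-1)) (v8 0 1 1 (-1) 0 0 0 0)) := by
    show e8coxCm ^ (4 + 1) = (m8 (v8 1 1 1 (-1) 0 0 (-1) 0) (v8 1 2 1 (-1) 0 (-1) 0 (-1)) (v8 1 2 2 (-1) (-1) 0 (-1) (-1)) (v8 2 3 2 (-1) (-1) (-1) (-1) (-1)) (v8 1 2 2 (-1) 0 (-1) (-1) (-1)) (v8 1 2 1 (-1) 0 0 (-1) (-1)) (v8 1 1 1 (-1) 0 0 0 (-1)) (v8 0 1 1 (-1) 0 0 0 0))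
    rw [pow_add, p4, p1]
    decide +kernel
  have p10 : e8coxCm ^ 10 = (m8 (v8 0 1 1 (-1) 0 0 (-1) 0) (v8 1 1 1 (-1) 0 (-1) 0 (-1)) (v8 1 2 1 (-1) (-1) 0 (-1) (-1)) (v8 2 3 2 (-2) (-1) (-1) (-1) (-1)) (v8 1 2 2 (-1) (-1) (-1) (-1) (-1)) (v8 1 2 1 (-1) 0 (-1) (-1) (-1)) (v8 1 1 1 (-1) 0 0 (-1) (-1)) (v8 0 1 1 (-1) 0 0 0 (-1))) := by
    show e8coxCm ^ (5 + 5) = (m8 (v8 0 1 1 (-1) 0 0 (-1) 0) (v8 1 1 1 (-1) 0 (-1) 0 (-1)) (v8 1 2 1 (-1) (-1) 0 (-1) (-1)) (v8 2 3 2 (-2) (-1) (-1) (-1) (-1)) (v8 1 2 2 (-1) (-1) (-1) (-1) (-1)) (v8 1 2 1 (-1) 0 (-1) (-1) (-1)) (v8 1 1 1 (-1) 0 0 (-1) (-1)) (v8 0 1 1 (-1) 0 0 0 (-1)))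
    rw [pow_add, p5]
    decide +kernel
  have p7 : e8coxCm ^ 7 = (m8 (v8 0 1 1 0 (-1) 0 (-1) 0) (v8 1 2 1 (-1) 0 (-1) (-1) 0) (v8 1 2 1 0 (-1) (-1) (-1) (-1)) (v8 2 3 2 (-1) (-1) (-1) (-2) (-1)) (v8 1 3 2 (-1) (-1) (-1) (-1) (-1)) (v8 1 2 1 0 (-1) (-1) (-1) 0) (v8 0 1 1 0 0 (-1) (-1) 0) (v8 0 1 0 0 0 0 (-1) 0)) := by
    show e8coxCm ^ (6 + 1) = (m8 (v8 0 1 1 0 (-1) 0 (-1) 0) (v8 1 2 1 (-1) 0 (-1) (-1) 0) (v8 1 2 1 0 (-1) (-1) (-1) (-1)) (v8 2 3 2 (-1) (-1) (-1) (-2) (-1)) (v8 1 3 2 (-1) (-1) (-1) (-1) (-1)) (v8 1 2 1 0 (-1) (-1) (-1) 0) (v8 0 1 1 0 0 (-1) (-1) 0) (v8 0 1 0 0 0 0 (-1) 0))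
    rw [pow_add, p6, p1]
    decide +kernel
  have p14 : e8coxCm ^ 14 = (m8 (v8 1 0 (-1) 0 0 0 0 0) (v8 0 1 0 (-1) 0 0 0 0) (v8 1 0 0 (-1) 0 0 0 0) (v8 1 1 0 (-1) (-1) 0 0 0) (v8 1 1 0 (-1) 0 (-1) 0 0) (v8 1 1 0 (-1) 0 0 (-1) 0) (v8 1 1 0 (-1) 0 0 0 (-1)) (v8 1 1 0 (-1) 0 0 0 0)) := by
    show e8coxCm ^ (7 + 7) = (m8 (v8 1 0 (-1) 0 0 0 0 0) (v8 0 1 0 (-1) 0 0 0 0) (v8 1 0 0 (-1) 0 0 0 0) (v8 1 1 0 (-1) (-1) 0 0 0) (v8 1 1 0 (-1) 0 (-1) 0 0) (v8 1 1 0 (-1) 0 0 (-1) 0) (v8 1 1 0 (-1) 0 0 0 (-1)) (v8 1 1 0 (-1) 0 0 0 0))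
    rw [pow_add, p7]
    decide +kernel
  have p15 : e8coxCm ^ 15 = (m8 (v8 (-1) 0 0 0 0 0 0 0) (v8 0 (-1) 0 0 0 0 0 0) (v8 0 0 (-1) 0 0 0 0 0) (v8 0 0 0 (-1) 0 0 0 0) (v8 0 0 0 0 (-1) 0 0 0) (v8 0 0 0 0 0 (-1) 0 0) (v8 0 0 0 0 0 0 (-1) 0) (v8 0 0 0 0 0 0 0 (-1))) := by
    show e8coxCm ^ (14 + 1) = (m8 (v8 (-1) 0 0 0 0 0 0 0) (v8 0 (-1) 0 0 0 0 0 0) (v8 0 0 (-1) 0 0 0 0 0) (v8 0 0 0 (-1) 0 0 0 0) (v8 0 0 0 0 (-1) 0 0 0) (v8 0 0 0 0 0 (-1) 0 0) (v8 0 0 0 0 0 0 (-1) 0) (v8 0 0 0 0 0 0 0 (-1)))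
    rw [pow_add, p14, p1]
    decide +kernel
  have p30 : e8coxCm ^ 30 = 1 := by
    show e8coxCm ^ (15 + 15) = 1
    rw [pow_add, p15]
    decide +kernel
  apply orderOf_eq_of_pow_and_pow_div_prime (by norm_num) p30
  intro p hp hd
  have hle : p ≤ 30 := Nat.le_of_dvd (by norm_num) hd
  interval_cases p <;> first | omega | (exfalso; revert hp; decide) | skip
  · show e8coxCm ^ 15 ≠ 1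
    rw [p15]
    decide +kernel
  · show e8coxCm ^ 10 ≠ 1
    rw [p10]
    decide +kernel
  · show e8coxCm ^ 6 ≠ 1
    rw [p6]
    decide +kernel

theorem e8cox_coxeter_order : orderOf (((List.finRange 8).map (CoxeterMatrix.E₈).simple).prod) = 30 := by
  rw [e8Cert.orderOf_wordProd e8coxe e8coxe_inj (CoxeterMatrix.E₈) (by decide) (List.finRange 8), e8cox_prod]
  exact e8cox_order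

end Cfsg.Agent.Lib.helper3
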