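import Mathlib
import Cfsg.Agent.Lib.helper3.CoxMat

set_option autoImplicit false

namespace Cfsg.Agent.Lib.helper3

def vb2 (a0 a1 : ℤ) : Fin 2 → ℤ := ![a0, a1]

def b2C : Fin 2 → Fin 2 → ℤ :=
  ![(vb2 2 (-1)),
    (vb2 (-2) 2)]

def b2Sym : Fin 2 → Fin 2 → ℤ :=
  ![(vb2 2 (-2)),
    (vb2 (-2) 4)]

def b2L : List (Fin 2 → ℤ) :=
  [(vb2 0 1),
    (vb2 1 0),
    (vb2 1 1),
    (vb2 2 1)]

set_option maxRecDepth 1000000 in
def b2Cert : RootCert 2 where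
  C := b2C
  sym := b2Sym
  L := b2L
  hC2 := by decide +kernel
  hsymm := by decide +kernel
  hpos := by decide +kernel
  hrel := by decide +kernel
  hL_nonneg := by decide +kernel
  hL_ne := by decide +kernel
  hL_simple := by decide +kernel
  hL_refl := by decide +kernel

def mb2 (r0 r1 : Fin 2 → ℤ) : Matrix (Fin 2) (Fin 2) ℤ := Matrix.of ![r0, r1]

def b2coxe : Fin 2 → Fin 2 := ![0, 1]

theorem b2coxe_inj : Function.Injective b2coxe := by decide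

def b2coxCm : Matrix (Fin 2) (Fin 2) ℤ :=
  (mb2 (vb2 1 (-2)) (vb2 1 (-1)))

set_option maxRecDepth 1000000 in
theorem b2cox_prod : ((List.finRange 2).map (fun b => b2Cert.refMat (b2coxe b))).prod = b2coxCm := by
  have hfr : List.finRange 2 = [0, 1] := by decide
  rw [hfr]
  simp only [List.map_cons, List.map_nil, List.prod_cons, List.prod_nil, mul_one]
  rw [show b2Cert.refMat (b2coxe 0) * b2Cert.refMat (b2coxe 1) = b2coxCm from by decide +kernel]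

set_option maxRecDepth 1000000 in
theorem b2cox_order : orderOf b2coxCm = 4 := by
  have p1 : b2coxCm ^ 1 = b2coxCm := pow_one _
  have p2 : b2coxCm ^ 2 = (mb2 (vb2 (-1) 0) (vb2 0 (-1))) := by
    show b2coxCm ^ (1 + 1) = (mb2 (vb2 (-1) 0) (vb2 0 (-1)))
    rw [pow_add, p1]
    decide +kernel
  have p4 : b2coxCm ^ 4 = 1 := by
    show b2coxCm ^ (2 + 2) = 1
    rw [pow_add, p2]
    decide +kernel
  apply orderOf_eq_of_pow_and_pow_div_prime (by norm_num) p4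
  intro p hp hd
  have hle : p ≤ 4 := Nat.le_of_dvd (by norm_num) hd
  interval_cases p <;> first | omega | (exfalso; revert hp; decide) | skip
  · show b2coxCm ^ 2 ≠ 1
    rw [p2]
    decide +kernel

theorem b2cox_coxeter_order : orderOf (((List.finRange 2).map (CoxeterMatrix.B 2).simple).prod) = 4 := by
  rw [b2Cert.orderOf_wordProd b2coxe b2coxe_inj (CoxeterMatrix.B 2) (by decide) (List.finRange 2), b2cox_prod]
  exact b2cox_order

def vg2 (a0 a1 : ℤ) : Fin 2 → ℤ := ![a0, a1]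

def g2C : Fin 2 → Fin 2 → ℤ :=
  ![(vg2 2 (-1)),
    (vg2 (-3) 2)]

def g2Sym : Fin 2 → Fin 2 → ℤ :=
  ![(vg2 2 (-3)),
    (vg2 (-3) 6)]

def g2L : List (Fin 2 → ℤ) :=
  [(vg2 0 1),
    (vg2 1 0),
    (vg2 1 1),
    (vg2 2 1),
    (vg2 3 1),
    (vg2 3 2)]

set_option maxRecDepth 1000000 in
def g2Cert : RootCert 2 where
  C := g2C
  sym := g2Sym
  L := g2L
  hC2 := by decide +kernel
  hsymm := by decide +kernel
  hpos := by decide +kernel
  hrel := by decide +kernel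
  hL_nonneg := by decide +kernel
  hL_ne := by decide +kernel
  hL_simple := by decide +kernel
  hL_refl := by decide +kernel

def mg2 (r0 r1 : Fin 2 → ℤ) : Matrix (Fin 2) (Fin 2) ℤ := Matrix.of ![r0, r1]

def g2coxe : Fin 2 → Fin 2 := ![0, 1]

theorem g2coxe_inj : Function.Injective g2coxe := by decide

def g2coxCm : Matrix (Fin 2) (Fin 2) ℤ :=
  (mg2 (vg2 2 (-3)) (vg2 1 (-1)))

set_option maxRecDepth 1000000 in
theorem g2cox_prod : ((List.finRange 2).map (fun b => g2Cert.refMat (g2coxe b))).prod = g2coxCm := by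
  have hfr : List.finRange 2 = [0, 1] := by decide
  rw [hfr]
  simp only [List.map_cons, List.map_nil, List.prod_cons, List.prod_nil, mul_one]
  rw [show g2Cert.refMat (g2coxe 0) * g2Cert.refMat (g2coxe 1) = g2coxCm from by decide +kernel]

set_option maxRecDepth 1000000 in
theorem g2cox_order : orderOf g2coxCm = 6 := by
  have p1 : g2coxCm ^ 1 = g2coxCm := pow_one _
  have p2 : g2coxCm ^ 2 = (mg2 (vg2 1 (-3)) (vg2 1 (-2))) := by
    show g2coxCm ^ (1 + 1) = (mg2 (vg2 1 (-3)) (vg2 1 (-2)))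
    rw [pow_add, p1]
    decide +kernel
  have p3 : g2coxCm ^ 3 = (mg2 (vg2 (-1) 0) (vg2 0 (-1))) := by
    show g2coxCm ^ (2 + 1) = (mg2 (vg2 (-1) 0) (vg2 0 (-1)))
    rw [pow_add, p2, p1]
    decide +kernel
  have p6 : g2coxCm ^ 6 = 1 := by
    show g2coxCm ^ (3 + 3) = 1
    rw [pow_add, p3]
    decide +kernel
  apply orderOf_eq_of_pow_and_pow_div_prime (by norm_num) p6
  intro p hp hd
  have hle : p ≤ 6 := Nat.le_of_dvd (by norm_num) hd
  interval_cases p <;> first | omega | (exfalso; revert hp; decide) | skip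
  · show g2coxCm ^ 3 ≠ 1
    rw [p3]
    decide +kernel
  · show g2coxCm ^ 2 ≠ 1
    rw [p2]
    decide +kernel

theorem g2cox_coxeter_order : orderOf (((List.finRange 2).map (CoxeterMatrix.G₂).simple).prod) = 6 := by
  rw [g2Cert.orderOf_wordProd g2coxe g2coxe_inj (CoxeterMatrix.G₂) (by decide) (List.finRange 2), g2cox_prod]
  exact g2cox_order

def vf4 (a0 a1 a2 a3 : ℤ) : Fin 4 → ℤ := ![a0, a1, a2, a3]

def f4C : Fin 4 → Fin 4 → ℤ :=
  ![(vf4 2 (-1) 0 0),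
    (vf4 (-1) 2 (-2) 0),
    (vf4 0 (-1) 2 (-1)),
    (vf4 0 0 (-1) 2)]

def f4Sym : Fin 4 → Fin 4 → ℤ :=
  ![(vf4 4 (-2) 0 0),
    (vf4 (-2) 4 (-2) 0),
    (vf4 0 (-2) 2 (-1)),
    (vf4 0 0 (-1) 2)]

def f4L : List (Fin 4 → ℤ) :=
  [(vf4 0 0 0 1),
    (vf4 0 0 1 0),
    (vf4 0 1 0 0),
    (vf4 1 0 0 0),
    (vf4 0 0 1 1),
    (vf4 0 1 1 0),
    (vf4 1 1 0 0),
    (vf4 0 1 1 1),
    (vf4 0 1 2 0),
    (vf4 1 1 1 0),
    (vf4 0 1 2 1),
    (vf4 1 1 1 1),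
    (vf4 1 1 2 0),
    (vf4 0 1 2 2),
    (vf4 1 1 2 1),
    (vf4 1 2 2 0),
    (vf4 1 1 2 2),
    (vf4 1 2 2 1),
    (vf4 1 2 2 2),
    (vf4 1 2 3 1),
    (vf4 1 2 3 2),
    (vf4 1 2 4 2),
    (vf4 1 3 4 2),
    (vf4 2 3 4 2)]

set_option maxRecDepth 1000000 in
def f4Cert : RootCert 4 where
  C := f4C
  sym := f4Sym
  L := f4L
  hC2 := by decide +kernel
  hsymm := by decide +kernel
  hpos := by decide +kernel
  hrel := by decide +kernel
  hL_nonneg := by decide +kernel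
  hL_ne := by decide +kernel
  hL_simple := by decide +kernel
  hL_refl := by decide +kernel

def mf4 (r0 r1 r2 r3 : Fin 4 → ℤ) : Matrix (Fin 4) (Fin 4) ℤ := Matrix.of ![r0, r1, r2, r3]

def f4coxe : Fin 4 → Fin 4 := ![0, 1, 2, 3]

theorem f4coxe_inj : Function.Injective f4coxe := by decide

def f4coxCm : Matrix (Fin 4) (Fin 4) ℤ :=
  (mf4 (vf4 0 1 0 (-1)) (vf4 1 1 0 (-1)) (vf4 0 2 0 (-1)) (vf4 0 0 1 (-1)))

set_option maxRecDepth 1000000 in
theorem f4cox_prod : ((List.finRange 4).map (fun b => f4Cert.refMat (f4coxe b))).prod = f4coxCm := by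
  have hfr : List.finRange 4 = [0, 1, 2, 3] := by decide
  rw [hfr]
  simp only [List.map_cons, List.map_nil, List.prod_cons, List.prod_nil, mul_one]
  rw [show f4Cert.refMat (f4coxe 2) * f4Cert.refMat (f4coxe 3) = (mf4 (vf4 1 0 0 0) (vf4 0 1 0 0) (vf4 0 2 0 (-1)) (vf4 0 0 1 (-1))) from by decide +kernel]
  rw [show f4Cert.refMat (f4coxe 1) * (mf4 (vf4 1 0 0 0) (vf4 0 1 0 0) (vf4 0 2 0 (-1)) (vf4 0 0 1 (-1))) = (mf4 (vf4 1 0 0 0) (vf4 1 1 0 (-1)) (vf4 0 2 0 (-1)) (vf4 0 0 1 (-1))) from by decide +kernel]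
  rw [show f4Cert.refMat (f4coxe 0) * (mf4 (vf4 1 0 0 0) (vf4 1 1 0 (-1)) (vf4 0 2 0 (-1)) (vf4 0 0 1 (-1))) = f4coxCm from by decide +kernel]

set_option maxRecDepth 1000000 in
theorem f4cox_order : orderOf f4coxCm = 12 := by
  have p1 : f4coxCm ^ 1 = f4coxCm := pow_one _
  have p2 : f4coxCm ^ 2 = (mf4 (vf4 1 1 (-1) 0) (vf4 1 2 (-1) (-1)) (vf4 2 2 (-1) (-1)) (vf4 0 2 (-1) 0)) := by
    show f4coxCm ^ (1 + 1) = (mf4 (vf4 1 1 (-1) 0) (vf4 1 2 (-1) (-1)) (vf4 2 2 (-1) (-1)) (vf4 0 2 (-1) 0))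
    rw [pow_add, p1]
    decide +kernel
  have p4 : f4coxCm ^ 4 = (mf4 (vf4 0 1 (-1) 0) (vf4 1 1 (-1) (-1)) (vf4 2 2 (-2) (-1)) (vf4 0 2 (-1) (-1))) := by
    show f4coxCm ^ (2 + 2) = (mf4 (vf4 0 1 (-1) 0) (vf4 1 1 (-1) (-1)) (vf4 2 2 (-2) (-1)) (vf4 0 2 (-1) (-1)))
    rw [pow_add, p2]
    decide +kernel
  have p3 : f4coxCm ^ 3 = (mf4 (vf4 1 0 0 (-1)) (vf4 2 1 (-1) (-1)) (vf4 2 2 (-1) (-2)) (vf4 2 0 0 (-1))) := by
    show f4coxCm ^ (2 + 1) = (mf4 (vf4 1 0 0 (-1)) (vf4 2 1 (-1) (-1)) (vf4 2 2 (-1) (-2)) (vf4 2 0 0 (-1)))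
    rw [pow_add, p2, p1]
    decide +kernel
  have p6 : f4coxCm ^ 6 = (mf4 (vf4 (-1) 0 0 0) (vf4 0 (-1) 0 0) (vf4 0 0 (-1) 0) (vf4 0 0 0 (-1))) := by
    show f4coxCm ^ (3 + 3) = (mf4 (vf4 (-1) 0 0 0) (vf4 0 (-1) 0 0) (vf4 0 0 (-1) 0) (vf4 0 0 0 (-1)))
    rw [pow_add, p3]
    decide +kernel
  have p12 : f4coxCm ^ 12 = 1 := by
    show f4coxCm ^ (6 + 6) = 1
    rw [pow_add, p6]
    decide +kernel
  apply orderOf_eq_of_pow_and_pow_div_prime (by norm_num) p12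
  intro p hp hd
  have hle : p ≤ 12 := Nat.le_of_dvd (by norm_num) hd
  interval_cases p <;> first | omega | (exfalso; revert hp; decide) | skip
  · show f4coxCm ^ 6 ≠ 1
    rw [p6]
    decide +kernel
  · show f4coxCm ^ 4 ≠ 1
    rw [p4]
    decide +kernel

theorem f4cox_coxeter_order : orderOf (((List.finRange 4).map (CoxeterMatrix.F₄).simple).prod) = 12 := by
  rw [f4Cert.orderOf_wordProd f4coxe f4coxe_inj (CoxeterMatrix.F₄) (by decide) (List.finRange 4), f4cox_prod]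
  exact f4cox_order

end Cfsg.Agent.Lib.helper3
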