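import Mathlib
import Cfsg.Agent.Lib.helper3.CoxSmall
import Cfsg.Agent.Lib.helper3.CoxElt

set_option autoImplicit false

namespace Cfsg.Agent.Lib.helper3

/-- the order of a presented Coxeter group from the order of the reflection group -/
theorem RootCert.card_group_eq {n : ℕ} (R : RootCert n) {l : ℕ} (e : Fin l → Fin n)
    (he : Function.Injective e) (M : CoxeterMatrix (Fin l))
    (hM : ∀ b b', b ≠ b' → (R.C (e b) (e b'), R.C (e b') (e b), M b b') ∈
      ([(0, 0, 2), (-1, -1, 3), (-1, -2, 4), (-2, -1, 4), (-1, -3, 6), (-3, -1, 6)] :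
        List (ℤ × ℤ × ℕ)))
    (Jb : Fin n → Bool) (hJ : ∀ i, (∃ b, e b = i) ↔ Jb i = true) (N : ℕ)
    (hN : Nat.card (R.WJ {i | Jb i = true}) = N) : Nat.card M.Group = N := by
  obtain ⟨cs, -⟩ := R.coxeterSystem e he M hM
  have hset : Set.range e = {i | Jb i = true} := by
    ext i
    exact hJ i
  rw [hset] at cs
  rw [← hN]
  exact Nat.card_congr cs.mulEquiv.symm.toEquiv

def b2cJ0 : Fin 2 → Bool := ![true, true]

def b2clam0 : Fin 2 → ℤ := (vb2 2 1)

def b2cO0 : List (Fin 2 → ℤ) :=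
  [(vb2 0 1),
    (vb2 0 (-1)),
    (vb2 (-2) (-1))]

def b2ccs0 : List (ℕ × Fin 2) :=
  [(0, 0), (1, 1), (2, 0)]

def b2cJ1 : Fin 2 → Bool := ![false, true]

def b2clam1 : Fin 2 → ℤ := (vb2 1 1)

def b2cO1 : List (Fin 2 → ℤ) :=
  [(vb2 1 0)]

def b2ccs1 : List (ℕ × Fin 2) :=
  [(0, 1)]

def b2cJ2 : Fin 2 → Bool := ![false, false]

set_option maxRecDepth 1000000 in
set_option maxHeartbeats 0 in
theorem b2c_card_step0 : Nat.card (b2Cert.WJ {i | b2cJ0 i = true}) =
    4 * Nat.card (b2Cert.WJ {i | b2cJ1 i = true}) := by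
  have h := b2Cert.card_WJ_cert b2cJ0 b2cJ1 b2clam0 b2cO0 b2ccs0
    (by decide +kernel) (by decide +kernel) (by decide +kernel) (by decide +kernel)
    (by decide +kernel) (by decide +kernel)
  exact h

set_option maxRecDepth 1000000 in
set_option maxHeartbeats 0 in
theorem b2c_card_step1 : Nat.card (b2Cert.WJ {i | b2cJ1 i = true}) =
    2 * Nat.card (b2Cert.WJ {i | b2cJ2 i = true}) := by
  have h := b2Cert.card_WJ_cert b2cJ1 b2cJ2 b2clam1 b2cO1 b2ccs1
    (by decide +kernel) (by decide +kernel) (by decide +kernel) (by decide +kernel)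
    (by decide +kernel) (by decide +kernel)
  exact h

theorem b2c_card_last : Nat.card (b2Cert.WJ {i | b2cJ2 i = true}) = 1 :=
  b2Cert.card_WJ_empty b2cJ2 (by decide)

theorem b2c_card : Nat.card (b2Cert.WJ {i | b2cJ0 i = true}) = 8 := by
  rw [b2c_card_step0, b2c_card_step1, b2c_card_last]

def g2cJ0 : Fin 2 → Bool := ![true, true]

def g2clam0 : Fin 2 → ℤ := (vg2 2 1)

def g2cO0 : List (Fin 2 → ℤ) :=
  [(vg2 1 1),
    (vg2 1 0),
    (vg2 (-1) 0),
    (vg2 (-1) (-1)),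
    (vg2 (-2) (-1))]

def g2ccs0 : List (ℕ × Fin 2) :=
  [(0, 0), (1, 1), (2, 0), (3, 1), (4, 0)]

def g2cJ1 : Fin 2 → Bool := ![false, true]

def g2clam1 : Fin 2 → ℤ := (vg2 3 2)

def g2cO1 : List (Fin 2 → ℤ) :=
  [(vg2 3 1)]

def g2ccs1 : List (ℕ × Fin 2) :=
  [(0, 1)]

def g2cJ2 : Fin 2 → Bool := ![false, false]

set_option maxRecDepth 1000000 in
set_option maxHeartbeats 0 in
theorem g2c_card_step0 : Nat.card (g2Cert.WJ {i | g2cJ0 i = true}) =
    6 * Nat.card (g2Cert.WJ {i | g2cJ1 i = true}) := by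
  have h := g2Cert.card_WJ_cert g2cJ0 g2cJ1 g2clam0 g2cO0 g2ccs0
    (by decide +kernel) (by decide +kernel) (by decide +kernel) (by decide +kernel)
    (by decide +kernel) (by decide +kernel)
  exact h

set_option maxRecDepth 1000000 in
set_option maxHeartbeats 0 in
theorem g2c_card_step1 : Nat.card (g2Cert.WJ {i | g2cJ1 i = true}) =
    2 * Nat.card (g2Cert.WJ {i | g2cJ2 i = true}) := by
  have h := g2Cert.card_WJ_cert g2cJ1 g2cJ2 g2clam1 g2cO1 g2ccs1
    (by decide +kernel) (by decide +kernel) (by decide +kernel) (by decide +kernel)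
    (by decide +kernel) (by decide +kernel)
  exact h

theorem g2c_card_last : Nat.card (g2Cert.WJ {i | g2cJ2 i = true}) = 1 :=
  g2Cert.card_WJ_empty g2cJ2 (by decide)

theorem g2c_card : Nat.card (g2Cert.WJ {i | g2cJ0 i = true}) = 12 := by
  rw [g2c_card_step0, g2c_card_step1, g2c_card_last]

def f4cJ0 : Fin 4 → Bool := ![true, true, true, true]

def f4clam0 : Fin 4 → ℤ := (vf4 2 3 4 2)

def f4cO0 : List (Fin 4 → ℤ) :=
  [(vf4 1 3 4 2),
    (vf4 1 2 4 2),
    (vf4 1 2 2 2),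
    (vf4 1 1 2 2),
    (vf4 1 2 2 0),
    (vf4 0 1 2 2),
    (vf4 1 1 2 0),
    (vf4 0 1 2 0),
    (vf4 1 1 0 0),
    (vf4 0 1 0 0),
    (vf4 1 0 0 0),
    (vf4 0 (-1) 0 0),
    (vf4 (-1) 0 0 0),
    (vf4 (-1) (-1) 0 0),
    (vf4 0 (-1) (-2) 0),
    (vf4 (-1) (-1) (-2) 0),
    (vf4 0 (-1) (-2) (-2)),
    (vf4 (-1) (-2) (-2) 0),
    (vf4 (-1) (-1) (-2) (-2)),
    (vf4 (-1) (-2) (-2) (-2)),
    (vf4 (-1) (-2) (-4) (-2)),
    (vf4 (-1) (-3) (-4) (-2)),
    (vf4 (-2) (-3) (-4) (-2))]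

def f4ccs0 : List (ℕ × Fin 4) :=
  [(0, 0), (1, 1), (2, 2), (3, 1), (3, 3), (4, 0), (4, 3), (6, 3), (7, 2), (8, 2), (9, 1), (10, 1), (11, 0), (12, 0), (12, 2), (14, 2), (15, 3), (16, 1), (16, 3), (18, 3), (20, 2), (21, 1), (22, 0)]

def f4cJ1 : Fin 4 → Bool := ![false, true, true, true]

def f4clam1 : Fin 4 → ℤ := (vf4 1 2 3 2)

def f4cO1 : List (Fin 4 → ℤ) :=
  [(vf4 1 2 3 1),
    (vf4 1 2 2 1),
    (vf4 1 1 2 1),
    (vf4 1 1 1 1),
    (vf4 1 1 1 0)]

def f4ccs1 : List (ℕ × Fin 4) :=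
  [(0, 3), (1, 2), (2, 1), (3, 2), (4, 3)]

def f4cJ2 : Fin 4 → Bool := ![false, true, true, false]

def f4clam2 : Fin 4 → ℤ := (vf4 3 6 8 4)

def f4cO2 : List (Fin 4 → ℤ) :=
  [(vf4 3 5 8 4),
    (vf4 3 5 6 4),
    (vf4 3 4 6 4)]

def f4ccs2 : List (ℕ × Fin 4) :=
  [(0, 1), (1, 2), (2, 1)]

def f4cJ3 : Fin 4 → Bool := ![false, false, true, false]

def f4clam3 : Fin 4 → ℤ := (vf4 2 4 6 3)

def f4cO3 : List (Fin 4 → ℤ) :=
  [(vf4 2 4 5 3)]

def f4ccs3 : List (ℕ × Fin 4) :=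
  [(0, 2)]

def f4cJ4 : Fin 4 → Bool := ![false, false, false, false]

set_option maxRecDepth 1000000 in
set_option maxHeartbeats 0 in
theorem f4c_card_step0 : Nat.card (f4Cert.WJ {i | f4cJ0 i = true}) =
    24 * Nat.card (f4Cert.WJ {i | f4cJ1 i = true}) := by
  have h := f4Cert.card_WJ_cert f4cJ0 f4cJ1 f4clam0 f4cO0 f4ccs0
    (by decide +kernel) (by decide +kernel) (by decide +kernel) (by decide +kernel)
    (by decide +kernel) (by decide +kernel)
  exact h

set_option maxRecDepth 1000000 in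
set_option maxHeartbeats 0 in
theorem f4c_card_step1 : Nat.card (f4Cert.WJ {i | f4cJ1 i = true}) =
    6 * Nat.card (f4Cert.WJ {i | f4cJ2 i = true}) := by
  have h := f4Cert.card_WJ_cert f4cJ1 f4cJ2 f4clam1 f4cO1 f4ccs1
    (by decide +kernel) (by decide +kernel) (by decide +kernel) (by decide +kernel)
    (by decide +kernel) (by decide +kernel)
  exact h

set_option maxRecDepth 1000000 in
set_option maxHeartbeats 0 in
theorem f4c_card_step2 : Nat.card (f4Cert.WJ {i | f4cJ2 i = true}) =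
    4 * Nat.card (f4Cert.WJ {i | f4cJ3 i = true}) := by
  have h := f4Cert.card_WJ_cert f4cJ2 f4cJ3 f4clam2 f4cO2 f4ccs2
    (by decide +kernel) (by decide +kernel) (by decide +kernel) (by decide +kernel)
    (by decide +kernel) (by decide +kernel)
  exact h

set_option maxRecDepth 1000000 in
set_option maxHeartbeats 0 in
theorem f4c_card_step3 : Nat.card (f4Cert.WJ {i | f4cJ3 i = true}) =
    2 * Nat.card (f4Cert.WJ {i | f4cJ4 i = true}) := by
  have h := f4Cert.card_WJ_cert f4cJ3 f4cJ4 f4clam3 f4cO3 f4ccs3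
    (by decide +kernel) (by decide +kernel) (by decide +kernel) (by decide +kernel)
    (by decide +kernel) (by decide +kernel)
  exact h

theorem f4c_card_last : Nat.card (f4Cert.WJ {i | f4cJ4 i = true}) = 1 :=
  f4Cert.card_WJ_empty f4cJ4 (by decide)

theorem f4c_card : Nat.card (f4Cert.WJ {i | f4cJ0 i = true}) = 1152 := by
  rw [f4c_card_step0, f4c_card_step1, f4c_card_step2, f4c_card_step3, f4c_card_last]

def d4cJ0 : Fin 8 → Bool := ![false, true, true, true, true, false, false, false]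

def d4clam0 : Fin 8 → ℤ := (v8 5 8 10 15 12 9 6 3)

def d4cO0 : List (Fin 8 → ℤ) :=
  [(v8 5 7 10 15 12 9 6 3),
    (v8 5 7 10 14 12 9 6 3),
    (v8 5 7 9 14 12 9 6 3),
    (v8 5 7 10 14 11 9 6 3),
    (v8 5 7 9 14 11 9 6 3),
    (v8 5 7 9 13 11 9 6 3),
    (v8 5 6 9 13 11 9 6 3)]

def d4ccs0 : List (ℕ × Fin 8) :=
  [(0, 1), (1, 3), (2, 2), (2, 4), (3, 4), (5, 3), (6, 1)]

def d4cJ1 : Fin 8 → Bool := ![false, false, true, true, true, false, false, false]

def d4clam1 : Fin 8 → ℤ := (v8 7 10 14 20 16 12 8 4)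

def d4cO1 : List (Fin 8 → ℤ) :=
  [(v8 7 10 13 20 16 12 8 4),
    (v8 7 10 13 19 16 12 8 4),
    (v8 7 10 13 19 15 12 8 4)]

def d4ccs1 : List (ℕ × Fin 8) :=
  [(0, 2), (1, 3), (2, 4)]

def d4cJ2 : Fin 8 → Bool := ![false, false, false, true, true, false, false, false]

def d4clam2 : Fin 8 → ℤ := (v8 10 15 20 30 24 18 12 6)

def d4cO2 : List (Fin 8 → ℤ) :=
  [(v8 10 15 20 29 24 18 12 6),
    (v8 10 15 20 29 23 18 12 6)]

def d4ccs2 : List (ℕ × Fin 8) :=
  [(0, 3), (1, 4)]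

def d4cJ3 : Fin 8 → Bool := ![false, false, false, false, true, false, false, false]

def d4clam3 : Fin 8 → ℤ := (v8 8 12 16 24 20 15 10 5)

def d4cO3 : List (Fin 8 → ℤ) :=
  [(v8 8 12 16 24 19 15 10 5)]

def d4ccs3 : List (ℕ × Fin 8) :=
  [(0, 4)]

def d4cJ4 : Fin 8 → Bool := ![false, false, false, false, false, false, false, false]

set_option maxRecDepth 1000000 in
set_option maxHeartbeats 0 in
theorem d4c_card_step0 : Nat.card (e8Cert.WJ {i | d4cJ0 i = true}) =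
    8 * Nat.card (e8Cert.WJ {i | d4cJ1 i = true}) := by
  have h := e8Cert.card_WJ_cert d4cJ0 d4cJ1 d4clam0 d4cO0 d4ccs0
    (by decide +kernel) (by decide +kernel) (by decide +kernel) (by decide +kernel)
    (by decide +kernel) (by decide +kernel)
  exact h

set_option maxRecDepth 1000000 in
set_option maxHeartbeats 0 in
theorem d4c_card_step1 : Nat.card (e8Cert.WJ {i | d4cJ1 i = true}) =
    4 * Nat.card (e8Cert.WJ {i | d4cJ2 i = true}) := by
  have h := e8Cert.card_WJ_cert d4cJ1 d4cJ2 d4clam1 d4cO1 d4ccs1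
    (by decide +kernel) (by decide +kernel) (by decide +kernel) (by decide +kernel)
    (by decide +kernel) (by decide +kernel)
  exact h

set_option maxRecDepth 1000000 in
set_option maxHeartbeats 0 in
theorem d4c_card_step2 : Nat.card (e8Cert.WJ {i | d4cJ2 i = true}) =
    3 * Nat.card (e8Cert.WJ {i | d4cJ3 i = true}) := by
  have h := e8Cert.card_WJ_cert d4cJ2 d4cJ3 d4clam2 d4cO2 d4ccs2
    (by decide +kernel) (by decide +kernel) (by decide +kernel) (by decide +kernel)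
    (by decide +kernel) (by decide +kernel)
  exact h

set_option maxRecDepth 1000000 in
set_option maxHeartbeats 0 in
theorem d4c_card_step3 : Nat.card (e8Cert.WJ {i | d4cJ3 i = true}) =
    2 * Nat.card (e8Cert.WJ {i | d4cJ4 i = true}) := by
  have h := e8Cert.card_WJ_cert d4cJ3 d4cJ4 d4clam3 d4cO3 d4ccs3
    (by decide +kernel) (by decide +kernel) (by decide +kernel) (by decide +kernel)
    (by decide +kernel) (by decide +kernel)
  exact h

theorem d4c_card_last : Nat.card (e8Cert.WJ {i | d4cJ4 i = true}) = 1 :=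
  e8Cert.card_WJ_empty d4cJ4 (by decide)

theorem d4c_card : Nat.card (e8Cert.WJ {i | d4cJ0 i = true}) = 192 := by
  rw [d4c_card_step0, d4c_card_step1, d4c_card_step2, d4c_card_step3, d4c_card_last]

theorem card_coxeter_B2 : Nat.card (CoxeterMatrix.B 2).Group = 8 :=
  b2Cert.card_group_eq b2coxe b2coxe_inj (CoxeterMatrix.B 2) (by decide) b2cJ0 (by decide) 8 b2c_card

theorem card_coxeter_G2 : Nat.card (CoxeterMatrix.G₂).Group = 12 :=
  g2Cert.card_group_eq g2coxe g2coxe_inj (CoxeterMatrix.G₂) (by decide) g2cJ0 (by decide) 12 g2c_card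

theorem card_coxeter_F4 : Nat.card (CoxeterMatrix.F₄).Group = 1152 :=
  f4Cert.card_group_eq f4coxe f4coxe_inj (CoxeterMatrix.F₄) (by decide) f4cJ0 (by decide) 1152 f4c_card

theorem card_coxeter_D4 : Nat.card (Cfsg.Lie.coxeterD4).Group = 192 :=
  e8Cert.card_group_eq d4coxe d4coxe_inj (Cfsg.Lie.coxeterD4) (by decide) d4cJ0 (by decide) 192 d4c_card

end Cfsg.Agent.Lib.helper3
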