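import Mathlib
import Cfsg.Agent.Lib.helper3.CoxMat

set_option autoImplicit false

namespace Cfsg.Agent.Lib.helper3

namespace RootCert

variable {n : ℕ} (R : RootCert n)

/-- a non-identity element of a parabolic subgroup sends some simple root to a negative root -/
theorem exists_descent (J : Set (Fin n)) (w : R.WJ J) (hw : w ≠ 1) :
    ∃ i ∈ J, ∀ k, ((w : GLn n)⁻¹ (Pi.single i 1)) k ≤ 0 := by
  have E := R.exchSys J
  obtain ⟨L, hL, hprod, hlen⟩ := exists_reduced E.hT2 E.hgen w
  cases L with
  | nil =>
    rw [List.prod_nil] at hprod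
    exact absurd hprod.symm hw
  | cons t L' =>
    have ht : t ∈ R.TJ J := hL t List.mem_cons_self
    rw [List.prod_cons] at hprod
    rw [List.length_cons] at hlen
    have htw : t * w = L'.prod := by
      rw [← hprod, ← mul_assoc, E.hT2 t ht, one_mul]
    have hlt : wlen (R.TJ J) (t * w) < wlen (R.TJ J) w := by
      have := wlen_le (T := R.TJ J) (w := t * w) (L := L')
        (fun x hx => hL x (List.mem_cons_of_mem _ hx)) htw.symm
      omega
    have hnot : w ∉ R.PsJ J t := by
      rw [not_mem_Ps_iff (R.PsJ J) E.hT2 E.hgen E.hA E.hB E.hC ht]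
      have := wlen_mul_le E.hT2 E.hgen ht (t * w)
      rw [← mul_assoc, E.hT2 t ht, one_mul] at this
      omega
    obtain ⟨i, hi, hti⟩ := ht
    refine ⟨i, hi, ?_⟩
    have hβ := (R.mem_PhiJ_of_mem_WJ w.2 _ (R.single_mem_PhiJ hi)).2
    rcases R.PhiJ_sign hβ with h | h
    · exfalso
      apply hnot
      intro i' _ hti' k
      have hii' : i = i' := R.rL_injective (hti.symm.trans hti')
      subst hii'
      exact h k
    · exact h

/-- an element of a parabolic subgroup fixing its simple roots is trivial -/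
theorem eq_one_of_fixes_simple (J : Set (Fin n)) (w : R.WJ J)
    (h : ∀ i ∈ J, (w : GLn n) (Pi.single i 1) = Pi.single i 1) : w = 1 := by
  by_contra hw
  obtain ⟨i, hi, hneg⟩ := R.exists_descent J w hw
  have h1 : (w : GLn n)⁻¹ (Pi.single i 1) = Pi.single i 1 := by
    nth_rewrite 1 [← h i hi]
    exact inv_apply_apply _ _
  have := hneg i
  rw [h1, Pi.single_eq_same] at this
  omega

/-- an element negating a simple root commutes with the reflection -/
theorem comm_of_apply_single_neg {J : Set (Fin n)} {w : GLn n} (hw : w ∈ R.WJ J) {i : Fin n}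
    (h : w (Pi.single i 1) = - Pi.single i 1) : w * R.rL i = R.rL i * w := by
  apply LinearEquiv.ext
  intro v
  rw [LinearEquiv.mul_apply, LinearEquiv.mul_apply, rL_apply, rL_apply, rfun_eq, rfun_eq,
    map_sub, map_smul, h]
  have key : rcor R.C i (w v) = - rcor R.C i v := by
    have h1 := R.rcor_mul_sym i v
    have h2 := R.rcor_mul_sym i (w v)
    have h3 : R.bf (w v) (Pi.single i 1) = - R.bf v (Pi.single i 1) := by
      have h4 : (Pi.single i 1 : Fin n → ℤ) = w (- Pi.single i 1) := by
        rw [map_neg, h, neg_neg]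
      nth_rewrite 1 [h4]
      rw [R.bf_invariant hw]
      have h5 : (- Pi.single i 1 : Fin n → ℤ) = (-1 : ℤ) • Pi.single i 1 := by
        rw [neg_smul, one_smul]
      rw [h5, bf_smul_right]
      ring
    rw [h3] at h2
    have hs := ne_of_gt (R.hpos i)
    apply mul_right_cancel₀ hs
    rw [h2, neg_mul, h1]
    ring
  rw [key]
  simp

/-- a central element acts on each simple root by a sign -/
theorem central_apply_single {z : GLn n} {i : Fin n}
    (hc : z * R.rL i = R.rL i * z) :
    z (Pi.single i 1) = (z (Pi.single i 1) i) • (Pi.single i 1 : Fin n → ℤ) := by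
  have h1 : (z * R.rL i) (Pi.single i 1) = (R.rL i * z) (Pi.single i 1) := by rw [hc]
  rw [LinearEquiv.mul_apply, LinearEquiv.mul_apply, rL_apply, rL_apply,
    rfun_single_self R.C R.hC2, map_neg, rfun_eq] at h1
  funext k
  rw [Pi.smul_apply, smul_eq_mul]
  by_cases hk : k = i
  · rw [hk, Pi.single_eq_same, mul_one]
  · rw [Pi.single_eq_of_ne hk, mul_zero]
    have h2 := congrFun h1 k
    rw [Pi.neg_apply, Pi.sub_apply, Pi.smul_apply, Pi.single_eq_of_ne hk, smul_zero, sub_zero] at h2
    omega

theorem central_sign {z : GLn n} {i : Fin n}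
    (hc : z * R.rL i = R.rL i * z) :
    z (Pi.single i 1) i = 1 ∨ z (Pi.single i 1) i = -1 := by
  have hc' : z⁻¹ * R.rL i = R.rL i * z⁻¹ := by
    have := congrArg (fun x => z⁻¹ * x * z⁻¹) hc
    simp only [mul_assoc, mul_inv_cancel, mul_one] at this
    rw [← mul_assoc, ← mul_assoc, inv_mul_cancel, one_mul] at this
    exact this.symm
  have h1 := R.central_apply_single hc
  have h2 := R.central_apply_single hc'
  have h3 : z⁻¹ (z (Pi.single i 1)) = Pi.single i 1 := inv_apply_apply _ _
  rw [h1, map_smul, h2, smul_smul] at h3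
  have h4 := congrFun h3 i
  rw [Pi.smul_apply, Pi.single_eq_same, smul_eq_mul, mul_one] at h4
  exact Int.eq_one_or_neg_one_of_mul_eq_one h4

theorem central_sign_eq {z : GLn n} {i j : Fin n} (hij : i ≠ j) (hC : R.C i j ≠ 0)
    (hci : z * R.rL i = R.rL i * z) (hcj : z * R.rL j = R.rL j * z) :
    z (Pi.single i 1) i = z (Pi.single j 1) j := by
  have hi := R.central_apply_single hci
  have hj := R.central_apply_single hcj
  have h1 : (z * R.rL j) (Pi.single i 1) = (R.rL j * z) (Pi.single i 1) := by rw [hcj]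
  rw [LinearEquiv.mul_apply, LinearEquiv.mul_apply, rL_apply, rL_apply, rfun_eq, rcor_single,
    map_sub, map_smul, hi, hj, rfun_eq, rcor_smul, rcor_single] at h1
  have h2 := congrFun h1 j
  simp only [Pi.sub_apply, Pi.smul_apply, Pi.single_eq_same, Pi.single_eq_of_ne hij.symm,
    smul_eq_mul, mul_zero, mul_one, zero_sub] at h2
  have h3 : R.C i j * (z (Pi.single j 1) j) = R.C i j * (z (Pi.single i 1) i) := by
    linarith
  exact (mul_left_cancel₀ hC h3).symm

/-- a central element acts on all simple roots of a connected diagram by the same sign -/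
theorem central_dichotomy (Jb : Fin n → Bool) (root : Fin n) (d : Fin n → ℕ)
    (hd : ∀ i, Jb i = true → (d i = 0 → i = root) ∧
      (0 < d i → ∃ j, Jb j = true ∧ i ≠ j ∧ R.C i j ≠ 0 ∧ d j < d i))
    (hroot : Jb root = true)
    {z : GLn n} (hz : ∀ i, Jb i = true → z * R.rL i = R.rL i * z) :
    (∀ i, Jb i = true → z (Pi.single i 1) = Pi.single i 1) ∨
      (∀ i, Jb i = true → z (Pi.single i 1) = - Pi.single i 1) := by
  have hall : ∀ q : ℕ, ∀ i, Jb i = true → d i = q →
      z (Pi.single i 1) i = z (Pi.single root 1) root := by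
    intro q
    induction q using Nat.strong_induction_on with
    | _ q IH =>
    intro i hi hq
    rcases Nat.eq_zero_or_pos q with h0 | hpos
    · have := (hd i hi).1 (by omega)
      rw [this]
    · obtain ⟨j, hj, hij, hC, hlt⟩ := (hd i hi).2 (by omega)
      rw [R.central_sign_eq hij hC (hz i hi) (hz j hj)]
      exact IH (d j) (by omega) j hj rfl
  rcases R.central_sign (hz root hroot) with h | h
  · left
    intro i hi
    rw [R.central_apply_single (hz i hi), hall _ i hi rfl, h, one_smul]
  · right
    intro i hi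
    rw [R.central_apply_single (hz i hi), hall _ i hi rfl, h, neg_smul, one_smul]

/-- commutation with the generators characterizes the centre of a parabolic subgroup -/
theorem mem_center_iff_comm (J : Set (Fin n)) (z : R.WJ J) :
    z ∈ Subgroup.center (R.WJ J) ↔ ∀ i ∈ J, (z : GLn n) * R.rL i = R.rL i * (z : GLn n) := by
  constructor
  · intro hz i hi
    rw [Subgroup.mem_center_iff] at hz
    have := hz ⟨R.rL i, R.rL_mem_WJ hi⟩
    have h2 := congrArg (fun x : R.WJ J => (x : GLn n)) this
    simp only [Subgroup.coe_mul] at h2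
    exact h2.symm
  · intro h
    rw [Subgroup.mem_center_iff]
    intro g
    have hg : ∀ g : GLn n, g ∈ R.WJ J → g * (z : GLn n) = (z : GLn n) * g := by
      intro g hg
      unfold WJ at hg
      induction hg using Subgroup.closure_induction with
      | mem x hx =>
        obtain ⟨i, hi, rfl⟩ := hx
        exact (h i hi).symm
      | one => rw [one_mul, mul_one]
      | mul x y _ _ hx hy => rw [mul_assoc, hy, ← mul_assoc, hx, mul_assoc]
      | inv x _ hx =>
        have := congrArg (fun t => x⁻¹ * t * x⁻¹) hx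
        simp only [mul_assoc, mul_inv_cancel, mul_one] at this
        rw [← mul_assoc, ← mul_assoc, inv_mul_cancel, one_mul] at this
        exact this.symm
    apply Subtype.ext
    rw [Subgroup.coe_mul, Subgroup.coe_mul]
    exact hg g g.2

/-- the centre when `-1` on the simple roots is realised by `z0` -/
theorem center_eq_pair (Jb : Fin n → Bool) (root : Fin n) (d : Fin n → ℕ)
    (hd : ∀ i, Jb i = true → (d i = 0 → i = root) ∧
      (0 < d i → ∃ j, Jb j = true ∧ i ≠ j ∧ R.C i j ≠ 0 ∧ d j < d i))
    (hroot : Jb root = true) (z0 : R.WJ {i | Jb i = true})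
    (hz0 : ∀ i, Jb i = true → (z0 : GLn n) (Pi.single i 1) = - Pi.single i 1) :
    z0 ∈ Subgroup.center (R.WJ {i | Jb i = true}) ∧ z0 ≠ 1 ∧
      ∀ z ∈ Subgroup.center (R.WJ {i | Jb i = true}), z = 1 ∨ z = z0 := by
  refine ⟨?_, ?_, ?_⟩
  · rw [mem_center_iff_comm]
    intro i hi
    exact R.comm_of_apply_single_neg z0.2 (hz0 i hi)
  · intro h
    have := hz0 root hroot
    rw [h] at this
    have h2 := congrFun this root
    rw [Pi.neg_apply, Pi.single_eq_same] at h2
    have h3 : ((1 : R.WJ {i | Jb i = true}) : GLn n) (Pi.single root 1) root = 1 := by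
      rw [Subgroup.coe_one]
      show (Pi.single root (1 : ℤ) : Fin n → ℤ) root = 1
      rw [Pi.single_eq_same]
    omega
  · intro z hz
    rw [mem_center_iff_comm] at hz
    rcases R.central_dichotomy Jb root d hd hroot (z := (z : GLn n)) (fun i hi => hz i hi) with
      h | h
    · left
      exact R.eq_one_of_fixes_simple _ z (fun i hi => h i hi)
    · right
      have : z0⁻¹ * z = 1 := by
        apply R.eq_one_of_fixes_simple
        intro i hi
        rw [Subgroup.coe_mul, LinearEquiv.mul_apply, h i hi, map_neg, Subgroup.coe_inv]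
        have h1 : (z0 : GLn n)⁻¹ (Pi.single i 1) = - Pi.single i 1 := by
          have h2 : (Pi.single i 1 : Fin n → ℤ) = (z0 : GLn n) (- Pi.single i 1) := by
            rw [map_neg, hz0 i hi, neg_neg]
          nth_rewrite 1 [h2]
          exact inv_apply_apply _ _
        rw [h1, neg_neg]
      exact (inv_mul_eq_one.1 this).symm

/-- the centre is trivial when no element acts as `-1` on the simple roots -/
theorem center_eq_bot (Jb : Fin n → Bool) (root : Fin n) (d : Fin n → ℕ)
    (hd : ∀ i, Jb i = true → (d i = 0 → i = root) ∧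
      (0 < d i → ∃ j, Jb j = true ∧ i ≠ j ∧ R.C i j ≠ 0 ∧ d j < d i))
    (hroot : Jb root = true)
    (hno : ∀ z : R.WJ {i | Jb i = true},
      ¬ (∀ i, Jb i = true → (z : GLn n) (Pi.single i 1) = - Pi.single i 1)) :
    ∀ z ∈ Subgroup.center (R.WJ {i | Jb i = true}), z = 1 := by
  intro z hz
  rw [mem_center_iff_comm] at hz
  rcases R.central_dichotomy Jb root d hd hroot (z := (z : GLn n)) (fun i hi => hz i hi) with
    h | h
  · exact R.eq_one_of_fixes_simple _ z (fun i hi => h i hi)
  · exact absurd h (hno z)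

/-- images of a vector stay in a list closed under the generators -/
theorem apply_mem_of_closed (Jb : Fin n → Bool) (Lst : List (Fin n → ℤ))
    (hclosed : ∀ i, Jb i = true → ∀ v ∈ Lst, rfun R.C i v ∈ Lst)
    {w : GLn n} (hw : w ∈ R.WJ {i | Jb i = true}) :
    ∀ v ∈ Lst, w v ∈ Lst ∧ w⁻¹ v ∈ Lst := by
  unfold WJ at hw
  induction hw using Subgroup.closure_induction with
  | mem x hx =>
    obtain ⟨i, hi, rfl⟩ := hx
    intro v hv
    rw [R.rL_inv]
    exact ⟨hclosed i hi v hv, hclosed i hi v hv⟩
  | one =>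
    intro v hv
    rw [inv_one]
    exact ⟨hv, hv⟩
  | mul x y _ _ hx hy =>
    intro v hv
    rw [mul_inv_rev, LinearEquiv.mul_apply, LinearEquiv.mul_apply]
    exact ⟨(hx _ (hy v hv).1).1, (hy _ (hx v hv).2).2⟩
  | inv x _ hx =>
    intro v hv
    rw [inv_inv]
    exact ⟨(hx v hv).2, (hx v hv).1⟩

/-- no element acts as `-1` on the simple roots when an orbit has no antipodal point -/
theorem no_neg_one_of_orbit (Jb : Fin n → Bool) (lam : Fin n → ℤ) (Lst : List (Fin n → ℤ))
    (hlam : lam ∈ Lst)
    (hclosed : ∀ i, Jb i = true → ∀ v ∈ Lst, rfun R.C i v ∈ Lst)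
    (hno : ∀ v ∈ Lst, ¬ (∀ i, Jb i = true → rcor R.C i v = - rcor R.C i lam))
    (z : R.WJ {i | Jb i = true}) :
    ¬ (∀ i, Jb i = true → (z : GLn n) (Pi.single i 1) = - Pi.single i 1) := by
  intro h
  have hmem := (R.apply_mem_of_closed Jb Lst hclosed z.2 lam hlam).1
  apply hno _ hmem
  intro i hi
  have h1 := R.rcor_mul_sym i lam
  have h2 := R.rcor_mul_sym i ((z : GLn n) lam)
  have h3 : R.bf ((z : GLn n) lam) (Pi.single i 1) = - R.bf lam (Pi.single i 1) := by
    have h4 : (Pi.single i 1 : Fin n → ℤ) = (z : GLn n) (- Pi.single i 1) := by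
      rw [map_neg, h i hi, neg_neg]
    nth_rewrite 1 [h4]
    rw [R.bf_invariant z.2]
    have h5 : (- Pi.single i 1 : Fin n → ℤ) = (-1 : ℤ) • Pi.single i 1 := by
      rw [neg_smul, one_smul]
    rw [h5, bf_smul_right]
    ring
  rw [h3] at h2
  have hs := ne_of_gt (R.hpos i)
  apply mul_right_cancel₀ hs
  rw [h2, neg_mul, h1]
  ring

end RootCert

end Cfsg.Agent.Lib.helper3
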