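import Mathlib
import Cfsg.Agent.Lib.helper3.CoxCenter

set_option autoImplicit false

namespace Cfsg.Agent.Lib.helper3

theorem center_transport {W G : Type*} [Group W] [Group G] (f : W ≃* G) (z : W) :
    z ∈ Subgroup.center W ↔ f z ∈ Subgroup.center G := by
  rw [Subgroup.mem_center_iff, Subgroup.mem_center_iff]
  constructor
  · intro h g
    obtain ⟨g', rfl⟩ := f.surjective g
    rw [← map_mul, ← map_mul, h]
  · intro h g
    apply f.injective
    rw [map_mul, map_mul, h]

theorem card_center_two_of {W : Type*} [Group W] (z0 : W) (h0 : z0 ∈ Subgroup.center W)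
    (hne : z0 ≠ 1) (hall : ∀ z ∈ Subgroup.center W, z = 1 ∨ z = z0) :
    Nat.card (Subgroup.center W) = 2 := by
  rw [Nat.card_eq_two_iff]
  refine ⟨⟨1, (Subgroup.center W).one_mem⟩, ⟨z0, h0⟩, ?_, ?_⟩
  · intro h
    apply hne
    exact (congrArg Subtype.val h).symm
  · ext z
    simp only [Set.mem_insert_iff, Set.mem_singleton_iff, Set.mem_univ, iff_true]
    rcases hall z.1 z.2 with h | h
    · left
      exact Subtype.ext h
    · right
      exact Subtype.ext h

theorem card_center_one_of {W : Type*} [Group W] (hall : ∀ z ∈ Subgroup.center W, z = 1) :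
    Nat.card (Subgroup.center W) = 1 := by
  have : Subgroup.center W = ⊥ := by
    rw [eq_bot_iff]
    intro z hz
    rw [Subgroup.mem_bot]
    exact hall z hz
  rw [this]
  exact Subgroup.card_bot

namespace RootCert

variable {n : ℕ} (R : RootCert n)

/-- centre of order two generated by a power of the Coxeter element -/
theorem center_result_two {l : ℕ} (e : Fin l → Fin n) (he : Function.Injective e)
    (M : CoxeterMatrix (Fin l))
    (hM : ∀ b b', b ≠ b' → (R.C (e b) (e b'), R.C (e b') (e b), M b b') ∈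
      ([(0, 0, 2), (-1, -1, 3), (-1, -2, 4), (-2, -1, 4), (-1, -3, 6), (-3, -1, 6)] :
        List (ℤ × ℤ × ℕ)))
    (Jb : Fin n → Bool) (hJ : ∀ i, (∃ b, e b = i) ↔ Jb i = true)
    (root : Fin n) (d : Fin n → ℕ)
    (hd : ∀ i, Jb i = true → (d i = 0 → i = root) ∧
      (0 < d i → ∃ j, Jb j = true ∧ i ≠ j ∧ R.C i j ≠ 0 ∧ d j < d i))
    (hroot : Jb root = true) (k : ℕ) (Pk : Matrix (Fin n) (Fin n) ℤ)
    (hPk : (((List.finRange l).map (fun b => R.refMat (e b))).prod) ^ k = Pk)
    (hneg : ∀ i, Jb i = true → ∀ j, Pk j i = - (Pi.single i 1 : Fin n → ℤ) j) :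
    Nat.card (Subgroup.center M.Group) = 2 ∧
      Subgroup.center M.Group ≤ Subgroup.zpowers (((List.finRange l).map M.simple).prod) := by
  have hset : Set.range e = {i | Jb i = true} := by
    ext i
    exact hJ i
  have key : ∀ (J : Set (Fin n)), J = {i | Jb i = true} → ∀ cs : CoxeterSystem M (R.WJ J),
      (∀ b, ((cs.simple b : R.WJ J) : GLn n) = R.rL (e b)) →
      Nat.card (Subgroup.center M.Group) = 2 ∧
        Subgroup.center M.Group ≤ Subgroup.zpowers (((List.finRange l).map M.simple).prod) := by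
    intro J hJe cs hcs
    subst hJe
    set cW := ((List.finRange l).map cs.simple).prod with hcW
    have hcoe : ((cW : R.WJ {i | Jb i = true}) : GLn n) =
        ((List.finRange l).map (fun b => R.rL (e b))).prod := by
      rw [hcW, ← Subgroup.coe_subtype, map_list_prod, List.map_map]
      congr 1
      apply List.map_congr_left
      intro b _
      exact hcs b
    have hfc : cs.mulEquiv cW = ((List.finRange l).map M.simple).prod := by
      rw [hcW, map_list_prod, List.map_map]
      congr 1
      apply List.map_congr_left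
      intro b _
      exact cs.mulEquiv.apply_symm_apply (M.simple b)
    have hz0 : ∀ i, Jb i = true →
        ((cW ^ k : R.WJ {i | Jb i = true}) : GLn n) (Pi.single i 1) = - Pi.single i 1 := by
      intro i hi
      funext j
      rw [← toMat_apply, Subgroup.coe_pow, map_pow, hcoe, R.toMat_list_prod e, hPk]
      exact hneg i hi j
    obtain ⟨h1, h2, h3⟩ := R.center_eq_pair Jb root d hd hroot (cW ^ k) hz0
    have h1' : cs.mulEquiv (cW ^ k) ∈ Subgroup.center M.Group :=
      (center_transport cs.mulEquiv _).1 h1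
    have h2' : cs.mulEquiv (cW ^ k) ≠ 1 := by
      intro h
      apply h2
      apply cs.mulEquiv.injective
      rw [h, map_one]
    have h3' : ∀ z ∈ Subgroup.center M.Group, z = 1 ∨ z = cs.mulEquiv (cW ^ k) := by
      intro z hz
      obtain ⟨w, rfl⟩ := cs.mulEquiv.surjective z
      rcases h3 w ((center_transport cs.mulEquiv w).2 hz) with h | h
      · left
        rw [h, map_one]
      · right
        rw [h]
    refine ⟨card_center_two_of _ h1' h2' h3', ?_⟩
    intro z hz
    rcases h3' z hz with h | h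
    · rw [h]
      exact Subgroup.one_mem _
    · rw [h, map_pow, hfc]
      exact Subgroup.pow_mem _ (Subgroup.mem_zpowers _) k
  obtain ⟨cs, hcs⟩ := R.coxeterSystem e he M hM
  exact key _ hset cs hcs

/-- trivial centre -/
theorem center_result_one {l : ℕ} (e : Fin l → Fin n) (he : Function.Injective e)
    (M : CoxeterMatrix (Fin l))
    (hM : ∀ b b', b ≠ b' → (R.C (e b) (e b'), R.C (e b') (e b), M b b') ∈
      ([(0, 0, 2), (-1, -1, 3), (-1, -2, 4), (-2, -1, 4), (-1, -3, 6), (-3, -1, 6)] :
        List (ℤ × ℤ × ℕ)))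
    (Jb : Fin n → Bool) (hJ : ∀ i, (∃ b, e b = i) ↔ Jb i = true)
    (root : Fin n) (d : Fin n → ℕ)
    (hd : ∀ i, Jb i = true → (d i = 0 → i = root) ∧
      (0 < d i → ∃ j, Jb j = true ∧ i ≠ j ∧ R.C i j ≠ 0 ∧ d j < d i))
    (hroot : Jb root = true) (lam : Fin n → ℤ) (Lst : List (Fin n → ℤ))
    (hlam : lam ∈ Lst)
    (hclosed : ∀ i, Jb i = true → ∀ v ∈ Lst, rfun R.C i v ∈ Lst)
    (hno : ∀ v ∈ Lst, ¬ (∀ i, Jb i = true → rcor R.C i v = - rcor R.C i lam)) :
    Nat.card (Subgroup.center M.Group) = 1 ∧
      Subgroup.center M.Group ≤ Subgroup.zpowers (((List.finRange l).map M.simple).prod) := by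
  obtain ⟨cs, -⟩ := R.coxeterSystem e he M hM
  have hset : Set.range e = {i | Jb i = true} := by
    ext i
    exact hJ i
  rw [hset] at cs
  have h3 := R.center_eq_bot Jb root d hd hroot
    (R.no_neg_one_of_orbit Jb lam Lst hlam hclosed hno)
  have h3' : ∀ z ∈ Subgroup.center M.Group, z = 1 := by
    intro z hz
    obtain ⟨w, rfl⟩ := cs.mulEquiv.surjective z
    rw [h3 w ((center_transport cs.mulEquiv w).2 hz), map_one]
  refine ⟨card_center_one_of h3', ?_⟩
  intro z hz
  rw [h3' z hz]
  exact Subgroup.one_mem _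

end RootCert

end Cfsg.Agent.Lib.helper3
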