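import Mathlib
import Cfsg.Agent.Lib.helper3.CoxE8

set_option autoImplicit false

namespace Cfsg.Agent.Lib.helper3

def e8J0 : Fin 8 → Bool := ![true, true, true, true, true, true, true, true]

def e8lam0 : Fin 8 → ℤ := ![2, 3, 4, 6, 5, 4, 3, 2]

def e8O0 : List (Fin 8 → ℤ) :=
  [(v8 2 3 4 6 5 4 3 1),
    (v8 2 3 4 6 5 4 2 1),
    (v8 2 3 4 6 5 3 2 1),
    (v8 2 3 4 6 4 3 2 1),
    (v8 2 3 4 5 4 3 2 1),
    (v8 2 2 4 5 4 3 2 1),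
    (v8 2 3 3 5 4 3 2 1),
    (v8 2 2 3 5 4 3 2 1),
    (v8 1 3 3 5 4 3 2 1),
    (v8 1 2 3 5 4 3 2 1),
    (v8 2 2 3 4 4 3 2 1),
    (v8 1 2 3 4 4 3 2 1),
    (v8 2 2 3 4 3 3 2 1),
    (v8 1 2 2 4 4 3 2 1),
    (v8 1 2 3 4 3 3 2 1),
    (v8 2 2 3 4 3 2 2 1),
    (v8 1 2 2 4 3 3 2 1),
    (v8 1 2 3 4 3 2 2 1),
    (v8 2 2 3 4 3 2 1 1),
    (v8 1 2 2 3 3 3 2 1),
    (v8 1 2 2 4 3 2 2 1),
    (v8 1 2 3 4 3 2 1 1),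
    (v8 2 2 3 4 3 2 1 0),
    (v8 1 1 2 3 3 3 2 1),
    (v8 1 2 2 3 3 2 2 1),
    (v8 1 2 2 4 3 2 1 1),
    (v8 1 2 3 4 3 2 1 0),
    (v8 1 1 2 3 3 2 2 1),
    (v8 1 2 2 3 2 2 2 1),
    (v8 1 2 2 3 3 2 1 1),
    (v8 1 2 2 4 3 2 1 0),
    (v8 1 1 2 3 2 2 2 1),
    (v8 1 1 2 3 3 2 1 1),
    (v8 1 2 2 3 2 2 1 1),
    (v8 1 2 2 3 3 2 1 0),
    (v8 1 1 2 2 2 2 2 1),
    (v8 1 1 2 3 2 2 1 1),
    (v8 1 1 2 3 3 2 1 0),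
    (v8 1 2 2 3 2 1 1 1),
    (v8 1 2 2 3 2 2 1 0),
    (v8 1 1 1 2 2 2 2 1),
    (v8 1 1 2 2 2 2 1 1),
    (v8 1 1 2 3 2 1 1 1),
    (v8 1 1 2 3 2 2 1 0),
    (v8 1 2 2 3 2 1 1 0),
    (v8 0 1 1 2 2 2 2 1),
    (v8 1 1 1 2 2 2 1 1),
    (v8 1 1 2 2 2 1 1 1),
    (v8 1 1 2 2 2 2 1 0),
    (v8 1 1 2 3 2 1 1 0),
    (v8 1 2 2 3 2 1 0 0),
    (v8 0 1 1 2 2 2 1 1),
    (v8 1 1 1 2 2 1 1 1),
    (v8 1 1 1 2 2 2 1 0),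
    (v8 1 1 2 2 1 1 1 1),
    (v8 1 1 2 2 2 1 1 0),
    (v8 1 1 2 3 2 1 0 0),
    (v8 0 1 1 2 2 1 1 1),
    (v8 0 1 1 2 2 2 1 0),
    (v8 1 1 1 2 1 1 1 1),
    (v8 1 1 1 2 2 1 1 0),
    (v8 1 1 2 2 1 1 1 0),
    (v8 1 1 2 2 2 1 0 0),
    (v8 0 1 1 2 1 1 1 1),
    (v8 0 1 1 2 2 1 1 0),
    (v8 1 1 1 1 1 1 1 1),
    (v8 1 1 1 2 1 1 1 0),
    (v8 1 1 1 2 2 1 0 0),
    (v8 1 1 2 2 1 1 0 0),
    (v8 0 1 1 1 1 1 1 1),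
    (v8 0 1 1 2 1 1 1 0),
    (v8 0 1 1 2 2 1 0 0),
    (v8 1 0 1 1 1 1 1 1),
    (v8 1 1 1 1 1 1 1 0),
    (v8 1 1 1 2 1 1 0 0),
    (v8 1 1 2 2 1 0 0 0),
    (v8 0 0 1 1 1 1 1 1),
    (v8 0 1 0 1 1 1 1 1),
    (v8 0 1 1 1 1 1 1 0),
    (v8 0 1 1 2 1 1 0 0),
    (v8 1 0 1 1 1 1 1 0),
    (v8 1 1 1 1 1 1 0 0),
    (v8 1 1 1 2 1 0 0 0),
    (v8 0 0 0 1 1 1 1 1),
    (v8 0 0 1 1 1 1 1 0),
    (v8 0 1 0 1 1 1 1 0),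
    (v8 0 1 1 1 1 1 0 0),
    (v8 0 1 1 2 1 0 0 0),
    (v8 1 0 1 1 1 1 0 0),
    (v8 1 1 1 1 1 0 0 0),
    (v8 0 0 0 0 1 1 1 1),
    (v8 0 0 0 1 1 1 1 0),
    (v8 0 0 1 1 1 1 0 0),
    (v8 0 1 0 1 1 1 0 0),
    (v8 0 1 1 1 1 0 0 0),
    (v8 1 0 1 1 1 0 0 0),
    (v8 1 1 1 1 0 0 0 0),
    (v8 0 0 0 0 0 1 1 1),
    (v8 0 0 0 0 1 1 1 0),
    (v8 0 0 0 1 1 1 0 0),
    (v8 0 0 1 1 1 0 0 0),
    (v8 0 1 0 1 1 0 0 0),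
    (v8 0 1 1 1 0 0 0 0),
    (v8 1 0 1 1 0 0 0 0),
    (v8 0 0 0 0 0 0 1 1),
    (v8 0 0 0 0 0 1 1 0),
    (v8 0 0 0 0 1 1 0 0),
    (v8 0 0 0 1 1 0 0 0),
    (v8 0 0 1 1 0 0 0 0),
    (v8 0 1 0 1 0 0 0 0),
    (v8 1 0 1 0 0 0 0 0),
    (v8 0 0 0 0 0 0 0 1),
    (v8 0 0 0 0 0 0 1 0),
    (v8 0 0 0 0 0 1 0 0),
    (v8 0 0 0 0 1 0 0 0),
    (v8 0 0 0 1 0 0 0 0),
    (v8 0 0 1 0 0 0 0 0),
    (v8 0 1 0 0 0 0 0 0),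
    (v8 1 0 0 0 0 0 0 0),
    (v8 0 0 0 0 0 0 0 (-1)),
    (v8 0 0 0 0 0 0 (-1) 0),
    (v8 0 0 0 0 0 (-1) 0 0),
    (v8 0 0 0 0 (-1) 0 0 0),
    (v8 0 0 0 (-1) 0 0 0 0),
    (v8 0 0 (-1) 0 0 0 0 0),
    (v8 0 (-1) 0 0 0 0 0 0),
    (v8 (-1) 0 0 0 0 0 0 0),
    (v8 0 0 0 0 0 0 (-1) (-1)),
    (v8 0 0 0 0 0 (-1) (-1) 0),
    (v8 0 0 0 0 (-1) (-1) 0 0),
    (v8 0 0 0 (-1) (-1) 0 0 0),
    (v8 0 (-1) 0 (-1) 0 0 0 0),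
    (v8 0 0 (-1) (-1) 0 0 0 0),
    (v8 (-1) 0 (-1) 0 0 0 0 0),
    (v8 0 0 0 0 0 (-1) (-1) (-1)),
    (v8 0 0 0 0 (-1) (-1) (-1) 0),
    (v8 0 0 0 (-1) (-1) (-1) 0 0),
    (v8 0 (-1) 0 (-1) (-1) 0 0 0),
    (v8 0 0 (-1) (-1) (-1) 0 0 0),
    (v8 0 (-1) (-1) (-1) 0 0 0 0),
    (v8 (-1) 0 (-1) (-1) 0 0 0 0),
    (v8 0 0 0 0 (-1) (-1) (-1) (-1)),
    (v8 0 0 0 (-1) (-1) (-1) (-1) 0),
    (v8 0 (-1) 0 (-1) (-1) (-1) 0 0),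
    (v8 0 0 (-1) (-1) (-1) (-1) 0 0),
    (v8 0 (-1) (-1) (-1) (-1) 0 0 0),
    (v8 (-1) 0 (-1) (-1) (-1) 0 0 0),
    (v8 (-1) (-1) (-1) (-1) 0 0 0 0),
    (v8 0 0 0 (-1) (-1) (-1) (-1) (-1)),
    (v8 0 (-1) 0 (-1) (-1) (-1) (-1) 0),
    (v8 0 0 (-1) (-1) (-1) (-1) (-1) 0),
    (v8 0 (-1) (-1) (-1) (-1) (-1) 0 0),
    (v8 (-1) 0 (-1) (-1) (-1) (-1) 0 0),
    (v8 (-1) (-1) (-1) (-1) (-1) 0 0 0),
    (v8 0 (-1) (-1) (-2) (-1) 0 0 0),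
    (v8 0 (-1) 0 (-1) (-1) (-1) (-1) (-1)),
    (v8 0 0 (-1) (-1) (-1) (-1) (-1) (-1)),
    (v8 0 (-1) (-1) (-1) (-1) (-1) (-1) 0),
    (v8 (-1) 0 (-1) (-1) (-1) (-1) (-1) 0),
    (v8 (-1) (-1) (-1) (-1) (-1) (-1) 0 0),
    (v8 0 (-1) (-1) (-2) (-1) (-1) 0 0),
    (v8 (-1) (-1) (-1) (-2) (-1) 0 0 0),
    (v8 0 (-1) (-1) (-1) (-1) (-1) (-1) (-1)),
    (v8 (-1) 0 (-1) (-1) (-1) (-1) (-1) (-1)),
    (v8 (-1) (-1) (-1) (-1) (-1) (-1) (-1) 0),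
    (v8 0 (-1) (-1) (-2) (-1) (-1) (-1) 0),
    (v8 (-1) (-1) (-1) (-2) (-1) (-1) 0 0),
    (v8 0 (-1) (-1) (-2) (-2) (-1) 0 0),
    (v8 (-1) (-1) (-2) (-2) (-1) 0 0 0),
    (v8 (-1) (-1) (-1) (-1) (-1) (-1) (-1) (-1)),
    (v8 0 (-1) (-1) (-2) (-1) (-1) (-1) (-1)),
    (v8 (-1) (-1) (-1) (-2) (-1) (-1) (-1) 0),
    (v8 0 (-1) (-1) (-2) (-2) (-1) (-1) 0),
    (v8 (-1) (-1) (-2) (-2) (-1) (-1) 0 0),
    (v8 (-1) (-1) (-1) (-2) (-2) (-1) 0 0),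
    (v8 (-1) (-1) (-1) (-2) (-1) (-1) (-1) (-1)),
    (v8 0 (-1) (-1) (-2) (-2) (-1) (-1) (-1)),
    (v8 (-1) (-1) (-2) (-2) (-1) (-1) (-1) 0),
    (v8 (-1) (-1) (-1) (-2) (-2) (-1) (-1) 0),
    (v8 0 (-1) (-1) (-2) (-2) (-2) (-1) 0),
    (v8 (-1) (-1) (-2) (-2) (-2) (-1) 0 0),
    (v8 (-1) (-1) (-2) (-2) (-1) (-1) (-1) (-1)),
    (v8 (-1) (-1) (-1) (-2) (-2) (-1) (-1) (-1)),
    (v8 0 (-1) (-1) (-2) (-2) (-2) (-1) (-1)),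
    (v8 (-1) (-1) (-2) (-2) (-2) (-1) (-1) 0),
    (v8 (-1) (-1) (-1) (-2) (-2) (-2) (-1) 0),
    (v8 (-1) (-1) (-2) (-3) (-2) (-1) 0 0),
    (v8 (-1) (-1) (-2) (-2) (-2) (-1) (-1) (-1)),
    (v8 (-1) (-1) (-1) (-2) (-2) (-2) (-1) (-1)),
    (v8 0 (-1) (-1) (-2) (-2) (-2) (-2) (-1)),
    (v8 (-1) (-1) (-2) (-3) (-2) (-1) (-1) 0),
    (v8 (-1) (-1) (-2) (-2) (-2) (-2) (-1) 0),
    (v8 (-1) (-2) (-2) (-3) (-2) (-1) 0 0),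
    (v8 (-1) (-1) (-2) (-3) (-2) (-1) (-1) (-1)),
    (v8 (-1) (-1) (-2) (-2) (-2) (-2) (-1) (-1)),
    (v8 (-1) (-1) (-1) (-2) (-2) (-2) (-2) (-1)),
    (v8 (-1) (-2) (-2) (-3) (-2) (-1) (-1) 0),
    (v8 (-1) (-1) (-2) (-3) (-2) (-2) (-1) 0),
    (v8 (-1) (-2) (-2) (-3) (-2) (-1) (-1) (-1)),
    (v8 (-1) (-1) (-2) (-3) (-2) (-2) (-1) (-1)),
    (v8 (-1) (-1) (-2) (-2) (-2) (-2) (-2) (-1)),
    (v8 (-1) (-2) (-2) (-3) (-2) (-2) (-1) 0),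
    (v8 (-1) (-1) (-2) (-3) (-3) (-2) (-1) 0),
    (v8 (-1) (-2) (-2) (-3) (-2) (-2) (-1) (-1)),
    (v8 (-1) (-1) (-2) (-3) (-3) (-2) (-1) (-1)),
    (v8 (-1) (-1) (-2) (-3) (-2) (-2) (-2) (-1)),
    (v8 (-1) (-2) (-2) (-3) (-3) (-2) (-1) 0),
    (v8 (-1) (-2) (-2) (-3) (-3) (-2) (-1) (-1)),
    (v8 (-1) (-2) (-2) (-3) (-2) (-2) (-2) (-1)),
    (v8 (-1) (-1) (-2) (-3) (-3) (-2) (-2) (-1)),
    (v8 (-1) (-2) (-2) (-4) (-3) (-2) (-1) 0),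
    (v8 (-1) (-2) (-2) (-4) (-3) (-2) (-1) (-1)),
    (v8 (-1) (-2) (-2) (-3) (-3) (-2) (-2) (-1)),
    (v8 (-1) (-1) (-2) (-3) (-3) (-3) (-2) (-1)),
    (v8 (-1) (-2) (-3) (-4) (-3) (-2) (-1) 0),
    (v8 (-1) (-2) (-3) (-4) (-3) (-2) (-1) (-1)),
    (v8 (-1) (-2) (-2) (-4) (-3) (-2) (-2) (-1)),
    (v8 (-1) (-2) (-2) (-3) (-3) (-3) (-2) (-1)),
    (v8 (-2) (-2) (-3) (-4) (-3) (-2) (-1) 0),
    (v8 (-2) (-2) (-3) (-4) (-3) (-2) (-1) (-1)),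
    (v8 (-1) (-2) (-3) (-4) (-3) (-2) (-2) (-1)),
    (v8 (-1) (-2) (-2) (-4) (-3) (-3) (-2) (-1)),
    (v8 (-2) (-2) (-3) (-4) (-3) (-2) (-2) (-1)),
    (v8 (-1) (-2) (-3) (-4) (-3) (-3) (-2) (-1)),
    (v8 (-1) (-2) (-2) (-4) (-4) (-3) (-2) (-1)),
    (v8 (-2) (-2) (-3) (-4) (-3) (-3) (-2) (-1)),
    (v8 (-1) (-2) (-3) (-4) (-4) (-3) (-2) (-1)),
    (v8 (-2) (-2) (-3) (-4) (-4) (-3) (-2) (-1)),
    (v8 (-1) (-2) (-3) (-5) (-4) (-3) (-2) (-1)),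
    (v8 (-2) (-2) (-3) (-5) (-4) (-3) (-2) (-1)),
    (v8 (-1) (-3) (-3) (-5) (-4) (-3) (-2) (-1)),
    (v8 (-2) (-3) (-3) (-5) (-4) (-3) (-2) (-1)),
    (v8 (-2) (-2) (-4) (-5) (-4) (-3) (-2) (-1)),
    (v8 (-2) (-3) (-4) (-5) (-4) (-3) (-2) (-1)),
    (v8 (-2) (-3) (-4) (-6) (-4) (-3) (-2) (-1)),
    (v8 (-2) (-3) (-4) (-6) (-5) (-3) (-2) (-1)),
    (v8 (-2) (-3) (-4) (-6) (-5) (-4) (-2) (-1)),
    (v8 (-2) (-3) (-4) (-6) (-5) (-4) (-3) (-1)),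
    (v8 (-2) (-3) (-4) (-6) (-5) (-4) (-3) (-2))]

def e8cs0 : List (ℕ × Fin 8) :=
  [(0, 7), (1, 6), (2, 5), (3, 4), (4, 3), (5, 1), (5, 2), (6, 2), (7, 0), (8, 0), (8, 3), (10, 3), (11, 4), (12, 2), (12, 4), (13, 5), (14, 4), (15, 5), (16, 6), (17, 3), (17, 5), (18, 6), (19, 7), (20, 1), (20, 5), (21, 6), (22, 7), (24, 5), (25, 4), (25, 6), (26, 7), (28, 4), (28, 6), (29, 6), (30, 7), (32, 3), (32, 6), (33, 7), (34, 5), (34, 7), (36, 2), (36, 6), (37, 5), (37, 7), (39, 7), (41, 0), (41, 6), (42, 5), (42, 7), (43, 7), (45, 6), (46, 6), (47, 5), (47, 7), (48, 4), (48, 7), (50, 6), (52, 5), (52, 7), (53, 4), (53, 7), (55, 7), (56, 6), (58, 4), (58, 7), (60, 3), (60, 7), (61, 6), (62, 6), (64, 3), (64, 7), (65, 6), (66, 1), (66, 7), (67, 6), (69, 5), (70, 1), (70, 2), (70, 7), (71, 6), (73, 7), (74, 6), (75, 5), (77, 2),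 (77, 7), (78, 7), (79, 6), (80, 5), (81, 6), (82, 5), (84, 3), (84, 7), (85, 6), (86, 6), (87, 5), (89, 5), (90, 4), (91, 4), (91, 7), (92, 6), (93, 5), (94, 5), (95, 4), (96, 4), (98, 5), (98, 7), (99, 6), (100, 5), (101, 4), (102, 4), (104, 3), (105, 6), (105, 7), (106, 6), (107, 5), (108, 4), (109, 3), (110, 3), (111, 2), (112, 7), (113, 6), (114, 5), (115, 4), (116, 3), (117, 2), (118, 1), (119, 0), (120, 6), (121, 5), (122, 4), (123, 3), (124, 1), (124, 2), (125, 0), (128, 5), (129, 4), (130, 3), (131, 1), (131, 2), (132, 2), (133, 0), (135, 4), (136, 3), (137, 1), (137, 2), (138, 2), (139, 0), (140, 0), (142, 3), (143, 1), (143, 2), (144, 2), (145, 0), (146, 0), (146, 3), (149, 1), (149, 2), (150, 2), (151, 0), (152, 0), (152, 3), (154, 3), (156, 2), (157, 0), (158, 0), (158, 3), (160, 3), (161, 4), (162, 2), (163,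 0), (163, 3), (165, 3), (166, 4), (167, 2), (167, 4), (170, 3), (171, 4), (172, 2), (172, 4), (173, 5), (174, 4), (176, 2), (176, 4), (177, 5), (178, 4), (179, 5), (181, 3), (182, 4), (183, 5), (184, 6), (185, 3), (185, 5), (187, 1), (188, 3), (188, 5), (189, 6), (191, 1), (191, 5), (194, 1), (194, 5), (195, 6), (197, 5), (198, 4), (199, 5), (200, 4), (200, 6), (202, 4), (204, 4), (204, 6), (205, 6), (207, 3), (208, 3), (208, 6), (210, 5), (211, 2), (212, 2), (212, 6), (213, 5), (215, 0), (216, 0), (216, 6), (217, 5), (220, 6), (221, 5), (222, 4), (223, 5), (224, 4), (226, 4), (227, 3), (228, 3), (229, 1), (230, 1), (230, 2), (232, 2), (234, 3), (235, 4), (236, 5), (237, 6), (238, 7)]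

def e8J1 : Fin 8 → Bool := ![true, true, true, true, true, true, true, false]

def e8lam1 : Fin 8 → ℤ := ![4, 6, 8, 12, 10, 8, 6, 3]

def e8O1 : List (Fin 8 → ℤ) :=
  [(v8 4 6 8 12 10 8 5 3),
    (v8 4 6 8 12 10 7 5 3),
    (v8 4 6 8 12 9 7 5 3),
    (v8 4 6 8 11 9 7 5 3),
    (v8 4 5 8 11 9 7 5 3),
    (v8 4 6 7 11 9 7 5 3),
    (v8 4 5 7 11 9 7 5 3),
    (v8 3 6 7 11 9 7 5 3),
    (v8 3 5 7 11 9 7 5 3),
    (v8 4 5 7 10 9 7 5 3),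
    (v8 3 5 7 10 9 7 5 3),
    (v8 4 5 7 10 8 7 5 3),
    (v8 3 5 6 10 9 7 5 3),
    (v8 3 5 7 10 8 7 5 3),
    (v8 4 5 7 10 8 6 5 3),
    (v8 3 5 6 10 8 7 5 3),
    (v8 3 5 7 10 8 6 5 3),
    (v8 4 5 7 10 8 6 4 3),
    (v8 3 5 6 9 8 7 5 3),
    (v8 3 5 6 10 8 6 5 3),
    (v8 3 5 7 10 8 6 4 3),
    (v8 3 4 6 9 8 7 5 3),
    (v8 3 5 6 9 8 6 5 3),
    (v8 3 5 6 10 8 6 4 3),
    (v8 3 4 6 9 8 6 5 3),
    (v8 3 5 6 9 7 6 5 3),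
    (v8 3 5 6 9 8 6 4 3),
    (v8 3 4 6 9 7 6 5 3),
    (v8 3 4 6 9 8 6 4 3),
    (v8 3 5 6 9 7 6 4 3),
    (v8 3 4 6 8 7 6 5 3),
    (v8 3 4 6 9 7 6 4 3),
    (v8 3 5 6 9 7 5 4 3),
    (v8 3 4 5 8 7 6 5 3),
    (v8 3 4 6 8 7 6 4 3),
    (v8 3 4 6 9 7 5 4 3),
    (v8 2 4 5 8 7 6 5 3),
    (v8 3 4 5 8 7 6 4 3),
    (v8 3 4 6 8 7 5 4 3),
    (v8 2 4 5 8 7 6 4 3),
    (v8 3 4 5 8 7 5 4 3),
    (v8 3 4 6 8 6 5 4 3),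
    (v8 2 4 5 8 7 5 4 3),
    (v8 3 4 5 8 6 5 4 3),
    (v8 2 4 5 8 6 5 4 3),
    (v8 3 4 5 7 6 5 4 3),
    (v8 2 4 5 7 6 5 4 3),
    (v8 3 3 5 7 6 5 4 3),
    (v8 2 3 5 7 6 5 4 3),
    (v8 2 4 4 7 6 5 4 3),
    (v8 2 3 4 7 6 5 4 3),
    (v8 2 3 4 6 6 5 4 3),
    (v8 2 3 4 6 5 5 4 3),
    (v8 2 3 4 6 5 4 4 3),
    (v8 2 3 4 6 5 4 3 3)]

def e8cs1 : List (ℕ × Fin 8) :=
  [(0, 6), (1, 5), (2, 4), (3, 3), (4, 1), (4, 2), (5, 2), (6, 0), (7, 0), (7, 3), (9, 3), (10, 4), (11, 2), (11, 4), (12, 5), (13, 4), (14, 5), (15, 6), (16, 3), (16, 5), (17, 6), (19, 1), (19, 5), (20, 6), (22, 5), (23, 4), (23, 6), (25, 4), (25, 6), (26, 6), (28, 3), (28, 6), (30, 5), (31, 2), (31, 6), (32, 5), (34, 0), (34, 6), (35, 5), (37, 6), (38, 5), (39, 4), (40, 5), (41, 4), (43, 4), (44, 3), (45, 3), (46, 1), (47, 1), (47, 2), (49, 2), (51, 3),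 (52, 4), (53, 5), (54, 6)]

def e8J2 : Fin 8 → Bool := ![true, true, true, true, true, true, false, false]

def e8lam2 : Fin 8 → ℤ := ![6, 9, 12, 18, 15, 12, 8, 4]

def e8O2 : List (Fin 8 → ℤ) :=
  [(v8 6 9 12 18 15 11 8 4),
    (v8 6 9 12 18 14 11 8 4),
    (v8 6 9 12 17 14 11 8 4),
    (v8 6 8 12 17 14 11 8 4),
    (v8 6 9 11 17 14 11 8 4),
    (v8 6 8 11 17 14 11 8 4),
    (v8 5 9 11 17 14 11 8 4),
    (v8 5 8 11 17 14 11 8 4),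
    (v8 6 8 11 16 14 11 8 4),
    (v8 5 8 11 16 14 11 8 4),
    (v8 6 8 11 16 13 11 8 4),
    (v8 5 8 10 16 14 11 8 4),
    (v8 5 8 11 16 13 11 8 4),
    (v8 6 8 11 16 13 10 8 4),
    (v8 5 8 10 16 13 11 8 4),
    (v8 5 8 11 16 13 10 8 4),
    (v8 5 8 10 15 13 11 8 4),
    (v8 5 8 10 16 13 10 8 4),
    (v8 5 7 10 15 13 11 8 4),
    (v8 5 8 10 15 13 10 8 4),
    (v8 5 7 10 15 13 10 8 4),
    (v8 5 8 10 15 12 10 8 4),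
    (v8 5 7 10 15 12 10 8 4),
    (v8 5 7 10 14 12 10 8 4),
    (v8 5 7 9 14 12 10 8 4),
    (v8 4 7 9 14 12 10 8 4)]

def e8cs2 : List (ℕ × Fin 8) :=
  [(0, 5), (1, 4), (2, 3), (3, 1), (3, 2), (4, 2), (5, 0), (6, 0), (6, 3), (8, 3), (9, 4), (10, 2), (10, 4), (11, 5), (12, 4), (13, 5), (15, 3), (15, 5), (17, 1), (17, 5), (19, 5), (20, 4), (21, 4), (23, 3), (24, 2), (25, 0)]

def e8J3 : Fin 8 → Bool := ![true, true, true, true, true, false, false, false]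

def e8lam3 : Fin 8 → ℤ := ![8, 12, 16, 24, 20, 15, 10, 5]

def e8O3 : List (Fin 8 → ℤ) :=
  [(v8 8 12 16 24 19 15 10 5),
    (v8 8 12 16 23 19 15 10 5),
    (v8 8 11 16 23 19 15 10 5),
    (v8 8 12 15 23 19 15 10 5),
    (v8 8 11 15 23 19 15 10 5),
    (v8 7 12 15 23 19 15 10 5),
    (v8 7 11 15 23 19 15 10 5),
    (v8 8 11 15 22 19 15 10 5),
    (v8 7 11 15 22 19 15 10 5),
    (v8 8 11 15 22 18 15 10 5),
    (v8 7 11 14 22 19 15 10 5),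
    (v8 7 11 15 22 18 15 10 5),
    (v8 7 11 14 22 18 15 10 5),
    (v8 7 11 14 21 18 15 10 5),
    (v8 7 10 14 21 18 15 10 5)]

def e8cs3 : List (ℕ × Fin 8) :=
  [(0, 4), (1, 3), (2, 1), (2, 2), (3, 2), (4, 0), (5, 0), (5, 3), (7, 3), (8, 4), (9, 2), (9, 4), (11, 4), (13, 3), (14, 1)]

def e8J4 : Fin 8 → Bool := ![true, true, true, true, false, false, false, false]

def e8lam4 : Fin 8 → ℤ := ![5, 8, 10, 15, 12, 9, 6, 3]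

def e8O4 : List (Fin 8 → ℤ) :=
  [(v8 5 7 10 15 12 9 6 3),
    (v8 5 7 10 14 12 9 6 3),
    (v8 5 7 9 14 12 9 6 3),
    (v8 4 7 9 14 12 9 6 3)]

def e8cs4 : List (ℕ × Fin 8) :=
  [(0, 1), (1, 3), (2, 2), (3, 0)]

def e8J5 : Fin 8 → Bool := ![true, false, true, true, false, false, false, false]

def e8lam5 : Fin 8 → ℤ := ![10, 15, 20, 30, 24, 18, 12, 6]

def e8O5 : List (Fin 8 → ℤ) :=
  [(v8 10 15 20 29 24 18 12 6),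
    (v8 10 15 19 29 24 18 12 6),
    (v8 9 15 19 29 24 18 12 6)]

def e8cs5 : List (ℕ × Fin 8) :=
  [(0, 3), (1, 2), (2, 0)]

def e8J6 : Fin 8 → Bool := ![true, false, true, false, false, false, false, false]

def e8lam6 : Fin 8 → ℤ := ![7, 10, 14, 20, 16, 12, 8, 4]

def e8O6 : List (Fin 8 → ℤ) :=
  [(v8 7 10 13 20 16 12 8 4),
    (v8 6 10 13 20 16 12 8 4)]

def e8cs6 : List (ℕ × Fin 8) :=
  [(0, 2), (1, 0)]

def e8J7 : Fin 8 → Bool := ![true, false, false, false, false, false, false, false]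

def e8lam7 : Fin 8 → ℤ := ![4, 5, 7, 10, 8, 6, 4, 2]

def e8O7 : List (Fin 8 → ℤ) :=
  [(v8 3 5 7 10 8 6 4 2)]

def e8cs7 : List (ℕ × Fin 8) :=
  [(0, 0)]

def e8J8 : Fin 8 → Bool := ![false, false, false, false, false, false, false, false]

set_option maxRecDepth 1000000 in
set_option maxHeartbeats 0 in
theorem e8_card_step0 : Nat.card (e8Cert.WJ {i | e8J0 i = true}) =
    240 * Nat.card (e8Cert.WJ {i | e8J1 i = true}) := by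
  have h := e8Cert.card_WJ_cert e8J0 e8J1 e8lam0 e8O0 e8cs0
    (by decide +kernel) (by decide +kernel) (by decide +kernel) (by decide +kernel)
    (by decide +kernel) (by decide +kernel)
  exact h

set_option maxRecDepth 1000000 in
set_option maxHeartbeats 0 in
theorem e8_card_step1 : Nat.card (e8Cert.WJ {i | e8J1 i = true}) =
    56 * Nat.card (e8Cert.WJ {i | e8J2 i = true}) := by
  have h := e8Cert.card_WJ_cert e8J1 e8J2 e8lam1 e8O1 e8cs1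
    (by decide +kernel) (by decide +kernel) (by decide +kernel) (by decide +kernel)
    (by decide +kernel) (by decide +kernel)
  exact h

set_option maxRecDepth 1000000 in
set_option maxHeartbeats 0 in
theorem e8_card_step2 : Nat.card (e8Cert.WJ {i | e8J2 i = true}) =
    27 * Nat.card (e8Cert.WJ {i | e8J3 i = true}) := by
  have h := e8Cert.card_WJ_cert e8J2 e8J3 e8lam2 e8O2 e8cs2
    (by decide +kernel) (by decide +kernel) (by decide +kernel) (by decide +kernel)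
    (by decide +kernel) (by decide +kernel)
  exact h

set_option maxRecDepth 1000000 in
set_option maxHeartbeats 0 in
theorem e8_card_step3 : Nat.card (e8Cert.WJ {i | e8J3 i = true}) =
    16 * Nat.card (e8Cert.WJ {i | e8J4 i = true}) := by
  have h := e8Cert.card_WJ_cert e8J3 e8J4 e8lam3 e8O3 e8cs3
    (by decide +kernel) (by decide +kernel) (by decide +kernel) (by decide +kernel)
    (by decide +kernel) (by decide +kernel)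
  exact h

set_option maxRecDepth 1000000 in
set_option maxHeartbeats 0 in
theorem e8_card_step4 : Nat.card (e8Cert.WJ {i | e8J4 i = true}) =
    5 * Nat.card (e8Cert.WJ {i | e8J5 i = true}) := by
  have h := e8Cert.card_WJ_cert e8J4 e8J5 e8lam4 e8O4 e8cs4
    (by decide +kernel) (by decide +kernel) (by decide +kernel) (by decide +kernel)
    (by decide +kernel) (by decide +kernel)
  exact h

set_option maxRecDepth 1000000 in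
set_option maxHeartbeats 0 in
theorem e8_card_step5 : Nat.card (e8Cert.WJ {i | e8J5 i = true}) =
    4 * Nat.card (e8Cert.WJ {i | e8J6 i = true}) := by
  have h := e8Cert.card_WJ_cert e8J5 e8J6 e8lam5 e8O5 e8cs5
    (by decide +kernel) (by decide +kernel) (by decide +kernel) (by decide +kernel)
    (by decide +kernel) (by decide +kernel)
  exact h

set_option maxRecDepth 1000000 in
set_option maxHeartbeats 0 in
theorem e8_card_step6 : Nat.card (e8Cert.WJ {i | e8J6 i = true}) =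
    3 * Nat.card (e8Cert.WJ {i | e8J7 i = true}) := by
  have h := e8Cert.card_WJ_cert e8J6 e8J7 e8lam6 e8O6 e8cs6
    (by decide +kernel) (by decide +kernel) (by decide +kernel) (by decide +kernel)
    (by decide +kernel) (by decide +kernel)
  exact h

set_option maxRecDepth 1000000 in
set_option maxHeartbeats 0 in
theorem e8_card_step7 : Nat.card (e8Cert.WJ {i | e8J7 i = true}) =
    2 * Nat.card (e8Cert.WJ {i | e8J8 i = true}) := by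
  have h := e8Cert.card_WJ_cert e8J7 e8J8 e8lam7 e8O7 e8cs7
    (by decide +kernel) (by decide +kernel) (by decide +kernel) (by decide +kernel)
    (by decide +kernel) (by decide +kernel)
  exact h

theorem e8_card_J8 : Nat.card (e8Cert.WJ {i | e8J8 i = true}) = 1 :=
  e8Cert.card_WJ_empty e8J8 (by decide)

theorem e8_card_J0 : Nat.card (e8Cert.WJ {i | e8J0 i = true}) = 696729600 := by
  rw [e8_card_step0, e8_card_step1, e8_card_step2, e8_card_step3, e8_card_step4, e8_card_step5,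
    e8_card_step6, e8_card_step7, e8_card_J8]

theorem e8_card_J1 : Nat.card (e8Cert.WJ {i | e8J1 i = true}) = 2903040 := by
  rw [e8_card_step1, e8_card_step2, e8_card_step3, e8_card_step4, e8_card_step5,
    e8_card_step6, e8_card_step7, e8_card_J8]

theorem e8_card_J2 : Nat.card (e8Cert.WJ {i | e8J2 i = true}) = 51840 := by
  rw [e8_card_step2, e8_card_step3, e8_card_step4, e8_card_step5,
    e8_card_step6, e8_card_step7, e8_card_J8]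

end Cfsg.Agent.Lib.helper3
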