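import Mathlib
import Cfsg.Agent.Lib.helper3.CoxCenterB
import Cfsg.Agent.Lib.helper3.CoxCardSmall
import Cfsg.Agent.Lib.helper3.CoxE8Card

set_option autoImplicit false

namespace Cfsg.Agent.Lib.helper3

def b2coxPh : Matrix (Fin 2) (Fin 2) ℤ :=
  (mb2 (vb2 (-1) 0) (vb2 0 (-1)))

set_option maxRecDepth 1000000 in
theorem b2cox_pow_half : b2coxCm ^ 2 = b2coxPh := by
  have p1 : b2coxCm ^ 1 = b2coxCm := pow_one _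
  have p2 : b2coxCm ^ 2 = b2coxPh := by
    show b2coxCm ^ (1 + 1) = b2coxPh
    rw [pow_add, p1]
    decide +kernel
  exact p2

def b2coxd : Fin 2 → ℕ := ![0, 1]

set_option maxRecDepth 1000000 in
theorem b2cox_center : Nat.card (Subgroup.center (CoxeterMatrix.B 2).Group) = 2 ∧
    Subgroup.center (CoxeterMatrix.B 2).Group ≤ Subgroup.zpowers (((List.finRange 2).map (CoxeterMatrix.B 2).simple).prod) :=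
  b2Cert.center_result_two b2coxe b2coxe_inj (CoxeterMatrix.B 2) (by decide) b2cJ0 (by decide)
    0 b2coxd (by decide) (by decide) 2 b2coxPh (by rw [b2cox_prod]; exact b2cox_pow_half)
    (by decide +kernel)

def g2coxPh : Matrix (Fin 2) (Fin 2) ℤ :=
  (mg2 (vg2 (-1) 0) (vg2 0 (-1)))

set_option maxRecDepth 1000000 in
theorem g2cox_pow_half : g2coxCm ^ 3 = g2coxPh := by
  have p1 : g2coxCm ^ 1 = g2coxCm := pow_one _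
  have p2 : g2coxCm ^ 2 = (mg2 (vg2 1 (-3)) (vg2 1 (-2))) := by
    show g2coxCm ^ (1 + 1) = (mg2 (vg2 1 (-3)) (vg2 1 (-2)))
    rw [pow_add, p1]
    decide +kernel
  have p3 : g2coxCm ^ 3 = g2coxPh := by
    show g2coxCm ^ (2 + 1) = g2coxPh
    rw [pow_add, p2, p1]
    decide +kernel
  exact p3

def g2coxd : Fin 2 → ℕ := ![0, 1]

set_option maxRecDepth 1000000 in
theorem g2cox_center : Nat.card (Subgroup.center (CoxeterMatrix.G₂).Group) = 2 ∧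
    Subgroup.center (CoxeterMatrix.G₂).Group ≤ Subgroup.zpowers (((List.finRange 2).map (CoxeterMatrix.G₂).simple).prod) :=
  g2Cert.center_result_two g2coxe g2coxe_inj (CoxeterMatrix.G₂) (by decide) g2cJ0 (by decide)
    0 g2coxd (by decide) (by decide) 3 g2coxPh (by rw [g2cox_prod]; exact g2cox_pow_half)
    (by decide +kernel)

def f4coxPh : Matrix (Fin 4) (Fin 4) ℤ :=
  (mf4 (vf4 (-1) 0 0 0) (vf4 0 (-1) 0 0) (vf4 0 0 (-1) 0) (vf4 0 0 0 (-1)))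

set_option maxRecDepth 1000000 in
theorem f4cox_pow_half : f4coxCm ^ 6 = f4coxPh := by
  have p1 : f4coxCm ^ 1 = f4coxCm := pow_one _
  have p2 : f4coxCm ^ 2 = (mf4 (vf4 1 1 (-1) 0) (vf4 1 2 (-1) (-1)) (vf4 2 2 (-1) (-1)) (vf4 0 2 (-1) 0)) := by
    show f4coxCm ^ (1 + 1) = (mf4 (vf4 1 1 (-1) 0) (vf4 1 2 (-1) (-1)) (vf4 2 2 (-1) (-1)) (vf4 0 2 (-1) 0))
    rw [pow_add, p1]
    decide +kernel
  have p3 : f4coxCm ^ 3 = (mf4 (vf4 1 0 0 (-1)) (vf4 2 1 (-1) (-1)) (vf4 2 2 (-1) (-2)) (vf4 2 0 0 (-1))) := by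
    show f4coxCm ^ (2 + 1) = (mf4 (vf4 1 0 0 (-1)) (vf4 2 1 (-1) (-1)) (vf4 2 2 (-1) (-2)) (vf4 2 0 0 (-1)))
    rw [pow_add, p2, p1]
    decide +kernel
  have p6 : f4coxCm ^ 6 = f4coxPh := by
    show f4coxCm ^ (3 + 3) = f4coxPh
    rw [pow_add, p3]
    decide +kernel
  exact p6

def f4coxd : Fin 4 → ℕ := ![0, 1, 2, 3]

set_option maxRecDepth 1000000 in
theorem f4cox_center : Nat.card (Subgroup.center (CoxeterMatrix.F₄).Group) = 2 ∧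
    Subgroup.center (CoxeterMatrix.F₄).Group ≤ Subgroup.zpowers (((List.finRange 4).map (CoxeterMatrix.F₄).simple).prod) :=
  f4Cert.center_result_two f4coxe f4coxe_inj (CoxeterMatrix.F₄) (by decide) f4cJ0 (by decide)
    0 f4coxd (by decide) (by decide) 6 f4coxPh (by rw [f4cox_prod]; exact f4cox_pow_half)
    (by decide +kernel)

def d4coxPh : Matrix (Fin 8) (Fin 8) ℤ :=
  (m8 (v8 1 0 0 0 0 0 0 0) (v8 1 (-1) 0 0 0 1 0 0) (v8 2 0 (-1) 0 0 1 0 0) (v8 2 0 0 (-1) 0 2 0 0) (v8 1 0 0 0 (-1) 2 0 0) (v8 0 0 0 0 0 1 0 0) (v8 0 0 0 0 0 0 1 0) (v8 0 0 0 0 0 0 0 1))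

set_option maxRecDepth 1000000 in
theorem d4cox_pow_half : d4coxCm ^ 3 = d4coxPh := by
  have p1 : d4coxCm ^ 1 = d4coxCm := pow_one _
  have p2 : d4coxCm ^ 2 = (m8 (v8 1 0 0 0 0 0 0 0) (v8 1 1 0 (-1) 0 1 0 0) (v8 1 1 0 0 (-1) 1 0 0) (v8 2 1 (-1) 0 (-1) 2 0 0) (v8 1 1 (-1) 0 0 1 0 0) (v8 0 0 0 0 0 1 0 0) (v8 0 0 0 0 0 0 1 0) (v8 0 0 0 0 0 0 0 1)) := by
    show d4coxCm ^ (1 + 1) = (m8 (v8 1 0 0 0 0 0 0 0) (v8 1 1 0 (-1) 0 1 0 0) (v8 1 1 0 0 (-1) 1 0 0) (v8 2 1 (-1) 0 (-1) 2 0 0) (v8 1 1 (-1) 0 0 1 0 0) (v8 0 0 0 0 0 1 0 0) (v8 0 0 0 0 0 0 1 0) (v8 0 0 0 0 0 0 0 1))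
    rw [pow_add, p1]
    decide +kernel
  have p3 : d4coxCm ^ 3 = d4coxPh := by
    show d4coxCm ^ (2 + 1) = d4coxPh
    rw [pow_add, p2, p1]
    decide +kernel
  exact p3

def d4coxd : Fin 8 → ℕ := ![0, 0, 2, 1, 2, 0, 0, 0]

set_option maxRecDepth 1000000 in
theorem d4cox_center : Nat.card (Subgroup.center (Cfsg.Lie.coxeterD4).Group) = 2 ∧
    Subgroup.center (Cfsg.Lie.coxeterD4).Group ≤ Subgroup.zpowers (((List.finRange 4).map (Cfsg.Lie.coxeterD4).simple).prod) :=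
  e8Cert.center_result_two d4coxe d4coxe_inj (Cfsg.Lie.coxeterD4) (by decide) d4cJ0 (by decide)
    1 d4coxd (by decide) (by decide) 3 d4coxPh (by rw [d4cox_prod]; exact d4cox_pow_half)
    (by decide +kernel)

def e7coxPh : Matrix (Fin 8) (Fin 8) ℤ :=
  (m8 (v8 (-1) 0 0 0 0 0 0 2) (v8 0 (-1) 0 0 0 0 0 3) (v8 0 0 (-1) 0 0 0 0 4) (v8 0 0 0 (-1) 0 0 0 6) (v8 0 0 0 0 (-1) 0 0 5) (v8 0 0 0 0 0 (-1) 0 4) (v8 0 0 0 0 0 0 (-1) 3) (v8 0 0 0 0 0 0 0 1))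

set_option maxRecDepth 1000000 in
theorem e7cox_pow_half : e7coxCm ^ 9 = e7coxPh := by
  have p1 : e7coxCm ^ 1 = e7coxCm := pow_one _
  have p2 : e7coxCm ^ 2 = (m8 (v8 0 0 1 0 0 (-1) 0 1) (v8 1 1 0 0 0 (-1) 0 1) (v8 0 1 1 0 0 (-1) (-1) 2) (v8 1 1 1 0 0 (-1) (-1) 2) (v8 0 1 1 0 0 (-1) 0 1) (v8 0 0 0 1 0 (-1) 0 1) (v8 0 0 0 0 1 (-1) 0 1) (v8 0 0 0 0 0 0 0 1)) := by
    show e7coxCm ^ (1 + 1) = (m8 (v8 0 0 1 0 0 (-1) 0 1) (v8 1 1 0 0 0 (-1) 0 1) (v8 0 1 1 0 0 (-1) (-1) 2) (v8 1 1 1 0 0 (-1) (-1) 2) (v8 0 1 1 0 0 (-1) 0 1) (v8 0 0 0 1 0 (-1) 0 1) (v8 0 0 0 0 1 (-1) 0 1) (v8 0 0 0 0 0 0 0 1))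
    rw [pow_add, p1]
    decide +kernel
  have p4 : e7coxCm ^ 4 = (m8 (v8 0 1 1 (-1) 0 0 (-1) 2) (v8 1 1 1 (-1) 0 (-1) 0 2) (v8 1 2 1 (-1) (-1) 0 (-1) 3) (v8 1 2 2 (-1) (-1) (-1) (-1) 4) (v8 1 2 1 (-1) 0 (-1) (-1) 3) (v8 1 1 1 (-1) 0 0 (-1) 2) (v8 0 1 1 (-1) 0 0 0 1) (v8 0 0 0 0 0 0 0 1)) := by
    show e7coxCm ^ (2 + 2) = (m8 (v8 0 1 1 (-1) 0 0 (-1) 2) (v8 1 1 1 (-1) 0 (-1) 0 2) (v8 1 2 1 (-1) (-1) 0 (-1) 3) (v8 1 2 2 (-1) (-1) (-1) (-1) 4) (v8 1 2 1 (-1) 0 (-1) (-1) 3) (v8 1 1 1 (-1) 0 0 (-1) 2) (v8 0 1 1 (-1) 0 0 0 1) (v8 0 0 0 0 0 0 0 1))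
    rw [pow_add, p2]
    decide +kernel
  have p8 : e7coxCm ^ 8 = (m8 (v8 1 0 (-1) 0 0 0 0 2) (v8 0 1 0 (-1) 0 0 0 3) (v8 1 0 0 (-1) 0 0 0 4) (v8 1 1 0 (-1) (-1) 0 0 6) (v8 1 1 0 (-1) 0 (-1) 0 5) (v8 1 1 0 (-1) 0 0 (-1) 4) (v8 1 1 0 (-1) 0 0 0 2) (v8 0 0 0 0 0 0 0 1)) := by
    show e7coxCm ^ (4 + 4) = (m8 (v8 1 0 (-1) 0 0 0 0 2) (v8 0 1 0 (-1) 0 0 0 3) (v8 1 0 0 (-1) 0 0 0 4) (v8 1 1 0 (-1) (-1) 0 0 6) (v8 1 1 0 (-1) 0 (-1) 0 5) (v8 1 1 0 (-1) 0 0 (-1) 4) (v8 1 1 0 (-1) 0 0 0 2) (v8 0 0 0 0 0 0 0 1))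
    rw [pow_add, p4]
    decide +kernel
  have p9 : e7coxCm ^ 9 = e7coxPh := by
    show e7coxCm ^ (8 + 1) = e7coxPh
    rw [pow_add, p8, p1]
    decide +kernel
  exact p9

def e7coxd : Fin 8 → ℕ := ![0, 3, 1, 2, 3, 4, 5, 0]

set_option maxRecDepth 1000000 in
theorem e7cox_center : Nat.card (Subgroup.center (CoxeterMatrix.E₇).Group) = 2 ∧
    Subgroup.center (CoxeterMatrix.E₇).Group ≤ Subgroup.zpowers (((List.finRange 7).map (CoxeterMatrix.E₇).simple).prod) :=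
  e8Cert.center_result_two e7coxe e7coxe_inj (CoxeterMatrix.E₇) (by decide) e8J1 (by decide)
    0 e7coxd (by decide) (by decide) 9 e7coxPh (by rw [e7cox_prod]; exact e7cox_pow_half)
    (by decide +kernel)

def e8coxPh : Matrix (Fin 8) (Fin 8) ℤ :=
  (m8 (v8 (-1) 0 0 0 0 0 0 0) (v8 0 (-1) 0 0 0 0 0 0) (v8 0 0 (-1) 0 0 0 0 0) (v8 0 0 0 (-1) 0 0 0 0) (v8 0 0 0 0 (-1) 0 0 0) (v8 0 0 0 0 0 (-1) 0 0) (v8 0 0 0 0 0 0 (-1) 0) (v8 0 0 0 0 0 0 0 (-1)))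

set_option maxRecDepth 1000000 in
theorem e8cox_pow_half : e8coxCm ^ 15 = e8coxPh := by
  have p1 : e8coxCm ^ 1 = e8coxCm := pow_one _
  have p2 : e8coxCm ^ 2 = (m8 (v8 0 0 1 0 0 0 (-1) 0) (v8 1 1 0 0 0 0 (-1) 0) (v8 0 1 1 0 0 0 (-1) (-1)) (v8 1 1 1 0 0 0 (-1) (-1)) (v8 0 1 1 0 0 0 (-1) 0) (v8 0 0 0 1 0 0 (-1) 0) (v8 0 0 0 0 1 0 (-1) 0) (v8 0 0 0 0 0 1 (-1) 0)) := by
    show e8coxCm ^ (1 + 1) = (m8 (v8 0 0 1 0 0 0 (-1) 0) (v8 1 1 0 0 0 0 (-1) 0) (v8 0 1 1 0 0 0 (-1) (-1)) (v8 1 1 1 0 0 0 (-1) (-1)) (v8 0 1 1 0 0 0 (-1) 0) (v8 0 0 0 1 0 0 (-1) 0) (v8 0 0 0 0 1 0 (-1) 0) (v8 0 0 0 0 0 1 (-1) 0))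
    rw [pow_add, p1]
    decide +kernel
  have p3 : e8coxCm ^ 3 = (m8 (v8 1 1 0 0 0 (-1) 0 0) (v8 0 1 1 0 0 (-1) 0 (-1)) (v8 1 1 1 0 0 (-1) (-1) 0) (v8 1 2 1 0 0 (-1) (-1) (-1)) (v8 1 1 1 0 0 (-1) 0 (-1)) (v8 0 1 1 0 0 (-1) 0 0) (v8 0 0 0 1 0 (-1) 0 0) (v8 0 0 0 0 1 (-1) 0 0)) := by
    show e8coxCm ^ (2 + 1) = (m8 (v8 1 1 0 0 0 (-1) 0 0) (v8 0 1 1 0 0 (-1) 0 (-1)) (v8 1 1 1 0 0 (-1) (-1) 0) (v8 1 2 1 0 0 (-1) (-1) (-1)) (v8 1 1 1 0 0 (-1) 0 (-1)) (v8 0 1 1 0 0 (-1) 0 0) (v8 0 0 0 1 0 (-1) 0 0) (v8 0 0 0 0 1 (-1) 0 0))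
    rw [pow_add, p2, p1]
    decide +kernel
  have p6 : e8coxCm ^ 6 = (m8 (v8 1 1 0 0 0 (-1) 0 (-1)) (v8 1 1 1 0 (-1) 0 (-1) (-1)) (v8 2 2 1 (-1) 0 (-1) (-1) (-1)) (v8 2 3 2 (-1) (-1) (-1) (-1) (-2)) (v8 2 2 1 0 (-1) (-1) (-1) (-1)) (v8 1 1 1 0 0 (-1) (-1) (-1)) (v8 1 1 0 0 0 0 (-1) (-1)) (v8 1 0 0 0 0 0 0 (-1))) := by
    show e8coxCm ^ (3 + 3) = (m8 (v8 1 1 0 0 0 (-1) 0 (-1)) (v8 1 1 1 0 (-1) 0 (-1) (-1)) (v8 2 2 1 (-1) 0 (-1) (-1) (-1)) (v8 2 3 2 (-1) (-1) (-1) (-1) (-2)) (v8 2 2 1 0 (-1) (-1) (-1) (-1)) (v8 1 1 1 0 0 (-1) (-1) (-1)) (v8 1 1 0 0 0 0 (-1) (-1)) (v8 1 0 0 0 0 0 0 (-1)))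
    rw [pow_add, p3]
    decide +kernel
  have p7 : e8coxCm ^ 7 = (m8 (v8 0 1 1 0 (-1) 0 (-1) 0) (v8 1 2 1 (-1) 0 (-1) (-1) 0) (v8 1 2 1 0 (-1) (-1) (-1) (-1)) (v8 2 3 2 (-1) (-1) (-1) (-2) (-1)) (v8 1 3 2 (-1) (-1) (-1) (-1) (-1)) (v8 1 2 1 0 (-1) (-1) (-1) 0) (v8 0 1 1 0 0 (-1) (-1) 0) (v8 0 1 0 0 0 0 (-1) 0)) := by
    show e8coxCm ^ (6 + 1) = (m8 (v8 0 1 1 0 (-1) 0 (-1) 0) (v8 1 2 1 (-1) 0 (-1) (-1) 0) (v8 1 2 1 0 (-1) (-1) (-1) (-1)) (v8 2 3 2 (-1) (-1) (-1) (-2) (-1)) (v8 1 3 2 (-1) (-1) (-1) (-1) (-1)) (v8 1 2 1 0 (-1) (-1) (-1) 0) (v8 0 1 1 0 0 (-1) (-1) 0) (v8 0 1 0 0 0 0 (-1) 0))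
    rw [pow_add, p6, p1]
    decide +kernel
  have p14 : e8coxCm ^ 14 = (m8 (v8 1 0 (-1) 0 0 0 0 0) (v8 0 1 0 (-1) 0 0 0 0) (v8 1 0 0 (-1) 0 0 0 0) (v8 1 1 0 (-1) (-1) 0 0 0) (v8 1 1 0 (-1) 0 (-1) 0 0) (v8 1 1 0 (-1) 0 0 (-1) 0) (v8 1 1 0 (-1) 0 0 0 (-1)) (v8 1 1 0 (-1) 0 0 0 0)) := by
    show e8coxCm ^ (7 + 7) = (m8 (v8 1 0 (-1) 0 0 0 0 0) (v8 0 1 0 (-1) 0 0 0 0) (v8 1 0 0 (-1) 0 0 0 0) (v8 1 1 0 (-1) (-1) 0 0 0) (v8 1 1 0 (-1) 0 (-1) 0 0) (v8 1 1 0 (-1) 0 0 (-1) 0) (v8 1 1 0 (-1) 0 0 0 (-1)) (v8 1 1 0 (-1) 0 0 0 0))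
    rw [pow_add, p7]
    decide +kernel
  have p15 : e8coxCm ^ 15 = e8coxPh := by
    show e8coxCm ^ (14 + 1) = e8coxPh
    rw [pow_add, p14, p1]
    decide +kernel
  exact p15

def e8coxd : Fin 8 → ℕ := ![0, 3, 1, 2, 3, 4, 5, 6]

set_option maxRecDepth 1000000 in
theorem e8cox_center : Nat.card (Subgroup.center (CoxeterMatrix.E₈).Group) = 2 ∧
    Subgroup.center (CoxeterMatrix.E₈).Group ≤ Subgroup.zpowers (((List.finRange 8).map (CoxeterMatrix.E₈).simple).prod) :=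
  e8Cert.center_result_two e8coxe e8coxe_inj (CoxeterMatrix.E₈) (by decide) e8J0 (by decide)
    0 e8coxd (by decide) (by decide) 15 e8coxPh (by rw [e8cox_prod]; exact e8cox_pow_half)
    (by decide +kernel)

def e6coxd : Fin 8 → ℕ := ![0, 3, 1, 2, 3, 4, 0, 0]

set_option maxRecDepth 1000000 in
theorem e6cox_center : Nat.card (Subgroup.center (CoxeterMatrix.E₆).Group) = 1 ∧
    Subgroup.center (CoxeterMatrix.E₆).Group ≤ Subgroup.zpowers (((List.finRange 6).map (CoxeterMatrix.E₆).simple).prod) :=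
  e8Cert.center_result_one e6coxe e6coxe_inj (CoxeterMatrix.E₆) (by decide) e8J2 (by decide)
    0 e6coxd (by decide) (by decide) e8lam2 (e8lam2 :: e8O2) (List.mem_cons_self)
    (by decide +kernel) (by decide +kernel)

end Cfsg.Agent.Lib.helper3
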