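import Mathlib
import Cfsg.Agent.Lib.helper3.CoxMat

set_option autoImplicit false

namespace Cfsg.Agent.Lib.helper3

namespace RootCert

variable {n : ℕ} (R : RootCert n)

/-- a faithful integral matrix representation of the presented Coxeter group -/
theorem exists_matHom {l : ℕ} (e : Fin l → Fin n) (he : Function.Injective e)
    (M : CoxeterMatrix (Fin l))
    (hM : ∀ b b', b ≠ b' → (R.C (e b) (e b'), R.C (e b') (e b), M b b') ∈
      ([(0, 0, 2), (-1, -1, 3), (-1, -2, 4), (-2, -1, 4), (-1, -3, 6), (-3, -1, 6)] :
        List (ℤ × ℤ × ℕ))) :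
    ∃ ψ : M.Group →* Matrix (Fin n) (Fin n) ℤ, Function.Injective ψ ∧
      ∀ b, ψ (M.simple b) = R.refMat (e b) := by
  obtain ⟨cs, hcs⟩ := R.coxeterSystem e he M hM
  refine ⟨(toMat n).comp ((R.WJ (Set.range e)).subtype.comp cs.mulEquiv.symm.toMonoidHom), ?_, ?_⟩
  · intro x y h
    have h1 := toMat_injective n h
    have h2 := Subtype.ext_iff.2 h1
    exact cs.mulEquiv.symm.injective h2
  · intro b
    show toMat n ((cs.mulEquiv.symm (M.simple b) : R.WJ (Set.range e)) : GLn n) = _
    have : cs.mulEquiv.symm (M.simple b) = cs.simple b := rfl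
    rw [this, hcs b, R.toMat_rL]

/-- generation of the presented group by the Coxeter element and some simple reflections -/
theorem gen_result {l : ℕ} (e : Fin l → Fin n) (he : Function.Injective e)
    (M : CoxeterMatrix (Fin l))
    (hM : ∀ b b', b ≠ b' → (R.C (e b) (e b'), R.C (e b') (e b), M b b') ∈
      ([(0, 0, 2), (-1, -1, 3), (-1, -2, 4), (-2, -1, 4), (-1, -3, 6), (-3, -1, 6)] :
        List (ℤ × ℤ × ℕ)))
    (ts : List (Fin l)) (hts : ts.Nodup)
    (hall : ∀ b, R.refMat (e b) ∈ Submonoid.closure
      ({((List.finRange l).map (fun b => R.refMat (e b))).prod} ∪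
        {A | ∃ t ∈ ts, A = R.refMat (e t)})) :
    ∃ T : Finset M.Group, T.card = ts.length ∧
      (∀ t ∈ T, ∃ (g : M.Group) (i : Fin l), t = g * M.simple i * g⁻¹) ∧
      Subgroup.closure (({((List.finRange l).map M.simple).prod} : Set M.Group) ∪ ↑T) = ⊤ := by
  classical
  obtain ⟨ψ, hψ, hψs⟩ := R.exists_matHom e he M hM
  have hsinj : Function.Injective M.simple := by
    intro b b' h
    have h1 : R.refMat (e b) = R.refMat (e b') := by rw [← hψs, ← hψs, h]
    rw [← R.toMat_rL, ← R.toMat_rL] at h1
    exact he (R.rL_injective (toMat_injective n h1))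
  refine ⟨(ts.map M.simple).toFinset, ?_, ?_, ?_⟩
  · rw [List.toFinset_card_of_nodup (hts.map hsinj), List.length_map]
  · intro t ht
    rw [List.mem_toFinset, List.mem_map] at ht
    obtain ⟨i, _, rfl⟩ := ht
    exact ⟨1, i, by rw [one_mul, inv_one, mul_one]⟩
  · set H := Subgroup.closure (({((List.finRange l).map M.simple).prod} : Set M.Group) ∪
      ↑(ts.map M.simple).toFinset) with hH
    have hsub : Submonoid.closure
        ({((List.finRange l).map (fun b => R.refMat (e b))).prod} ∪
          {A | ∃ t ∈ ts, A = R.refMat (e t)}) ≤ H.toSubmonoid.map ψ := by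
      rw [Submonoid.closure_le]
      rintro A (hA | ⟨t, ht, rfl⟩)
      · rw [Set.mem_singleton_iff] at hA
        refine ⟨((List.finRange l).map M.simple).prod, ?_, ?_⟩
        · exact Subgroup.subset_closure (Or.inl rfl)
        · rw [hA, map_list_prod, List.map_map]
          congr 1
          apply List.map_congr_left
          intro b _
          exact hψs b
      · refine ⟨M.simple t, ?_, hψs t⟩
        apply Subgroup.subset_closure
        right
        rw [Finset.mem_coe, List.mem_toFinset]
        exact List.mem_map_of_mem ht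
    have hmem : ∀ b, M.simple b ∈ H := by
      intro b
      obtain ⟨x, hx, hxb⟩ := hsub (hall b)
      rw [← hψs b] at hxb
      rw [← hψ hxb]
      exact hx
    rw [eq_top_iff, ← M.toCoxeterSystem.subgroup_closure_range_simple, Subgroup.closure_le]
    rintro x ⟨b, rfl⟩
    exact hmem b

end RootCert

end Cfsg.Agent.Lib.helper3
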