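import Mathlib
import Cfsg.Agent.Lib.helper3.CoxGen
import Cfsg.Agent.Lib.helper3.CoxSmall
import Cfsg.Agent.Lib.helper3.CoxElt

set_option autoImplicit false

namespace Cfsg.Agent.Lib.helper3

def b2coxPinv : Matrix (Fin 2) (Fin 2) ℤ :=
  (mb2 (vb2 (-1) 2) (vb2 (-1) 1))

set_option maxRecDepth 1000000 in
theorem b2cox_pow_inv : b2coxCm ^ 3 = b2coxPinv := by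
  have p1 : b2coxCm ^ 1 = b2coxCm := pow_one _
  have p2 : b2coxCm ^ 2 = (mb2 (vb2 (-1) 0) (vb2 0 (-1))) := by
    show b2coxCm ^ (1 + 1) = (mb2 (vb2 (-1) 0) (vb2 0 (-1)))
    rw [pow_add, p1]
    decide +kernel
  have p3 : b2coxCm ^ 3 = b2coxPinv := by
    show b2coxCm ^ (2 + 1) = b2coxPinv
    rw [pow_add, p2, p1]
    decide +kernel
  exact p3

set_option maxRecDepth 1000000 in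
theorem b2cox_gen_all : ∀ b, b2Cert.refMat (b2coxe b) ∈ Submonoid.closure
    ({((List.finRange 2).map (fun b => b2Cert.refMat (b2coxe b))).prod} ∪
      {A | ∃ t ∈ ([0] : List (Fin 2)), A = b2Cert.refMat (b2coxe t)}) := by
  rw [b2cox_prod]
  set G0 := Submonoid.closure
    ({b2coxCm} ∪ {A | ∃ t ∈ ([0] : List (Fin 2)), A = b2Cert.refMat (b2coxe t)}) with hG0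
  have hC : b2coxCm ∈ G0 := Submonoid.subset_closure (Or.inl rfl)
  have hP : b2coxPinv ∈ G0 := by
    rw [← b2cox_pow_inv]
    exact pow_mem hC _
  have hr0 : (mb2 (vb2 (-1) 2) (vb2 0 1)) ∈ G0 := by
    rw [show (mb2 (vb2 (-1) 2) (vb2 0 1)) = b2Cert.refMat (b2coxe 0) from by decide +kernel]
    exact Submonoid.subset_closure (Or.inr ⟨0, by simp, rfl⟩)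
  have hr2 : (mb2 (vb2 1 0) (vb2 1 (-1))) ∈ G0 := by
    rw [show (mb2 (vb2 1 0) (vb2 1 (-1))) = (mb2 (vb2 (-1) 2) (vb2 0 1)) * b2coxCm from by decide +kernel]
    exact mul_mem hr0 hC
  have hb0 : b2Cert.refMat (b2coxe 0) ∈ G0 := by
    rw [show b2Cert.refMat (b2coxe 0) = (mb2 (vb2 (-1) 2) (vb2 0 1)) from by decide +kernel]
    exact hr0
  have hb1 : b2Cert.refMat (b2coxe 1) ∈ G0 := by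
    rw [show b2Cert.refMat (b2coxe 1) = (mb2 (vb2 1 0) (vb2 1 (-1))) from by decide +kernel]
    exact hr2
  intro b
  fin_cases b
  · exact hb0
  · exact hb1

theorem b2cox_gen : ∃ T : Finset (CoxeterMatrix.B 2).Group, T.card = 1 ∧
    (∀ t ∈ T, ∃ (g : (CoxeterMatrix.B 2).Group) (i : Fin 2), t = g * (CoxeterMatrix.B 2).simple i * g⁻¹) ∧
    Subgroup.closure (({((List.finRange 2).map (CoxeterMatrix.B 2).simple).prod} : Set (CoxeterMatrix.B 2).Group) ∪ ↑T) = ⊤ :=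
  b2Cert.gen_result b2coxe b2coxe_inj (CoxeterMatrix.B 2) (by decide) [0] (by decide) b2cox_gen_all

def g2coxPinv : Matrix (Fin 2) (Fin 2) ℤ :=
  (mg2 (vg2 (-1) 3) (vg2 (-1) 2))

set_option maxRecDepth 1000000 in
theorem g2cox_pow_inv : g2coxCm ^ 5 = g2coxPinv := by
  have p1 : g2coxCm ^ 1 = g2coxCm := pow_one _
  have p2 : g2coxCm ^ 2 = (mg2 (vg2 1 (-3)) (vg2 1 (-2))) := by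
    show g2coxCm ^ (1 + 1) = (mg2 (vg2 1 (-3)) (vg2 1 (-2)))
    rw [pow_add, p1]
    decide +kernel
  have p4 : g2coxCm ^ 4 = (mg2 (vg2 (-2) 3) (vg2 (-1) 1)) := by
    show g2coxCm ^ (2 + 2) = (mg2 (vg2 (-2) 3) (vg2 (-1) 1))
    rw [pow_add, p2]
    decide +kernel
  have p5 : g2coxCm ^ 5 = g2coxPinv := by
    show g2coxCm ^ (4 + 1) = g2coxPinv
    rw [pow_add, p4, p1]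
    decide +kernel
  exact p5

set_option maxRecDepth 1000000 in
theorem g2cox_gen_all : ∀ b, g2Cert.refMat (g2coxe b) ∈ Submonoid.closure
    ({((List.finRange 2).map (fun b => g2Cert.refMat (g2coxe b))).prod} ∪
      {A | ∃ t ∈ ([0] : List (Fin 2)), A = g2Cert.refMat (g2coxe t)}) := by
  rw [g2cox_prod]
  set G0 := Submonoid.closure
    ({g2coxCm} ∪ {A | ∃ t ∈ ([0] : List (Fin 2)), A = g2Cert.refMat (g2coxe t)}) with hG0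
  have hC : g2coxCm ∈ G0 := Submonoid.subset_closure (Or.inl rfl)
  have hP : g2coxPinv ∈ G0 := by
    rw [← g2cox_pow_inv]
    exact pow_mem hC _
  have hr0 : (mg2 (vg2 (-1) 3) (vg2 0 1)) ∈ G0 := by
    rw [show (mg2 (vg2 (-1) 3) (vg2 0 1)) = g2Cert.refMat (g2coxe 0) from by decide +kernel]
    exact Submonoid.subset_closure (Or.inr ⟨0, by simp, rfl⟩)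
  have hr3 : (mg2 (vg2 1 0) (vg2 1 (-1))) ∈ G0 := by
    rw [show (mg2 (vg2 1 0) (vg2 1 (-1))) = (mg2 (vg2 (-1) 3) (vg2 0 1)) * g2coxCm from by decide +kernel]
    exact mul_mem hr0 hC
  have hb0 : g2Cert.refMat (g2coxe 0) ∈ G0 := by
    rw [show g2Cert.refMat (g2coxe 0) = (mg2 (vg2 (-1) 3) (vg2 0 1)) from by decide +kernel]
    exact hr0
  have hb1 : g2Cert.refMat (g2coxe 1) ∈ G0 := by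
    rw [show g2Cert.refMat (g2coxe 1) = (mg2 (vg2 1 0) (vg2 1 (-1))) from by decide +kernel]
    exact hr3
  intro b
  fin_cases b
  · exact hb0
  · exact hb1

theorem g2cox_gen : ∃ T : Finset (CoxeterMatrix.G₂).Group, T.card = 1 ∧
    (∀ t ∈ T, ∃ (g : (CoxeterMatrix.G₂).Group) (i : Fin 2), t = g * (CoxeterMatrix.G₂).simple i * g⁻¹) ∧
    Subgroup.closure (({((List.finRange 2).map (CoxeterMatrix.G₂).simple).prod} : Set (CoxeterMatrix.G₂).Group) ∪ ↑T) = ⊤ :=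
  g2Cert.gen_result g2coxe g2coxe_inj (CoxeterMatrix.G₂) (by decide) [0] (by decide) g2cox_gen_all

def f4coxPinv : Matrix (Fin 4) (Fin 4) ℤ :=
  (mf4 (vf4 (-1) 1 0 0) (vf4 (-1) 0 1 0) (vf4 (-2) 0 1 1) (vf4 (-2) 0 1 0))

set_option maxRecDepth 1000000 in
theorem f4cox_pow_inv : f4coxCm ^ 11 = f4coxPinv := by
  have p1 : f4coxCm ^ 1 = f4coxCm := pow_one _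
  have p2 : f4coxCm ^ 2 = (mf4 (vf4 1 1 (-1) 0) (vf4 1 2 (-1) (-1)) (vf4 2 2 (-1) (-1)) (vf4 0 2 (-1) 0)) := by
    show f4coxCm ^ (1 + 1) = (mf4 (vf4 1 1 (-1) 0) (vf4 1 2 (-1) (-1)) (vf4 2 2 (-1) (-1)) (vf4 0 2 (-1) 0))
    rw [pow_add, p1]
    decide +kernel
  have p4 : f4coxCm ^ 4 = (mf4 (vf4 0 1 (-1) 0) (vf4 1 1 (-1) (-1)) (vf4 2 2 (-2) (-1)) (vf4 0 2 (-1) (-1))) := by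
    show f4coxCm ^ (2 + 2) = (mf4 (vf4 0 1 (-1) 0) (vf4 1 1 (-1) (-1)) (vf4 2 2 (-2) (-1)) (vf4 0 2 (-1) (-1)))
    rw [pow_add, p2]
    decide +kernel
  have p5 : f4coxCm ^ 5 = (mf4 (vf4 1 (-1) 0 0) (vf4 1 0 (-1) 0) (vf4 2 0 (-1) (-1)) (vf4 2 0 (-1) 0)) := by
    show f4coxCm ^ (4 + 1) = (mf4 (vf4 1 (-1) 0 0) (vf4 1 0 (-1) 0) (vf4 2 0 (-1) (-1)) (vf4 2 0 (-1) 0))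
    rw [pow_add, p4, p1]
    decide +kernel
  have p10 : f4coxCm ^ 10 = (mf4 (vf4 0 (-1) 1 0) (vf4 (-1) (-1) 1 1) (vf4 (-2) (-2) 2 1) (vf4 0 (-2) 1 1)) := by
    show f4coxCm ^ (5 + 5) = (mf4 (vf4 0 (-1) 1 0) (vf4 (-1) (-1) 1 1) (vf4 (-2) (-2) 2 1) (vf4 0 (-2) 1 1))
    rw [pow_add, p5]
    decide +kernel
  have p11 : f4coxCm ^ 11 = f4coxPinv := by
    show f4coxCm ^ (10 + 1) = f4coxPinv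
    rw [pow_add, p10, p1]
    decide +kernel
  exact p11

set_option maxRecDepth 1000000 in
theorem f4cox_gen_all : ∀ b, f4Cert.refMat (f4coxe b) ∈ Submonoid.closure
    ({((List.finRange 4).map (fun b => f4Cert.refMat (f4coxe b))).prod} ∪
      {A | ∃ t ∈ ([0, 2] : List (Fin 4)), A = f4Cert.refMat (f4coxe t)}) := by
  rw [f4cox_prod]
  set G0 := Submonoid.closure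
    ({f4coxCm} ∪ {A | ∃ t ∈ ([0, 2] : List (Fin 4)), A = f4Cert.refMat (f4coxe t)}) with hG0
  have hC : f4coxCm ∈ G0 := Submonoid.subset_closure (Or.inl rfl)
  have hP : f4coxPinv ∈ G0 := by
    rw [← f4cox_pow_inv]
    exact pow_mem hC _
  have hr0 : (mf4 (vf4 (-1) 1 0 0) (vf4 0 1 0 0) (vf4 0 0 1 0) (vf4 0 0 0 1)) ∈ G0 := by
    rw [show (mf4 (vf4 (-1) 1 0 0) (vf4 0 1 0 0) (vf4 0 0 1 0) (vf4 0 0 0 1)) = f4Cert.refMat (f4coxe 0) from by decide +kernel]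
    exact Submonoid.subset_closure (Or.inr ⟨0, by simp, rfl⟩)
  have hr1 : (mf4 (vf4 1 0 0 0) (vf4 0 1 0 0) (vf4 0 2 (-1) 1) (vf4 0 0 0 1)) ∈ G0 := by
    rw [show (mf4 (vf4 1 0 0 0) (vf4 0 1 0 0) (vf4 0 2 (-1) 1) (vf4 0 0 0 1)) = f4Cert.refMat (f4coxe 2) from by decide +kernel]
    exact Submonoid.subset_closure (Or.inr ⟨2, by simp, rfl⟩)
  have hr2 : (mf4 (vf4 1 0 0 0) (vf4 1 (-1) 1 0) (vf4 0 0 1 0) (vf4 0 0 0 1)) ∈ G0 := by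
    rw [show (mf4 (vf4 1 0 0 0) (vf4 1 (-1) 1 0) (vf4 0 0 1 0) (vf4 0 0 0 1)) = f4coxCm * (mf4 (vf4 (-1) 1 0 0) (vf4 0 1 0 0) (vf4 0 0 1 0) (vf4 0 0 0 1)) * f4coxPinv from by decide +kernel]
    exact mul_mem (mul_mem hC hr0) hP
  have hr4 : (mf4 (vf4 1 0 0 0) (vf4 0 1 0 0) (vf4 0 0 1 0) (vf4 0 0 1 (-1))) ∈ G0 := by
    rw [show (mf4 (vf4 1 0 0 0) (vf4 0 1 0 0) (vf4 0 0 1 0) (vf4 0 0 1 (-1))) = f4coxCm * (mf4 (vf4 1 0 0 0) (vf4 0 1 0 0) (vf4 0 2 (-1) 1) (vf4 0 0 0 1)) * f4coxPinv from by decide +kernel]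
    exact mul_mem (mul_mem hC hr1) hP
  have hb0 : f4Cert.refMat (f4coxe 0) ∈ G0 := by
    rw [show f4Cert.refMat (f4coxe 0) = (mf4 (vf4 (-1) 1 0 0) (vf4 0 1 0 0) (vf4 0 0 1 0) (vf4 0 0 0 1)) from by decide +kernel]
    exact hr0
  have hb1 : f4Cert.refMat (f4coxe 1) ∈ G0 := by
    rw [show f4Cert.refMat (f4coxe 1) = (mf4 (vf4 1 0 0 0) (vf4 1 (-1) 1 0) (vf4 0 0 1 0) (vf4 0 0 0 1)) from by decide +kernel]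
    exact hr2
  have hb2 : f4Cert.refMat (f4coxe 2) ∈ G0 := by
    rw [show f4Cert.refMat (f4coxe 2) = (mf4 (vf4 1 0 0 0) (vf4 0 1 0 0) (vf4 0 2 (-1) 1) (vf4 0 0 0 1)) from by decide +kernel]
    exact hr1
  have hb3 : f4Cert.refMat (f4coxe 3) ∈ G0 := by
    rw [show f4Cert.refMat (f4coxe 3) = (mf4 (vf4 1 0 0 0) (vf4 0 1 0 0) (vf4 0 0 1 0) (vf4 0 0 1 (-1))) from by decide +kernel]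
    exact hr4
  intro b
  fin_cases b
  · exact hb0
  · exact hb1
  · exact hb2
  · exact hb3

theorem f4cox_gen : ∃ T : Finset (CoxeterMatrix.F₄).Group, T.card = 2 ∧
    (∀ t ∈ T, ∃ (g : (CoxeterMatrix.F₄).Group) (i : Fin 4), t = g * (CoxeterMatrix.F₄).simple i * g⁻¹) ∧
    Subgroup.closure (({((List.finRange 4).map (CoxeterMatrix.F₄).simple).prod} : Set (CoxeterMatrix.F₄).Group) ∪ ↑T) = ⊤ :=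
  f4Cert.gen_result f4coxe f4coxe_inj (CoxeterMatrix.F₄) (by decide) [0, 2] (by decide) f4cox_gen_all

def d4coxPinv : Matrix (Fin 8) (Fin 8) ℤ :=
  (m8 (v8 1 0 0 0 0 0 0 0) (v8 0 (-1) 0 1 0 0 0 0) (v8 1 (-1) 0 0 1 0 0 0) (v8 0 (-1) 1 0 1 0 0 0) (v8 0 (-1) 1 0 0 1 0 0) (v8 0 0 0 0 0 1 0 0) (v8 0 0 0 0 0 0 1 0) (v8 0 0 0 0 0 0 0 1))

set_option maxRecDepth 1000000 in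
theorem d4cox_pow_inv : d4coxCm ^ 5 = d4coxPinv := by
  have p1 : d4coxCm ^ 1 = d4coxCm := pow_one _
  have p2 : d4coxCm ^ 2 = (m8 (v8 1 0 0 0 0 0 0 0) (v8 1 1 0 (-1) 0 1 0 0) (v8 1 1 0 0 (-1) 1 0 0) (v8 2 1 (-1) 0 (-1) 2 0 0) (v8 1 1 (-1) 0 0 1 0 0) (v8 0 0 0 0 0 1 0 0) (v8 0 0 0 0 0 0 1 0) (v8 0 0 0 0 0 0 0 1)) := by
    show d4coxCm ^ (1 + 1) = (m8 (v8 1 0 0 0 0 0 0 0) (v8 1 1 0 (-1) 0 1 0 0) (v8 1 1 0 0 (-1) 1 0 0) (v8 2 1 (-1) 0 (-1) 2 0 0) (v8 1 1 (-1) 0 0 1 0 0) (v8 0 0 0 0 0 1 0 0) (v8 0 0 0 0 0 0 1 0) (v8 0 0 0 0 0 0 0 1))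
    rw [pow_add, p1]
    decide +kernel
  have p4 : d4coxCm ^ 4 = (m8 (v8 1 0 0 0 0 0 0 0) (v8 0 0 1 (-1) 1 0 0 0) (v8 1 0 1 (-1) 0 1 0 0) (v8 1 (-1) 1 (-1) 1 1 0 0) (v8 1 0 0 (-1) 1 1 0 0) (v8 0 0 0 0 0 1 0 0) (v8 0 0 0 0 0 0 1 0) (v8 0 0 0 0 0 0 0 1)) := by
    show d4coxCm ^ (2 + 2) = (m8 (v8 1 0 0 0 0 0 0 0) (v8 0 0 1 (-1) 1 0 0 0) (v8 1 0 1 (-1) 0 1 0 0) (v8 1 (-1) 1 (-1) 1 1 0 0) (v8 1 0 0 (-1) 1 1 0 0) (v8 0 0 0 0 0 1 0 0) (v8 0 0 0 0 0 0 1 0) (v8 0 0 0 0 0 0 0 1))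
    rw [pow_add, p2]
    decide +kernel
  have p5 : d4coxCm ^ 5 = d4coxPinv := by
    show d4coxCm ^ (4 + 1) = d4coxPinv
    rw [pow_add, p4, p1]
    decide +kernel
  exact p5

set_option maxRecDepth 1000000 in
theorem d4cox_gen_all : ∀ b, e8Cert.refMat (d4coxe b) ∈ Submonoid.closure
    ({((List.finRange 4).map (fun b => e8Cert.refMat (d4coxe b))).prod} ∪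
      {A | ∃ t ∈ ([0, 2] : List (Fin 4)), A = e8Cert.refMat (d4coxe t)}) := by
  rw [d4cox_prod]
  set G0 := Submonoid.closure
    ({d4coxCm} ∪ {A | ∃ t ∈ ([0, 2] : List (Fin 4)), A = e8Cert.refMat (d4coxe t)}) with hG0
  have hC : d4coxCm ∈ G0 := Submonoid.subset_closure (Or.inl rfl)
  have hP : d4coxPinv ∈ G0 := by
    rw [← d4cox_pow_inv]
    exact pow_mem hC _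
  have hr0 : (m8 (v8 1 0 0 0 0 0 0 0) (v8 0 (-1) 0 1 0 0 0 0) (v8 0 0 1 0 0 0 0 0) (v8 0 0 0 1 0 0 0 0) (v8 0 0 0 0 1 0 0 0) (v8 0 0 0 0 0 1 0 0) (v8 0 0 0 0 0 0 1 0) (v8 0 0 0 0 0 0 0 1)) ∈ G0 := by
    rw [show (m8 (v8 1 0 0 0 0 0 0 0) (v8 0 (-1) 0 1 0 0 0 0) (v8 0 0 1 0 0 0 0 0) (v8 0 0 0 1 0 0 0 0) (v8 0 0 0 0 1 0 0 0) (v8 0 0 0 0 0 1 0 0) (v8 0 0 0 0 0 0 1 0) (v8 0 0 0 0 0 0 0 1)) = e8Cert.refMat (d4coxe 0) from by decide +kernel]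
    exact Submonoid.subset_closure (Or.inr ⟨0, by simp, rfl⟩)
  have hr1 : (m8 (v8 1 0 0 0 0 0 0 0) (v8 0 1 0 0 0 0 0 0) (v8 1 0 (-1) 1 0 0 0 0) (v8 0 0 0 1 0 0 0 0) (v8 0 0 0 0 1 0 0 0) (v8 0 0 0 0 0 1 0 0) (v8 0 0 0 0 0 0 1 0) (v8 0 0 0 0 0 0 0 1)) ∈ G0 := by
    rw [show (m8 (v8 1 0 0 0 0 0 0 0) (v8 0 1 0 0 0 0 0 0) (v8 1 0 (-1) 1 0 0 0 0) (v8 0 0 0 1 0 0 0 0) (v8 0 0 0 0 1 0 0 0) (v8 0 0 0 0 0 1 0 0) (v8 0 0 0 0 0 0 1 0) (v8 0 0 0 0 0 0 0 1)) = e8Cert.refMat (d4coxe 2) from by decide +kernel]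
    exact Submonoid.subset_closure (Or.inr ⟨2, by simp, rfl⟩)
  have hr2 : (m8 (v8 1 0 0 0 0 0 0 0) (v8 0 1 0 0 0 0 0 0) (v8 0 0 1 0 0 0 0 0) (v8 0 1 1 (-1) 1 0 0 0) (v8 0 0 0 0 1 0 0 0) (v8 0 0 0 0 0 1 0 0) (v8 0 0 0 0 0 0 1 0) (v8 0 0 0 0 0 0 0 1)) ∈ G0 := by
    rw [show (m8 (v8 1 0 0 0 0 0 0 0) (v8 0 1 0 0 0 0 0 0) (v8 0 0 1 0 0 0 0 0) (v8 0 1 1 (-1) 1 0 0 0) (v8 0 0 0 0 1 0 0 0) (v8 0 0 0 0 0 1 0 0) (v8 0 0 0 0 0 0 1 0) (v8 0 0 0 0 0 0 0 1)) = d4coxCm * (m8 (v8 1 0 0 0 0 0 0 0) (v8 0 (-1) 0 1 0 0 0 0) (v8 0 0 1 0 0 0 0 0) (v8 0 0 0 1 0 0 0 0) (v8 0 0 0 0 1 0 0 0) (v8 0 0 0 0 0 1 0 0) (v8 0 0 0 0 0 0 1 0) (v8 0 0 0 0 0 0 0 1)) * d4coxPinv from by decide +kernel]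
    exact mul_mem (mul_mem hC hr0) hP
  have hr5 : (m8 (v8 1 0 0 0 0 0 0 0) (v8 0 1 0 0 0 0 0 0) (v8 0 0 1 0 0 0 0 0) (v8 0 1 1 0 (-1) 1 0 0) (v8 0 1 1 (-1) 0 1 0 0) (v8 0 0 0 0 0 1 0 0) (v8 0 0 0 0 0 0 1 0) (v8 0 0 0 0 0 0 0 1)) ∈ G0 := by
    rw [show (m8 (v8 1 0 0 0 0 0 0 0) (v8 0 1 0 0 0 0 0 0) (v8 0 0 1 0 0 0 0 0) (v8 0 1 1 0 (-1) 1 0 0) (v8 0 1 1 (-1) 0 1 0 0) (v8 0 0 0 0 0 1 0 0) (v8 0 0 0 0 0 0 1 0) (v8 0 0 0 0 0 0 0 1)) = d4coxPinv * (m8 (v8 1 0 0 0 0 0 0 0) (v8 0 1 0 0 0 0 0 0) (v8 1 0 (-1) 1 0 0 0 0) (v8 0 0 0 1 0 0 0 0) (v8 0 0 0 0 1 0 0 0) (v8 0 0 0 0 0 1 0 0) (v8 0 0 0 0 0 0 1 0) (v8 0 0 0 0 0 0 0 1)) * d4coxCm from by decide +kernel]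
    exact mul_mem (mul_mem hP hr1) hC
  have hr11 : (m8 (v8 1 0 0 0 0 0 0 0) (v8 0 1 0 0 0 0 0 0) (v8 0 0 1 0 0 0 0 0) (v8 0 0 0 1 0 0 0 0) (v8 0 0 0 1 (-1) 1 0 0) (v8 0 0 0 0 0 1 0 0) (v8 0 0 0 0 0 0 1 0) (v8 0 0 0 0 0 0 0 1)) ∈ G0 := by
    rw [show (m8 (v8 1 0 0 0 0 0 0 0) (v8 0 1 0 0 0 0 0 0) (v8 0 0 1 0 0 0 0 0) (v8 0 0 0 1 0 0 0 0) (v8 0 0 0 1 (-1) 1 0 0) (v8 0 0 0 0 0 1 0 0) (v8 0 0 0 0 0 0 1 0) (v8 0 0 0 0 0 0 0 1)) = (m8 (v8 1 0 0 0 0 0 0 0) (v8 0 1 0 0 0 0 0 0) (v8 0 0 1 0 0 0 0 0) (v8 0 1 1 (-1) 1 0 0 0) (v8 0 0 0 0 1 0 0 0) (v8 0 0 0 0 0 1 0 0) (v8 0 0 0 0 0 0 1 0) (v8 0 0 0 0 0 0 0 1)) * (m8 (v8 1 0 0 0 0 0 0 0) (v8 0 1 0 0 0 0 0 0) (v8 0 0 1 0 0 0 0 0) (v8 0 1 1 0 (-1) 1 0 0) (v8 0 1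 1 (-1) 0 1 0 0) (v8 0 0 0 0 0 1 0 0) (v8 0 0 0 0 0 0 1 0) (v8 0 0 0 0 0 0 0 1)) * (m8 (v8 1 0 0 0 0 0 0 0) (v8 0 1 0 0 0 0 0 0) (v8 0 0 1 0 0 0 0 0) (v8 0 1 1 (-1) 1 0 0 0) (v8 0 0 0 0 1 0 0 0) (v8 0 0 0 0 0 1 0 0) (v8 0 0 0 0 0 0 1 0) (v8 0 0 0 0 0 0 0 1)) from by decide +kernel]
    exact mul_mem (mul_mem hr2 hr5) hr2
  have hb0 : e8Cert.refMat (d4coxe 0) ∈ G0 := by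
    rw [show e8Cert.refMat (d4coxe 0) = (m8 (v8 1 0 0 0 0 0 0 0) (v8 0 (-1) 0 1 0 0 0 0) (v8 0 0 1 0 0 0 0 0) (v8 0 0 0 1 0 0 0 0) (v8 0 0 0 0 1 0 0 0) (v8 0 0 0 0 0 1 0 0) (v8 0 0 0 0 0 0 1 0) (v8 0 0 0 0 0 0 0 1)) from by decide +kernel]
    exact hr0
  have hb1 : e8Cert.refMat (d4coxe 1) ∈ G0 := by
    rw [show e8Cert.refMat (d4coxe 1) = (m8 (v8 1 0 0 0 0 0 0 0) (v8 0 1 0 0 0 0 0 0) (v8 0 0 1 0 0 0 0 0) (v8 0 1 1 (-1) 1 0 0 0) (v8 0 0 0 0 1 0 0 0) (v8 0 0 0 0 0 1 0 0) (v8 0 0 0 0 0 0 1 0) (v8 0 0 0 0 0 0 0 1)) from by decide +kernel]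
    exact hr2
  have hb2 : e8Cert.refMat (d4coxe 2) ∈ G0 := by
    rw [show e8Cert.refMat (d4coxe 2) = (m8 (v8 1 0 0 0 0 0 0 0) (v8 0 1 0 0 0 0 0 0) (v8 1 0 (-1) 1 0 0 0 0) (v8 0 0 0 1 0 0 0 0) (v8 0 0 0 0 1 0 0 0) (v8 0 0 0 0 0 1 0 0) (v8 0 0 0 0 0 0 1 0) (v8 0 0 0 0 0 0 0 1)) from by decide +kernel]
    exact hr1
  have hb3 : e8Cert.refMat (d4coxe 3) ∈ G0 := by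
    rw [show e8Cert.refMat (d4coxe 3) = (m8 (v8 1 0 0 0 0 0 0 0) (v8 0 1 0 0 0 0 0 0) (v8 0 0 1 0 0 0 0 0) (v8 0 0 0 1 0 0 0 0) (v8 0 0 0 1 (-1) 1 0 0) (v8 0 0 0 0 0 1 0 0) (v8 0 0 0 0 0 0 1 0) (v8 0 0 0 0 0 0 0 1)) from by decide +kernel]
    exact hr11
  intro b
  fin_cases b
  · exact hb0
  · exact hb1
  · exact hb2
  · exact hb3

theorem d4cox_gen : ∃ T : Finset (Cfsg.Lie.coxeterD4).Group, T.card = 2 ∧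
    (∀ t ∈ T, ∃ (g : (Cfsg.Lie.coxeterD4).Group) (i : Fin 4), t = g * (Cfsg.Lie.coxeterD4).simple i * g⁻¹) ∧
    Subgroup.closure (({((List.finRange 4).map (Cfsg.Lie.coxeterD4).simple).prod} : Set (Cfsg.Lie.coxeterD4).Group) ∪ ↑T) = ⊤ :=
  e8Cert.gen_result d4coxe d4coxe_inj (Cfsg.Lie.coxeterD4) (by decide) [0, 2] (by decide) d4cox_gen_all

def e6coxPinv : Matrix (Fin 8) (Fin 8) ℤ :=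
  (m8 (v8 (-1) 0 1 0 0 0 0 0) (v8 0 (-1) 0 1 0 0 0 0) (v8 (-1) 0 0 1 0 0 0 0) (v8 (-1) (-1) 0 1 1 0 0 0) (v8 (-1) (-1) 0 1 0 1 0 0) (v8 (-1) (-1) 0 1 0 0 1 0) (v8 0 0 0 0 0 0 1 0) (v8 0 0 0 0 0 0 0 1))

set_option maxRecDepth 1000000 in
theorem e6cox_pow_inv : e6coxCm ^ 11 = e6coxPinv := by
  have p1 : e6coxCm ^ 1 = e6coxCm := pow_one _
  have p2 : e6coxCm ^ 2 = (m8 (v8 0 0 1 0 (-1) 0 1 0) (v8 1 1 0 0 (-1) 0 1 0) (v8 0 1 1 0 (-1) (-1) 2 0) (v8 1 1 1 0 (-1) (-1) 2 0) (v8 0 1 1 0 (-1) 0 1 0) (v8 0 0 0 1 (-1) 0 1 0) (v8 0 0 0 0 0 0 1 0) (v8 0 0 0 0 0 0 0 1)) := by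
    show e6coxCm ^ (1 + 1) = (m8 (v8 0 0 1 0 (-1) 0 1 0) (v8 1 1 0 0 (-1) 0 1 0) (v8 0 1 1 0 (-1) (-1) 2 0) (v8 1 1 1 0 (-1) (-1) 2 0) (v8 0 1 1 0 (-1) 0 1 0) (v8 0 0 0 1 (-1) 0 1 0) (v8 0 0 0 0 0 0 1 0) (v8 0 0 0 0 0 0 0 1))
    rw [pow_add, p1]
    decide +kernel
  have p4 : e6coxCm ^ 4 = (m8 (v8 0 0 0 0 0 (-1) 2 0) (v8 1 0 0 0 (-1) 0 2 0) (v8 1 1 0 (-1) 0 (-1) 3 0) (v8 1 1 1 (-1) (-1) (-1) 4 0) (v8 1 1 0 0 (-1) (-1) 3 0) (v8 1 0 0 0 0 (-1) 2 0) (v8 0 0 0 0 0 0 1 0) (v8 0 0 0 0 0 0 0 1)) := by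
    show e6coxCm ^ (2 + 2) = (m8 (v8 0 0 0 0 0 (-1) 2 0) (v8 1 0 0 0 (-1) 0 2 0) (v8 1 1 0 (-1) 0 (-1) 3 0) (v8 1 1 1 (-1) (-1) (-1) 4 0) (v8 1 1 0 0 (-1) (-1) 3 0) (v8 1 0 0 0 0 (-1) 2 0) (v8 0 0 0 0 0 0 1 0) (v8 0 0 0 0 0 0 0 1))
    rw [pow_add, p2]
    decide +kernel
  have p5 : e6coxCm ^ 5 = (m8 (v8 0 0 0 0 (-1) 1 1 0) (v8 0 1 0 (-1) 0 0 2 0) (v8 0 0 0 0 (-1) 0 3 0) (v8 1 1 0 (-1) (-1) 0 4 0) (v8 0 1 1 (-1) (-1) 0 3 0) (v8 0 1 0 0 (-1) 0 2 0) (v8 0 0 0 0 0 0 1 0) (v8 0 0 0 0 0 0 0 1)) := by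
    show e6coxCm ^ (4 + 1) = (m8 (v8 0 0 0 0 (-1) 1 1 0) (v8 0 1 0 (-1) 0 0 2 0) (v8 0 0 0 0 (-1) 0 3 0) (v8 1 1 0 (-1) (-1) 0 4 0) (v8 0 1 1 (-1) (-1) 0 3 0) (v8 0 1 0 0 (-1) 0 2 0) (v8 0 0 0 0 0 0 1 0) (v8 0 0 0 0 0 0 0 1))
    rw [pow_add, p4, p1]
    decide +kernel
  have p10 : e6coxCm ^ 10 = (m8 (v8 0 0 (-1) 1 0 0 0 0) (v8 (-1) 0 0 0 1 0 0 0) (v8 0 (-1) (-1) 1 1 0 0 0) (v8 (-1) (-1) (-1) 1 1 1 0 0) (v8 (-1) (-1) (-1) 1 1 0 1 0) (v8 0 0 (-1) 0 1 0 1 0) (v8 0 0 0 0 0 0 1 0) (v8 0 0 0 0 0 0 0 1)) := by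
    show e6coxCm ^ (5 + 5) = (m8 (v8 0 0 (-1) 1 0 0 0 0) (v8 (-1) 0 0 0 1 0 0 0) (v8 0 (-1) (-1) 1 1 0 0 0) (v8 (-1) (-1) (-1) 1 1 1 0 0) (v8 (-1) (-1) (-1) 1 1 0 1 0) (v8 0 0 (-1) 0 1 0 1 0) (v8 0 0 0 0 0 0 1 0) (v8 0 0 0 0 0 0 0 1))
    rw [pow_add, p5]
    decide +kernel
  have p11 : e6coxCm ^ 11 = e6coxPinv := by
    show e6coxCm ^ (10 + 1) = e6coxPinv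
    rw [pow_add, p10, p1]
    decide +kernel
  exact p11

set_option maxRecDepth 1000000 in
theorem e6cox_gen_all : ∀ b, e8Cert.refMat (e6coxe b) ∈ Submonoid.closure
    ({((List.finRange 6).map (fun b => e8Cert.refMat (e6coxe b))).prod} ∪
      {A | ∃ t ∈ ([0] : List (Fin 6)), A = e8Cert.refMat (e6coxe t)}) := by
  rw [e6cox_prod]
  set G0 := Submonoid.closure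
    ({e6coxCm} ∪ {A | ∃ t ∈ ([0] : List (Fin 6)), A = e8Cert.refMat (e6coxe t)}) with hG0
  have hC : e6coxCm ∈ G0 := Submonoid.subset_closure (Or.inl rfl)
  have hP : e6coxPinv ∈ G0 := by
    rw [← e6cox_pow_inv]
    exact pow_mem hC _
  have hr0 : (m8 (v8 (-1) 0 1 0 0 0 0 0) (v8 0 1 0 0 0 0 0 0) (v8 0 0 1 0 0 0 0 0) (v8 0 0 0 1 0 0 0 0) (v8 0 0 0 0 1 0 0 0) (v8 0 0 0 0 0 1 0 0) (v8 0 0 0 0 0 0 1 0) (v8 0 0 0 0 0 0 0 1)) ∈ G0 := by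
    rw [show (m8 (v8 (-1) 0 1 0 0 0 0 0) (v8 0 1 0 0 0 0 0 0) (v8 0 0 1 0 0 0 0 0) (v8 0 0 0 1 0 0 0 0) (v8 0 0 0 0 1 0 0 0) (v8 0 0 0 0 0 1 0 0) (v8 0 0 0 0 0 0 1 0) (v8 0 0 0 0 0 0 0 1)) = e8Cert.refMat (e6coxe 0) from by decide +kernel]
    exact Submonoid.subset_closure (Or.inr ⟨0, by simp, rfl⟩)
  have hr1 : (m8 (v8 1 0 0 0 0 0 0 0) (v8 0 1 0 0 0 0 0 0) (v8 1 0 (-1) 1 0 0 0 0) (v8 0 0 0 1 0 0 0 0) (v8 0 0 0 0 1 0 0 0) (v8 0 0 0 0 0 1 0 0) (v8 0 0 0 0 0 0 1 0) (v8 0 0 0 0 0 0 0 1)) ∈ G0 := by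
    rw [show (m8 (v8 1 0 0 0 0 0 0 0) (v8 0 1 0 0 0 0 0 0) (v8 1 0 (-1) 1 0 0 0 0) (v8 0 0 0 1 0 0 0 0) (v8 0 0 0 0 1 0 0 0) (v8 0 0 0 0 0 1 0 0) (v8 0 0 0 0 0 0 1 0) (v8 0 0 0 0 0 0 0 1)) = e6coxCm * (m8 (v8 (-1) 0 1 0 0 0 0 0) (v8 0 1 0 0 0 0 0 0) (v8 0 0 1 0 0 0 0 0) (v8 0 0 0 1 0 0 0 0) (v8 0 0 0 0 1 0 0 0) (v8 0 0 0 0 0 1 0 0) (v8 0 0 0 0 0 0 1 0) (v8 0 0 0 0 0 0 0 1)) * e6coxPinv from by decide +kernel]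
    exact mul_mem (mul_mem hC hr0) hP
  have hr2 : (m8 (v8 0 1 0 0 0 (-1) 1 0) (v8 0 1 0 0 0 0 0 0) (v8 (-1) 1 1 0 0 (-1) 1 0) (v8 (-1) 1 0 1 0 (-1) 1 0) (v8 (-1) 1 0 0 1 (-1) 1 0) (v8 (-1) 1 0 0 0 0 1 0) (v8 0 0 0 0 0 0 1 0) (v8 0 0 0 0 0 0 0 1)) ∈ G0 := by
    rw [show (m8 (v8 0 1 0 0 0 (-1) 1 0) (v8 0 1 0 0 0 0 0 0) (v8 (-1) 1 1 0 0 (-1) 1 0) (v8 (-1) 1 0 1 0 (-1) 1 0) (v8 (-1) 1 0 0 1 (-1) 1 0) (v8 (-1) 1 0 0 0 0 1 0) (v8 0 0 0 0 0 0 1 0) (v8 0 0 0 0 0 0 0 1)) = e6coxPinv * (m8 (v8 (-1) 0 1 0 0 0 0 0) (v8 0 1 0 0 0 0 0 0) (v8 0 0 1 0 0 0 0 0) (v8 0 0 0 1 0 0 0 0) (v8 0 0 0 0 1 0 0 0) (v8 0 0 0 0 0 1 0 0) (v8 0 0 0 0 0 0 1 0) (v8 0 0 0 0 0 0 0 1)) * e6coxCm from by decide +kernel]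
    exact mul_mem (mul_mem hP hr0) hC
  have hr3 : (m8 (v8 1 0 0 0 0 0 0 0) (v8 0 0 1 (-1) 1 0 0 0) (v8 0 0 1 0 0 0 0 0) (v8 0 (-1) 1 0 1 0 0 0) (v8 0 0 0 0 1 0 0 0) (v8 0 0 0 0 0 1 0 0) (v8 0 0 0 0 0 0 1 0) (v8 0 0 0 0 0 0 0 1)) ∈ G0 := by
    rw [show (m8 (v8 1 0 0 0 0 0 0 0) (v8 0 0 1 (-1) 1 0 0 0) (v8 0 0 1 0 0 0 0 0) (v8 0 (-1) 1 0 1 0 0 0) (v8 0 0 0 0 1 0 0 0) (v8 0 0 0 0 0 1 0 0) (v8 0 0 0 0 0 0 1 0) (v8 0 0 0 0 0 0 0 1)) = e6coxCm * (m8 (v8 1 0 0 0 0 0 0 0) (v8 0 1 0 0 0 0 0 0) (v8 1 0 (-1) 1 0 0 0 0) (v8 0 0 0 1 0 0 0 0) (v8 0 0 0 0 1 0 0 0) (v8 0 0 0 0 0 1 0 0) (v8 0 0 0 0 0 0 1 0) (v8 0 0 0 0 0 0 0 1)) * e6coxPinv from by decide +kernel]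
    exact mul_mem (mul_mem hC hr1) hP
  have hr4 : (m8 (v8 1 0 0 0 0 0 0 0) (v8 0 0 1 0 (-1) 1 0 0) (v8 0 0 1 0 0 0 0 0) (v8 0 (-1) 1 1 (-1) 1 0 0) (v8 0 (-1) 1 0 0 1 0 0) (v8 0 0 0 0 0 1 0 0) (v8 0 0 0 0 0 0 1 0) (v8 0 0 0 0 0 0 0 1)) ∈ G0 := by
    rw [show (m8 (v8 1 0 0 0 0 0 0 0) (v8 0 0 1 0 (-1) 1 0 0) (v8 0 0 1 0 0 0 0 0) (v8 0 (-1) 1 1 (-1) 1 0 0) (v8 0 (-1) 1 0 0 1 0 0) (v8 0 0 0 0 0 1 0 0) (v8 0 0 0 0 0 0 1 0) (v8 0 0 0 0 0 0 0 1)) = e6coxPinv * (m8 (v8 0 1 0 0 0 (-1) 1 0) (v8 0 1 0 0 0 0 0 0) (v8 (-1) 1 1 0 0 (-1) 1 0) (v8 (-1) 1 0 1 0 (-1) 1 0) (v8 (-1) 1 0 0 1 (-1) 1 0) (v8 (-1) 1 0 0 0 0 1 0) (v8 0 0 0 0 0 0 1 0) (v8 0 0 0 0 0 0 0 1)) * e6coxCm from by decide +kernel]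
    exact mul_mem (mul_mem hP hr2) hC
  have hr5 : (m8 (v8 0 0 (-1) 1 0 0 0 0) (v8 0 1 0 0 0 0 0 0) (v8 (-1) 0 0 1 0 0 0 0) (v8 0 0 0 1 0 0 0 0) (v8 0 0 0 0 1 0 0 0) (v8 0 0 0 0 0 1 0 0) (v8 0 0 0 0 0 0 1 0) (v8 0 0 0 0 0 0 0 1)) ∈ G0 := by
    rw [show (m8 (v8 0 0 (-1) 1 0 0 0 0) (v8 0 1 0 0 0 0 0 0) (v8 (-1) 0 0 1 0 0 0 0) (v8 0 0 0 1 0 0 0 0) (v8 0 0 0 0 1 0 0 0) (v8 0 0 0 0 0 1 0 0) (v8 0 0 0 0 0 0 1 0) (v8 0 0 0 0 0 0 0 1)) = (m8 (v8 (-1) 0 1 0 0 0 0 0) (v8 0 1 0 0 0 0 0 0) (v8 0 0 1 0 0 0 0 0) (v8 0 0 0 1 0 0 0 0) (v8 0 0 0 0 1 0 0 0) (v8 0 0 0 0 0 1 0 0) (v8 0 0 0 0 0 0 1 0) (v8 0 0 0 0 0 0 0 1)) * (m8 (v8 1 0 0 0 0 0 0 0) (v8 0 1 0 0 0 0 0 0) (v8 1 0 (-1) 1 0 0 0 0) (v8 0 0 0 1 0 0 0 0) (v8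 0 0 0 0 1 0 0 0) (v8 0 0 0 0 0 1 0 0) (v8 0 0 0 0 0 0 1 0) (v8 0 0 0 0 0 0 0 1)) * (m8 (v8 (-1) 0 1 0 0 0 0 0) (v8 0 1 0 0 0 0 0 0) (v8 0 0 1 0 0 0 0 0) (v8 0 0 0 1 0 0 0 0) (v8 0 0 0 0 1 0 0 0) (v8 0 0 0 0 0 1 0 0) (v8 0 0 0 0 0 0 1 0) (v8 0 0 0 0 0 0 0 1)) from by decide +kernel]
    exact mul_mem (mul_mem hr0 hr1) hr0
  have hr7 : (m8 (v8 0 1 0 0 (-1) 1 0 0) (v8 0 1 0 0 0 0 0 0) (v8 (-1) 1 1 0 (-1) 1 0 0) (v8 (-1) 1 0 1 (-1) 1 0 0) (v8 (-1) 1 0 0 0 1 0 0) (v8 0 0 0 0 0 1 0 0) (v8 0 0 0 0 0 0 1 0) (v8 0 0 0 0 0 0 0 1)) ∈ G0 := by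
    rw [show (m8 (v8 0 1 0 0 (-1) 1 0 0) (v8 0 1 0 0 0 0 0 0) (v8 (-1) 1 1 0 (-1) 1 0 0) (v8 (-1) 1 0 1 (-1) 1 0 0) (v8 (-1) 1 0 0 0 1 0 0) (v8 0 0 0 0 0 1 0 0) (v8 0 0 0 0 0 0 1 0) (v8 0 0 0 0 0 0 0 1)) = e6coxCm * (m8 (v8 1 0 0 0 0 0 0 0) (v8 0 0 1 (-1) 1 0 0 0) (v8 0 0 1 0 0 0 0 0) (v8 0 (-1) 1 0 1 0 0 0) (v8 0 0 0 0 1 0 0 0) (v8 0 0 0 0 0 1 0 0) (v8 0 0 0 0 0 0 1 0) (v8 0 0 0 0 0 0 0 1)) * e6coxPinv from by decide +kernel]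
    exact mul_mem (mul_mem hC hr3) hP
  have hr14 : (m8 (v8 1 0 0 0 0 0 0 0) (v8 0 1 0 0 0 0 0 0) (v8 0 0 1 0 0 0 0 0) (v8 0 0 0 1 0 0 0 0) (v8 0 0 0 1 (-1) 1 0 0) (v8 0 0 0 0 0 1 0 0) (v8 0 0 0 0 0 0 1 0) (v8 0 0 0 0 0 0 0 1)) ∈ G0 := by
    rw [show (m8 (v8 1 0 0 0 0 0 0 0) (v8 0 1 0 0 0 0 0 0) (v8 0 0 1 0 0 0 0 0) (v8 0 0 0 1 0 0 0 0) (v8 0 0 0 1 (-1) 1 0 0) (v8 0 0 0 0 0 1 0 0) (v8 0 0 0 0 0 0 1 0) (v8 0 0 0 0 0 0 0 1)) = (m8 (v8 1 0 0 0 0 0 0 0) (v8 0 0 1 (-1) 1 0 0 0) (v8 0 0 1 0 0 0 0 0) (v8 0 (-1) 1 0 1 0 0 0) (v8 0 0 0 0 1 0 0 0) (v8 0 0 0 0 0 1 0 0) (v8 0 0 0 0 0 0 1 0) (v8 0 0 0 0 0 0 0 1)) * (m8 (v8 1 0 0 0 0 0 0 0) (v8 0 0 1 0 (-1) 1 0 0) (v8 0 0 1 0 0 0 0 0) (v8 0 (-1) 1 1 (-1) 1 0 0)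 (v8 0 (-1) 1 0 0 1 0 0) (v8 0 0 0 0 0 1 0 0) (v8 0 0 0 0 0 0 1 0) (v8 0 0 0 0 0 0 0 1)) * (m8 (v8 1 0 0 0 0 0 0 0) (v8 0 0 1 (-1) 1 0 0 0) (v8 0 0 1 0 0 0 0 0) (v8 0 (-1) 1 0 1 0 0 0) (v8 0 0 0 0 1 0 0 0) (v8 0 0 0 0 0 1 0 0) (v8 0 0 0 0 0 0 1 0) (v8 0 0 0 0 0 0 0 1)) from by decide +kernel]
    exact mul_mem (mul_mem hr3 hr4) hr3
  have hr17 : (m8 (v8 0 (-1) 0 1 (-1) 1 0 0) (v8 (-1) 0 0 1 (-1) 1 0 0) (v8 (-1) (-1) 1 1 (-1) 1 0 0) (v8 (-1) (-1) 0 2 (-1) 1 0 0) (v8 (-1) (-1) 0 1 0 1 0 0) (v8 0 0 0 0 0 1 0 0) (v8 0 0 0 0 0 0 1 0) (v8 0 0 0 0 0 0 0 1)) ∈ G0 := by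
    rw [show (m8 (v8 0 (-1) 0 1 (-1) 1 0 0) (v8 (-1) 0 0 1 (-1) 1 0 0) (v8 (-1) (-1) 1 1 (-1) 1 0 0) (v8 (-1) (-1) 0 2 (-1) 1 0 0) (v8 (-1) (-1) 0 1 0 1 0 0) (v8 0 0 0 0 0 1 0 0) (v8 0 0 0 0 0 0 1 0) (v8 0 0 0 0 0 0 0 1)) = (m8 (v8 1 0 0 0 0 0 0 0) (v8 0 0 1 0 (-1) 1 0 0) (v8 0 0 1 0 0 0 0 0) (v8 0 (-1) 1 1 (-1) 1 0 0) (v8 0 (-1) 1 0 0 1 0 0) (v8 0 0 0 0 0 1 0 0) (v8 0 0 0 0 0 0 1 0) (v8 0 0 0 0 0 0 0 1)) * (m8 (v8 0 0 (-1) 1 0 0 0 0) (v8 0 1 0 0 0 0 0 0) (v8 (-1) 0 0 1 0 0 0 0) (v8 0 0 0 1 0 0 0 0) (v8 0 0 0 0 1 0 0 0) (v8 0 0 0 0 0 1 0 0) (v8 0 0 0 0 0 0 1 0) (v8 0 0 0 0 0 0 0 1)) * (m8 (v8 1 0 0 0 0 0 0 0) (v8 0 0 1 0 (-1) 1 0 0) (v8 0 0 1 0 0 0 0 0) (v8 0 (-1) 1 1 (-1) 1 0 0) (v8 0 (-1) 1 0 0 1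 0 0) (v8 0 0 0 0 0 1 0 0) (v8 0 0 0 0 0 0 1 0) (v8 0 0 0 0 0 0 0 1)) from by decide +kernel]
    exact mul_mem (mul_mem hr4 hr5) hr4
  have hr25 : (m8 (v8 1 0 0 0 0 0 0 0) (v8 0 1 0 0 0 0 0 0) (v8 0 0 1 0 0 0 0 0) (v8 0 0 0 1 0 0 0 0) (v8 0 0 0 0 1 0 0 0) (v8 0 0 0 0 1 (-1) 1 0) (v8 0 0 0 0 0 0 1 0) (v8 0 0 0 0 0 0 0 1)) ∈ G0 := by
    rw [show (m8 (v8 1 0 0 0 0 0 0 0) (v8 0 1 0 0 0 0 0 0) (v8 0 0 1 0 0 0 0 0) (v8 0 0 0 1 0 0 0 0) (v8 0 0 0 0 1 0 0 0) (v8 0 0 0 0 1 (-1) 1 0) (v8 0 0 0 0 0 0 1 0) (v8 0 0 0 0 0 0 0 1)) = e6coxCm * (m8 (v8 1 0 0 0 0 0 0 0) (v8 0 1 0 0 0 0 0 0) (v8 0 0 1 0 0 0 0 0) (v8 0 0 0 1 0 0 0 0) (v8 0 0 0 1 (-1) 1 0 0) (v8 0 0 0 0 0 1 0 0) (v8 0 0 0 0 0 0 1 0) (v8 0 0 0 0 0 0 0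 1)) * e6coxPinv from by decide +kernel]
    exact mul_mem (mul_mem hC hr14) hP
  have hr26 : (m8 (v8 1 0 0 0 0 0 0 0) (v8 0 1 0 0 0 0 0 0) (v8 0 0 1 0 0 0 0 0) (v8 0 1 1 (-1) 1 0 0 0) (v8 0 0 0 0 1 0 0 0) (v8 0 0 0 0 0 1 0 0) (v8 0 0 0 0 0 0 1 0) (v8 0 0 0 0 0 0 0 1)) ∈ G0 := by
    rw [show (m8 (v8 1 0 0 0 0 0 0 0) (v8 0 1 0 0 0 0 0 0) (v8 0 0 1 0 0 0 0 0) (v8 0 1 1 (-1) 1 0 0 0) (v8 0 0 0 0 1 0 0 0) (v8 0 0 0 0 0 1 0 0) (v8 0 0 0 0 0 0 1 0) (v8 0 0 0 0 0 0 0 1)) = e6coxPinv * (m8 (v8 1 0 0 0 0 0 0 0) (v8 0 1 0 0 0 0 0 0) (v8 0 0 1 0 0 0 0 0) (v8 0 0 0 1 0 0 0 0) (v8 0 0 0 1 (-1) 1 0 0) (v8 0 0 0 0 0 1 0 0) (v8 0 0 0 0 0 0 1 0) (v8 0 0 0 0 0 0 0 1)) * e6coxCm from by decide +kernel]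
    exact mul_mem (mul_mem hP hr14) hC
  have hr34 : (m8 (v8 1 0 0 0 0 0 0 0) (v8 0 (-1) 0 1 0 0 0 0) (v8 0 0 1 0 0 0 0 0) (v8 0 0 0 1 0 0 0 0) (v8 0 0 0 0 1 0 0 0) (v8 0 0 0 0 0 1 0 0) (v8 0 0 0 0 0 0 1 0) (v8 0 0 0 0 0 0 0 1)) ∈ G0 := by
    rw [show (m8 (v8 1 0 0 0 0 0 0 0) (v8 0 (-1) 0 1 0 0 0 0) (v8 0 0 1 0 0 0 0 0) (v8 0 0 0 1 0 0 0 0) (v8 0 0 0 0 1 0 0 0) (v8 0 0 0 0 0 1 0 0) (v8 0 0 0 0 0 0 1 0) (v8 0 0 0 0 0 0 0 1)) = (m8 (v8 0 1 0 0 (-1) 1 0 0) (v8 0 1 0 0 0 0 0 0) (v8 (-1) 1 1 0 (-1) 1 0 0) (v8 (-1) 1 0 1 (-1) 1 0 0) (v8 (-1) 1 0 0 0 1 0 0) (v8 0 0 0 0 0 1 0 0) (v8 0 0 0 0 0 0 1 0) (v8 0 0 0 0 0 0 0 1)) * (m8 (v8 0 (-1) 0 1 (-1) 1 0 0) (v8 (-1) 0 0 1 (-1) 1 0 0) (v8 (-1) (-1) 1 1 (-1) 1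 0 0) (v8 (-1) (-1) 0 2 (-1) 1 0 0) (v8 (-1) (-1) 0 1 0 1 0 0) (v8 0 0 0 0 0 1 0 0) (v8 0 0 0 0 0 0 1 0) (v8 0 0 0 0 0 0 0 1)) * (m8 (v8 0 1 0 0 (-1) 1 0 0) (v8 0 1 0 0 0 0 0 0) (v8 (-1) 1 1 0 (-1) 1 0 0) (v8 (-1) 1 0 1 (-1) 1 0 0) (v8 (-1) 1 0 0 0 1 0 0) (v8 0 0 0 0 0 1 0 0) (v8 0 0 0 0 0 0 1 0) (v8 0 0 0 0 0 0 0 1)) from by decide +kernel]
    exact mul_mem (mul_mem hr7 hr17) hr7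
  have hb0 : e8Cert.refMat (e6coxe 0) ∈ G0 := by
    rw [show e8Cert.refMat (e6coxe 0) = (m8 (v8 (-1) 0 1 0 0 0 0 0) (v8 0 1 0 0 0 0 0 0) (v8 0 0 1 0 0 0 0 0) (v8 0 0 0 1 0 0 0 0) (v8 0 0 0 0 1 0 0 0) (v8 0 0 0 0 0 1 0 0) (v8 0 0 0 0 0 0 1 0) (v8 0 0 0 0 0 0 0 1)) from by decide +kernel]
    exact hr0
  have hb1 : e8Cert.refMat (e6coxe 1) ∈ G0 := by
    rw [show e8Cert.refMat (e6coxe 1) = (m8 (v8 1 0 0 0 0 0 0 0) (v8 0 (-1) 0 1 0 0 0 0) (v8 0 0 1 0 0 0 0 0) (v8 0 0 0 1 0 0 0 0) (v8 0 0 0 0 1 0 0 0) (v8 0 0 0 0 0 1 0 0) (v8 0 0 0 0 0 0 1 0) (v8 0 0 0 0 0 0 0 1)) from by decide +kernel]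
    exact hr34
  have hb2 : e8Cert.refMat (e6coxe 2) ∈ G0 := by
    rw [show e8Cert.refMat (e6coxe 2) = (m8 (v8 1 0 0 0 0 0 0 0) (v8 0 1 0 0 0 0 0 0) (v8 1 0 (-1) 1 0 0 0 0) (v8 0 0 0 1 0 0 0 0) (v8 0 0 0 0 1 0 0 0) (v8 0 0 0 0 0 1 0 0) (v8 0 0 0 0 0 0 1 0) (v8 0 0 0 0 0 0 0 1)) from by decide +kernel]
    exact hr1
  have hb3 : e8Cert.refMat (e6coxe 3) ∈ G0 := by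
    rw [show e8Cert.refMat (e6coxe 3) = (m8 (v8 1 0 0 0 0 0 0 0) (v8 0 1 0 0 0 0 0 0) (v8 0 0 1 0 0 0 0 0) (v8 0 1 1 (-1) 1 0 0 0) (v8 0 0 0 0 1 0 0 0) (v8 0 0 0 0 0 1 0 0) (v8 0 0 0 0 0 0 1 0) (v8 0 0 0 0 0 0 0 1)) from by decide +kernel]
    exact hr26
  have hb4 : e8Cert.refMat (e6coxe 4) ∈ G0 := by
    rw [show e8Cert.refMat (e6coxe 4) = (m8 (v8 1 0 0 0 0 0 0 0) (v8 0 1 0 0 0 0 0 0) (v8 0 0 1 0 0 0 0 0) (v8 0 0 0 1 0 0 0 0) (v8 0 0 0 1 (-1) 1 0 0) (v8 0 0 0 0 0 1 0 0) (v8 0 0 0 0 0 0 1 0) (v8 0 0 0 0 0 0 0 1)) from by decide +kernel]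
    exact hr14
  have hb5 : e8Cert.refMat (e6coxe 5) ∈ G0 := by
    rw [show e8Cert.refMat (e6coxe 5) = (m8 (v8 1 0 0 0 0 0 0 0) (v8 0 1 0 0 0 0 0 0) (v8 0 0 1 0 0 0 0 0) (v8 0 0 0 1 0 0 0 0) (v8 0 0 0 0 1 0 0 0) (v8 0 0 0 0 1 (-1) 1 0) (v8 0 0 0 0 0 0 1 0) (v8 0 0 0 0 0 0 0 1)) from by decide +kernel]
    exact hr25
  intro b
  fin_cases b
  · exact hb0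
  · exact hb1
  · exact hb2
  · exact hb3
  · exact hb4
  · exact hb5

theorem e6cox_gen : ∃ T : Finset (CoxeterMatrix.E₆).Group, T.card = 1 ∧
    (∀ t ∈ T, ∃ (g : (CoxeterMatrix.E₆).Group) (i : Fin 6), t = g * (CoxeterMatrix.E₆).simple i * g⁻¹) ∧
    Subgroup.closure (({((List.finRange 6).map (CoxeterMatrix.E₆).simple).prod} : Set (CoxeterMatrix.E₆).Group) ∪ ↑T) = ⊤ :=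
  e8Cert.gen_result e6coxe e6coxe_inj (CoxeterMatrix.E₆) (by decide) [0] (by decide) e6cox_gen_all

def e7coxPinv : Matrix (Fin 8) (Fin 8) ℤ :=
  (m8 (v8 (-1) 0 1 0 0 0 0 0) (v8 0 (-1) 0 1 0 0 0 0) (v8 (-1) 0 0 1 0 0 0 0) (v8 (-1) (-1) 0 1 1 0 0 0) (v8 (-1) (-1) 0 1 0 1 0 0) (v8 (-1) (-1) 0 1 0 0 1 0) (v8 (-1) (-1) 0 1 0 0 0 1) (v8 0 0 0 0 0 0 0 1))

set_option maxRecDepth 1000000 in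
theorem e7cox_pow_inv : e7coxCm ^ 17 = e7coxPinv := by
  have p1 : e7coxCm ^ 1 = e7coxCm := pow_one _
  have p2 : e7coxCm ^ 2 = (m8 (v8 0 0 1 0 0 (-1) 0 1) (v8 1 1 0 0 0 (-1) 0 1) (v8 0 1 1 0 0 (-1) (-1) 2) (v8 1 1 1 0 0 (-1) (-1) 2) (v8 0 1 1 0 0 (-1) 0 1) (v8 0 0 0 1 0 (-1) 0 1) (v8 0 0 0 0 1 (-1) 0 1) (v8 0 0 0 0 0 0 0 1)) := by
    show e7coxCm ^ (1 + 1) = (m8 (v8 0 0 1 0 0 (-1) 0 1) (v8 1 1 0 0 0 (-1) 0 1) (v8 0 1 1 0 0 (-1) (-1) 2) (v8 1 1 1 0 0 (-1) (-1) 2) (v8 0 1 1 0 0 (-1) 0 1) (v8 0 0 0 1 0 (-1) 0 1) (v8 0 0 0 0 1 (-1) 0 1) (v8 0 0 0 0 0 0 0 1))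
    rw [pow_add, p1]
    decide +kernel
  have p4 : e7coxCm ^ 4 = (m8 (v8 0 1 1 (-1) 0 0 (-1) 2) (v8 1 1 1 (-1) 0 (-1) 0 2) (v8 1 2 1 (-1) (-1) 0 (-1) 3) (v8 1 2 2 (-1) (-1) (-1) (-1) 4) (v8 1 2 1 (-1) 0 (-1) (-1) 3) (v8 1 1 1 (-1) 0 0 (-1) 2) (v8 0 1 1 (-1) 0 0 0 1) (v8 0 0 0 0 0 0 0 1)) := by
    show e7coxCm ^ (2 + 2) = (m8 (v8 0 1 1 (-1) 0 0 (-1) 2) (v8 1 1 1 (-1) 0 (-1) 0 2) (v8 1 2 1 (-1) (-1) 0 (-1) 3) (v8 1 2 2 (-1) (-1) (-1) (-1) 4) (v8 1 2 1 (-1) 0 (-1) (-1) 3) (v8 1 1 1 (-1) 0 0 (-1) 2) (v8 0 1 1 (-1) 0 0 0 1) (v8 0 0 0 0 0 0 0 1))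
    rw [pow_add, p2]
    decide +kernel
  have p8 : e7coxCm ^ 8 = (m8 (v8 1 0 (-1) 0 0 0 0 2) (v8 0 1 0 (-1) 0 0 0 3) (v8 1 0 0 (-1) 0 0 0 4) (v8 1 1 0 (-1) (-1) 0 0 6) (v8 1 1 0 (-1) 0 (-1) 0 5) (v8 1 1 0 (-1) 0 0 (-1) 4) (v8 1 1 0 (-1) 0 0 0 2) (v8 0 0 0 0 0 0 0 1)) := by
    show e7coxCm ^ (4 + 4) = (m8 (v8 1 0 (-1) 0 0 0 0 2) (v8 0 1 0 (-1) 0 0 0 3) (v8 1 0 0 (-1) 0 0 0 4) (v8 1 1 0 (-1) (-1) 0 0 6) (v8 1 1 0 (-1) 0 (-1) 0 5) (v8 1 1 0 (-1) 0 0 (-1) 4) (v8 1 1 0 (-1) 0 0 0 2) (v8 0 0 0 0 0 0 0 1))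
    rw [pow_add, p4]
    decide +kernel
  have p16 : e7coxCm ^ 16 = (m8 (v8 0 0 (-1) 1 0 0 0 0) (v8 (-1) 0 0 0 1 0 0 0) (v8 0 (-1) (-1) 1 1 0 0 0) (v8 (-1) (-1) (-1) 1 1 1 0 0) (v8 (-1) (-1) (-1) 1 1 0 1 0) (v8 (-1) (-1) (-1) 1 1 0 0 1) (v8 0 0 (-1) 0 1 0 0 1) (v8 0 0 0 0 0 0 0 1)) := by
    show e7coxCm ^ (8 + 8) = (m8 (v8 0 0 (-1) 1 0 0 0 0) (v8 (-1) 0 0 0 1 0 0 0) (v8 0 (-1) (-1) 1 1 0 0 0) (v8 (-1) (-1) (-1) 1 1 1 0 0) (v8 (-1) (-1) (-1) 1 1 0 1 0) (v8 (-1) (-1) (-1) 1 1 0 0 1) (v8 0 0 (-1) 0 1 0 0 1) (v8 0 0 0 0 0 0 0 1))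
    rw [pow_add, p8]
    decide +kernel
  have p17 : e7coxCm ^ 17 = e7coxPinv := by
    show e7coxCm ^ (16 + 1) = e7coxPinv
    rw [pow_add, p16, p1]
    decide +kernel
  exact p17

set_option maxRecDepth 1000000 in
theorem e7cox_gen_all : ∀ b, e8Cert.refMat (e7coxe b) ∈ Submonoid.closure
    ({((List.finRange 7).map (fun b => e8Cert.refMat (e7coxe b))).prod} ∪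
      {A | ∃ t ∈ ([1] : List (Fin 7)), A = e8Cert.refMat (e7coxe t)}) := by
  rw [e7cox_prod]
  set G0 := Submonoid.closure
    ({e7coxCm} ∪ {A | ∃ t ∈ ([1] : List (Fin 7)), A = e8Cert.refMat (e7coxe t)}) with hG0
  have hC : e7coxCm ∈ G0 := Submonoid.subset_closure (Or.inl rfl)
  have hP : e7coxPinv ∈ G0 := by
    rw [← e7cox_pow_inv]
    exact pow_mem hC _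
  have hr0 : (m8 (v8 1 0 0 0 0 0 0 0) (v8 0 (-1) 0 1 0 0 0 0) (v8 0 0 1 0 0 0 0 0) (v8 0 0 0 1 0 0 0 0) (v8 0 0 0 0 1 0 0 0) (v8 0 0 0 0 0 1 0 0) (v8 0 0 0 0 0 0 1 0) (v8 0 0 0 0 0 0 0 1)) ∈ G0 := by
    rw [show (m8 (v8 1 0 0 0 0 0 0 0) (v8 0 (-1) 0 1 0 0 0 0) (v8 0 0 1 0 0 0 0 0) (v8 0 0 0 1 0 0 0 0) (v8 0 0 0 0 1 0 0 0) (v8 0 0 0 0 0 1 0 0) (v8 0 0 0 0 0 0 1 0) (v8 0 0 0 0 0 0 0 1)) = e8Cert.refMat (e7coxe 1) from by decide +kernel]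
    exact Submonoid.subset_closure (Or.inr ⟨1, by simp, rfl⟩)
  have hr1 : (m8 (v8 0 1 0 (-1) 1 0 0 0) (v8 0 1 0 0 0 0 0 0) (v8 (-1) 1 1 (-1) 1 0 0 0) (v8 (-1) 1 0 0 1 0 0 0) (v8 0 0 0 0 1 0 0 0) (v8 0 0 0 0 0 1 0 0) (v8 0 0 0 0 0 0 1 0) (v8 0 0 0 0 0 0 0 1)) ∈ G0 := by
    rw [show (m8 (v8 0 1 0 (-1) 1 0 0 0) (v8 0 1 0 0 0 0 0 0) (v8 (-1) 1 1 (-1) 1 0 0 0) (v8 (-1) 1 0 0 1 0 0 0) (v8 0 0 0 0 1 0 0 0) (v8 0 0 0 0 0 1 0 0) (v8 0 0 0 0 0 0 1 0) (v8 0 0 0 0 0 0 0 1)) = e7coxCm * (m8 (v8 1 0 0 0 0 0 0 0) (v8 0 (-1) 0 1 0 0 0 0) (v8 0 0 1 0 0 0 0 0) (v8 0 0 0 1 0 0 0 0) (v8 0 0 0 0 1 0 0 0) (v8 0 0 0 0 0 1 0 0) (v8 0 0 0 0 0 0 1 0) (v8 0 0 0 0 0 0 0 1)) * e7coxPinv from by decide +kernel]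
    exact mul_mem (mul_mem hC hr0) hP
  have hr2 : (m8 (v8 1 0 0 0 0 0 0 0) (v8 0 0 1 0 0 0 (-1) 1) (v8 0 0 1 0 0 0 0 0) (v8 0 (-1) 1 1 0 0 (-1) 1) (v8 0 (-1) 1 0 1 0 (-1) 1) (v8 0 (-1) 1 0 0 1 (-1) 1) (v8 0 (-1) 1 0 0 0 0 1) (v8 0 0 0 0 0 0 0 1)) ∈ G0 := by
    rw [show (m8 (v8 1 0 0 0 0 0 0 0) (v8 0 0 1 0 0 0 (-1) 1) (v8 0 0 1 0 0 0 0 0) (v8 0 (-1) 1 1 0 0 (-1) 1) (v8 0 (-1) 1 0 1 0 (-1) 1) (v8 0 (-1) 1 0 0 1 (-1) 1) (v8 0 (-1) 1 0 0 0 0 1) (v8 0 0 0 0 0 0 0 1)) = e7coxPinv * (m8 (v8 1 0 0 0 0 0 0 0) (v8 0 (-1) 0 1 0 0 0 0) (v8 0 0 1 0 0 0 0 0) (v8 0 0 0 1 0 0 0 0) (v8 0 0 0 0 1 0 0 0) (v8 0 0 0 0 0 1 0 0) (v8 0 0 0 0 0 0 1 0) (v8 0 0 0 0 0 0 0 1)) * e7coxCm from by decide +kernel]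
    exact mul_mem (mul_mem hP hr0) hC
  have hr3 : (m8 (v8 1 0 0 0 0 0 0 0) (v8 1 0 (-1) 1 (-1) 1 0 0) (v8 1 (-1) 0 1 (-1) 1 0 0) (v8 1 (-1) (-1) 2 (-1) 1 0 0) (v8 1 (-1) (-1) 1 0 1 0 0) (v8 0 0 0 0 0 1 0 0) (v8 0 0 0 0 0 0 1 0) (v8 0 0 0 0 0 0 0 1)) ∈ G0 := by
    rw [show (m8 (v8 1 0 0 0 0 0 0 0) (v8 1 0 (-1) 1 (-1) 1 0 0) (v8 1 (-1) 0 1 (-1) 1 0 0) (v8 1 (-1) (-1) 2 (-1) 1 0 0) (v8 1 (-1) (-1) 1 0 1 0 0) (v8 0 0 0 0 0 1 0 0) (v8 0 0 0 0 0 0 1 0) (v8 0 0 0 0 0 0 0 1)) = e7coxCm * (m8 (v8 0 1 0 (-1) 1 0 0 0) (v8 0 1 0 0 0 0 0 0) (v8 (-1) 1 1 (-1) 1 0 0 0) (v8 (-1) 1 0 0 1 0 0 0) (v8 0 0 0 0 1 0 0 0) (v8 0 0 0 0 0 1 0 0) (v8 0 0 0 0 0 0 1 0) (v8 0 0 0 0 0 0 0 1)) * e7coxPinv from by decide +kernel]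
    exact mul_mem (mul_mem hC hr1) hP
  have hr4 : (m8 (v8 1 0 0 0 0 0 0 0) (v8 0 1 0 0 0 0 0 0) (v8 1 1 0 0 0 (-1) 1 0) (v8 1 1 (-1) 1 0 (-1) 1 0) (v8 1 1 (-1) 0 1 (-1) 1 0) (v8 1 1 (-1) 0 0 0 1 0) (v8 0 0 0 0 0 0 1 0) (v8 0 0 0 0 0 0 0 1)) ∈ G0 := by
    rw [show (m8 (v8 1 0 0 0 0 0 0 0) (v8 0 1 0 0 0 0 0 0) (v8 1 1 0 0 0 (-1) 1 0) (v8 1 1 (-1) 1 0 (-1) 1 0) (v8 1 1 (-1) 0 1 (-1) 1 0) (v8 1 1 (-1) 0 0 0 1 0) (v8 0 0 0 0 0 0 1 0) (v8 0 0 0 0 0 0 0 1)) = e7coxPinv * (m8 (v8 1 0 0 0 0 0 0 0) (v8 0 0 1 0 0 0 (-1) 1) (v8 0 0 1 0 0 0 0 0) (v8 0 (-1) 1 1 0 0 (-1) 1) (v8 0 (-1) 1 0 1 0 (-1) 1) (v8 0 (-1) 1 0 0 1 (-1) 1) (v8 0 (-1) 1 0 0 0 0 1) (v8 0 0 0 0 0 0 0 1)) * e7coxCm from by decide +kernel]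
    exact mul_mem (mul_mem hP hr2) hC
  have hr5 : (m8 (v8 0 (-1) 0 0 1 0 0 0) (v8 (-1) 0 0 0 1 0 0 0) (v8 (-1) (-1) 1 0 1 0 0 0) (v8 (-1) (-1) 0 1 1 0 0 0) (v8 0 0 0 0 1 0 0 0) (v8 0 0 0 0 0 1 0 0) (v8 0 0 0 0 0 0 1 0) (v8 0 0 0 0 0 0 0 1)) ∈ G0 := by
    rw [show (m8 (v8 0 (-1) 0 0 1 0 0 0) (v8 (-1) 0 0 0 1 0 0 0) (v8 (-1) (-1) 1 0 1 0 0 0) (v8 (-1) (-1) 0 1 1 0 0 0) (v8 0 0 0 0 1 0 0 0) (v8 0 0 0 0 0 1 0 0) (v8 0 0 0 0 0 0 1 0) (v8 0 0 0 0 0 0 0 1)) = (m8 (v8 1 0 0 0 0 0 0 0) (v8 0 (-1) 0 1 0 0 0 0) (v8 0 0 1 0 0 0 0 0) (v8 0 0 0 1 0 0 0 0) (v8 0 0 0 0 1 0 0 0) (v8 0 0 0 0 0 1 0 0) (v8 0 0 0 0 0 0 1 0) (v8 0 0 0 0 0 0 0 1)) * (m8 (v8 0 1 0 (-1) 1 0 0 0) (v8 0 1 0 0 0 0 0 0) (v8 (-1) 1 1 (-1) 1 0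 0 0) (v8 (-1) 1 0 0 1 0 0 0) (v8 0 0 0 0 1 0 0 0) (v8 0 0 0 0 0 1 0 0) (v8 0 0 0 0 0 0 1 0) (v8 0 0 0 0 0 0 0 1)) * (m8 (v8 1 0 0 0 0 0 0 0) (v8 0 (-1) 0 1 0 0 0 0) (v8 0 0 1 0 0 0 0 0) (v8 0 0 0 1 0 0 0 0) (v8 0 0 0 0 1 0 0 0) (v8 0 0 0 0 0 1 0 0) (v8 0 0 0 0 0 0 1 0) (v8 0 0 0 0 0 0 0 1)) from by decide +kernel]
    exact mul_mem (mul_mem hr0 hr1) hr0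
  have hr6 : (m8 (v8 1 0 0 0 0 0 0 0) (v8 0 1 0 0 0 0 0 0) (v8 0 0 1 0 0 0 0 0) (v8 0 1 1 0 0 0 (-1) 1) (v8 0 1 1 (-1) 1 0 (-1) 1) (v8 0 1 1 (-1) 0 1 (-1) 1) (v8 0 1 1 (-1) 0 0 0 1) (v8 0 0 0 0 0 0 0 1)) ∈ G0 := by
    rw [show (m8 (v8 1 0 0 0 0 0 0 0) (v8 0 1 0 0 0 0 0 0) (v8 0 0 1 0 0 0 0 0) (v8 0 1 1 0 0 0 (-1) 1) (v8 0 1 1 (-1) 1 0 (-1) 1) (v8 0 1 1 (-1) 0 1 (-1) 1) (v8 0 1 1 (-1) 0 0 0 1) (v8 0 0 0 0 0 0 0 1)) = (m8 (v8 1 0 0 0 0 0 0 0) (v8 0 (-1) 0 1 0 0 0 0) (v8 0 0 1 0 0 0 0 0) (v8 0 0 0 1 0 0 0 0) (v8 0 0 0 0 1 0 0 0) (v8 0 0 0 0 0 1 0 0) (v8 0 0 0 0 0 0 1 0) (v8 0 0 0 0 0 0 0 1)) * (m8 (v8 1 0 0 0 0 0 0 0) (v8 0 0 1 0 0 0 (-1) 1) (v8 0 0 1 0 0 0 0 0) (v8 0 (-1) 1 1 0 0 (-1) 1) (v8 0 (-1)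 1 0 1 0 (-1) 1) (v8 0 (-1) 1 0 0 1 (-1) 1) (v8 0 (-1) 1 0 0 0 0 1) (v8 0 0 0 0 0 0 0 1)) * (m8 (v8 1 0 0 0 0 0 0 0) (v8 0 (-1) 0 1 0 0 0 0) (v8 0 0 1 0 0 0 0 0) (v8 0 0 0 1 0 0 0 0) (v8 0 0 0 0 1 0 0 0) (v8 0 0 0 0 0 1 0 0) (v8 0 0 0 0 0 0 1 0) (v8 0 0 0 0 0 0 0 1)) from by decide +kernel]
    exact mul_mem (mul_mem hr0 hr2) hr0
  have hr7 : (m8 (v8 0 0 1 (-1) 1 0 (-1) 1) (v8 (-1) 1 1 (-1) 1 0 (-1) 1) (v8 (-1) 0 2 (-1) 1 0 (-1) 1) (v8 (-2) 0 2 (-1) 2 0 (-2) 2) (v8 (-1) 0 1 (-1) 2 0 (-1) 1) (v8 (-1) 0 1 (-1) 1 1 (-1) 1) (v8 (-1) 0 1 (-1) 1 0 0 1) (v8 0 0 0 0 0 0 0 1)) ∈ G0 := by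
    rw [show (m8 (v8 0 0 1 (-1) 1 0 (-1) 1) (v8 (-1) 1 1 (-1) 1 0 (-1) 1) (v8 (-1) 0 2 (-1) 1 0 (-1) 1) (v8 (-2) 0 2 (-1) 2 0 (-2) 2) (v8 (-1) 0 1 (-1) 2 0 (-1) 1) (v8 (-1) 0 1 (-1) 1 1 (-1) 1) (v8 (-1) 0 1 (-1) 1 0 0 1) (v8 0 0 0 0 0 0 0 1)) = (m8 (v8 0 1 0 (-1) 1 0 0 0) (v8 0 1 0 0 0 0 0 0) (v8 (-1) 1 1 (-1) 1 0 0 0) (v8 (-1) 1 0 0 1 0 0 0) (v8 0 0 0 0 1 0 0 0) (v8 0 0 0 0 0 1 0 0) (v8 0 0 0 0 0 0 1 0) (v8 0 0 0 0 0 0 0 1)) * (m8 (v8 1 0 0 0 0 0 0 0) (v8 0 0 1 0 0 0 (-1) 1) (v8 0 0 1 0 0 0 0 0) (v8 0 (-1) 1 1 0 0 (-1) 1) (v8 0 (-1) 1 0 1 0 (-1) 1) (v8 0 (-1) 1 0 0 1 (-1) 1) (v8 0 (-1) 1 0 0 0 0 1) (v8 0 0 0 0 0 0 0 1)) * (m8 (v8 0 1 0 (-1) 1 0 0 0) (v8 0 1 0 0 0 0 0 0) (v8 (-1) 1 1 (-1) 1 0 0 0)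 (v8 (-1) 1 0 0 1 0 0 0) (v8 0 0 0 0 1 0 0 0) (v8 0 0 0 0 0 1 0 0) (v8 0 0 0 0 0 0 1 0) (v8 0 0 0 0 0 0 0 1)) from by decide +kernel]
    exact mul_mem (mul_mem hr1 hr2) hr1
  have hr8 : (m8 (v8 0 0 1 (-1) 1 (-1) 1 0) (v8 (-1) 1 1 (-1) 1 (-1) 1 0) (v8 (-1) 0 2 (-1) 1 (-1) 1 0) (v8 (-2) 0 2 (-1) 2 (-2) 2 0) (v8 (-1) 0 1 (-1) 2 (-1) 1 0) (v8 (-1) 0 1 (-1) 1 0 1 0) (v8 0 0 0 0 0 0 1 0) (v8 0 0 0 0 0 0 0 1)) ∈ G0 := by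
    rw [show (m8 (v8 0 0 1 (-1) 1 (-1) 1 0) (v8 (-1) 1 1 (-1) 1 (-1) 1 0) (v8 (-1) 0 2 (-1) 1 (-1) 1 0) (v8 (-2) 0 2 (-1) 2 (-2) 2 0) (v8 (-1) 0 1 (-1) 2 (-1) 1 0) (v8 (-1) 0 1 (-1) 1 0 1 0) (v8 0 0 0 0 0 0 1 0) (v8 0 0 0 0 0 0 0 1)) = e7coxCm * (m8 (v8 1 0 0 0 0 0 0 0) (v8 1 0 (-1) 1 (-1) 1 0 0) (v8 1 (-1) 0 1 (-1) 1 0 0) (v8 1 (-1) (-1) 2 (-1) 1 0 0) (v8 1 (-1) (-1) 1 0 1 0 0) (v8 0 0 0 0 0 1 0 0) (v8 0 0 0 0 0 0 1 0) (v8 0 0 0 0 0 0 0 1)) * e7coxPinv from by decide +kernel]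
    exact mul_mem (mul_mem hC hr3) hP
  have hr9 : (m8 (v8 0 0 1 0 (-1) 1 (-1) 1) (v8 (-1) 1 1 0 (-1) 1 (-1) 1) (v8 (-1) 0 2 0 (-1) 1 (-1) 1) (v8 (-2) 0 2 1 (-2) 2 (-2) 2) (v8 (-2) 0 2 0 (-1) 2 (-2) 2) (v8 (-1) 0 1 0 (-1) 2 (-1) 1) (v8 (-1) 0 1 0 (-1) 1 0 1) (v8 0 0 0 0 0 0 0 1)) ∈ G0 := by
    rw [show (m8 (v8 0 0 1 0 (-1) 1 (-1) 1) (v8 (-1) 1 1 0 (-1) 1 (-1) 1) (v8 (-1) 0 2 0 (-1) 1 (-1) 1) (v8 (-2) 0 2 1 (-2) 2 (-2) 2) (v8 (-2) 0 2 0 (-1) 2 (-2) 2) (v8 (-1) 0 1 0 (-1) 2 (-1) 1) (v8 (-1) 0 1 0 (-1) 1 0 1) (v8 0 0 0 0 0 0 0 1)) = e7coxPinv * (m8 (v8 1 0 0 0 0 0 0 0) (v8 0 1 0 0 0 0 0 0) (v8 1 1 0 0 0 (-1) 1 0) (v8 1 1 (-1) 1 0 (-1) 1 0) (v8 1 1 (-1) 0 1 (-1) 1 0) (v8 1 1 (-1) 0 0 0 1 0) (v8 0 0 0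 0 0 0 1 0) (v8 0 0 0 0 0 0 0 1)) * e7coxCm from by decide +kernel]
    exact mul_mem (mul_mem hP hr4) hC
  have hr13 : (m8 (v8 1 0 0 0 0 0 0 0) (v8 1 0 (-1) 1 0 (-1) 1 0) (v8 1 (-1) 0 1 0 (-1) 1 0) (v8 1 (-1) (-1) 2 0 (-1) 1 0) (v8 1 (-1) (-1) 1 1 (-1) 1 0) (v8 1 (-1) (-1) 1 0 0 1 0) (v8 0 0 0 0 0 0 1 0) (v8 0 0 0 0 0 0 0 1)) ∈ G0 := by
    rw [show (m8 (v8 1 0 0 0 0 0 0 0) (v8 1 0 (-1) 1 0 (-1) 1 0) (v8 1 (-1) 0 1 0 (-1) 1 0) (v8 1 (-1) (-1) 2 0 (-1) 1 0) (v8 1 (-1) (-1) 1 1 (-1) 1 0) (v8 1 (-1) (-1) 1 0 0 1 0) (v8 0 0 0 0 0 0 1 0) (v8 0 0 0 0 0 0 0 1)) = e7coxPinv * (m8 (v8 0 0 1 (-1) 1 0 (-1) 1) (v8 (-1) 1 1 (-1) 1 0 (-1) 1) (v8 (-1) 0 2 (-1) 1 0 (-1) 1) (v8 (-2) 0 2 (-1) 2 0 (-2) 2) (v8 (-1) 0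 1 (-1) 2 0 (-1) 1) (v8 (-1) 0 1 (-1) 1 1 (-1) 1) (v8 (-1) 0 1 (-1) 1 0 0 1) (v8 0 0 0 0 0 0 0 1)) * e7coxCm from by decide +kernel]
    exact mul_mem (mul_mem hP hr7) hC
  have hr14 : (m8 (v8 1 0 0 0 0 0 0 0) (v8 1 1 0 0 (-1) 1 (-1) 1) (v8 1 0 1 0 (-1) 1 (-1) 1) (v8 2 0 0 1 (-2) 2 (-2) 2) (v8 2 0 0 0 (-1) 2 (-2) 2) (v8 1 0 0 0 (-1) 2 (-1) 1) (v8 1 0 0 0 (-1) 1 0 1) (v8 0 0 0 0 0 0 0 1)) ∈ G0 := by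
    rw [show (m8 (v8 1 0 0 0 0 0 0 0) (v8 1 1 0 0 (-1) 1 (-1) 1) (v8 1 0 1 0 (-1) 1 (-1) 1) (v8 2 0 0 1 (-2) 2 (-2) 2) (v8 2 0 0 0 (-1) 2 (-2) 2) (v8 1 0 0 0 (-1) 2 (-1) 1) (v8 1 0 0 0 (-1) 1 0 1) (v8 0 0 0 0 0 0 0 1)) = (m8 (v8 1 0 0 0 0 0 0 0) (v8 1 0 (-1) 1 (-1) 1 0 0) (v8 1 (-1) 0 1 (-1) 1 0 0) (v8 1 (-1) (-1) 2 (-1) 1 0 0) (v8 1 (-1) (-1) 1 0 1 0 0) (v8 0 0 0 0 0 1 0 0) (v8 0 0 0 0 0 0 1 0) (v8 0 0 0 0 0 0 0 1)) * (m8 (v8 1 0 0 0 0 0 0 0) (v8 0 1 0 0 0 0 0 0) (v8 0 0 1 0 0 0 0 0) (v8 0 1 1 0 0 0 (-1) 1) (v8 0 1 1 (-1) 1 0 (-1) 1) (v8 0 1 1 (-1) 0 1 (-1) 1) (v8 0 1 1 (-1) 0 0 0 1) (v8 0 0 0 0 0 0 0 1)) * (m8 (v8 1 0 0 0 0 0 0 0) (v8 1 0 (-1) 1 (-1) 1 0 0) (v8 1 (-1) 0 1 (-1) 1 0 0) (v8 1 (-1) (-1)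 2 (-1) 1 0 0) (v8 1 (-1) (-1) 1 0 1 0 0) (v8 0 0 0 0 0 1 0 0) (v8 0 0 0 0 0 0 1 0) (v8 0 0 0 0 0 0 0 1)) from by decide +kernel]
    exact mul_mem (mul_mem hr3 hr6) hr3
  have hr16 : (m8 (v8 1 0 (-1) 0 1 (-1) 1 0) (v8 0 1 (-1) 0 1 (-1) 1 0) (v8 0 0 (-1) 0 2 (-2) 2 0) (v8 0 0 (-2) 1 2 (-2) 2 0) (v8 0 0 (-1) 0 2 (-1) 1 0) (v8 0 0 (-1) 0 1 0 1 0) (v8 0 0 0 0 0 0 1 0) (v8 0 0 0 0 0 0 0 1)) ∈ G0 := by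
    rw [show (m8 (v8 1 0 (-1) 0 1 (-1) 1 0) (v8 0 1 (-1) 0 1 (-1) 1 0) (v8 0 0 (-1) 0 2 (-2) 2 0) (v8 0 0 (-2) 1 2 (-2) 2 0) (v8 0 0 (-1) 0 2 (-1) 1 0) (v8 0 0 (-1) 0 1 0 1 0) (v8 0 0 0 0 0 0 1 0) (v8 0 0 0 0 0 0 0 1)) = (m8 (v8 1 0 0 0 0 0 0 0) (v8 0 1 0 0 0 0 0 0) (v8 1 1 0 0 0 (-1) 1 0) (v8 1 1 (-1) 1 0 (-1) 1 0) (v8 1 1 (-1) 0 1 (-1) 1 0) (v8 1 1 (-1) 0 0 0 1 0) (v8 0 0 0 0 0 0 1 0) (v8 0 0 0 0 0 0 0 1)) * (m8 (v8 0 (-1) 0 0 1 0 0 0) (v8 (-1) 0 0 0 1 0 0 0) (v8 (-1) (-1) 1 0 1 0 0 0) (v8 (-1) (-1) 0 1 1 0 0 0) (v8 0 0 0 0 1 0 0 0) (v8 0 0 0 0 0 1 0 0) (v8 0 0 0 0 0 0 1 0) (v8 0 0 0 0 0 0 0 1)) * (m8 (v8 1 0 0 0 0 0 0 0) (v8 0 1 0 0 0 0 0 0) (v8 1 1 0 0 0 (-1) 1 0) (v8 1 1 (-1) 1 0 (-1) 1 0) (v8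 1 1 (-1) 0 1 (-1) 1 0) (v8 1 1 (-1) 0 0 0 1 0) (v8 0 0 0 0 0 0 1 0) (v8 0 0 0 0 0 0 0 1)) from by decide +kernel]
    exact mul_mem (mul_mem hr4 hr5) hr4
  have hr30 : (m8 (v8 1 0 0 0 0 0 0 0) (v8 0 1 0 0 0 0 0 0) (v8 0 0 1 0 0 0 0 0) (v8 0 0 0 1 0 0 0 0) (v8 0 0 0 0 1 0 0 0) (v8 0 0 0 0 1 (-1) 1 0) (v8 0 0 0 0 0 0 1 0) (v8 0 0 0 0 0 0 0 1)) ∈ G0 := by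
    rw [show (m8 (v8 1 0 0 0 0 0 0 0) (v8 0 1 0 0 0 0 0 0) (v8 0 0 1 0 0 0 0 0) (v8 0 0 0 1 0 0 0 0) (v8 0 0 0 0 1 0 0 0) (v8 0 0 0 0 1 (-1) 1 0) (v8 0 0 0 0 0 0 1 0) (v8 0 0 0 0 0 0 0 1)) = (m8 (v8 1 0 0 0 0 0 0 0) (v8 1 0 (-1) 1 (-1) 1 0 0) (v8 1 (-1) 0 1 (-1) 1 0 0) (v8 1 (-1) (-1) 2 (-1) 1 0 0) (v8 1 (-1) (-1) 1 0 1 0 0) (v8 0 0 0 0 0 1 0 0) (v8 0 0 0 0 0 0 1 0) (v8 0 0 0 0 0 0 0 1)) * (m8 (v8 1 0 0 0 0 0 0 0) (v8 1 0 (-1) 1 0 (-1) 1 0) (v8 1 (-1) 0 1 0 (-1) 1 0) (v8 1 (-1) (-1) 2 0 (-1) 1 0) (v8 1 (-1) (-1) 1 1 (-1) 1 0) (v8 1 (-1) (-1) 1 0 0 1 0) (v8 0 0 0 0 0 0 1 0) (v8 0 0 0 0 0 0 0 1)) * (m8 (v8 1 0 0 0 0 0 0 0) (v8 1 0 (-1) 1 (-1) 1 0 0) (v8 1 (-1) 0 1 (-1) 1 0 0) (v8 1 (-1) (-1) 2 (-1) 1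 0 0) (v8 1 (-1) (-1) 1 0 1 0 0) (v8 0 0 0 0 0 1 0 0) (v8 0 0 0 0 0 0 1 0) (v8 0 0 0 0 0 0 0 1)) from by decide +kernel]
    exact mul_mem (mul_mem hr3 hr13) hr3
  have hr32 : (m8 (v8 1 0 0 0 0 0 0 0) (v8 0 1 0 0 0 0 0 0) (v8 0 0 1 0 0 0 0 0) (v8 0 0 0 1 0 0 0 0) (v8 0 0 0 0 1 0 0 0) (v8 0 0 0 0 0 1 0 0) (v8 0 0 0 0 0 1 (-1) 1) (v8 0 0 0 0 0 0 0 1)) ∈ G0 := by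
    rw [show (m8 (v8 1 0 0 0 0 0 0 0) (v8 0 1 0 0 0 0 0 0) (v8 0 0 1 0 0 0 0 0) (v8 0 0 0 1 0 0 0 0) (v8 0 0 0 0 1 0 0 0) (v8 0 0 0 0 0 1 0 0) (v8 0 0 0 0 0 1 (-1) 1) (v8 0 0 0 0 0 0 0 1)) = (m8 (v8 0 0 1 (-1) 1 0 (-1) 1) (v8 (-1) 1 1 (-1) 1 0 (-1) 1) (v8 (-1) 0 2 (-1) 1 0 (-1) 1) (v8 (-2) 0 2 (-1) 2 0 (-2) 2) (v8 (-1) 0 1 (-1) 2 0 (-1) 1) (v8 (-1) 0 1 (-1) 1 1 (-1) 1) (v8 (-1) 0 1 (-1) 1 0 0 1) (v8 0 0 0 0 0 0 0 1)) * (m8 (v8 0 0 1 (-1) 1 (-1) 1 0) (v8 (-1) 1 1 (-1) 1 (-1) 1 0) (v8 (-1) 0 2 (-1) 1 (-1) 1 0) (v8 (-2) 0 2 (-1) 2 (-2) 2 0) (v8 (-1) 0 1 (-1) 2 (-1) 1 0) (v8 (-1) 0 1 (-1) 1 0 1 0) (v8 0 0 0 0 0 0 1 0) (v8 0 0 0 0 0 0 0 1)) * (m8 (v8 0 0 1 (-1) 1 0 (-1) 1) (v8 (-1) 1 1 (-1) 1 0 (-1) 1)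 (v8 (-1) 0 2 (-1) 1 0 (-1) 1) (v8 (-2) 0 2 (-1) 2 0 (-2) 2) (v8 (-1) 0 1 (-1) 2 0 (-1) 1) (v8 (-1) 0 1 (-1) 1 1 (-1) 1) (v8 (-1) 0 1 (-1) 1 0 0 1) (v8 0 0 0 0 0 0 0 1)) from by decide +kernel]
    exact mul_mem (mul_mem hr7 hr8) hr7
  have hr33 : (m8 (v8 1 0 0 0 0 0 0 0) (v8 0 1 0 0 0 0 0 0) (v8 0 0 1 0 0 0 0 0) (v8 0 0 0 1 0 0 0 0) (v8 0 0 0 1 (-1) 1 0 0) (v8 0 0 0 0 0 1 0 0) (v8 0 0 0 0 0 0 1 0) (v8 0 0 0 0 0 0 0 1)) ∈ G0 := by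
    rw [show (m8 (v8 1 0 0 0 0 0 0 0) (v8 0 1 0 0 0 0 0 0) (v8 0 0 1 0 0 0 0 0) (v8 0 0 0 1 0 0 0 0) (v8 0 0 0 1 (-1) 1 0 0) (v8 0 0 0 0 0 1 0 0) (v8 0 0 0 0 0 0 1 0) (v8 0 0 0 0 0 0 0 1)) = (m8 (v8 0 0 1 (-1) 1 0 (-1) 1) (v8 (-1) 1 1 (-1) 1 0 (-1) 1) (v8 (-1) 0 2 (-1) 1 0 (-1) 1) (v8 (-2) 0 2 (-1) 2 0 (-2) 2) (v8 (-1) 0 1 (-1) 2 0 (-1) 1) (v8 (-1) 0 1 (-1) 1 1 (-1) 1) (v8 (-1) 0 1 (-1) 1 0 0 1) (v8 0 0 0 0 0 0 0 1)) * (m8 (v8 0 0 1 0 (-1) 1 (-1) 1) (v8 (-1) 1 1 0 (-1) 1 (-1) 1) (v8 (-1) 0 2 0 (-1) 1 (-1) 1) (v8 (-2) 0 2 1 (-2) 2 (-2) 2) (v8 (-2) 0 2 0 (-1) 2 (-2) 2) (v8 (-1) 0 1 0 (-1) 2 (-1) 1) (v8 (-1) 0 1 0 (-1) 1 0 1) (v8 0 0 0 0 0 0 0 1)) * (m8 (v8 0 0 1 (-1) 1 0 (-1) 1) (v8 (-1) 1 1 (-1) 1 0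 (-1) 1) (v8 (-1) 0 2 (-1) 1 0 (-1) 1) (v8 (-2) 0 2 (-1) 2 0 (-2) 2) (v8 (-1) 0 1 (-1) 2 0 (-1) 1) (v8 (-1) 0 1 (-1) 1 1 (-1) 1) (v8 (-1) 0 1 (-1) 1 0 0 1) (v8 0 0 0 0 0 0 0 1)) from by decide +kernel]
    exact mul_mem (mul_mem hr7 hr9) hr7
  have hr35 : (m8 (v8 1 0 0 0 0 0 0 0) (v8 0 1 0 0 0 0 0 0) (v8 1 0 (-1) 1 0 0 0 0) (v8 0 0 0 1 0 0 0 0) (v8 0 0 0 0 1 0 0 0) (v8 0 0 0 0 0 1 0 0) (v8 0 0 0 0 0 0 1 0) (v8 0 0 0 0 0 0 0 1)) ∈ G0 := by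
    rw [show (m8 (v8 1 0 0 0 0 0 0 0) (v8 0 1 0 0 0 0 0 0) (v8 1 0 (-1) 1 0 0 0 0) (v8 0 0 0 1 0 0 0 0) (v8 0 0 0 0 1 0 0 0) (v8 0 0 0 0 0 1 0 0) (v8 0 0 0 0 0 0 1 0) (v8 0 0 0 0 0 0 0 1)) = (m8 (v8 0 0 1 (-1) 1 (-1) 1 0) (v8 (-1) 1 1 (-1) 1 (-1) 1 0) (v8 (-1) 0 2 (-1) 1 (-1) 1 0) (v8 (-2) 0 2 (-1) 2 (-2) 2 0) (v8 (-1) 0 1 (-1) 2 (-1) 1 0) (v8 (-1) 0 1 (-1) 1 0 1 0) (v8 0 0 0 0 0 0 1 0) (v8 0 0 0 0 0 0 0 1)) * (m8 (v8 1 0 (-1) 0 1 (-1) 1 0) (v8 0 1 (-1) 0 1 (-1) 1 0) (v8 0 0 (-1) 0 2 (-2) 2 0) (v8 0 0 (-2) 1 2 (-2) 2 0) (v8 0 0 (-1) 0 2 (-1) 1 0) (v8 0 0 (-1) 0 1 0 1 0) (v8 0 0 0 0 0 0 1 0) (v8 0 0 0 0 0 0 0 1)) * (m8 (v8 0 0 1 (-1) 1 (-1) 1 0) (v8 (-1) 1 1 (-1) 1 (-1) 1 0) (v8 (-1) 0 2 (-1) 1 (-1)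 1 0) (v8 (-2) 0 2 (-1) 2 (-2) 2 0) (v8 (-1) 0 1 (-1) 2 (-1) 1 0) (v8 (-1) 0 1 (-1) 1 0 1 0) (v8 0 0 0 0 0 0 1 0) (v8 0 0 0 0 0 0 0 1)) from by decide +kernel]
    exact mul_mem (mul_mem hr8 hr16) hr8
  have hr37 : (m8 (v8 (-1) 0 1 0 0 0 0 0) (v8 0 1 0 0 0 0 0 0) (v8 0 0 1 0 0 0 0 0) (v8 0 0 0 1 0 0 0 0) (v8 0 0 0 0 1 0 0 0) (v8 0 0 0 0 0 1 0 0) (v8 0 0 0 0 0 0 1 0) (v8 0 0 0 0 0 0 0 1)) ∈ G0 := by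
    rw [show (m8 (v8 (-1) 0 1 0 0 0 0 0) (v8 0 1 0 0 0 0 0 0) (v8 0 0 1 0 0 0 0 0) (v8 0 0 0 1 0 0 0 0) (v8 0 0 0 0 1 0 0 0) (v8 0 0 0 0 0 1 0 0) (v8 0 0 0 0 0 0 1 0) (v8 0 0 0 0 0 0 0 1)) = (m8 (v8 0 0 1 0 (-1) 1 (-1) 1) (v8 (-1) 1 1 0 (-1) 1 (-1) 1) (v8 (-1) 0 2 0 (-1) 1 (-1) 1) (v8 (-2) 0 2 1 (-2) 2 (-2) 2) (v8 (-2) 0 2 0 (-1) 2 (-2) 2) (v8 (-1) 0 1 0 (-1) 2 (-1) 1) (v8 (-1) 0 1 0 (-1) 1 0 1) (v8 0 0 0 0 0 0 0 1)) * (m8 (v8 1 0 0 0 0 0 0 0) (v8 1 1 0 0 (-1) 1 (-1) 1) (v8 1 0 1 0 (-1) 1 (-1) 1) (v8 2 0 0 1 (-2) 2 (-2) 2) (v8 2 0 0 0 (-1) 2 (-2) 2) (v8 1 0 0 0 (-1) 2 (-1) 1) (v8 1 0 0 0 (-1) 1 0 1) (v8 0 0 0 0 0 0 0 1)) * (m8 (v8 0 0 1 0 (-1) 1 (-1) 1) (v8 (-1) 1 1 0 (-1) 1 (-1) 1) (v8 (-1) 0 2 0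 (-1) 1 (-1) 1) (v8 (-2) 0 2 1 (-2) 2 (-2) 2) (v8 (-2) 0 2 0 (-1) 2 (-2) 2) (v8 (-1) 0 1 0 (-1) 2 (-1) 1) (v8 (-1) 0 1 0 (-1) 1 0 1) (v8 0 0 0 0 0 0 0 1)) from by decide +kernel]
    exact mul_mem (mul_mem hr9 hr14) hr9
  have hr46 : (m8 (v8 1 0 0 0 0 0 0 0) (v8 0 1 0 0 0 0 0 0) (v8 0 0 1 0 0 0 0 0) (v8 0 1 1 (-1) 1 0 0 0) (v8 0 0 0 0 1 0 0 0) (v8 0 0 0 0 0 1 0 0) (v8 0 0 0 0 0 0 1 0) (v8 0 0 0 0 0 0 0 1)) ∈ G0 := by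
    rw [show (m8 (v8 1 0 0 0 0 0 0 0) (v8 0 1 0 0 0 0 0 0) (v8 0 0 1 0 0 0 0 0) (v8 0 1 1 (-1) 1 0 0 0) (v8 0 0 0 0 1 0 0 0) (v8 0 0 0 0 0 1 0 0) (v8 0 0 0 0 0 0 1 0) (v8 0 0 0 0 0 0 0 1)) = e7coxPinv * (m8 (v8 1 0 0 0 0 0 0 0) (v8 0 1 0 0 0 0 0 0) (v8 0 0 1 0 0 0 0 0) (v8 0 0 0 1 0 0 0 0) (v8 0 0 0 1 (-1) 1 0 0) (v8 0 0 0 0 0 1 0 0) (v8 0 0 0 0 0 0 1 0) (v8 0 0 0 0 0 0 0 1)) * e7coxCm from by decide +kernel]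
    exact mul_mem (mul_mem hP hr33) hC
  have hb0 : e8Cert.refMat (e7coxe 0) ∈ G0 := by
    rw [show e8Cert.refMat (e7coxe 0) = (m8 (v8 (-1) 0 1 0 0 0 0 0) (v8 0 1 0 0 0 0 0 0) (v8 0 0 1 0 0 0 0 0) (v8 0 0 0 1 0 0 0 0) (v8 0 0 0 0 1 0 0 0) (v8 0 0 0 0 0 1 0 0) (v8 0 0 0 0 0 0 1 0) (v8 0 0 0 0 0 0 0 1)) from by decide +kernel]
    exact hr37
  have hb1 : e8Cert.refMat (e7coxe 1) ∈ G0 := by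
    rw [show e8Cert.refMat (e7coxe 1) = (m8 (v8 1 0 0 0 0 0 0 0) (v8 0 (-1) 0 1 0 0 0 0) (v8 0 0 1 0 0 0 0 0) (v8 0 0 0 1 0 0 0 0) (v8 0 0 0 0 1 0 0 0) (v8 0 0 0 0 0 1 0 0) (v8 0 0 0 0 0 0 1 0) (v8 0 0 0 0 0 0 0 1)) from by decide +kernel]
    exact hr0
  have hb2 : e8Cert.refMat (e7coxe 2) ∈ G0 := by
    rw [show e8Cert.refMat (e7coxe 2) = (m8 (v8 1 0 0 0 0 0 0 0) (v8 0 1 0 0 0 0 0 0) (v8 1 0 (-1) 1 0 0 0 0) (v8 0 0 0 1 0 0 0 0) (v8 0 0 0 0 1 0 0 0) (v8 0 0 0 0 0 1 0 0) (v8 0 0 0 0 0 0 1 0) (v8 0 0 0 0 0 0 0 1)) from by decide +kernel]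
    exact hr35
  have hb3 : e8Cert.refMat (e7coxe 3) ∈ G0 := by
    rw [show e8Cert.refMat (e7coxe 3) = (m8 (v8 1 0 0 0 0 0 0 0) (v8 0 1 0 0 0 0 0 0) (v8 0 0 1 0 0 0 0 0) (v8 0 1 1 (-1) 1 0 0 0) (v8 0 0 0 0 1 0 0 0) (v8 0 0 0 0 0 1 0 0) (v8 0 0 0 0 0 0 1 0) (v8 0 0 0 0 0 0 0 1)) from by decide +kernel]
    exact hr46
  have hb4 : e8Cert.refMat (e7coxe 4) ∈ G0 := by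
    rw [show e8Cert.refMat (e7coxe 4) = (m8 (v8 1 0 0 0 0 0 0 0) (v8 0 1 0 0 0 0 0 0) (v8 0 0 1 0 0 0 0 0) (v8 0 0 0 1 0 0 0 0) (v8 0 0 0 1 (-1) 1 0 0) (v8 0 0 0 0 0 1 0 0) (v8 0 0 0 0 0 0 1 0) (v8 0 0 0 0 0 0 0 1)) from by decide +kernel]
    exact hr33
  have hb5 : e8Cert.refMat (e7coxe 5) ∈ G0 := by
    rw [show e8Cert.refMat (e7coxe 5) = (m8 (v8 1 0 0 0 0 0 0 0) (v8 0 1 0 0 0 0 0 0) (v8 0 0 1 0 0 0 0 0) (v8 0 0 0 1 0 0 0 0) (v8 0 0 0 0 1 0 0 0) (v8 0 0 0 0 1 (-1) 1 0) (v8 0 0 0 0 0 0 1 0) (v8 0 0 0 0 0 0 0 1)) from by decide +kernel]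
    exact hr30
  have hb6 : e8Cert.refMat (e7coxe 6) ∈ G0 := by
    rw [show e8Cert.refMat (e7coxe 6) = (m8 (v8 1 0 0 0 0 0 0 0) (v8 0 1 0 0 0 0 0 0) (v8 0 0 1 0 0 0 0 0) (v8 0 0 0 1 0 0 0 0) (v8 0 0 0 0 1 0 0 0) (v8 0 0 0 0 0 1 0 0) (v8 0 0 0 0 0 1 (-1) 1) (v8 0 0 0 0 0 0 0 1)) from by decide +kernel]
    exact hr32
  intro b
  fin_cases b
  · exact hb0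
  · exact hb1
  · exact hb2
  · exact hb3
  · exact hb4
  · exact hb5
  · exact hb6

theorem e7cox_gen : ∃ T : Finset (CoxeterMatrix.E₇).Group, T.card = 1 ∧
    (∀ t ∈ T, ∃ (g : (CoxeterMatrix.E₇).Group) (i : Fin 7), t = g * (CoxeterMatrix.E₇).simple i * g⁻¹) ∧
    Subgroup.closure (({((List.finRange 7).map (CoxeterMatrix.E₇).simple).prod} : Set (CoxeterMatrix.E₇).Group) ∪ ↑T) = ⊤ :=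
  e8Cert.gen_result e7coxe e7coxe_inj (CoxeterMatrix.E₇) (by decide) [1] (by decide) e7cox_gen_all

def e8coxPinv : Matrix (Fin 8) (Fin 8) ℤ :=
  (m8 (v8 (-1) 0 1 0 0 0 0 0) (v8 0 (-1) 0 1 0 0 0 0) (v8 (-1) 0 0 1 0 0 0 0) (v8 (-1) (-1) 0 1 1 0 0 0) (v8 (-1) (-1) 0 1 0 1 0 0) (v8 (-1) (-1) 0 1 0 0 1 0) (v8 (-1) (-1) 0 1 0 0 0 1) (v8 (-1) (-1) 0 1 0 0 0 0))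

set_option maxRecDepth 1000000 in
theorem e8cox_pow_inv : e8coxCm ^ 29 = e8coxPinv := by
  have p1 : e8coxCm ^ 1 = e8coxCm := pow_one _
  have p2 : e8coxCm ^ 2 = (m8 (v8 0 0 1 0 0 0 (-1) 0) (v8 1 1 0 0 0 0 (-1) 0) (v8 0 1 1 0 0 0 (-1) (-1)) (v8 1 1 1 0 0 0 (-1) (-1)) (v8 0 1 1 0 0 0 (-1) 0) (v8 0 0 0 1 0 0 (-1) 0) (v8 0 0 0 0 1 0 (-1) 0) (v8 0 0 0 0 0 1 (-1) 0)) := by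
    show e8coxCm ^ (1 + 1) = (m8 (v8 0 0 1 0 0 0 (-1) 0) (v8 1 1 0 0 0 0 (-1) 0) (v8 0 1 1 0 0 0 (-1) (-1)) (v8 1 1 1 0 0 0 (-1) (-1)) (v8 0 1 1 0 0 0 (-1) 0) (v8 0 0 0 1 0 0 (-1) 0) (v8 0 0 0 0 1 0 (-1) 0) (v8 0 0 0 0 0 1 (-1) 0))
    rw [pow_add, p1]
    decide +kernel
  have p3 : e8coxCm ^ 3 = (m8 (v8 1 1 0 0 0 (-1) 0 0) (v8 0 1 1 0 0 (-1) 0 (-1)) (v8 1 1 1 0 0 (-1) (-1) 0) (v8 1 2 1 0 0 (-1) (-1) (-1)) (v8 1 1 1 0 0 (-1) 0 (-1)) (v8 0 1 1 0 0 (-1) 0 0) (v8 0 0 0 1 0 (-1) 0 0) (v8 0 0 0 0 1 (-1) 0 0)) := by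
    show e8coxCm ^ (2 + 1) = (m8 (v8 1 1 0 0 0 (-1) 0 0) (v8 0 1 1 0 0 (-1) 0 (-1)) (v8 1 1 1 0 0 (-1) (-1) 0) (v8 1 2 1 0 0 (-1) (-1) (-1)) (v8 1 1 1 0 0 (-1) 0 (-1)) (v8 0 1 1 0 0 (-1) 0 0) (v8 0 0 0 1 0 (-1) 0 0) (v8 0 0 0 0 1 (-1) 0 0))
    rw [pow_add, p2, p1]
    decide +kernel
  have p6 : e8coxCm ^ 6 = (m8 (v8 1 1 0 0 0 (-1) 0 (-1)) (v8 1 1 1 0 (-1) 0 (-1) (-1)) (v8 2 2 1 (-1) 0 (-1) (-1) (-1)) (v8 2 3 2 (-1) (-1) (-1) (-1) (-2)) (v8 2 2 1 0 (-1) (-1) (-1) (-1)) (v8 1 1 1 0 0 (-1) (-1) (-1)) (v8 1 1 0 0 0 0 (-1) (-1)) (v8 1 0 0 0 0 0 0 (-1))) := by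
    show e8coxCm ^ (3 + 3) = (m8 (v8 1 1 0 0 0 (-1) 0 (-1)) (v8 1 1 1 0 (-1) 0 (-1) (-1)) (v8 2 2 1 (-1) 0 (-1) (-1) (-1)) (v8 2 3 2 (-1) (-1) (-1) (-1) (-2)) (v8 2 2 1 0 (-1) (-1) (-1) (-1)) (v8 1 1 1 0 0 (-1) (-1) (-1)) (v8 1 1 0 0 0 0 (-1) (-1)) (v8 1 0 0 0 0 0 0 (-1)))
    rw [pow_add, p3]
    decide +kernel
  have p7 : e8coxCm ^ 7 = (m8 (v8 0 1 1 0 (-1) 0 (-1) 0) (v8 1 2 1 (-1) 0 (-1) (-1) 0) (v8 1 2 1 0 (-1) (-1) (-1) (-1)) (v8 2 3 2 (-1) (-1) (-1) (-2) (-1)) (v8 1 3 2 (-1) (-1) (-1) (-1) (-1)) (v8 1 2 1 0 (-1) (-1) (-1) 0) (v8 0 1 1 0 0 (-1) (-1) 0) (v8 0 1 0 0 0 0 (-1) 0)) := by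
    show e8coxCm ^ (6 + 1) = (m8 (v8 0 1 1 0 (-1) 0 (-1) 0) (v8 1 2 1 (-1) 0 (-1) (-1) 0) (v8 1 2 1 0 (-1) (-1) (-1) (-1)) (v8 2 3 2 (-1) (-1) (-1) (-2) (-1)) (v8 1 3 2 (-1) (-1) (-1) (-1) (-1)) (v8 1 2 1 0 (-1) (-1) (-1) 0) (v8 0 1 1 0 0 (-1) (-1) 0) (v8 0 1 0 0 0 0 (-1) 0))
    rw [pow_add, p6, p1]
    decide +kernel
  have p14 : e8coxCm ^ 14 = (m8 (v8 1 0 (-1) 0 0 0 0 0) (v8 0 1 0 (-1) 0 0 0 0) (v8 1 0 0 (-1) 0 0 0 0) (v8 1 1 0 (-1) (-1) 0 0 0) (v8 1 1 0 (-1) 0 (-1) 0 0) (v8 1 1 0 (-1) 0 0 (-1) 0) (v8 1 1 0 (-1) 0 0 0 (-1)) (v8 1 1 0 (-1) 0 0 0 0)) := by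
    show e8coxCm ^ (7 + 7) = (m8 (v8 1 0 (-1) 0 0 0 0 0) (v8 0 1 0 (-1) 0 0 0 0) (v8 1 0 0 (-1) 0 0 0 0) (v8 1 1 0 (-1) (-1) 0 0 0) (v8 1 1 0 (-1) 0 (-1) 0 0) (v8 1 1 0 (-1) 0 0 (-1) 0) (v8 1 1 0 (-1) 0 0 0 (-1)) (v8 1 1 0 (-1) 0 0 0 0))
    rw [pow_add, p7]
    decide +kernel
  have p28 : e8coxCm ^ 28 = (m8 (v8 0 0 (-1) 1 0 0 0 0) (v8 (-1) 0 0 0 1 0 0 0) (v8 0 (-1) (-1) 1 1 0 0 0) (v8 (-1) (-1) (-1) 1 1 1 0 0) (v8 (-1) (-1) (-1) 1 1 0 1 0) (v8 (-1) (-1) (-1) 1 1 0 0 1) (v8 (-1) (-1) (-1) 1 1 0 0 0) (v8 0 0 (-1) 0 1 0 0 0)) := by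
    show e8coxCm ^ (14 + 14) = (m8 (v8 0 0 (-1) 1 0 0 0 0) (v8 (-1) 0 0 0 1 0 0 0) (v8 0 (-1) (-1) 1 1 0 0 0) (v8 (-1) (-1) (-1) 1 1 1 0 0) (v8 (-1) (-1) (-1) 1 1 0 1 0) (v8 (-1) (-1) (-1) 1 1 0 0 1) (v8 (-1) (-1) (-1) 1 1 0 0 0) (v8 0 0 (-1) 0 1 0 0 0))
    rw [pow_add, p14]
    decide +kernel
  have p29 : e8coxCm ^ 29 = e8coxPinv := by
    show e8coxCm ^ (28 + 1) = e8coxPinv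
    rw [pow_add, p28, p1]
    decide +kernel
  exact p29

set_option maxRecDepth 1000000 in
theorem e8cox_gen_all : ∀ b, e8Cert.refMat (e8coxe b) ∈ Submonoid.closure
    ({((List.finRange 8).map (fun b => e8Cert.refMat (e8coxe b))).prod} ∪
      {A | ∃ t ∈ ([0] : List (Fin 8)), A = e8Cert.refMat (e8coxe t)}) := by
  rw [e8cox_prod]
  set G0 := Submonoid.closure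
    ({e8coxCm} ∪ {A | ∃ t ∈ ([0] : List (Fin 8)), A = e8Cert.refMat (e8coxe t)}) with hG0
  have hC : e8coxCm ∈ G0 := Submonoid.subset_closure (Or.inl rfl)
  have hP : e8coxPinv ∈ G0 := by
    rw [← e8cox_pow_inv]
    exact pow_mem hC _
  have hr0 : (m8 (v8 (-1) 0 1 0 0 0 0 0) (v8 0 1 0 0 0 0 0 0) (v8 0 0 1 0 0 0 0 0) (v8 0 0 0 1 0 0 0 0) (v8 0 0 0 0 1 0 0 0) (v8 0 0 0 0 0 1 0 0) (v8 0 0 0 0 0 0 1 0) (v8 0 0 0 0 0 0 0 1)) ∈ G0 := by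
    rw [show (m8 (v8 (-1) 0 1 0 0 0 0 0) (v8 0 1 0 0 0 0 0 0) (v8 0 0 1 0 0 0 0 0) (v8 0 0 0 1 0 0 0 0) (v8 0 0 0 0 1 0 0 0) (v8 0 0 0 0 0 1 0 0) (v8 0 0 0 0 0 0 1 0) (v8 0 0 0 0 0 0 0 1)) = e8Cert.refMat (e8coxe 0) from by decide +kernel]
    exact Submonoid.subset_closure (Or.inr ⟨0, by simp, rfl⟩)
  have hr1 : (m8 (v8 1 0 0 0 0 0 0 0) (v8 0 1 0 0 0 0 0 0) (v8 1 0 (-1) 1 0 0 0 0) (v8 0 0 0 1 0 0 0 0) (v8 0 0 0 0 1 0 0 0) (v8 0 0 0 0 0 1 0 0) (v8 0 0 0 0 0 0 1 0) (v8 0 0 0 0 0 0 0 1)) ∈ G0 := by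
    rw [show (m8 (v8 1 0 0 0 0 0 0 0) (v8 0 1 0 0 0 0 0 0) (v8 1 0 (-1) 1 0 0 0 0) (v8 0 0 0 1 0 0 0 0) (v8 0 0 0 0 1 0 0 0) (v8 0 0 0 0 0 1 0 0) (v8 0 0 0 0 0 0 1 0) (v8 0 0 0 0 0 0 0 1)) = e8coxCm * (m8 (v8 (-1) 0 1 0 0 0 0 0) (v8 0 1 0 0 0 0 0 0) (v8 0 0 1 0 0 0 0 0) (v8 0 0 0 1 0 0 0 0) (v8 0 0 0 0 1 0 0 0) (v8 0 0 0 0 0 1 0 0) (v8 0 0 0 0 0 0 1 0) (v8 0 0 0 0 0 0 0 1)) * e8coxPinv from by decide +kernel]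
    exact mul_mem (mul_mem hC hr0) hP
  have hr2 : (m8 (v8 0 1 0 0 0 0 0 (-1)) (v8 0 1 0 0 0 0 0 0) (v8 (-1) 1 1 0 0 0 0 (-1)) (v8 (-1) 1 0 1 0 0 0 (-1)) (v8 (-1) 1 0 0 1 0 0 (-1)) (v8 (-1) 1 0 0 0 1 0 (-1)) (v8 (-1) 1 0 0 0 0 1 (-1)) (v8 (-1) 1 0 0 0 0 0 0)) ∈ G0 := by
    rw [show (m8 (v8 0 1 0 0 0 0 0 (-1)) (v8 0 1 0 0 0 0 0 0) (v8 (-1) 1 1 0 0 0 0 (-1)) (v8 (-1) 1 0 1 0 0 0 (-1)) (v8 (-1) 1 0 0 1 0 0 (-1)) (v8 (-1) 1 0 0 0 1 0 (-1)) (v8 (-1) 1 0 0 0 0 1 (-1)) (v8 (-1) 1 0 0 0 0 0 0)) = e8coxPinv * (m8 (v8 (-1) 0 1 0 0 0 0 0) (v8 0 1 0 0 0 0 0 0) (v8 0 0 1 0 0 0 0 0) (v8 0 0 0 1 0 0 0 0) (v8 0 0 0 0 1 0 0 0) (v8 0 0 0 0 0 1 0 0) (v8 0 0 0 0 0 0 1 0) (v8 0 0 0 0 0 0 0 1)) * e8coxCm from by decide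 +kernel]
    exact mul_mem (mul_mem hP hr0) hC
  have hr3 : (m8 (v8 1 0 0 0 0 0 0 0) (v8 0 0 1 (-1) 1 0 0 0) (v8 0 0 1 0 0 0 0 0) (v8 0 (-1) 1 0 1 0 0 0) (v8 0 0 0 0 1 0 0 0) (v8 0 0 0 0 0 1 0 0) (v8 0 0 0 0 0 0 1 0) (v8 0 0 0 0 0 0 0 1)) ∈ G0 := by
    rw [show (m8 (v8 1 0 0 0 0 0 0 0) (v8 0 0 1 (-1) 1 0 0 0) (v8 0 0 1 0 0 0 0 0) (v8 0 (-1) 1 0 1 0 0 0) (v8 0 0 0 0 1 0 0 0) (v8 0 0 0 0 0 1 0 0) (v8 0 0 0 0 0 0 1 0) (v8 0 0 0 0 0 0 0 1)) = e8coxCm * (m8 (v8 1 0 0 0 0 0 0 0) (v8 0 1 0 0 0 0 0 0) (v8 1 0 (-1) 1 0 0 0 0) (v8 0 0 0 1 0 0 0 0) (v8 0 0 0 0 1 0 0 0) (v8 0 0 0 0 0 1 0 0) (v8 0 0 0 0 0 0 1 0) (v8 0 0 0 0 0 0 0 1)) * e8coxPinv from by decide +kernel]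
    exact mul_mem (mul_mem hC hr1) hP
  have hr4 : (m8 (v8 1 0 0 0 0 0 0 0) (v8 0 0 1 0 0 0 (-1) 1) (v8 0 0 1 0 0 0 0 0) (v8 0 (-1) 1 1 0 0 (-1) 1) (v8 0 (-1) 1 0 1 0 (-1) 1) (v8 0 (-1) 1 0 0 1 (-1) 1) (v8 0 (-1) 1 0 0 0 0 1) (v8 0 0 0 0 0 0 0 1)) ∈ G0 := by
    rw [show (m8 (v8 1 0 0 0 0 0 0 0) (v8 0 0 1 0 0 0 (-1) 1) (v8 0 0 1 0 0 0 0 0) (v8 0 (-1) 1 1 0 0 (-1) 1) (v8 0 (-1) 1 0 1 0 (-1) 1) (v8 0 (-1) 1 0 0 1 (-1) 1) (v8 0 (-1) 1 0 0 0 0 1) (v8 0 0 0 0 0 0 0 1)) = e8coxPinv * (m8 (v8 0 1 0 0 0 0 0 (-1)) (v8 0 1 0 0 0 0 0 0) (v8 (-1) 1 1 0 0 0 0 (-1)) (v8 (-1) 1 0 1 0 0 0 (-1)) (v8 (-1) 1 0 0 1 0 0 (-1)) (v8 (-1) 1 0 0 0 1 0 (-1)) (v8 (-1) 1 0 0 0 0 1 (-1)) (v8 (-1) 1 0 0 0 0 0 0)) * e8coxCm from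 by decide +kernel]
    exact mul_mem (mul_mem hP hr2) hC
  have hr7 : (m8 (v8 0 1 0 0 (-1) 1 0 0) (v8 0 1 0 0 0 0 0 0) (v8 (-1) 1 1 0 (-1) 1 0 0) (v8 (-1) 1 0 1 (-1) 1 0 0) (v8 (-1) 1 0 0 0 1 0 0) (v8 0 0 0 0 0 1 0 0) (v8 0 0 0 0 0 0 1 0) (v8 0 0 0 0 0 0 0 1)) ∈ G0 := by
    rw [show (m8 (v8 0 1 0 0 (-1) 1 0 0) (v8 0 1 0 0 0 0 0 0) (v8 (-1) 1 1 0 (-1) 1 0 0) (v8 (-1) 1 0 1 (-1) 1 0 0) (v8 (-1) 1 0 0 0 1 0 0) (v8 0 0 0 0 0 1 0 0) (v8 0 0 0 0 0 0 1 0) (v8 0 0 0 0 0 0 0 1)) = e8coxCm * (m8 (v8 1 0 0 0 0 0 0 0) (v8 0 0 1 (-1) 1 0 0 0) (v8 0 0 1 0 0 0 0 0) (v8 0 (-1) 1 0 1 0 0 0) (v8 0 0 0 0 1 0 0 0) (v8 0 0 0 0 0 1 0 0) (v8 0 0 0 0 0 0 1 0) (v8 0 0 0 0 0 0 0 1)) * e8coxPinv from by decide +kernel]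
    exact mul_mem (mul_mem hC hr3) hP
  have hr8 : (m8 (v8 1 0 0 0 0 0 0 0) (v8 0 1 0 0 0 0 0 0) (v8 1 1 0 0 0 (-1) 1 0) (v8 1 1 (-1) 1 0 (-1) 1 0) (v8 1 1 (-1) 0 1 (-1) 1 0) (v8 1 1 (-1) 0 0 0 1 0) (v8 0 0 0 0 0 0 1 0) (v8 0 0 0 0 0 0 0 1)) ∈ G0 := by
    rw [show (m8 (v8 1 0 0 0 0 0 0 0) (v8 0 1 0 0 0 0 0 0) (v8 1 1 0 0 0 (-1) 1 0) (v8 1 1 (-1) 1 0 (-1) 1 0) (v8 1 1 (-1) 0 1 (-1) 1 0) (v8 1 1 (-1) 0 0 0 1 0) (v8 0 0 0 0 0 0 1 0) (v8 0 0 0 0 0 0 0 1)) = e8coxPinv * (m8 (v8 1 0 0 0 0 0 0 0) (v8 0 0 1 0 0 0 (-1) 1) (v8 0 0 1 0 0 0 0 0) (v8 0 (-1) 1 1 0 0 (-1) 1) (v8 0 (-1) 1 0 1 0 (-1) 1) (v8 0 (-1) 1 0 0 1 (-1) 1) (v8 0 (-1) 1 0 0 0 0 1) (v8 0 0 0 0 0 0 0 1)) * e8coxCm from by decide +kernel]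
    exact mul_mem (mul_mem hP hr4) hC
  have hr11 : (m8 (v8 1 0 0 0 0 0 0 0) (v8 1 0 (-1) 1 0 0 (-1) 1) (v8 1 (-1) 0 1 0 0 (-1) 1) (v8 1 (-1) (-1) 2 0 0 (-1) 1) (v8 1 (-1) (-1) 1 1 0 (-1) 1) (v8 1 (-1) (-1) 1 0 1 (-1) 1) (v8 1 (-1) (-1) 1 0 0 0 1) (v8 0 0 0 0 0 0 0 1)) ∈ G0 := by
    rw [show (m8 (v8 1 0 0 0 0 0 0 0) (v8 1 0 (-1) 1 0 0 (-1) 1) (v8 1 (-1) 0 1 0 0 (-1) 1) (v8 1 (-1) (-1) 2 0 0 (-1) 1) (v8 1 (-1) (-1) 1 1 0 (-1) 1) (v8 1 (-1) (-1) 1 0 1 (-1) 1) (v8 1 (-1) (-1) 1 0 0 0 1) (v8 0 0 0 0 0 0 0 1)) = (m8 (v8 1 0 0 0 0 0 0 0) (v8 0 1 0 0 0 0 0 0) (v8 1 0 (-1) 1 0 0 0 0) (v8 0 0 0 1 0 0 0 0) (v8 0 0 0 0 1 0 0 0) (v8 0 0 0 0 0 1 0 0) (v8 0 0 0 0 0 0 1 0) (v8 0 0 0 0 0 0 0 1)) * (m8 (v8 1 0 0 0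 0 0 0 0) (v8 0 0 1 0 0 0 (-1) 1) (v8 0 0 1 0 0 0 0 0) (v8 0 (-1) 1 1 0 0 (-1) 1) (v8 0 (-1) 1 0 1 0 (-1) 1) (v8 0 (-1) 1 0 0 1 (-1) 1) (v8 0 (-1) 1 0 0 0 0 1) (v8 0 0 0 0 0 0 0 1)) * (m8 (v8 1 0 0 0 0 0 0 0) (v8 0 1 0 0 0 0 0 0) (v8 1 0 (-1) 1 0 0 0 0) (v8 0 0 0 1 0 0 0 0) (v8 0 0 0 0 1 0 0 0) (v8 0 0 0 0 0 1 0 0) (v8 0 0 0 0 0 0 1 0) (v8 0 0 0 0 0 0 0 1)) from by decide +kernel]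
    exact mul_mem (mul_mem hr1 hr4) hr1
  have hr13 : (m8 (v8 0 0 1 (-1) 1 0 0 (-1)) (v8 (-1) 1 1 (-1) 1 0 0 (-1)) (v8 (-1) 0 2 (-1) 1 0 0 (-1)) (v8 (-2) 0 2 (-1) 2 0 0 (-2)) (v8 (-1) 0 1 (-1) 2 0 0 (-1)) (v8 (-1) 0 1 (-1) 1 1 0 (-1)) (v8 (-1) 0 1 (-1) 1 0 1 (-1)) (v8 (-1) 0 1 (-1) 1 0 0 0)) ∈ G0 := by
    rw [show (m8 (v8 0 0 1 (-1) 1 0 0 (-1)) (v8 (-1) 1 1 (-1) 1 0 0 (-1)) (v8 (-1) 0 2 (-1) 1 0 0 (-1)) (v8 (-2) 0 2 (-1) 2 0 0 (-2)) (v8 (-1) 0 1 (-1) 2 0 0 (-1)) (v8 (-1) 0 1 (-1) 1 1 0 (-1)) (v8 (-1) 0 1 (-1) 1 0 1 (-1)) (v8 (-1) 0 1 (-1) 1 0 0 0)) = (m8 (v8 0 1 0 0 0 0 0 (-1)) (v8 0 1 0 0 0 0 0 0) (v8 (-1) 1 1 0 0 0 0 (-1)) (v8 (-1) 1 0 1 0 0 0 (-1)) (v8 (-1) 1 0 0 1 0 0 (-1)) (v8 (-1) 1 0 0 0 1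 0 (-1)) (v8 (-1) 1 0 0 0 0 1 (-1)) (v8 (-1) 1 0 0 0 0 0 0)) * (m8 (v8 1 0 0 0 0 0 0 0) (v8 0 0 1 (-1) 1 0 0 0) (v8 0 0 1 0 0 0 0 0) (v8 0 (-1) 1 0 1 0 0 0) (v8 0 0 0 0 1 0 0 0) (v8 0 0 0 0 0 1 0 0) (v8 0 0 0 0 0 0 1 0) (v8 0 0 0 0 0 0 0 1)) * (m8 (v8 0 1 0 0 0 0 0 (-1)) (v8 0 1 0 0 0 0 0 0) (v8 (-1) 1 1 0 0 0 0 (-1)) (v8 (-1) 1 0 1 0 0 0 (-1)) (v8 (-1) 1 0 0 1 0 0 (-1)) (v8 (-1) 1 0 0 0 1 0 (-1)) (v8 (-1) 1 0 0 0 0 1 (-1)) (v8 (-1) 1 0 0 0 0 0 0)) from by decide +kernel]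
    exact mul_mem (mul_mem hr2 hr3) hr2
  have hr19 : (m8 (v8 1 0 0 0 0 0 0 0) (v8 1 0 (-1) 1 0 (-1) 1 0) (v8 1 (-1) 0 1 0 (-1) 1 0) (v8 1 (-1) (-1) 2 0 (-1) 1 0) (v8 1 (-1) (-1) 1 1 (-1) 1 0) (v8 1 (-1) (-1) 1 0 0 1 0) (v8 0 0 0 0 0 0 1 0) (v8 0 0 0 0 0 0 0 1)) ∈ G0 := by
    rw [show (m8 (v8 1 0 0 0 0 0 0 0) (v8 1 0 (-1) 1 0 (-1) 1 0) (v8 1 (-1) 0 1 0 (-1) 1 0) (v8 1 (-1) (-1) 2 0 (-1) 1 0) (v8 1 (-1) (-1) 1 1 (-1) 1 0) (v8 1 (-1) (-1) 1 0 0 1 0) (v8 0 0 0 0 0 0 1 0) (v8 0 0 0 0 0 0 0 1)) = e8coxCm * (m8 (v8 0 1 0 0 (-1) 1 0 0) (v8 0 1 0 0 0 0 0 0) (v8 (-1) 1 1 0 (-1) 1 0 0) (v8 (-1) 1 0 1 (-1) 1 0 0) (v8 (-1) 1 0 0 0 1 0 0) (v8 0 0 0 0 0 1 0 0) (v8 0 0 0 0 0 0 1 0) (v8 0 0 0 0 0 0 0 1)) * e8coxPinv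 from by decide +kernel]
    exact mul_mem (mul_mem hC hr7) hP
  have hr20 : (m8 (v8 0 0 1 0 (-1) 1 0 (-1)) (v8 (-1) 1 1 0 (-1) 1 0 (-1)) (v8 (-1) 0 2 0 (-1) 1 0 (-1)) (v8 (-2) 0 2 1 (-2) 2 0 (-2)) (v8 (-2) 0 2 0 (-1) 2 0 (-2)) (v8 (-1) 0 1 0 (-1) 2 0 (-1)) (v8 (-1) 0 1 0 (-1) 1 1 (-1)) (v8 (-1) 0 1 0 (-1) 1 0 0)) ∈ G0 := by
    rw [show (m8 (v8 0 0 1 0 (-1) 1 0 (-1)) (v8 (-1) 1 1 0 (-1) 1 0 (-1)) (v8 (-1) 0 2 0 (-1) 1 0 (-1)) (v8 (-2) 0 2 1 (-2) 2 0 (-2)) (v8 (-2) 0 2 0 (-1) 2 0 (-2)) (v8 (-1) 0 1 0 (-1) 2 0 (-1)) (v8 (-1) 0 1 0 (-1) 1 1 (-1)) (v8 (-1) 0 1 0 (-1) 1 0 0)) = e8coxPinv * (m8 (v8 1 0 0 0 0 0 0 0) (v8 0 1 0 0 0 0 0 0) (v8 1 1 0 0 0 (-1) 1 0) (v8 1 1 (-1) 1 0 (-1) 1 0) (v8 1 1 (-1) 0 1 (-1)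 1 0) (v8 1 1 (-1) 0 0 0 1 0) (v8 0 0 0 0 0 0 1 0) (v8 0 0 0 0 0 0 0 1)) * e8coxCm from by decide +kernel]
    exact mul_mem (mul_mem hP hr8) hC
  have hr23 : (m8 (v8 0 1 0 0 0 (-1) 1 0) (v8 0 1 0 0 0 0 0 0) (v8 (-1) 1 1 0 0 (-1) 1 0) (v8 (-1) 1 0 1 0 (-1) 1 0) (v8 (-1) 1 0 0 1 (-1) 1 0) (v8 (-1) 1 0 0 0 0 1 0) (v8 0 0 0 0 0 0 1 0) (v8 0 0 0 0 0 0 0 1)) ∈ G0 := by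
    rw [show (m8 (v8 0 1 0 0 0 (-1) 1 0) (v8 0 1 0 0 0 0 0 0) (v8 (-1) 1 1 0 0 (-1) 1 0) (v8 (-1) 1 0 1 0 (-1) 1 0) (v8 (-1) 1 0 0 1 (-1) 1 0) (v8 (-1) 1 0 0 0 0 1 0) (v8 0 0 0 0 0 0 1 0) (v8 0 0 0 0 0 0 0 1)) = e8coxPinv * (m8 (v8 1 0 0 0 0 0 0 0) (v8 1 0 (-1) 1 0 0 (-1) 1) (v8 1 (-1) 0 1 0 0 (-1) 1) (v8 1 (-1) (-1) 2 0 0 (-1) 1) (v8 1 (-1) (-1) 1 1 0 (-1) 1) (v8 1 (-1) (-1) 1 0 1 (-1) 1) (v8 1 (-1) (-1) 1 0 0 0 1) (v8 0 0 0 0 0 0 0 1)) * e8coxCm from by decide +kernel]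
    exact mul_mem (mul_mem hP hr11) hC
  have hr33 : (m8 (v8 1 0 0 0 0 0 0 0) (v8 1 1 0 (-1) 1 (-1) 1 0) (v8 1 0 1 (-1) 1 (-1) 1 0) (v8 2 0 0 (-1) 2 (-2) 2 0) (v8 1 0 0 (-1) 2 (-1) 1 0) (v8 1 0 0 (-1) 1 0 1 0) (v8 0 0 0 0 0 0 1 0) (v8 0 0 0 0 0 0 0 1)) ∈ G0 := by
    rw [show (m8 (v8 1 0 0 0 0 0 0 0) (v8 1 1 0 (-1) 1 (-1) 1 0) (v8 1 0 1 (-1) 1 (-1) 1 0) (v8 2 0 0 (-1) 2 (-2) 2 0) (v8 1 0 0 (-1) 2 (-1) 1 0) (v8 1 0 0 (-1) 1 0 1 0) (v8 0 0 0 0 0 0 1 0) (v8 0 0 0 0 0 0 0 1)) = (m8 (v8 1 0 0 0 0 0 0 0) (v8 0 0 1 (-1) 1 0 0 0) (v8 0 0 1 0 0 0 0 0) (v8 0 (-1) 1 0 1 0 0 0) (v8 0 0 0 0 1 0 0 0) (v8 0 0 0 0 0 1 0 0) (v8 0 0 0 0 0 0 1 0) (v8 0 0 0 0 0 0 0 1)) * (m8 (v8 1 0 0 0 0 0 0 0) (v8 0 1 0 0 0 0 0 0) (v8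 1 1 0 0 0 (-1) 1 0) (v8 1 1 (-1) 1 0 (-1) 1 0) (v8 1 1 (-1) 0 1 (-1) 1 0) (v8 1 1 (-1) 0 0 0 1 0) (v8 0 0 0 0 0 0 1 0) (v8 0 0 0 0 0 0 0 1)) * (m8 (v8 1 0 0 0 0 0 0 0) (v8 0 0 1 (-1) 1 0 0 0) (v8 0 0 1 0 0 0 0 0) (v8 0 (-1) 1 0 1 0 0 0) (v8 0 0 0 0 1 0 0 0) (v8 0 0 0 0 0 1 0 0) (v8 0 0 0 0 0 0 1 0) (v8 0 0 0 0 0 0 0 1)) from by decide +kernel]
    exact mul_mem (mul_mem hr3 hr8) hr3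
  have hr34 : (m8 (v8 0 0 1 0 (-1) 1 (-1) 1) (v8 (-1) 1 1 0 (-1) 1 (-1) 1) (v8 (-1) 0 2 0 (-1) 1 (-1) 1) (v8 (-2) 0 2 1 (-2) 2 (-2) 2) (v8 (-2) 0 2 0 (-1) 2 (-2) 2) (v8 (-1) 0 1 0 (-1) 2 (-1) 1) (v8 (-1) 0 1 0 (-1) 1 0 1) (v8 0 0 0 0 0 0 0 1)) ∈ G0 := by
    rw [show (m8 (v8 0 0 1 0 (-1) 1 (-1) 1) (v8 (-1) 1 1 0 (-1) 1 (-1) 1) (v8 (-1) 0 2 0 (-1) 1 (-1) 1) (v8 (-2) 0 2 1 (-2) 2 (-2) 2) (v8 (-2) 0 2 0 (-1) 2 (-2) 2) (v8 (-1) 0 1 0 (-1) 2 (-1) 1) (v8 (-1) 0 1 0 (-1) 1 0 1) (v8 0 0 0 0 0 0 0 1)) = (m8 (v8 1 0 0 0 0 0 0 0) (v8 0 0 1 0 0 0 (-1) 1) (v8 0 0 1 0 0 0 0 0) (v8 0 (-1) 1 1 0 0 (-1) 1) (v8 0 (-1) 1 0 1 0 (-1) 1) (v8 0 (-1) 1 0 0 1 (-1) 1) (v8 0 (-1) 1 0 0 0 0 1) (v8 0 0 0 0 0 0 0 1)) * (m8 (v8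 0 1 0 0 (-1) 1 0 0) (v8 0 1 0 0 0 0 0 0) (v8 (-1) 1 1 0 (-1) 1 0 0) (v8 (-1) 1 0 1 (-1) 1 0 0) (v8 (-1) 1 0 0 0 1 0 0) (v8 0 0 0 0 0 1 0 0) (v8 0 0 0 0 0 0 1 0) (v8 0 0 0 0 0 0 0 1)) * (m8 (v8 1 0 0 0 0 0 0 0) (v8 0 0 1 0 0 0 (-1) 1) (v8 0 0 1 0 0 0 0 0) (v8 0 (-1) 1 1 0 0 (-1) 1) (v8 0 (-1) 1 0 1 0 (-1) 1) (v8 0 (-1) 1 0 0 1 (-1) 1) (v8 0 (-1) 1 0 0 0 0 1) (v8 0 0 0 0 0 0 0 1)) from by decide +kernel]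
    exact mul_mem (mul_mem hr4 hr7) hr4
  have hr72 : (m8 (v8 1 0 0 0 0 0 0 0) (v8 0 1 0 0 0 0 0 0) (v8 0 0 1 0 0 0 0 0) (v8 0 0 0 1 0 0 0 0) (v8 0 0 0 0 1 0 0 0) (v8 0 0 0 0 1 (-1) 1 0) (v8 0 0 0 0 0 0 1 0) (v8 0 0 0 0 0 0 0 1)) ∈ G0 := by
    rw [show (m8 (v8 1 0 0 0 0 0 0 0) (v8 0 1 0 0 0 0 0 0) (v8 0 0 1 0 0 0 0 0) (v8 0 0 0 1 0 0 0 0) (v8 0 0 0 0 1 0 0 0) (v8 0 0 0 0 1 (-1) 1 0) (v8 0 0 0 0 0 0 1 0) (v8 0 0 0 0 0 0 0 1)) = (m8 (v8 0 1 0 0 (-1) 1 0 0) (v8 0 1 0 0 0 0 0 0) (v8 (-1) 1 1 0 (-1) 1 0 0) (v8 (-1) 1 0 1 (-1) 1 0 0) (v8 (-1) 1 0 0 0 1 0 0) (v8 0 0 0 0 0 1 0 0) (v8 0 0 0 0 0 0 1 0) (v8 0 0 0 0 0 0 0 1)) * (m8 (v8 0 1 0 0 0 (-1) 1 0) (v8 0 1 0 0 0 0 0 0) (v8 (-1) 1 1 0 0 (-1) 1 0) (v8 (-1)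 1 0 1 0 (-1) 1 0) (v8 (-1) 1 0 0 1 (-1) 1 0) (v8 (-1) 1 0 0 0 0 1 0) (v8 0 0 0 0 0 0 1 0) (v8 0 0 0 0 0 0 0 1)) * (m8 (v8 0 1 0 0 (-1) 1 0 0) (v8 0 1 0 0 0 0 0 0) (v8 (-1) 1 1 0 (-1) 1 0 0) (v8 (-1) 1 0 1 (-1) 1 0 0) (v8 (-1) 1 0 0 0 1 0 0) (v8 0 0 0 0 0 1 0 0) (v8 0 0 0 0 0 0 1 0) (v8 0 0 0 0 0 0 0 1)) from by decide +kernel]
    exact mul_mem (mul_mem hr7 hr23) hr7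
  have hr75 : (m8 (v8 1 0 0 0 0 0 0 0) (v8 0 (-1) 0 1 0 0 0 0) (v8 0 0 1 0 0 0 0 0) (v8 0 0 0 1 0 0 0 0) (v8 0 0 0 0 1 0 0 0) (v8 0 0 0 0 0 1 0 0) (v8 0 0 0 0 0 0 1 0) (v8 0 0 0 0 0 0 0 1)) ∈ G0 := by
    rw [show (m8 (v8 1 0 0 0 0 0 0 0) (v8 0 (-1) 0 1 0 0 0 0) (v8 0 0 1 0 0 0 0 0) (v8 0 0 0 1 0 0 0 0) (v8 0 0 0 0 1 0 0 0) (v8 0 0 0 0 0 1 0 0) (v8 0 0 0 0 0 0 1 0) (v8 0 0 0 0 0 0 0 1)) = (m8 (v8 1 0 0 0 0 0 0 0) (v8 0 1 0 0 0 0 0 0) (v8 1 1 0 0 0 (-1) 1 0) (v8 1 1 (-1) 1 0 (-1) 1 0) (v8 1 1 (-1) 0 1 (-1) 1 0) (v8 1 1 (-1) 0 0 0 1 0) (v8 0 0 0 0 0 0 1 0) (v8 0 0 0 0 0 0 0 1)) * (m8 (v8 1 0 0 0 0 0 0 0) (v8 1 0 (-1) 1 0 (-1) 1 0) (v8 1 (-1) 0 1 0 (-1) 1 0) (v8 1 (-1) (-1) 2 0 (-1) 1 0) (v8 1 (-1) (-1)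 1 1 (-1) 1 0) (v8 1 (-1) (-1) 1 0 0 1 0) (v8 0 0 0 0 0 0 1 0) (v8 0 0 0 0 0 0 0 1)) * (m8 (v8 1 0 0 0 0 0 0 0) (v8 0 1 0 0 0 0 0 0) (v8 1 1 0 0 0 (-1) 1 0) (v8 1 1 (-1) 1 0 (-1) 1 0) (v8 1 1 (-1) 0 1 (-1) 1 0) (v8 1 1 (-1) 0 0 0 1 0) (v8 0 0 0 0 0 0 1 0) (v8 0 0 0 0 0 0 0 1)) from by decide +kernel]
    exact mul_mem (mul_mem hr8 hr19) hr8
  have hr81 : (m8 (v8 1 0 0 0 0 0 0 0) (v8 0 1 0 0 0 0 0 0) (v8 0 0 1 0 0 0 0 0) (v8 0 0 0 1 0 0 0 0) (v8 0 0 0 0 1 0 0 0) (v8 0 0 0 0 0 1 0 0) (v8 0 0 0 0 0 1 (-1) 1) (v8 0 0 0 0 0 0 0 1)) ∈ G0 := by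
    rw [show (m8 (v8 1 0 0 0 0 0 0 0) (v8 0 1 0 0 0 0 0 0) (v8 0 0 1 0 0 0 0 0) (v8 0 0 0 1 0 0 0 0) (v8 0 0 0 0 1 0 0 0) (v8 0 0 0 0 0 1 0 0) (v8 0 0 0 0 0 1 (-1) 1) (v8 0 0 0 0 0 0 0 1)) = (m8 (v8 1 0 0 0 0 0 0 0) (v8 1 0 (-1) 1 0 0 (-1) 1) (v8 1 (-1) 0 1 0 0 (-1) 1) (v8 1 (-1) (-1) 2 0 0 (-1) 1) (v8 1 (-1) (-1) 1 1 0 (-1) 1) (v8 1 (-1) (-1) 1 0 1 (-1) 1) (v8 1 (-1) (-1) 1 0 0 0 1) (v8 0 0 0 0 0 0 0 1)) * (m8 (v8 1 0 0 0 0 0 0 0) (v8 1 0 (-1) 1 0 (-1) 1 0) (v8 1 (-1) 0 1 0 (-1) 1 0) (v8 1 (-1) (-1) 2 0 (-1) 1 0) (v8 1 (-1) (-1) 1 1 (-1) 1 0) (v8 1 (-1) (-1) 1 0 0 1 0) (v8 0 0 0 0 0 0 1 0) (v8 0 0 0 0 0 0 0 1)) * (m8 (v8 1 0 0 0 0 0 0 0) (v8 1 0 (-1) 1 0 0 (-1) 1) (v8 1 (-1) 0 1 0 0 (-1) 1) (v8 1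 (-1) (-1) 2 0 0 (-1) 1) (v8 1 (-1) (-1) 1 1 0 (-1) 1) (v8 1 (-1) (-1) 1 0 1 (-1) 1) (v8 1 (-1) (-1) 1 0 0 0 1) (v8 0 0 0 0 0 0 0 1)) from by decide +kernel]
    exact mul_mem (mul_mem hr11 hr19) hr11
  have hr82 : (m8 (v8 1 0 0 0 0 0 0 0) (v8 0 1 0 0 0 0 0 0) (v8 0 0 1 0 0 0 0 0) (v8 0 0 0 1 0 0 0 0) (v8 0 0 0 1 (-1) 1 0 0) (v8 0 0 0 0 0 1 0 0) (v8 0 0 0 0 0 0 1 0) (v8 0 0 0 0 0 0 0 1)) ∈ G0 := by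
    rw [show (m8 (v8 1 0 0 0 0 0 0 0) (v8 0 1 0 0 0 0 0 0) (v8 0 0 1 0 0 0 0 0) (v8 0 0 0 1 0 0 0 0) (v8 0 0 0 1 (-1) 1 0 0) (v8 0 0 0 0 0 1 0 0) (v8 0 0 0 0 0 0 1 0) (v8 0 0 0 0 0 0 0 1)) = (m8 (v8 0 0 1 (-1) 1 0 0 (-1)) (v8 (-1) 1 1 (-1) 1 0 0 (-1)) (v8 (-1) 0 2 (-1) 1 0 0 (-1)) (v8 (-2) 0 2 (-1) 2 0 0 (-2)) (v8 (-1) 0 1 (-1) 2 0 0 (-1)) (v8 (-1) 0 1 (-1) 1 1 0 (-1)) (v8 (-1) 0 1 (-1) 1 0 1 (-1)) (v8 (-1) 0 1 (-1) 1 0 0 0)) * (m8 (v8 0 0 1 0 (-1) 1 0 (-1)) (v8 (-1) 1 1 0 (-1) 1 0 (-1)) (v8 (-1) 0 2 0 (-1) 1 0 (-1)) (v8 (-2) 0 2 1 (-2) 2 0 (-2)) (v8 (-2) 0 2 0 (-1) 2 0 (-2)) (v8 (-1) 0 1 0 (-1) 2 0 (-1)) (v8 (-1) 0 1 0 (-1) 1 1 (-1)) (v8 (-1) 0 1 0 (-1) 1 0 0)) * (m8 (v8 0 0 1 (-1) 1 0 0 (-1)) (v8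 (-1) 1 1 (-1) 1 0 0 (-1)) (v8 (-1) 0 2 (-1) 1 0 0 (-1)) (v8 (-2) 0 2 (-1) 2 0 0 (-2)) (v8 (-1) 0 1 (-1) 2 0 0 (-1)) (v8 (-1) 0 1 (-1) 1 1 0 (-1)) (v8 (-1) 0 1 (-1) 1 0 1 (-1)) (v8 (-1) 0 1 (-1) 1 0 0 0)) from by decide +kernel]
    exact mul_mem (mul_mem hr13 hr20) hr13
  have hr86 : (m8 (v8 1 0 0 0 0 0 0 0) (v8 0 1 0 0 0 0 0 0) (v8 0 0 1 0 0 0 0 0) (v8 0 1 1 (-1) 1 0 0 0) (v8 0 0 0 0 1 0 0 0) (v8 0 0 0 0 0 1 0 0) (v8 0 0 0 0 0 0 1 0) (v8 0 0 0 0 0 0 0 1)) ∈ G0 := by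
    rw [show (m8 (v8 1 0 0 0 0 0 0 0) (v8 0 1 0 0 0 0 0 0) (v8 0 0 1 0 0 0 0 0) (v8 0 1 1 (-1) 1 0 0 0) (v8 0 0 0 0 1 0 0 0) (v8 0 0 0 0 0 1 0 0) (v8 0 0 0 0 0 0 1 0) (v8 0 0 0 0 0 0 0 1)) = (m8 (v8 1 0 0 0 0 0 0 0) (v8 1 0 (-1) 1 0 (-1) 1 0) (v8 1 (-1) 0 1 0 (-1) 1 0) (v8 1 (-1) (-1) 2 0 (-1) 1 0) (v8 1 (-1) (-1) 1 1 (-1) 1 0) (v8 1 (-1) (-1) 1 0 0 1 0) (v8 0 0 0 0 0 0 1 0) (v8 0 0 0 0 0 0 0 1)) * (m8 (v8 1 0 0 0 0 0 0 0) (v8 1 1 0 (-1) 1 (-1) 1 0) (v8 1 0 1 (-1) 1 (-1) 1 0) (v8 2 0 0 (-1) 2 (-2) 2 0) (v8 1 0 0 (-1) 2 (-1) 1 0) (v8 1 0 0 (-1) 1 0 1 0) (v8 0 0 0 0 0 0 1 0) (v8 0 0 0 0 0 0 0 1)) * (m8 (v8 1 0 0 0 0 0 0 0) (v8 1 0 (-1) 1 0 (-1) 1 0) (v8 1 (-1) 0 1 0 (-1) 1 0) (v8 1 (-1) (-1) 2 0 (-1)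 1 0) (v8 1 (-1) (-1) 1 1 (-1) 1 0) (v8 1 (-1) (-1) 1 0 0 1 0) (v8 0 0 0 0 0 0 1 0) (v8 0 0 0 0 0 0 0 1)) from by decide +kernel]
    exact mul_mem (mul_mem hr19 hr33) hr19
  have hr95 : (m8 (v8 1 0 0 0 0 0 0 0) (v8 0 1 0 0 0 0 0 0) (v8 0 0 1 0 0 0 0 0) (v8 0 0 0 1 0 0 0 0) (v8 0 0 0 0 1 0 0 0) (v8 0 0 0 0 0 1 0 0) (v8 0 0 0 0 0 0 1 0) (v8 0 0 0 0 0 0 1 (-1))) ∈ G0 := by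
    rw [show (m8 (v8 1 0 0 0 0 0 0 0) (v8 0 1 0 0 0 0 0 0) (v8 0 0 1 0 0 0 0 0) (v8 0 0 0 1 0 0 0 0) (v8 0 0 0 0 1 0 0 0) (v8 0 0 0 0 0 1 0 0) (v8 0 0 0 0 0 0 1 0) (v8 0 0 0 0 0 0 1 (-1))) = (m8 (v8 0 0 1 0 (-1) 1 0 (-1)) (v8 (-1) 1 1 0 (-1) 1 0 (-1)) (v8 (-1) 0 2 0 (-1) 1 0 (-1)) (v8 (-2) 0 2 1 (-2) 2 0 (-2)) (v8 (-2) 0 2 0 (-1) 2 0 (-2)) (v8 (-1) 0 1 0 (-1) 2 0 (-1)) (v8 (-1) 0 1 0 (-1) 1 1 (-1)) (v8 (-1) 0 1 0 (-1) 1 0 0)) * (m8 (v8 0 0 1 0 (-1) 1 (-1) 1) (v8 (-1) 1 1 0 (-1) 1 (-1) 1) (v8 (-1) 0 2 0 (-1) 1 (-1) 1) (v8 (-2) 0 2 1 (-2) 2 (-2) 2) (v8 (-2) 0 2 0 (-1) 2 (-2) 2) (v8 (-1) 0 1 0 (-1) 2 (-1) 1) (v8 (-1) 0 1 0 (-1) 1 0 1) (v8 0 0 0 0 0 0 0 1)) * (m8 (v8 0 0 1 0 (-1) 1 0 (-1)) (v8 (-1) 1 1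 0 (-1) 1 0 (-1)) (v8 (-1) 0 2 0 (-1) 1 0 (-1)) (v8 (-2) 0 2 1 (-2) 2 0 (-2)) (v8 (-2) 0 2 0 (-1) 2 0 (-2)) (v8 (-1) 0 1 0 (-1) 2 0 (-1)) (v8 (-1) 0 1 0 (-1) 1 1 (-1)) (v8 (-1) 0 1 0 (-1) 1 0 0)) from by decide +kernel]
    exact mul_mem (mul_mem hr20 hr34) hr20
  have hb0 : e8Cert.refMat (e8coxe 0) ∈ G0 := by
    rw [show e8Cert.refMat (e8coxe 0) = (m8 (v8 (-1) 0 1 0 0 0 0 0) (v8 0 1 0 0 0 0 0 0) (v8 0 0 1 0 0 0 0 0) (v8 0 0 0 1 0 0 0 0) (v8 0 0 0 0 1 0 0 0) (v8 0 0 0 0 0 1 0 0) (v8 0 0 0 0 0 0 1 0) (v8 0 0 0 0 0 0 0 1)) from by decide +kernel]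
    exact hr0
  have hb1 : e8Cert.refMat (e8coxe 1) ∈ G0 := by
    rw [show e8Cert.refMat (e8coxe 1) = (m8 (v8 1 0 0 0 0 0 0 0) (v8 0 (-1) 0 1 0 0 0 0) (v8 0 0 1 0 0 0 0 0) (v8 0 0 0 1 0 0 0 0) (v8 0 0 0 0 1 0 0 0) (v8 0 0 0 0 0 1 0 0) (v8 0 0 0 0 0 0 1 0) (v8 0 0 0 0 0 0 0 1)) from by decide +kernel]
    exact hr75
  have hb2 : e8Cert.refMat (e8coxe 2) ∈ G0 := by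
    rw [show e8Cert.refMat (e8coxe 2) = (m8 (v8 1 0 0 0 0 0 0 0) (v8 0 1 0 0 0 0 0 0) (v8 1 0 (-1) 1 0 0 0 0) (v8 0 0 0 1 0 0 0 0) (v8 0 0 0 0 1 0 0 0) (v8 0 0 0 0 0 1 0 0) (v8 0 0 0 0 0 0 1 0) (v8 0 0 0 0 0 0 0 1)) from by decide +kernel]
    exact hr1
  have hb3 : e8Cert.refMat (e8coxe 3) ∈ G0 := by
    rw [show e8Cert.refMat (e8coxe 3) = (m8 (v8 1 0 0 0 0 0 0 0) (v8 0 1 0 0 0 0 0 0) (v8 0 0 1 0 0 0 0 0) (v8 0 1 1 (-1) 1 0 0 0) (v8 0 0 0 0 1 0 0 0) (v8 0 0 0 0 0 1 0 0) (v8 0 0 0 0 0 0 1 0) (v8 0 0 0 0 0 0 0 1)) from by decide +kernel]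
    exact hr86
  have hb4 : e8Cert.refMat (e8coxe 4) ∈ G0 := by
    rw [show e8Cert.refMat (e8coxe 4) = (m8 (v8 1 0 0 0 0 0 0 0) (v8 0 1 0 0 0 0 0 0) (v8 0 0 1 0 0 0 0 0) (v8 0 0 0 1 0 0 0 0) (v8 0 0 0 1 (-1) 1 0 0) (v8 0 0 0 0 0 1 0 0) (v8 0 0 0 0 0 0 1 0) (v8 0 0 0 0 0 0 0 1)) from by decide +kernel]
    exact hr82
  have hb5 : e8Cert.refMat (e8coxe 5) ∈ G0 := by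
    rw [show e8Cert.refMat (e8coxe 5) = (m8 (v8 1 0 0 0 0 0 0 0) (v8 0 1 0 0 0 0 0 0) (v8 0 0 1 0 0 0 0 0) (v8 0 0 0 1 0 0 0 0) (v8 0 0 0 0 1 0 0 0) (v8 0 0 0 0 1 (-1) 1 0) (v8 0 0 0 0 0 0 1 0) (v8 0 0 0 0 0 0 0 1)) from by decide +kernel]
    exact hr72
  have hb6 : e8Cert.refMat (e8coxe 6) ∈ G0 := by
    rw [show e8Cert.refMat (e8coxe 6) = (m8 (v8 1 0 0 0 0 0 0 0) (v8 0 1 0 0 0 0 0 0) (v8 0 0 1 0 0 0 0 0) (v8 0 0 0 1 0 0 0 0) (v8 0 0 0 0 1 0 0 0) (v8 0 0 0 0 0 1 0 0) (v8 0 0 0 0 0 1 (-1) 1) (v8 0 0 0 0 0 0 0 1)) from by decide +kernel]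
    exact hr81
  have hb7 : e8Cert.refMat (e8coxe 7) ∈ G0 := by
    rw [show e8Cert.refMat (e8coxe 7) = (m8 (v8 1 0 0 0 0 0 0 0) (v8 0 1 0 0 0 0 0 0) (v8 0 0 1 0 0 0 0 0) (v8 0 0 0 1 0 0 0 0) (v8 0 0 0 0 1 0 0 0) (v8 0 0 0 0 0 1 0 0) (v8 0 0 0 0 0 0 1 0) (v8 0 0 0 0 0 0 1 (-1))) from by decide +kernel]
    exact hr95
  intro b
  fin_cases b
  · exact hb0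
  · exact hb1
  · exact hb2
  · exact hb3
  · exact hb4
  · exact hb5
  · exact hb6
  · exact hb7

theorem e8cox_gen : ∃ T : Finset (CoxeterMatrix.E₈).Group, T.card = 1 ∧
    (∀ t ∈ T, ∃ (g : (CoxeterMatrix.E₈).Group) (i : Fin 8), t = g * (CoxeterMatrix.E₈).simple i * g⁻¹) ∧
    Subgroup.closure (({((List.finRange 8).map (CoxeterMatrix.E₈).simple).prod} : Set (CoxeterMatrix.E₈).Group) ∪ ↑T) = ⊤ :=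
  e8Cert.gen_result e8coxe e8coxe_inj (CoxeterMatrix.E₈) (by decide) [0] (by decide) e8cox_gen_all

end Cfsg.Agent.Lib.helper3
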