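import Mathlib
import Cfsg.Agent.Lib.helper3.D11G1a

set_option autoImplicit false

namespace Cfsg.Agent.Lib.helper3.D11

open MulAction Equiv

variable {α : Type*} [Fintype α] [DecidableEq α]

/-- an element of order `11` on `11` points is an `11`-cycle without fixed points, and even. -/
theorem cycle_of_order_eleven (hα : Fintype.card α = 11) {c : Perm α} (hc : orderOf c = 11) :
    c.IsCycle ∧ (∀ x, c x ≠ x) ∧ Perm.sign c = 1 := by
  obtain ⟨n, hn⟩ := Perm.cycleType_prime_order (σ := c) (by rw [hc]; norm_num)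
  rw [hc] at hn
  have hsum : c.support.card = 11 * (n + 1) := by
    rw [← Perm.sum_cycleType, hn]
    simp
    ring
  have hle : c.support.card ≤ 11 := by
    rw [← hα]
    exact Finset.card_le_univ _
  have hn0 : n = 0 := by omega
  subst hn0
  have hcyc : c.IsCycle := by
    rw [← Perm.card_cycleType_eq_one, hn]
    rfl
  have hsupp : c.support = Finset.univ := by
    apply Finset.eq_univ_of_card
    rw [hsum, hα]
  refine ⟨hcyc, ?_, ?_⟩
  · intro x
    rw [← Perm.mem_support, hsupp]
    exact Finset.mem_univ x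
  · rw [hcyc.sign, hsum]
    norm_num

theorem zpow_eq_one_of_fix (hα : Fintype.card α = 11) {c : Perm α} (hc : orderOf c = 11)
    {i : ℤ} {a : α} (h : (c ^ i) a = a) : c ^ i = 1 := by
  obtain ⟨hcyc, hmv, -⟩ := cycle_of_order_eleven hα hc
  ext y
  obtain ⟨k, hk⟩ := hcyc.exists_zpow_eq (hmv a) (hmv y)
  rw [← hk]
  have : (c ^ i) ((c ^ k) a) = (c ^ i * c ^ k) a := rfl
  rw [this, ← zpow_add, add_comm, zpow_add]
  show (c ^ k) ((c ^ i) a) = _
  rw [h]
  rfl

/-- an involution normalising a subgroup of order `11` of `Sym(11)` is odd. -/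
theorem odd_invol (hα : Fintype.card α = 11) (R : Subgroup (Perm α)) (hR : Nat.card R = 11)
    {t : Perm α} (ht2 : t ^ 2 = 1) (ht1 : t ≠ 1) (htR : ∀ r ∈ R, t * r * t⁻¹ ∈ R) :
    Perm.sign t = -1 := by
  haveI : Fact (Nat.Prime 11) := ⟨by norm_num⟩
  haveI : Fact (Nat.Prime 2) := ⟨by norm_num⟩
  -- a generator
  obtain ⟨c', hc'⟩ := exists_prime_orderOf_dvd_card' (G := R) 11 (by rw [hR])
  have hc : orderOf (c' : Perm α) = 11 := by rw [Subgroup.orderOf_coe, hc']
  set c : Perm α := (c' : Perm α) with hcdef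
  have hcR : c ∈ R := c'.2
  obtain ⟨hcyc, hmv, -⟩ := cycle_of_order_eleven hα hc
  have hzp : Subgroup.zpowers c = R := by
    apply Subgroup.eq_of_le_of_card_ge
    · rw [Subgroup.zpowers_le]; exact hcR
    · rw [Nat.card_zpowers, hc, hR]
  -- t c t⁻¹ = c ^ j
  have hmem : t * c * t⁻¹ ∈ Subgroup.zpowers c := by
    rw [hzp]; exact htR c hcR
  obtain ⟨j, hj⟩ := Subgroup.mem_zpowers_iff.mp hmem
  have hconj : ∀ i : ℤ, t * c ^ i * t⁻¹ = c ^ (j * i) := by
    intro i
    have h1 : t * c ^ i * t⁻¹ = (t * c * t⁻¹) ^ i := by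
      rw [conj_zpow]
    rw [h1, ← hj, ← zpow_mul]
  -- a fixed point of t
  have hord : orderOf t = 2 := orderOf_eq_prime ht2 ht1
  obtain ⟨n, hn⟩ := Perm.cycleType_prime_order (σ := t) (by rw [hord]; norm_num)
  rw [hord] at hn
  have hsum0 : t.support.card = 2 * (n + 1) := by
    rw [← Perm.sum_cycleType, hn]
    simp
    ring
  have hfix : ∃ a, t a = a := by
    have h := fixF_card t
    rw [hα, hsum0] at h
    have hpos : 0 < (fixF t).card := by omega
    obtain ⟨a, ha⟩ := Finset.card_pos.mp hpos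
    exact ⟨a, mem_fixF.mp ha⟩
  obtain ⟨a, ha⟩ := hfix
  have hta' : t⁻¹ a = a := by
    rw [Perm.inv_eq_iff_eq]; exact ha.symm
  -- t does not commute with c
  have hj1 : ¬ ((11 : ℤ) ∣ j - 1) := by
    intro hdvd
    apply ht1
    have hcj : c ^ j = c := by
      have : c ^ (j - 1) = 1 := by
        rw [← orderOf_dvd_iff_zpow_eq_one, hc]
        exact_mod_cast hdvd
      have h2 : c ^ j = c ^ (j - 1) * c := by
        rw [← zpow_add_one]; ring_nf
      rw [h2, this, one_mul]
    ext y
    obtain ⟨k, hk⟩ := hcyc.exists_zpow_eq (hmv a) (hmv y)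
    rw [← hk]
    have h3 := hconj k
    have h4 : c ^ (j * k) = c ^ k := by
      rw [zpow_mul, hcj]
    rw [h4] at h3
    have h5 : t * c ^ k = c ^ k * t := by
      calc t * c ^ k = t * c ^ k * t⁻¹ * t := by group
        _ = c ^ k * t := by rw [h3]
    have : t ((c ^ k) a) = (t * c ^ k) a := rfl
    rw [this, h5]
    show (c ^ k) (t a) = _
    rw [ha]
    rfl
  -- the only fixed point of t is a
  have honly : ∀ b, t b = b → b = a := by
    intro b hb
    obtain ⟨i, hi⟩ := hcyc.exists_zpow_eq (hmv a) (hmv b)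
    have h1 : t b = (c ^ (j * i)) a := by
      rw [← hi, ← hconj i]
      simp [Perm.mul_apply, hta']
    rw [hb, ← hi] at h1
    have h2 : (c ^ (j * i - i)) a = a := by
      have : c ^ (j * i - i) = (c ^ i)⁻¹ * c ^ (j * i) := by
        rw [← zpow_neg, ← zpow_add]; ring_nf
      rw [this, Perm.mul_apply, ← h1]
      simp
    have h3 := zpow_eq_one_of_fix hα hc h2
    rw [← orderOf_dvd_iff_zpow_eq_one, hc] at h3
    have h4 : (11 : ℤ) ∣ (j - 1) * i := by
      have : j * i - i = (j - 1) * i := by ring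
      rw [← this]; exact_mod_cast h3
    have h11 : Prime (11 : ℤ) := by
      rw [Int.prime_iff_natAbs_prime]; norm_num
    rcases h11.dvd_or_dvd h4 with h | h
    · exact absurd h hj1
    · have : c ^ i = 1 := by
        rw [← orderOf_dvd_iff_zpow_eq_one, hc]
        exact_mod_cast h
      rw [← hi, this]
      rfl
  have hfixF : fixF t = {a} := by
    ext b
    rw [mem_fixF, Finset.mem_singleton]
    constructor
    · exact honly b
    · rintro rfl; exact ha
  have hsupp : t.support.card = 10 := by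
    have := fixF_card t
    rw [hfixF, hα, Finset.card_singleton] at this
    omega
  have hsum : t.cycleType.sum = 10 := by rw [Perm.sum_cycleType, hsupp]
  have hn4 : n = 4 := by omega
  rw [Perm.sign_of_cycleType, hsum, hn, hn4]
  simp
  norm_num

end Cfsg.Agent.Lib.helper3.D11
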