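import Mathlib
import Cfsg.Agent.Lib.helper3.D11Ha
import Cfsg.Agent.Lib.Helper1.D11A
import Cfsg.Agent.Lib.helper4.SharpFour
import Cfsg.Agent.S0676

set_option autoImplicit false

namespace Cfsg.Agent.Lib.helper3.D11

open MulAction Equiv Cfsg.Agent.Lib.helper4

variable {α : Type*} [Fintype α] [DecidableEq α]

/-- the conclusion in the case `|N_G(P)| = 55` -/
def Concl (G : Subgroup (Perm α)) : Prop :=
  IsSimpleGroup G ∧ G ≤ alternatingGroup α ∧
    (Nat.card G = 660 ∨
      (Nat.card G = 7920 ∧ IsMultiplyPretransitive G α 4 ∧ ∀ x : Fin 4 ↪ α, stabilizer G x = ⊥))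

/-- if the Sylow `11`-normaliser has even order, `G` contains an odd permutation -/
theorem exists_odd [Fact (Nat.Prime 11)] (hα : Fintype.card α = 11)
    (G : Subgroup (Perm α)) (P : Sylow 11 G) (hP : Nat.card (P : Subgroup G) = 11)
    (hN : Even (Nat.card (Subgroup.normalizer ((P : Subgroup G) : Set G)))) :
    ∃ g ∈ G, Perm.sign g = -1 := by
  haveI : Fact (Nat.Prime 2) := ⟨by norm_num⟩
  obtain ⟨t₀, ht₀⟩ := exists_prime_orderOf_dvd_card'
    (G := Subgroup.normalizer ((P : Subgroup G) : Set G)) 2 hN.two_dvd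
  let t : Perm α := ((t₀ : G) : Perm α)
  have hord : orderOf t = 2 := by
    show orderOf ((t₀ : G) : Perm α) = 2
    rw [Subgroup.orderOf_coe, Subgroup.orderOf_coe, ht₀]
  have ht2 : t ^ 2 = 1 := by
    rw [← hord]; exact pow_orderOf_eq_one t
  have ht1 : t ≠ 1 := by
    intro h
    rw [h, orderOf_one] at hord
    norm_num at hord
  refine ⟨t, (t₀ : G).2, ?_⟩
  apply odd_invol hα ((P : Subgroup G).map G.subtype) _ ht2 ht1
  · rintro r ⟨r₁, hr₁, rfl⟩
    have hn := t₀.2
    rw [Subgroup.mem_normalizer_iff] at hn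
    refine ⟨(t₀ : G) * r₁ * (t₀ : G)⁻¹, (hn r₁).mp hr₁, ?_⟩
    simp [t]
  · rw [Subgroup.card_map_of_injective G.subtype_injective, hP]

end Cfsg.Agent.Lib.helper3.D11
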