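import Mathlib
import Cfsg.Agent.Lib.helper3.D11H

set_option autoImplicit false

namespace Cfsg.Agent.Lib.helper3.D11

open MulAction Equiv Cfsg.Agent.Lib.helper4

variable {α : Type*} [Fintype α] [DecidableEq α]

theorem exists_four (hα : Fintype.card α = 11) : ∃ a b c d : α, [a, b, c, d].Nodup := by
  let e := Fintype.equivFinOfCardEq hα
  refine ⟨e.symm 0, e.symm 1, e.symm 2, e.symm 3, ?_⟩
  simp only [List.nodup_cons, List.mem_cons, List.not_mem_nil, or_false, not_or,
    List.nodup_nil, and_true, not_false_eq_true, EmbeddingLike.apply_eq_iff_eq]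
  decide

/-- a sharply `4`-transitive group of even permutations of `11` points has no extension by an odd
permutation inside a primitive group not containing `Alt`. -/
theorem no_odd_extension (hα : Fintype.card α = 11) (G G' : Subgroup (Perm α))
    (hprim : IsPreprimitive G α) (hA : ¬ alternatingGroup α ≤ G) (hG'G : G' ≤ G)
    (hG' : ∀ g ∈ G, Perm.sign g = 1 → g ∈ G') (hG'even : ∀ g ∈ G', Perm.sign g = 1)
    (h4 : IsMultiplyPretransitive G' α 4) (hsharp : ∀ x : Fin 4 ↪ α, stabilizer G' x = ⊥)
    {g₀ : Perm α} (hg₀ : g₀ ∈ G) (hodd : Perm.sign g₀ = -1) : False := by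
  -- element-level forms of 4-transitivity and sharpness
  have T4 : ∀ a b c d a' b' c' d' : α, [a, b, c, d].Nodup → [a', b', c', d'].Nodup →
      ∃ g ∈ G', g a = a' ∧ g b = b' ∧ g c = c' ∧ g d = d' := by
    intro a b c d a' b' c' d' h h'
    obtain ⟨g, hg⟩ := exists_map4 (K := G') a b c d a' b' c' d' h h'
    exact ⟨g, g.2, hg⟩
  have S4 : ∀ g ∈ G', ∀ a b c d : α, [a, b, c, d].Nodup → g a = a → g b = b → g c = c →
      g d = d → g = 1 := by
    intro g hg a b c d hn ha hb hc hd
    have := eq_of_agree4 (K := G') hsharp ⟨g, hg⟩ 1 a b c d hn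
      (by rw [one_smul]; exact ha) (by rw [one_smul]; exact hb) (by rw [one_smul]; exact hc)
      (by rw [one_smul]; exact hd)
    exact congrArg Subtype.val this
  have uniq : ∀ u ∈ G, ∀ v ∈ G, Perm.sign u = -1 → Perm.sign v = -1 → ∀ a b c d : α,
      [a, b, c, d].Nodup → u a = a → u b = b → u c = c → u d = d → v a = a → v b = b →
      v c = c → v d = d → u = v := by
    intro u hu v hv hsu hsv a b c d hn ha hb hc hd ha' hb' hc' hd'
    have hmem : v⁻¹ * u ∈ G' := by
      apply hG' _ (G.mul_mem (G.inv_mem hv) hu)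
      rw [map_mul, map_inv, hsu, hsv]
      decide
    have hinv : ∀ x, v x = x → v⁻¹ x = x := by
      intro x hx
      rw [Perm.inv_eq_iff_eq]; exact hx.symm
    have := S4 _ hmem a b c d hn (by rw [Perm.mul_apply, ha, hinv a ha'])
      (by rw [Perm.mul_apply, hb, hinv b hb']) (by rw [Perm.mul_apply, hc, hinv c hc'])
      (by rw [Perm.mul_apply, hd, hinv d hd'])
    exact (inv_mul_eq_one.mp this).symm
  obtain ⟨p1, p2, p3, p4, hnd⟩ := exists_four hα
  have hnd' := hnd
  simp only [List.nodup_cons, List.mem_cons, List.not_mem_nil, or_false, not_or,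
    List.nodup_nil, and_true, not_false_eq_true] at hnd'
  obtain ⟨⟨h12, h13, h14⟩, ⟨h23, h24⟩, h34⟩ := hnd'
  -- the odd element s fixing four points
  have hnd2 : [g₀ p1, g₀ p2, g₀ p3, g₀ p4].Nodup := by
    simp only [List.nodup_cons, List.mem_cons, List.not_mem_nil, or_false, not_or,
      List.nodup_nil, and_true, not_false_eq_true, EmbeddingLike.apply_eq_iff_eq]
    exact ⟨⟨h12, h13, h14⟩, ⟨h23, h24⟩, h34⟩
  obtain ⟨h, hhG', hh1, hh2, hh3, hh4⟩ := T4 p1 p2 p3 p4 _ _ _ _ hnd hnd2
  set s : Perm α := h⁻¹ * g₀ with hsdef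
  have hsG : s ∈ G := G.mul_mem (G.inv_mem (hG'G hhG')) hg₀
  have hsodd : Perm.sign s = -1 := by
    rw [hsdef, map_mul, map_inv, hG'even h hhG', hodd]
    decide
  have hs1 : s p1 = p1 := by rw [hsdef, Perm.mul_apply, ← hh1]; simp
  have hs2 : s p2 = p2 := by rw [hsdef, Perm.mul_apply, ← hh2]; simp
  have hs3 : s p3 = p3 := by rw [hsdef, Perm.mul_apply, ← hh3]; simp
  have hs4 : s p4 = p4 := by rw [hsdef, Perm.mul_apply, ← hh4]; simp
  have hsne : s ≠ 1 := by
    intro h1
    rw [h1, map_one] at hsodd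
    exact absurd hsodd (by decide)
  have hss : s ^ 2 = 1 := by
    have hmem : s * s ∈ G' := by
      apply hG' _ (G.mul_mem hsG hsG)
      rw [map_mul, hsodd]; decide
    rw [pow_two]
    exact S4 _ hmem p1 p2 p3 p4 hnd (by rw [Perm.mul_apply, hs1, hs1])
      (by rw [Perm.mul_apply, hs2, hs2]) (by rw [Perm.mul_apply, hs3, hs3])
      (by rw [Perm.mul_apply, hs4, hs4])
  -- the cycle type of s
  have hord : orderOf s = 2 := orderOf_eq_prime hss hsne
  obtain ⟨n, hn⟩ := Perm.cycleType_prime_order (σ := s) (by rw [hord]; norm_num)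
  rw [hord] at hn
  have hsupp : s.support.card = 2 * (n + 1) := by
    rw [← Perm.sum_cycleType, hn]
    simp
    ring
  have hsub4 : ({p1, p2, p3, p4} : Finset α) ⊆ fixF s := by
    intro x hx
    simp only [Finset.mem_insert, Finset.mem_singleton] at hx
    rw [mem_fixF]
    rcases hx with rfl | rfl | rfl | rfl <;> assumption
  have hcard4 : ({p1, p2, p3, p4} : Finset α).card = 4 := by
    rw [Finset.card_insert_of_notMem, Finset.card_insert_of_notMem, Finset.card_insert_of_notMem,
      Finset.card_singleton]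
    · simpa using h34
    · simp only [Finset.mem_insert, Finset.mem_singleton, not_or]; exact ⟨h23, h24⟩
    · simp only [Finset.mem_insert, Finset.mem_singleton, not_or]; exact ⟨h12, h13, h14⟩
  have hfix4 : 4 ≤ (fixF s).card := by
    rw [← hcard4]; exact Finset.card_le_card hsub4
  have hfc := fixF_card s
  rw [hα, hsupp] at hfc
  have hsign := Perm.sign_of_cycleType s
  rw [hn, hsodd] at hsign
  simp only [Multiset.sum_replicate, Multiset.card_replicate, smul_eq_mul] at hsign
  have hn02 : n = 0 ∨ n = 2 := by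
    have hle : n ≤ 2 := by omega
    interval_cases n
    · left; rfl
    · exfalso
      norm_num at hsign
    · right; rfl
  rcases hn02 with rfl | rfl
  · -- s is a transposition
    have hswap : s.IsSwap := by
      rw [← Perm.card_support_eq_two, hsupp]
    have := Perm.subgroup_eq_top_of_isPreprimitive_of_isSwap_mem hprim s hswap hsG
    apply hA
    rw [this]
    exact le_top
  -- now s has exactly 5 fixed points
  have hfix5 : (fixF s).card = 5 := by omega
  obtain ⟨e, heF, heN⟩ := Finset.exists_mem_notMem_of_card_lt_card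
    (show ({p1, p2, p3, p4} : Finset α).card < (fixF s).card by rw [hcard4, hfix5]; norm_num)
  simp only [Finset.mem_insert, Finset.mem_singleton, not_or] at heN
  obtain ⟨he1, he2, he3, he4⟩ := heN
  have hse : s e = e := mem_fixF.mp heF
  have hfixall : ∀ x, s x = x → x = p1 ∨ x = p2 ∨ x = p3 ∨ x = p4 ∨ x = e := by
    have hsub5 : ({e, p1, p2, p3, p4} : Finset α) ⊆ fixF s := by
      intro x hx
      rw [Finset.mem_insert] at hx
      rcases hx with rfl | hx
      · exact heF
      · exact hsub4 hx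
    have hcard5 : ({e, p1, p2, p3, p4} : Finset α).card = 5 := by
      rw [Finset.card_insert_of_notMem, hcard4]
      simp only [Finset.mem_insert, Finset.mem_singleton, not_or]
      exact ⟨he1, he2, he3, he4⟩
    have heq := Finset.eq_of_subset_of_card_le hsub5 (by rw [hcard5, hfix5])
    intro x hx
    have : x ∈ fixF s := mem_fixF.mpr hx
    rw [← heq] at this
    simp only [Finset.mem_insert, Finset.mem_singleton] at this
    tauto
  -- the element h' rotating the five fixed points
  have hnd3 : [p2, p3, p4, e].Nodup := by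
    simp only [List.nodup_cons, List.mem_cons, List.not_mem_nil, or_false, not_or,
      List.nodup_nil, and_true, not_false_eq_true]
    exact ⟨⟨h23, h24, fun h => he2 h.symm⟩, ⟨h34, fun h => he3 h.symm⟩, fun h => he4 h.symm⟩
  obtain ⟨k, hkG', hk1, hk2, hk3, hk4⟩ := T4 p1 p2 p3 p4 p2 p3 p4 e hnd hnd3
  have hkG : k ∈ G := hG'G hkG'
  have hkinv : ∀ x y, k x = y → k⁻¹ y = x := by
    intro x y hxy
    rw [Perm.inv_eq_iff_eq]; exact hxy.symm
  have hcomm : k * s = s * k := by
    have hu : k * s * k⁻¹ = s := by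
      apply uniq _ (G.mul_mem (G.mul_mem hkG hsG) (G.inv_mem hkG)) _ hsG _ hsodd p2 p3 p4 e hnd3
      · simp [Perm.mul_apply, hkinv _ _ hk1, hs1, hk1]
      · simp [Perm.mul_apply, hkinv _ _ hk2, hs2, hk2]
      · simp [Perm.mul_apply, hkinv _ _ hk3, hs3, hk3]
      · simp [Perm.mul_apply, hkinv _ _ hk4, hs4, hk4]
      · exact hs2
      · exact hs3
      · exact hs4
      · exact hse
      · rw [map_mul, map_mul, map_inv, hG'even k hkG', hsodd]; decide
    calc k * s = k * s * k⁻¹ * k := by group
      _ = s * k := by rw [hu]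
  have hcomm' : ∀ x, k (s x) = s (k x) := by
    intro x
    have := congrArg (fun f : Perm α => f x) hcomm
    simpa [Perm.mul_apply] using this
  have hke : k e = p1 := by
    have hfx : s (k e) = k e := by rw [← hcomm', hse]
    rcases hfixall _ hfx with h | h | h | h | h
    · exact h
    · exfalso; rw [← hk1] at h; exact he1 (k.injective h)
    · exfalso; rw [← hk2] at h; exact he2 (k.injective h)
    · exfalso; rw [← hk3] at h; exact he3 (k.injective h)
    · exfalso; exact he4 (k.injective (h.trans hk4.symm))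
  have hk5 : k ^ 5 = 1 := by
    apply S4 _ (G'.pow_mem hkG' 5) p1 p2 p3 p4 hnd
    · simp [pow_succ, Perm.mul_apply, hk1, hk2, hk3, hk4, hke]
    · simp [pow_succ, Perm.mul_apply, hk1, hk2, hk3, hk4, hke]
    · simp [pow_succ, Perm.mul_apply, hk1, hk2, hk3, hk4, hke]
    · simp [pow_succ, Perm.mul_apply, hk1, hk2, hk3, hk4, hke]
  have hkne : k ≠ 1 := by
    intro h1
    rw [h1] at hk1
    exact h12 hk1
  haveI : Fact (Nat.Prime 5) := ⟨by norm_num⟩
  have hkord : orderOf k = 5 := orderOf_eq_prime hk5 hkne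
  obtain ⟨m, hm⟩ := Perm.cycleType_prime_order (σ := k) (by rw [hkord]; norm_num)
  rw [hkord] at hm
  have hksupp : k.support.card = 5 * (m + 1) := by
    rw [← Perm.sum_cycleType, hm]
    simp
    ring
  have hkfc := fixF_card k
  rw [hα, hksupp] at hkfc
  have hkpos : 0 < (fixF k).card := by omega
  obtain ⟨m₀, hm₀⟩ := Finset.card_pos.mp hkpos
  have hkm₀ : k m₀ = m₀ := mem_fixF.mp hm₀
  have hsm₀ : s m₀ ≠ m₀ := by
    intro hfx
    rcases hfixall _ hfx with h | h | h | h | h
    · rw [h, hk1] at hkm₀; exact h12 hkm₀.symm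
    · rw [h, hk2] at hkm₀; exact h23 hkm₀.symm
    · rw [h, hk3] at hkm₀; exact h34 hkm₀.symm
    · rw [h, hk4] at hkm₀; exact he4 hkm₀
    · rw [h, hke] at hkm₀; exact he1 hkm₀.symm
  have hksm₀ : k (s m₀) = s m₀ := by rw [hcomm', hkm₀]
  have h2le : 2 ≤ (fixF k).card := by
    have hsub : ({m₀, s m₀} : Finset α) ⊆ fixF k := by
      intro x hx
      simp only [Finset.mem_insert, Finset.mem_singleton] at hx
      rw [mem_fixF]
      rcases hx with rfl | rfl
      · exact hkm₀
      · exact hksm₀
    have : ({m₀, s m₀} : Finset α).card = 2 := by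
      rw [Finset.card_insert_of_notMem, Finset.card_singleton]
      simpa using fun h => hsm₀ h.symm
    rw [← this]; exact Finset.card_le_card hsub
  have h6 : (fixF k).card = 6 := by omega
  obtain ⟨x3, hx3F, hx3N⟩ := Finset.exists_mem_notMem_of_card_lt_card
    (show ({m₀, s m₀} : Finset α).card < (fixF k).card by
      have : ({m₀, s m₀} : Finset α).card ≤ 2 := Finset.card_le_two
      omega)
  obtain ⟨x4, hx4F, hx4N⟩ := Finset.exists_mem_notMem_of_card_lt_card
    (show ({x3, m₀, s m₀} : Finset α).card < (fixF k).card by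
      have : ({x3, m₀, s m₀} : Finset α).card ≤ 3 := Finset.card_le_three
      omega)
  simp only [Finset.mem_insert, Finset.mem_singleton, not_or] at hx3N hx4N
  have hnd4 : [m₀, s m₀, x3, x4].Nodup := by
    simp only [List.nodup_cons, List.mem_cons, List.not_mem_nil, or_false, not_or,
      List.nodup_nil, and_true, not_false_eq_true]
    refine ⟨⟨fun h => hsm₀ h.symm, fun h => hx3N.1 h.symm, fun h => hx4N.2.1 h.symm⟩,
      ⟨fun h => hx3N.2 h.symm, fun h => hx4N.2.2 h.symm⟩, fun h => hx4N.1 h.symm⟩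
  exact hkne (S4 k hkG' _ _ _ _ hnd4 hkm₀ hksm₀ (mem_fixF.mp hx3F) (mem_fixF.mp hx4F))

end Cfsg.Agent.Lib.helper3.D11
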