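import Mathlib
import Cfsg.Agent.Lib.helper3.D11Hb

set_option autoImplicit false

namespace Cfsg.Agent.Lib.helper3.D11

open MulAction Equiv Cfsg.Agent.Lib.helper4 Cfsg.Agent.Lib.Helper1.D11

variable {α : Type*} [Fintype α] [DecidableEq α]

theorem dvd_card_of_three_trans (hα : Fintype.card α = 11) (G : Subgroup (Perm α))
    (h3 : IsMultiplyPretransitive G α 3) : 990 ∣ Nat.card G := by
  have hne : Nonempty (Fin 3 ↪ α) := by
    rw [Function.Embedding.nonempty_iff_card_le, Fintype.card_fin, hα]
    norm_num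
  obtain ⟨x⟩ := hne
  have h := @MulAction.index_stabilizer_of_transitive G _ _ _ x h3
  have hc : Nat.card (Fin 3 ↪ α) = 990 := by
    rw [Nat.card_eq_fintype_card, Fintype.card_embedding_eq, Fintype.card_fin, hα]
    rfl
  rw [← hc, ← h]
  exact Subgroup.index_dvd_card _

theorem even_case [Fact (Nat.Prime 11)] (hα : Fintype.card α = 11)
    (G : Subgroup (Perm α)) [IsPretransitive G α] (hG : ¬ Group.IsSolvable G)
    (hA : ¬ alternatingGroup α ≤ G) (P : Sylow 11 G)
    (hN : Nat.card (Subgroup.normalizer ((P : Subgroup G) : Set G)) = 110)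
    (main : ∀ (G' : Subgroup (Perm α)) [IsPretransitive G' α], ¬ Group.IsSolvable G' →
      ¬ alternatingGroup α ≤ G' → ∀ P' : Sylow 11 G',
      Nat.card (Subgroup.normalizer ((P' : Subgroup G') : Set G')) = 55 → Concl G') :
    False := by
  have hP := (card_normalizer hα G hG P).1
  obtain ⟨g₀, hg₀G, hg₀⟩ := exists_odd hα G P hP (by rw [hN]; decide)
  -- the even subgroup
  set G' : Subgroup (Perm α) := G ⊓ alternatingGroup α with hG'def
  have hG'G : G' ≤ G := inf_le_left
  have hG'A : G' ≤ alternatingGroup α := inf_le_right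
  have hmemG' : ∀ g ∈ G, Perm.sign g = 1 → g ∈ G' := by
    intro g hg hs
    exact Subgroup.mem_inf.mpr ⟨hg, Perm.mem_alternatingGroup.mpr hs⟩
  have hG'even : ∀ g ∈ G', Perm.sign g = 1 := fun g hg =>
    Perm.mem_alternatingGroup.mp (hG'A hg)
  -- an 11-cycle in G'
  obtain ⟨c₀, hc₀⟩ := exists_prime_orderOf_dvd_card' (G := G) 11 (eleven_dvd hα G)
  have hc : orderOf (c₀ : Perm α) = 11 := by rw [Subgroup.orderOf_coe, hc₀]
  obtain ⟨hcyc, hmv, hcsign⟩ := cycle_of_order_eleven hα hc
  have hcG' : (c₀ : Perm α) ∈ G' := hmemG' _ c₀.2 hcsign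
  haveI : IsPretransitive G' α := by
    constructor
    intro x y
    obtain ⟨i, hi⟩ := hcyc.exists_zpow_eq (hmv x) (hmv y)
    exact ⟨⟨(c₀ : Perm α) ^ i, G'.zpow_mem hcG' i⟩, hi⟩
  -- G' is not solvable
  have hG'ns : ¬ Group.IsSolvable G' := by
    intro hsol
    apply hG
    haveI : Group.IsSolvable G' := hsol
    refine Group.isSolvable_of_ker_le_range (Subgroup.inclusion hG'G)
      ((Perm.sign).comp G.subtype) ?_
    intro x hx
    rw [MonoidHom.mem_ker] at hx
    have hx' : Perm.sign (x : Perm α) = 1 := hx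
    exact ⟨⟨(x : Perm α), hmemG' _ x.2 hx'⟩, rfl⟩
  have hA' : ¬ alternatingGroup α ≤ G' := fun h => hA (h.trans hG'G)
  -- its Sylow normaliser has order 55
  let P' : Sylow 11 G' := default
  obtain ⟨hP', hN'⟩ := card_normalizer hα G' hG'ns P'
  have hN'55 : Nat.card (Subgroup.normalizer ((P' : Subgroup G') : Set G')) = 55 := by
    rcases hN' with h | h
    · exact h
    · exfalso
      obtain ⟨g, hgG', hg⟩ := exists_odd hα G' P' hP' (by rw [h]; decide)
      rw [hG'even g hgG'] at hg
      exact absurd hg (by decide)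
  obtain ⟨-, -, hcases⟩ := main G' hG'ns hA' P' hN'55
  -- |G| = 2 |G'|
  have hcard : Nat.card G = 2 * Nat.card G' := by
    let φ : G →* ℤˣ := (Perm.sign).comp G.subtype
    have hker : φ.ker = G'.subgroupOf G := by
      ext x
      rw [MonoidHom.mem_ker, Subgroup.mem_subgroupOf]
      constructor
      · intro hx
        exact hmemG' _ x.2 hx
      · intro hx
        exact hG'even _ hx
    have hsurj : Function.Surjective φ := by
      intro u
      rcases Int.units_eq_one_or u with rfl | rfl
      · exact ⟨1, map_one φ⟩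
      · exact ⟨⟨g₀, hg₀G⟩, hg₀⟩
    have hidx : φ.ker.index = 2 := by
      rw [Subgroup.index_ker, MonoidHom.range_eq_top.mpr hsurj, Subgroup.card_top,
        Nat.card_eq_fintype_card, Fintype.card_units_int]
    have h1 := Subgroup.card_mul_index φ.ker
    rw [hidx, hker, Nat.card_congr (Subgroup.subgroupOfEquivOfLe hG'G).toEquiv] at h1
    omega
  -- G is 3-transitive
  have h3 : IsMultiplyPretransitive G α 3 :=
    Cfsg.Agent.S0676.result (p := 11) hα G hG P (by rw [hN]; decide)
  have h990 := dvd_card_of_three_trans hα G h3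
  have hprim : IsPreprimitive G α := by
    have h2 : IsMultiplyPretransitive G α 2 :=
      isMultiplyPretransitive_of_le (n := 3) (by norm_num) (by rw [Nat.card_eq_fintype_card, hα]; norm_num)
    exact isPreprimitive_of_is_two_pretransitive h2
  rcases hcases with h660 | ⟨h7920, h4, hsharp⟩
  · rw [hcard, h660] at h990
    norm_num at h990
  · exact no_odd_extension hα G G' hprim hA hG'G hmemG' hG'even h4 hsharp hg₀G hg₀

end Cfsg.Agent.Lib.helper3.D11
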