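import Mathlib
import Cfsg.Agent.Lib.helper3.D11Hc
import Cfsg.Agent.Lib.Helper1.D11B
import Cfsg.Agent.Lib.Helper1.D11E
import Cfsg.Agent.Lib.Helper20.D11D
import Cfsg.Agent.Lib.Helper10.D11G3
import Cfsg.Agent.S0675

set_option autoImplicit false

namespace Cfsg.Agent.Lib.helper3.D11

open MulAction Equiv

variable {α : Type*} [Fintype α] [DecidableEq α]

theorem dvd_card_of_two_trans (hα : Fintype.card α = 11) (G : Subgroup (Perm α))
    (h2 : IsMultiplyPretransitive G α 2) : 110 ∣ Nat.card G := by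
  have hne : Nonempty (Fin 2 ↪ α) := by
    rw [Function.Embedding.nonempty_iff_card_le, Fintype.card_fin, hα]
    norm_num
  obtain ⟨x⟩ := hne
  have h := @MulAction.index_stabilizer_of_transitive G _ _ _ x h2
  have hc : Nat.card (Fin 2 ↪ α) = 110 := by
    rw [Nat.card_eq_fintype_card, Fintype.card_embedding_eq, Fintype.card_fin, hα]
    rfl
  rw [← hc, ← h]
  exact Subgroup.index_dvd_card _

theorem odd_case [Fact (Nat.Prime 11)] (hα : Fintype.card α = 11)
    (G : Subgroup (Perm α)) [IsPretransitive G α] (hG : ¬ Group.IsSolvable G)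
    (hA : ¬ alternatingGroup α ≤ G) (P : Sylow 11 G)
    (hN : Nat.card (Subgroup.normalizer ((P : Subgroup G) : Set G)) = 55) : Concl G := by
  have hP := (Cfsg.Agent.Lib.Helper1.D11.card_normalizer hα G hG P).1
  obtain ⟨hs, hev, hmod⟩ := Cfsg.Agent.Lib.Helper1.D11.simple_of_55 hα G hG P hP hN
  have hαp : (Fintype.card α).Prime := by rw [hα]; norm_num
  have h2 : IsMultiplyPretransitive G α 2 := by
    rcases Cfsg.Agent.S0675.result hαp G with h | h
    · exact absurd h hG
    · exact h
  have hprim : IsPreprimitive G α := isPreprimitive_of_is_two_pretransitive h2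
  have hdvd := Cfsg.Agent.Lib.Helper20.D11.card_dvd hα G hprim hA hev
  have h110 := dvd_card_of_two_trans hα G h2
  have h5 : 5 ∣ Nat.card G := Dvd.dvd.trans (by norm_num) h110
  have h4 := Cfsg.Agent.Lib.Helper20.D11.sylow5_count hα G hprim hA hs hG hev h5
  refine ⟨hs, hev, ?_⟩
  rcases Cfsg.Agent.Lib.Helper1.D11.order_arith _ hdvd h110 hmod h4 with h | h
  · exact Or.inl h
  · exact Or.inr ⟨h, Cfsg.Agent.Lib.Helper10.D11.sharp_of_7920 hα G hs h h2 hA hev⟩

end Cfsg.Agent.Lib.helper3.D11
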