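import Cfsg.Agent.Lib.helper3.TCUpper2
import Cfsg.Prelude.Def_KGroupFacts

/-!
Stem extensions and presentations with numbered letters (format of helper12's `TCG`): lifts of the generators
to a central extension can be chosen so that prescribed commutator expressions of the generators hold exactly;
every relator of the base group is then central in the extension (helper3).
-/

set_option autoImplicit false

namespace Cfsg.Agent.Lib.Helper3.StemPres

open Cfsg.Agent.Lib.Helper12.TC Cfsg.Agent.Lib.Helper12.TCG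
open scoped commutatorElement

universe u v

/-- the inverse word -/
def invw (IV : ℕ) (w : List ℕ) : List ℕ := (w.map (invS IV)).reverse

/-- the commutator of a word and a letter, as a word -/
def commW (IV : ℕ) (r : List ℕ) (x : ℕ) : List ℕ := r ++ x :: (invw IV r ++ [invS IV x])

/-- the word saying that the letter `s` is the commutator of the words `h` and `k` -/
def sW (IV : ℕ) (s : ℕ) (h k : List ℕ) : List ℕ := invS IV s :: (h ++ (k ++ (invw IV h ++ invw IV k)))

section Words

variable {Γ : Type v} [Group Γ]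

theorem wprod_invw (v : ℕ → Γ) (IV : ℕ) (w : List ℕ) (h : ∀ s ∈ w, v (invS IV s) = (v s)⁻¹) :
    wprod v (invw IV w) = (wprod v w)⁻¹ := by
  induction w with
  | nil => simp [invw, wprod]
  | cons s w ih =>
    have h1 := ih (fun t ht => h t (List.mem_cons_of_mem _ ht))
    have h2 := h s List.mem_cons_self
    have e : invw IV (s :: w) = invw IV w ++ [invS IV s] := by simp [invw]
    rw [e, wprod_append, h1, wprod_cons, wprod_cons, wprod_nil, mul_one, h2, mul_inv_rev]

theorem wprod_commW (v : ℕ → Γ) (IV : ℕ) (r : List ℕ) (x : ℕ)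
    (h : ∀ s ∈ r, v (invS IV s) = (v s)⁻¹) (hx : v (invS IV x) = (v x)⁻¹) :
    wprod v (commW IV r x) = ⁅wprod v r, v x⁆ := by
  unfold commW
  rw [wprod_append, wprod_cons, wprod_append, wprod_invw v IV r h, wprod_cons, wprod_nil, mul_one, hx,
    commutatorElement_def]
  group

theorem wprod_sW (v : ℕ → Γ) (IV : ℕ) (s : ℕ) (h k : List ℕ)
    (hh : ∀ t ∈ h, v (invS IV t) = (v t)⁻¹) (hk : ∀ t ∈ k, v (invS IV t) = (v t)⁻¹)
    (hs : v (invS IV s) = (v s)⁻¹) :
    wprod v (sW IV s h k) = (v s)⁻¹ * ⁅wprod v h, wprod v k⁆ := by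
  unfold sW
  rw [wprod_cons, wprod_append, wprod_append, wprod_append, wprod_invw v IV h hh,
    wprod_invw v IV k hk, hs, commutatorElement_def]
  group

theorem map_wprod {G : Type u} [Group G] (σ : Γ →* G) (v : ℕ → Γ) (w : List ℕ) :
    σ (wprod v w) = wprod (fun s => σ (v s)) w := by
  induction w with
  | nil => rw [wprod_nil, wprod_nil, map_one]
  | cons s w ih => rw [wprod_cons, wprod_cons, map_mul, ih]

theorem comm_mul_central_left {a b z : Γ} (hz : z ∈ Subgroup.center Γ) : ⁅a * z, b⁆ = ⁅a, b⁆ := by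
  rw [commutatorElement_def, commutatorElement_def]
  have h1 : z * b = b * z := (Subgroup.mem_center_iff.1 hz b).symm
  have h2 : z * a⁻¹ = a⁻¹ * z := (Subgroup.mem_center_iff.1 hz a⁻¹).symm
  calc a * z * b * (a * z)⁻¹ * b⁻¹ = a * (z * b) * (z⁻¹ * a⁻¹) * b⁻¹ := by group
    _ = a * (b * z) * (z⁻¹ * a⁻¹) * b⁻¹ := by rw [h1]
    _ = a * b * a⁻¹ * b⁻¹ := by group

theorem comm_mul_central_right {a b z : Γ} (hz : z ∈ Subgroup.center Γ) : ⁅a, b * z⁆ = ⁅a, b⁆ := by
  rw [commutatorElement_def, commutatorElement_def]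
  have h1 : z * a⁻¹ = a⁻¹ * z := (Subgroup.mem_center_iff.1 hz a⁻¹).symm
  calc a * (b * z) * a⁻¹ * (b * z)⁻¹ = a * b * (z * a⁻¹) * z⁻¹ * b⁻¹ := by group
    _ = a * b * (a⁻¹ * z) * z⁻¹ * b⁻¹ := by rw [h1]
    _ = a * b * a⁻¹ * b⁻¹ := by group

/-- words in letters which differ by central elements differ by a central element -/
theorem wprod_central_twist (u w : ℕ → Γ) (hz : ∀ s, (u s)⁻¹ * w s ∈ Subgroup.center Γ) (l : List ℕ) :
    (wprod u l)⁻¹ * wprod w l ∈ Subgroup.center Γ := by
  induction l with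
  | nil => rw [wprod_nil, wprod_nil, inv_one, one_mul]; exact Subgroup.one_mem _
  | cons s l ih =>
    rw [wprod_cons, wprod_cons]
    have h1 := hz s
    have e : (u s * wprod u l)⁻¹ * (w s * wprod w l) =
        (wprod u l)⁻¹ * ((u s)⁻¹ * w s) * wprod w l := by group
    rw [e]
    have h2 : (wprod u l)⁻¹ * ((u s)⁻¹ * w s) = ((u s)⁻¹ * w s) * (wprod u l)⁻¹ :=
      (Subgroup.mem_center_iff.1 h1 _)
    rw [h2, mul_assoc]
    exact Subgroup.mul_mem _ h1 ih

theorem comm_wprod_central_twist (u w : ℕ → Γ) (hz : ∀ s, (u s)⁻¹ * w s ∈ Subgroup.center Γ)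
    (h k : List ℕ) : ⁅wprod w h, wprod w k⁆ = ⁅wprod u h, wprod u k⁆ := by
  have e1 : wprod w h = wprod u h * ((wprod u h)⁻¹ * wprod w h) := by group
  have e2 : wprod w k = wprod u k * ((wprod u k)⁻¹ * wprod w k) := by group
  rw [e1, e2, comm_mul_central_left (wprod_central_twist u w hz h),
    comm_mul_central_right (wprod_central_twist u w hz k)]

end Words

section Lifts

variable {G : Type u} [Group G] {Γ : Type v} [Group Γ] (σ : Γ →* G)

include σ in
/-- lifts of the letters to a central extension for which the prescribed commutator expressions hold -/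
theorem exists_lifts (hsurj : Function.Surjective σ) (hcen : σ.ker ≤ Subgroup.center Γ)
    (g IV : ℕ) (hg : g ≤ 16) (hiv : ivK IV g = true) (hne : ∀ s < g, invS IV s ≠ s)
    (v : ℕ → G) (hvinv : ∀ s < g, v (invS IV s) = (v s)⁻¹) (hvge : ∀ s, ¬ s < g → v s = 1)
    (hw kw : ℕ → List ℕ)
    (hS : ∀ s < g, s < invS IV s → v s = ⁅wprod v (hw s), wprod v (kw s)⁆) :
    ∃ v' : ℕ → Γ, (∀ s, σ (v' s) = v s) ∧ (∀ s < g, v' (invS IV s) = (v' s)⁻¹) ∧
      (∀ s, ¬ s < g → v' s = 1) ∧
      (∀ s < g, s < invS IV s → v' s = ⁅wprod v' (hw s), wprod v' (kw s)⁆) := by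
  classical
  let ℓ : G → Γ := Function.surjInv hsurj
  have hℓ : ∀ x, σ (ℓ x) = x := Function.surjInv_eq hsurj
  let u : ℕ → Γ := fun s =>
    if s < g then (if s < invS IV s then ℓ (v s) else (ℓ (v (invS IV s)))⁻¹) else 1
  have hσu : ∀ s, σ (u s) = v s := by
    intro s
    by_cases hs : s < g
    · by_cases hp : s < invS IV s
      · simp only [u, if_pos hs, if_pos hp, hℓ]
      · simp only [u, if_pos hs, if_neg hp, map_inv, hℓ, hvinv s hs, inv_inv]
    · simp only [u, if_neg hs, map_one, hvge s hs]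
  let c : ℕ → Γ := fun s => ⁅wprod u (hw s), wprod u (kw s)⁆
  let v' : ℕ → Γ := fun s =>
    if s < g then (if s < invS IV s then c s else (c (invS IV s))⁻¹) else 1
  have hfun : (fun s => σ (u s)) = v := funext hσu
  have hσc : ∀ s < g, s < invS IV s → σ (c s) = v s := by
    intro s hs hp
    show σ ⁅wprod u (hw s), wprod u (kw s)⁆ = v s
    rw [map_commutatorElement, map_wprod, map_wprod, hfun]
    exact (hS s hs hp).symm
  have hpos : ∀ s < g, ¬ s < invS IV s → invS IV s < invS IV (invS IV s) := by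
    intro s hs hp
    rw [(ivK_lt hiv hs hg).2]
    have := hne s hs
    omega
  have hσv' : ∀ s, σ (v' s) = v s := by
    intro s
    by_cases hs : s < g
    · by_cases hp : s < invS IV s
      · simp only [v', if_pos hs, if_pos hp]
        exact hσc s hs hp
      · simp only [v', if_pos hs, if_neg hp, map_inv]
        rw [hσc _ (ivK_lt hiv hs hg).1 (hpos s hs hp), hvinv s hs, inv_inv]
    · simp only [v', if_neg hs, map_one, hvge s hs]
  have hv'inv : ∀ s < g, v' (invS IV s) = (v' s)⁻¹ := by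
    intro s hs
    have ht := (ivK_lt hiv hs hg).1
    have htt := (ivK_lt hiv hs hg).2
    by_cases hp : s < invS IV s
    · have hq : ¬ invS IV s < s := by omega
      simp only [v', if_pos hs, if_pos ht, if_pos hp, htt, if_neg hq]
    · have hq : invS IV s < s := by
        have := hpos s hs hp
        rwa [htt] at this
      simp only [v', if_pos hs, if_pos ht, if_neg hp, htt, if_pos hq, inv_inv]
  have hz : ∀ s, (u s)⁻¹ * v' s ∈ Subgroup.center Γ := by
    intro s
    apply hcen
    rw [MonoidHom.mem_ker, map_mul, map_inv, hσu, hσv', inv_mul_cancel]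
  refine ⟨v', hσv', hv'inv, ?_, ?_⟩
  · intro s hs
    simp only [v', if_neg hs]
  · intro s hs hp
    rw [comm_wprod_central_twist u v' hz]
    simp only [v', if_pos hs, if_pos hp, c]

include σ in
/-- a word which is trivial in the base group is central in the extension -/
theorem wprod_commW_eq_one (hcen : σ.ker ≤ Subgroup.center Γ) (IV : ℕ) (v' : ℕ → Γ)
    (r : List ℕ) (x : ℕ) (hr : wprod (fun s => σ (v' s)) r = 1)
    (h : ∀ s ∈ r, v' (invS IV s) = (v' s)⁻¹) (hx : v' (invS IV x) = (v' x)⁻¹) :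
    wprod v' (commW IV r x) = 1 := by
  rw [wprod_commW v' IV r x h hx, commutatorElement_eq_one_iff_commute]
  have hz : wprod v' r ∈ Subgroup.center Γ := by
    apply hcen
    rw [MonoidHom.mem_ker, map_wprod, hr]
  exact (Subgroup.mem_center_iff.1 hz (v' x)).symm

include σ in
/-- the lifts of generators generate a stem extension -/
theorem closure_lifts (hcen : σ.ker ≤ Subgroup.center Γ) (hder : σ.ker ≤ commutator Γ)
    (g : ℕ) (v' : ℕ → Γ)
    (hgen : ∀ x : G, x ∈ Subgroup.closure {y | ∃ s < g, y = σ (v' s)}) :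
    ∀ γ : Γ, γ ∈ Subgroup.closure {y | ∃ s < g, y = v' s} := by
  set H : Subgroup Γ := Subgroup.closure {y | ∃ s < g, y = v' s} with hH
  have hmap : ∀ x : G, ∃ h ∈ H, σ h = x := by
    intro x
    refine Subgroup.closure_induction (p := fun x _ => ∃ h ∈ H, σ h = x) ?_ ?_ ?_ ?_ (hgen x)
    · rintro y ⟨s, hs, rfl⟩
      exact ⟨v' s, Subgroup.subset_closure ⟨s, hs, rfl⟩, rfl⟩
    · exact ⟨1, H.one_mem, map_one σ⟩
    · rintro x y _ _ ⟨a, ha, rfl⟩ ⟨b, hb, rfl⟩
      exact ⟨a * b, H.mul_mem ha hb, map_mul σ a b⟩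
    · rintro x _ ⟨a, ha, rfl⟩
      exact ⟨a⁻¹, H.inv_mem ha, map_inv σ a⟩
  have hdec : ∀ γ : Γ, ∃ h ∈ H, ∃ z ∈ σ.ker, γ = h * z := by
    intro γ
    obtain ⟨h, hh, e⟩ := hmap (σ γ)
    refine ⟨h, hh, h⁻¹ * γ, ?_, by group⟩
    rw [MonoidHom.mem_ker, map_mul, map_inv, e, inv_mul_cancel]
  have hcomm : commutator Γ ≤ H := by
    rw [commutator_def, Subgroup.commutator_le]
    intro a _ b _
    obtain ⟨h1, hh1, z1, hz1, rfl⟩ := hdec a
    obtain ⟨h2, hh2, z2, hz2, rfl⟩ := hdec b
    rw [comm_mul_central_left (hcen hz1), comm_mul_central_right (hcen hz2)]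
    exact Subgroup.commutator_mem_commutator hh1 hh2 |> fun h =>
      (Subgroup.commutator_le.2 (fun x hx y hy => by
        rw [commutatorElement_def]
        exact H.mul_mem (H.mul_mem (H.mul_mem hx hy) (H.inv_mem hx)) (H.inv_mem hy))) h
  intro γ
  obtain ⟨h, hh, z, hz, rfl⟩ := hdec γ
  exact H.mul_mem hh (hcomm (hder hz))

end Lifts

section Base

/-- the base words of the centralised presentation: the commutator expressions of the letters, the commutators
of the relators with the positive letters, the letters with their inverses, the empty word -/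
def baseOf (IV g : ℕ) (sData : List (ℕ × List ℕ × List ℕ)) (rels : List (List ℕ)) (posL : List ℕ) :
    List (List ℕ) :=
  sData.map (fun p => sW IV p.1 p.2.1 p.2.2) ++ (rels.flatMap (fun r => posL.map (fun x => commW IV r x)) ++
    ((List.range g).map (fun s => [s, invS IV s]) ++ [[]]))

variable {Γ : Type v} [Group Γ]

/-- the base words hold for letters satisfying the commutator expressions for which the relators commute with
the positive letters -/
theorem baseOf_holds (v' : ℕ → Γ) (IV g : ℕ) (hinv : ∀ s < g, v' (invS IV s) = (v' s)⁻¹)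
    (sData : List (ℕ × List ℕ × List ℕ)) (rels : List (List ℕ)) (posL : List ℕ)
    (hSl : ∀ p ∈ sData, p.1 < g ∧ (∀ t ∈ p.2.1, t < g) ∧ (∀ t ∈ p.2.2, t < g))
    (hRl : ∀ r ∈ rels, ∀ t ∈ r, t < g) (hPl : ∀ x ∈ posL, x < g)
    (hS : ∀ p ∈ sData, v' p.1 = ⁅wprod v' p.2.1, wprod v' p.2.2⁆)
    (hC : ∀ r ∈ rels, ∀ x ∈ posL, Commute (wprod v' r) (v' x)) :
    ∀ b ∈ baseOf IV g sData rels posL, wprod v' b = 1 := by
  intro b hb
  unfold baseOf at hb
  rcases List.mem_append.1 hb with hb | hb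
  · obtain ⟨p, hp, rfl⟩ := List.mem_map.1 hb
    obtain ⟨h1, h2, h3⟩ := hSl p hp
    rw [wprod_sW v' IV p.1 p.2.1 p.2.2 (fun t ht => hinv t (h2 t ht)) (fun t ht => hinv t (h3 t ht))
      (hinv _ h1), ← hS p hp, inv_mul_cancel]
  rcases List.mem_append.1 hb with hb | hb
  · obtain ⟨r, hr, hb⟩ := List.mem_flatMap.1 hb
    obtain ⟨x, hx, rfl⟩ := List.mem_map.1 hb
    rw [wprod_commW v' IV r x (fun t ht => hinv t (hRl r hr t ht)) (hinv x (hPl x hx)),
      commutatorElement_eq_one_iff_commute]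
    exact hC r hr x hx
  rcases List.mem_append.1 hb with hb | hb
  · obtain ⟨s, hs, rfl⟩ := List.mem_map.1 hb
    rw [List.mem_range] at hs
    rw [wprod_cons, wprod_cons, wprod_nil, mul_one, hinv s hs, mul_inv_cancel]
  · rw [List.mem_singleton] at hb
    rw [hb, wprod_nil]

/-- a word whose commutators with the positive letters are trivial is central -/
theorem wprod_mem_center (v' : ℕ → Γ) (IV g : ℕ) (hinv : ∀ s < g, v' (invS IV s) = (v' s)⁻¹)
    (hgen : ∀ γ : Γ, γ ∈ Subgroup.closure {y | ∃ x < g, y = v' x}) (posL : List ℕ)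
    (hpos : ∀ s < g, s ∈ posL ∨ invS IV s ∈ posL) (hPl : ∀ x ∈ posL, x < g)
    (r : List ℕ) (hlr : ∀ s ∈ r, s < g)
    (hc : ∀ x ∈ posL, wprod v' (commW IV r x) = 1) : wprod v' r ∈ Subgroup.center Γ := by
  have h1 : ∀ x ∈ posL, Commute (wprod v' r) (v' x) := by
    intro x hx
    have := hc x hx
    rw [wprod_commW v' IV r x (fun t ht => hinv t (hlr t ht)) (hinv x (hPl x hx)),
      commutatorElement_eq_one_iff_commute] at this
    exact this
  have h2 : ∀ s < g, Commute (wprod v' r) (v' s) := by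
    intro s hs
    rcases hpos s hs with h | h
    · exact h1 s h
    · have := h1 _ h
      rw [hinv s hs] at this
      exact Commute.inv_right_iff.1 this
  rw [Subgroup.mem_center_iff]
  intro γ
  refine Subgroup.closure_induction (p := fun γ _ => γ * wprod v' r = wprod v' r * γ) ?_ ?_ ?_ ?_ (hgen γ)
  · rintro y ⟨x, hx, rfl⟩
    exact (h2 x hx).eq.symm
  · rw [one_mul, mul_one]
  · intro x y _ _ hx hy
    rw [mul_assoc, hy, ← mul_assoc, hx, mul_assoc]
  · intro x _ hx
    have : Commute x (wprod v' r) := hx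
    exact this.inv_left.eq

theorem commW_mem_baseOf (IV g : ℕ) (sData : List (ℕ × List ℕ × List ℕ)) (rels : List (List ℕ))
    (posL : List ℕ) {r : List ℕ} (hr : r ∈ rels) {x : ℕ} (hx : x ∈ posL) :
    commW IV r x ∈ baseOf IV g sData rels posL := by
  unfold baseOf
  refine List.mem_append_right _ (List.mem_append_left _ ?_)
  exact List.mem_flatMap.2 ⟨r, hr, List.mem_map.2 ⟨x, hx, rfl⟩⟩

theorem sW_mem_baseOf (IV g : ℕ) (sData : List (ℕ × List ℕ × List ℕ)) (rels : List (List ℕ))
    (posL : List ℕ) {p : ℕ × List ℕ × List ℕ} (hp : p ∈ sData) :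
    sW IV p.1 p.2.1 p.2.2 ∈ baseOf IV g sData rels posL := by
  unfold baseOf
  exact List.mem_append_left _ (List.mem_map.2 ⟨p, hp, rfl⟩)

/-- in a group where the base words hold the letters are the prescribed commutators -/
theorem letter_eq_comm {Γ : Type v} [Group Γ] (v' : ℕ → Γ) (IV g : ℕ)
    (hinv : ∀ s < g, v' (invS IV s) = (v' s)⁻¹)
    (sData : List (ℕ × List ℕ × List ℕ)) (rels : List (List ℕ)) (posL : List ℕ)
    (hSl : ∀ p ∈ sData, p.1 < g ∧ (∀ t ∈ p.2.1, t < g) ∧ (∀ t ∈ p.2.2, t < g))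
    (hbase : ∀ b ∈ baseOf IV g sData rels posL, wprod v' b = 1)
    {p : ℕ × List ℕ × List ℕ} (hp : p ∈ sData) :
    v' p.1 = ⁅wprod v' p.2.1, wprod v' p.2.2⁆ := by
  obtain ⟨h1, h2, h3⟩ := hSl p hp
  have h := hbase _ (sW_mem_baseOf IV g sData rels posL hp)
  rw [wprod_sW v' IV p.1 p.2.1 p.2.2 (fun t ht => hinv t (h2 t ht)) (fun t ht => hinv t (h3 t ht))
    (hinv _ h1)] at h
  exact (inv_mul_eq_one.1 h)

/-- in a group where the base words hold the relators are central -/
theorem rel_mem_center {Γ : Type v} [Group Γ] (v' : ℕ → Γ) (IV g : ℕ)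
    (hinv : ∀ s < g, v' (invS IV s) = (v' s)⁻¹)
    (hgen : ∀ γ : Γ, γ ∈ Subgroup.closure {y | ∃ x < g, y = v' x})
    (sData : List (ℕ × List ℕ × List ℕ)) (rels : List (List ℕ)) (posL : List ℕ)
    (hpos : ∀ s < g, s ∈ posL ∨ invS IV s ∈ posL) (hPl : ∀ x ∈ posL, x < g)
    (hRl : ∀ r ∈ rels, ∀ t ∈ r, t < g)
    (hbase : ∀ b ∈ baseOf IV g sData rels posL, wprod v' b = 1)
    {r : List ℕ} (hr : r ∈ rels) : wprod v' r ∈ Subgroup.center Γ :=
  wprod_mem_center v' IV g hinv hgen posL hpos hPl r (hRl r hr)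
    (fun _ hx => hbase _ (commW_mem_baseOf IV g sData rels posL hr hx))

end Base

end Cfsg.Agent.Lib.Helper3.StemPres
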