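import Mathlib

/-!
A group generated by two elements of order three whose commutator commutes with both has at most 27
elements; and a criterion, in a central extension, for two lifts of root elements to generate such a group
(helper3).
-/

set_option autoImplicit false

namespace Cfsg.Agent.Lib.Helper3.Heis27

open scoped commutatorElement

variable {Q : Type*} [Group Q]

section Card

variable (a b : Q)

/-- the normal form -/
def nf (i j k : ℕ) : Q := a ^ i * b ^ j * ⁅a, b⁆ ^ k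

variable {a b}

theorem nf_mul_b (heb : Commute ⁅a, b⁆ b) (i j k : ℕ) : nf a b i j k * b = nf a b i (j + 1) k := by
  unfold nf
  have h : Commute (⁅a, b⁆ ^ k) b := heb.pow_left k
  rw [mul_assoc, h.eq, ← mul_assoc, pow_succ, mul_assoc (a ^ i)]

theorem b_pow_mul_a (hea : Commute ⁅a, b⁆ a) (heb : Commute ⁅a, b⁆ b) (he3 : ⁅a, b⁆ ^ 3 = 1) (j : ℕ) :
    b ^ j * a = a * b ^ j * ⁅a, b⁆ ^ (2 * j) := by
  have hba : b * a = a * b * ⁅a, b⁆ ^ 2 := by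
    have e1 : ⁅a, b⁆ ^ 2 = ⁅a, b⁆⁻¹ := by
      rw [eq_inv_iff_mul_eq_one, ← pow_succ]
      exact he3
    have e2 : b * a = ⁅a, b⁆⁻¹ * (a * b) := by rw [commutatorElement_def]; group
    have e3 : Commute ⁅a, b⁆⁻¹ (a * b) := hea.inv_left.mul_right heb.inv_left
    rw [e1, e2, e3.eq]
  induction j with
  | zero => simp
  | succ j ih =>
    have h1 : Commute (⁅a, b⁆ ^ 2) (b ^ j) := (heb.pow_left 2).pow_right j
    calc b ^ (j + 1) * a = b * (b ^ j * a) := by rw [pow_succ']; group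
      _ = b * (a * b ^ j * ⁅a, b⁆ ^ (2 * j)) := by rw [ih]
      _ = (b * a) * b ^ j * ⁅a, b⁆ ^ (2 * j) := by group
      _ = a * b * (⁅a, b⁆ ^ 2 * b ^ j) * ⁅a, b⁆ ^ (2 * j) := by rw [hba]; group
      _ = a * b * (b ^ j * ⁅a, b⁆ ^ 2) * ⁅a, b⁆ ^ (2 * j) := by rw [h1.eq]
      _ = a * (b * b ^ j) * (⁅a, b⁆ ^ 2 * ⁅a, b⁆ ^ (2 * j)) := by group
      _ = a * b ^ (j + 1) * ⁅a, b⁆ ^ (2 * (j + 1)) := by
          rw [← pow_succ', ← pow_add]
          congr 2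
          ring

theorem nf_mul_a (hea : Commute ⁅a, b⁆ a) (heb : Commute ⁅a, b⁆ b) (he3 : ⁅a, b⁆ ^ 3 = 1)
    (i j k : ℕ) : nf a b i j k * a = nf a b (i + 1) j (2 * j + k) := by
  unfold nf
  have h : Commute (⁅a, b⁆ ^ k) a := hea.pow_left k
  calc a ^ i * b ^ j * ⁅a, b⁆ ^ k * a = a ^ i * (b ^ j * a) * ⁅a, b⁆ ^ k := by
        rw [mul_assoc, h.eq]; group
    _ = a ^ i * (a * b ^ j * ⁅a, b⁆ ^ (2 * j)) * ⁅a, b⁆ ^ k := by rw [b_pow_mul_a hea heb he3]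
    _ = a ^ (i + 1) * b ^ j * ⁅a, b⁆ ^ (2 * j + k) := by
        rw [pow_succ, pow_add]; group

theorem comm_pow_three (ha : a ^ 3 = 1) (hea : Commute ⁅a, b⁆ a) : ⁅a, b⁆ ^ 3 = 1 := by
  -- a b a⁻¹ = e b, hence a^3 b a^-3 = e^3 b
  have h1 : ∀ n : ℕ, a ^ n * b * (a ^ n)⁻¹ = ⁅a, b⁆ ^ n * b := by
    intro n
    induction n with
    | zero => simp
    | succ n ih =>
      have hc : Commute (⁅a, b⁆ ^ n) a := hea.pow_left n
      calc a ^ (n + 1) * b * (a ^ (n + 1))⁻¹ = a * (a ^ n * b * (a ^ n)⁻¹) * a⁻¹ := by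
            rw [pow_succ']; group
        _ = a * (⁅a, b⁆ ^ n * b) * a⁻¹ := by rw [ih]
        _ = (a * ⁅a, b⁆ ^ n) * b * a⁻¹ := by group
        _ = (⁅a, b⁆ ^ n * a) * b * a⁻¹ := by rw [hc.eq]
        _ = ⁅a, b⁆ ^ n * (a * b * a⁻¹ * b⁻¹) * b := by group
        _ = ⁅a, b⁆ ^ (n + 1) * b := by rw [← commutatorElement_def, pow_succ]
  have h2 := h1 3
  rw [ha, one_mul, inv_one, mul_one] at h2
  exact (mul_eq_right.1 h2.symm)

/-- two elements of order three whose commutator commutes with both generate at most 27 elements -/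
theorem card_closure_le (ha : a ^ 3 = 1) (hb : b ^ 3 = 1) (hea : Commute ⁅a, b⁆ a)
    (heb : Commute ⁅a, b⁆ b) :
    Finite (Subgroup.closure ({a, b} : Set Q)) ∧ Nat.card (Subgroup.closure ({a, b} : Set Q)) ≤ 27 := by
  have he3 := comm_pow_three ha hea
  have hmem : ∀ x ∈ Subgroup.closure ({a, b} : Set Q), ∃ i j k : ℕ, x = nf a b i j k := by
    intro x hx
    refine Subgroup.closure_induction_right (p := fun x _ => ∃ i j k : ℕ, x = nf a b i j k)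
      ⟨0, 0, 0, by simp [nf]⟩ ?_ ?_ hx
    · rintro x _ y hy ⟨i, j, k, rfl⟩
      rcases hy with rfl | hy
      · exact ⟨_, _, _, nf_mul_a hea heb he3 i j k⟩
      · rw [Set.mem_singleton_iff] at hy
        subst hy
        exact ⟨_, _, _, nf_mul_b heb i j k⟩
    · rintro x _ y hy ⟨i, j, k, rfl⟩
      rcases hy with rfl | hy
      · have e : y⁻¹ = y * y := by
          rw [inv_eq_iff_mul_eq_one, ← pow_two, ← pow_succ']
          exact ha
        rw [e, ← mul_assoc, nf_mul_a hea heb he3, nf_mul_a hea heb he3]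
        exact ⟨_, _, _, rfl⟩
      · rw [Set.mem_singleton_iff] at hy
        subst hy
        have e : y⁻¹ = y * y := by
          rw [inv_eq_iff_mul_eq_one, ← pow_two, ← pow_succ']
          exact hb
        rw [e, ← mul_assoc, nf_mul_b heb, nf_mul_b heb]
        exact ⟨_, _, _, rfl⟩
  have hmem' : ∀ i j k : ℕ, nf a b i j k ∈ Subgroup.closure ({a, b} : Set Q) := by
    intro i j k
    have h1 : a ∈ Subgroup.closure ({a, b} : Set Q) := Subgroup.subset_closure (by simp)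
    have h2 : b ∈ Subgroup.closure ({a, b} : Set Q) := Subgroup.subset_closure (by simp)
    unfold nf
    refine Subgroup.mul_mem _ (Subgroup.mul_mem _ (Subgroup.pow_mem _ h1 i) (Subgroup.pow_mem _ h2 j)) ?_
    apply Subgroup.pow_mem
    rw [commutatorElement_def]
    exact Subgroup.mul_mem _ (Subgroup.mul_mem _ (Subgroup.mul_mem _ h1 h2) (Subgroup.inv_mem _ h1))
      (Subgroup.inv_mem _ h2)
  let f : Fin 3 × Fin 3 × Fin 3 → Subgroup.closure ({a, b} : Set Q) :=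
    fun p => ⟨nf a b p.1 p.2.1 p.2.2, hmem' _ _ _⟩
  have hf : Function.Surjective f := by
    rintro ⟨x, hx⟩
    obtain ⟨i, j, k, rfl⟩ := hmem x hx
    refine ⟨(⟨i % 3, Nat.mod_lt _ (by norm_num)⟩, ⟨j % 3, Nat.mod_lt _ (by norm_num)⟩,
      ⟨k % 3, Nat.mod_lt _ (by norm_num)⟩), ?_⟩
    apply Subtype.ext
    show nf a b (i % 3) (j % 3) (k % 3) = nf a b i j k
    unfold nf
    rw [← pow_eq_pow_mod i ha, ← pow_eq_pow_mod j hb, ← pow_eq_pow_mod k he3]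
  refine ⟨Finite.of_surjective f hf, ?_⟩
  have := Nat.card_le_card_of_surjective f hf
  simpa [Nat.card_prod] using this

end Card

section Central

variable {a b h1 h2 ε : Q}

theorem comm_inv_right_of_central {x y : Q} (hc : ⁅x, y⁆ ∈ Subgroup.center Q) :
    ⁅x, y⁻¹⁆ = ⁅x, y⁆⁻¹ := by
  have h : x * y * x⁻¹ = ⁅x, y⁆ * y := by rw [commutatorElement_def]; group
  have h' : x * y⁻¹ * x⁻¹ = y⁻¹ * ⁅x, y⁆⁻¹ := by
    have : x * y⁻¹ * x⁻¹ = (x * y * x⁻¹)⁻¹ := by group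
    rw [this, h, mul_inv_rev]
  have hz : ⁅x, y⁆⁻¹ ∈ Subgroup.center Q := Subgroup.inv_mem _ hc
  calc ⁅x, y⁻¹⁆ = x * y⁻¹ * x⁻¹ * y := by rw [commutatorElement_def, inv_inv]
    _ = y⁻¹ * ⁅x, y⁆⁻¹ * y := by rw [h']
    _ = y⁻¹ * (⁅x, y⁆⁻¹ * y) := by group
    _ = y⁻¹ * (y * ⁅x, y⁆⁻¹) := by rw [← (Subgroup.mem_center_iff.1 hz y)]
    _ = ⁅x, y⁆⁻¹ := by group

theorem comm_pow_left_of_central' {x y : Q} (hc : ⁅x, y⁆ ∈ Subgroup.center Q) (n : ℕ) :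
    ⁅x ^ n, y⁆ = ⁅x, y⁆ ^ n := by
  induction n with
  | zero => simp
  | succ n ih =>
    have hz := Subgroup.mem_center_iff.1 hc
    calc ⁅x ^ (n + 1), y⁆ = x ^ n * ⁅x, y⁆ * (x ^ n)⁻¹ * ⁅x ^ n, y⁆ := by
          rw [commutatorElement_def, commutatorElement_def, commutatorElement_def, pow_succ]; group
      _ = ⁅x, y⁆ * x ^ n * (x ^ n)⁻¹ * ⁅x ^ n, y⁆ := by rw [hz (x ^ n)]
      _ = ⁅x, y⁆ ^ (n + 1) := by rw [ih, pow_succ']; group

/-- an element of order dividing three which is central and equal to its inverse is trivial -/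
theorem eq_one_of_sq_cube {z : Q} (h2 : z = z⁻¹) (h3 : z ^ 3 = 1) : z = 1 := by
  have h4 : z ^ 2 = 1 := by
    rw [pow_two]
    nth_rewrite 2 [h2]
    exact mul_inv_cancel z
  have : z ^ 3 = z ^ 2 * z := pow_succ z 2
  rw [this, h4, one_mul] at h3
  exact h3

/-- the commutator with `ε` vanishes: `x` of order three, `h` centralises `x` and inverts `ε` modulo
the centre -/
theorem comm_eq_one_of_inverted {x h ε : Q} (hx : x ^ 3 = 1) (c1 : ⁅x, ε⁆ ∈ Subgroup.center Q)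
    (c3 : ⁅h, x⁆ ∈ Subgroup.center Q) (c4 : h * ε * h⁻¹ * ε ∈ Subgroup.center Q) : ⁅x, ε⁆ = 1 := by
  have h3 : ⁅x, ε⁆ ^ 3 = 1 := by
    rw [← comm_pow_left_of_central' c1, hx, commutatorElement_one_left]
  apply eq_one_of_sq_cube _ h3
  -- conjugate by h
  have hconj : h * ⁅x, ε⁆ * h⁻¹ = ⁅h * x * h⁻¹, h * ε * h⁻¹⁆ := by
    rw [commutatorElement_def, commutatorElement_def]; group
  have e1 : h * x * h⁻¹ = x * ⁅h, x⁆ := by
    have : h * x * h⁻¹ = ⁅h, x⁆ * x := by rw [commutatorElement_def]; group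
    rw [this, ← Subgroup.mem_center_iff.1 c3 x]
  have e2 : h * ε * h⁻¹ = ε⁻¹ * (h * ε * h⁻¹ * ε) := by
    have : h * ε * h⁻¹ = (h * ε * h⁻¹ * ε) * ε⁻¹ := by group
    rw [Subgroup.mem_center_iff.1 c4 ε⁻¹]
    exact this
  have hz : h * ⁅x, ε⁆ * h⁻¹ = ⁅x, ε⁆ := by
    rw [Subgroup.mem_center_iff.1 c1 h]; group
  rw [hz, e1, e2] at hconj
  -- central factors drop out
  have d1 : ⁅x * ⁅h, x⁆, ε⁻¹ * (h * ε * h⁻¹ * ε)⁆ = ⁅x, ε⁻¹⁆ := by
    have hzc := Subgroup.mem_center_iff.1 c3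
    have hzd := Subgroup.mem_center_iff.1 c4
    rw [commutatorElement_def, commutatorElement_def]
    calc x * ⁅h, x⁆ * (ε⁻¹ * (h * ε * h⁻¹ * ε)) * (x * ⁅h, x⁆)⁻¹ * (ε⁻¹ * (h * ε * h⁻¹ * ε))⁻¹
        = x * (⁅h, x⁆ * ε⁻¹) * ((h * ε * h⁻¹ * ε) * ⁅h, x⁆⁻¹) * x⁻¹ * (h * ε * h⁻¹ * ε)⁻¹ * ε := by
          group
      _ = x * (ε⁻¹ * ⁅h, x⁆) * (⁅h, x⁆⁻¹ * (h * ε * h⁻¹ * ε)) * x⁻¹ * (h * ε * h⁻¹ * ε)⁻¹ * ε := by
          rw [hzc ε⁻¹, hzd ⁅h, x⁆⁻¹]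
      _ = x * ε⁻¹ * ((h * ε * h⁻¹ * ε) * x⁻¹) * (h * ε * h⁻¹ * ε)⁻¹ * ε := by group
      _ = x * ε⁻¹ * (x⁻¹ * (h * ε * h⁻¹ * ε)) * (h * ε * h⁻¹ * ε)⁻¹ * ε := by rw [hzd x⁻¹]
      _ = x * ε⁻¹ * x⁻¹ * ε⁻¹⁻¹ := by group
  rw [d1, comm_inv_right_of_central c1] at hconj
  exact hconj

/-- from the central relators to the hypotheses of `card_closure_le` -/
theorem heis_of_central (hSa : a = ⁅h2, a⁆) (hSb : b = ⁅h1, b⁆)
    (ca : a ^ 3 ∈ Subgroup.center Q) (cb : b ^ 3 ∈ Subgroup.center Q)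
    (c0 : ∃ z ∈ Subgroup.center Q, ∃ n : ℤ, ⁅a, b⁆ = z * ε ^ n)
    (c1 : ⁅a, ε⁆ ∈ Subgroup.center Q) (c2 : ⁅b, ε⁆ ∈ Subgroup.center Q)
    (c3 : ⁅h1, a⁆ ∈ Subgroup.center Q) (c4 : h1 * ε * h1⁻¹ * ε ∈ Subgroup.center Q)
    (c5 : ⁅h2, b⁆ ∈ Subgroup.center Q) (c6 : h2 * ε * h2⁻¹ * ε ∈ Subgroup.center Q) :
    a ^ 3 = 1 ∧ b ^ 3 = 1 ∧ Commute ⁅a, b⁆ a ∧ Commute ⁅a, b⁆ b := by
  have cube : ∀ {x h : Q}, x = ⁅h, x⁆ → x ^ 3 ∈ Subgroup.center Q → x ^ 3 = 1 := by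
    intro x h hS hc
    have e1 : h * x * h⁻¹ = x ^ 2 := by
      have : h * x * h⁻¹ = ⁅h, x⁆ * x := by rw [commutatorElement_def]; group
      rw [this, ← hS, pow_two]
    have e2 : h * x ^ 3 * h⁻¹ = x ^ 3 := by
      rw [Subgroup.mem_center_iff.1 hc h]; group
    have e3 : h * x ^ 3 * h⁻¹ = (h * x * h⁻¹) ^ 3 := by
      rw [pow_succ, pow_two, pow_succ, pow_two]; group
    rw [e3, e1, ← pow_mul] at e2
    have e4 : x ^ (2 * 3) = x ^ 3 * x ^ 3 := by rw [← pow_add]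
    rw [e4] at e2
    exact mul_eq_left.1 e2
  have ha := cube hSa ca
  have hb := cube hSb cb
  have z1 : ⁅a, ε⁆ = 1 := comm_eq_one_of_inverted ha c1 c3 c4
  have z2 : ⁅b, ε⁆ = 1 := comm_eq_one_of_inverted hb c2 c5 c6
  have k1 : Commute a ε := (commutatorElement_eq_one_iff_commute.1 z1)
  have k2 : Commute b ε := (commutatorElement_eq_one_iff_commute.1 z2)
  obtain ⟨z, hz, n, hn⟩ := c0
  refine ⟨ha, hb, ?_, ?_⟩
  · rw [hn]
    have h1' : Commute z a := (Subgroup.mem_center_iff.1 hz a).symm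
    exact h1'.mul_left ((k1.symm).zpow_left n)
  · rw [hn]
    have h1' : Commute z b := (Subgroup.mem_center_iff.1 hz b).symm
    exact h1'.mul_left ((k2.symm).zpow_left n)

end Central

end Cfsg.Agent.Lib.Helper3.Heis27
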