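import Cfsg.Agent.Lib.helper23.PgB
import Cfsg.Agent.Lib.Helper12.TC.Core

/-!
Words of permutations given by lookup functions (helper23's `PFun`), as valuations of numbered letters in the
sense of helper12's coset enumeration certificates (helper3).
-/

set_option autoImplicit false

namespace Cfsg.Agent.Lib.Helper3.PgWords

open Cfsg.Agent.Lib.helper23 Cfsg.Agent.Lib.Helper12.TC

variable {n : ℕ} {gs : List PFun}

theorem wordPerm_nil : pgWordPerm n gs [] = 1 := rfl

theorem wordPerm_eq_of_eval (hgs : ∀ P ∈ gs, P.ok n = true) (w1 w2 : List ℕ)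
    (h : pgAll n (fun p => Nat.beq (pgEvalW gs w1 p) (pgEvalW gs w2 p)) = true) :
    pgWordPerm n gs w1 = pgWordPerm n gs w2 := by
  ext p
  rw [pgWordPerm_apply hgs, pgWordPerm_apply hgs]
  exact Nat.eq_of_beq_eq_true ((pgAll_iff _ _).1 h p.1 p.2)

theorem wordPerm_eq_one_of_eval (hgs : ∀ P ∈ gs, P.ok n = true) (w : List ℕ)
    (h : pgAll n (fun p => Nat.beq (pgEvalW gs w p) p) = true) : pgWordPerm n gs w = 1 := by
  ext p
  rw [pgWordPerm_apply hgs]
  exact Nat.eq_of_beq_eq_true ((pgAll_iff _ _).1 h p.1 p.2)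

theorem wordPerm_ne_one_of_eval (hgs : ∀ P ∈ gs, P.ok n = true) (w : List ℕ) (p : ℕ) (hp : p < n)
    (h : Nat.beq (pgEvalW gs w p) p = false) : pgWordPerm n gs w ≠ 1 := by
  intro e
  have h1 := pgWordPerm_apply hgs w ⟨p, hp⟩
  rw [e] at h1
  have h2 : pgEvalW gs w p = p := h1.symm
  rw [h2, Nat.beq_refl] at h
  exact absurd h (by decide)

/-- the inverse of a letter -/
theorem wordPerm_inv_letter (hgs : ∀ P ∈ gs, P.ok n = true) (j : ℕ) (hj : j < gs.length) :
    pgWordPerm n gs [j + gs.length] = (pgWordPerm n gs [j])⁻¹ := by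
  unfold pgWordPerm
  simp only [List.map_cons, List.map_nil, List.prod_cons, List.prod_nil, mul_one]
  have h1 : pgLetter gs (j + gs.length) = (gs.getD j PFun.one).swap := by
    unfold pgLetter
    have : Nat.blt (j + gs.length) gs.length = false := by
      cases h : Nat.blt (j + gs.length) gs.length
      · rfl
      · have := Nat.le_of_ble_eq_true h
        omega
    rw [this]
    simp
  have h2 : pgLetter gs j = gs.getD j PFun.one := by
    unfold pgLetter
    have : Nat.blt j gs.length = true := Nat.ble_eq_true_of_le hj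
    rw [this]
    rfl
  rw [h1, h2, PFun.swap_perm (pgGetD_ok hgs j)]

/-- the valuation of the letters `s < 2 * m`: the letter `2 k` is the generator `k`, the letter `2 k + 1` its
inverse; the other letters are trivial -/
def lmap (m s : ℕ) : ℕ := if s % 2 = 0 then s / 2 else s / 2 + m

/-- the valuation through a table `tab` of the generator numbers -/
def pv (n : ℕ) (gs : List PFun) (tab : List ℕ) (s : ℕ) : Equiv.Perm (Fin n) :=
  if s < tab.length then pgWordPerm n gs [tab.getD s 0] else 1

theorem wprod_pv (n : ℕ) (gs : List PFun) (tab : List ℕ) (w : List ℕ) (hw : ∀ s ∈ w, s < tab.length) :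
    wprod (pv n gs tab) w = pgWordPerm n gs (w.map fun s => tab.getD s 0) := by
  induction w with
  | nil => rfl
  | cons s w ih =>
    rw [wprod_cons, ih (fun t ht => hw t (List.mem_cons_of_mem _ ht)), List.map_cons]
    have : pv n gs tab s = pgWordPerm n gs [tab.getD s 0] := by
      unfold pv
      rw [if_pos (hw s List.mem_cons_self)]
    rw [this, ← pgWordPerm_append]
    rfl

theorem pv_mem (hgs : ∀ P ∈ gs, P.ok n = true) (tab : List ℕ) (s : ℕ) :
    pv n gs tab s ∈ Subgroup.closure (pgSet n gs) := by
  unfold pv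
  split_ifs
  · exact pgWordPerm_mem hgs _
  · exact Subgroup.one_mem _

end Cfsg.Agent.Lib.Helper3.PgWords
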