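import Cfsg.Agent.Lib.helper3.G23CoverData
import Cfsg.Agent.Lib.helper3.PgWords
import Cfsg.Agent.Lib.helper3.G23TC.PresA

/-!
The centralised presentation of the Chevalley group of type `G₂` over the field with three elements acts on
2268 points, and there the central word `zW` has order three (helper3).
-/

set_option autoImplicit false
set_option maxRecDepth 100000

namespace Cfsg.Agent.Lib.Helper3.G23Mult

open Cfsg.Agent.Lib.helper23 Cfsg.Agent.Lib.Helper12.TC Cfsg.Agent.Lib.Helper12.TCG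
open Cfsg.Agent.Lib.Helper3.PgWords Cfsg.Agent.Lib.Helper3.StemPres Cfsg.Agent.Lib.Helper3.G23TC
open scoped commutatorElement

theorem gsC_chk : pgAllL gsC (fun P => P.ok 2268) = true := by decide +kernel

theorem gsC_ok : ∀ P ∈ gsC, P.ok 2268 = true := (pgAllL_iff _ _).1 gsC_chk

/-- the generator numbers of the letters, the inverses being numbered from 6 on -/
def tabC : List ℕ := [0, 6, 1, 7, 2, 8, 3, 9, 4, 10, 5, 11]

/-- the letters as permutations of the 2268 points -/
def pvC : ℕ → Equiv.Perm (Fin 2268) := pv 2268 gsC tabC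

theorem tabC_length : tabC.length = 12 := rfl

theorem gsC_length : gsC.length = 6 := rfl

theorem wprod_pvC (w : List ℕ) (hw : ∀ s ∈ w, s < 12) :
    wprod pvC w = pgWordPerm 2268 gsC (w.map fun s => tabC.getD s 0) :=
  wprod_pv 2268 gsC tabC w hw

theorem pvC_ge (s : ℕ) (hs : ¬ s < 12) : pvC s = 1 := by
  unfold pvC pv
  rw [tabC_length, if_neg hs]

theorem inv_letterC (j : ℕ) (hj : j < 6) :
    pgWordPerm 2268 gsC [j + 6] = (pgWordPerm 2268 gsC [j])⁻¹ := by
  have h := wordPerm_inv_letter gsC_ok j (by rw [gsC_length]; exact hj)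
  rwa [gsC_length] at h

theorem pvC_inv : ∀ s < 12, pvC (invS A.cIV s) = (pvC s)⁻¹ := by
  intro s hs
  have hp : ∀ t < 12, pvC t = pgWordPerm 2268 gsC [tabC.getD t 0] := by
    intro t ht
    unfold pvC pv
    rw [tabC_length, if_pos ht]
  interval_cases s
  · show pvC 1 = (pvC 0)⁻¹
    rw [hp 1 (by decide), hp 0 (by decide)]; exact inv_letterC 0 (by decide)
  · show pvC 0 = (pvC 1)⁻¹
    rw [hp 1 (by decide), hp 0 (by decide)]
    show pgWordPerm 2268 gsC [0] = (pgWordPerm 2268 gsC [0 + 6])⁻¹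
    rw [inv_letterC 0 (by decide), inv_inv]
  · show pvC 3 = (pvC 2)⁻¹
    rw [hp 3 (by decide), hp 2 (by decide)]; exact inv_letterC 1 (by decide)
  · show pvC 2 = (pvC 3)⁻¹
    rw [hp 3 (by decide), hp 2 (by decide)]
    show pgWordPerm 2268 gsC [1] = (pgWordPerm 2268 gsC [1 + 6])⁻¹
    rw [inv_letterC 1 (by decide), inv_inv]
  · show pvC 5 = (pvC 4)⁻¹
    rw [hp 5 (by decide), hp 4 (by decide)]; exact inv_letterC 2 (by decide)
  · show pvC 4 = (pvC 5)⁻¹
    rw [hp 5 (by decide), hp 4 (by decide)]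
    show pgWordPerm 2268 gsC [2] = (pgWordPerm 2268 gsC [2 + 6])⁻¹
    rw [inv_letterC 2 (by decide), inv_inv]
  · show pvC 7 = (pvC 6)⁻¹
    rw [hp 7 (by decide), hp 6 (by decide)]; exact inv_letterC 3 (by decide)
  · show pvC 6 = (pvC 7)⁻¹
    rw [hp 7 (by decide), hp 6 (by decide)]
    show pgWordPerm 2268 gsC [3] = (pgWordPerm 2268 gsC [3 + 6])⁻¹
    rw [inv_letterC 3 (by decide), inv_inv]
  · show pvC 9 = (pvC 8)⁻¹
    rw [hp 9 (by decide), hp 8 (by decide)]; exact inv_letterC 4 (by decide)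
  · show pvC 8 = (pvC 9)⁻¹
    rw [hp 9 (by decide), hp 8 (by decide)]
    show pgWordPerm 2268 gsC [4] = (pgWordPerm 2268 gsC [4 + 6])⁻¹
    rw [inv_letterC 4 (by decide), inv_inv]
  · show pvC 11 = (pvC 10)⁻¹
    rw [hp 11 (by decide), hp 10 (by decide)]; exact inv_letterC 5 (by decide)
  · show pvC 10 = (pvC 11)⁻¹
    rw [hp 11 (by decide), hp 10 (by decide)]
    show pgWordPerm 2268 gsC [5] = (pgWordPerm 2268 gsC [5 + 6])⁻¹
    rw [inv_letterC 5 (by decide), inv_inv]

/-! ### the checks -/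

/-- the image of a point under a word in the letters -/
def evC (w : List ℕ) (p : ℕ) : ℕ := pgEvalW gsC (w.map fun s => tabC.getD s 0) p

/-- two words agree on all points -/
def eqC (w1 w2 : List ℕ) : Bool := pgAll 2268 (fun p => Nat.beq (evC w1 p) (evC w2 p))

theorem eqC_sound (w1 w2 : List ℕ) (h1 : ∀ s ∈ w1, s < 12) (h2 : ∀ s ∈ w2, s < 12)
    (h : eqC w1 w2 = true) : wprod pvC w1 = wprod pvC w2 := by
  rw [wprod_pvC w1 h1, wprod_pvC w2 h2]
  exact wordPerm_eq_of_eval gsC_ok _ _ h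

theorem zW_lt : ∀ s ∈ zW, s < 12 := by decide

theorem sC_chk : pgAllL (A.sData.map fun p => sW A.cIV p.1 p.2.1 p.2.2) (fun w => eqC w []) = true := by
  decide +kernel

/-- a relator is a power of the central word -/
def relOK (r : List ℕ) : Bool := eqC r [] || (eqC r zW || eqC r (zW ++ zW))

theorem relsC_chk : pgAllL A.rels relOK = true := by decide +kernel

theorem zC_chk : pgAllL A.posL (fun x => eqC (zW ++ [x]) (x :: zW)) = true := by decide +kernel

theorem zC_ne1 : Nat.beq (evC zW cP0) cP0 = false := by decide +kernel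

theorem zC_ne2 : Nat.beq (evC (zW ++ zW) cP0) cP0 = false := by decide +kernel

/-- the central permutation -/
def zC : Equiv.Perm (Fin 2268) := wprod pvC zW

theorem zC_comm : ∀ x ∈ A.posL, Commute zC (pvC x) := by
  intro x hx
  have hx12 := A.hPl x hx
  have h := eqC_sound (zW ++ [x]) (x :: zW)
    (by
      intro s hs
      rcases List.mem_append.1 hs with h | h
      · exact zW_lt s h
      · rw [List.mem_singleton] at h; rw [h]; exact hx12)
    (by
      intro s hs
      rcases List.mem_cons.1 hs with h | h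
      · rw [h]; exact hx12
      · exact zW_lt s h)
    ((pgAllL_iff _ _).1 zC_chk x hx)
  rw [wprod_append, wprod_cons, wprod_cons, wprod_nil, mul_one] at h
  exact h

theorem relsC : ∀ r ∈ A.rels, wprod pvC r = 1 ∨ wprod pvC r = zC ∨ wprod pvC r = zC * zC := by
  intro r hr
  have hr12 := A.hRl r hr
  have h := (pgAllL_iff _ _).1 relsC_chk r hr
  unfold relOK at h
  rw [Bool.or_eq_true, Bool.or_eq_true] at h
  rcases h with h | h | h
  · left
    have := eqC_sound r [] hr12 (by intro s hs; exact absurd hs List.not_mem_nil) h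
    rwa [wprod_nil] at this
  · right; left
    exact eqC_sound r zW hr12 zW_lt h
  · right; right
    have := eqC_sound r (zW ++ zW) hr12
      (by intro s hs; rcases List.mem_append.1 hs with h | h <;> exact zW_lt s h) h
    rwa [wprod_append] at this

theorem hCC : ∀ r ∈ A.rels, ∀ x ∈ A.posL, Commute (wprod pvC r) (pvC x) := by
  intro r hr x hx
  have hz := zC_comm x hx
  rcases relsC r hr with h | h | h
  · rw [h]; exact Commute.one_left _
  · rw [h]; exact hz
  · rw [h]; exact hz.mul_left hz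

theorem sC : ∀ p ∈ A.sData, pvC p.1 = ⁅wprod pvC p.2.1, wprod pvC p.2.2⁆ := by
  intro p hp
  obtain ⟨h1, h2, h3⟩ := A.hSl p hp
  have hw : ∀ s ∈ sW A.cIV p.1 p.2.1 p.2.2, s < 12 := by
    have hmem : sW A.cIV p.1 p.2.1 p.2.2 ∈ A.baseL := by
      rw [A.baseL_eq]
      exact sW_mem_baseOf A.cIV 12 A.sData A.rels A.posL hp
    intro s hs
    exact lettersK_lt A.hlet hmem hs
  have h := eqC_sound _ [] hw (by intro s hs; exact absurd hs List.not_mem_nil)
    ((pgAllL_iff _ _).1 sC_chk _ (List.mem_map.2 ⟨p, hp, rfl⟩))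
  rw [wprod_nil, wprod_sW pvC A.cIV p.1 p.2.1 p.2.2 (fun t ht => pvC_inv t (h2 t ht))
    (fun t ht => pvC_inv t (h3 t ht)) (pvC_inv _ h1)] at h
  exact inv_mul_eq_one.1 h

theorem baseC : ∀ b ∈ A.baseL, wprod pvC b = 1 := by
  rw [A.baseL_eq]
  exact baseOf_holds pvC A.cIV 12 pvC_inv A.sData A.rels A.posL A.hSl A.hRl A.hPl sC hCC

/-- the action of the presented group on the 2268 points -/
theorem exists_homC : ∃ ρ : A.Grp →* Equiv.Perm (Fin 2268), ∀ x < 12, ρ (A.v x) = pvC x :=
  WPres.hlift 12 A.baseL A.hlet pvC baseC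

/-- the central element of the presented group -/
def zQ : A.Grp := wprod A.v zW

theorem map_wprod_lt {K : Type*} [Group K] (ρ : A.Grp →* K) (f : ℕ → K) (h : ∀ x < 12, ρ (A.v x) = f x)
    (w : List ℕ) (hw : ∀ s ∈ w, s < 12) : ρ (wprod A.v w) = wprod f w := by
  induction w with
  | nil => rw [wprod_nil, wprod_nil, map_one]
  | cons s w ih =>
    rw [wprod_cons, wprod_cons, map_mul, ih (fun t ht => hw t (List.mem_cons_of_mem _ ht)),
      h s (hw s List.mem_cons_self)]

theorem zC_ne_one : zC ≠ 1 := by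
  unfold zC
  rw [wprod_pvC zW zW_lt]
  exact wordPerm_ne_one_of_eval gsC_ok _ cP0 (by decide) zC_ne1

theorem zC_sq_ne_one : zC * zC ≠ 1 := by
  unfold zC
  rw [← wprod_append, wprod_pvC (zW ++ zW)
    (by intro s hs; rcases List.mem_append.1 hs with h | h <;> exact zW_lt s h)]
  exact wordPerm_ne_one_of_eval gsC_ok _ cP0 (by decide) zC_ne2

theorem zQ_ne_one : zQ ≠ 1 := by
  obtain ⟨ρ, hρ⟩ := exists_homC
  intro h
  have := map_wprod_lt ρ pvC hρ zW zW_lt
  rw [show wprod A.v zW = zQ from rfl, h, map_one] at this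
  exact zC_ne_one this.symm

theorem zQ_sq_ne_one : zQ * zQ ≠ 1 := by
  obtain ⟨ρ, hρ⟩ := exists_homC
  intro h
  have := map_wprod_lt ρ pvC hρ zW zW_lt
  have h2 : ρ (zQ * zQ) = zC * zC := by
    rw [map_mul]; unfold zQ zC; rw [this]
  rw [h, map_one] at h2
  exact zC_sq_ne_one h2.symm

end Cfsg.Agent.Lib.Helper3.G23Mult
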