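import Cfsg.Agent.Lib.helper23.G23Main
import Cfsg.Agent.Lib.helper3.PgWords
import Cfsg.Agent.Lib.helper3.G23TC.A.Struct

/-!
The six root elements `A`, `C`, `B`, `D`, `x`, `y` in helper23's permutation group of degree 364 (the Chevalley
group of type `G₂` over the field with three elements): they generate the group, they are commutators as
prescribed, and the relators of the presentation hold (helper3).
-/

set_option autoImplicit false
set_option maxRecDepth 100000

namespace Cfsg.Agent.Lib.Helper3.G23Mult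

open Cfsg.Agent.Lib.helper23 Cfsg.Agent.Lib.Helper12.TC Cfsg.Agent.Lib.Helper12.TCG
open Cfsg.Agent.Lib.Helper3.PgWords Cfsg.Agent.Lib.Helper3.StemPres Cfsg.Agent.Lib.Helper3.G23TC
open scoped commutatorElement

/-- the generator numbers of the letters: roots `6, 5, 10, 1, 7, 4`, the inverses being numbered from 12 on -/
def tabG : List ℕ := [6, 18, 5, 17, 10, 22, 1, 13, 7, 19, 4, 16]

/-- the letters as permutations of the 364 points -/
def pvG : ℕ → Equiv.Perm (Fin 364) := pv 364 g23L1.own tabG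

theorem P364_eq : P364 = Subgroup.closure (pgSet 364 g23L1.own) := rfl

theorem pvG_mem (s : ℕ) : pvG s ∈ P364 := by
  rw [P364_eq]; exact pv_mem g23ok tabG s

theorem wprod_pvG (w : List ℕ) (hw : ∀ s ∈ w, s < 12) :
    wprod pvG w = pgWordPerm 364 g23L1.own (w.map fun s => tabG.getD s 0) :=
  wprod_pv 364 g23L1.own tabG w hw

theorem tabG_length : tabG.length = 12 := rfl

theorem pvG_ge (s : ℕ) (hs : ¬ s < 12) : pvG s = 1 := by
  unfold pvG pv
  rw [tabG_length, if_neg hs]

theorem own_length : g23L1.own.length = 12 := by rw [g23own]; rfl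

theorem inv_letter (j : ℕ) (hj : j < 12) :
    pgWordPerm 364 g23L1.own [j + 12] = (pgWordPerm 364 g23L1.own [j])⁻¹ := by
  have h := wordPerm_inv_letter g23ok j (by rw [own_length]; exact hj)
  rwa [own_length] at h

theorem pvG_inv : ∀ s < 12, pvG (invS A.cIV s) = (pvG s)⁻¹ := by
  intro s hs
  have hp : ∀ t < 12, pvG t = pgWordPerm 364 g23L1.own [tabG.getD t 0] := by
    intro t ht
    unfold pvG pv
    rw [tabG_length, if_pos ht]
  interval_cases s
  · show pvG 1 = (pvG 0)⁻¹
    rw [hp 1 (by decide), hp 0 (by decide)]; exact inv_letter 6 (by decide)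
  · show pvG 0 = (pvG 1)⁻¹
    rw [hp 1 (by decide), hp 0 (by decide)]
    show pgWordPerm 364 g23L1.own [6] = (pgWordPerm 364 g23L1.own [6 + 12])⁻¹
    rw [inv_letter 6 (by decide), inv_inv]
  · show pvG 3 = (pvG 2)⁻¹
    rw [hp 3 (by decide), hp 2 (by decide)]; exact inv_letter 5 (by decide)
  · show pvG 2 = (pvG 3)⁻¹
    rw [hp 3 (by decide), hp 2 (by decide)]
    show pgWordPerm 364 g23L1.own [5] = (pgWordPerm 364 g23L1.own [5 + 12])⁻¹
    rw [inv_letter 5 (by decide), inv_inv]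
  · show pvG 5 = (pvG 4)⁻¹
    rw [hp 5 (by decide), hp 4 (by decide)]; exact inv_letter 10 (by decide)
  · show pvG 4 = (pvG 5)⁻¹
    rw [hp 5 (by decide), hp 4 (by decide)]
    show pgWordPerm 364 g23L1.own [10] = (pgWordPerm 364 g23L1.own [10 + 12])⁻¹
    rw [inv_letter 10 (by decide), inv_inv]
  · show pvG 7 = (pvG 6)⁻¹
    rw [hp 7 (by decide), hp 6 (by decide)]; exact inv_letter 1 (by decide)
  · show pvG 6 = (pvG 7)⁻¹
    rw [hp 7 (by decide), hp 6 (by decide)]
    show pgWordPerm 364 g23L1.own [1] = (pgWordPerm 364 g23L1.own [1 + 12])⁻¹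
    rw [inv_letter 1 (by decide), inv_inv]
  · show pvG 9 = (pvG 8)⁻¹
    rw [hp 9 (by decide), hp 8 (by decide)]; exact inv_letter 7 (by decide)
  · show pvG 8 = (pvG 9)⁻¹
    rw [hp 9 (by decide), hp 8 (by decide)]
    show pgWordPerm 364 g23L1.own [7] = (pgWordPerm 364 g23L1.own [7 + 12])⁻¹
    rw [inv_letter 7 (by decide), inv_inv]
  · show pvG 11 = (pvG 10)⁻¹
    rw [hp 11 (by decide), hp 10 (by decide)]; exact inv_letter 4 (by decide)
  · show pvG 10 = (pvG 11)⁻¹
    rw [hp 11 (by decide), hp 10 (by decide)]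
    show pgWordPerm 364 g23L1.own [4] = (pgWordPerm 364 g23L1.own [4 + 12])⁻¹
    rw [inv_letter 4 (by decide), inv_inv]

/-! ### the checks -/

/-- a word is trivial on all points -/
def trivG (w : List ℕ) : Bool :=
  pgAll 364 (fun p => Nat.beq (pgEvalW g23L1.own (w.map fun s => tabG.getD s 0) p) p)

theorem wprod_pvG_eq_one (w : List ℕ) (hw : ∀ s ∈ w, s < 12) (h : trivG w = true) : wprod pvG w = 1 := by
  rw [wprod_pvG w hw]
  exact wordPerm_eq_one_of_eval g23ok _ h

theorem relsG_chk : pgAllL A.rels trivG = true := by decide +kernel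

theorem sG_chk : pgAllL (A.sData.map fun p => sW A.cIV p.1 p.2.1 p.2.2) trivG = true := by decide +kernel

theorem relsG : ∀ r ∈ A.rels, wprod pvG r = 1 := by
  intro r hr
  exact wprod_pvG_eq_one r (A.hRl r hr) ((pgAllL_iff _ _).1 relsG_chk r hr)

theorem sG : ∀ p ∈ A.sData, pvG p.1 = ⁅wprod pvG p.2.1, wprod pvG p.2.2⁆ := by
  intro p hp
  obtain ⟨h1, h2, h3⟩ := A.hSl p hp
  have hw : ∀ s ∈ sW A.cIV p.1 p.2.1 p.2.2, s < 12 := by
    have := A.hlet
    have hmem : sW A.cIV p.1 p.2.1 p.2.2 ∈ A.baseL := by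
      rw [A.baseL_eq]
      exact sW_mem_baseOf A.cIV 12 A.sData A.rels A.posL hp
    intro s hs
    exact lettersK_lt A.hlet hmem hs
  have h := wprod_pvG_eq_one _ hw ((pgAllL_iff _ _).1 sG_chk _ (List.mem_map.2 ⟨p, hp, rfl⟩))
  rw [wprod_sW pvG A.cIV p.1 p.2.1 p.2.2 (fun t ht => pvG_inv t (h2 t ht)) (fun t ht => pvG_inv t (h3 t ht))
    (pvG_inv _ h1)] at h
  exact inv_mul_eq_one.1 h

/-! ### generation -/

/-- the root elements as words in the letters -/
def rootW : List (List ℕ) :=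
  [[4, 7, 4, 3, 5, 6, 5], [6], [4, 7, 4, 9, 5, 6, 5], [0, 3, 0, 10, 1, 2, 1], [10], [2], [0], [8],
   [0, 3, 0, 8, 1, 2, 1], [4, 7, 4, 11, 5, 6, 5], [4], [4, 7, 4, 1, 5, 6, 5]]

/-- the word number `r` is the root element `r` -/
def rootChk (r : ℕ) : Bool :=
  pgAll 364 (fun p => Nat.beq (pgEvalW g23L1.own [r] p)
    (pgEvalW g23L1.own ((rootW.getD r []).map fun s => tabG.getD s 0) p))

theorem root_chk : pgAll 12 rootChk = true := by decide +kernel

theorem rootW_lt : ∀ r < 12, ∀ s ∈ rootW.getD r [], s < 12 := by decide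

theorem root_mem (r : ℕ) (hr : r < 12) :
    (g23P r).perm 364 ∈ Subgroup.closure {y | ∃ s < 12, y = pvG s} := by
  have h1 : (g23P r).perm 364 = pgWordPerm 364 g23L1.own [r] := by
    unfold pgWordPerm
    simp only [List.map_cons, List.map_nil, List.prod_cons, List.prod_nil, mul_one]
    congr 1
    unfold pgLetter g23P
    have : Nat.blt r g23L1.own.length = true := by
      rw [own_length]; exact Nat.ble_eq_true_of_le hr
    rw [this]
    rfl
  have h2 := wordPerm_eq_of_eval g23ok [r] ((rootW.getD r []).map fun s => tabG.getD s 0)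
    ((pgAll_iff _ _).1 root_chk r hr)
  rw [h1, h2, ← wprod_pvG _ (rootW_lt r hr)]
  unfold wprod
  apply Subgroup.list_prod_mem
  intro x hx
  obtain ⟨s, hs, rfl⟩ := List.mem_map.1 hx
  exact Subgroup.subset_closure ⟨s, rootW_lt r hr s hs, rfl⟩

theorem closure_pvG : Subgroup.closure {y | ∃ s < 12, y = pvG s} = P364 := by
  apply le_antisymm
  · rw [Subgroup.closure_le]
    rintro y ⟨s, _, rfl⟩
    exact pvG_mem s
  · rw [P364_eq, Subgroup.closure_le]
    rintro y ⟨P, hP, rfl⟩
    obtain ⟨r, hr, rfl⟩ := (g23own_iff P).1 hP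
    exact root_mem r hr

/-! ### the letters as elements of the group -/

/-- the letters as elements of the permutation group -/
def vG (s : ℕ) : ↥P364 := ⟨pvG s, pvG_mem s⟩

theorem coe_wprod_vG (w : List ℕ) : ((wprod vG w : ↥P364) : Equiv.Perm (Fin 364)) = wprod pvG w := by
  induction w with
  | nil => rfl
  | cons s w ih => rw [wprod_cons, wprod_cons, Subgroup.coe_mul, ih]; rfl

theorem vG_inv : ∀ s < 12, vG (invS A.cIV s) = (vG s)⁻¹ := by
  intro s hs
  apply Subtype.ext
  rw [Subgroup.coe_inv]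
  exact pvG_inv s hs

theorem vG_ge (s : ℕ) (hs : ¬ s < 12) : vG s = 1 := Subtype.ext (pvG_ge s hs)

theorem vG_rels : ∀ r ∈ A.rels, wprod vG r = 1 := by
  intro r hr
  apply Subtype.ext
  rw [coe_wprod_vG, relsG r hr]
  rfl

theorem vG_S : ∀ p ∈ A.sData, vG p.1 = ⁅wprod vG p.2.1, wprod vG p.2.2⁆ := by
  intro p hp
  apply Subtype.ext
  rw [commutatorElement_def, Subgroup.coe_mul, Subgroup.coe_mul, Subgroup.coe_mul, Subgroup.coe_inv,
    Subgroup.coe_inv, coe_wprod_vG, coe_wprod_vG, ← commutatorElement_def]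
  exact sG p hp

theorem vG_gen : ∀ x : ↥P364, x ∈ Subgroup.closure {y | ∃ s < 12, y = vG s} := by
  intro x
  have h0 : (P364.subtype '' {y : ↥P364 | ∃ s < 12, y = vG s}) = {y | ∃ s < 12, y = pvG s} := by
    ext y
    constructor
    · rintro ⟨z, ⟨s, hs, rfl⟩, rfl⟩
      exact ⟨s, hs, rfl⟩
    · rintro ⟨s, hs, rfl⟩
      exact ⟨vG s, ⟨s, hs, rfl⟩, rfl⟩
  have h1 : (Subgroup.closure {y : ↥P364 | ∃ s < 12, y = vG s}).map P364.subtype = P364 := by
    have := MonoidHom.map_closure P364.subtype {y : ↥P364 | ∃ s < 12, y = vG s}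
    rw [this, h0]
    exact closure_pvG
  have h2 : (x : Equiv.Perm (Fin 364)) ∈
      (Subgroup.closure {y : ↥P364 | ∃ s < 12, y = vG s}).map P364.subtype := by
    rw [h1]; exact x.2
  obtain ⟨k, hk, e⟩ := h2
  have : k = x := Subtype.ext e
  rwa [this] at hk

end Cfsg.Agent.Lib.Helper3.G23Mult
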