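import Cfsg.Agent.Lib.helper3.G24CoverData
import Cfsg.Agent.Lib.helper3.PgWords

/-!
The 8064 points of the double cover of the Chevalley group of type `G₂` over the field with four elements:
evaluation of words in the twelve letters (helper3).
-/

set_option autoImplicit false
set_option maxRecDepth 100000

namespace Cfsg.Agent.Lib.Helper3.G24Mult

open Cfsg.Agent.Lib.helper23

/-- the generator numbers of the letters, the inverses being numbered from 6 on -/
def tabC : List ℕ := [0, 6, 1, 7, 2, 8, 3, 9, 4, 10, 5, 11]

/-- the image of a point under a word in the letters -/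
def evC (w : List ℕ) (p : ℕ) : ℕ := pgEvalW gsC (w.map fun s => tabC.getD s 0) p

/-- two words agree on all points -/
def eqC (w1 w2 : List ℕ) : Bool := pgAll 8064 (fun p => Nat.beq (evC w1 p) (evC w2 p))

/-- a relator is a power of the central word -/
def relOK (r : List ℕ) : Bool := eqC r [] || eqC r zW

end Cfsg.Agent.Lib.Helper3.G24Mult
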