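import Cfsg.Agent.Lib.helper3.G24CoverBase

/-! the relators on the 8064 points, part 0 (generated, helper3) -/

set_option autoImplicit false
set_option maxRecDepth 100000
set_option Elab.async false

namespace Cfsg.Agent.Lib.Helper3.G24Mult

open Cfsg.Agent.Lib.helper23

/-- a part of the relators -/
def relP0 : List (List ℕ) :=
  [[0, 0],
   [5, 5, 5],
   [0, 2, 0, 2, 1, 3],
   [2, 5, 2, 5, 2, 5, 2, 4, 3, 4, 3, 4],
   [0, 2, 0, 5, 0, 4, 0, 2, 4, 1, 5, 1, 4, 1, 5]]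

theorem relP0_chk : pgAllL relP0 relOK = true := by decide +kernel

/-- a part of the relators -/
def relP4 : List (List ℕ) :=
  [[0, 2, 6, 0, 2, 6, 0, 2, 6],
   [0, 2, 6, 0, 2, 6, 1, 3, 6],
   [0, 2, 7, 1, 3, 7, 1, 3, 7],
   [0, 6, 2, 0, 6, 2, 0, 6, 2],
   [0, 4, 6, 5, 1, 4, 6, 2, 5]]

theorem relP4_chk : pgAllL relP4 relOK = true := by decide +kernel

/-- a part of the relators -/
def relP7 : List (List ℕ) :=
  [[2, 4, 6, 5, 2, 4, 6, 5, 3, 4, 6, 5],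
   [0, 6, 5, 3, 5, 1, 5, 6, 0, 5, 2, 6, 4],
   [0, 6, 5, 3, 5, 1, 5, 6, 0, 5, 6, 2, 4]]

theorem relP7_chk : pgAllL relP7 relOK = true := by decide +kernel

/-- a part of the relators -/
def relP11 : List (List ℕ) :=
  [[0, 6, 5, 3, 4, 1, 5, 6, 4, 0, 5, 2, 4, 6],
   [0, 5, 2, 4, 6, 4, 0, 5, 6, 5, 3, 4, 1, 6],
   [2, 5, 2, 4, 6, 5, 2, 4, 6, 5, 3, 4, 3, 6]]

theorem relP11_chk : pgAllL relP11 relOK = true := by decide +kernel

/-- a part of the relators -/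
def relP15 : List (List ℕ) :=
  [[10, 4, 8, 0, 2, 0, 9, 4, 1, 3, 1, 9, 5, 11, 4, 8, 0, 2, 0, 5, 8, 1, 3, 1, 9, 5],
   [9, 4, 9, 4],
   [8, 11, 8, 10, 9, 11, 9, 10],
   [8, 11, 8, 10, 10, 9, 11]]

theorem relP15_chk : pgAllL relP15 relOK = true := by decide +kernel

/-- a part of the relators -/
def relP18 : List (List ℕ) :=
  [[10, 0, 2, 0, 4, 8, 0, 9, 5, 1, 3, 1, 11, 0, 2, 0, 4, 8, 11, 1, 10, 9, 5, 1, 3, 1]]

theorem relP18_chk : pgAllL relP18 relOK = true := by decide +kernel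

/-- a part of the relators -/
def relP21 : List (List ℕ) :=
  [[11, 9, 4, 2, 5, 8, 3, 10, 4, 8, 11, 3, 10, 0, 2, 0, 5, 8, 1, 3, 1, 9, 5, 0, 2, 0, 10, 5, 8, 11, 1, 3, 1],
   [9, 4, 0, 5, 8, 1],
   [9, 4, 11, 0, 10, 5, 8, 11, 1, 10]]

theorem relP21_chk : pgAllL relP21 relOK = true := by decide +kernel

/-- a part of the relators -/
def relP24 : List (List ℕ) :=
  [[10, 9, 4, 11, 0, 2, 0, 4, 8, 0, 9, 5, 1, 3, 1, 10, 5, 8, 11, 0, 2, 0, 4, 8, 1, 9, 5, 1, 3, 1]]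

theorem relP24_chk : pgAllL relP24 relOK = true := by decide +kernel

/-- a part of the relators -/
def relP30 : List (List ℕ) :=
  [[4, 8, 11, 0, 10, 9, 5, 1, 4, 8, 11, 1, 10, 9, 5, 0, 2, 0, 4, 8, 11, 1, 10, 9, 5, 1, 3]]

theorem relP30_chk : pgAllL relP30 relOK = true := by decide +kernel

/-- a part of the relators -/
def relP32 : List (List ℕ) :=
  [[11, 0, 10, 4, 8, 0, 9, 5, 11, 1, 10, 4, 8, 1, 9, 5, 0, 2, 0, 4, 8, 11, 1, 10, 9, 5, 1, 3, 1]]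

theorem relP32_chk : pgAllL relP32 relOK = true := by decide +kernel

/-- a part of the relators -/
def relP33 : List (List ℕ) :=
  [[11, 0, 10, 4, 8, 11, 0, 10, 9, 5, 11, 1, 10, 4, 8, 11, 1, 10, 9, 5, 0, 2, 0, 4, 8, 10, 1, 11, 9, 5, 1, 3, 1]]

theorem relP33_chk : pgAllL relP33 relOK = true := by decide +kernel

/-- a part of the commutator words -/
def sP3 : List (List ℕ) :=
  [[9, 11, 11, 8, 10, 10, 11, 9, 10],
   [11, 1, 3, 1, 10, 0, 2, 0, 11]]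

theorem sP3_chk : pgAllL sP3 (fun w => eqC w []) = true := by decide +kernel

end Cfsg.Agent.Lib.Helper3.G24Mult
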