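import Cfsg.Agent.Lib.helper3.G24CoverBase

/-! the relators on the 8064 points, part 1 (generated, helper3) -/

set_option autoImplicit false
set_option maxRecDepth 100000
set_option Elab.async false

namespace Cfsg.Agent.Lib.Helper3.G24Mult

open Cfsg.Agent.Lib.helper23

/-- a part of the relators -/
def relP1 : List (List ℕ) :=
  [[0, 2, 0, 5, 2, 4, 0, 5, 1, 3, 5, 3, 4, 1, 5],
   [2, 2],
   [0, 2, 0, 3, 1, 3],
   [0, 4, 2, 5, 0, 4, 3, 5],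
   [0, 4, 2, 5, 1, 4, 2, 5],
   [0, 4, 2, 5, 1, 4, 3, 5]]

theorem relP1_chk : pgAllL relP1 relOK = true := by decide +kernel

/-- a part of the relators -/
def relP6 : List (List ℕ) :=
  [[0, 6, 4, 2, 0, 6, 4, 2, 0, 6, 4, 2],
   [2, 5, 6, 4, 2, 5, 6, 4, 2, 5, 6, 4],
   [2, 5, 6, 4, 2, 5, 6, 4, 3, 5, 6, 4],
   [2, 4, 6, 5, 2, 4, 6, 5, 2, 4, 6, 5]]

theorem relP6_chk : pgAllL relP6 relOK = true := by decide +kernel

/-- a part of the relators -/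
def relP8 : List (List ℕ) :=
  [[0, 5, 2, 6, 4, 1, 6, 4, 0, 4, 2, 4, 6],
   [0, 5, 2, 7, 4, 1, 7, 5, 3, 5, 1, 5, 7],
   [0, 2, 0, 6, 1, 5, 1, 4, 6, 5, 0, 4, 0, 6]]

theorem relP8_chk : pgAllL relP8 relOK = true := by decide +kernel

/-- a part of the relators -/
def relP12 : List (List ℕ) :=
  [[2, 5, 6, 4, 2, 5, 6, 4, 3, 5, 3, 6, 2, 4],
   [0, 2, 0, 4, 6, 0, 2, 4, 6, 3, 5, 3, 1, 6, 5],
   [10, 10, 10],
   [11, 11, 0, 2, 0, 10, 0, 2, 0]]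

theorem relP12_chk : pgAllL relP12 relOK = true := by decide +kernel

/-- a part of the relators -/
def relP25 : List (List ℕ) :=
  [[10, 9, 4, 11, 0, 2, 0, 4, 8, 11, 0, 10, 9, 5, 1, 3, 1, 10, 5, 8, 11, 0, 2, 0, 4, 8, 11, 1, 10, 9, 5, 1, 3, 1]]

theorem relP25_chk : pgAllL relP25 relOK = true := by decide +kernel

/-- a part of the relators -/
def relP28 : List (List ℕ) :=
  [[11, 9, 4, 10, 0, 2, 0, 4, 8, 11, 0, 10, 9, 5, 1, 3, 1, 11, 5, 8, 10, 0, 2, 0, 4, 8, 11, 1, 10, 9, 5, 1, 3, 1]]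

theorem relP28_chk : pgAllL relP28 relOK = true := by decide +kernel

/-- a part of the relators -/
def relP34 : List (List ℕ) :=
  [[0, 2, 0, 4, 8, 0, 9, 5, 1, 3, 1, 2, 0, 4, 8, 1, 9, 5, 1, 3],
   [0, 2, 0, 4, 8, 11, 0, 10, 9, 5, 1, 3, 1, 2, 0, 4, 8, 11, 1, 10, 9, 5, 1, 3]]

theorem relP34_chk : pgAllL relP34 relOK = true := by decide +kernel

/-- a part of the relators -/
def relP35 : List (List ℕ) :=
  [[0, 2, 0, 4, 8, 10, 0, 11, 9, 5, 1, 3, 1, 2, 0, 4, 8, 10, 1, 11, 9, 5, 1, 3]]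

theorem relP35_chk : pgAllL relP35 relOK = true := by decide +kernel

/-- a part of the relators -/
def relP36 : List (List ℕ) :=
  [[11, 0, 10, 0, 2, 0, 4, 8, 0, 9, 5, 1, 3, 1, 11, 1, 10, 0, 2, 0, 4, 8, 1, 9, 5, 1, 3, 1]]

theorem relP36_chk : pgAllL relP36 relOK = true := by decide +kernel

/-- a part of the relators -/
def relP37 : List (List ℕ) :=
  [[0, 2, 0, 8, 1, 3, 1, 4, 8, 10, 0, 11, 9, 5, 0, 2, 0, 9, 1, 3, 1, 4, 8, 10, 1, 11, 9, 5]]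

theorem relP37_chk : pgAllL relP37 relOK = true := by decide +kernel

/-- a part of the relators -/
def relP41 : List (List ℕ) :=
  [[4, 8, 10, 0, 11, 9, 5, 9, 4, 8, 10, 1, 11, 9, 5, 8],
   [11, 8, 10, 4, 8, 0, 9, 5, 11, 9, 10, 4, 8, 1, 9, 5]]

theorem relP41_chk : pgAllL relP41 relOK = true := by decide +kernel

/-- a part of the commutator words -/
def sP2 : List (List ℕ) :=
  [[5, 0, 2, 4, 0, 5, 0, 2, 4, 3, 1, 4, 1, 5, 3, 1, 5],
   [7, 0, 2, 0, 2, 6, 3, 1, 3, 1, 0, 2, 7, 3, 1]]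

theorem sP2_chk : pgAllL sP2 (fun w => eqC w []) = true := by decide +kernel

end Cfsg.Agent.Lib.Helper3.G24Mult
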