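import Cfsg.Agent.Lib.helper3.G24CoverBase

/-! the relators on the 8064 points, part 2 (generated, helper3) -/

set_option autoImplicit false
set_option maxRecDepth 100000
set_option Elab.async false

namespace Cfsg.Agent.Lib.Helper3.G24Mult

open Cfsg.Agent.Lib.helper23

/-- a part of the relators -/
def relP2 : List (List ℕ) :=
  [[0, 4, 2, 5, 1, 4, 3, 4, 4],
   [0, 5, 5, 3, 5, 1, 5, 5, 2, 5],
   [6, 6],
   [2, 6, 2, 6],
   [2, 6, 3, 6],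
   [0, 6, 0, 6, 0, 6, 0, 6],
   [0, 2, 0, 6, 0, 2, 6, 1, 6]]

theorem relP2_chk : pgAllL relP2 relOK = true := by decide +kernel

/-- a part of the relators -/
def relP9 : List (List ℕ) :=
  [[0, 2, 0, 5, 6, 0, 2, 5, 6, 1, 3, 5, 3, 6],
   [0, 2, 0, 5, 7, 1, 3, 5, 7, 1, 3, 5, 3, 7],
   [0, 2, 6, 0, 2, 6, 1, 5, 1, 4, 6, 5, 0, 4]]

theorem relP9_chk : pgAllL relP9 relOK = true := by decide +kernel

/-- a part of the relators -/
def relP13 : List (List ℕ) :=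
  [[7, 4, 8, 0, 2, 0, 10, 9, 4, 11, 1, 3, 0, 2, 0, 10, 9, 4, 11, 1, 3, 1, 9, 5],
   [2, 10, 2, 11, 3, 10, 3, 11],
   [2, 10, 2, 11, 11, 3, 10]]

theorem relP13_chk : pgAllL relP13 relOK = true := by decide +kernel

/-- a part of the relators -/
def relP14 : List (List ℕ) :=
  [[10, 0, 2, 0, 4, 8, 2, 9, 5, 1, 3, 1, 11, 0, 2, 0, 4, 8, 11, 3, 10, 9, 5, 1, 3, 1],
   [9, 4, 10, 9, 4, 11, 5, 8, 10, 5, 8, 11],
   [9, 4, 10, 9, 4, 11, 11, 5, 8, 10]]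

theorem relP14_chk : pgAllL relP14 relOK = true := by decide +kernel

/-- a part of the relators -/
def relP16 : List (List ℕ) :=
  [[10, 0, 2, 0, 8, 1, 3, 1, 11, 0, 2, 0, 11, 9, 10, 1, 3, 1],
   [8, 8],
   [10, 4, 8, 0, 2, 0, 8, 1, 3, 1, 9, 5, 11, 4, 8, 0, 2, 0, 9, 1, 3, 1, 9, 5]]

theorem relP16_chk : pgAllL relP16 relOK = true := by decide +kernel

/-- a part of the relators -/
def relP19 : List (List ℕ) :=
  [[0, 2, 0, 4, 8, 2, 9, 5, 1, 3, 1, 4, 8, 2, 9, 5, 0, 2, 0, 4, 8, 3, 9, 5, 1, 3, 1, 4, 8, 3, 9, 5]]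

theorem relP19_chk : pgAllL relP19 relOK = true := by decide +kernel

/-- a part of the relators -/
def relP23 : List (List ℕ) :=
  [[9, 4, 0, 2, 0, 4, 8, 10, 0, 11, 9, 5, 1, 3, 1, 5, 8, 0, 2, 0, 4, 8, 10, 1, 11, 9, 5, 1, 3, 1]]

theorem relP23_chk : pgAllL relP23 relOK = true := by decide +kernel

/-- a part of the relators -/
def relP27 : List (List ℕ) :=
  [[11, 9, 4, 10, 0, 2, 0, 4, 8, 0, 9, 5, 1, 3, 1, 11, 5, 8, 10, 0, 2, 0, 4, 8, 1, 9, 5, 1, 3, 1]]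

theorem relP27_chk : pgAllL relP27 relOK = true := by decide +kernel

/-- a part of the relators -/
def relP29 : List (List ℕ) :=
  [[11, 9, 4, 10, 0, 2, 0, 4, 8, 10, 0, 11, 9, 5, 1, 3, 1, 11, 5, 8, 10, 0, 2, 0, 4, 8, 10, 1, 11, 9, 5, 1, 3, 1],
   [2, 8, 3, 9]]

theorem relP29_chk : pgAllL relP29 relOK = true := by decide +kernel

/-- a part of the relators -/
def relP31 : List (List ℕ) :=
  [[4, 8, 10, 0, 11, 9, 5, 1, 4, 8, 10, 1, 11, 9, 5, 0, 2, 0, 4, 8, 10, 1, 11, 9, 5, 1, 3]]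

theorem relP31_chk : pgAllL relP31 relOK = true := by decide +kernel

/-- a part of the relators -/
def relP42 : List (List ℕ) :=
  [[11, 8, 10, 4, 8, 11, 0, 10, 9, 5, 11, 9, 10, 4, 8, 11, 1, 10, 9, 5]]

theorem relP42_chk : pgAllL relP42 relOK = true := by decide +kernel

/-- a part of the commutator words -/
def sP1 : List (List ℕ) :=
  [[3, 5, 0, 2, 4, 5, 0, 2, 4, 2, 5, 3, 1, 4, 5, 3, 1, 4, 5, 0, 2, 4, 3, 5, 3, 1, 4]]

theorem sP1_chk : pgAllL sP1 (fun w => eqC w []) = true := by decide +kernel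

end Cfsg.Agent.Lib.Helper3.G24Mult
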