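import Cfsg.Agent.Lib.helper3.G24CoverBase

/-! the relators on the 8064 points, part 3 (generated, helper3) -/

set_option autoImplicit false
set_option maxRecDepth 100000
set_option Elab.async false

namespace Cfsg.Agent.Lib.Helper3.G24Mult

open Cfsg.Agent.Lib.helper23

/-- a part of the relators -/
def relP3 : List (List ℕ) :=
  [[0, 2, 0, 6, 0, 6, 3, 1, 6],
   [0, 2, 0, 6, 1, 6, 2, 0, 6],
   [0, 2, 0, 6, 1, 3, 6, 0, 6],
   [0, 2, 0, 7, 1, 3, 7, 1, 7],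
   [0, 2, 0, 7, 1, 7, 3, 1, 7]]

theorem relP3_chk : pgAllL relP3 relOK = true := by decide +kernel

/-- a part of the relators -/
def relP5 : List (List ℕ) :=
  [[0, 4, 6, 5, 1, 4, 3, 6, 5],
   [0, 2, 5, 6, 0, 2, 5, 6, 0, 2, 5, 6],
   [0, 2, 5, 6, 0, 2, 5, 6, 1, 3, 5, 6],
   [0, 2, 5, 7, 1, 3, 5, 7, 1, 3, 5, 7]]

theorem relP5_chk : pgAllL relP5 relOK = true := by decide +kernel

/-- a part of the relators -/
def relP10 : List (List ℕ) :=
  [[0, 2, 6, 0, 6, 3, 1, 5, 1, 4, 6, 5, 0, 4],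
   [0, 2, 7, 1, 3, 7, 1, 5, 1, 4, 7, 5, 0, 4],
   [0, 2, 4, 2, 5, 6, 0, 6, 4, 3, 5, 3, 1, 6]]

theorem relP10_chk : pgAllL relP10 relOK = true := by decide +kernel

/-- a part of the relators -/
def relP17 : List (List ℕ) :=
  [[0, 11, 0, 10, 1, 11, 1, 10],
   [0, 11, 0, 10, 10, 1, 11],
   [10, 4, 8, 0, 9, 5, 11, 4, 8, 10, 1, 11, 9, 5]]

theorem relP17_chk : pgAllL relP17 relOK = true := by decide +kernel

/-- a part of the relators -/
def relP20 : List (List ℕ) :=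
  [[11, 9, 4, 10, 10, 2, 11, 11, 5, 8, 10, 10, 3, 11, 4, 8, 10, 3, 11, 0, 2, 0, 11, 5, 8, 10, 1, 3, 1, 9, 5, 0, 2, 0, 5, 8, 1, 3, 1]]

theorem relP20_chk : pgAllL relP20 relOK = true := by decide +kernel

/-- a part of the relators -/
def relP22 : List (List ℕ) :=
  [[9, 4, 10, 0, 11, 5, 8, 10, 1, 11],
   [10, 9, 4, 11, 0, 10, 5, 8, 11, 1],
   [10, 9, 4, 11, 11, 0, 10, 10, 5, 8, 11, 11, 1, 10]]

theorem relP22_chk : pgAllL relP22 relOK = true := by decide +kernel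

/-- a part of the relators -/
def relP26 : List (List ℕ) :=
  [[10, 9, 4, 11, 0, 2, 0, 4, 8, 10, 0, 11, 9, 5, 1, 3, 1, 10, 5, 8, 11, 0, 2, 0, 4, 8, 10, 1, 11, 9, 5, 1, 3, 1]]

theorem relP26_chk : pgAllL relP26 relOK = true := by decide +kernel

/-- a part of the relators -/
def relP38 : List (List ℕ) :=
  [[0, 2, 0, 11, 8, 10, 1, 3, 1, 4, 8, 0, 9, 5, 0, 2, 0, 11, 9, 10, 1, 3, 1, 4, 8, 1, 9, 5]]

theorem relP38_chk : pgAllL relP38 relOK = true := by decide +kernel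

/-- a part of the relators -/
def relP39 : List (List ℕ) :=
  [[0, 2, 0, 11, 8, 10, 1, 3, 1, 4, 8, 11, 0, 10, 9, 5, 0, 2, 0, 11, 9, 10, 1, 3, 1, 4, 8, 11, 1, 10, 9, 5]]

theorem relP39_chk : pgAllL relP39 relOK = true := by decide +kernel

/-- a part of the relators -/
def relP40 : List (List ℕ) :=
  [[0, 2, 0, 11, 8, 10, 1, 3, 1, 4, 8, 10, 0, 11, 9, 5, 0, 2, 0, 11, 9, 10, 1, 3, 1, 4, 8, 10, 1, 11, 9, 5],
   [4, 8, 11, 0, 10, 9, 5, 9, 4, 8, 11, 1, 10, 9, 5, 8]]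

theorem relP40_chk : pgAllL relP40 relOK = true := by decide +kernel

/-- a part of the commutator words -/
def sP0 : List (List ℕ) :=
  [[1, 4, 0, 2, 5, 4, 0, 2, 5, 0, 4, 3, 1, 5, 4, 3, 1, 5, 4, 0, 2, 5, 1, 4, 3, 1, 5]]

theorem sP0_chk : pgAllL sP0 (fun w => eqC w []) = true := by decide +kernel

end Cfsg.Agent.Lib.Helper3.G24Mult
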