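import Cfsg.Agent.Lib.helper3.G24CoverChk0
import Cfsg.Agent.Lib.helper3.G24CoverChk1
import Cfsg.Agent.Lib.helper3.G24CoverChk2
import Cfsg.Agent.Lib.helper3.G24CoverChk3
import Cfsg.Agent.Lib.helper3.G24TC.A.Struct
import Cfsg.Agent.Lib.helper3.StemPres

/-! the relators on the 8064 points: assembly of the parts (generated, helper3) -/

set_option autoImplicit false
set_option maxRecDepth 100000

namespace Cfsg.Agent.Lib.Helper3.G24Mult

open Cfsg.Agent.Lib.helper23 Cfsg.Agent.Lib.Helper3.G24TC Cfsg.Agent.Lib.Helper3.StemPres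

theorem pgAllL_app {α : Type} {l l' : List α} {p : α → Bool} (h : pgAllL l p = true)
    (h' : pgAllL l' p = true) : pgAllL (l ++ l') p = true := by
  rw [pgAllL_iff] at h h' ⊢
  intro a ha
  rcases List.mem_append.1 ha with h1 | h1
  · exact h a h1
  · exact h' a h1

theorem rels_split : A.rels = relP0 ++ (relP1 ++ (relP2 ++ (relP3 ++ (relP4 ++ (relP5 ++ (relP6 ++ (relP7 ++ (relP8 ++ (relP9 ++ (relP10 ++ (relP11 ++ (relP12 ++ (relP13 ++ (relP14 ++ (relP15 ++ (relP16 ++ (relP17 ++ (relP18 ++ (relP19 ++ (relP20 ++ (relP21 ++ (relP22 ++ (relP23 ++ (relP24 ++ (relP25 ++ (relP26 ++ (relP27 ++ (relP28 ++ (relP29 ++ (relP30 ++ (relP31 ++ (relP32 ++ (relP33 ++ (relP34 ++ (relP35 ++ (relP36 ++ (relP37 ++ (relP38 ++ (relP39 ++ (relP40 ++ (relP41 ++ (relP42)))))))))))))))))))))))))))))))))))))))))) := by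
  decide +kernel

theorem relsC_chk : pgAllL A.rels relOK = true := by
  rw [rels_split]
  exact pgAllL_app relP0_chk (pgAllL_app relP1_chk (pgAllL_app relP2_chk (pgAllL_app relP3_chk (pgAllL_app relP4_chk (pgAllL_app relP5_chk (pgAllL_app relP6_chk (pgAllL_app relP7_chk (pgAllL_app relP8_chk (pgAllL_app relP9_chk (pgAllL_app relP10_chk (pgAllL_app relP11_chk (pgAllL_app relP12_chk (pgAllL_app relP13_chk (pgAllL_app relP14_chk (pgAllL_app relP15_chk (pgAllL_app relP16_chk (pgAllL_app relP17_chk (pgAllL_app relP18_chk (pgAllL_app relP19_chk (pgAllL_app relP20_chk (pgAllL_app relP21_chk (pgAllL_app relP22_chk (pgAllL_app relP23_chk (pgAllL_app relP24_chk (pgAllL_app relP25_chk (pgAllL_app relP26_chk (pgAllL_app relP27_chk (pgAllL_app relP28_chk (pgAllL_app relP29_chk (pgAllL_app relP30_chk (pgAllL_app relP31_chk (pgAllL_app relP32_chk (pgAllL_app relP33_chk (pgAllL_app relP34_chk (pgAllL_app relP35_chk (pgAllL_app relP36_chk (pgAllL_app relP37_chk (pgAllL_app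 relP38_chk (pgAllL_app relP39_chk (pgAllL_app relP40_chk (pgAllL_app relP41_chk relP42_chk)))))))))))))))))))))))))))))))))))))))))

theorem sWords_split : (A.sData.map fun p => sW A.cIV p.1 p.2.1 p.2.2) = sP0 ++ (sP1 ++ (sP2 ++ sP3)) := by
  decide +kernel

theorem sC_chk : pgAllL (A.sData.map fun p => sW A.cIV p.1 p.2.1 p.2.2) (fun w => eqC w []) = true := by
  rw [sWords_split]
  exact pgAllL_app sP0_chk (pgAllL_app sP1_chk (pgAllL_app sP2_chk sP3_chk))

end Cfsg.Agent.Lib.Helper3.G24Mult
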