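import Cfsg.Agent.Lib.helper14.G2Me
import Cfsg.Agent.Lib.helper3.StemPres
import Cfsg.Agent.Lib.helper3.G24TC.A.Struct

/-!
The six elements `A`, `C`, `u`, `T`, `x`, `h` of the Chevalley group of type `G₂` over lead's field with four
elements, as words in the root elements: they generate the group, they are commutators as prescribed, and the
relators of the presentation hold. Everything is checked in helper14's six-dimensional representation, which
is faithful (helper3).
-/

set_option autoImplicit false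
set_option maxRecDepth 100000

namespace Cfsg.Agent.Lib.Helper3.G24Mult

open Matrix Cfsg.Lie Cfsg.Agent.Lib.Lead.F4 Cfsg.Agent.Lib.Helper12.G24 Cfsg.Agent.Lib.helper8
open Cfsg.Agent.Lib.helper14.G2M
open Cfsg.Agent.Lib.Helper12.TC Cfsg.Agent.Lib.Helper12.TCG
open Cfsg.Agent.Lib.Helper3.StemPres Cfsg.Agent.Lib.Helper3.G24TC
open scoped commutatorElement

/-! ### the faithful representation -/

theorem exists_rho : ∃ ρ : Gc →* GL (Fin 6) K, Function.Injective ρ ∧
    ∀ w : List (ℕ × ℕ), inRange w →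
      ((ρ (wL w) : GL (Fin 6) K) : Matrix (Fin 6) (Fin 6) K) = wordM w := by
  obtain ⟨ρ, hρ⟩ := Cfsg.Agent.Lib.Helper21.G2MH.exists_hom_of_rels (K := K)
    ⟨F4c.w, by decide, by decide⟩ g2Y g2Y_h1 g2Y_h2
  have hx : ∀ (r : ℕ) (hr : r < 12) (t : K), ρ (xL r t) = g2Y (⟨r, hr⟩, t) :=
    fun r hr t => hρ ⟨r, hr⟩ t _ (xL_val ⟨r, hr⟩ t)
  have hw : ∀ w : List (ℕ × ℕ), inRange w →
      ((ρ (wL w) : GL (Fin 6) K) : Matrix (Fin 6) (Fin 6) K) = wordM w := by
    intro w
    induction w with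
    | nil => intro _; simp [wL, wordM]
    | cons p w ih =>
      intro hr
      have h1 : p.1 < 12 := (hr p (List.mem_cons_self ..)).1
      have h3 : p.2 < 4 := (hr p (List.mem_cons_self ..)).2
      have h2 : inRange w := fun q hq => hr q (List.mem_cons_of_mem _ hq)
      have e1 : wL (p :: w) = xL p.1 (kOfN p.2) * wL w := by
        unfold wL
        rw [List.map_cons, List.prod_cons]
      have e2 : wordM (p :: w) = matOf (g2T (4 * p.1 + p.2)) * wordM w := by
        unfold wordM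
        rw [List.map_cons, List.prod_cons]
      have e3 : nOfK (kOfN p.2) = p.2 := by
        have e : ∀ x, x < 4 → nOfK (kOfN x) = x := by decide
        exact e _ h3
      rw [e1, map_mul, Units.val_mul, ih h2, hx p.1 h1, e2, g2Y_val]
      show g2A p.1 (kOfN p.2) * _ = _
      unfold g2A
      rw [e3]
  have hinj : Function.Injective ρ := by
    have := simple_Gc
    rw [← MonoidHom.ker_eq_bot_iff]
    rcases Subgroup.Normal.eq_bot_or_eq_top (MonoidHom.normal_ker ρ) with h | h
    · exact h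
    · exfalso
      have h1 : xL 0 1 ∈ ρ.ker := by rw [h]; trivial
      rw [MonoidHom.mem_ker, hx 0 (by norm_num)] at h1
      have h2 := congrArg (fun u : GL (Fin 6) K => (u : Matrix (Fin 6) (Fin 6) K) 4 0) h1
      revert h2
      decide +kernel
  exact ⟨ρ, hinj, hw⟩

/-- words with the same matrix are the same element -/
theorem wL_eq_of_wordM (w w' : List (ℕ × ℕ)) (h : inRange w) (h' : inRange w')
    (e : wordM w = wordM w') : wL w = wL w' := by
  obtain ⟨ρ, hinj, hw⟩ := exists_rho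
  apply hinj
  apply Units.ext
  rw [hw w h, hw w' h', e]

theorem wL_nil : wL [] = 1 := rfl

theorem wL_append (w w' : List (ℕ × ℕ)) : wL (w ++ w') = wL w * wL w' := by
  unfold wL
  rw [List.map_append, List.prod_append]

theorem inRange_nil : inRange [] := fun p hp => absurd hp List.not_mem_nil

theorem inRange_append {w w' : List (ℕ × ℕ)} (h : inRange w) (h' : inRange w') : inRange (w ++ w') := by
  intro p hp
  rcases List.mem_append.1 hp with h1 | h1
  · exact h p h1
  · exact h' p h1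

/-- a word whose matrix is the identity is the identity -/
theorem wL_eq_one (w : List (ℕ × ℕ)) (h : inRange w) (e : isOneW w = true) : wL w = 1 := by
  rw [← wL_nil]
  apply wL_eq_of_wordM w [] h inRange_nil
  rw [wordM_eq_one_of w e]
  rfl

/-! ### the letters -/

/-- the table of the words of the letters `A`, `C`, `u`, `T`, `x`, `h`, each followed by its inverse -/
def letT : List (List (ℕ × ℕ)) :=
  [[(6, 1)], [(6, 1)], [(5, 1)], [(5, 1)], [(7, 1), (4, 1)], [(4, 1), (7, 1)],
   [(2, 2), (10, 1), (2, 2)], [(2, 2), (10, 1), (2, 2)], [(7, 1)], [(7, 1)],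
   [(6, 2), (5, 3), (6, 2), (6, 1), (5, 1), (6, 1)], [(6, 1), (5, 1), (6, 1), (6, 2), (5, 3), (6, 2)]]

/-- the word of a letter -/
def letW (s : ℕ) : List (ℕ × ℕ) := letT.getD s []

/-- the word in the root elements of a word in the letters -/
def expW : List ℕ → List (ℕ × ℕ)
  | [] => []
  | s :: w => letW s ++ expW w

theorem letW_ge (s : ℕ) (hs : ¬ s < 12) : letW s = [] := by
  unfold letW
  rw [List.getD_eq_default]
  exact Nat.le_of_not_lt hs

theorem inRange_letW (s : ℕ) : inRange (letW s) := by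
  by_cases hs : s < 12
  · interval_cases s <;> (unfold inRange; decide)
  · rw [letW_ge s hs]; exact inRange_nil

theorem inRange_expW (w : List ℕ) : inRange (expW w) := by
  induction w with
  | nil => exact inRange_nil
  | cons s w ih => exact inRange_append (inRange_letW s) ih

/-- the letters as elements of the group -/
noncomputable def vG (s : ℕ) : Gc := wL (letW s)

theorem vG_ge (s : ℕ) (hs : ¬ s < 12) : vG s = 1 := by
  unfold vG
  rw [letW_ge s hs]
  rfl

theorem wprod_vG (w : List ℕ) : wprod vG w = wL (expW w) := by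
  induction w with
  | nil => rfl
  | cons s w ih =>
    rw [wprod_cons, ih]
    show wL (letW s) * wL (expW w) = wL (letW s ++ expW w)
    rw [wL_append]

theorem wprod_vG_eq_one (w : List ℕ) (h : isOneW (expW w) = true) : wprod vG w = 1 := by
  rw [wprod_vG]
  exact wL_eq_one _ (inRange_expW w) h

/-! ### the checks -/

theorem inv_chk : allN 12 (fun s => isOneW (expW [invS A.cIV s, s])) = true := by decide +kernel

theorem vG_inv : ∀ s < 12, vG (invS A.cIV s) = (vG s)⁻¹ := by
  intro s hs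
  have h := wprod_vG_eq_one [invS A.cIV s, s] ((allN_iff _ _).1 inv_chk s hs)
  rw [wprod_cons, wprod_cons, wprod_nil, mul_one] at h
  exact eq_inv_of_mul_eq_one_left h

theorem relsG_chk : A.rels.all (fun r => isOneW (expW r)) = true := by decide +kernel

theorem vG_rels : ∀ r ∈ A.rels, wprod vG r = 1 := by
  intro r hr
  exact wprod_vG_eq_one r (List.all_eq_true.1 relsG_chk r hr)

theorem sG_chk : (A.sData.map fun p => sW A.cIV p.1 p.2.1 p.2.2).all (fun w => isOneW (expW w)) = true := by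
  decide +kernel

theorem vG_S : ∀ p ∈ A.sData, vG p.1 = ⁅wprod vG p.2.1, wprod vG p.2.2⁆ := by
  intro p hp
  obtain ⟨h1, h2, h3⟩ := A.hSl p hp
  have h := wprod_vG_eq_one _ (List.all_eq_true.1 sG_chk _ (List.mem_map.2 ⟨p, hp, rfl⟩))
  rw [wprod_sW vG A.cIV p.1 p.2.1 p.2.2 (fun t ht => vG_inv t (h2 t ht)) (fun t ht => vG_inv t (h3 t ht))
    (vG_inv _ h1)] at h
  exact inv_mul_eq_one.1 h

/-! ### generation -/

/-- the root elements as words in the letters: the entry `r`, `c` is the root element of the root `r` with the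
field element of code `c` -/
def rootT : List (List (List ℕ)) :=
  [
   [[], [0, 2, 0, 4, 8, 2, 9, 5, 1, 3, 1], [0, 2, 0, 4, 8, 10, 2, 11, 9, 5, 1, 3, 1], [0, 2, 0, 4, 8, 11, 2, 10, 9, 5, 1, 3, 1]],
   [[], [4, 8, 2, 9, 5], [4, 8, 10, 2, 11, 9, 5], [4, 8, 11, 2, 10, 9, 5]],
   [[], [4, 8, 0, 2, 0, 9, 4, 1, 3, 1, 9, 5], [4, 8, 0, 2, 0, 10, 9, 4, 11, 1, 3, 1, 9, 5], [4, 8, 0, 2, 0, 11, 9, 4, 10, 1, 3, 1, 9, 5]],
   [[], [0, 2, 0, 9, 4, 1, 3, 1], [0, 2, 0, 10, 9, 4, 11, 1, 3, 1], [0, 2, 0, 11, 9, 4, 10, 1, 3, 1]],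
   [[], [9, 4], [10, 9, 4, 11], [11, 9, 4, 10]],
   [[], [2], [10, 2, 11], [11, 2, 10]],
   [[], [0], [11, 0, 10], [10, 0, 11]],
   [[], [8], [11, 8, 10], [10, 8, 11]],
   [[], [0, 2, 0, 8, 1, 3, 1], [0, 2, 0, 11, 8, 10, 1, 3, 1], [0, 2, 0, 10, 8, 11, 1, 3, 1]],
   [[], [4, 8, 0, 2, 0, 8, 1, 3, 1, 9, 5], [4, 8, 0, 2, 0, 11, 8, 10, 1, 3, 1, 9, 5], [4, 8, 0, 2, 0, 10, 8, 11, 1, 3, 1, 9, 5]],
   [[], [4, 8, 0, 9, 5], [4, 8, 11, 0, 10, 9, 5], [4, 8, 10, 0, 11, 9, 5]],
   [[], [0, 2, 0, 4, 8, 0, 9, 5, 1, 3, 1], [0, 2, 0, 4, 8, 11, 0, 10, 9, 5, 1, 3, 1], [0, 2, 0, 4, 8, 10, 0, 11, 9, 5, 1, 3, 1]]]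

/-- the word of a root element -/
def rootW (r c : ℕ) : List ℕ := (rootT.getD r []).getD c []

theorem root_chk : allN 12 (fun r => allN 4 (fun c => allN 6 (fun j =>
    Nat.beq (actW [(r, c)] (4 ^ j)) (actW (expW (rootW r c)) (4 ^ j))))) = true := by decide +kernel

theorem xL_eq (r c : ℕ) (hr : r < 12) (hc : c < 4) : xL r (kOfN c) = wprod vG (rootW r c) := by
  have h1 : xL r (kOfN c) = wL [(r, c)] := by
    unfold wL
    rw [List.map_cons, List.map_nil, List.prod_cons, List.prod_nil, mul_one]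
  rw [h1, wprod_vG]
  apply wL_eq_of_wordM _ _ _ (inRange_expW _)
  · exact wordM_eq_of_act _ _ ((allN_iff _ _).1 ((allN_iff _ _).1 root_chk r hr) c hc)
  · intro p hp
    rw [List.mem_singleton] at hp
    rw [hp]
    exact ⟨hr, hc⟩

theorem wprod_mem_closure (w : List ℕ) (hw : ∀ s ∈ w, s < 12) :
    wprod vG w ∈ Subgroup.closure {y | ∃ s < 12, y = vG s} := by
  unfold wprod
  apply Subgroup.list_prod_mem
  intro x hx
  obtain ⟨s, hs, rfl⟩ := List.mem_map.1 hx
  exact Subgroup.subset_closure ⟨s, hw s hs, rfl⟩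

theorem rootW_lt : ∀ r < 12, ∀ c < 4, ∀ s ∈ rootW r c, s < 12 := by decide +kernel

theorem xL_mem (r : ℕ) (hr : r < 12) (t : K) : xL r t ∈ Subgroup.closure {y | ∃ s < 12, y = vG s} := by
  have ht : t = kOfN (nOfK t) := (kOfN_nOfK t).symm
  rw [ht, xL_eq r (nOfK t) hr (nOfK_lt t)]
  exact wprod_mem_closure _ (rootW_lt r hr _ (nOfK_lt t))

theorem vG_gen : ∀ x : Gc, x ∈ Subgroup.closure {y | ∃ s < 12, y = vG s} := by
  intro x
  have hle : chevG2.group K ≤
      (Subgroup.closure {y : Gc | ∃ s < 12, y = vG s}).map (chevG2.group K).subtype := by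
    unfold ChevalleyDatum.group
    rw [Subgroup.closure_le]
    rintro g ⟨r, t, hg⟩
    refine ⟨xL r.val t, xL_mem r.val r.isLt t, ?_⟩
    apply Units.ext
    rw [hg]
    exact xL_val r t
  obtain ⟨k, hk, e⟩ := hle x.2
  have : k = x := Subtype.ext e
  rwa [this] at hk

end Cfsg.Agent.Lib.Helper3.G24Mult
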