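import Cfsg.Agent.Lib.helper3.G24Cover
import Cfsg.Agent.Lib.helper3.G24Side
import Cfsg.Agent.Lib.Helper5.StemX
import Cfsg.Agent.Lib.Helper21.SchurCyclic

/-!
The Schur multiplier of the Chevalley group of type `G₂` over the field with four elements is cyclic of order
two: the centralised presentation on the six elements `A`, `C`, `u`, `T`, `x`, `h` is a stem extension with
kernel of order two, and it maps onto every stem extension (helper3).
-/

set_option autoImplicit false
set_option maxRecDepth 100000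

namespace Cfsg.Agent.Lib.Helper3.G24Mult

open Cfsg.Lie Cfsg.Agent.Lib.Lead.F4 Cfsg.Agent.Lib.Helper12.G24 Cfsg.Agent.Lib.helper8
open Cfsg.Agent.Lib.helper14.G2M
open Cfsg.Agent.Lib.Helper12.TC Cfsg.Agent.Lib.Helper12.TCG
open Cfsg.Agent.Lib.Helper3.StemPres Cfsg.Agent.Lib.Helper3.G24TC
open scoped commutatorElement

universe u

/-! ### the presented group maps onto the Chevalley group -/

theorem baseG : ∀ b ∈ A.baseL, wprod vG b = 1 := by
  rw [A.baseL_eq]
  exact baseOf_holds vG A.cIV 12 vG_inv A.sData A.rels A.posL A.hSl A.hRl A.hPl vG_S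
    (fun r hr x _ => by rw [vG_rels r hr]; exact Commute.one_left _)

theorem exists_homG : ∃ π : A.Grp →* Gc, ∀ x < 12, π (A.v x) = vG x :=
  WPres.hlift 12 A.baseL A.hlet vG baseG

/-- the projection of the presented group onto the Chevalley group -/
noncomputable def piG : A.Grp →* Gc := exists_homG.choose

theorem piG_v : ∀ x < 12, piG (A.v x) = vG x := exists_homG.choose_spec

theorem piG_surj : Function.Surjective piG := by
  intro x
  have hle : Subgroup.closure {y | ∃ s < 12, y = vG s} ≤ piG.range := by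
    rw [Subgroup.closure_le]
    rintro y ⟨s, hs, rfl⟩
    exact ⟨A.v s, piG_v s hs⟩
  exact hle (vG_gen x)

theorem zW_mem : zW ∈ A.rels := by decide +kernel

theorem zQ_mem_ker : zQ ∈ piG.ker := by
  rw [MonoidHom.mem_ker]
  unfold zQ
  rw [map_wprod_lt piG vG piG_v zW zW_lt]
  exact vG_rels zW zW_mem

theorem zQ_mem_center : zQ ∈ Subgroup.center A.Grp :=
  rel_mem_center A.v A.cIV 12 A.hvinv A.hgen A.sData A.rels A.posL A.hpos A.hPl A.hRl A.hbase' zW_mem

instance : Finite A.Grp := A.card_le.1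

theorem card_ker_le : Nat.card piG.ker ≤ 2 := by
  have h1 : Nat.card A.Grp = Nat.card piG.ker * Nat.card Gc := by
    rw [← Nat.card_congr (QuotientGroup.quotientKerEquivOfSurjective piG piG_surj).toEquiv, mul_comm]
    exact Subgroup.card_eq_card_quotient_mul_card_subgroup piG.ker
  have h2 := A.card_le.2
  rw [h1, card_Gc] at h2
  by_contra hc
  push_neg at hc
  have : 3 * 251596800 ≤ Nat.card piG.ker * 251596800 := Nat.mul_le_mul_right _ hc
  omega

/-- the central element as an element of the kernel -/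
noncomputable def zK : piG.ker := ⟨zQ, zQ_mem_ker⟩

theorem zK_ne_one : zK ≠ 1 := by
  intro h
  exact zQ_ne_one (congrArg Subtype.val h)

theorem card_ker : Nat.card piG.ker = 2 := by
  apply le_antisymm card_ker_le
  have hinj : Function.Injective (fun i : Fin 2 => zK ^ (i : ℕ)) := by
    intro i j hij
    have hz1 := zK_ne_one
    fin_cases i <;> fin_cases j <;> simp only [Fin.zero_eta, Fin.mk_one, Fin.isValue,
      Fin.val_zero, Fin.val_one, pow_zero, pow_one] at hij <;>
      first
      | rfl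
      | exact absurd hij.symm hz1
      | exact absurd hij hz1
  have := Nat.card_le_card_of_injective _ hinj
  rwa [Nat.card_eq_fintype_card, Fintype.card_fin] at this

theorem zpowers_zK : Subgroup.zpowers zK = ⊤ := by
  haveI : Fact (Nat.Prime 2) := ⟨Nat.prime_two⟩
  exact zpowers_eq_top_of_prime_card card_ker zK_ne_one

theorem mem_ker_iff (k : A.Grp) : k ∈ piG.ker ↔ k ∈ Subgroup.zpowers zQ := by
  constructor
  · intro hk
    have : (⟨k, hk⟩ : piG.ker) ∈ Subgroup.zpowers zK := by rw [zpowers_zK]; trivial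
    obtain ⟨j, hj⟩ := Subgroup.mem_zpowers_iff.1 this
    refine Subgroup.mem_zpowers_iff.2 ⟨j, ?_⟩
    have := congrArg Subtype.val hj
    rw [Subgroup.coe_zpow] at this
    exact this
  · intro hk
    obtain ⟨j, rfl⟩ := Subgroup.mem_zpowers_iff.1 hk
    exact Subgroup.zpow_mem _ zQ_mem_ker j

theorem zQ_pow_two : zQ ^ 2 = 1 := by
  have h : zK ^ Nat.card piG.ker = 1 := pow_card_eq_one'
  rw [card_ker] at h
  have := congrArg Subtype.val h
  rwa [Subgroup.coe_pow] at this

theorem v_mem_commutator (s : ℕ) : A.v s ∈ commutator A.Grp := by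
  have hpos : ∀ p ∈ A.sData, A.v p.1 ∈ commutator A.Grp := by
    intro p hp
    rw [letter_eq_comm A.v A.cIV 12 A.hvinv A.sData A.rels A.posL A.hSl A.hbase' hp, commutator_def]
    exact Subgroup.commutator_mem_commutator (Subgroup.mem_top _) (Subgroup.mem_top _)
  have hall : ∀ t < 12, t ∈ A.posL → A.v t ∈ commutator A.Grp := by
    intro t _ ht
    have : ∃ p ∈ A.sData, p.1 = t := by
      revert t
      decide
    obtain ⟨p, hp, rfl⟩ := this
    exact hpos p hp
  by_cases hs : s < 12
  · rcases A.hpos s hs with h | h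
    · exact hall s hs h
    · have h1 := hall _ (ivK_lt A.hiv hs (by decide)).1 h
      rw [A.hvinv s hs] at h1
      exact (Subgroup.inv_mem_iff _).1 h1
  · rw [A.hvge s hs]; exact Subgroup.one_mem _

theorem commutator_top : commutator A.Grp = ⊤ := by
  rw [eq_top_iff]
  intro γ _
  have hle : Subgroup.closure {y | ∃ x < 12, y = A.v x} ≤ commutator A.Grp := by
    rw [Subgroup.closure_le]
    rintro y ⟨x, _, rfl⟩
    exact v_mem_commutator x
  exact hle (A.hgen γ)

theorem piG_stem : Cfsg.IsStemExtension piG := by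
  refine ⟨piG_surj, ?_, ?_⟩
  · intro k hk
    obtain ⟨j, rfl⟩ := Subgroup.mem_zpowers_iff.1 ((mem_ker_iff k).1 hk)
    exact Subgroup.zpow_mem _ zQ_mem_center j
  · rw [commutator_top]; exact le_top

theorem exists_stem : ∃ (Γ : Type) (_ : Group Γ) (_ : Finite Γ) (σ : Γ →* Gc),
    Cfsg.IsStemExtension σ ∧ Nonempty (σ.ker ≃* Multiplicative (ZMod 2)) := by
  refine ⟨A.Grp, inferInstance, inferInstance, piG, piG_stem, ?_⟩
  haveI : Fact (Nat.Prime 2) := ⟨Nat.prime_two⟩
  have hcyc : IsCyclic piG.ker := isCyclic_of_prime_card card_ker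
  have e2 := zmodCyclicMulEquiv hcyc
  rw [card_ker] at e2
  exact ⟨e2.symm⟩

/-! ### every stem extension is an image of the presented group -/

/-- the first words of the commutator expressions -/
def hwT : List (List ℕ) :=
  [
   [4, 0, 2, 5],
   [],
   [5, 0, 2, 4],
   [],
   [0, 2, 4, 0, 5, 0, 2],
   [],
   [0, 2],
   [],
   [11],
   [],
   [1, 3, 1],
   []]

/-- the second words of the commutator expressions -/
def kwT : List (List ℕ) :=
  [
   [4, 0, 2, 5, 0, 4, 3, 1, 5],
   [],
   [5, 0, 2, 4, 2, 5, 3, 1, 4],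
   [],
   [4],
   [],
   [0, 2, 6, 3, 1],
   [],
   [11, 8, 10],
   [],
   [10],
   []]

/-- the first words of the commutator expressions -/
def hwF (s : ℕ) : List ℕ := hwT.getD s []

/-- the second words of the commutator expressions -/
def kwF (s : ℕ) : List ℕ := kwT.getD s []

theorem sData_F : ∀ p ∈ A.sData, p.1 < 12 ∧ p.1 < invS A.cIV p.1 ∧ hwF p.1 = p.2.1 ∧ kwF p.1 = p.2.2 := by
  decide +kernel

theorem F_sData : ∀ s < 12, s < invS A.cIV s → (s, hwF s, kwF s) ∈ A.sData := by
  intro s hs hp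
  interval_cases s <;> first | exact absurd hp (by decide) | decide +kernel

theorem upper {Γ : Type u} [Group Γ] [Finite Γ] (σ : Γ →* Gc) (hσ : Cfsg.IsStemExtension σ) :
    ∃ π : Multiplicative (ZMod 2) →* σ.ker, Function.Surjective π := by
  obtain ⟨hsurj, hcen, hder⟩ := hσ
  obtain ⟨v', h1, h2, h3, h4⟩ := exists_lifts σ hsurj hcen 12 A.cIV (by decide) A.hiv A.hne vG vG_inv vG_ge
    hwF kwF (fun s hs hp => vG_S _ (F_sData s hs hp))
  have hS : ∀ p ∈ A.sData, v' p.1 = ⁅wprod v' p.2.1, wprod v' p.2.2⁆ := by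
    intro p hp
    obtain ⟨a, b, c, d⟩ := sData_F p hp
    have := h4 p.1 a b
    rwa [c, d] at this
  have hfun : (fun s => σ (v' s)) = vG := funext h1
  have hC : ∀ r ∈ A.rels, ∀ x ∈ A.posL, Commute (wprod v' r) (v' x) := by
    intro r hr x _
    have hz : wprod v' r ∈ Subgroup.center Γ := by
      apply hcen
      rw [MonoidHom.mem_ker, map_wprod, hfun]
      exact vG_rels r hr
    exact ((Subgroup.mem_center_iff.1 hz) (v' x)).symm
  have hbase : ∀ b ∈ A.baseL, wprod v' b = 1 := by
    rw [A.baseL_eq]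
    exact baseOf_holds v' A.cIV 12 h2 A.sData A.rels A.posL A.hSl A.hRl A.hPl hS hC
  obtain ⟨ρ, hρ'⟩ := WPres.hlift 12 A.baseL A.hlet v' hbase
  have hρ : ∀ x < 12, ρ (A.v x) = v' x := hρ'
  have hcomp : σ.comp ρ = piG := by
    apply WPres.hom_ext
    intro x hx
    rw [MonoidHom.comp_apply]
    show σ (ρ (A.v x)) = piG (A.v x)
    rw [hρ x hx, h1, piG_v x hx]
  have hgen : ∀ γ : Γ, γ ∈ Subgroup.closure {y | ∃ s < 12, y = v' s} := by
    apply closure_lifts σ hcen hder 12 v'
    intro x
    have : {y | ∃ s < 12, y = σ (v' s)} = {y | ∃ s < 12, y = vG s} := by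
      ext y
      constructor
      · rintro ⟨s, hs, rfl⟩; exact ⟨s, hs, h1 s⟩
      · rintro ⟨s, hs, rfl⟩; exact ⟨s, hs, (h1 s).symm⟩
    rw [this]
    exact vG_gen x
  have hρsurj : Function.Surjective ρ := by
    intro γ
    have hle : Subgroup.closure {y | ∃ s < 12, y = v' s} ≤ ρ.range := by
      rw [Subgroup.closure_le]
      rintro y ⟨s, hs, rfl⟩
      exact ⟨A.v s, hρ s hs⟩
    exact hle (hgen γ)
  have hzk : ρ zQ ∈ σ.ker := by
    rw [MonoidHom.mem_ker, ← MonoidHom.comp_apply, hcomp]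
    exact zQ_mem_ker
  refine Cfsg.Agent.Lib.Helper21.exists_surj_of_cyclic 2 (⟨ρ zQ, hzk⟩ : σ.ker) ?_ ?_
  · apply Subtype.ext
    rw [Subgroup.coe_pow]
    show ρ zQ ^ 2 = 1
    rw [← map_pow, zQ_pow_two, map_one]
  · intro k
    obtain ⟨a, ha⟩ := hρsurj k.1
    have hak : a ∈ piG.ker := by
      rw [MonoidHom.mem_ker, ← hcomp, MonoidHom.comp_apply, ha]
      exact k.2
    obtain ⟨j, hj⟩ := Subgroup.mem_zpowers_iff.1 ((mem_ker_iff a).1 hak)
    refine Subgroup.mem_zpowers_iff.2 ⟨j, ?_⟩
    apply Subtype.ext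
    rw [Subgroup.coe_zpow]
    show ρ zQ ^ j = k.1
    rw [← map_zpow, hj, ha]

/-- the Schur multiplier of the Chevalley group of type `G₂` over a field with four elements -/
theorem g24_multiplier {F : Type u} [Field F] [Fintype F] (hF : Fintype.card F = 4) :
    Cfsg.HasCyclicSchurMultiplier ↥(Cfsg.Lie.chevG2.group F) 2 := by
  have φ : K ≃+* F := FiniteField.ringEquivOfCardEq (by rw [hF]; decide)
  obtain ⟨e⟩ := h8group_ringEquiv chevG2 h8base_G2 h8base_G2 φ
  exact Cfsg.Agent.Lib.Helper5.Stem.hasSchurMultiplier_of_equiv e.symm _ exists_stem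
    (fun Γ _ _ σ hσ => upper σ hσ)

end Cfsg.Agent.Lib.Helper3.G24Mult
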