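import Mathlib
import Cfsg.Agent.Lib.helper3.GolayOrbits
import Cfsg.Agent.Lib.helper3.GolayModule
import Cfsg.Agent.Lib.helper3.GolayPerm

set_option autoImplicit false

/-! Linear groups on the Golay code with the orbits of the Mathieu group. -/

namespace Cfsg.Agent.Lib.helper3

open Cfsg

/-- the codeword with index `k` -/
def cwk (k : ℕ) : ↥golayCode := ⟨gword (golayMask k), golayMask_mem k⟩

theorem cwk_xor (k k' : ℕ) : cwk (k ^^^ k') = cwk k + cwk k' := by
  apply Subtype.ext
  show gword (golayMask (k ^^^ k')) = gword (golayMask k) + gword (golayMask k')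
  rw [golayMask_xor, gword_xor]

theorem cwk_zero : cwk 0 = 0 := by
  apply Subtype.ext
  show gword (golayMask 0) = 0
  rw [golayMask, xcombo_zero, gword_zero]

theorem exists_cwk (c : ↥golayCode) : ∃ k, k < 4096 ∧ c = cwk k := by
  obtain ⟨k, hk, h⟩ := (mem_golayCode_iff c.1).mp c.2
  exact ⟨k, hk, Subtype.ext h⟩

theorem cwk_ones : (cwk 4095).1 = fun _ => (1 : ZMod 2) := by
  show gword (golayMask 4095) = _
  have : golayMask 4095 = 16777215 := by decide
  rw [this, ← one_word_eq]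
  rfl

theorem cwk_ones_add_self : cwk 4095 + cwk 4095 = 0 := by
  rw [← cwk_xor, Nat.xor_self, cwk_zero]

theorem wt_cwk (k : ℕ) : hammingNorm (cwk k).1 = popc (golayMask k) := hammingNorm_gword _

/-- equality of codewords up to adding the all-ones word -/
def EqM (c c' : ↥golayCode) : Prop := c = c' ∨ c = c' + cwk 4095

theorem EqM.refl (c : ↥golayCode) : EqM c c := Or.inl rfl

theorem EqM.add {c c' d d' : ↥golayCode} (h : EqM c c') (h' : EqM d d') :
    EqM (c + d) (c' + d') := by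
  rcases h with rfl | rfl <;> rcases h' with rfl | rfl
  · exact Or.inl rfl
  · right
    abel
  · right
    abel
  · left
    have : c' + cwk 4095 + (d' + cwk 4095) = c' + d' + (cwk 4095 + cwk 4095) := by abel
    rw [this, cwk_ones_add_self, add_zero]

theorem EqM.map {c c' : ↥golayCode} (h : EqM c c') (z : ↥golayCode ≃ₗ[ZMod 2] ↥golayCode)
    (hz : z (cwk 4095) = cwk 4095) : EqM (z c) (z c') := by
  rcases h with rfl | rfl
  · exact Or.inl rfl
  · right
    rw [map_add, hz]

/-- all xor-combinations of a list of indices -/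
def xorSpan : List ℕ → List ℕ
  | [] => [0]
  | a :: l => xorSpan l ++ (xorSpan l).map (fun u => u ^^^ a)

theorem eqM_xorSpan (y : ↥golayCode ≃ₗ[ZMod 2] ↥golayCode) (l : List ℕ)
    (h : ∀ j ∈ l, EqM (y (cwk j)) (cwk j)) : ∀ u ∈ xorSpan l, EqM (y (cwk u)) (cwk u) := by
  induction l with
  | nil =>
    intro u hu
    rw [xorSpan, List.mem_singleton] at hu
    subst hu
    rw [cwk_zero, map_zero]
    exact EqM.refl _
  | cons a l ih =>
    intro u hu
    have ih' := ih (fun j hj => h j (List.mem_cons_of_mem _ hj))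
    rw [xorSpan, List.mem_append, List.mem_map] at hu
    rcases hu with hu | ⟨v, hv, rfl⟩
    · exact ih' u hu
    · rw [cwk_xor, map_add]
      exact (ih' v hv).add (h a List.mem_cons_self)

theorem eqM_xcombo (y : ↥golayCode ≃ₗ[ZMod 2] ↥golayCode) (l : List ℕ)
    (h : ∀ j ∈ l, EqM (y (cwk j)) (cwk j)) : ∀ s, EqM (y (cwk (xcombo l s))) (cwk (xcombo l s)) := by
  induction l with
  | nil =>
    intro s
    rw [xcombo, cwk_zero, map_zero]
    exact EqM.refl _
  | cons a l ih =>
    intro s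
    have ih' := ih (fun j hj => h j (List.mem_cons_of_mem _ hj)) (s / 2)
    rw [xcombo, cwk_xor, map_add]
    refine EqM.add ?_ ih'
    split_ifs
    · exact h a List.mem_cons_self
    · rw [cwk_zero, map_zero]
      exact EqM.refl _

/-- two codewords have the same weight up to complementation -/
def WT (c c' : ↥golayCode) : Prop :=
  hammingNorm c.1 = hammingNorm c'.1 ∨ hammingNorm c.1 + hammingNorm c'.1 = 24

set_option maxRecDepth 100000 in
theorem popc_compl_idx : ∀ k : Fin 4096,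
    popc (golayMask (k.val ^^^ 4095)) + popc (golayMask k.val) = 24 := by decide +kernel

theorem wt_add_ones (c : ↥golayCode) :
    hammingNorm (c + cwk 4095).1 + hammingNorm c.1 = 24 := by
  obtain ⟨k, hk, rfl⟩ := exists_cwk c
  rw [← cwk_xor, wt_cwk, wt_cwk]
  exact popc_compl_idx ⟨k, hk⟩

theorem WT.of_eqM {c c' d : ↥golayCode} (h : EqM c c') (hw : WT c d) : WT c' d := by
  rcases h with rfl | rfl
  · exact hw
  · have := wt_add_ones c'
    unfold WT at hw ⊢
    rcases hw with hw | hw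
    · right; omega
    · left; omega

/-- the boolean weight test on indices -/
def Tb (a b : ℕ) : Bool :=
  decide (popc (golayMask a) = popc (golayMask b) ∨ popc (golayMask a) + popc (golayMask b) = 24)

theorem Tb_of_WT {a b : ℕ} (h : WT (cwk a) (cwk b)) : Tb a b = true := by
  unfold WT at h
  rw [wt_cwk, wt_cwk] at h
  unfold Tb
  exact decide_eq_true h

/-- the hypotheses on the group, in normal form -/
structure G49Hyp (X : Subgroup (↥golayCode ≃ₗ[ZMod 2] ↥golayCode)) : Prop where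
  ones : ∀ x ∈ X, x (cwk 4095) = cwk 4095
  perm : ∀ σ ∈ M24, ∃ x ∈ X, ∀ c : ↥golayCode, (x c).1 = act σ c.1
  wt : ∀ x ∈ X, ∀ c : ↥golayCode, WT (x c) c

theorem g49_step {X : Subgroup (↥golayCode ≃ₗ[ZMod 2] ↥golayCode)} (hX : G49Hyp X)
    (F U : List ℕ) (κ : ℕ) (hU : ∀ u ∈ U, u ∈ xorSpan F)
    (H : ∀ k < 4096, (∀ u ∈ U, Tb (k ^^^ u) (κ ^^^ u) = true) →
      ∃ τ ∈ M24, (∀ j ∈ F, act τ (cwk j).1 = (cwk j).1) ∧
        (act τ (cwk κ).1 = (cwk k).1 ∨ act τ (cwk κ).1 = (cwk (k ^^^ 4095)).1))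
    (y : ↥golayCode ≃ₗ[ZMod 2] ↥golayCode) (hy : y ∈ X)
    (hfix : ∀ j ∈ F, EqM (y (cwk j)) (cwk j)) :
    ∃ τ ∈ M24, ∃ y' ∈ X, (∀ c, (y c).1 = act τ (y' c).1) ∧
      ∀ j ∈ κ :: F, EqM (y' (cwk j)) (cwk j) := by
  obtain ⟨k, hk, hyk⟩ := exists_cwk (y (cwk κ))
  have hspan := eqM_xorSpan y F hfix
  have hT : ∀ u ∈ U, Tb (k ^^^ u) (κ ^^^ u) = true := by
    intro u hu
    apply Tb_of_WT
    have h1 : EqM (y (cwk (κ ^^^ u))) (cwk (k ^^^ u)) := by
      rw [cwk_xor, map_add, cwk_xor, hyk]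
      exact (EqM.refl _).add (hspan u (hU u hu))
    exact WT.of_eqM h1 (hX.wt y hy _)
  obtain ⟨τ, hτ, hτfix, hτκ⟩ := H k hk hT
  obtain ⟨xτ, hxτ, hxτact⟩ := hX.perm τ hτ
  have hinv : xτ⁻¹ ∈ X := X.inv_mem hxτ
  have hcancel : ∀ c, xτ (xτ⁻¹ c) = c := by
    intro c
    rw [← LinearEquiv.mul_apply, mul_inv_cancel]
    rfl
  have hcancel' : ∀ c, xτ⁻¹ (xτ c) = c := by
    intro c
    rw [← LinearEquiv.mul_apply, inv_mul_cancel]
    rfl
  refine ⟨τ, hτ, xτ⁻¹ * y, X.mul_mem hinv hy, fun c => ?_, ?_⟩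
  · rw [← hxτact, LinearEquiv.mul_apply, hcancel]
  · intro j hj
    rw [LinearEquiv.mul_apply]
    rcases List.mem_cons.mp hj with rfl | hjF
    · rw [hyk]
      rcases hτκ with h | h
      · have : xτ (cwk j) = cwk k := Subtype.ext (by rw [hxτact, h])
        rw [← this, hcancel']
        exact EqM.refl _
      · have : xτ (cwk j + cwk 4095) = cwk k := by
          rw [map_add, hX.ones xτ hxτ]
          have h2 : xτ (cwk j) = cwk k + cwk 4095 := by
            rw [← cwk_xor]
            exact Subtype.ext (by rw [hxτact, h])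
          rw [h2, add_assoc, cwk_ones_add_self, add_zero]
        rw [← this, hcancel']
        exact Or.inr rfl
    · have h2 : xτ (cwk j) = cwk j := Subtype.ext (by rw [hxτact, hτfix j hjF])
      have h3 : xτ⁻¹ (cwk j) = cwk j := by
        conv_lhs => rw [← h2]
        exact hcancel' _
      have := (hfix j hjF).map xτ⁻¹ (hX.ones _ hinv)
      rw [h3] at this
      exact this

/-- boolean check of one table entry -/
def g49EntryOK (F : List ℕ) (κ : ℕ) (e : ℕ × List ℕ) : Bool :=
  tblCheck e.2 && F.all (fun j => permMask e.2 (golayMask j) == golayMask j) &&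
    (permMask e.2 (golayMask κ) == golayMask e.1)

/-- boolean check that the weight conditions force a listed target -/
def g49LevelOK (U : List ℕ) (κ : ℕ) (cands : List (ℕ × List ℕ)) (k : ℕ) : Bool :=
  !(U.all (fun u => Tb (k ^^^ u) (κ ^^^ u))) ||
    cands.any (fun e => e.1 == k || e.1 == k ^^^ 4095)

theorem g49_H_of_tables (F U : List ℕ) (κ : ℕ) (cands : List (ℕ × List ℕ))
    (h1 : cands.all (g49EntryOK F κ) = true)
    (h2 : (List.range 4096).all (g49LevelOK U κ cands) = true) :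
    ∀ k < 4096, (∀ u ∈ U, Tb (k ^^^ u) (κ ^^^ u) = true) →
      ∃ τ ∈ M24, (∀ j ∈ F, act τ (cwk j).1 = (cwk j).1) ∧
        (act τ (cwk κ).1 = (cwk k).1 ∨ act τ (cwk κ).1 = (cwk (k ^^^ 4095)).1) := by
  intro k hk hT
  rw [List.all_eq_true] at h1 h2
  have h3 := h2 k (List.mem_range.mpr hk)
  unfold g49LevelOK at h3
  have hall : U.all (fun u => Tb (k ^^^ u) (κ ^^^ u)) = true := by
    rw [List.all_eq_true]
    exact hT
  rw [hall] at h3
  simp only [Bool.not_true, Bool.false_or, List.any_eq_true, Bool.or_eq_true, beq_iff_eq] at h3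
  obtain ⟨e, he, hek⟩ := h3
  have h4 := h1 e he
  unfold g49EntryOK at h4
  simp only [Bool.and_eq_true, List.all_eq_true, beq_iff_eq] at h4
  obtain ⟨⟨hchk, hfix⟩, hκ⟩ := h4
  obtain ⟨g, hg, hgt⟩ := exists_perm_of_tblCheck hchk
  obtain ⟨hlen, hlt, _, _⟩ := tblCheck_spec hchk
  refine ⟨g⁻¹, M24.inv_mem hg, fun j hj => ?_, ?_⟩
  · show act g⁻¹ (gword (golayMask j)) = gword (golayMask j)
    rw [act_inv_gword hlt hlen g hgt, hfix j hj]
  · have : act g⁻¹ (cwk κ).1 = (cwk e.1).1 := by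
      show act g⁻¹ (gword (golayMask κ)) = gword (golayMask e.1)
      rw [act_inv_gword hlt hlen g hgt, hκ]
    rw [this]
    rcases hek with h | h
    · left; rw [h]
    · right; rw [h]

end Cfsg.Agent.Lib.helper3
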