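import Mathlib
import Cfsg.Agent.Lib.helper3.G49Data

set_option autoImplicit false

/-! A linear group on the Golay code with the orbits of the Mathieu group induces the Mathieu
group modulo the all-ones word. -/

namespace Cfsg.Agent.Lib.helper3

open Cfsg
open scoped Pointwise

theorem act_gword_of_smul_gset {g : Equiv.Perm GolayPt} {m m' : ℕ}
    (h : g • gset m = gset m') : act g (gword m) = gword m' := by
  apply eq_of_support₂_eq
  rw [support₂_act, support₂_gword, support₂_gword, h]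

theorem g49_level0 : ∀ k < 4096, (∀ u ∈ [0], Tb (k ^^^ u) (1 ^^^ u) = true) →
    ∃ τ ∈ M24, (∀ j ∈ ([] : List ℕ), act τ (cwk j).1 = (cwk j).1) ∧
      (act τ (cwk 1).1 = (cwk k).1 ∨ act τ (cwk 1).1 = (cwk (k ^^^ 4095)).1) := by
  intro k hk hT
  have h0 := hT 0 List.mem_cons_self
  rw [Nat.xor_zero, Nat.xor_zero] at h0
  unfold Tb at h0
  have h1 : popc (golayMask 1) = 8 := by decide
  rw [h1] at h0
  have h2 := of_decide_eq_true h0
  have ho1 : gset (golayMask 1) ∈ octads := gset_mem_octads (golayMask_mem 1) h1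
  have key : ∀ k', popc (golayMask k') = 8 → ∃ τ ∈ M24, act τ (cwk 1).1 = (cwk k').1 := by
    intro k' hk'
    have ho : gset (golayMask k') ∈ octads := gset_mem_octads (golayMask_mem k') hk'
    obtain ⟨g, hg⟩ := octads_transitive ho1 ho
    exact ⟨g.1, g.2, act_gword_of_smul_gset hg⟩
  rcases h2 with h2 | h2
  · obtain ⟨τ, hτ, h⟩ := key k h2
    exact ⟨τ, hτ, fun j hj => absurd hj List.not_mem_nil, Or.inl h⟩
  · have h3 := popc_compl_idx ⟨k, hk⟩
    simp only at h3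
    obtain ⟨τ, hτ, h⟩ := key (k ^^^ 4095) (by omega)
    exact ⟨τ, hτ, fun j hj => absurd hj List.not_mem_nil, Or.inr h⟩

theorem g49_levels {X : Subgroup (↥golayCode ≃ₗ[ZMod 2] ↥golayCode)} (hX : G49Hyp X)
    (x : ↥golayCode ≃ₗ[ZMod 2] ↥golayCode) (hx : x ∈ X) (i : ℕ) (hi : i ≤ 11) :
    ∃ σ ∈ M24, ∃ y ∈ X, (∀ c, (x c).1 = act σ (y c).1) ∧
      ∀ j ∈ g49F i, EqM (y (cwk j)) (cwk j) := by
  induction i with
  | zero =>
    exact ⟨1, M24.one_mem, x, hx, fun c => rfl, fun j hj => absurd hj List.not_mem_nil⟩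
  | succ i ih =>
    obtain ⟨σ, hσ, y, hy, hxy, hfix⟩ := ih (by omega)
    have hi' : i < 11 := by omega
    have hstep : ∃ τ ∈ M24, ∃ y' ∈ X, (∀ c, (y c).1 = act τ (y' c).1) ∧
        ∀ j ∈ g49K.getD i 0 :: g49F i, EqM (y' (cwk j)) (cwk j) := by
      rcases Nat.eq_zero_or_pos i with rfl | hpos
      · exact g49_step hX [] [0] 1 (fun u hu => hu) g49_level0 y hy hfix
      · obtain ⟨i', rfl⟩ : ∃ i', i = i' + 1 := ⟨i - 1, by omega⟩
        have hi10 : i' < 10 := by omega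
        exact g49_step hX (g49F (i' + 1)) (g49U.getD i' []) (g49K.getD (i' + 1) 0)
          (g49U_sub ⟨i', hi10⟩)
          (g49_H_of_tables _ _ _ _ (g49Cands_ok ⟨i', hi10⟩) (g49Cands_complete ⟨i', hi10⟩))
          y hy hfix
    obtain ⟨τ, hτ, y', hy', hyy', hfix'⟩ := hstep
    refine ⟨σ * τ, M24.mul_mem hσ hτ, y', hy', fun c => ?_, ?_⟩
    · rw [hxy, hyy']
      rfl
    · have := g49F_succ ⟨i, hi'⟩
      simp only at this
      rw [this]
      exact hfix'

theorem g49_main {X : Subgroup (↥golayCode ≃ₗ[ZMod 2] ↥golayCode)} (hX : G49Hyp X)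
    (x : ↥golayCode ≃ₗ[ZMod 2] ↥golayCode) (hx : x ∈ X) :
    ∃ σ ∈ M24, ∀ c : ↥golayCode, (x c).1 = act σ c.1 ∨
      (x c).1 = act σ c.1 + fun _ => (1 : ZMod 2) := by
  obtain ⟨σ, hσ, y, hy, hxy, hfix⟩ := g49_levels hX x hx 11 le_rfl
  refine ⟨σ, hσ, fun c => ?_⟩
  have hall : ∀ j ∈ 4095 :: g49K, EqM (y (cwk j)) (cwk j) := by
    intro j hj
    rcases List.mem_cons.mp hj with rfl | hj
    · rw [hX.ones y hy]
      exact EqM.refl _
    · apply hfix
      rw [g49F_last, List.mem_reverse]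
      exact hj
  obtain ⟨u, hu, rfl⟩ := exists_cwk c
  have h1 := eqM_xcombo y _ hall (xcombo g49Inv u)
  have h2 := g49_span ⟨u, hu⟩
  simp only at h2
  rw [h2] at h1
  rw [hxy]
  rcases h1 with h1 | h1
  · left
    rw [h1]
  · right
    rw [h1]
    show act σ ((cwk u).1 + (cwk 4095).1) = _
    rw [act_add, cwk_ones]
    rfl

end Cfsg.Agent.Lib.helper3
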