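import Mathlib

set_option autoImplicit false

namespace Cfsg.Agent.Lib.helper3

open Matrix

theorem nine_arith : ∀ r : Fin 9, 0 < r.val → ∃ j t : Fin 9, r.val * j.val = 9 * t.val + 3 := by
  decide

/-- for a permutation whose ninth power is trivial, the number of points moved by its cube is
divisible by nine -/
theorem nine_dvd_card_moved {α : Type*} [Fintype α] [DecidableEq α] (P : Equiv.Perm α)
    (h9 : P ^ 9 = 1) : 9 ∣ Nat.card {v : α // (P ^ 3) v ≠ v} := by
  by_cases hX : IsEmpty {v : α // (P ^ 3) v ≠ v}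
  · rw [Nat.card_of_isEmpty]
    exact dvd_zero 9
  rw [not_isEmpty_iff] at hX
  obtain ⟨⟨v₀, hv₀⟩⟩ := hX
  have h3 : ¬ P ^ 3 ^ 1 = 1 := by
    intro h
    rw [pow_one] at h
    apply hv₀
    rw [h]
    rfl
  have hord : orderOf P = 9 := by
    have := orderOf_eq_prime_pow (p := 3) (n := 1) h3 (by norm_num; exact h9)
    rw [this]
    norm_num
  -- the sub-action on the moved points
  let Y : SubMulAction (Subgroup.zpowers P) α :=
    { carrier := {v | (P ^ 3) v ≠ v}
      smul_mem' := by
        rintro ⟨σ, hσ⟩ v hv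
        obtain ⟨k, rfl⟩ := Subgroup.mem_zpowers_iff.1 hσ
        change (P ^ 3) ((P ^ k) v) ≠ (P ^ k) v
        intro h
        apply hv
        have hc : (P ^ 3) ((P ^ k) v) = (P ^ k) ((P ^ 3) v) := by
          rw [← Equiv.Perm.mul_apply, ← Equiv.Perm.mul_apply]
          congr 1
          exact ((Commute.refl P).pow_left 3).zpow_right k |>.eq
        rw [hc] at h
        exact (P ^ k).injective h }
  have hfree : ∀ b : Y, MulAction.stabilizer (Subgroup.zpowers P) b = ⊥ := by
    rintro ⟨v, hv⟩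
    rw [eq_bot_iff]
    rintro ⟨σ, hσ⟩ hστ
    rw [MulAction.mem_stabilizer_iff] at hστ
    have hσv : σ v = v := congrArg Subtype.val hστ
    rw [Subgroup.mem_bot]
    apply Subtype.ext
    change σ = 1
    have hσ' : σ ∈ Submonoid.powers P := (mem_powers_iff_mem_zpowers).2 hσ
    rw [mem_powers_iff_mem_range_orderOf, hord, Finset.mem_image] at hσ'
    obtain ⟨r, hr, rfl⟩ := hσ'
    rw [Finset.mem_range] at hr
    by_contra hne
    have hr0 : 0 < r := by
      rcases Nat.eq_zero_or_pos r with h | h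
      · exfalso; apply hne; rw [h, pow_zero]
      · exact h
    obtain ⟨j, t, hjt⟩ := nine_arith ⟨r, hr⟩ hr0
    simp only at hjt
    have hP3 : P ^ 3 = (P ^ r) ^ j.val := by
      rw [← pow_mul, hjt, pow_add, pow_mul, h9, one_pow, one_mul]
    apply hv
    change (P ^ 3) v = v
    rw [hP3]
    have : ∀ n : ℕ, ((P ^ r) ^ n) v = v := by
      intro n
      induction n with
      | zero => rfl
      | succ n ih => rw [pow_succ, Equiv.Perm.mul_apply, hσv, ih]
    exact this _
  have e := MulAction.selfEquivOrbitsQuotientProd hfree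
  have hc : Nat.card Y = Nat.card (Quotient (MulAction.orbitRel (Subgroup.zpowers P) Y)) *
      Nat.card (Subgroup.zpowers P) := by
    rw [Nat.card_congr e, Nat.card_prod]
  rw [Nat.card_zpowers, hord] at hc
  have hY : Nat.card Y = Nat.card {v : α // (P ^ 3) v ≠ v} := rfl
  rw [← hY, hc]
  exact dvd_mul_left _ _

/-- the permutation of the vectors of `F₂^5` given by an invertible matrix -/
def glPerm : GL (Fin 5) (ZMod 2) →* Equiv.Perm (Fin 5 → ZMod 2) where
  toFun g :=
    { toFun := fun v => (g : Matrix (Fin 5) (Fin 5) (ZMod 2)) *ᵥ v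
      invFun := fun v => ((g⁻¹ : GL (Fin 5) (ZMod 2)) : Matrix (Fin 5) (Fin 5) (ZMod 2)) *ᵥ v
      left_inv := fun v => by
        show ((g⁻¹ : GL (Fin 5) (ZMod 2)) : Matrix (Fin 5) (Fin 5) (ZMod 2)) *ᵥ
          ((g : Matrix (Fin 5) (Fin 5) (ZMod 2)) *ᵥ v) = v
        rw [Matrix.mulVec_mulVec, ← Units.val_mul, inv_mul_cancel, Units.val_one,
          Matrix.one_mulVec]
      right_inv := fun v => by
        show (g : Matrix (Fin 5) (Fin 5) (ZMod 2)) *ᵥ
          (((g⁻¹ : GL (Fin 5) (ZMod 2)) : Matrix (Fin 5) (Fin 5) (ZMod 2)) *ᵥ v) = v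
        rw [Matrix.mulVec_mulVec, ← Units.val_mul, mul_inv_cancel, Units.val_one,
          Matrix.one_mulVec] }
  map_one' := by
    ext v
    simp
  map_mul' g h := by
    ext v
    simp [Matrix.mulVec_mulVec]

theorem glPerm_apply (g : GL (Fin 5) (ZMod 2)) (v : Fin 5 → ZMod 2) :
    glPerm g v = (g : Matrix (Fin 5) (Fin 5) (ZMod 2)) *ᵥ v := rfl

/-- the general linear group of degree five over the field of order two has no element of
order nine -/
theorem GL52_pow_three (g : GL (Fin 5) (ZMod 2)) (h9 : g ^ 9 = 1) : g ^ 3 = 1 := by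
  classical
  have hP9 : glPerm g ^ 9 = 1 := by rw [← map_pow, h9, map_one]
  have hdvd := nine_dvd_card_moved (glPerm g) hP9
  -- the fixed space of the cube
  set B : Matrix (Fin 5) (Fin 5) (ZMod 2) := ((g ^ 3 : GL (Fin 5) (ZMod 2)) :
    Matrix (Fin 5) (Fin 5) (ZMod 2)) with hB
  set V₀ : Submodule (ZMod 2) (Fin 5 → ZMod 2) := LinearMap.ker (Matrix.toLin' B - LinearMap.id)
    with hV₀
  have hmem : ∀ v, v ∈ V₀ ↔ (glPerm g ^ 3) v = v := by
    intro v
    rw [hV₀, LinearMap.mem_ker, LinearMap.sub_apply, Matrix.toLin'_apply, LinearMap.id_apply,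
      sub_eq_zero, ← map_pow, glPerm_apply]
  by_contra hne
  have hV₀top : V₀ ≠ ⊤ := by
    intro htop
    apply hne
    apply Units.ext
    rw [Units.val_one]
    apply Matrix.mulVec_injective
    funext v
    have : v ∈ V₀ := by rw [htop]; exact Submodule.mem_top
    rw [hmem, ← map_pow, glPerm_apply] at this
    rw [Matrix.one_mulVec]
    exact this
  have hd : Module.finrank (ZMod 2) V₀ < 5 := by
    have h1 := Submodule.finrank_lt hV₀top
    rw [Module.finrank_fintype_fun_eq_card, Fintype.card_fin] at h1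
    exact h1
  have hc0 : Nat.card V₀ = 2 ^ Module.finrank (ZMod 2) V₀ := by
    have := Module.natCard_eq_pow_finrank (K := ZMod 2) (V := V₀)
    rw [this]
    simp
  have hcV : Nat.card (Fin 5 → ZMod 2) = 32 := by
    rw [Nat.card_eq_fintype_card]
    simp [ZMod.card]
  -- count
  have hsplit : Nat.card (Fin 5 → ZMod 2) =
      Nat.card V₀ + Nat.card {v : Fin 5 → ZMod 2 // (glPerm g ^ 3) v ≠ v} := by
    have e1 : V₀ ≃ {v : Fin 5 → ZMod 2 // (glPerm g ^ 3) v = v} :=
      Equiv.subtypeEquivRight hmem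
    rw [Nat.card_congr e1, ← Nat.card_sum]
    exact (Nat.card_congr (Equiv.sumCompl fun v : Fin 5 → ZMod 2 => (glPerm g ^ 3) v = v)).symm
  rw [hcV, hc0] at hsplit
  obtain ⟨c, hc⟩ := hdvd
  rw [hc] at hsplit
  interval_cases h : Module.finrank (ZMod 2) V₀ <;> omega

end Cfsg.Agent.Lib.helper3
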