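import Mathlib
import Cfsg.Prelude.Def_Sporadic_a
import Cfsg.Agent.Lib.helper3.Golay

set_option autoImplicit false

namespace Cfsg.Agent.Lib.helper3

open Cfsg

/-- the punctured code of length 23 -/
def golay23 : Set (ZMod 23 → ZMod 2) :=
  {u | ∃ w ∈ golayCode, ∀ x : ZMod 23, u x = w (some x)}

/-- the punctured word with index `k` -/
def pword (k : ℕ) : ZMod 23 → ZMod 2 := fun x => gword (golayMask k) (some x)

/-- number of set bits among the lowest 23 -/
def popc23 (m : ℕ) : ℕ := popcAux 23 m

theorem golay23_eq : golay23 = pword '' {k | k < 4096} := by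
  ext u
  constructor
  · rintro ⟨w, hw, hu⟩
    obtain ⟨k, hk, rfl⟩ := (mem_golayCode_iff w).1 hw
    exact ⟨k, hk, funext fun x => (hu x).symm⟩
  · rintro ⟨k, _, rfl⟩
    exact ⟨gword (golayMask k), golayMask_mem k, fun _ => rfl⟩

theorem hammingNorm_pword (k : ℕ) : hammingNorm (pword k) = popc23 (golayMask k) := by
  unfold hammingNorm popc23
  rw [popcAux_eq, Finset.card_filter]
  have : ∑ x : ZMod 23, (if (golayMask k).testBit (gidx (some x)) then 1 else 0) =
      ∑ i ∈ Finset.range 23, if (golayMask k).testBit i then 1 else 0 :=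
    Fin.sum_univ_eq_sum_range (fun i => if (golayMask k).testBit i then 1 else 0) 23
  rw [← this]
  apply Finset.sum_congr rfl
  intro x _
  simp only [pword, gword]
  by_cases h : (golayMask k).testBit (gidx (some x)) = true <;> simp [h]

theorem pword_injOn : Set.InjOn pword {k | k < 4096} := by
  intro k hk k' hk' h
  have hk1 := golayMask_low ⟨k, hk⟩
  have hk2 := golayMask_low ⟨k', hk'⟩
  simp only at hk1 hk2
  have : golayMask k % 4096 = golayMask k' % 4096 := by
    apply Nat.eq_of_testBit_eq
    intro i
    have e : (4096 : ℕ) = 2 ^ 12 := by norm_num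
    rw [e, Nat.testBit_mod_two_pow, Nat.testBit_mod_two_pow]
    by_cases hi : i < 12
    · simp only [hi, decide_true, Bool.true_and]
      have hx := congrFun h ((i : ℕ) : ZMod 23)
      simp only [pword, gword] at hx
      have hv : gidx (some ((i : ℕ) : ZMod 23)) = i := by
        simp only [gidx]
        exact ZMod.val_natCast_of_lt (by omega)
      rw [hv] at hx
      cases ha : (golayMask k).testBit i <;> cases hb : (golayMask k').testBit i <;> simp_all
    · simp [hi]
  rw [hk1, hk2] at this
  exact this

theorem ncard_golay23 : golay23.ncard = 4096 := by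
  rw [golay23_eq, Set.InjOn.ncard_image pword_injOn]
  have : {k : ℕ | k < 4096} = ((Finset.range 4096 : Finset ℕ) : Set ℕ) := by
    ext k
    simp
  rw [this, Set.ncard_coe_finset, Finset.card_range]

theorem ncard_golay23_weight (n : ℕ) :
    {u : ZMod 23 → ZMod 2 | u ∈ golay23 ∧ hammingNorm u = n}.ncard =
      ((Finset.range 4096).filter fun k => popc23 (golayMask k) = n).card := by
  have e : {u : ZMod 23 → ZMod 2 | u ∈ golay23 ∧ hammingNorm u = n} =
      pword '' {k | k < 4096 ∧ popc23 (golayMask k) = n} := by
    ext u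
    rw [golay23_eq]
    constructor
    · rintro ⟨⟨k, hk, rfl⟩, hn⟩
      rw [hammingNorm_pword] at hn
      exact ⟨k, ⟨hk, hn⟩, rfl⟩
    · rintro ⟨k, ⟨hk, hn⟩, rfl⟩
      exact ⟨⟨k, hk, rfl⟩, by rw [hammingNorm_pword]; exact hn⟩
  rw [e, Set.InjOn.ncard_image (pword_injOn.mono (fun k hk => hk.1)), ← Set.ncard_coe_finset]
  congr 1
  ext k
  simp

set_option maxRecDepth 1000000 in
theorem count23_7 : ((Finset.range 4096).filter fun k => popc23 (golayMask k) = 7).card = 253 := by
  decide +kernel

set_option maxRecDepth 1000000 in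
theorem count23_8 : ((Finset.range 4096).filter fun k => popc23 (golayMask k) = 8).card = 506 := by
  decide +kernel

set_option maxRecDepth 1000000 in
theorem count23_11 :
    ((Finset.range 4096).filter fun k => popc23 (golayMask k) = 11).card = 1288 := by
  decide +kernel

set_option maxRecDepth 1000000 in
theorem count23_12 :
    ((Finset.range 4096).filter fun k => popc23 (golayMask k) = 12).card = 1288 := by
  decide +kernel

set_option maxRecDepth 1000000 in
theorem count23_15 :
    ((Finset.range 4096).filter fun k => popc23 (golayMask k) = 15).card = 506 := by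
  decide +kernel

set_option maxRecDepth 1000000 in
theorem count23_16 :
    ((Finset.range 4096).filter fun k => popc23 (golayMask k) = 16).card = 253 := by
  decide +kernel

set_option maxRecDepth 1000000 in
theorem min_weight23_mask : ∀ k : Fin 4096, k.val = 0 ∨ 7 ≤ popc23 (golayMask k) := by
  decide +kernel

theorem pword_zero : pword 0 = 0 := by
  funext x
  simp only [pword, golayMask, xcombo_zero, gword_zero]
  rfl

theorem min_weight23 (u : ZMod 23 → ZMod 2) (hu : u ∈ golay23) (h0 : u ≠ 0) :
    7 ≤ hammingNorm u := by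
  rw [golay23_eq] at hu
  obtain ⟨k, hk, rfl⟩ := hu
  rw [hammingNorm_pword]
  rcases min_weight23_mask ⟨k, hk⟩ with h | h
  · exfalso
    simp only at h
    subst h
    exact h0 pword_zero
  · exact h

end Cfsg.Agent.Lib.helper3
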