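import Mathlib
import Cfsg.Prelude.Def_Sporadic_a
import Cfsg.Agent.Lib.helper3.Golay23
import Cfsg.Agent.Lib.helper3.HammingCount

set_option autoImplicit false

namespace Cfsg.Agent.Lib.helper3

open Cfsg Finset

theorem hdist_eq_norm_sub {α : Type*} [Fintype α] (x y : α → ZMod 2) :
    hammingDist x y = hammingNorm (x - y) := by
  simp_rw [hammingNorm, hammingDist, Pi.sub_apply, ne_eq, sub_eq_zero]

theorem golay23_sub_mem {c c' : ZMod 23 → ZMod 2} (hc : c ∈ golay23) (hc' : c' ∈ golay23) :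
    c - c' ∈ golay23 := by
  obtain ⟨w, hw, hu⟩ := hc
  obtain ⟨w', hw', hu'⟩ := hc'
  refine ⟨w - w', golayCode.sub_mem hw hw', ?_⟩
  intro x
  simp only [Pi.sub_apply, hu x, hu' x]

theorem golay23_unique {u c c' : ZMod 23 → ZMod 2} (hc : c ∈ golay23) (hc' : c' ∈ golay23)
    (h : hammingDist u c ≤ 3) (h' : hammingDist u c' ≤ 3) : c = c' := by
  by_contra hne
  have h0 : c - c' ≠ 0 := sub_ne_zero.2 hne
  have h7 := min_weight23 (c - c') (golay23_sub_mem hc hc') h0
  rw [← hdist_eq_norm_sub] at h7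
  have := hammingDist_triangle c u c'
  rw [hammingDist_comm c u] at this
  omega

set_option linter.constructorNameAsVariable false in
theorem golay23_exists (u : ZMod 23 → ZMod 2) : ∃ c ∈ golay23, hammingDist u c ≤ 3 := by
  classical
  set Pf : Finset (ZMod 23 → ZMod 2) := (Finset.range 4096).image pword with hPf
  set B : Finset (ZMod 23 → ZMod 2) := univ.filter (fun e => hammingNorm e ≤ 3) with hB
  have hPfcard : Pf.card = 4096 := by
    rw [hPf, Finset.card_image_of_injOn, Finset.card_range]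
    intro k hk k' hk' h
    rw [Finset.mem_coe, Finset.mem_range] at hk hk'
    exact pword_injOn hk hk' h
  have hBcard : B.card = 2048 := by
    rw [hB, card_hammingNorm_le, ZMod.card]
    simp [Finset.sum_range_succ, Nat.choose]
  have hPfmem : ∀ c ∈ Pf, c ∈ golay23 := by
    intro c hc
    rw [hPf, Finset.mem_image] at hc
    obtain ⟨k, hk, rfl⟩ := hc
    rw [golay23_eq]
    exact ⟨k, Finset.mem_range.1 hk, rfl⟩
  set φ : (ZMod 23 → ZMod 2) × (ZMod 23 → ZMod 2) → (ZMod 23 → ZMod 2) := fun p => p.1 + p.2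
    with hφ
  have hinj : Set.InjOn φ ((Pf ×ˢ B : Finset _) : Set _) := by
    rintro ⟨c, e⟩ hp ⟨c', e'⟩ hp' h
    rw [Finset.mem_coe, Finset.mem_product] at hp hp'
    simp only [hφ] at h
    have hc := hPfmem c hp.1
    have hc' := hPfmem c' hp'.1
    have he : hammingNorm e ≤ 3 := (Finset.mem_filter.1 hp.2).2
    have he' : hammingNorm e' ≤ 3 := (Finset.mem_filter.1 hp'.2).2
    have h1 : hammingDist (c + e) c ≤ 3 := by
      rw [hdist_eq_norm_sub, add_sub_cancel_left]
      exact he
    have h2 : hammingDist (c + e) c' ≤ 3 := by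
      rw [h, hdist_eq_norm_sub, add_sub_cancel_left]
      exact he'
    have hcc := golay23_unique hc hc' h1 h2
    subst hcc
    have : e = e' := add_left_cancel h
    rw [this]
  have himg : (Pf ×ˢ B).image φ = univ := by
    apply Finset.eq_univ_of_card
    rw [Finset.card_image_of_injOn hinj, Finset.card_product, hPfcard, hBcard, Fintype.card_fun,
      ZMod.card, ZMod.card]
    norm_num
  have hu : u ∈ (Pf ×ˢ B).image φ := by rw [himg]; exact Finset.mem_univ _
  rw [Finset.mem_image] at hu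
  obtain ⟨⟨c, e⟩, hp, rfl⟩ := hu
  rw [Finset.mem_product] at hp
  refine ⟨c, hPfmem c hp.1, ?_⟩
  simp only [hφ]
  rw [hdist_eq_norm_sub, add_sub_cancel_left]
  exact (Finset.mem_filter.1 hp.2).2

theorem golay23_perfect (u : ZMod 23 → ZMod 2) :
    ∃! c : ZMod 23 → ZMod 2, c ∈ golay23 ∧ hammingDist u c ≤ 3 := by
  obtain ⟨c, hc, hd⟩ := golay23_exists u
  refine ⟨c, ⟨hc, hd⟩, ?_⟩
  rintro c' ⟨hc', hd'⟩
  exact golay23_unique hc' hc hd' hd

end Cfsg.Agent.Lib.helper3
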