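import Mathlib
import Cfsg.Prelude.Def_Sporadic_a
import Cfsg.Agent.Lib.helper3.Golay
import Cfsg.Agent.Lib.helper3.GolayDim
import Cfsg.Agent.Lib.helper4.GolayOrth

set_option autoImplicit false

namespace Cfsg.Agent.Lib.helper3

open Cfsg

/-- the dot product as a bilinear form on binary words of length 24 -/
noncomputable def dotForm : LinearMap.BilinForm (ZMod 2) (GolayPt → ZMod 2) :=
  Matrix.toBilin' (1 : Matrix GolayPt GolayPt (ZMod 2))

theorem dotForm_apply (v w : GolayPt → ZMod 2) : dotForm v w = ∑ i, v i * w i := by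
  simp [dotForm, Matrix.toBilin'_apply', dotProduct]

theorem dotForm_comm (v w : GolayPt → ZMod 2) : dotForm v w = dotForm w v := by
  rw [dotForm_apply, dotForm_apply]
  exact Finset.sum_congr rfl fun i _ => mul_comm _ _

theorem dotForm_nondeg : dotForm.Nondegenerate :=
  LinearMap.BilinForm.nondegenerate_toBilin'_of_det_ne_zero' 1 (by simp)

theorem dotForm_isRefl : dotForm.IsRefl := by
  intro v w h
  rw [dotForm_comm]
  exact h

theorem card_golayPt' : Fintype.card GolayPt = 24 := by
  simp [ZMod.card]

theorem mem_dotForm_orthogonal {N : Submodule (ZMod 2) (GolayPt → ZMod 2)} {w : GolayPt → ZMod 2} :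
    w ∈ dotForm.orthogonal N ↔ ∀ n ∈ N, dotForm n w = 0 := by
  rw [LinearMap.BilinForm.mem_orthogonal_iff]

/-- the length-24 code is self-dual -/
theorem golay_orthogonal : dotForm.orthogonal golayCode = golayCode := by
  symm
  apply Submodule.eq_of_le_of_finrank_eq
  · intro c hc
    rw [mem_dotForm_orthogonal]
    intro n hn
    rw [dotForm_apply]
    exact Cfsg.Agent.Lib.helper4.golay_orth hn hc
  · rw [LinearMap.BilinForm.finrank_orthogonal dotForm_nondeg, golay_finrank,
      Module.finrank_fintype_fun_eq_card, card_golayPt']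

theorem mem_golayCode_of_orth {w : GolayPt → ZMod 2} (h : ∀ c ∈ golayCode, dotForm c w = 0) :
    w ∈ golayCode := by
  rw [← golay_orthogonal, mem_dotForm_orthogonal]
  exact h

theorem dotForm_code {c c' : GolayPt → ZMod 2} (hc : c ∈ golayCode) (hc' : c' ∈ golayCode) :
    dotForm c c' = 0 := by
  rw [dotForm_apply]
  exact Cfsg.Agent.Lib.helper4.golay_orth hc hc'

/-- the dot product is invariant under coordinate permutations -/
theorem dotForm_perm (σ : Equiv.Perm GolayPt) (v w : GolayPt → ZMod 2) :
    dotForm (fun p => v (σ.symm p)) (fun p => w (σ.symm p)) = dotForm v w := by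
  rw [dotForm_apply, dotForm_apply]
  exact Equiv.sum_comp σ.symm (fun p => v p * w p)

end Cfsg.Agent.Lib.helper3
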