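import Mathlib
import Cfsg.Prelude.Def_Sporadic_a
import Cfsg.Agent.Lib.helper3.GolayModule
import Cfsg.Agent.Lib.helper3.GolayDual

set_option autoImplicit false

namespace Cfsg.Agent.Lib.helper3

open Cfsg
open scoped Pointwise

/-- four involutions generating the elementary abelian group of order 16 fixing the points of
the base octad -/
def e16T1 : List ℕ := [0, 15, 7, 21, 20, 9, 11, 2, 10, 5, 8, 6, 12, 19, 14, 1, 16, 17, 18, 13, 4, 3, 22, 23]
def e16T2 : List ℕ := [0, 6, 10, 19, 9, 20, 1, 8, 7, 4, 2, 15, 12, 21, 14, 11, 16, 17, 18, 3, 5, 13, 22, 23]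
def e16T3 : List ℕ := [0, 13, 4, 11, 2, 8, 21, 20, 5, 10, 9, 3, 12, 1, 14, 19, 16, 17, 18, 15, 7, 6, 22, 23]
def e16T4 : List ℕ := [0, 7, 15, 9, 19, 21, 8, 1, 6, 3, 11, 10, 12, 20, 14, 2, 16, 17, 18, 4, 13, 5, 22, 23]

/-- the permutation given by an involutive table -/
def tblInvol (L : List ℕ) (h : ∀ p, tblFun L (tblFun L p) = p) : Equiv.Perm GolayPt :=
  ⟨tblFun L, tblFun L, h, h⟩

theorem tblInvol_mem {L : List ℕ} (h : ∀ p, tblFun L (tblFun L p) = p) (hc : tblCheck L = true) :
    tblInvol L h ∈ M24 := by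
  obtain ⟨g, hg, hgf⟩ := exists_perm_of_tblCheck hc
  have : tblInvol L h = g := by
    ext p
    rw [hgf]
    rfl
  rw [this]
  exact hg

theorem e16T1_invol : ∀ p, tblFun e16T1 (tblFun e16T1 p) = p := by decide
theorem e16T2_invol : ∀ p, tblFun e16T2 (tblFun e16T2 p) = p := by decide
theorem e16T3_invol : ∀ p, tblFun e16T3 (tblFun e16T3 p) = p := by decide
theorem e16T4_invol : ∀ p, tblFun e16T4 (tblFun e16T4 p) = p := by decide

def e16P1 : Equiv.Perm GolayPt := tblInvol e16T1 e16T1_invol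
def e16P2 : Equiv.Perm GolayPt := tblInvol e16T2 e16T2_invol
def e16P3 : Equiv.Perm GolayPt := tblInvol e16T3 e16T3_invol
def e16P4 : Equiv.Perm GolayPt := tblInvol e16T4 e16T4_invol

set_option maxRecDepth 100000 in
theorem e16_check : tblCheck e16T1 = true ∧ tblCheck e16T2 = true ∧ tblCheck e16T3 = true ∧
    tblCheck e16T4 = true := by decide +kernel

theorem e16P1_mem : e16P1 ∈ M24 := tblInvol_mem _ e16_check.1
theorem e16P2_mem : e16P2 ∈ M24 := tblInvol_mem _ e16_check.2.1
theorem e16P3_mem : e16P3 ∈ M24 := tblInvol_mem _ e16_check.2.2.1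
theorem e16P4_mem : e16P4 ∈ M24 := tblInvol_mem _ e16_check.2.2.2

/-- `w ↦ w + t w` as a linear map -/
def derL (t : Equiv.Perm GolayPt) : (GolayPt → ZMod 2) →ₗ[ZMod 2] (GolayPt → ZMod 2) :=
  LinearMap.id + LinearMap.funLeft (ZMod 2) (ZMod 2) t.symm

theorem derL_apply (t : Equiv.Perm GolayPt) (w : GolayPt → ZMod 2) : derL t w = w + act t w := rfl

theorem derL_mem {W : Submodule (ZMod 2) (GolayPt → ZMod 2)} (hW : PermInv W)
    {t : Equiv.Perm GolayPt} (ht : t ∈ M24) {w : GolayPt → ZMod 2} (hw : w ∈ W) : derL t w ∈ W := by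
  rw [derL_apply]
  exact W.add_mem hw (hW t ht w hw)

/-- the complement of the base octad, a word of weight 16 -/
def c16 : GolayPt → ZMod 2 := gword (16777215 ^^^ golayMask 1)

/-- the map `w ↦ ⟨w, c16⟩ c16` -/
def projC16 : (GolayPt → ZMod 2) →ₗ[ZMod 2] (GolayPt → ZMod 2) where
  toFun w := (∑ p, w p * c16 p) • c16
  map_add' x y := by
    simp only [Pi.add_apply, add_mul, Finset.sum_add_distrib, add_smul]
  map_smul' a x := by
    simp only [Pi.smul_apply, smul_eq_mul, RingHom.id_apply, mul_assoc, ← Finset.mul_sum, smul_smul]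

set_option maxRecDepth 1000000 in
theorem e16_sum_table : ∀ (q : GolayPt) (x : ZMod 2) (p : GolayPt),
    (derL e16P4 ∘ₗ derL e16P3 ∘ₗ derL e16P2 ∘ₗ derL e16P1) (Pi.single q x) p =
      projC16 (Pi.single q x) p := by
  decide +kernel

/-- summing over the group of order 16 projects onto the complement of the base octad -/
theorem e16_sum : derL e16P4 ∘ₗ derL e16P3 ∘ₗ derL e16P2 ∘ₗ derL e16P1 = projC16 := by
  apply LinearMap.pi_ext
  intro q x
  funext p
  exact e16_sum_table q x p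

theorem e16_sum_apply (w : GolayPt → ZMod 2) :
    derL e16P4 (derL e16P3 (derL e16P2 (derL e16P1 w))) = dotForm w c16 • c16 := by
  have := LinearMap.congr_fun e16_sum w
  rw [dotForm_apply]
  exact this

end Cfsg.Agent.Lib.helper3
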