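import Mathlib
import Cfsg.Prelude.Def_Sporadic_a
import Cfsg.Agent.Lib.helper3.GolayE16

set_option autoImplicit false

namespace Cfsg.Agent.Lib.helper3

open Cfsg
open scoped Pointwise

theorem dotForm_act (σ : Equiv.Perm GolayPt) (v w : GolayPt → ZMod 2) :
    dotForm (act σ v) (act σ w) = dotForm v w := dotForm_perm σ v w

theorem zmod2_ne_zero {a : ZMod 2} (h : a ≠ 0) : a = 1 := by
  rcases zmod2_eq a with h0 | h0
  · exact absurd h0 h
  · exact h0

theorem c16_facts : popc (16777215 ^^^ golayMask 1) = 16 ∧ popc 16777215 = 24 := by decide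

theorem c16_eq : c16 = 1 + gword (golayMask 1) := by
  rw [c16, gword_xor, ← one_word_eq]

/-- an invariant subspace not contained in the code contains the code -/
theorem code_le_of_not_mem {W : Submodule (ZMod 2) (GolayPt → ZMod 2)} (hW : PermInv W)
    {w : GolayPt → ZMod 2} (hwW : w ∈ W) (hw : w ∉ golayCode) : golayCode ≤ W := by
  obtain ⟨hp1, hp2, hp3, -, -, -, hx12, -⟩ := mask_facts
  -- a basis word not orthogonal to `w`
  have h1 : ∃ b ∈ golayBasis, dotForm (gword b) w ≠ 0 := by
    by_contra hcon
    push Not at hcon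
    apply hw
    apply mem_golayCode_of_orth
    set Kw : Submodule (ZMod 2) (GolayPt → ZMod 2) := LinearMap.ker (dotForm.flip w) with hKw
    have hmem : ∀ c, c ∈ Kw ↔ dotForm c w = 0 := fun c => by
      rw [hKw, LinearMap.mem_ker]
      exact Iff.rfl
    intro c hc
    obtain ⟨k, _, rfl⟩ := (mem_golayCode_iff c).1 hc
    rw [← hmem]
    exact gword_xcombo_mem Kw golayBasis (fun b hb => (hmem _).2 (hcon b hb)) k
  obtain ⟨b, hb, hbw⟩ := h1
  -- an octad word `e` with `⟨w, 1 + e⟩ = 1`
  have h2 : ∃ e ∈ golayCode, hammingNorm e = 8 ∧ dotForm w (1 + e) = 1 := by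
    rcases zmod2_eq (dotForm w 1) with hs | hs
    · refine ⟨gword b, basis_mem b hb, ?_, ?_⟩
      · rw [hammingNorm_gword]; exact basis_popc b hb
      · rw [map_add, hs, zero_add, dotForm_comm]
        exact zmod2_ne_zero hbw
    · have hk : ∀ k, popc (golayMask k) = 8 → dotForm w (gword (golayMask k)) = 0 →
          ∃ e ∈ golayCode, hammingNorm e = 8 ∧ dotForm w (1 + e) = 1 := by
        intro k hk h0
        refine ⟨gword (golayMask k), golayMask_mem k, ?_, ?_⟩
        · rw [hammingNorm_gword]; exact hk
        · rw [map_add, hs, h0, add_zero]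
      by_cases h01 : dotForm w (gword (golayMask 1)) = 0
      · exact hk 1 hp1 h01
      · by_cases h02 : dotForm w (gword (golayMask 2)) = 0
        · exact hk 2 hp2 h02
        · apply hk 3 hp3
          rw [← hx12, gword_xor, map_add, zmod2_ne_zero h01, zmod2_ne_zero h02]
          decide
  obtain ⟨e, heC, he8, hew⟩ := h2
  have hoct : support₂ e ∈ octads := (mem_octads_iff _).2 ⟨e, heC, rfl, he8⟩
  have hO : gset (golayMask 1) ∈ octads := gset_mem_octads (golayMask_mem 1) hp1
  obtain ⟨g, hg⟩ := octads_transitive hoct hO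
  have e1 : act (g : Equiv.Perm GolayPt) e = gword (golayMask 1) := by
    apply eq_of_support₂_eq
    rw [support₂_act, support₂_gword (golayMask 1)]
    exact hg
  have e2 : act (g : Equiv.Perm GolayPt) (1 + e) = c16 := by
    rw [act_add, act_one_word, e1, c16_eq]
  have hw'W : act (g : Equiv.Perm GolayPt) w ∈ W := hW _ g.2 w hwW
  have hdot : dotForm (act (g : Equiv.Perm GolayPt) w) c16 = 1 := by
    rw [← e2, dotForm_act, hew]
  have hsum := e16_sum_apply (act (g : Equiv.Perm GolayPt) w)
  rw [hdot, one_smul] at hsum
  have hc16W : c16 ∈ W := by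
    rw [← hsum]
    exact derL_mem hW e16P4_mem (derL_mem hW e16P3_mem (derL_mem hW e16P2_mem
      (derL_mem hW e16P1_mem hw'W)))
  have hc16C : c16 ∈ golayCode := by
    rw [c16_eq]
    exact golayCode.add_mem one_word_mem (golayMask_mem 1)
  have hn16 : hammingNorm c16 = 16 := by
    rw [c16, hammingNorm_gword]
    exact c16_facts.1
  refine code_le_of_mem hW hc16W hc16C ?_ ?_
  · intro h0
    rw [h0, hammingNorm_zero] at hn16
    omega
  · intro h1
    rw [h1, one_word_eq, hammingNorm_gword, c16_facts.2] at hn16
    omega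

theorem permInv_orthogonal {W : Submodule (ZMod 2) (GolayPt → ZMod 2)} (hW : PermInv W) :
    PermInv (dotForm.orthogonal W) := by
  intro σ hσ u hu
  rw [mem_dotForm_orthogonal] at hu ⊢
  intro n hn
  have h1 := hu _ (hW σ⁻¹ (M24.inv_mem hσ) n hn)
  rw [← dotForm_act σ, act_act_inv] at h1
  exact h1

/-- the invariant subspaces of the code -/
theorem sub_code_cases {W : Submodule (ZMod 2) (GolayPt → ZMod 2)} (hW : PermInv W)
    (hle : W ≤ golayCode) :
    W = ⊥ ∨ W = Submodule.span (ZMod 2) {fun _ => (1 : ZMod 2)} ∨ W = golayCode := by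
  by_cases h : ∃ c ∈ W, c ≠ 0 ∧ c ≠ 1
  · obtain ⟨c, hcW, h0, h1⟩ := h
    right; right
    exact le_antisymm hle (code_le_of_mem hW hcW (hle hcW) h0 h1)
  · push Not at h
    by_cases h1 : (1 : GolayPt → ZMod 2) ∈ W
    · right; left
      apply le_antisymm
      · intro w hw
        by_cases h0 : w = 0
        · rw [h0]; exact Submodule.zero_mem _
        · rw [h _ hw h0]; exact Submodule.subset_span rfl
      · rw [Submodule.span_le]
        rintro _ rfl
        exact h1
    · left
      rw [eq_bot_iff]
      intro w hw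
      by_cases h0 : w = 0
      · rw [h0]; exact Submodule.zero_mem _
      · rw [h _ hw h0] at hw
        exact absurd hw h1

/-- the subspaces of the space of binary words of length 24 invariant under the automorphism
group of the code -/
theorem invariant_subspaces {W : Submodule (ZMod 2) (GolayPt → ZMod 2)} (hW : PermInv W) :
    W = ⊥ ∨ W = Submodule.span (ZMod 2) {fun _ => (1 : ZMod 2)} ∨ W = golayCode ∨
      (W : Set (GolayPt → ZMod 2)) = {w | ∑ p, w p = 0} ∨ W = ⊤ := by
  by_cases hle : W ≤ golayCode
  · rcases sub_code_cases hW hle with h | h | h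
    · exact Or.inl h
    · exact Or.inr (Or.inl h)
    · exact Or.inr (Or.inr (Or.inl h))
  · obtain ⟨w, hwW, hw⟩ := SetLike.not_le_iff_exists.1 hle
    have hCW : golayCode ≤ W := code_le_of_not_mem hW hwW hw
    have hU : dotForm.orthogonal W ≤ golayCode := by
      have := LinearMap.BilinForm.orthogonal_le (B := dotForm) hCW
      rwa [golay_orthogonal] at this
    have hWW : dotForm.orthogonal (dotForm.orthogonal W) = W :=
      LinearMap.BilinForm.orthogonal_orthogonal dotForm_nondeg dotForm_isRefl W
    rcases sub_code_cases (permInv_orthogonal hW) hU with h | h | h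
    · right; right; right; right
      rw [← hWW, h, LinearMap.BilinForm.orthogonal_bot]
    · right; right; right; left
      rw [← hWW, h]
      ext v
      rw [SetLike.mem_coe, mem_dotForm_orthogonal]
      constructor
      · intro hv
        have := hv _ (Submodule.subset_span rfl)
        rw [dotForm_apply] at this
        simpa using this
      · intro hv n hn
        rw [Submodule.mem_span_singleton] at hn
        obtain ⟨a, rfl⟩ := hn
        rw [map_smul, LinearMap.smul_apply, dotForm_apply]
        have hv' : ∑ p, v p = 0 := hv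
        simp [hv']
    · right; right; left
      rw [← hWW, h, golay_orthogonal]

end Cfsg.Agent.Lib.helper3
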