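import Mathlib
import Cfsg.Prelude.Def_Sporadic_a
import Cfsg.Agent.Lib.helper3.GolayModule
import Cfsg.Agent.Lib.helper3.GolayDual

set_option autoImplicit false

namespace Cfsg.Agent.Lib.helper3

open Cfsg
open scoped Pointwise

/-- the commutator masks `b + g b` of the basis words with a list of table permutations -/
def commMasks (Ls : List (List ℕ)) : List ℕ :=
  Ls.flatMap fun L => golayBasis.map fun b => b ^^^ permMask L b

/-- certificate: the tables are automorphisms fixing the mask `mu`, and the commutators span -/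
def stabCertOK (mu : ℕ) (Ls : List (List ℕ)) (sel : List ℕ) : Bool :=
  Ls.all tblCheck && Ls.all (fun L => permMask L mu == mu) &&
    (List.range 12).all (fun i => golayBasis.getD i 0 == xcombo (commMasks Ls) (sel.getD i 0))

/-- the stabiliser of `u` fixes no nonzero element of the space of all words modulo the code -/
def StabMoves (u : GolayPt → ZMod 2) : Prop :=
  ∀ w : GolayPt → ZMod 2, w ∉ golayCode → ∃ σ ∈ M24, act σ u = u ∧ act σ w - w ∉ golayCode

theorem sub_eq_add_word (v w : GolayPt → ZMod 2) : v - w = v + w := by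
  funext p
  exact CharTwo.sub_eq_add (v p) (w p)

theorem stabMoves_of_cert {mu : ℕ} {Ls : List (List ℕ)} {sel : List ℕ}
    (h : stabCertOK mu Ls sel = true) : StabMoves (gword mu) := by
  intro w hw
  by_contra hcon
  push Not at hcon
  apply hw
  apply mem_golayCode_of_orth
  set Kw : Submodule (ZMod 2) (GolayPt → ZMod 2) := LinearMap.ker (dotForm.flip w) with hKw
  have hmem : ∀ c, c ∈ Kw ↔ dotForm c w = 0 := fun c => by
    rw [hKw, LinearMap.mem_ker]
    exact Iff.rfl
  suffices hle : golayCode ≤ Kw from fun c hc => (hmem c).1 (hle hc)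
  unfold stabCertOK at h
  simp only [Bool.and_eq_true, List.all_eq_true, beq_iff_eq, List.mem_range] at h
  obtain ⟨⟨hchk, hfix⟩, hsel⟩ := h
  have hcomm : ∀ x ∈ commMasks Ls, gword x ∈ Kw := by
    intro x hx
    rw [commMasks, List.mem_flatMap] at hx
    obtain ⟨L, hL, hx⟩ := hx
    rw [List.mem_map] at hx
    obtain ⟨b, hb, rfl⟩ := hx
    obtain ⟨g, hg, hgf⟩ := exists_perm_of_tblCheck (hchk L hL)
    obtain ⟨hlen, hlt, -, -⟩ := tblCheck_spec (hchk L hL)
    have hfixu : act g⁻¹ (gword mu) = gword mu := by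
      rw [act_inv_gword hlt hlen g hgf, hfix L hL]
    have hfixu' : act g (gword mu) = gword mu := by
      conv_lhs => rw [← hfixu]
      exact act_act_inv g _
    have h1 := hcon g hg hfixu'
    rw [hmem, gword_xor, ← act_inv_gword hlt hlen g hgf b, map_add, LinearMap.add_apply]
    have h2 : dotForm (act g⁻¹ (gword b)) w = dotForm (gword b) (act g w) := by
      have := dotForm_perm g (act g⁻¹ (gword b)) w
      rw [← this]
      change dotForm (act g (act g⁻¹ (gword b))) (act g w) = _
      rw [act_act_inv]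
    rw [h2, ← map_add]
    apply dotForm_code (basis_mem b hb)
    rw [sub_eq_add_word] at h1
    rw [add_comm]
    exact h1
  have hbasis : ∀ b ∈ golayBasis, gword b ∈ Kw := by
    intro b hb
    obtain ⟨i, hi, hib⟩ := List.getElem_of_mem hb
    have hi12 : i < 12 := hi
    have := hsel i hi12
    rw [List.getD_eq_getElem _ _ hi, hib] at this
    rw [this]
    exact gword_xcombo_mem Kw _ hcomm _
  intro c hc
  obtain ⟨k, _, rfl⟩ := (mem_golayCode_iff c).1 hc
  exact gword_xcombo_mem Kw golayBasis hbasis k

def octL : List (List ℕ) := [[12, 3, 2, 10, 9, 19, 7, 20, 11, 1, 21, 4, 22, 15, 16, 6, 18, 14, 23, 13, 8, 5, 0, 17],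
  [18, 2, 10, 19, 15, 3, 13, 1, 4, 20, 21, 9, 12, 11, 0, 6, 14, 22, 16, 7, 8, 5, 17, 23]]

def octSel : List ℕ := [9890, 1064, 18028, 1028, 8268, 228, 9926, 9894, 288, 8812, 9826, 8380]

def dodL : List (List ℕ) := [[13, 5, 22, 3, 15, 17, 8, 11, 7, 20, 9, 18, 12, 23, 16, 1, 0, 4, 6, 19, 2, 21, 10, 14],
  [15, 0, 10, 7, 17, 13, 22, 19, 18, 9, 2, 3, 5, 14, 21, 23, 12, 16, 11, 6, 20, 4, 8, 1]]

def dodSel : List ℕ := [4371, 8576, 4358, 32977, 8599, 73814, 69779, 8278, 70039, 69826, 78672, 73794]

set_option maxRecDepth 100000 in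
theorem octCert : stabCertOK (golayMask 1) octL octSel = true := by decide +kernel

set_option maxRecDepth 100000 in
theorem dodCert : stabCertOK (golayMask 51) dodL dodSel = true := by decide +kernel

theorem stabMoves_octad : StabMoves (gword (golayMask 1)) := stabMoves_of_cert octCert

theorem stabMoves_dodecad : StabMoves (gword (golayMask 51)) := stabMoves_of_cert dodCert

theorem StabMoves.act_word {u : GolayPt → ZMod 2} (h : StabMoves u) {τ : Equiv.Perm GolayPt}
    (hτ : τ ∈ M24) : StabMoves (act τ u) := by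
  intro w hw
  have hw' : act τ⁻¹ w ∉ golayCode := by rwa [act_mem_code_iff (M24.inv_mem hτ)]
  obtain ⟨σ, hσ, hσu, hσw⟩ := h _ hw'
  refine ⟨τ * σ * τ⁻¹, M24.mul_mem (M24.mul_mem hτ hσ) (M24.inv_mem hτ), ?_, ?_⟩
  · rw [act_mul, act_mul, act_inv_act, hσu]
  · intro hc
    apply hσw
    have : act (τ * σ * τ⁻¹) w - w = act τ (act σ (act τ⁻¹ w) - act τ⁻¹ w) := by
      rw [act_sub, act_act_inv, act_mul, act_mul]
    rw [this, act_mem_code_iff hτ] at hc
    exact hc

theorem StabMoves.mono {u u' : GolayPt → ZMod 2} (h : StabMoves u)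
    (hfix : ∀ σ : Equiv.Perm GolayPt, act σ u = u → act σ u' = u') : StabMoves u' := by
  intro w hw
  obtain ⟨σ, hσ, hσu, hσw⟩ := h w hw
  exact ⟨σ, hσ, hfix σ hσu, hσw⟩

/-- the stabiliser of any codeword fixes no nonzero element of the space of words modulo the code -/
theorem stabMoves_of_mem {u : GolayPt → ZMod 2} (hu : u ∈ golayCode) : StabMoves u := by
  obtain ⟨hp1, -, -, -, -, hp51, -, -⟩ := mask_facts
  have hoct8 : ∀ c ∈ golayCode, hammingNorm c = 8 → StabMoves c := by
    intro c hc h8
    have hoct : support₂ c ∈ octads := (mem_octads_iff _).2 ⟨c, hc, rfl, h8⟩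
    have hO : gset (golayMask 1) ∈ octads := gset_mem_octads (golayMask_mem 1) hp1
    obtain ⟨g, hg⟩ := octads_transitive hO hoct
    have e : act (g : Equiv.Perm GolayPt) (gword (golayMask 1)) = c := by
      apply eq_of_support₂_eq
      rw [support₂_act, support₂_gword]
      exact hg
    rw [← e]
    exact stabMoves_octad.act_word g.2
  rcases golay_weights u hu with h | h | h | h | h
  · rw [eq_zero_of_hammingNorm h]
    exact stabMoves_octad.mono fun σ _ => act_zero σ
  · exact hoct8 u hu h
  · have hd : support₂ u ∈ dodecads := ⟨⟨u, hu, rfl⟩, h⟩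
    have hD : gset (golayMask 51) ∈ dodecads := by
      refine ⟨⟨gword (golayMask 51), golayMask_mem 51, support₂_gword _⟩, ?_⟩
      rw [card_gset]
      exact hp51
    obtain ⟨g, hg⟩ := dodecads_transitive hD hd
    have e : act (g : Equiv.Perm GolayPt) (gword (golayMask 51)) = u := by
      apply eq_of_support₂_eq
      rw [support₂_act, support₂_gword]
      exact hg
    rw [← e]
    exact stabMoves_dodecad.act_word g.2
  · obtain ⟨k, hk, rfl⟩ := (mem_golayCode_iff u).1 hu
    rw [hammingNorm_gword] at h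
    have h8 := popc_compl_mask ⟨k, hk⟩ h
    simp only at h8
    have hc'1 : gword (16777215 ^^^ golayMask k) = 1 + gword (golayMask k) := by
      rw [gword_xor, ← one_word_eq]
    have hc'C : gword (16777215 ^^^ golayMask k) ∈ golayCode := by
      rw [hc'1]
      exact golayCode.add_mem one_word_mem hu
    have hc'8 : hammingNorm (gword (16777215 ^^^ golayMask k)) = 8 := by
      rw [hammingNorm_gword]; exact h8
    have hck : gword (golayMask k) = 1 + gword (16777215 ^^^ golayMask k) := by
      rw [hc'1, ← add_assoc, add_self_word, zero_add]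
    refine (hoct8 _ hc'C hc'8).mono fun σ hσ => ?_
    rw [hck, act_add, act_one_word, hσ]
  · rw [eq_one_of_hammingNorm h]
    exact stabMoves_octad.mono fun σ _ => act_one_word σ

end Cfsg.Agent.Lib.helper3
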