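import Mathlib
import Cfsg.Agent.Lib.helper3.CodeSteiner
import Cfsg.Agent.Lib.helper3.StW24

set_option autoImplicit false

namespace Cfsg.Agent.Lib.helper3

open Cfsg

/-! ### Uniqueness of the binary Golay code -/

theorem basis_weight : ∀ b ∈ golayBasis, popc b = 8 := by decide +kernel

theorem support₂_comp_equiv {α β : Type*} [Fintype α] [Fintype β] [DecidableEq α]
    (e : α ≃ β) (w : β → ZMod 2) :
    support₂ (fun i => w (e i)) = (support₂ w).image e.symm := by
  ext i
  simp only [support₂, Finset.mem_filter, Finset.mem_univ, true_and, Finset.mem_image]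
  constructor
  · intro h
    exact ⟨e i, h, e.symm_apply_apply i⟩
  · rintro ⟨j, hj, rfl⟩
    rwa [e.apply_symm_apply]

theorem golay_unique (C : Submodule (ZMod 2) (Fin 24 → ZMod 2))
    (hdim : Module.finrank (ZMod 2) C = 12) (h4 : ∀ w ∈ C, 4 ∣ hammingNorm w)
    (hno4 : ∀ w ∈ C, hammingNorm w ≠ 4) :
    ∃ e : Fin 24 ≃ GolayPt, ∀ w : GolayPt → ZMod 2,
      w ∈ golayCode ↔ (fun i => w (e i)) ∈ C := by
  have hcard : Nat.card C = 4096 := by
    letI : Fintype C := Fintype.ofFinite _
    rw [Nat.card_eq_fintype_card, Module.card_eq_pow_finrank (K := ZMod 2) (V := C), ZMod.card,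
      hdim]
    norm_num
  have hmin : ∀ v ∈ C, v ≠ 0 → 8 ≤ hammingNorm v := by
    intro v hv hne
    have h0 : hammingNorm v ≠ 0 := by
      rw [Ne, hammingNorm_eq_zero]
      exact hne
    obtain ⟨m, hm⟩ := h4 v hv
    have := hno4 v hv
    omega
  have hS : IsSteinerSystem 5 8 (wordsOfWeight (C : Set (Fin 24 → ZMod 2)) 8) :=
    code_octads_steiner hmin (by simp) hcard
  obtain ⟨e', he'⟩ := w24_iso card_golayPt (by simp) octads_steiner hS
  refine ⟨e'.symm, ?_⟩
  set Φ : (GolayPt → ZMod 2) ≃ₗ[ZMod 2] (Fin 24 → ZMod 2) :=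
    LinearEquiv.funCongrLeft (ZMod 2) (ZMod 2) e'.symm with hΦ
  have hΦapp : ∀ w : GolayPt → ZMod 2, Φ w = fun i => w (e'.symm i) := fun w => rfl
  -- octad words are carried into `C`
  have hoct : ∀ w ∈ golayCode, hammingNorm w = 8 → Φ w ∈ C := by
    intro w hw hw8
    have ho : support₂ w ∈ octads := (mem_octads_iff _).mpr ⟨w, hw, rfl, hw8⟩
    have h1 : (support₂ w).image e' ∈ wordsOfWeight (C : Set (Fin 24 → ZMod 2)) 8 := by
      rw [← he']
      exact ⟨_, ho, rfl⟩
    obtain ⟨⟨u, hu, hsu⟩, -⟩ := h1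
    have h2 : support₂ (Φ w) = (support₂ w).image e' := by
      rw [hΦapp, support₂_comp_equiv e'.symm w, Equiv.symm_symm]
    have : u = Φ w := support₂_injective (hsu.trans h2.symm)
    rw [← this]
    exact hu
  have hle : golayCode ≤ C.comap (Φ : (GolayPt → ZMod 2) →ₗ[ZMod 2] (Fin 24 → ZMod 2)) := by
    intro w hw
    obtain ⟨k, -, rfl⟩ := (mem_golayCode_iff w).mp hw
    apply gword_xcombo_mem
    intro b hb
    rw [Submodule.mem_comap]
    apply hoct _ (basis_mem b hb)
    rw [hammingNorm_gword]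
    exact basis_weight b hb
  have hmap : golayCode.map (Φ : (GolayPt → ZMod 2) →ₗ[ZMod 2] (Fin 24 → ZMod 2)) = C := by
    apply Submodule.eq_of_le_of_finrank_eq (Submodule.map_le_iff_le_comap.mpr hle)
    rw [LinearEquiv.finrank_map_eq, golay_finrank, hdim]
  intro w
  rw [← hΦapp, ← hmap]
  constructor
  · intro hw
    exact Submodule.mem_map_of_mem hw
  · rintro ⟨w', hw', hww'⟩
    have : w' = w := Φ.injective hww'
    rwa [← this]

end Cfsg.Agent.Lib.helper3
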