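import Mathlib

set_option autoImplicit false

/-!
# Graded families in a Lie ring: Kreknin's theorem (helper3)

`F : ZMod n → AddSubgroup M` with `⁅F i, F j⁆ ⊆ F (i+j)` and `F 0 = ⊥`.  No directness of the
sum is assumed.  `hkD` is the derived family; Kreknin: `hkD^[2^(n-1)-1] F = ⊥`.
-/

namespace Cfsg.Agent.Lib.helper3

section HkkA
variable {M : Type*} [LieRing M]

/-- additive span of brackets -/
def hkBrk (U V : AddSubgroup M) : AddSubgroup M :=
  AddSubgroup.closure {x | ∃ u ∈ U, ∃ v ∈ V, ⁅u, v⁆ = x}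

theorem hkBrk_mem {U V : AddSubgroup M} {u v : M} (hu : u ∈ U) (hv : v ∈ V) :
    ⁅u, v⁆ ∈ hkBrk U V := AddSubgroup.subset_closure ⟨u, hu, v, hv, rfl⟩

theorem hkBrk_le {U V T : AddSubgroup M} :
    hkBrk U V ≤ T ↔ ∀ u ∈ U, ∀ v ∈ V, ⁅u, v⁆ ∈ T := by
  unfold hkBrk
  rw [AddSubgroup.closure_le]
  constructor
  · intro h u hu v hv; exact h ⟨u, hu, v, hv, rfl⟩
  · rintro h x ⟨u, hu, v, hv, rfl⟩; exact h u hu v hv

theorem hkBrk_mono {U V U' V' : AddSubgroup M} (hU : U ≤ U') (hV : V ≤ V') :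
    hkBrk U V ≤ hkBrk U' V' :=
  hkBrk_le.mpr fun _ hu _ hv => hkBrk_mem (hU hu) (hV hv)

theorem hkBrk_bot_right (U : AddSubgroup M) : hkBrk U ⊥ = ⊥ := by
  rw [eq_bot_iff, hkBrk_le]
  intro u _ v hv
  rw [AddSubgroup.mem_bot] at hv
  subst hv
  simp

theorem hkBrk_bot_left (U : AddSubgroup M) : hkBrk ⊥ U = ⊥ := by
  rw [eq_bot_iff, hkBrk_le]
  intro u hu v _
  rw [AddSubgroup.mem_bot] at hu
  subst hu
  simp

/-- `y ↦ ⁅x, y⁆` -/
def hkAdR (x : M) : M →+ M where
  toFun y := ⁅x, y⁆
  map_zero' := lie_zero x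
  map_add' := lie_add x

/-- `x ↦ ⁅x, y⁆` -/
def hkAdL (y : M) : M →+ M where
  toFun x := ⁅x, y⁆
  map_zero' := zero_lie y
  map_add' a b := add_lie a b y

@[simp] theorem hkAdR_apply (x y : M) : hkAdR x y = ⁅x, y⁆ := rfl
@[simp] theorem hkAdL_apply (x y : M) : hkAdL y x = ⁅x, y⁆ := rfl

variable {n : ℕ}

/-- graded family with trivial zero component -/
structure HkGr (F : ZMod n → AddSubgroup M) : Prop where
  lie_mem : ∀ {i j : ZMod n} {a b : M}, a ∈ F i → b ∈ F j → ⁅a, b⁆ ∈ F (i + j)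
  zero : F 0 = ⊥

theorem HkGr.lie_mem' {F : ZMod n → AddSubgroup M} (hF : HkGr F) {i j k : ZMod n} (h : i + j = k)
    {a b : M} (ha : a ∈ F i) (hb : b ∈ F j) : ⁅a, b⁆ ∈ F k := h ▸ hF.lie_mem ha hb

/-- derived family -/
def hkD (F : ZMod n → AddSubgroup M) : ZMod n → AddSubgroup M :=
  fun k => ⨆ e : ZMod n, hkBrk (F (k - e)) (F e)

theorem hkD_le {F : ZMod n → AddSubgroup M} (hF : HkGr F) (k : ZMod n) : hkD F k ≤ F k := by
  unfold hkD
  refine iSup_le fun e => hkBrk_le.mpr fun u hu v hv => ?_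
  exact hF.lie_mem' (sub_add_cancel k e) hu hv

theorem hkD_gr {F : ZMod n → AddSubgroup M} (hF : HkGr F) : HkGr (hkD F) where
  lie_mem := by
    intro i j a b ha hb
    have ha' := hkD_le hF i ha
    have hb' := hkD_le hF j hb
    unfold hkD
    refine (le_iSup (fun e : ZMod n => hkBrk (F (i + j - e)) (F e)) j) ?_
    have : i + j - j = i := add_sub_cancel_right i j
    rw [this]
    exact hkBrk_mem ha' hb'
  zero := by
    rw [eq_bot_iff, ← hF.zero]
    exact hkD_le hF 0

theorem hkD_mono {F F' : ZMod n → AddSubgroup M} (h : ∀ a, F a ≤ F' a) (a : ZMod n) :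
    hkD F a ≤ hkD F' a := by
  unfold hkD
  exact iSup_mono fun e => hkBrk_mono (h _) (h _)

theorem hkD_iter_gr {F : ZMod n → AddSubgroup M} (hF : HkGr F) (s : ℕ) : HkGr (hkD^[s] F) := by
  induction s with
  | zero => exact hF
  | succ s ih => rw [Function.iterate_succ_apply']; exact hkD_gr ih

theorem hkD_iter_le {F : ZMod n → AddSubgroup M} (hF : HkGr F) (s : ℕ) (a : ZMod n) :
    (hkD^[s] F) a ≤ F a := by
  induction s with
  | zero => exact le_rfl
  | succ s ih =>
    rw [Function.iterate_succ_apply']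
    exact (hkD_le (hkD_iter_gr hF s) a).trans ih

theorem hkD_iter_mono {F F' : ZMod n → AddSubgroup M} (h : ∀ a, F a ≤ F' a) (s : ℕ) (a : ZMod n) :
    (hkD^[s] F) a ≤ (hkD^[s] F') a := by
  induction s generalizing a with
  | zero => exact h a
  | succ s ih =>
    rw [Function.iterate_succ_apply', Function.iterate_succ_apply']
    exact hkD_mono ih a

/-- generators of degree (value) at least `k` -/
def hkGen (k : ℕ) (F : ZMod n → AddSubgroup M) : ZMod n → AddSubgroup M :=
  fun j => if k ≤ j.val then F j else ⊥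

theorem hkGen_le (k : ℕ) (F : ZMod n → AddSubgroup M) (j : ZMod n) : hkGen k F j ≤ F j := by
  unfold hkGen
  split_ifs
  · exact le_rfl
  · exact bot_le

/-- left-normed brackets of length `m+1` in the generators -/
def hkS (k : ℕ) (F : ZMod n → AddSubgroup M) : ℕ → ZMod n → AddSubgroup M
  | 0 => hkGen k F
  | m + 1 => fun a => ⨆ e : ZMod n, hkBrk (hkS k F m (a - e)) (hkGen k F e)

/-- graded pieces of the subring generated by the components of degree at least `k` -/
def hkR (k : ℕ) (F : ZMod n → AddSubgroup M) : ZMod n → AddSubgroup M :=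
  fun a => ⨆ m : ℕ, hkS k F m a

theorem hkS_le_R (k : ℕ) (F : ZMod n → AddSubgroup M) (m : ℕ) (a : ZMod n) :
    hkS k F m a ≤ hkR k F a := le_iSup (fun m => hkS k F m a) m

theorem hkGen_le_R (k : ℕ) (F : ZMod n → AddSubgroup M) (a : ZMod n) :
    hkGen k F a ≤ hkR k F a := hkS_le_R k F 0 a

theorem hkS_le {F : ZMod n → AddSubgroup M} (hF : HkGr F) (k m : ℕ) (a : ZMod n) :
    hkS k F m a ≤ F a := by
  induction m generalizing a with
  | zero => exact hkGen_le k F a
  | succ m ih =>
    show (⨆ e : ZMod n, hkBrk (hkS k F m (a - e)) (hkGen k F e)) ≤ F a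
    refine iSup_le fun e => hkBrk_le.mpr fun u hu v hv => ?_
    exact hF.lie_mem' (sub_add_cancel a e) (ih _ hu) (hkGen_le k F e hv)

theorem hkR_le {F : ZMod n → AddSubgroup M} (hF : HkGr F) (k : ℕ) (a : ZMod n) :
    hkR k F a ≤ F a := iSup_le fun m => hkS_le hF k m a

theorem hkR_lie_gen (k : ℕ) (F : ZMod n → AddSubgroup M) {a b : ZMod n} {x y : M}
    (hx : x ∈ hkR k F a) (hy : y ∈ hkGen k F b) : ⁅x, y⁆ ∈ hkR k F (a + b) := by
  have h : hkR k F a ≤ (hkR k F (a + b)).comap (hkAdL y) := by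
    refine iSup_le fun m x hx => ?_
    show ⁅x, y⁆ ∈ hkR k F (a + b)
    refine hkS_le_R k F (m + 1) (a + b) ?_
    show ⁅x, y⁆ ∈ ⨆ e : ZMod n, hkBrk (hkS k F m (a + b - e)) (hkGen k F e)
    refine (le_iSup (fun e : ZMod n => hkBrk (hkS k F m (a + b - e)) (hkGen k F e)) b) ?_
    have : a + b - b = a := add_sub_cancel_right a b
    rw [this]
    exact hkBrk_mem hx hy
  exact h hx

theorem hkR_lie_S (k : ℕ) (F : ZMod n → AddSubgroup M) (m : ℕ) :
    ∀ {a b : ZMod n} {x y : M}, x ∈ hkR k F a → y ∈ hkS k F m b → ⁅x, y⁆ ∈ hkR k F (a + b) := by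
  induction m with
  | zero => intro a b x y hx hy; exact hkR_lie_gen k F hx hy
  | succ m ih =>
    intro a b x y hx hy
    have h : (⨆ e : ZMod n, hkBrk (hkS k F m (b - e)) (hkGen k F e)) ≤
        (hkR k F (a + b)).comap (hkAdR x) := by
      refine iSup_le fun e => hkBrk_le.mpr fun y' hy' g hg => ?_
      show ⁅x, ⁅y', g⁆⁆ ∈ hkR k F (a + b)
      rw [leibniz_lie]
      refine add_mem ?_ ?_
      · have h1 := ih hx hy'
        have h2 := hkR_lie_gen k F h1 hg
        have : a + (b - e) + e = a + b := by abel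
        rwa [this] at h2
      · have h1 := hkR_lie_gen k F hx hg
        have h2 := ih h1 hy'
        have : a + e + (b - e) = a + b := by abel
        rw [this] at h2
        rw [← lie_skew]
        exact neg_mem h2
    exact h hy

theorem hkR_lie (k : ℕ) (F : ZMod n → AddSubgroup M) {a b : ZMod n} {x y : M}
    (hx : x ∈ hkR k F a) (hy : y ∈ hkR k F b) : ⁅x, y⁆ ∈ hkR k F (a + b) := by
  have h : hkR k F b ≤ (hkR k F (a + b)).comap (hkAdR x) :=
    iSup_le fun m y hy => hkR_lie_S k F m hx hy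
  exact h hy

theorem hkR_of_le (k : ℕ) (F T : ZMod n → AddSubgroup M)
    (hT : ∀ {a b : ZMod n} {x y : M}, x ∈ T a → y ∈ T b → ⁅x, y⁆ ∈ T (a + b))
    (hgen : ∀ a, hkGen k F a ≤ T a) (a : ZMod n) : hkR k F a ≤ T a := by
  refine iSup_le fun m => ?_
  induction m generalizing a with
  | zero => exact hgen a
  | succ m ih =>
    show (⨆ e : ZMod n, hkBrk (hkS k F m (a - e)) (hkGen k F e)) ≤ T a
    refine iSup_le fun e => hkBrk_le.mpr fun u hu v hv => ?_
    have := hT (ih _ hu) (hgen e hv)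
    rwa [sub_add_cancel] at this

theorem hkR_top_eq_bot [NeZero n] (F : ZMod n → AddSubgroup M) (a : ZMod n) : hkR n F a = ⊥ := by
  have hgen : ∀ j : ZMod n, hkGen n F j = ⊥ := by
    intro j
    unfold hkGen
    rw [if_neg (not_le.mpr (ZMod.val_lt j))]
  rw [eq_bot_iff]
  refine iSup_le fun m => ?_
  induction m generalizing a with
  | zero => exact (hgen a).le
  | succ m _ =>
    show (⨆ e : ZMod n, hkBrk (hkS n F m (a - e)) (hkGen n F e)) ≤ ⊥
    refine iSup_le fun e => ?_
    rw [hgen e, hkBrk_bot_right]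

/-- arithmetic in `ZMod n` used in the key lemma -/
theorem hk_val_arith [NeZero n] {k : ℕ} (hk : k < n) {a b : ZMod n} (hab : a + b = (k : ZMod n))
    (hb : k < b.val) : k + 1 ≤ a.val := by
  have h1 : (a.val + b.val) % n = k := by
    have := congrArg ZMod.val hab
    rwa [ZMod.val_add, ZMod.val_natCast, Nat.mod_eq_of_lt hk] at this
  have ha := ZMod.val_lt a
  have hb' := ZMod.val_lt b
  have h2 := Nat.div_add_mod (a.val + b.val) n
  have hq : (a.val + b.val) / n < 2 := Nat.div_lt_of_lt_mul (by omega)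
  rw [h1] at h2
  generalize (a.val + b.val) / n = q at h2 hq
  interval_cases q
  · omega
  · omega

/-- the key lemma, base case. -/
theorem hkX_gen [NeZero n] {F : ZMod n → AddSubgroup M} (hF : HkGr F) {k : ℕ} (hk : k < n)
    {a b : ZMod n} (hab : a + b = (k : ZMod n)) {x y : M} (hx : x ∈ hkR k F a)
    (hy : y ∈ hkGen k F b) : ⁅x, y⁆ ∈ hkR (k + 1) F (k : ZMod n) := by
  unfold hkGen at hy
  split_ifs at hy with hb
  · rcases eq_or_lt_of_le hb with hb | hb
    · -- b = k, so a = 0
      have hbk : b = (k : ZMod n) := by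
        rw [hb, ZMod.natCast_zmod_val]
      have ha0 : a = 0 := by
        rw [hbk] at hab
        exact add_eq_right.mp hab
      have hx0 : x = 0 := by
        have := hkR_le hF k a hx
        rw [ha0, hF.zero, AddSubgroup.mem_bot] at this
        exact this
      rw [hx0, zero_lie]
      exact zero_mem _
    · have ha := hk_val_arith hk hab hb
      have hx' : x ∈ hkR (k + 1) F a := by
        refine hkGen_le_R (k + 1) F a ?_
        unfold hkGen
        rw [if_pos ha]
        exact hkR_le hF k a hx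
      have hy' : y ∈ hkR (k + 1) F b := by
        refine hkGen_le_R (k + 1) F b ?_
        unfold hkGen
        rw [if_pos (Nat.succ_le_of_lt hb)]
        exact hy
      have := hkR_lie (k + 1) F hx' hy'
      rwa [hab] at this
  · rw [AddSubgroup.mem_bot] at hy
    rw [hy, lie_zero]
    exact zero_mem _

/-- the key lemma: brackets of total degree `k` in the subring generated by degrees `≥ k` lie in
the subring generated by degrees `≥ k+1`. -/
theorem hkX_S [NeZero n] {F : ZMod n → AddSubgroup M} (hF : HkGr F) {k : ℕ} (hk : k < n) (m : ℕ) :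
    ∀ {a b : ZMod n}, a + b = (k : ZMod n) → ∀ {x y : M}, x ∈ hkR k F a → y ∈ hkS k F m b →
      ⁅x, y⁆ ∈ hkR (k + 1) F (k : ZMod n) := by
  induction m with
  | zero =>
    intro a b hab x y hx hy
    exact hkX_gen hF hk hab hx hy
  | succ m ih =>
    intro a b hab x y hx hy
    have h : (⨆ e : ZMod n, hkBrk (hkS k F m (b - e)) (hkGen k F e)) ≤
        (hkR (k + 1) F (k : ZMod n)).comap (hkAdR x) := by
      refine iSup_le fun e => hkBrk_le.mpr fun y' hy' g hg => ?_
      show ⁅x, ⁅y', g⁆⁆ ∈ hkR (k + 1) F (k : ZMod n)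
      rw [leibniz_lie]
      refine add_mem ?_ ?_
      · have h1 : ⁅x, y'⁆ ∈ hkR k F (a + (b - e)) := hkR_lie_S k F m hx hy'
        have hsum : a + (b - e) + e = (k : ZMod n) := by rw [← hab]; abel
        exact hkX_gen hF hk hsum h1 hg
      · have h1 : ⁅x, g⁆ ∈ hkR k F (a + e) := hkR_lie_gen k F hx hg
        have hsum : a + e + (b - e) = (k : ZMod n) := by rw [← hab]; abel
        have h2 := ih hsum h1 hy'
        rw [← lie_skew]
        exact neg_mem h2
    exact h hy

theorem hkX [NeZero n] {F : ZMod n → AddSubgroup M} (hF : HkGr F) {k : ℕ} (hk : k < n)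
    {a b : ZMod n} (hab : a + b = (k : ZMod n)) {x y : M} (hx : x ∈ hkR k F a)
    (hy : y ∈ hkR k F b) : ⁅x, y⁆ ∈ hkR (k + 1) F (k : ZMod n) := by
  have h : hkR k F b ≤ (hkR (k + 1) F (k : ZMod n)).comap (hkAdR x) :=
    iSup_le fun m y hy => hkX_S hF hk m hab hx hy
  exact h hy

/-- Kreknin's inductive claim. -/
theorem hkC [NeZero n] : ∀ k : ℕ, k < n → ∀ F : ZMod n → AddSubgroup M, HkGr F →
    ∀ a, (hkD^[2 ^ k - 1] F) a ≤ hkR (k + 1) F a := by
  intro k
  induction k with
  | zero =>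
    intro _ F hF a
    simp only [pow_zero, Nat.sub_self, Function.iterate_zero, id_eq]
    by_cases ha : a = 0
    · rw [ha, hF.zero]; exact bot_le
    · refine le_trans ?_ (hkGen_le_R 1 F a)
      unfold hkGen
      have : 1 ≤ a.val := Nat.one_le_iff_ne_zero.mpr (fun h => ha ((ZMod.val_eq_zero a).mp h))
      rw [if_pos this]
  | succ k ih =>
    intro hk F hF a
    have hk' : k < n := by omega
    set V := hkD^[2 ^ k] F with hV
    have hVgr : HkGr V := hkD_iter_gr hF _
    have hpow : 2 ^ (k + 1) - 1 = (2 ^ k - 1) + 2 ^ k := by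
      have : 1 ≤ 2 ^ k := Nat.one_le_two_pow
      rw [pow_succ]; omega
    rw [hpow, Function.iterate_add_apply]
    refine (ih hk' V hVgr a).trans ?_
    refine hkR_of_le (k + 1) V (hkR (k + 1 + 1) F) (fun hx hy => hkR_lie _ F hx hy) ?_ a
    intro j
    unfold hkGen
    split_ifs with hj
    · rcases eq_or_lt_of_le hj with hj | hj
      · -- j.val = k+1
        have hjk : j = ((k + 1 : ℕ) : ZMod n) := by
          rw [hj, ZMod.natCast_zmod_val]
        have hVj : V = hkD (hkD^[2 ^ k - 1] F) := by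
          rw [hV]
          have : 2 ^ k = (2 ^ k - 1) + 1 := by
            have : 1 ≤ 2 ^ k := Nat.one_le_two_pow
            omega
          conv_lhs => rw [this]
          rw [Function.iterate_succ_apply']
        rw [hVj]
        unfold hkD
        refine iSup_le fun e => hkBrk_le.mpr fun u hu v hv => ?_
        have hu' := ih hk' F hF _ hu
        have hv' := ih hk' F hF _ hv
        have hsum : j - e + e = ((k + 1 : ℕ) : ZMod n) := by rw [sub_add_cancel, hjk]
        have := hkX hF hk hsum hu' hv'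
        rw [hjk]
        exact this
      · refine le_trans ?_ (hkGen_le_R (k + 1 + 1) F j)
        unfold hkGen
        rw [if_pos (Nat.succ_le_of_lt hj)]
        exact hkD_iter_le hF _ j
    · exact bot_le

/-- **Kreknin's theorem** for families: the `(2^(n-1)-1)`-th derived family is trivial. -/
theorem hkKreknin [NeZero n] {F : ZMod n → AddSubgroup M} (hF : HkGr F) (a : ZMod n) :
    (hkD^[2 ^ (n - 1) - 1] F) a = ⊥ := by
  have hn : 0 < n := Nat.pos_of_ne_zero (NeZero.ne n)
  have h := hkC (n - 1) (by omega) F hF a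
  have h2 : n - 1 + 1 = n := by omega
  rw [h2, hkR_top_eq_bot] at h
  exact eq_bot_iff.mpr h

end HkkA

end Cfsg.Agent.Lib.helper3
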