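import Cfsg.Agent.Lib.helper3.HkkA

set_option autoImplicit false

/-!
# Graded families in a Lie ring: Higman's nilpotency argument (helper3)

If `p` is prime, `F : ZMod p → AddSubgroup M` is a graded family with `F 0 = ⊥` and the `k`-th
derived family is trivial, then the lower central family `hkL F` vanishes at `∑_{i<k} (p-1)^i`.
-/

namespace Cfsg.Agent.Lib.helper3

section HkkB
variable {M : Type*} [LieRing M] {n : ℕ}

/-- lower central family: `hkL F m` corresponds to `γ_{m+1}` -/
def hkL (F : ZMod n → AddSubgroup M) : ℕ → ZMod n → AddSubgroup M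
  | 0 => F
  | m + 1 => fun a => ⨆ e : ZMod n, hkBrk (hkL F m (a - e)) (F e)

theorem hkL_zero (F : ZMod n → AddSubgroup M) : hkL F 0 = F := rfl

theorem hkL_succ (F : ZMod n → AddSubgroup M) (m : ℕ) (a : ZMod n) :
    hkL F (m + 1) a = ⨆ e : ZMod n, hkBrk (hkL F m (a - e)) (F e) := rfl

theorem hkL_one (F : ZMod n → AddSubgroup M) : hkL F 1 = hkD F := rfl

theorem hkL_le {F : ZMod n → AddSubgroup M} (hF : HkGr F) (m : ℕ) (a : ZMod n) :
    hkL F m a ≤ F a := by
  induction m generalizing a with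
  | zero => exact le_rfl
  | succ m ih =>
    rw [hkL_succ]
    refine iSup_le fun e => hkBrk_le.mpr fun u hu v hv => ?_
    exact hF.lie_mem' (sub_add_cancel a e) (ih _ hu) hv

theorem hkL_lie_mem (F : ZMod n → AddSubgroup M) (m : ℕ) {a b : ZMod n} {x y : M}
    (hx : x ∈ hkL F m a) (hy : y ∈ F b) : ⁅x, y⁆ ∈ hkL F (m + 1) (a + b) := by
  rw [hkL_succ]
  refine (le_iSup (fun e : ZMod n => hkBrk (hkL F m (a + b - e)) (F e)) b) ?_
  have : a + b - b = a := add_sub_cancel_right a b
  rw [this]
  exact hkBrk_mem hx hy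

/-- the total subgroup of a family -/
def hkT (X : ZMod n → AddSubgroup M) : AddSubgroup M := ⨆ a, X a

theorem hkT_mem {X : ZMod n → AddSubgroup M} {a : ZMod n} {x : M} (hx : x ∈ X a) : x ∈ hkT X :=
  le_iSup X a hx

theorem hkT_lie {I J K : ZMod n → AddSubgroup M}
    (h : ∀ {a b : ZMod n} {x y : M}, x ∈ I a → y ∈ J b → ⁅x, y⁆ ∈ K (a + b)) {x y : M}
    (hx : x ∈ hkT I) (hy : y ∈ hkT J) : ⁅x, y⁆ ∈ hkT K := by
  have h1 : hkT J ≤ (hkT K).comap (hkAdR x) := by
    refine iSup_le fun b y hy => ?_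
    show ⁅x, y⁆ ∈ hkT K
    have h2 : hkT I ≤ (hkT K).comap (hkAdL y) := by
      refine iSup_le fun a x hx => ?_
      show ⁅x, y⁆ ∈ hkT K
      exact hkT_mem (h hx hy)
    exact h2 hx
  exact h1 hy

theorem hkT_eq_bot {X : ZMod n → AddSubgroup M} (h : ∀ a, X a = ⊥) : hkT X = ⊥ := by
  unfold hkT
  simp [h]

/-- `I` is an ideal family of `F` -/
structure HkIdeal (F I : ZMod n → AddSubgroup M) : Prop where
  lie_mem : ∀ {a b : ZMod n} {x y : M}, x ∈ I a → y ∈ F b → ⁅x, y⁆ ∈ I (a + b)

theorem hkD_ideal {F : ZMod n → AddSubgroup M} (hF : HkGr F) : HkIdeal F (hkD F) := by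
  constructor
  intro a b x y hx hy
  have hx' := hkD_le hF a hx
  unfold hkD
  refine (le_iSup (fun e : ZMod n => hkBrk (F (a + b - e)) (F e)) b) ?_
  have : a + b - b = a := add_sub_cancel_right a b
  rw [this]
  exact hkBrk_mem hx' hy

theorem hkL_ideal {F K : ZMod n → AddSubgroup M} (hK : HkIdeal F K) (i : ℕ) :
    HkIdeal F (hkL K i) := by
  induction i with
  | zero => exact hK
  | succ i ih =>
    constructor
    intro a b x y hx hy
    rw [hkL_succ] at hx
    have h : (⨆ e : ZMod n, hkBrk (hkL K i (a - e)) (K e)) ≤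
        (hkL K (i + 1) (a + b)).comap (hkAdL y) := by
      refine iSup_le fun e => hkBrk_le.mpr fun x' hx' k' hk' => ?_
      show ⁅⁅x', k'⁆, y⁆ ∈ hkL K (i + 1) (a + b)
      rw [lie_lie]
      refine sub_mem ?_ ?_
      · have h1 : ⁅k', y⁆ ∈ K (e + b) := hK.lie_mem hk' hy
        have h2 := hkL_lie_mem K i hx' h1
        have : a - e + (e + b) = a + b := by abel
        rwa [this] at h2
      · have h1 : ⁅x', y⁆ ∈ hkL K i (a - e + b) := ih.lie_mem hx' hy
        have h2 := hkL_lie_mem K i h1 hk'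
        have : a - e + b + e = a + b := by abel
        rw [this] at h2
        rw [← lie_skew]
        exact neg_mem h2
    exact h hx

/-- left-normed bracket with a list -/
def hkFold (x : M) (ys : List M) : M := ys.foldl (fun acc y => ⁅acc, y⁆) x

@[simp] theorem hkFold_nil (x : M) : hkFold x [] = x := rfl

@[simp] theorem hkFold_cons (x y : M) (ys : List M) : hkFold x (y :: ys) = hkFold ⁅x, y⁆ ys := rfl

theorem hkFold_append (x : M) (l1 l2 : List M) :
    hkFold x (l1 ++ l2) = hkFold (hkFold x l1) l2 := by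
  unfold hkFold
  rw [List.foldl_append]

theorem hkFold_add (x x' : M) (ys : List M) : hkFold (x + x') ys = hkFold x ys + hkFold x' ys := by
  induction ys generalizing x x' with
  | nil => rfl
  | cons y ys ih => simp only [hkFold_cons, add_lie, ih]

theorem hkFold_zero (ys : List M) : hkFold (0 : M) ys = 0 := by
  induction ys with
  | nil => rfl
  | cons y ys ih => simp only [hkFold_cons, zero_lie, ih]

/-- `x ↦ hkFold x ys` as an additive hom -/
def hkFoldHom (ys : List M) : M →+ M where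
  toFun x := hkFold x ys
  map_zero' := hkFold_zero ys
  map_add' x x' := hkFold_add x x' ys

@[simp] theorem hkFoldHom_apply (ys : List M) (x : M) : hkFoldHom ys x = hkFold x ys := rfl

theorem hkFold_sub (x x' : M) (ys : List M) : hkFold (x - x') ys = hkFold x ys - hkFold x' ys :=
  map_sub (hkFoldHom ys) x x'

theorem hkFold_zero_mem (x : M) (ys : List M) (h : (0 : M) ∈ ys) : hkFold x ys = 0 := by
  induction ys generalizing x with
  | nil => simp at h
  | cons y ys ih =>
    rw [hkFold_cons]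
    rcases List.mem_cons.mp h with h | h
    · rw [← h, lie_zero, hkFold_zero]
    · exact ih _ h

theorem hkFold_mem {B T : AddSubgroup M} (hBT : ∀ x ∈ B, ∀ y ∈ T, ⁅x, y⁆ ∈ B) {x : M}
    (hx : x ∈ B) {ys : List M} (hys : ∀ y ∈ ys, y ∈ T) : hkFold x ys ∈ B := by
  induction ys generalizing x with
  | nil => exact hx
  | cons y ys ih =>
    rw [hkFold_cons]
    exact ih (hBT x hx y (hys y List.mem_cons_self))
      (fun z hz => hys z (List.mem_cons_of_mem _ hz))

/-- permuting the entries changes the fold only modulo the next ideal -/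
theorem hkFold_perm {A B C T : AddSubgroup M}
    (hAT : ∀ x ∈ A, ∀ y ∈ T, ⁅x, y⁆ ∈ A) (hBT : ∀ x ∈ B, ∀ y ∈ T, ⁅x, y⁆ ∈ B)
    (hAC : ∀ x ∈ A, ∀ k ∈ C, ⁅x, k⁆ ∈ B) (hTT : ∀ y ∈ T, ∀ z ∈ T, ⁅y, z⁆ ∈ C)
    {l l' : List M} (hp : l.Perm l') :
    (∀ y ∈ l, y ∈ T) → ∀ x ∈ A, hkFold x l - hkFold x l' ∈ B := by
  induction hp with
  | nil => intro _ x _; rw [sub_self]; exact zero_mem _
  | cons y _ ih =>
    intro hl x hx
    rw [hkFold_cons, hkFold_cons]
    exact ih (fun z hz => hl z (List.mem_cons_of_mem _ hz)) _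
      (hAT x hx y (hl y List.mem_cons_self))
  | swap a b l =>
    intro hl x hx
    -- `b :: a :: l ~ a :: b :: l`
    rw [hkFold_cons, hkFold_cons, hkFold_cons, hkFold_cons, ← hkFold_sub]
    have hb : b ∈ T := hl b List.mem_cons_self
    have ha : a ∈ T := hl a (List.mem_cons_of_mem _ List.mem_cons_self)
    have hl' : ∀ z ∈ l, z ∈ T := fun z hz =>
      hl z (List.mem_cons_of_mem _ (List.mem_cons_of_mem _ hz))
    have key : ⁅⁅x, b⁆, a⁆ - ⁅⁅x, a⁆, b⁆ = ⁅x, ⁅b, a⁆⁆ := by
      rw [lie_lie x b a, ← lie_skew b ⁅x, a⁆]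
      abel
    rw [key]
    exact hkFold_mem hBT (hAC x hx _ (hTT b hb a ha)) hl'
  | trans h1 _ ih1 ih2 =>
    intro hl x hx
    have hl' : ∀ y ∈ _, y ∈ T := fun y hy => hl y (h1.mem_iff.mpr hy)
    have := add_mem (ih1 hl x hx) (ih2 hl' x hx)
    rwa [sub_add_sub_cancel] at this

/-- folding a homogeneous element with a homogeneous list stays homogeneous -/
theorem hkFold_hom {F I : ZMod n → AddSubgroup M} (hI : HkIdeal F I) :
    ∀ (ds : List (ZMod n × M)), (∀ d ∈ ds, d.2 ∈ F d.1) → ∀ {a : ZMod n} {x : M}, x ∈ I a →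
      hkFold x (ds.map Prod.snd) ∈ I (a + (ds.map Prod.fst).sum) := by
  intro ds
  induction ds with
  | nil => intro _ a x hx; simpa using hx
  | cons d ds ih =>
    intro hds a x hx
    rw [List.map_cons, List.map_cons, hkFold_cons, List.sum_cons, ← add_assoc]
    exact ih (fun d' hd' => hds d' (List.mem_cons_of_mem _ hd'))
      (hI.lie_mem hx (hds d List.mem_cons_self))

end HkkB

section Sums
open scoped Pointwise
variable {p : ℕ}

/-- the set of sums of sublists -/
def hkSums : List (ZMod p) → Finset (ZMod p)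
  | [] => {0}
  | d :: l => hkSums l ∪ (hkSums l).image (· + d)

theorem hkSums_zero_mem (l : List (ZMod p)) : (0 : ZMod p) ∈ hkSums l := by
  induction l with
  | nil => simp [hkSums]
  | cons d l ih => simp [hkSums, ih]

theorem hkSums_mem (l : List (ZMod p)) (t : ZMod p) (h : t ∈ hkSums l) :
    ∃ l' : List (ZMod p), l'.Sublist l ∧ l'.sum = t := by
  induction l generalizing t with
  | nil =>
    simp only [hkSums, Finset.mem_singleton] at h
    exact ⟨[], List.Sublist.refl _, by simp [h]⟩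
  | cons d l ih =>
    simp only [hkSums, Finset.mem_union, Finset.mem_image] at h
    rcases h with h | ⟨t', ht', rfl⟩
    · obtain ⟨l', hl', hs⟩ := ih t h
      exact ⟨l', hl'.cons d, hs⟩
    · obtain ⟨l', hl', hs⟩ := ih t' ht'
      exact ⟨d :: l', hl'.cons₂ d, by rw [List.sum_cons, hs, add_comm]⟩

theorem hkSums_card [hp : Fact p.Prime] (l : List (ZMod p)) (hl : ∀ d ∈ l, d ≠ 0) :
    min p (l.length + 1) ≤ (hkSums l).card := by
  induction l with
  | nil => simp [hkSums]
  | cons d l ih =>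
    have ih' := ih (fun d' hd' => hl d' (List.mem_cons_of_mem _ hd'))
    have hd : d ≠ 0 := hl d List.mem_cons_self
    have hne : (hkSums l).Nonempty := ⟨0, hkSums_zero_mem l⟩
    have hcd := ZMod.cauchy_davenport hp.out hne (t := ({0, d} : Finset (ZMod p))) ⟨0, by simp⟩
    have hpair : ({0, d} : Finset (ZMod p)).card = 2 := Finset.card_pair (Ne.symm hd)
    have hsub : hkSums l + ({0, d} : Finset (ZMod p)) ⊆ hkSums (d :: l) := by
      intro z hz
      rw [Finset.mem_add] at hz
      obtain ⟨x, hx, y, hy, rfl⟩ := hz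
      simp only [Finset.mem_insert, Finset.mem_singleton] at hy
      simp only [hkSums, Finset.mem_union, Finset.mem_image]
      rcases hy with rfl | rfl
      · left; simpa using hx
      · right; exact ⟨x, hx, rfl⟩
    have hcard := Finset.card_le_card hsub
    rw [hpair] at hcd
    simp only [List.length_cons]
    omega

theorem hk_exists_sublist [hp : Fact p.Prime] {β : Type*} (ds : List (ZMod p × β))
    (hnz : ∀ d ∈ ds, d.1 ≠ 0) (hlen : p - 1 ≤ ds.length) (t : ZMod p) :
    ∃ ds' : List (ZMod p × β), ds'.Sublist ds ∧ (ds'.map Prod.fst).sum = t := by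
  have hcard := hkSums_card (ds.map Prod.fst) (by
    intro d hd
    obtain ⟨d', hd', rfl⟩ := List.mem_map.mp hd
    exact hnz d' hd')
  rw [List.length_map] at hcard
  have hp1 : 1 ≤ p := hp.out.one_le
  have hfull : (hkSums (ds.map Prod.fst)).card = p := by
    have hle : (hkSums (ds.map Prod.fst)).card ≤ p := by
      have := Finset.card_le_univ (hkSums (ds.map Prod.fst))
      rwa [ZMod.card] at this
    have : min p (ds.length + 1) = p := by omega
    omega
  have huniv : hkSums (ds.map Prod.fst) = Finset.univ := by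
    apply Finset.eq_univ_of_card
    rw [hfull, ZMod.card]
  have ht : t ∈ hkSums (ds.map Prod.fst) := by rw [huniv]; exact Finset.mem_univ t
  obtain ⟨l', hl', hs⟩ := hkSums_mem _ t ht
  obtain ⟨ds', hds', rfl⟩ := List.sublist_map_iff.mp hl'
  exact ⟨ds', hds', hs⟩

end Sums

end Cfsg.Agent.Lib.helper3
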