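import Cfsg.Agent.Lib.helper3.HkkB

set_option autoImplicit false

/-!
# Higman's step and the Higman–Kreknin–Kostrikin bound for graded families (helper3)
-/

namespace Cfsg.Agent.Lib.helper3

section HkkC
variable {M : Type*} [LieRing M] {p : ℕ}

theorem HkGr.eq_zero {n : ℕ} {F : ZMod n → AddSubgroup M} (hF : HkGr F) {i : ZMod n} (hi : i = 0)
    {x : M} (hx : x ∈ F i) : x = 0 := by
  rw [hi, hF.zero, AddSubgroup.mem_bot] at hx
  exact hx

/-- homogeneous case of the block lemma -/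
theorem hkBlock_hom [hp : Fact p.Prime] {F : ZMod p → AddSubgroup M} (hF : HkGr F) (i : ℕ)
    {a : ZMod p} {x : M} (hx : x ∈ hkL (hkD F) i a) (ds : List (ZMod p × M))
    (hds : ∀ d ∈ ds, d.2 ∈ F d.1) (hlen : ds.length = p - 1) :
    hkFold x (ds.map Prod.snd) ∈ hkT (hkL (hkD F) (i + 1)) := by
  have hKgr : HkGr (hkD F) := hkD_gr hF
  have hKid : HkIdeal F (hkD F) := hkD_ideal hF
  have hKi : HkIdeal F (hkL (hkD F) i) := hkL_ideal hKid i
  have hKi1 : HkIdeal F (hkL (hkD F) (i + 1)) := hkL_ideal hKid (i + 1)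
  have hle : ∀ b, hkL (hkD F) i b ≤ F b := fun b => (hkL_le hKgr i b).trans (hkD_le hF b)
  by_cases ha : a = 0
  · have : x = 0 := hF.eq_zero ha (hle a hx)
    rw [this, hkFold_zero]; exact zero_mem _
  by_cases hz : ∃ d ∈ ds, d.1 = 0
  · obtain ⟨d, hd, hd0⟩ := hz
    have : d.2 = 0 := hF.eq_zero hd0 (hds d hd)
    have hmem : (0 : M) ∈ ds.map Prod.snd := by
      rw [← this]; exact List.mem_map_of_mem hd
    rw [hkFold_zero_mem _ _ hmem]; exact zero_mem _
  push Not at hz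
  obtain ⟨ds', hsub, hsum⟩ := hk_exists_sublist ds hz (by omega) (-a)
  obtain ⟨ds'', hperm⟩ := hsub.exists_perm_append
  have hperm' : (ds.map Prod.snd).Perm (ds'.map Prod.snd ++ ds''.map Prod.snd) := by
    rw [← List.map_append]; exact hperm.map _
  -- the four closure properties on totals
  have hAT : ∀ x ∈ hkT (hkL (hkD F) i), ∀ y ∈ hkT F, ⁅x, y⁆ ∈ hkT (hkL (hkD F) i) :=
    fun x hx y hy => hkT_lie (fun h1 h2 => hKi.lie_mem h1 h2) hx hy
  have hBT : ∀ x ∈ hkT (hkL (hkD F) (i + 1)), ∀ y ∈ hkT F,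
      ⁅x, y⁆ ∈ hkT (hkL (hkD F) (i + 1)) :=
    fun x hx y hy => hkT_lie (fun h1 h2 => hKi1.lie_mem h1 h2) hx hy
  have hAC : ∀ x ∈ hkT (hkL (hkD F) i), ∀ k ∈ hkT (hkD F),
      ⁅x, k⁆ ∈ hkT (hkL (hkD F) (i + 1)) :=
    fun x hx k hk => hkT_lie (fun h1 h2 => hkL_lie_mem (hkD F) i h1 h2) hx hk
  have hTT : ∀ y ∈ hkT F, ∀ z ∈ hkT F, ⁅y, z⁆ ∈ hkT (hkD F) := by
    intro y hy z hz
    refine hkT_lie (I := F) (J := F) (K := hkD F) ?_ hy hz
    intro a b u v hu hv
    unfold hkD
    refine (le_iSup (fun e : ZMod p => hkBrk (F (a + b - e)) (F e)) b) ?_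
    have : a + b - b = a := add_sub_cancel_right a b
    rw [this]
    exact hkBrk_mem hu hv
  have hT : ∀ y ∈ ds.map Prod.snd, y ∈ hkT F := by
    intro y hy
    obtain ⟨d, hd, rfl⟩ := List.mem_map.mp hy
    exact hkT_mem (hds d hd)
  have hdiff := hkFold_perm hAT hBT hAC hTT hperm' hT x (hkT_mem hx)
  have hds' : ∀ d ∈ ds', d.2 ∈ F d.1 := fun d hd => hds d (hsub.subset hd)
  have h0 : hkFold x (ds'.map Prod.snd) = 0 := by
    have := hkFold_hom hKi ds' hds' hx
    rw [hsum, add_neg_cancel] at this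
    exact hF.eq_zero rfl (hle 0 this)
  rw [hkFold_append, h0, hkFold_zero, sub_zero] at hdiff
  exact hdiff

/-- block lemma, homogeneous head, general tail -/
theorem hkBlock_aux [hp : Fact p.Prime] {F : ZMod p → AddSubgroup M} (hF : HkGr F) (i : ℕ) :
    ∀ (ys : List M) (ds : List (ZMod p × M)), (∀ d ∈ ds, d.2 ∈ F d.1) →
      (∀ y ∈ ys, y ∈ hkT F) → ds.length + ys.length = p - 1 →
      ∀ {a : ZMod p} {x : M}, x ∈ hkL (hkD F) i a →
        hkFold x (ds.map Prod.snd ++ ys) ∈ hkT (hkL (hkD F) (i + 1)) := by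
  intro ys
  induction ys with
  | nil =>
    intro ds hds _ hlen a x hx
    rw [List.append_nil]
    exact hkBlock_hom hF i hx ds hds (by simpa using hlen)
  | cons y ys ih =>
    intro ds hds hys hlen a x hx
    have hy : y ∈ hkT F := hys y List.mem_cons_self
    set u := hkFold x (ds.map Prod.snd) with hu
    have h : hkT F ≤ (hkT (hkL (hkD F) (i + 1))).comap ((hkFoldHom ys).comp (hkAdR u)) := by
      refine iSup_le fun d y' hy' => ?_
      show hkFold ⁅u, y'⁆ ys ∈ hkT (hkL (hkD F) (i + 1))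
      have := ih (ds ++ [(d, y')]) (by
          intro d' hd'
          rcases List.mem_append.mp hd' with h | h
          · exact hds d' h
          · rw [List.mem_singleton] at h; rw [h]; exact hy')
        (fun z hz => hys z (List.mem_cons_of_mem _ hz))
        (by simp only [List.length_append, List.length_cons, List.length_nil] at hlen ⊢; omega) hx
      rw [List.map_append, List.append_assoc, hkFold_append] at this
      simpa [hu] using this
    have := h hy
    rw [hkFold_append]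
    exact this

/-- **block lemma**: bracketing with `p-1` elements moves `γ_i(K)` into `γ_{i+1}(K)` -/
theorem hkBlock [hp : Fact p.Prime] {F : ZMod p → AddSubgroup M} (hF : HkGr F) (i : ℕ)
    {x : M} (hx : x ∈ hkT (hkL (hkD F) i)) (ys : List M) (hlen : ys.length = p - 1)
    (hys : ∀ y ∈ ys, y ∈ hkT F) : hkFold x ys ∈ hkT (hkL (hkD F) (i + 1)) := by
  have h : hkT (hkL (hkD F) i) ≤ (hkT (hkL (hkD F) (i + 1))).comap (hkFoldHom ys) := by
    refine iSup_le fun a x hx => ?_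
    show hkFold x ys ∈ hkT (hkL (hkD F) (i + 1))
    have := hkBlock_aux hF i ys [] (by simp) hys (by simpa using hlen) hx
    simpa using this
  exact h hx

theorem hkL_fold {n : ℕ} (F : ZMod n → AddSubgroup M) (m t : ℕ) (a : ZMod n) :
    hkL F (m + t) a ≤ AddSubgroup.closure {z | ∃ x ∈ hkT (hkL F m), ∃ ys : List M,
      ys.length = t ∧ (∀ y ∈ ys, y ∈ hkT F) ∧ hkFold x ys = z} := by
  induction t generalizing a with
  | zero =>
    intro x hx
    exact AddSubgroup.subset_closure ⟨x, hkT_mem hx, [], rfl, by simp, rfl⟩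
  | succ t ih =>
    rw [← add_assoc, hkL_succ]
    refine iSup_le fun e => hkBrk_le.mpr fun u hu y hy => ?_
    have hu' := ih _ hu
    have h : AddSubgroup.closure {z | ∃ x ∈ hkT (hkL F m), ∃ ys : List M,
        ys.length = t ∧ (∀ y ∈ ys, y ∈ hkT F) ∧ hkFold x ys = z} ≤
        (AddSubgroup.closure {z | ∃ x ∈ hkT (hkL F m), ∃ ys : List M,
        ys.length = t + 1 ∧ (∀ y ∈ ys, y ∈ hkT F) ∧ hkFold x ys = z}).comap (hkAdL y) := by
      rw [AddSubgroup.closure_le]
      rintro z ⟨x, hx, ys, hlen, hys, rfl⟩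
      show ⁅hkFold x ys, y⁆ ∈ AddSubgroup.closure {z | ∃ x ∈ hkT (hkL F m), ∃ ys : List M,
        ys.length = t + 1 ∧ (∀ y ∈ ys, y ∈ hkT F) ∧ hkFold x ys = z}
      refine AddSubgroup.subset_closure ⟨x, hx, ys ++ [y], by simp [hlen], ?_, ?_⟩
      · intro z hz
        rcases List.mem_append.mp hz with h | h
        · exact hys z h
        · rw [List.mem_singleton] at h; rw [h]; exact hkT_mem hy
      · rw [hkFold_append]; rfl
    exact h hu'

/-- **Higman's step**: if `K = [F,F]` has class `≤ c` then `F` has class `≤ (p-1)c+1`. -/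
theorem hkHigmanStep [hp : Fact p.Prime] {F : ZMod p → AddSubgroup M} (hF : HkGr F) (c : ℕ)
    (hK : ∀ a, hkL (hkD F) c a = ⊥) (a : ZMod p) : hkL F ((p - 1) * c + 1) a = ⊥ := by
  have key : ∀ i : ℕ, hkT (hkL F ((p - 1) * i + 1)) ≤ hkT (hkL (hkD F) i) := by
    intro i
    induction i with
    | zero =>
      rw [Nat.mul_zero, Nat.zero_add, hkL_one, hkL_zero]
    | succ i ih =>
      have : (p - 1) * (i + 1) + 1 = ((p - 1) * i + 1) + (p - 1) := by ring
      rw [this]
      refine iSup_le fun b => (hkL_fold F _ _ b).trans ?_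
      rw [AddSubgroup.closure_le]
      rintro z ⟨x, hx, ys, hlen, hys, rfl⟩
      exact hkBlock hF i (ih hx) ys hlen hys
  rw [eq_bot_iff]
  refine le_trans ?_ ((key c).trans (hkT_eq_bot hK).le)
  exact le_iSup (hkL F ((p - 1) * c + 1)) a

theorem hk_xi_succ (q k : ℕ) :
    ∑ i ∈ Finset.range (k + 1), q ^ i = q * ∑ i ∈ Finset.range k, q ^ i + 1 := by
  rw [Finset.sum_range_succ', Finset.mul_sum]
  simp [pow_succ']

/-- **Higman**: derived length `k` gives class `∑_{i<k} (p-1)^i`. -/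
theorem hkHigman [hp : Fact p.Prime] : ∀ (k : ℕ) (F : ZMod p → AddSubgroup M), HkGr F →
    (∀ a, (hkD^[k] F) a = ⊥) → ∀ a, hkL F (∑ i ∈ Finset.range k, (p - 1) ^ i) a = ⊥ := by
  intro k
  induction k with
  | zero =>
    intro F _ h a
    simpa [hkL_zero] using h a
  | succ k ih =>
    intro F hF h a
    have h' : ∀ a, (hkD^[k] (hkD F)) a = ⊥ := by
      intro a
      have := h a
      rwa [Function.iterate_succ_apply] at this
    have := ih (hkD F) (hkD_gr hF) h'
    rw [hk_xi_succ]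
    exact hkHigmanStep hF _ this a

/-- **Higman–Kreknin–Kostrikin** for graded families. -/
theorem hkMain [hp : Fact p.Prime] (F : ZMod p → AddSubgroup M) (hF : HkGr F) (a : ZMod p) :
    hkL F (∑ i ∈ Finset.range (2 ^ (p - 1) - 1), (p - 1) ^ i) a = ⊥ := by
  have : NeZero p := ⟨hp.out.ne_zero⟩
  exact hkHigman _ F hF (fun a => hkKreknin hF a) a

/-- the case `p = 3`: class at most two -/
theorem hkThree (F : ZMod 3 → AddSubgroup M) (hF : HkGr F) (a : ZMod 3) : hkL F 2 a = ⊥ := by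
  have key : ∀ i j k : ZMod 3, i = 0 ∨ j = 0 ∨ k = 0 ∨ i + j = 0 ∨ i + j + k = 0 ∨
      (j + k = 0 ∧ i + k = 0) := by decide
  have triple : ∀ (i j k : ZMod 3) (x y z : M), x ∈ F i → y ∈ F j → z ∈ F k →
      ⁅⁅x, y⁆, z⁆ = 0 := by
    intro i j k x y z hx hy hz
    rcases key i j k with h | h | h | h | h | ⟨h1, h2⟩
    · rw [hF.eq_zero h hx]; simp
    · rw [hF.eq_zero h hy]; simp
    · rw [hF.eq_zero h hz]; simp
    · rw [hF.eq_zero h (hF.lie_mem hx hy)]; simp
    · exact hF.eq_zero h (hF.lie_mem (hF.lie_mem hx hy) hz)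
    · rw [lie_lie, hF.eq_zero h1 (hF.lie_mem hy hz), hF.eq_zero h2 (hF.lie_mem hx hz)]
      simp
  rw [eq_bot_iff, hkL_succ]
  refine iSup_le fun e => hkBrk_le.mpr fun u hu z hz => ?_
  rw [AddSubgroup.mem_bot]
  have h : hkL F 1 (a - e) ≤ (⊥ : AddSubgroup M).comap (hkAdL z) := by
    rw [hkL_succ]
    refine iSup_le fun e' => hkBrk_le.mpr fun x hx y hy => ?_
    show ⁅⁅x, y⁆, z⁆ ∈ (⊥ : AddSubgroup M)
    rw [AddSubgroup.mem_bot]
    exact triple _ _ _ x y z hx hy hz
  have := h hu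
  rwa [AddSubgroup.mem_comap, AddSubgroup.mem_bot] at this

end HkkC

end Cfsg.Agent.Lib.helper3
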