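import Mathlib

set_option autoImplicit false

/-!
# Commutators in the lower central series and its quotients (helper3)

`hkG G i = γ_{i+1}(G)`; `⁅hkG i, hkG j⁆ ≤ hkG (i+j+1)`; the abelian quotients `hkQ G i` and the class
map `hkCl`; bilinearity of the commutator on classes and the Jacobi identity modulo the next term.
-/

namespace Cfsg.Agent.Lib.helper3

open scoped commutatorElement

section HkkD
variable {G : Type*} [Group G]

/-- three subgroups lemma modulo a normal subgroup -/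
theorem hk_three_subgroups {H₁ H₂ H₃ N : Subgroup G} [N.Normal] (h1 : ⁅⁅H₂, H₃⁆, H₁⁆ ≤ N)
    (h2 : ⁅⁅H₃, H₁⁆, H₂⁆ ≤ N) : ⁅⁅H₁, H₂⁆, H₃⁆ ≤ N := by
  have key : ∀ K : Subgroup G, K ≤ N ↔ K.map (QuotientGroup.mk' N) = ⊥ := by
    intro K
    rw [Subgroup.map_eq_bot_iff, QuotientGroup.ker_mk']
  rw [key, Subgroup.map_commutator, Subgroup.map_commutator] at h1 h2 ⊢
  exact Subgroup.commutator_commutator_eq_bot_of_rotate h1 h2

variable (G) in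
/-- the lower central series, `hkG G i = γ_{i+1}(G)` -/
abbrev hkG (i : ℕ) : Subgroup G := (⊤ : Subgroup G).lowerCentralSeries i

theorem hkG_succ (i : ℕ) : hkG G (i + 1) = ⁅hkG G i, ⊤⁆ := rfl

theorem hkG_comm_le (i j : ℕ) : ⁅hkG G i, hkG G j⁆ ≤ hkG G (i + j + 1) := by
  induction j generalizing i with
  | zero => exact le_rfl
  | succ j ih =>
    rw [hkG_succ j, Subgroup.commutator_comm]
    have hN : hkG G (i + (j + 1) + 1) = hkG G (i + j + 1 + 1) := by congr 1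
    rw [hN]
    apply hk_three_subgroups
    · -- ⁅⁅⊤, hkG i⁆, hkG j⁆
      rw [Subgroup.commutator_comm ⊤ (hkG G i), ← hkG_succ]
      have := ih (i + 1)
      have h2 : i + 1 + j + 1 = i + j + 1 + 1 := by ring
      rwa [h2] at this
    · -- ⁅⁅hkG i, hkG j⁆, ⊤⁆
      exact Subgroup.commutator_mono (ih i) le_rfl

theorem hkG_comm_mem {i j : ℕ} {x y : G} (hx : x ∈ hkG G i) (hy : y ∈ hkG G j) :
    ⁅x, y⁆ ∈ hkG G (i + j + 1) :=
  hkG_comm_le i j (Subgroup.commutator_mem_commutator hx hy)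

theorem hkG_succ_le (i : ℕ) : hkG G (i + 1) ≤ hkG G i :=
  Subgroup.lowerCentralSeries_antitone _ (Nat.le_succ i)

theorem hkG_anti {i j : ℕ} (h : i ≤ j) : hkG G j ≤ hkG G i :=
  Subgroup.lowerCentralSeries_antitone _ h

theorem hkG_comm_any_mem {i : ℕ} {x : G} (hx : x ∈ hkG G i) (g : G) : ⁅x, g⁆ ∈ hkG G (i + 1) :=
  Subgroup.commutator_mem_commutator hx (Subgroup.mem_top g)

theorem hkG_comm_any_mem' {i : ℕ} {x : G} (hx : x ∈ hkG G i) (g : G) : ⁅g, x⁆ ∈ hkG G (i + 1) := by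
  rw [← commutatorElement_inv]
  exact inv_mem (hkG_comm_any_mem hx g)

variable (G) in
/-- the abelian quotient `γ_{i+1}/γ_{i+2}` -/
abbrev hkQ (i : ℕ) : Type _ := ↥(hkG G i) ⧸ (hkG G (i + 1)).subgroupOf (hkG G i)

open Classical in
/-- class of an element of `γ_{i+1}` (junk value `1` outside) -/
noncomputable def hkCl (i : ℕ) (g : G) : hkQ G i :=
  if h : g ∈ hkG G i then QuotientGroup.mk ⟨g, h⟩ else 1

theorem hkCl_of_mem {i : ℕ} {g : G} (h : g ∈ hkG G i) :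
    hkCl i g = (QuotientGroup.mk ⟨g, h⟩ : hkQ G i) := dif_pos h

theorem hkCl_one (i : ℕ) : hkCl i (1 : G) = 1 := by
  rw [hkCl_of_mem (one_mem _)]
  rfl

theorem hkCl_mul {i : ℕ} {x y : G} (hx : x ∈ hkG G i) (hy : y ∈ hkG G i) :
    hkCl i (x * y) = hkCl i x * hkCl i y := by
  rw [hkCl_of_mem hx, hkCl_of_mem hy, hkCl_of_mem (mul_mem hx hy)]
  rfl

theorem hkCl_inv {i : ℕ} {x : G} (hx : x ∈ hkG G i) : hkCl i x⁻¹ = (hkCl i x)⁻¹ := by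
  rw [hkCl_of_mem hx, hkCl_of_mem (inv_mem hx)]
  rfl

theorem hkCl_eq_iff {i : ℕ} {x y : G} (hx : x ∈ hkG G i) (hy : y ∈ hkG G i) :
    hkCl i x = hkCl i y ↔ x⁻¹ * y ∈ hkG G (i + 1) := by
  rw [hkCl_of_mem hx, hkCl_of_mem hy, QuotientGroup.eq, Subgroup.mem_subgroupOf]
  rfl

theorem hkCl_eq_one_iff {i : ℕ} {x : G} (hx : x ∈ hkG G i) :
    hkCl i x = 1 ↔ x ∈ hkG G (i + 1) := by
  rw [← hkCl_one i, hkCl_eq_iff hx (one_mem _), mul_one, inv_mem_iff]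

theorem hkCl_eq_one_of_mem {i : ℕ} {x : G} (hx : x ∈ hkG G (i + 1)) : hkCl i x = 1 :=
  (hkCl_eq_one_iff (hkG_succ_le i hx)).mpr hx

theorem hkCl_surj {i : ℕ} (q : hkQ G i) : ∃ x, x ∈ hkG G i ∧ hkCl i x = q := by
  obtain ⟨⟨x, hx⟩, rfl⟩ := QuotientGroup.mk_surjective q
  exact ⟨x, hx, hkCl_of_mem hx⟩

theorem hkCl_mul_comm {i : ℕ} (a b : hkQ G i) : a * b = b * a := by
  obtain ⟨x, hx, rfl⟩ := hkCl_surj a
  obtain ⟨y, hy, rfl⟩ := hkCl_surj b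
  rw [← hkCl_mul hx hy, ← hkCl_mul hy hx, hkCl_eq_iff (mul_mem hx hy) (mul_mem hy hx)]
  have : (x * y)⁻¹ * (y * x) = ⁅y⁻¹, x⁻¹⁆ := by
    simp [commutatorElement_def, mul_assoc]
  rw [this]
  exact Subgroup.commutator_mem_commutator (inv_mem hy) (Subgroup.mem_top _)

noncomputable instance hkQ_commGroup (i : ℕ) : CommGroup (hkQ G i) :=
  { (inferInstance : Group (hkQ G i)) with mul_comm := hkCl_mul_comm }

theorem hkCl_conj {i : ℕ} {x : G} (hx : x ∈ hkG G i) (g : G) :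
    hkCl i (g * x * g⁻¹) = hkCl i x := by
  have hmem : g * x * g⁻¹ ∈ hkG G i :=
    (inferInstance : (hkG G i).Normal).conj_mem x hx g
  rw [hkCl_eq_iff hmem hx]
  have : (g * x * g⁻¹)⁻¹ * x = ⁅g, x⁻¹⁆ := by
    simp [commutatorElement_def, mul_assoc]
  rw [this]
  exact hkG_comm_any_mem' (inv_mem hx) g

theorem hkCl_comm_mul_left {i j : ℕ} {x x' y : G} (hx : x ∈ hkG G i) (hx' : x' ∈ hkG G i)
    (hy : y ∈ hkG G j) :
    hkCl (i + j + 1) ⁅x * x', y⁆ = hkCl (i + j + 1) ⁅x, y⁆ * hkCl (i + j + 1) ⁅x', y⁆ := by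
  rw [commutatorElement_mul_left_eq_conj_mul]
  have h1 := hkG_comm_mem hx hy
  have h2 := hkG_comm_mem hx' hy
  have h3 : x * ⁅x', y⁆ * x⁻¹ ∈ hkG G (i + j + 1) :=
    (inferInstance : (hkG G (i + j + 1)).Normal).conj_mem _ h2 x
  rw [hkCl_mul h3 h1, hkCl_conj h2, mul_comm]

theorem hkCl_comm_mul_right {i j : ℕ} {x y y' : G} (hx : x ∈ hkG G i) (hy : y ∈ hkG G j)
    (hy' : y' ∈ hkG G j) :
    hkCl (i + j + 1) ⁅x, y * y'⁆ = hkCl (i + j + 1) ⁅x, y⁆ * hkCl (i + j + 1) ⁅x, y'⁆ := by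
  rw [commutatorElement_mul_right_eq_mul_conj]
  have h1 := hkG_comm_mem hx hy
  have h2 := hkG_comm_mem hx hy'
  have h3 : y * ⁅x, y'⁆ * y⁻¹ ∈ hkG G (i + j + 1) :=
    (inferInstance : (hkG G (i + j + 1)).Normal).conj_mem _ h2 y
  have : ⁅x, y⁆ * y * ⁅x, y'⁆ * y⁻¹ = ⁅x, y⁆ * (y * ⁅x, y'⁆ * y⁻¹) := by group
  rw [this, hkCl_mul h1 h3, hkCl_conj h2]

theorem hkCl_comm_congr {i j : ℕ} {x x' y y' : G} (hx : x ∈ hkG G i) (hx' : x' ∈ hkG G i)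
    (hy : y ∈ hkG G j) (hy' : y' ∈ hkG G j) (hxx : x⁻¹ * x' ∈ hkG G (i + 1))
    (hyy : y⁻¹ * y' ∈ hkG G (j + 1)) :
    hkCl (i + j + 1) ⁅x, y⁆ = hkCl (i + j + 1) ⁅x', y'⁆ := by
  have e1 : x' = x * (x⁻¹ * x') := by group
  have e2 : y' = y * (y⁻¹ * y') := by group
  have hu : x⁻¹ * x' ∈ hkG G i := hkG_succ_le i hxx
  have hv : y⁻¹ * y' ∈ hkG G j := hkG_succ_le j hyy
  have step1 : hkCl (i + j + 1) ⁅x', y'⁆ = hkCl (i + j + 1) ⁅x, y'⁆ := by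
    conv_lhs => rw [e1]
    rw [hkCl_comm_mul_left hx hu hy']
    have : ⁅x⁻¹ * x', y'⁆ ∈ hkG G (i + j + 1 + 1) := by
      have := hkG_comm_mem hxx hy'
      have e : i + 1 + j + 1 = i + j + 1 + 1 := by ring
      rwa [e] at this
    rw [hkCl_eq_one_of_mem this, mul_one]
  have step2 : hkCl (i + j + 1) ⁅x, y'⁆ = hkCl (i + j + 1) ⁅x, y⁆ := by
    conv_lhs => rw [e2]
    rw [hkCl_comm_mul_right hx hy hv]
    have : ⁅x, y⁻¹ * y'⁆ ∈ hkG G (i + j + 1 + 1) := by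
      have := hkG_comm_mem hx hyy
      have e : i + (j + 1) + 1 = i + j + 1 + 1 := by ring
      rwa [e] at this
    rw [hkCl_eq_one_of_mem this, mul_one]
  rw [step1, step2]

/-- Jacobi identity modulo the next term of the lower central series -/
theorem hkCl_jacobi {i j k : ℕ} {x y z : G} (hx : x ∈ hkG G i) (hy : y ∈ hkG G j)
    (hz : z ∈ hkG G k) (N : ℕ) (hN : N = i + j + k + 2) :
    hkCl N ⁅⁅x, y⁆, z⁆ * hkCl N ⁅⁅y, z⁆, x⁆ * hkCl N ⁅⁅z, x⁆, y⁆ = 1 := by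
  subst hN
  have hw := commutatorElement_commutatorElement_conj_mul x y z
  have hxy := hkG_comm_mem hx hy
  have hyz := hkG_comm_mem hy hz
  have hzx := hkG_comm_mem hz hx
  have cz : y * z * y⁻¹ ∈ hkG G k := (inferInstance : (hkG G k).Normal).conj_mem z hz y
  have cx : z * x * z⁻¹ ∈ hkG G i := (inferInstance : (hkG G i).Normal).conj_mem x hx z
  have cy : x * y * x⁻¹ ∈ hkG G j := (inferInstance : (hkG G j).Normal).conj_mem y hy x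
  have rz : (y * z * y⁻¹)⁻¹ * z ∈ hkG G (k + 1) := by
    have : (y * z * y⁻¹)⁻¹ * z = ⁅y, z⁻¹⁆ := by simp [commutatorElement_def, mul_assoc]
    rw [this]; exact hkG_comm_any_mem' (inv_mem hz) y
  have rx : (z * x * z⁻¹)⁻¹ * x ∈ hkG G (i + 1) := by
    have : (z * x * z⁻¹)⁻¹ * x = ⁅z, x⁻¹⁆ := by simp [commutatorElement_def, mul_assoc]
    rw [this]; exact hkG_comm_any_mem' (inv_mem hx) z
  have ry : (x * y * x⁻¹)⁻¹ * y ∈ hkG G (j + 1) := by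
    have : (x * y * x⁻¹)⁻¹ * y = ⁅x, y⁻¹⁆ := by simp [commutatorElement_def, mul_assoc]
    rw [this]; exact hkG_comm_any_mem' (inv_mem hy) x
  have e1 : hkCl (i + j + 1 + k + 1) ⁅⁅x, y⁆, y * z * y⁻¹⁆ =
      hkCl (i + j + 1 + k + 1) ⁅⁅x, y⁆, z⁆ :=
    hkCl_comm_congr hxy hxy cz hz (by rw [inv_mul_cancel]; exact one_mem _) rz
  have e2 : hkCl (j + k + 1 + i + 1) ⁅⁅y, z⁆, z * x * z⁻¹⁆ =
      hkCl (j + k + 1 + i + 1) ⁅⁅y, z⁆, x⁆ :=
    hkCl_comm_congr hyz hyz cx hx (by rw [inv_mul_cancel]; exact one_mem _) rx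
  have e3 : hkCl (k + i + 1 + j + 1) ⁅⁅z, x⁆, x * y * x⁻¹⁆ =
      hkCl (k + i + 1 + j + 1) ⁅⁅z, x⁆, y⁆ :=
    hkCl_comm_congr hzx hzx cy hy (by rw [inv_mul_cancel]; exact one_mem _) ry
  have n1 : i + j + 1 + k + 1 = i + j + k + 2 := by ring
  have n2 : j + k + 1 + i + 1 = i + j + k + 2 := by ring
  have n3 : k + i + 1 + j + 1 = i + j + k + 2 := by ring
  rw [n1] at e1
  rw [n2] at e2
  rw [n3] at e3
  have m1 : ⁅⁅x, y⁆, y * z * y⁻¹⁆ ∈ hkG G (i + j + k + 2) := n1 ▸ hkG_comm_mem hxy cz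
  have m2 : ⁅⁅y, z⁆, z * x * z⁻¹⁆ ∈ hkG G (i + j + k + 2) := n2 ▸ hkG_comm_mem hyz cx
  have m3 : ⁅⁅z, x⁆, x * y * x⁻¹⁆ ∈ hkG G (i + j + k + 2) := n3 ▸ hkG_comm_mem hzx cy
  rw [← e1, ← e2, ← e3, ← hkCl_mul m1 m2, ← hkCl_mul (mul_mem m1 m2) m3, hw, hkCl_one]

end HkkD

end Cfsg.Agent.Lib.helper3
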