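import Cfsg.Agent.Lib.helper3.HkkD

set_option autoImplicit false

/-!
# The associated Lie ring of the lower central series (helper3)

`⨁ w : HkIdx, hkA G w` with `hkA G w = Additive (γ_{w+1}/γ_{w+2})`, bracket induced by commutators.
-/

namespace Cfsg.Agent.Lib.helper3

open scoped commutatorElement DirectSum

/-- index type `ℕ` with the shifted addition `i + j + 1` (weights are `i + 1`) -/
def HkIdx : Type := ℕ

instance : DecidableEq HkIdx := inferInstanceAs (DecidableEq ℕ)

instance : Add HkIdx := ⟨fun i j => ((show ℕ from i) + (show ℕ from j) + 1 : ℕ)⟩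

section HkkE
variable (G : Type*) [Group G]

/-- the additive quotient `γ_{w+1}/γ_{w+2}` -/
abbrev hkA (w : HkIdx) : Type _ := Additive (hkQ G (show ℕ from w))

variable {G}

theorem hkCl_out {i : ℕ} (a : hkQ G i) :
    hkCl i ((Quotient.out a : ↥(hkG G i)) : G) = a := by
  rw [hkCl_of_mem (Quotient.out a).2]
  exact QuotientGroup.out_eq' a

/-- commutator on the quotients -/
noncomputable def hkBrQ (i j : ℕ) (a : hkQ G i) (b : hkQ G j) : hkQ G (i + j + 1) :=
  hkCl (i + j + 1) ⁅((Quotient.out a : ↥(hkG G i)) : G), ((Quotient.out b : ↥(hkG G j)) : G)⁆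

theorem hkBrQ_cl {i j : ℕ} {x y : G} (hx : x ∈ hkG G i) (hy : y ∈ hkG G j) :
    hkBrQ i j (hkCl i x) (hkCl j y) = hkCl (i + j + 1) ⁅x, y⁆ := by
  unfold hkBrQ
  have hx' := (Quotient.out (hkCl i x)).2
  have hy' := (Quotient.out (hkCl j y)).2
  refine hkCl_comm_congr hx' hx hy' hy ?_ ?_
  · rw [← hkCl_eq_iff hx' hx, hkCl_out]
  · rw [← hkCl_eq_iff hy' hy, hkCl_out]

theorem hkBrQ_mul_left {i j : ℕ} (a a' : hkQ G i) (b : hkQ G j) :
    hkBrQ i j (a * a') b = hkBrQ i j a b * hkBrQ i j a' b := by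
  obtain ⟨x, hx, rfl⟩ := hkCl_surj a
  obtain ⟨x', hx', rfl⟩ := hkCl_surj a'
  obtain ⟨y, hy, rfl⟩ := hkCl_surj b
  rw [← hkCl_mul hx hx', hkBrQ_cl (mul_mem hx hx') hy, hkBrQ_cl hx hy, hkBrQ_cl hx' hy,
    hkCl_comm_mul_left hx hx' hy]

theorem hkBrQ_mul_right {i j : ℕ} (a : hkQ G i) (b b' : hkQ G j) :
    hkBrQ i j a (b * b') = hkBrQ i j a b * hkBrQ i j a b' := by
  obtain ⟨x, hx, rfl⟩ := hkCl_surj a
  obtain ⟨y, hy, rfl⟩ := hkCl_surj b
  obtain ⟨y', hy', rfl⟩ := hkCl_surj b'
  rw [← hkCl_mul hy hy', hkBrQ_cl hx (mul_mem hy hy'), hkBrQ_cl hx hy, hkBrQ_cl hx hy',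
    hkCl_comm_mul_right hx hy hy']

theorem hkBrQ_one_left {i j : ℕ} (b : hkQ G j) : hkBrQ i j (1 : hkQ G i) b = 1 := by
  obtain ⟨y, hy, rfl⟩ := hkCl_surj b
  rw [← hkCl_one i, hkBrQ_cl (one_mem _) hy, commutatorElement_one_left, hkCl_one]

theorem hkBrQ_one_right {i j : ℕ} (a : hkQ G i) : hkBrQ i j a (1 : hkQ G j) = 1 := by
  obtain ⟨x, hx, rfl⟩ := hkCl_surj a
  rw [← hkCl_one j, hkBrQ_cl hx (one_mem _), commutatorElement_one_right, hkCl_one]

noncomputable instance hkGMul : GradedMonoid.GMul (hkA G) where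
  mul {i j} a b := Additive.ofMul (hkBrQ (show ℕ from i) (show ℕ from j) (Additive.toMul a)
    (Additive.toMul b))

noncomputable instance hkGNU : DirectSum.GNonUnitalNonAssocSemiring (hkA G) :=
  { hkGMul with
    mul_zero := by
      intro i j a
      show Additive.ofMul (hkBrQ (show ℕ from i) (show ℕ from j) (Additive.toMul a) 1) = 0
      rw [hkBrQ_one_right]; rfl
    zero_mul := by
      intro i j b
      show Additive.ofMul (hkBrQ (show ℕ from i) (show ℕ from j) 1 (Additive.toMul b)) = 0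
      rw [hkBrQ_one_left]; rfl
    mul_add := by
      intro i j a b c
      show Additive.ofMul (hkBrQ (show ℕ from i) (show ℕ from j) (Additive.toMul a)
        (Additive.toMul b * Additive.toMul c)) = _
      rw [hkBrQ_mul_right]; rfl
    add_mul := by
      intro i j a b c
      show Additive.ofMul (hkBrQ (show ℕ from i) (show ℕ from j)
        (Additive.toMul a * Additive.toMul b) (Additive.toMul c)) = _
      rw [hkBrQ_mul_left]; rfl }

variable (G) in
/-- the associated Lie ring (as an additive group) -/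
abbrev HkLie : Type _ := ⨁ w : HkIdx, hkA G w

/-- homogeneous element: class of `g ∈ γ_{i+1}` in weight `i` -/
noncomputable def hkE (i : ℕ) (g : G) : HkLie G :=
  DirectSum.of (hkA G) (show HkIdx from i) (Additive.ofMul (hkCl i g))

theorem hkE_one (i : ℕ) : hkE i (1 : G) = 0 := by
  unfold hkE
  rw [hkCl_one]
  exact map_zero _

theorem hkE_mul {i : ℕ} {x y : G} (hx : x ∈ hkG G i) (hy : y ∈ hkG G i) :
    hkE i (x * y) = hkE i x + hkE i y := by
  unfold hkE
  rw [hkCl_mul hx hy, ofMul_mul, map_add]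

theorem hkE_inv {i : ℕ} {x : G} (hx : x ∈ hkG G i) : hkE i x⁻¹ = - hkE i x := by
  unfold hkE
  rw [hkCl_inv hx, ofMul_inv, map_neg]

theorem hkE_eq_zero_iff {i : ℕ} {x : G} (hx : x ∈ hkG G i) :
    hkE i x = 0 ↔ x ∈ hkG G (i + 1) := by
  unfold hkE
  rw [← hkCl_eq_one_iff hx]
  constructor
  · intro h
    have := DirectSum.of_injective (β := hkA G) (show HkIdx from i)
      (h.trans (map_zero (DirectSum.of (hkA G) (show HkIdx from i))).symm)
    exact this
  · intro h
    rw [h]
    exact map_zero _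

theorem hkE_congr {i j : ℕ} (h : i = j) (g : G) : hkE i g = hkE j g := by subst h; rfl

theorem hkE_mul_hkE {i j : ℕ} {x y : G} (hx : x ∈ hkG G i) (hy : y ∈ hkG G j) :
    hkE i x * hkE j y = hkE (i + j + 1) ⁅x, y⁆ := by
  unfold hkE
  rw [DirectSum.of_mul_of]
  show DirectSum.of (hkA G) _ (Additive.ofMul (hkBrQ i j (hkCl i x) (hkCl j y))) = _
  rw [hkBrQ_cl hx hy]

theorem hkLie_induction {P : HkLie G → Prop} (h0 : P 0)
    (hE : ∀ (i : ℕ) (x : G), x ∈ hkG G i → P (hkE i x))
    (hadd : ∀ u v, P u → P v → P (u + v)) : ∀ z, P z := by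
  intro z
  induction z using DirectSum.induction_on with
  | zero => exact h0
  | of i a =>
    obtain ⟨x, hx, hxa⟩ := hkCl_surj (Additive.toMul a)
    have : DirectSum.of (hkA G) i a = hkE (show ℕ from i) x := by
      unfold hkE
      rw [hxa]
      rfl
    rw [this]
    exact hE _ x hx
  | add u v hu hv => exact hadd u v hu hv

theorem hkLie_skew_hom {i j : ℕ} {x y : G} (hx : x ∈ hkG G i) (hy : y ∈ hkG G j) :
    hkE i x * hkE j y + hkE j y * hkE i x = 0 := by
  rw [hkE_mul_hkE hx hy, hkE_mul_hkE hy hx, hkE_congr (by ring : j + i + 1 = i + j + 1),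
    ← hkE_mul (hkG_comm_mem hx hy)
      ((by ring : j + i + 1 = i + j + 1) ▸ hkG_comm_mem hy hx), ← commutatorElement_inv x y,
    mul_inv_cancel, hkE_one]

theorem hkLie_self_hom {i : ℕ} {x : G} (hx : x ∈ hkG G i) : hkE i x * hkE i x = 0 := by
  rw [hkE_mul_hkE hx hx, commutatorElement_self, hkE_one]

theorem hkLie_jacobi_hom {i j k : ℕ} {x y z : G} (hx : x ∈ hkG G i) (hy : y ∈ hkG G j)
    (hz : z ∈ hkG G k) :
    hkE i x * hkE j y * hkE k z + hkE j y * hkE k z * hkE i x + hkE k z * hkE i x * hkE j y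
      = 0 := by
  rw [hkE_mul_hkE hx hy, hkE_mul_hkE (hkG_comm_mem hx hy) hz, hkE_mul_hkE hy hz,
    hkE_mul_hkE (hkG_comm_mem hy hz) hx, hkE_mul_hkE hz hx, hkE_mul_hkE (hkG_comm_mem hz hx) hy,
    hkE_congr (by ring : i + j + 1 + k + 1 = i + j + k + 2),
    hkE_congr (by ring : j + k + 1 + i + 1 = i + j + k + 2),
    hkE_congr (by ring : k + i + 1 + j + 1 = i + j + k + 2)]
  have := hkCl_jacobi hx hy hz (i + j + k + 2) rfl
  unfold hkE
  rw [← map_add, ← map_add, ← ofMul_mul, ← ofMul_mul, this]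
  exact map_zero _

theorem hkLie_skew (u v : HkLie G) : u * v + v * u = 0 := by
  refine hkLie_induction (P := fun u => ∀ v : HkLie G, u * v + v * u = 0) ?_ ?_ ?_ u v
  · intro v; rw [zero_mul, mul_zero, add_zero]
  · intro i x hx v
    refine hkLie_induction (P := fun v => hkE i x * v + v * hkE i x = 0) ?_ ?_ ?_ v
    · rw [zero_mul, mul_zero, add_zero]
    · intro j y hy; exact hkLie_skew_hom hx hy
    · intro v1 v2 h1 h2
      rw [mul_add, add_mul, add_add_add_comm, h1, h2, add_zero]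
  · intro u1 u2 h1 h2 v
    rw [add_mul, mul_add, add_add_add_comm, h1 v, h2 v, add_zero]

theorem hkLie_self (u : HkLie G) : u * u = 0 := by
  refine hkLie_induction (P := fun u => u * u = 0) ?_ ?_ ?_ u
  · rw [zero_mul]
  · intro i x hx; exact hkLie_self_hom hx
  · intro u v hu hv
    rw [add_mul, mul_add, mul_add, hu, hv, zero_add, add_zero, hkLie_skew]

theorem hkLie_jacobi (u v w : HkLie G) : u * v * w + v * w * u + w * u * v = 0 := by
  refine hkLie_induction
    (P := fun u => ∀ v w : HkLie G, u * v * w + v * w * u + w * u * v = 0) ?_ ?_ ?_ u v w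
  · intro v w; simp
  · intro i x hx v w
    refine hkLie_induction
      (P := fun v => ∀ w : HkLie G, hkE i x * v * w + v * w * hkE i x + w * hkE i x * v = 0)
      ?_ ?_ ?_ v w
    · intro w; simp
    · intro j y hy w
      refine hkLie_induction
        (P := fun w => hkE i x * hkE j y * w + hkE j y * w * hkE i x + w * hkE i x * hkE j y = 0)
        ?_ ?_ ?_ w
      · simp
      · intro k z hz; exact hkLie_jacobi_hom hx hy hz
      · intro w1 w2 h1 h2
        have : hkE i x * hkE j y * (w1 + w2) + hkE j y * (w1 + w2) * hkE i x +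
            (w1 + w2) * hkE i x * hkE j y =
            (hkE i x * hkE j y * w1 + hkE j y * w1 * hkE i x + w1 * hkE i x * hkE j y) +
            (hkE i x * hkE j y * w2 + hkE j y * w2 * hkE i x + w2 * hkE i x * hkE j y) := by
          simp only [mul_add, add_mul]; abel
        rw [this, h1, h2, add_zero]
    · intro v1 v2 h1 h2 w
      have : hkE i x * (v1 + v2) * w + (v1 + v2) * w * hkE i x + w * hkE i x * (v1 + v2) =
          (hkE i x * v1 * w + v1 * w * hkE i x + w * hkE i x * v1) +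
          (hkE i x * v2 * w + v2 * w * hkE i x + w * hkE i x * v2) := by
        simp only [mul_add, add_mul]; abel
      rw [this, h1 w, h2 w, add_zero]
  · intro u1 u2 h1 h2 v w
    have : (u1 + u2) * v * w + v * w * (u1 + u2) + w * (u1 + u2) * v =
        (u1 * v * w + v * w * u1 + w * u1 * v) + (u2 * v * w + v * w * u2 + w * u2 * v) := by
      simp only [mul_add, add_mul]; abel
    rw [this, h1 v w, h2 v w, add_zero]

noncomputable instance hkLieRing : LieRing (HkLie G) where
  bracket u v := u * v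
  add_lie := add_mul
  lie_add := mul_add
  lie_self := hkLie_self
  leibniz_lie u v w := by
    show u * (v * w) = u * v * w + v * (u * w)
    have hJ := hkLie_jacobi u v w
    have h1 : u * (v * w) = -(v * w * u) := eq_neg_of_add_eq_zero_left (hkLie_skew u (v * w))
    have h2 : v * (u * w) = -(u * w * v) := eq_neg_of_add_eq_zero_left (hkLie_skew v (u * w))
    have h3 : u * w = -(w * u) := eq_neg_of_add_eq_zero_left (hkLie_skew u w)
    have h4 : -(w * u) * v = -(w * u * v) :=
      eq_neg_of_add_eq_zero_left (by rw [← add_mul, neg_add_cancel, zero_mul])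
    rw [h1, h2, h3, h4, neg_neg]
    have : u * v * w + w * u * v = -(v * w * u) := by
      rw [eq_neg_iff_add_eq_zero, ← hJ]; abel
    rw [this]

theorem hkLie_bracket_def (u v : HkLie G) : ⁅u, v⁆ = u * v := rfl

theorem hkE_lie {i j : ℕ} {x y : G} (hx : x ∈ hkG G i) (hy : y ∈ hkG G j) :
    ⁅hkE i x, hkE j y⁆ = hkE (i + j + 1) ⁅x, y⁆ := hkE_mul_hkE hx hy

end HkkE

end Cfsg.Agent.Lib.helper3
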