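import Cfsg.Agent.Lib.helper3.HkkE

set_option autoImplicit false

/-!
# The automorphism induced on the associated Lie ring (helper3)
-/

namespace Cfsg.Agent.Lib.helper3

open scoped commutatorElement DirectSum

section HkkF
variable {G : Type*} [Group G] (α : MulAut G)

theorem hkG_aut_mem {i : ℕ} {x : G} (hx : x ∈ hkG G i) : α x ∈ hkG G i := by
  have h := Subgroup.characteristic_iff_map_eq.mp
    (inferInstance : (hkG G i).Characteristic) α
  rw [← h]
  exact Subgroup.mem_map_of_mem _ hx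

/-- induced map on the quotient -/
noncomputable def hkQmap (i : ℕ) (q : hkQ G i) : hkQ G i :=
  hkCl i (α ((Quotient.out q : ↥(hkG G i)) : G))

theorem hkQmap_cl {i : ℕ} {x : G} (hx : x ∈ hkG G i) :
    hkQmap α i (hkCl i x) = hkCl i (α x) := by
  unfold hkQmap
  have hx' := (Quotient.out (hkCl i x)).2
  rw [hkCl_eq_iff (hkG_aut_mem α hx') (hkG_aut_mem α hx), ← map_inv, ← map_mul]
  apply hkG_aut_mem
  rw [← hkCl_eq_iff hx' hx, hkCl_out]

theorem hkQmap_mul {i : ℕ} (a b : hkQ G i) :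
    hkQmap α i (a * b) = hkQmap α i a * hkQmap α i b := by
  obtain ⟨x, hx, rfl⟩ := hkCl_surj a
  obtain ⟨y, hy, rfl⟩ := hkCl_surj b
  rw [← hkCl_mul hx hy, hkQmap_cl α (mul_mem hx hy), hkQmap_cl α hx, hkQmap_cl α hy, map_mul,
    hkCl_mul (hkG_aut_mem α hx) (hkG_aut_mem α hy)]

/-- induced hom on the quotient -/
noncomputable def hkQmapHom (i : ℕ) : hkQ G i →* hkQ G i where
  toFun := hkQmap α i
  map_one' := by
    rw [← hkCl_one i, hkQmap_cl α (one_mem _), map_one]
  map_mul' := hkQmap_mul α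

/-- the induced additive endomorphism of the associated Lie ring -/
noncomputable def hkPhi : HkLie G →+ HkLie G :=
  DirectSum.map (fun w : HkIdx => MonoidHom.toAdditive (hkQmapHom α (show ℕ from w)))

theorem hkPhi_E {i : ℕ} {x : G} (hx : x ∈ hkG G i) : hkPhi α (hkE i x) = hkE i (α x) := by
  unfold hkPhi hkE
  rw [DirectSum.map_of]
  show DirectSum.of (hkA G) _ (Additive.ofMul (hkQmap α i (hkCl i x))) = _
  rw [hkQmap_cl α hx]

theorem hkPhi_lie (u v : HkLie G) : hkPhi α ⁅u, v⁆ = ⁅hkPhi α u, hkPhi α v⁆ := by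
  refine hkLie_induction
    (P := fun u => ∀ v : HkLie G, hkPhi α ⁅u, v⁆ = ⁅hkPhi α u, hkPhi α v⁆) ?_ ?_ ?_ u v
  · intro v; simp
  · intro i x hx v
    refine hkLie_induction
      (P := fun v => hkPhi α ⁅hkE i x, v⁆ = ⁅hkPhi α (hkE i x), hkPhi α v⁆) ?_ ?_ ?_ v
    · simp
    · intro j y hy
      rw [hkE_lie hx hy, hkPhi_E α (hkG_comm_mem hx hy), hkPhi_E α hx, hkPhi_E α hy,
        hkE_lie (hkG_aut_mem α hx) (hkG_aut_mem α hy), map_commutatorElement]
    · intro v1 v2 h1 h2
      rw [lie_add, map_add, map_add, lie_add, h1, h2]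
  · intro u1 u2 h1 h2 v
    rw [add_lie, map_add, map_add, add_lie, h1 v, h2 v]

theorem hkG_iter_mem {i : ℕ} {x : G} (hx : x ∈ hkG G i) (s : ℕ) : (⇑α)^[s] x ∈ hkG G i := by
  induction s with
  | zero => exact hx
  | succ s ih => rw [Function.iterate_succ_apply']; exact hkG_aut_mem α ih

theorem hkPhi_iter_E {i : ℕ} {x : G} (hx : x ∈ hkG G i) (s : ℕ) :
    (⇑(hkPhi α))^[s] (hkE i x) = hkE i ((⇑α)^[s] x) := by
  induction s with
  | zero => rfl
  | succ s ih =>
    rw [Function.iterate_succ_apply', ih, hkPhi_E α (hkG_iter_mem α hx s),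
      Function.iterate_succ_apply']

theorem hk_aut_iter (s : ℕ) (x : G) : (⇑α)^[s] x = (α ^ s) x := by
  induction s with
  | zero => rfl
  | succ s ih => rw [Function.iterate_succ_apply', ih, pow_succ', MulAut.mul_apply]

theorem hkE_list_prod {i : ℕ} (l : List G) (hl : ∀ g ∈ l, g ∈ hkG G i) :
    hkE i l.prod = (l.map (hkE i)).sum := by
  induction l with
  | nil => simp [hkE_one]
  | cons g l ih =>
    have hg : g ∈ hkG G i := hl g List.mem_cons_self
    have hl' : ∀ g' ∈ l, g' ∈ hkG G i := fun g' h => hl g' (List.mem_cons_of_mem _ h)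
    rw [List.prod_cons, hkE_mul hg (Subgroup.list_prod_mem _ hl'), ih hl', List.map_cons,
      List.sum_cons]

theorem hkE_pow {i : ℕ} {x : G} (hx : x ∈ hkG G i) (m : ℕ) : hkE i (x ^ m) = m • hkE i x := by
  induction m with
  | zero => simp [hkE_one]
  | succ m ih => rw [pow_succ, hkE_mul (pow_mem hx m) hx, ih, succ_nsmul]

/-- the associated Lie ring is killed by the order of the group -/
theorem hkLie_card_smul [Finite G] (z : HkLie G) : Nat.card G • z = 0 := by
  refine hkLie_induction (P := fun z => Nat.card G • z = 0) ?_ ?_ ?_ z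
  · simp
  · intro i x hx
    rw [← hkE_pow hx, pow_card_eq_one', hkE_one]
  · intro u v hu hv
    rw [smul_add, hu, hv, add_zero]

theorem hkPhi_sum_range_E {i : ℕ} {x : G} (hx : x ∈ hkG G i) (m : ℕ) :
    ∑ s ∈ Finset.range m, (⇑(hkPhi α))^[s] (hkE i x) =
      hkE i (((List.range m).map (fun k => (⇑α)^[k] x)).prod) := by
  induction m with
  | zero => simp [hkE_one]
  | succ m ih =>
    rw [Finset.sum_range_succ, ih, List.range_succ, List.map_append, List.prod_append,
      hkPhi_iter_E α hx]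
    have h1 : ((List.range m).map (fun k => (⇑α)^[k] x)).prod ∈ hkG G i := by
      apply Subgroup.list_prod_mem
      intro g hg
      obtain ⟨k, _, rfl⟩ := List.mem_map.mp hg
      exact hkG_iter_mem α hx k
    have h2 : ([m].map (fun k => (⇑α)^[k] x)).prod ∈ hkG G i := by
      simpa using hkG_iter_mem α hx m
    rw [hkE_mul h1 h2]
    simp

/-- the norm of a fixed-point-free automorphism vanishes on the associated Lie ring -/
theorem hkPhi_sum [Finite G] (hfpf : MonoidHom.FixedPointFree (⇑α)) {p : ℕ} (hp : α ^ p = 1)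
    (z : HkLie G) : ∑ s ∈ Finset.range p, (⇑(hkPhi α))^[s] z = 0 := by
  have hn : (⇑α)^[p] = id := by
    funext x
    rw [hk_aut_iter, hp]; rfl
  refine hkLie_induction (P := fun z => ∑ s ∈ Finset.range p, (⇑(hkPhi α))^[s] z = 0) ?_ ?_ ?_ z
  · simp [iterate_map_zero]
  · intro i x hx
    rw [hkPhi_sum_range_E α hx, hfpf.prod_pow_eq_one hn x, hkE_one]
  · intro u v hu hv
    simp only [iterate_map_add, Finset.sum_add_distrib, hu, hv, add_zero]

theorem hkPhi_iter_p {p : ℕ} (hp : α ^ p = 1) (z : HkLie G) : (⇑(hkPhi α))^[p] z = z := by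
  refine hkLie_induction (P := fun z => (⇑(hkPhi α))^[p] z = z) ?_ ?_ ?_ z
  · simp [iterate_map_zero]
  · intro i x hx
    rw [hkPhi_iter_E α hx, hk_aut_iter, hp]; rfl
  · intro u v hu hv
    rw [iterate_map_add, hu, hv]

end HkkF

end Cfsg.Agent.Lib.helper3
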