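import Cfsg.Agent.Lib.helper3.HkkC

set_option autoImplicit false

/-!
# Extension of scalars by the group ring of `ZMod p` and eigen-subgroups (helper3)

For a Lie ring `L` with an additive bracket-preserving endomorphism `φ` with `∑_{s<p} φ^s = 0` and
`φ^p = 1`, the Lie ring `ℤ[ZMod p] ⊗ L` carries the graded family of "eigen-subgroups"
`{v | φ̃ v = x^j • v}` with trivial zero component, and `(p - N) • v` is a sum of eigenvectors.
-/

namespace Cfsg.Agent.Lib.helper3

open scoped TensorProduct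

section HkkG

attribute [-instance] LieAlgebra.ExtendScalars.instBracketTensorProduct

variable {L : Type*} [LieRing L] {p : ℕ}

/-- the group ring `ℤ[ZMod p]` -/
abbrev HkAlg (p : ℕ) : Type := AddMonoidAlgebra ℤ (ZMod p)

/-- the extended Lie ring -/
abbrev HkTen (L : Type*) [LieRing L] (p : ℕ) : Type _ := HkAlg p ⊗[ℤ] L

/-- the extended endomorphism -/
noncomputable def hkPhiT (p : ℕ) (φ : L →+ L) : HkTen L p →ₗ[HkAlg p] HkTen L p :=
  (φ.toIntLinearMap).baseChange (HkAlg p)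

theorem hkPhiT_tmul (φ : L →+ L) (a : HkAlg p) (u : L) :
    hkPhiT p φ (a ⊗ₜ u) = a ⊗ₜ φ u := by
  unfold hkPhiT
  rw [LinearMap.baseChange_tmul]
  rfl

theorem hkTen_bracket_tmul (a b : HkAlg p) (u v : L) :
    ⁅(a ⊗ₜ[ℤ] u : HkTen L p), b ⊗ₜ[ℤ] v⁆ = (a * b) ⊗ₜ[ℤ] ⁅u, v⁆ :=
  LieAlgebra.ExtendScalars.bracket_tmul ℤ (HkAlg p) L L a b u v

theorem hkTen_smul_lie (a : HkAlg p) (v w : HkTen L p) : ⁅a • v, w⁆ = a • ⁅v, w⁆ :=
  smul_lie a v w

theorem hkTen_lie_smul (a : HkAlg p) (v w : HkTen L p) : ⁅v, a • w⁆ = a • ⁅v, w⁆ :=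
  lie_smul a v w

theorem hkPhiT_lie (φ : L →+ L) (hφ : ∀ u v, φ ⁅u, v⁆ = ⁅φ u, φ v⁆) (v w : HkTen L p) :
    hkPhiT p φ ⁅v, w⁆ = ⁅hkPhiT p φ v, hkPhiT p φ w⁆ := by
  induction v using TensorProduct.induction_on with
  | zero => simp
  | tmul a u =>
    induction w using TensorProduct.induction_on with
    | zero => simp
    | tmul b u' =>
      rw [hkTen_bracket_tmul, hkPhiT_tmul, hkPhiT_tmul, hkPhiT_tmul,
        hkTen_bracket_tmul, hφ]
    | add w1 w2 h1 h2 => rw [lie_add, map_add, map_add, lie_add, h1, h2]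
  | add v1 v2 h1 h2 => rw [add_lie, map_add, map_add, add_lie, h1, h2]

theorem hkPhiT_pow_tmul (φ : L →+ L) (s : ℕ) (a : HkAlg p) (u : L) :
    (hkPhiT p φ ^ s) (a ⊗ₜ u) = a ⊗ₜ ((⇑φ)^[s] u) := by
  induction s with
  | zero => simp
  | succ s ih =>
    rw [pow_succ', Module.End.mul_apply, ih, hkPhiT_tmul, Function.iterate_succ_apply']

theorem hkPhiT_sum (φ : L →+ L) (hsum : ∀ z, ∑ s ∈ Finset.range p, (⇑φ)^[s] z = 0)
    (v : HkTen L p) : ∑ s ∈ Finset.range p, (hkPhiT p φ ^ s) v = 0 := by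
  induction v using TensorProduct.induction_on with
  | zero => simp
  | tmul a u =>
    simp only [hkPhiT_pow_tmul]
    rw [← TensorProduct.tmul_sum, hsum, TensorProduct.tmul_zero]
  | add v1 v2 h1 h2 =>
    simp only [map_add, Finset.sum_add_distrib, h1, h2, add_zero]

theorem hkPhiT_pow_p (φ : L →+ L) (hpow : ∀ z, (⇑φ)^[p] z = z) : hkPhiT p φ ^ p = 1 := by
  refine LinearMap.ext fun v => ?_
  rw [Module.End.one_apply]
  induction v using TensorProduct.induction_on with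
  | zero => simp
  | tmul a u => rw [hkPhiT_pow_tmul, hpow]
  | add v1 v2 h1 h2 => rw [map_add, h1, h2]

theorem hkTen_inv (b : ℤ) (hb : ∀ z : L, (b * (p : ℤ)) • z = z) (v : HkTen L p) :
    (b * (p : ℤ)) • v = v := by
  induction v using TensorProduct.induction_on with
  | zero => simp
  | tmul a u => rw [← TensorProduct.tmul_smul, hb]
  | add v1 v2 h1 h2 => rw [smul_add, h1, h2]

/-- the group element `x^j` of the group ring -/
noncomputable def hkXp (p : ℕ) (j : ZMod p) : HkAlg p := AddMonoidAlgebra.single j 1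

theorem hkXp_mul (i j : ZMod p) : hkXp p i * hkXp p j = hkXp p (i + j) := by
  unfold hkXp
  rw [AddMonoidAlgebra.single_mul_single, mul_one]

theorem hkXp_zero : hkXp p 0 = 1 := rfl

/-- eigen-subgroups -/
noncomputable def hkEig (p : ℕ) (φ : L →+ L) (j : ZMod p) : AddSubgroup (HkTen L p) where
  carrier := {v | hkPhiT p φ v = hkXp p j • v}
  zero_mem' := by simp
  add_mem' := by
    intro a b ha hb
    simp only [Set.mem_ofPred_eq] at ha hb ⊢
    rw [map_add, ha, hb, smul_add]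
  neg_mem' := by
    intro a ha
    simp only [Set.mem_ofPred_eq] at ha ⊢
    rw [map_neg, ha, smul_neg]

theorem hkEig_mem (φ : L →+ L) (j : ZMod p) (v : HkTen L p) :
    v ∈ hkEig p φ j ↔ hkPhiT p φ v = hkXp p j • v := Iff.rfl

theorem hkEig_gr [hp : Fact p.Prime] (φ : L →+ L) (hφ : ∀ u v, φ ⁅u, v⁆ = ⁅φ u, φ v⁆)
    (hsum : ∀ z, ∑ s ∈ Finset.range p, (⇑φ)^[s] z = 0)
    (b : ℤ) (hb : ∀ z : L, (b * (p : ℤ)) • z = z) : HkGr (hkEig p φ) where
  lie_mem := by
    intro i j v w hv hw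
    rw [hkEig_mem] at hv hw ⊢
    rw [hkPhiT_lie φ hφ, hv, hw, hkTen_smul_lie, hkTen_lie_smul, smul_smul, hkXp_mul]
  zero := by
    rw [eq_bot_iff]
    intro v hv
    rw [hkEig_mem, hkXp_zero, one_smul] at hv
    rw [AddSubgroup.mem_bot]
    have hpw : ∀ s : ℕ, (hkPhiT p φ ^ s) v = v := by
      intro s
      induction s with
      | zero => simp
      | succ s ih => rw [pow_succ', Module.End.mul_apply, ih, hv]
    have h := hkPhiT_sum φ hsum v
    simp only [hpw, Finset.sum_const, Finset.card_range] at h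
    have h2 := hkTen_inv b hb v
    rw [mul_smul, natCast_zsmul, h, smul_zero] at h2
    exact h2.symm

end HkkG

end Cfsg.Agent.Lib.helper3
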