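import Cfsg.Agent.Lib.helper3.HkkG

set_option autoImplicit false

/-!
# Eigen-decomposition in `ℤ[ZMod p] ⊗ L` and the Higman–Kreknin–Kostrikin theorem for Lie rings
(helper3)
-/

namespace Cfsg.Agent.Lib.helper3

open scoped TensorProduct

section HkkH

attribute [-instance] LieAlgebra.ExtendScalars.instBracketTensorProduct

variable {L : Type*} [LieRing L] {p : ℕ} [hp : Fact p.Prime]

/-- the norm element `∑ x^j` -/
noncomputable def hkN (p : ℕ) [Fact p.Prime] : HkAlg p := ∑ j : ZMod p, hkXp p j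

/-- `p - N` -/
noncomputable def hkEe (p : ℕ) [Fact p.Prime] : HkAlg p := (p : HkAlg p) - hkN p

theorem hkXp_mul_N (k : ZMod p) : hkXp p k * hkN p = hkN p := by
  show hkXp p k * ∑ j : ZMod p, hkXp p j = ∑ j : ZMod p, hkXp p j
  rw [Finset.mul_sum]
  exact Fintype.sum_equiv (Equiv.addLeft k) _ _ (fun j => hkXp_mul k j)

theorem hkN_mul_N : hkN p * hkN p = (p : HkAlg p) * hkN p := by
  have h : hkN p * hkN p = ∑ j : ZMod p, hkXp p j * hkN p := by
    show (∑ j : ZMod p, hkXp p j) * hkN p = _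
    rw [Finset.sum_mul]
  rw [h]
  simp_rw [hkXp_mul_N]
  rw [Finset.sum_const, Finset.card_univ, ZMod.card, nsmul_eq_mul]

theorem hkEe_sq : hkEe p * hkEe p = (p : HkAlg p) * hkEe p := by
  unfold hkEe
  linear_combination hkN_mul_N (p := p)

theorem hkEe_pow (m : ℕ) : hkEe p ^ (m + 1) = (p : HkAlg p) ^ m * hkEe p := by
  induction m with
  | zero => simp
  | succ m ih => rw [pow_succ, ih, mul_assoc, hkEe_sq, pow_succ]; ring

/-- coefficient at `1 : ZMod p` -/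
noncomputable def hkCoef (p : ℕ) : HkAlg p →ₗ[ℤ] ℤ :=
  (Finsupp.lapply (1 : ZMod p)) ∘ₗ (AddMonoidAlgebra.coeffLinearEquiv ℤ).toLinearMap

theorem hkCoef_Xp (j : ZMod p) : hkCoef p (hkXp p j) = if j = 1 then 1 else 0 := by
  unfold hkCoef hkXp
  show (AddMonoidAlgebra.single j (1 : ℤ)).coeff 1 = _
  rw [AddMonoidAlgebra.coeff_single]
  exact Finsupp.single_apply

theorem hkCoef_Ee : hkCoef p (hkEe p) = -1 := by
  unfold hkEe hkN
  rw [map_sub, map_sum]
  simp_rw [hkCoef_Xp]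
  rw [Finset.sum_ite_eq' Finset.univ (1 : ZMod p)]
  have h1 : hkCoef p ((p : ℕ) : HkAlg p) = 0 := by
    have : ((p : ℕ) : HkAlg p) = p • hkXp p 0 := by
      rw [hkXp_zero, nsmul_eq_mul, mul_one]
    rw [this, map_nsmul, hkCoef_Xp, if_neg, smul_zero]
    have := Nat.Prime.one_lt' p
    exact zero_ne_one
  simp [h1]

/-- the `ℤ`-linear map `a ⊗ u ↦ coef(a) • u` -/
noncomputable def hkLam (L : Type*) [LieRing L] (p : ℕ) : HkTen L p →+ L :=
  ((TensorProduct.lid ℤ L).toLinearMap ∘ₗ (hkCoef p).rTensor L).toAddMonoidHom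

omit hp in
theorem hkLam_tmul (a : HkAlg p) (u : L) : hkLam L p (a ⊗ₜ u) = hkCoef p a • u := by
  unfold hkLam
  show (TensorProduct.lid ℤ L) ((hkCoef p).rTensor L (a ⊗ₜ u)) = _
  rw [LinearMap.rTensor_tmul]
  exact TensorProduct.lid_tmul _ _

theorem hk_pow_mod {R : Type*} [Monoid R] (f : R) {n : ℕ} (hf : f ^ n = 1) (m : ℕ) :
    f ^ (m % n) = f ^ m := by
  conv_rhs => rw [← Nat.div_add_mod m n, pow_add, pow_mul, hf, one_pow, one_mul]

theorem hkPhiT_val_succ (φ : L →+ L) (hpow : ∀ z, (⇑φ)^[p] z = z) (s : ZMod p) :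
    hkPhiT p φ ^ (s + 1).val = hkPhiT p φ * hkPhiT p φ ^ s.val := by
  have := Nat.Prime.one_lt' p
  rw [ZMod.val_add, ZMod.val_one, hk_pow_mod _ (hkPhiT_pow_p φ hpow), pow_succ']

/-- the `j`-th eigen-projection (times `p`) -/
noncomputable def hkProj (φ : L →+ L) (j : ZMod p) (v : HkTen L p) : HkTen L p :=
  ∑ s : ZMod p, hkXp p (-(j * s)) • (hkPhiT p φ ^ s.val) v

theorem hkProj_mem (φ : L →+ L) (hpow : ∀ z, (⇑φ)^[p] z = z) (j : ZMod p) (v : HkTen L p) :
    hkProj φ j v ∈ hkEig p φ j := by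
  rw [hkEig_mem]
  unfold hkProj
  rw [map_sum, Finset.smul_sum]
  refine Fintype.sum_equiv (Equiv.addRight (1 : ZMod p)) _ _ (fun s => ?_)
  rw [map_smul, Equiv.coe_addRight, smul_smul, hkXp_mul, hkPhiT_val_succ φ hpow,
    Module.End.mul_apply]
  congr 2
  ring

theorem hkPhiT_sum_zmod (φ : L →+ L) (hsum : ∀ z, ∑ s ∈ Finset.range p, (⇑φ)^[s] z = 0)
    (v : HkTen L p) : ∑ s : ZMod p, (hkPhiT p φ ^ s.val) v = 0 := by
  rw [← hkPhiT_sum φ hsum v]
  refine Finset.sum_nbij' (fun s : ZMod p => s.val) (fun k : ℕ => (k : ZMod p)) ?_ ?_ ?_ ?_ ?_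
  · intro s _; exact Finset.mem_range.mpr (ZMod.val_lt s)
  · intro k _; exact Finset.mem_univ _
  · intro s _; exact ZMod.natCast_zmod_val s
  · intro k hk; exact ZMod.val_natCast_of_lt (Finset.mem_range.mp hk)
  · intro s _; rfl

theorem hkXp_sum_neg_mul (s : ZMod p) (hs : s ≠ 0) : ∑ j : ZMod p, hkXp p (-(j * s)) = hkN p := by
  unfold hkN
  exact Fintype.sum_equiv ((Equiv.mulRight₀ s hs).trans (Equiv.neg _)) _ _ (fun _ => rfl)

theorem hkProj_sum (φ : L →+ L) (hsum : ∀ z, ∑ s ∈ Finset.range p, (⇑φ)^[s] z = 0)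
    (v : HkTen L p) : ∑ j : ZMod p, hkProj φ j v = hkEe p • v := by
  unfold hkProj
  rw [Finset.sum_comm]
  simp_rw [← Finset.sum_smul]
  have hcoef : ∀ s : ZMod p, ∑ j : ZMod p, hkXp p (-(j * s)) =
      hkN p + if s = 0 then hkEe p else 0 := by
    intro s
    by_cases hs : s = 0
    · subst hs
      simp only [mul_zero, neg_zero, if_true, hkXp_zero, Finset.sum_const, Finset.card_univ,
        ZMod.card, nsmul_eq_mul, mul_one]
      unfold hkEe
      ring
    · rw [hkXp_sum_neg_mul s hs, if_neg hs, add_zero]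
  simp_rw [hcoef, add_smul]
  rw [Finset.sum_add_distrib, ← Finset.smul_sum, hkPhiT_sum_zmod φ hsum, smul_zero, zero_add]
  simp only [ite_smul, zero_smul]
  rw [Finset.sum_ite_eq' Finset.univ (0 : ZMod p)]
  simp

/-- **decomposition**: `(p - N) • v` is a sum of eigenvectors -/
theorem hkDecomp (φ : L →+ L) (hsum : ∀ z, ∑ s ∈ Finset.range p, (⇑φ)^[s] z = 0)
    (hpow : ∀ z, (⇑φ)^[p] z = z) (v : HkTen L p) : hkEe p • v ∈ hkT (hkEig p φ) := by
  rw [← hkProj_sum φ hsum v]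
  exact sum_mem fun j _ => hkT_mem (hkProj_mem φ hpow j v)

end HkkH

end Cfsg.Agent.Lib.helper3
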