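import Cfsg.Agent.Lib.helper3.HkkH

set_option autoImplicit false

/-!
# The Higman–Kreknin–Kostrikin theorem for Lie rings with a regular automorphism of prime order
(helper3)
-/

namespace Cfsg.Agent.Lib.helper3

open scoped TensorProduct

section HkkI

attribute [-instance] LieAlgebra.ExtendScalars.instBracketTensorProduct

variable {L : Type*} [LieRing L] {p : ℕ} [hp : Fact p.Prime]

variable (L) in
/-- lower central series of a Lie ring, as additive subgroups: `hkLcs L m = γ_{m+1}(L)` -/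
def hkLcs : ℕ → AddSubgroup L
  | 0 => ⊤
  | m + 1 => hkBrk (hkLcs m) ⊤

theorem hkLcs_succ (m : ℕ) : hkLcs L (m + 1) = hkBrk (hkLcs L m) ⊤ := rfl

/-- `u ↦ a • (1 ⊗ u)` -/
noncomputable def hkTheta (p : ℕ) (a : HkAlg p) : L →+ HkTen L p where
  toFun u := a • ((1 : HkAlg p) ⊗ₜ[ℤ] u)
  map_zero' := by simp
  map_add' u v := by rw [TensorProduct.tmul_add, smul_add]

theorem hkTheta_apply (a : HkAlg p) (u : L) :
    hkTheta p a u = a • ((1 : HkAlg p) ⊗ₜ[ℤ] u) := rfl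

theorem hkLcs_to_family (φ : L →+ L)
    (hsum : ∀ z, ∑ s ∈ Finset.range p, (⇑φ)^[s] z = 0) (hpow : ∀ z, (⇑φ)^[p] z = z) (m : ℕ) :
    ∀ u ∈ hkLcs L m, hkTheta p (hkEe p ^ (m + 1)) u ∈ hkT (hkL (hkEig p φ) m) := by
  induction m with
  | zero =>
    intro u _
    rw [hkTheta_apply, zero_add, pow_one, hkL_zero]
    exact hkDecomp φ hsum hpow _
  | succ m ih =>
    intro u hu
    rw [hkLcs_succ] at hu
    have h : hkBrk (hkLcs L m) ⊤ ≤
        (hkT (hkL (hkEig p φ) (m + 1))).comap (hkTheta p (hkEe p ^ (m + 1 + 1))) := by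
      refine hkBrk_le.mpr fun u' hu' g _ => ?_
      show hkTheta p (hkEe p ^ (m + 1 + 1)) ⁅u', g⁆ ∈ hkT (hkL (hkEig p φ) (m + 1))
      have hA := ih u' hu'
      have hB : hkTheta p (hkEe p) g ∈ hkT (hkEig p φ) := by
        rw [hkTheta_apply]; exact hkDecomp φ hsum hpow _
      have hAB := hkT_lie (I := hkL (hkEig p φ) m) (J := hkEig p φ)
        (K := hkL (hkEig p φ) (m + 1)) (fun h1 h2 => hkL_lie_mem (hkEig p φ) m h1 h2) hA hB
      have e : ⁅hkTheta p (hkEe p ^ (m + 1)) u', hkTheta p (hkEe p) g⁆ =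
          hkTheta p (hkEe p ^ (m + 1 + 1)) ⁅u', g⁆ := by
        rw [hkTheta_apply, hkTheta_apply, hkTheta_apply, hkTen_smul_lie, hkTen_lie_smul,
          smul_smul, hkTen_bracket_tmul, one_mul, ← pow_succ]
      rwa [e] at hAB
    exact h hu

theorem hk_pow_smul_eq_zero (b : ℤ) (hb : ∀ z : L, (b * (p : ℤ)) • z = z) (k : ℕ) :
    ∀ u : L, ((p : ℤ) ^ k) • u = 0 → u = 0 := by
  induction k with
  | zero => intro u h; simpa using h
  | succ k ih =>
    intro u h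
    rw [pow_succ, mul_smul] at h
    have h1 : (p : ℤ) • u = 0 := ih _ h
    have h2 := hb u
    rw [mul_smul, h1, smul_zero] at h2
    exact h2.symm

theorem hkCoef_Ee_pow (h : ℕ) : hkCoef p (hkEe p ^ (h + 1)) = -((p : ℤ) ^ h) := by
  rw [hkEe_pow, ← Nat.cast_pow, ← nsmul_eq_mul, map_nsmul, hkCoef_Ee]
  simp

/-- if the lower central family of eigen-subgroups vanishes at `h`, so does `γ_{h+1}(L)` -/
theorem hkLcs_eq_bot (φ : L →+ L)
    (hsum : ∀ z, ∑ s ∈ Finset.range p, (⇑φ)^[s] z = 0) (hpow : ∀ z, (⇑φ)^[p] z = z)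
    (b : ℤ) (hb : ∀ z : L, (b * (p : ℤ)) • z = z) (h : ℕ)
    (hF : ∀ a, hkL (hkEig p φ) h a = ⊥) : hkLcs L h = ⊥ := by
  rw [eq_bot_iff]
  intro u hu
  rw [AddSubgroup.mem_bot]
  have h1 := hkLcs_to_family φ hsum hpow h u hu
  rw [hkT_eq_bot hF, AddSubgroup.mem_bot, hkTheta_apply] at h1
  have h2 := congrArg (hkLam L p) h1
  rw [TensorProduct.smul_tmul', smul_eq_mul, mul_one, hkLam_tmul, map_zero, hkCoef_Ee_pow,
    neg_smul, neg_eq_zero] at h2
  exact hk_pow_smul_eq_zero b hb h u h2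

/-- **Higman–Kreknin–Kostrikin** for Lie rings: a Lie ring on which `p` is invertible, with a
bracket-preserving additive endomorphism `φ` such that `φ^p = 1` and `1 + φ + ⋯ + φ^{p-1} = 0`, is
nilpotent of class at most `∑_{i < 2^(p-1)-1} (p-1)^i` (and at most `2` if `p = 3`). -/
theorem hkLieMain (φ : L →+ L) (hφ : ∀ u v, φ ⁅u, v⁆ = ⁅φ u, φ v⁆)
    (hsum : ∀ z, ∑ s ∈ Finset.range p, (⇑φ)^[s] z = 0) (hpow : ∀ z, (⇑φ)^[p] z = z)
    (b : ℤ) (hb : ∀ z : L, (b * (p : ℤ)) • z = z) :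
    hkLcs L (∑ i ∈ Finset.range (2 ^ (p - 1) - 1), (p - 1) ^ i) = ⊥ ∧
      (p = 3 → hkLcs L 2 = ⊥) := by
  have hgr := hkEig_gr φ hφ hsum b hb
  refine ⟨hkLcs_eq_bot φ hsum hpow b hb _ (hkMain _ hgr), ?_⟩
  intro h3
  subst h3
  exact hkLcs_eq_bot φ hsum hpow b hb _ (hkThree _ hgr)

end HkkI

end Cfsg.Agent.Lib.helper3
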