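import Cfsg.Agent.Lib.helper3.HkkI
import Cfsg.Agent.Lib.helper3.HkkF
import Cfsg.Agent.Lib.Helper1.FPF.Main2

set_option autoImplicit false

/-!
# Higman–Kreknin–Kostrikin for finite groups (helper3)

Glue: from the associated Lie ring `HkLie G` of the lower central series back to the group.
-/

namespace Cfsg.Agent.Lib.helper3

open scoped commutatorElement DirectSum

section HkkJ
variable {G : Type*} [Group G]

/-- homogeneous elements of weight `m` lie in the `m`-th term of the Lie lower central series -/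
theorem hkE_mem_lcs (m : ℕ) : ∀ g ∈ hkG G m, hkE m g ∈ hkLcs (HkLie G) m := by
  induction m with
  | zero => intro g _; exact AddSubgroup.mem_top _
  | succ m ih =>
    intro g hg
    have hg' : g ∈ Subgroup.closure {g | ∃ x ∈ hkG G m, ∃ y ∈ (⊤ : Subgroup G), ⁅x, y⁆ = g} := hg
    have hle : Subgroup.closure {g | ∃ x ∈ hkG G m, ∃ y ∈ (⊤ : Subgroup G), ⁅x, y⁆ = g}
        ≤ hkG G (m + 1) := le_of_eq rfl
    refine Subgroup.closure_induction
      (p := fun g _ => hkE (m + 1) g ∈ hkLcs (HkLie G) (m + 1)) ?_ ?_ ?_ ?_ hg'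
    · rintro _ ⟨x, hx, y, -, rfl⟩
      have h1 := hkE_lie hx (show y ∈ hkG G 0 from Subgroup.mem_top y)
      rw [hkLcs_succ]
      have h2 : hkE (m + 1) ⁅x, y⁆ = hkE (m + 0 + 1) ⁅x, y⁆ := rfl
      rw [h2, ← h1]
      exact hkBrk_mem (ih x hx) (AddSubgroup.mem_top _)
    · rw [hkE_one]; exact zero_mem _
    · intro x y hx hy hpx hpy
      rw [hkE_mul (hle hx) (hle hy)]
      exact add_mem hpx hpy
    · intro x hx hpx
      rw [hkE_inv (hle hx)]
      exact neg_mem hpx

theorem hkG_eq_succ_of_lcs_bot {h : ℕ} (hh : hkLcs (HkLie G) h = ⊥) :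
    hkG G h = hkG G (h + 1) := by
  apply le_antisymm
  · intro g hg
    have h1 := hkE_mem_lcs h g hg
    rw [hh, AddSubgroup.mem_bot] at h1
    exact (hkE_eq_zero_iff hg).mp h1
  · exact hkG_succ_le h

theorem hkG_stable {h : ℕ} (hh : hkG G h = hkG G (h + 1)) (k : ℕ) : hkG G (h + k) = hkG G h := by
  induction k with
  | zero => rfl
  | succ k ih =>
    have h1 : hkG G (h + (k + 1)) = ⁅hkG G (h + k), ⊤⁆ := rfl
    rw [h1, ih]
    exact hh.symm

theorem hkG_eq_bot_of_lcs_bot (hnil : Group.IsNilpotent G) {h : ℕ}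
    (hh : hkLcs (HkLie G) h = ⊥) : hkG G h = ⊥ := by
  obtain ⟨n, hn⟩ := Subgroup.nilpotent_iff_lowerCentralSeries.mp hnil
  rcases le_total n h with hle | hle
  · exact le_bot_iff.mp (hn ▸ hkG_anti hle)
  · obtain ⟨k, rfl⟩ := Nat.exists_eq_add_of_le hle
    rw [← hkG_stable (hkG_eq_succ_of_lcs_bot hh) k]
    exact hn

/-- a finite group with a fixed-point-free automorphism of prime order `p` has order prime to `p` -/
theorem hk_card_coprime [Finite G] {p : ℕ} (hp : p.Prime) (α : MulAut G) (hα : orderOf α = p)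
    (hfpf : ∀ g : G, α g = g → g = 1) : (Nat.card G).Coprime p := by
  have : Fact p.Prime := ⟨hp⟩
  have hP : IsPGroup p (Subgroup.zpowers α) := by
    apply IsPGroup.of_card (n := 1)
    rw [Nat.card_zpowers, hα, pow_one]
  have h1 := hP.card_modEq_card_fixedPoints G
  have h2 : MulAction.fixedPoints (Subgroup.zpowers α) G = {1} := by
    ext g
    simp only [MulAction.mem_fixedPoints, Set.mem_singleton_iff]
    constructor
    · intro h
      exact hfpf g (h ⟨α, Subgroup.mem_zpowers α⟩)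
    · rintro rfl a
      exact smul_one a
  rw [h2] at h1
  have h3 : Nat.card ({1} : Set G) = 1 := by
    rw [Nat.card_eq_one_iff_unique]
    exact ⟨inferInstance, inferInstance⟩
  rw [h3] at h1
  rw [Nat.coprime_comm, Nat.Prime.coprime_iff_not_dvd hp]
  intro hd
  have h4 : Nat.card G % p = 0 := Nat.mod_eq_zero_of_dvd hd
  have h5 : Nat.card G % p = 1 % p := h1
  rw [h4, Nat.mod_eq_of_lt hp.one_lt] at h5
  exact absurd h5 (by norm_num)

/-- **Higman–Kreknin–Kostrikin**: a finite group with a fixed-point-free automorphism of prime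
order `p` is nilpotent of class at most `∑_{i < 2^(p-1)-1} (p-1)^i` (and at most `2` if `p = 3`). -/
theorem hkGroupMain [Finite G] {p : ℕ} (hp : p.Prime) (α : MulAut G) (hα : orderOf α = p)
    (hfpf : ∀ g : G, α g = g → g = 1) :
    hkG G (∑ i ∈ Finset.range (2 ^ (p - 1) - 1), (p - 1) ^ i) = ⊥ ∧ (p = 3 → hkG G 2 = ⊥) := by
  have : Fact p.Prime := ⟨hp⟩
  have hpow : α ^ p = 1 := hα ▸ pow_orderOf_eq_one α
  have hf : MonoidHom.FixedPointFree (⇑α) := fun g hg => hfpf g hg
  have hnil : Group.IsNilpotent G :=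
    Cfsg.Agent.Lib.Helper1.FPF.fpf_nilpotent (G := G) α (fun g hg => hfpf g hg) hp hpow
  have hco := hk_card_coprime hp α hα hfpf
  have hbez := Nat.gcd_eq_gcd_ab (Nat.card G) p
  rw [Nat.Coprime] at hco
  rw [hco] at hbez
  have hb : ∀ z : HkLie G, ((Nat.gcdB (Nat.card G) p) * (p : ℤ)) • z = z := by
    intro z
    have h1 : ((Nat.card G : ℤ) * Nat.gcdA (Nat.card G) p + (p : ℤ) * Nat.gcdB (Nat.card G) p) • z
        = z := by
      rw [← hbez]; simp
    rw [add_smul, mul_comm (Nat.card G : ℤ), mul_smul, natCast_zsmul, hkLie_card_smul, smul_zero,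
      zero_add, mul_comm] at h1
    exact h1
  have hmain := hkLieMain (L := HkLie G) (p := p) (hkPhi α) (hkPhi_lie α) (hkPhi_sum α hf hpow)
    (hkPhi_iter_p α hpow) _ hb
  exact ⟨hkG_eq_bot_of_lcs_bot hnil hmain.1, fun h3 => hkG_eq_bot_of_lcs_bot hnil (hmain.2 h3)⟩

end HkkJ

end Cfsg.Agent.Lib.helper3
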