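import Mathlib
import Cfsg.Prelude.Def_Spor_Mathieu
import Cfsg.Agent.Lib.helper4.M11
import Cfsg.Agent.Lib.helper4.SextetKerB
import Cfsg.Agent.Lib.helper3.M11Elusive
import Cfsg.Agent.Lib.Helper19.M11Inv
import Cfsg.Agent.Lib.helper3.StemTools2

set_option autoImplicit false

/-!
# Explicit elements of `M₁₁`: a Sylow 3-subgroup with an inverting element and a semidihedral
Sylow 2-subgroup.
-/

namespace Cfsg.Agent.Lib.helper3

open Cfsg MulAction
open Cfsg.Agent.Lib.helper4
open Cfsg.Agent.Lib.Helper12.Golay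
open scoped Pointwise

def m11X : List ℕ := [0, 6, 1, 8, 13, 11, 2, 23, 12, 4, 10, 14, 3, 9, 5, 22, 16, 17, 18, 7, 15, 21, 20, 19]
def m11Y : List ℕ := [0, 9, 13, 1, 8, 11, 4, 7, 6, 3, 17, 14, 2, 12, 5, 20, 16, 21, 18, 19, 22, 10, 15, 23]
def m11T : List ℕ := [0, 3, 8, 9, 2, 15, 12, 23, 13, 1, 21, 20, 4, 6, 22, 11, 18, 10, 16, 19, 14, 17, 5, 7]
def m11A : List ℕ := [0, 18, 12, 8, 9, 22, 2, 14, 3, 1, 7, 23, 4, 6, 15, 21, 16, 19, 13, 10, 17, 20, 11, 5]
def m11B : List ℕ := [0, 2, 1, 8, 4, 5, 12, 20, 3, 18, 14, 11, 6, 13, 10, 15, 16, 21, 9, 19, 7, 17, 23, 22]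

theorem fperm_mem_sporM11 {L : List ℕ} (hok : okK L = true) (hd : actK L d₀ = d₀)
    (h0 : L.getD 0 0 = 0) : fperm L ∈ Cfsg.Spor.M11 := by
  have hv := okK_valid hok
  refine ⟨⟨fperm_mem hok, ?_⟩, ?_⟩
  · show fperm L ∈ stabilizer (Equiv.Perm GolayPt) Cfsg.Spor.squareDodecad
    rw [mem_stabilizer_iff, squareDodecad_eq_fs, fixes_iff_actK _ (by norm_num [d₀]),
      tblOf_fperm hv]
    exact hd
  · show fperm L ∈ stabilizer (Equiv.Perm GolayPt) (some 0 : GolayPt)
    rw [mem_stabilizer_iff]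
    show fperm L (some 0) = some 0
    have e : (some 0 : GolayPt) = pt 0 := by decide
    rw [e, fperm_pt hv (by norm_num), h0]

theorem fperm_mul_eq {L1 L2 L3 : List ℕ} (h1 : ValidT L1) (h2 : ValidT L2) (h3 : ValidT L3)
    (h : compTbl L1 L2 = L3) : fperm L1 * fperm L2 = fperm L3 := by
  apply tblOf_injective
  rw [tblOf_mul, tblOf_fperm h1, tblOf_fperm h2, tblOf_fperm h3, h]

theorem fperm_mul_eq_one {L1 L2 : List ℕ} (h1 : ValidT L1) (h2 : ValidT L2)
    (h : compTbl L1 L2 = List.range 24) : fperm L1 * fperm L2 = 1 := by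
  apply tblOf_injective
  rw [tblOf_mul, tblOf_fperm h1, tblOf_fperm h2, tblOf_one, h]

theorem fperm_ne_one {L : List ℕ} (h1 : ValidT L) (h : L ≠ List.range 24) : fperm L ≠ 1 := by
  intro hc
  apply h
  rw [← tblOf_fperm h1, hc, tblOf_one]

theorem m11X_ok : okK m11X = true ∧ actK m11X d₀ = d₀ ∧ m11X.getD 0 0 = 0 := by decide +kernel
theorem m11Y_ok : okK m11Y = true ∧ actK m11Y d₀ = d₀ ∧ m11Y.getD 0 0 = 0 := by decide +kernel
theorem m11T_ok : okK m11T = true ∧ actK m11T d₀ = d₀ ∧ m11T.getD 0 0 = 0 := by decide +kernel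
theorem m11A_ok : okK m11A = true ∧ actK m11A d₀ = d₀ ∧ m11A.getD 0 0 = 0 := by decide +kernel
theorem m11B_ok : okK m11B = true ∧ actK m11B d₀ = d₀ ∧ m11B.getD 0 0 = 0 := by decide +kernel


noncomputable def m11x : ↥Cfsg.Spor.M11 := ⟨fperm m11X, fperm_mem_sporM11 m11X_ok.1 m11X_ok.2.1 m11X_ok.2.2⟩
noncomputable def m11y : ↥Cfsg.Spor.M11 := ⟨fperm m11Y, fperm_mem_sporM11 m11Y_ok.1 m11Y_ok.2.1 m11Y_ok.2.2⟩
noncomputable def m11t : ↥Cfsg.Spor.M11 := ⟨fperm m11T, fperm_mem_sporM11 m11T_ok.1 m11T_ok.2.1 m11T_ok.2.2⟩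
noncomputable def m11a : ↥Cfsg.Spor.M11 := ⟨fperm m11A, fperm_mem_sporM11 m11A_ok.1 m11A_ok.2.1 m11A_ok.2.2⟩
noncomputable def m11b : ↥Cfsg.Spor.M11 := ⟨fperm m11B, fperm_mem_sporM11 m11B_ok.1 m11B_ok.2.1 m11B_ok.2.2⟩

theorem m11X_v : ValidT m11X := okK_valid m11X_ok.1
theorem m11Y_v : ValidT m11Y := okK_valid m11Y_ok.1
theorem m11T_v : ValidT m11T := okK_valid m11T_ok.1
theorem m11A_v : ValidT m11A := okK_valid m11A_ok.1
theorem m11B_v : ValidT m11B := okK_valid m11B_ok.1

/-- table facts for the Sylow 3-subgroup -/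
theorem m11_tbl3 : compTbl m11X m11Y = compTbl m11Y m11X ∧
    compTbl m11X (compTbl m11X m11X) = List.range 24 ∧
    compTbl m11Y (compTbl m11Y m11Y) = List.range 24 ∧
    compTbl m11X (compTbl m11T m11X) = m11T ∧
    compTbl m11T m11Y = compTbl m11Y m11T ∧
    m11Y ≠ List.range 24 ∧ m11X ≠ List.range 24 := by decide +kernel

/-- table facts for the Sylow 2-subgroup -/
theorem m11_tbl2 : compTbl m11B m11B = List.range 24 ∧
    compTbl m11B m11A = compTbl m11A (compTbl m11A (compTbl m11A m11B)) ∧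
    compTbl (compTbl (compTbl m11A m11A) (compTbl m11A m11A))
      (compTbl (compTbl m11A m11A) (compTbl m11A m11A)) = List.range 24 ∧
    compTbl (compTbl m11A m11A) (compTbl m11A m11A) ≠ List.range 24 := by decide +kernel

theorem tblOf_mul_fperm (g : Equiv.Perm GolayPt) {L : List ℕ} (hL : ValidT L) :
    tblOf (g * fperm L) = compTbl (tblOf g) L := by
  rw [tblOf_mul, tblOf_fperm hL]

theorem m11x_mul_y : m11x * m11y = m11y * m11x := by
  apply Subtype.ext
  show fperm m11X * fperm m11Y = fperm m11Y * fperm m11X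
  apply tblOf_injective
  rw [tblOf_mul, tblOf_mul, tblOf_fperm m11X_v, tblOf_fperm m11Y_v]
  exact m11_tbl3.1

theorem m11x_pow : m11x ^ 3 = 1 := by
  apply Subtype.ext
  show fperm m11X ^ 3 = 1
  apply tblOf_injective
  rw [pow_succ', pow_two, tblOf_mul, tblOf_mul, tblOf_fperm m11X_v, tblOf_one]
  exact m11_tbl3.2.1

theorem m11y_pow : m11y ^ 3 = 1 := by
  apply Subtype.ext
  show fperm m11Y ^ 3 = 1
  apply tblOf_injective
  rw [pow_succ', pow_two, tblOf_mul, tblOf_mul, tblOf_fperm m11Y_v, tblOf_one]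
  exact m11_tbl3.2.2.1

theorem m11t_conj_x : m11t * m11x * m11t⁻¹ = m11x⁻¹ := by
  have h : m11x * (m11t * m11x) = m11t := by
    apply Subtype.ext
    show fperm m11X * (fperm m11T * fperm m11X) = fperm m11T
    apply tblOf_injective
    rw [tblOf_mul, tblOf_mul, tblOf_fperm m11X_v, tblOf_fperm m11T_v]
    exact m11_tbl3.2.2.2.1
  rw [mul_inv_eq_iff_eq_mul, eq_inv_mul_iff_mul_eq]
  exact h

theorem m11t_conj_y : m11t * m11y * m11t⁻¹ = m11y := by
  have h : m11t * m11y = m11y * m11t := by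
    apply Subtype.ext
    show fperm m11T * fperm m11Y = fperm m11Y * fperm m11T
    apply tblOf_injective
    rw [tblOf_mul, tblOf_mul, tblOf_fperm m11T_v, tblOf_fperm m11Y_v]
    exact m11_tbl3.2.2.2.2.1
  rw [mul_inv_eq_iff_eq_mul]
  exact h

theorem m11y_ne_one : m11y ≠ 1 := by
  intro h
  have h' : fperm m11Y = 1 := congrArg Subtype.val h
  exact fperm_ne_one m11Y_v m11_tbl3.2.2.2.2.2.1 h'

theorem m11x_ne_one : m11x ≠ 1 := by
  intro h
  have h' : fperm m11X = 1 := congrArg Subtype.val h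
  exact fperm_ne_one m11X_v m11_tbl3.2.2.2.2.2.2 h'

theorem m11b_sq : m11b ^ 2 = 1 := by
  apply Subtype.ext
  show fperm m11B ^ 2 = 1
  apply tblOf_injective
  rw [pow_two, tblOf_mul, tblOf_fperm m11B_v, tblOf_one]
  exact m11_tbl2.1

theorem m11b_conj_a : m11b * m11a * m11b⁻¹ = m11a ^ 3 := by
  have h : m11b * m11a = m11a ^ 3 * m11b := by
    apply Subtype.ext
    show fperm m11B * fperm m11A = fperm m11A ^ 3 * fperm m11B
    apply tblOf_injective
    rw [pow_succ', pow_two, mul_assoc, mul_assoc, tblOf_mul, tblOf_mul, tblOf_mul, tblOf_mul,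
      tblOf_fperm m11A_v, tblOf_fperm m11B_v]
    exact m11_tbl2.2.1
  rw [mul_inv_eq_iff_eq_mul]
  exact h

theorem m11a_order : orderOf m11a = 8 := by
  have e2 : tblOf (fperm m11A ^ 2) = compTbl m11A m11A := by
    rw [pow_two, tblOf_mul, tblOf_fperm m11A_v]
  have e4 : tblOf (fperm m11A ^ 4) = compTbl (compTbl m11A m11A) (compTbl m11A m11A) := by
    rw [show (4 : ℕ) = 2 * 2 by norm_num, pow_mul, pow_two (fperm m11A ^ 2), tblOf_mul, e2]
  have e8 : tblOf (fperm m11A ^ 8) = compTbl (compTbl (compTbl m11A m11A) (compTbl m11A m11A))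
      (compTbl (compTbl m11A m11A) (compTbl m11A m11A)) := by
    rw [show (8 : ℕ) = 4 * 2 by norm_num, pow_mul, pow_two (fperm m11A ^ 4), tblOf_mul, e4]
  have h8 : m11a ^ 2 ^ (2 + 1) = 1 := by
    apply Subtype.ext
    show fperm m11A ^ 2 ^ (2 + 1) = 1
    apply tblOf_injective
    rw [show (2 : ℕ) ^ (2 + 1) = 8 by norm_num, e8, tblOf_one]
    exact m11_tbl2.2.2.1
  have h4 : ¬ m11a ^ 2 ^ 2 = 1 := by
    intro h
    have h' : fperm m11A ^ 2 ^ 2 = 1 := congrArg Subtype.val h
    have h'' := congrArg tblOf h'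
    rw [show (2 : ℕ) ^ 2 = 4 by norm_num, e4, tblOf_one] at h''
    exact m11_tbl2.2.2.2 h''
  have := orderOf_eq_prime_pow h4 h8
  rw [this]
  norm_num

theorem m11_finite : Finite ↥Cfsg.Spor.M11 :=
  Nat.finite_of_card_ne_zero (by rw [Cfsg.Agent.Lib.Helper19.M11Inv.card_M11]; norm_num)

theorem m11_card_S2 : Nat.card (Subgroup.closure {m11a, m11b}) = 16 := by
  haveI := m11_finite
  have ha8 : m11a ^ 8 = 1 := by
    have := pow_orderOf_eq_one m11a
    rwa [m11a_order] at this
  have hle := card_closure_pair_le m11b_conj_a ha8 (by norm_num) m11b_sq (by norm_num)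
  have hamem : m11a ∈ Subgroup.closure {m11a, m11b} := Subgroup.subset_closure (by simp)
  have hbmem : m11b ∈ Subgroup.closure {m11a, m11b} := Subgroup.subset_closure (by simp)
  have hdvd : 8 ∣ Nat.card (Subgroup.closure {m11a, m11b}) := by
    have h1 : orderOf (⟨m11a, hamem⟩ : Subgroup.closure {m11a, m11b}) = 8 := by
      rw [← m11a_order]
      exact Subgroup.orderOf_mk m11a hamem
    rw [← h1]
    exact orderOf_dvd_natCard _
  have hne : Nat.card (Subgroup.closure {m11a, m11b}) ≠ 8 := by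
    intro h8
    have hzle : Subgroup.zpowers m11a ≤ Subgroup.closure {m11a, m11b} := by
      rw [Subgroup.zpowers_le]; exact hamem
    have hzc : Nat.card (Subgroup.zpowers m11a) = 8 := by rw [Nat.card_zpowers, m11a_order]
    have heq : Subgroup.zpowers m11a = Subgroup.closure {m11a, m11b} :=
      Subgroup.eq_of_le_of_card_ge hzle (by rw [hzc, h8])
    have hb : m11b ∈ Subgroup.zpowers m11a := by rw [heq]; exact hbmem
    obtain ⟨j, hj⟩ := Subgroup.mem_zpowers_iff.mp hb
    have hcomm : m11b * m11a = m11a * m11b := by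
      rw [← hj]
      exact ((Commute.refl m11a).zpow_left j).eq
    have h3 : m11a ^ 3 = m11a := by
      rw [← m11b_conj_a, hcomm]; group
    have h2 : m11a ^ 2 = 1 := by
      have : m11a ^ 3 = m11a ^ 2 * m11a := pow_succ m11a 2
      rw [this] at h3
      exact mul_eq_right.mp h3
    have := orderOf_dvd_of_pow_eq_one h2
    rw [m11a_order] at this
    omega
  obtain ⟨c, hc⟩ := hdvd
  have hpos : 0 < Nat.card (Subgroup.closure {m11a, m11b}) := Nat.card_pos
  omega

theorem m11_card_S3 : Nat.card (Subgroup.closure {m11x, m11y}) = 9 := by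
  haveI := m11_finite
  have hrel : m11y * m11x * m11y⁻¹ = m11x ^ 1 := by
    rw [pow_one, ← m11x_mul_y]; group
  have hle := card_closure_pair_le hrel m11x_pow (by norm_num) m11y_pow (by norm_num)
  have hxmem : m11x ∈ Subgroup.closure {m11x, m11y} := Subgroup.subset_closure (by simp)
  have hymem : m11y ∈ Subgroup.closure {m11x, m11y} := Subgroup.subset_closure (by simp)
  -- exponent 3
  have hexp : ∀ g : Subgroup.closure {m11x, m11y}, g ^ 3 ^ 1 = 1 := by
    rintro ⟨g, hg⟩
    obtain ⟨i, j, rfl⟩ := mem_closure_pair_nf hrel m11x_pow (by norm_num) m11y_pow (by norm_num) hg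
    apply Subtype.ext
    show (m11x ^ i * m11y ^ j) ^ 3 ^ 1 = 1
    have hc : Commute (m11x ^ i) (m11y ^ j) :=
      (Commute.pow_pow (show Commute m11x m11y from m11x_mul_y) i j)
    rw [pow_one, hc.mul_pow, ← pow_mul, ← pow_mul, mul_comm i 3, mul_comm j 3, pow_mul, pow_mul,
      m11x_pow, m11y_pow, one_pow, one_pow, one_mul]
  haveI : Fact (Nat.Prime 3) := ⟨Nat.prime_three⟩
  have hpg : IsPGroup 3 (Subgroup.closure {m11x, m11y}) := fun g => ⟨1, hexp g⟩
  obtain ⟨e, he⟩ := IsPGroup.iff_card.mp hpg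
  have hxo : orderOf m11x = 3 := orderOf_eq_prime m11x_pow m11x_ne_one
  have hne : Nat.card (Subgroup.closure {m11x, m11y}) ≠ 3 := by
    intro h3
    have hzle : Subgroup.zpowers m11x ≤ Subgroup.closure {m11x, m11y} := by
      rw [Subgroup.zpowers_le]; exact hxmem
    have hzc : Nat.card (Subgroup.zpowers m11x) = 3 := by rw [Nat.card_zpowers, hxo]
    have heq : Subgroup.zpowers m11x = Subgroup.closure {m11x, m11y} :=
      Subgroup.eq_of_le_of_card_ge hzle (by rw [hzc, h3])
    have hy : m11y ∈ Subgroup.zpowers m11x := by rw [heq]; exact hymem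
    obtain ⟨j, hj⟩ := Subgroup.mem_zpowers_iff.mp hy
    -- conjugation by t inverts y, but also fixes it
    have h1 : m11t * m11y * m11t⁻¹ = m11y⁻¹ := by
      rw [← hj, ← conj_zpow, m11t_conj_x, inv_zpow]
    rw [m11t_conj_y] at h1
    have h2 : m11y ^ 2 = 1 := by
      rw [pow_two]
      nth_rewrite 2 [h1]
      exact mul_inv_cancel _
    have h3' : m11y = 1 := by
      have : m11y ^ 3 = m11y ^ 2 * m11y := pow_succ m11y 2
      rw [m11y_pow, h2, one_mul] at this
      exact this.symm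
    exact m11y_ne_one h3'
  have hdvd : 3 ∣ Nat.card (Subgroup.closure {m11x, m11y}) := by
    have h1 : orderOf (⟨m11x, hxmem⟩ : Subgroup.closure {m11x, m11y}) = 3 := by
      rw [← hxo]
      exact Subgroup.orderOf_mk m11x hxmem
    rw [← h1]
    exact orderOf_dvd_natCard _
  rw [he] at hle hne hdvd ⊢
  have he2 : e ≤ 2 := by
    by_contra hlt
    push Not at hlt
    have : 3 ^ 3 ≤ 3 ^ e := Nat.pow_le_pow_right (by norm_num) hlt
    omega
  interval_cases e
  · omega
  · omega
  · norm_num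

/-- every finite stem extension of `M₁₁` is trivial -/
theorem m11_stem_ker_trivial {Γ : Type*} [Group Γ] [Finite Γ] (σ : Γ →* ↥Cfsg.Spor.M11)
    (hsurj : Function.Surjective σ) (hcen : σ.ker ≤ Subgroup.center Γ)
    (hder : σ.ker ≤ commutator Γ) : ∀ z ∈ σ.ker, z = 1 := by
  haveI := m11_finite
  have hcard := Cfsg.Agent.Lib.Helper19.M11Inv.card_M11
  apply stem_ker_trivial_of_primes σ
  intro r hr z hz hzr
  have hrP : r.Prime := hr.out
  by_cases hr2 : r = 2
  · subst hr2
    have hind : ¬ 2 ∣ (Subgroup.closure {m11a, m11b}).index := by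
      have h1 := Subgroup.card_mul_index (Subgroup.closure {m11a, m11b})
      rw [m11_card_S2, hcard] at h1
      have : (Subgroup.closure {m11a, m11b}).index = 495 := by omega
      rw [this]
      norm_num
    exact stem_no_prime_of_subgroup σ hsurj hcen hder _ hind
      (comm_comap_trivial_of_sd σ hsurj hcen m11a m11b m11b_conj_a m11b_sq m11a_order) hz hzr
  · by_cases hr3 : r = 3
    · subst hr3
      have hind : ¬ 3 ∣ (Subgroup.closure {m11x, m11y}).index := by
        have h1 := Subgroup.card_mul_index (Subgroup.closure {m11x, m11y})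
        rw [m11_card_S3, hcard] at h1
        have : (Subgroup.closure {m11x, m11y}).index = 880 := by omega
        rw [this]
        norm_num
      refine stem_no_prime_of_subgroup σ hsurj hcen hder _ hind ?_ hz hzr
      intro w hw _
      exact comm_comap_trivial_of_inverted_pair σ hsurj hcen m11x m11y m11t m11x_mul_y 3
        (by decide) m11x_pow m11t_conj_x m11t_conj_y w hw
    · obtain ⟨R⟩ : Nonempty (Sylow r ↥Cfsg.Spor.M11) := inferInstance
      have hcyc : IsCyclic (R : Subgroup ↥Cfsg.Spor.M11) := by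
        obtain ⟨k, hk⟩ := IsPGroup.iff_card.mp R.2
        have hdvd : r ^ k ∣ 7920 := by
          rw [← hk, ← hcard]
          exact Subgroup.card_subgroup_dvd_card _
        have hk1 : k ≤ 1 := by
          by_contra hlt
          push Not at hlt
          have h2 : r ^ 2 ∣ 7920 := dvd_trans (pow_dvd_pow r hlt) hdvd
          have hle : r ^ 2 ≤ 7920 := Nat.le_of_dvd (by norm_num) h2
          have hr89 : r ≤ 88 := by
            by_contra h89
            push Not at h89
            have : 89 ^ 2 ≤ r ^ 2 := Nat.pow_le_pow_left h89 2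
            omega
          have hr2' := hrP.two_le
          interval_cases r <;> first | omega | (exfalso; revert hrP; norm_num)
        interval_cases k
        · rw [pow_zero] at hk
          haveI : Subsingleton (R : Subgroup ↥Cfsg.Spor.M11) :=
            (Nat.card_eq_one_iff_unique.mp hk).1
          exact isCyclic_of_subsingleton
        · rw [pow_one] at hk
          exact isCyclic_of_prime_card hk
      haveI := hcyc
      have hind : ¬ r ∣ (R : Subgroup ↥Cfsg.Spor.M11).index := Sylow.not_dvd_index R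
      refine stem_no_prime_of_subgroup σ hsurj hcen hder (R : Subgroup ↥Cfsg.Spor.M11) hind ?_ hz hzr
      intro w hw _
      exact comm_comap_trivial_of_cyclic σ hcen (R : Subgroup ↥Cfsg.Spor.M11) w hw

end Cfsg.Agent.Lib.helper3
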