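import Mathlib
import Cfsg.Agent.Lib.Lead.F4c
import Cfsg.Agent.Lib.Lead.SLn
import Cfsg.Agent.Lib.helper4.SextetKerB
import Cfsg.Agent.Lib.helper4.M24Stab

set_option autoImplicit false

namespace Cfsg.Agent.Lib.helper3

open Cfsg Matrix
open Cfsg.Agent.Lib.helper4
open Cfsg.Agent.Lib.Helper12.Golay
open Cfsg.Agent.Lib.Lead.F4
open Cfsg.Agent.Lib.Lead.F4.F4c

/-! ### The action of `SL₃(4)` on the 24 points fixing three of them -/

/-- the vector labelling the point with a given index (junk at the indices `0`, `1`, `23`) -/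
def vecTbl : List (F4c × F4c × F4c) := [(z, z, z), (z, z, z), (z, z, o), (z, o, z), (o, z, z), (z, o, o), (o, o, w), (o, o, o), (o, w, w), (o, v, o), (o, v, w), (o, w, z), (o, w, v), (o, z, w), (z, o, v), (o, v, v), (o, z, o), (z, o, w), (o, w, o), (o, o, z), (o, v, z), (o, o, v), (o, z, v), (z, z, z)]

/-- the index of the point labelled by a vector, through its code `16 a + 4 b + c` -/
def idxTbl : List ℕ := [23, 2, 23, 23, 3, 5, 17, 14, 23, 23, 23, 23, 23, 23, 23, 23, 4, 16, 13, 22, 19, 7, 6, 21, 11, 18, 8, 12, 20, 9, 10, 15, 23, 23, 23, 23, 23, 23, 23, 23, 23, 23, 23, 23, 23, 23, 23, 23, 23, 23, 23, 23, 23, 23, 23, 23, 23, 23, 23, 23, 23, 23, 23, 23]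

/-- numeric code of a field element -/
def encF : F4c → ℕ
  | z => 0
  | o => 1
  | w => 2
  | v => 3

/-- the vector of a point index -/
def idxVec (i : ℕ) : Fin 3 → F4c :=
  let t := vecTbl.getD i (z, z, z)
  ![t.1, t.2.1, t.2.2]

/-- the point index of a vector -/
def vecIdx (u : Fin 3 → F4c) : ℕ :=
  idxTbl.getD (16 * encF (u 0) + 4 * encF (u 1) + encF (u 2)) 23

/-- normalisation: scale the first non-zero coordinate to one -/
def nrm (u : Fin 3 → F4c) : Fin 3 → F4c :=
  if u 0 ≠ 0 then (u 0)⁻¹ • u else if u 1 ≠ 0 then (u 1)⁻¹ • u else (u 2)⁻¹ • u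

/-- the three fixed points -/
def isTrip (i : ℕ) : Bool := i == 0 || i == 1 || i == 23

/-- the action of a matrix on the points -/
def actV (A : Matrix (Fin 3) (Fin 3) F4c) (p : GolayPt) : GolayPt :=
  if isTrip (idx p) then p else pt (vecIdx (nrm (A *ᵥ idxVec (idx p))))

theorem vec_eta (u : Fin 3 → F4c) : u = ![u 0, u 1, u 2] := by
  ext i
  fin_cases i <;> rfl

theorem pt_facts : ∀ p : GolayPt, isTrip (idx p) = false →
    idxVec (idx p) ≠ 0 ∧ nrm (idxVec (idx p)) = idxVec (idx p) ∧ pt (vecIdx (idxVec (idx p))) = p := by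
  decide

theorem vec_facts : ∀ a b c : F4c, ![a, b, c] ≠ 0 →
    isTrip (vecIdx (nrm ![a, b, c])) = false ∧ vecIdx (nrm ![a, b, c]) < 24 ∧
      idxVec (vecIdx (nrm ![a, b, c])) = nrm ![a, b, c] ∧
      ∃ d : F4c, d ≠ 0 ∧ nrm ![a, b, c] = d • ![a, b, c] := by
  decide

theorem nrm_smul_facts : ∀ d a b c : F4c, d ≠ 0 → nrm (d • ![a, b, c]) = nrm ![a, b, c] := by
  decide

theorem vec_facts' (u : Fin 3 → F4c) (hu : u ≠ 0) :
    isTrip (vecIdx (nrm u)) = false ∧ vecIdx (nrm u) < 24 ∧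
      idxVec (vecIdx (nrm u)) = nrm u ∧ ∃ d : F4c, d ≠ 0 ∧ nrm u = d • u := by
  rw [vec_eta u] at hu ⊢
  exact vec_facts _ _ _ hu

theorem nrm_smul (d : F4c) (hd : d ≠ 0) (u : Fin 3 → F4c) : nrm (d • u) = nrm u := by
  rw [vec_eta u]
  exact nrm_smul_facts d _ _ _ hd

theorem actV_trip (A : Matrix (Fin 3) (Fin 3) F4c) (p : GolayPt) (hp : isTrip (idx p) = true) :
    actV A p = p := by
  unfold actV
  rw [if_pos hp]

theorem actV_of_not_trip (A : Matrix (Fin 3) (Fin 3) F4c) (p : GolayPt)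
    (hp : isTrip (idx p) = false) : actV A p = pt (vecIdx (nrm (A *ᵥ idxVec (idx p)))) := by
  unfold actV
  rw [if_neg (by rw [hp]; exact Bool.false_ne_true)]

theorem actV_one (p : GolayPt) : actV 1 p = p := by
  by_cases hp : isTrip (idx p) = true
  · exact actV_trip 1 p hp
  · rw [Bool.not_eq_true] at hp
    rw [actV_of_not_trip 1 p hp, Matrix.one_mulVec, (pt_facts p hp).2.1, (pt_facts p hp).2.2]

theorem mulVec_ne_zero {A B : Matrix (Fin 3) (Fin 3) F4c} (hBA : B * A = 1) {u : Fin 3 → F4c}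
    (hu : u ≠ 0) : A *ᵥ u ≠ 0 := by
  intro h
  apply hu
  have : B *ᵥ (A *ᵥ u) = u := by rw [Matrix.mulVec_mulVec, hBA, Matrix.one_mulVec]
  rw [← this, h, Matrix.mulVec_zero]

theorem actV_mul (A B B' : Matrix (Fin 3) (Fin 3) F4c) (hB : B' * B = 1) (p : GolayPt) :
    actV (A * B) p = actV A (actV B p) := by
  by_cases hp : isTrip (idx p) = true
  · rw [actV_trip _ p hp, actV_trip _ p hp, actV_trip _ p hp]
  · rw [Bool.not_eq_true] at hp
    obtain ⟨h1, -, -⟩ := pt_facts p hp
    have hu : B *ᵥ idxVec (idx p) ≠ 0 := mulVec_ne_zero hB h1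
    obtain ⟨g1, g2, g3, d, hd, g4⟩ := vec_facts' _ hu
    rw [actV_of_not_trip B p hp]
    have hidx : idx (pt (vecIdx (nrm (B *ᵥ idxVec (idx p))))) = vecIdx (nrm (B *ᵥ idxVec (idx p))) :=
      idx_pt g2
    have hq : isTrip (idx (pt (vecIdx (nrm (B *ᵥ idxVec (idx p)))))) = false := by
      rw [hidx]; exact g1
    rw [actV_of_not_trip A _ hq, hidx, g3, actV_of_not_trip _ p hp, g4, Matrix.mulVec_smul,
      nrm_smul d hd, Matrix.mulVec_mulVec]

/-- the homomorphism from `SL₃(4)` to the permutations of the 24 points -/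
def slPerm : Matrix.SpecialLinearGroup (Fin 3) F4c →* Equiv.Perm GolayPt where
  toFun A :=
    { toFun := actV A.1
      invFun := actV (A⁻¹).1
      left_inv := fun p => by
        have h : (A⁻¹).1 * A.1 = 1 := by
          rw [← Matrix.SpecialLinearGroup.coe_mul, inv_mul_cancel, Matrix.SpecialLinearGroup.coe_one]
        rw [← actV_mul _ _ (A⁻¹).1 h, h, actV_one]
      right_inv := fun p => by
        have h : A.1 * (A⁻¹).1 = 1 := by
          rw [← Matrix.SpecialLinearGroup.coe_mul, mul_inv_cancel, Matrix.SpecialLinearGroup.coe_one]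
        rw [← actV_mul _ _ A.1 h, h, actV_one] }
  map_one' := by
    apply Equiv.ext
    intro p
    exact actV_one p
  map_mul' A B := by
    apply Equiv.ext
    intro p
    have h : (B⁻¹).1 * B.1 = 1 := by
      rw [← Matrix.SpecialLinearGroup.coe_mul, inv_mul_cancel, Matrix.SpecialLinearGroup.coe_one]
    exact actV_mul A.1 B.1 (B⁻¹).1 h p

theorem slPerm_apply (A : Matrix.SpecialLinearGroup (Fin 3) F4c) (p : GolayPt) :
    slPerm A p = actV A.1 p := rfl

set_option maxRecDepth 1000000 in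
theorem transvection_okK : ∀ i j : Fin 3, i ≠ j → ∀ c : F4c,
    okK ((List.range 24).map fun k => idx (actV (Matrix.transvection i j c) (pt k))) = true := by
  decide +kernel

theorem slPerm_transvection_mem (i j : Fin 3) (h : i ≠ j) (c : F4c) :
    slPerm (Matrix.SpecialLinearGroup.transvection h c) ∈ M24 := by
  rw [eq_fperm_tblOf (slPerm (Matrix.SpecialLinearGroup.transvection h c))]
  exact fperm_mem (transvection_okK i j h c)

theorem slPerm_mem (A : Matrix.SpecialLinearGroup (Fin 3) F4c) : slPerm A ∈ M24 := by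
  refine Cfsg.Agent.Lib.Lead.SL_transvection_induction (fun A => slPerm A ∈ M24) ?_ ?_ A
  · intro i j h c
    exact slPerm_transvection_mem i j h c
  · intro A B hA hB
    rw [map_mul]
    exact M24.mul_mem hA hB

end Cfsg.Agent.Lib.helper3
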