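import Mathlib
import Cfsg.Agent.Lib.helper3.M21A
import Cfsg.Agent.Lib.Helper19.L33Inv

set_option autoImplicit false

namespace Cfsg.Agent.Lib.helper3

open Cfsg Matrix
open Cfsg.Agent.Lib.helper4
open Cfsg.Agent.Lib.Helper12.Golay
open Cfsg.Agent.Lib.Lead.F4
open Cfsg.Agent.Lib.Lead.F4.F4c

/-! ### The stabiliser of three points is `PSL₃(4)` -/

/-- the stabiliser of the three points `0`, `1`, `∞` -/
noncomputable def m21 : Subgroup ↥M24 :=
  MulAction.stabilizer ↥M24 (pt 0) ⊓ MulAction.stabilizer ↥M24 (pt 1) ⊓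
    MulAction.stabilizer ↥M24 (pt 23)

/-- the homomorphism into the group of the code -/
noncomputable def slM24 : Matrix.SpecialLinearGroup (Fin 3) F4c →* ↥M24 :=
  slPerm.codRestrict M24 slPerm_mem

theorem slM24_smul (A : Matrix.SpecialLinearGroup (Fin 3) F4c) (p : GolayPt) :
    slM24 A • p = actV A.1 p := rfl

theorem slM24_mem (A : Matrix.SpecialLinearGroup (Fin 3) F4c) : slM24 A ∈ m21 := by
  unfold m21
  refine Subgroup.mem_inf.mpr ⟨Subgroup.mem_inf.mpr ⟨?_, ?_⟩, ?_⟩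
  all_goals
    rw [MulAction.mem_stabilizer_iff, slM24_smul]
    exact actV_trip _ _ (by decide)

/-- the homomorphism into the stabiliser of the three points -/
noncomputable def slM21 : Matrix.SpecialLinearGroup (Fin 3) F4c →* ↥m21 :=
  slM24.codRestrict m21 slM24_mem

theorem slM21_eq_one_iff (A : Matrix.SpecialLinearGroup (Fin 3) F4c) :
    slM21 A = 1 ↔ ∀ p : GolayPt, actV A.1 p = p := by
  constructor
  · intro h p
    have h1 : slM24 A = 1 := congrArg Subtype.val h
    rw [← slM24_smul, h1, one_smul]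
  · intro h
    apply Subtype.ext
    apply Subtype.ext
    apply Equiv.ext
    intro p
    exact h p

theorem fix_imp (A : Matrix.SpecialLinearGroup (Fin 3) F4c) (k : ℕ) (hk : isTrip k = false)
    (hk24 : k < 24) (hfix : actV A.1 (pt k) = pt k) : nrm (A.1 *ᵥ idxVec k) = idxVec k := by
  have hidx : idx (pt k) = k := idx_pt hk24
  have hp : isTrip (idx (pt k)) = false := by rw [hidx]; exact hk
  rw [actV_of_not_trip _ _ hp, hidx] at hfix
  have h : (A⁻¹).1 * A.1 = 1 := by
    rw [← Matrix.SpecialLinearGroup.coe_mul, inv_mul_cancel, Matrix.SpecialLinearGroup.coe_one]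
  have h1 := (pt_facts (pt k) hp).1
  rw [hidx] at h1
  obtain ⟨-, g2, g3, -⟩ := vec_facts' _ (mulVec_ne_zero h h1)
  have h2 := congrArg idx hfix
  rw [idx_pt g2, hidx] at h2
  rw [← g3, h2]

theorem col_facts : ∀ a b c : F4c,
    (nrm ![a, b, c] = ![1, 0, 0] → a ≠ 0 ∧ b = 0 ∧ c = 0) ∧
    (nrm ![a, b, c] = ![0, 1, 0] → a = 0 ∧ c = 0) ∧
    (nrm ![a, b, c] = ![0, 0, 1] → a = 0 ∧ b = 0) ∧
    (nrm ![a, b, c] = ![1, 1, 1] → a = b ∧ b = c) := by
  decide

theorem idxVec_vals : idxVec 4 = ![1, 0, 0] ∧ idxVec 3 = ![0, 1, 0] ∧ idxVec 2 = ![0, 0, 1] ∧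
    idxVec 7 = ![1, 1, 1] := by decide

theorem mulVec_vec3 (M : Matrix (Fin 3) (Fin 3) F4c) (a b c : F4c) :
    M *ᵥ ![a, b, c] = ![M 0 0 * a + M 0 1 * b + M 0 2 * c, M 1 0 * a + M 1 1 * b + M 1 2 * c,
      M 2 0 * a + M 2 1 * b + M 2 2 * c] := by
  ext i
  fin_cases i <;> simp [Matrix.mulVec, dotProduct, Fin.sum_univ_three]

theorem cube_facts : ∀ r : F4c, r ≠ 0 → r ^ 3 = 1 := by decide

theorem ker_le_center : slM21.ker ≤ Subgroup.center (Matrix.SpecialLinearGroup (Fin 3) F4c) := by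
  intro A hA
  rw [MonoidHom.mem_ker, slM21_eq_one_iff] at hA
  obtain ⟨e4, e3, e2, e7⟩ := idxVec_vals
  have h4 := fix_imp A 4 (by decide) (by norm_num) (hA _)
  have h3 := fix_imp A 3 (by decide) (by norm_num) (hA _)
  have h2 := fix_imp A 2 (by decide) (by norm_num) (hA _)
  have h7 := fix_imp A 7 (by decide) (by norm_num) (hA _)
  rw [e4, mulVec_vec3] at h4
  rw [e3, mulVec_vec3] at h3
  rw [e2, mulVec_vec3] at h2
  rw [e7, mulVec_vec3] at h7
  simp only [mul_one, mul_zero, add_zero, zero_add] at h4 h3 h2 h7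
  obtain ⟨a00, a10, a20⟩ := (col_facts _ _ _).1 h4
  obtain ⟨a01, a21⟩ := (col_facts _ _ _).2.1 h3
  obtain ⟨a02, a12⟩ := (col_facts _ _ _).2.2.1 h2
  rw [a10, a20, a01, a21, a02, a12] at h7
  simp only [add_zero, zero_add] at h7
  obtain ⟨b1, b2⟩ := (col_facts _ _ _).2.2.2 h7
  have hmat : A.1 = Matrix.scalar (Fin 3) (A.1 0 0) := by
    ext i j
    fin_cases i <;> fin_cases j <;> simp [a10, a20, a01, a21, a02, a12, ← b1, ← b2]
  have hdet : (A.1 0 0) ^ 3 = 1 := cube_facts _ a00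
  rw [Matrix.SpecialLinearGroup.mem_center_iff]
  exact ⟨A.1 0 0, by simpa using hdet, hmat.symm⟩

theorem center_le_ker : Subgroup.center (Matrix.SpecialLinearGroup (Fin 3) F4c) ≤ slM21.ker := by
  intro A hA
  rw [Matrix.SpecialLinearGroup.mem_center_iff] at hA
  obtain ⟨r, hr, hA⟩ := hA
  have hr0 : r ≠ 0 := by
    rintro rfl
    simp at hr
  rw [MonoidHom.mem_ker, slM21_eq_one_iff]
  intro p
  by_cases hp : isTrip (idx p) = true
  · exact actV_trip _ p hp
  · rw [Bool.not_eq_true] at hp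
    have h1 : A.1 *ᵥ idxVec (idx p) = r • idxVec (idx p) := by
      rw [← hA, Matrix.scalar_apply, ← Matrix.smul_one_eq_diagonal, Matrix.smul_mulVec,
        Matrix.one_mulVec]
    rw [actV_of_not_trip _ p hp, h1, nrm_smul r hr0, (pt_facts p hp).2.1, (pt_facts p hp).2.2]

theorem ker_eq_center : slM21.ker = Subgroup.center (Matrix.SpecialLinearGroup (Fin 3) F4c) :=
  le_antisymm ker_le_center center_le_ker

theorem card_F4c : Fintype.card F4c = 4 := by decide

theorem card_SL3_F4c : Nat.card (Matrix.SpecialLinearGroup (Fin 3) F4c) = 60480 := by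
  have h1 := Cfsg.Agent.Lib.Helper19.L33Inv.card_SL_mul (F := F4c) (n := 3) (by norm_num)
  rw [Matrix.card_GL_field, card_F4c, Fin.prod_univ_three] at h1
  have h2 : (4 ^ 3 - 4 ^ ((0 : Fin 3) : ℕ)) * (4 ^ 3 - 4 ^ ((1 : Fin 3) : ℕ)) *
      (4 ^ 3 - 4 ^ ((2 : Fin 3) : ℕ)) = 181440 := by decide
  rw [h2] at h1
  omega

theorem card_center_SL3_F4c_le :
    Nat.card (Subgroup.center (Matrix.SpecialLinearGroup (Fin 3) F4c)) ≤ 3 := by
  have e := Matrix.SpecialLinearGroup.center_equiv_rootsOfUnity (n := Fin 3) (R := F4c)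
  rw [Nat.card_congr e.toEquiv]
  have h1 : Nat.card (rootsOfUnity (max (Fintype.card (Fin 3)) 1) F4c) ≤ Nat.card F4cˣ :=
    Subgroup.card_le_card_group _
  have h2 : Nat.card F4cˣ = 3 := by
    rw [Nat.card_units, Nat.card_eq_fintype_card, card_F4c]
  omega

/-- the embedding of `Fin 3` given by three distinct points -/
def emb3 (p q r : GolayPt) (hpq : p ≠ q) (hpr : p ≠ r) (hqr : q ≠ r) : Fin 3 ↪ GolayPt where
  toFun := ![p, q, r]
  inj' := by
    intro i j h
    fin_cases i <;> fin_cases j <;> first | rfl | (exfalso; simp at h; tauto)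

theorem stabilizer_emb3 (p q r : GolayPt) (hpq : p ≠ q) (hpr : p ≠ r) (hqr : q ≠ r) :
    MulAction.stabilizer ↥M24 (emb3 p q r hpq hpr hqr) =
      MulAction.stabilizer ↥M24 p ⊓ MulAction.stabilizer ↥M24 q ⊓ MulAction.stabilizer ↥M24 r := by
  ext g
  rw [Subgroup.mem_inf, Subgroup.mem_inf]
  constructor
  · intro h
    have h' := (mem_stabilizer_emb_iff (emb3 p q r hpq hpr hqr) g).mp h
    exact ⟨⟨MulAction.mem_stabilizer_iff.mpr (h' 0), MulAction.mem_stabilizer_iff.mpr (h' 1)⟩,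
      MulAction.mem_stabilizer_iff.mpr (h' 2)⟩
  · rintro ⟨⟨h0, h1⟩, h2⟩
    apply (mem_stabilizer_emb_iff (emb3 p q r hpq hpr hqr) g).mpr
    intro i
    fin_cases i
    · exact MulAction.mem_stabilizer_iff.mp h0
    · exact MulAction.mem_stabilizer_iff.mp h1
    · exact MulAction.mem_stabilizer_iff.mp h2

theorem card_triple_stab (p q r : GolayPt) (hpq : p ≠ q) (hpr : p ≠ r) (hqr : q ≠ r) :
    Nat.card ↥(MulAction.stabilizer ↥M24 p ⊓ MulAction.stabilizer ↥M24 q ⊓
      MulAction.stabilizer ↥M24 r) = 20160 := by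
  haveI := M24_pretrans_le 3 (by norm_num)
  have h := card_stabilizer_emb_mul_card (G := ↥M24) 3 (emb3 p q r hpq hpr hqr)
  rw [card_emb_golayPt, Cfsg.Agent.Lib.helper3.card_M24] at h
  rw [← stabilizer_emb3 p q r hpq hpr hqr]
  have h3 : Nat.descFactorial 24 3 = 12144 := by decide
  rw [h3] at h
  have h4 : (244823040 : ℕ) = 20160 * 12144 := by norm_num
  rw [h4] at h
  exact Nat.eq_of_mul_eq_mul_right (by norm_num) h

theorem card_m21 : Nat.card ↥m21 = 20160 :=
  card_triple_stab _ _ _ (by decide) (by decide) (by decide)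

theorem slM21_surjective : Function.Surjective slM21 := by
  haveI : Finite ↥M24 := finite_M24
  rw [← MonoidHom.range_eq_top]
  apply Subgroup.eq_top_of_le_card
  have h1 := Subgroup.card_mul_index slM21.ker
  rw [Subgroup.index_ker, card_SL3_F4c, ker_eq_center] at h1
  have h2 := card_center_SL3_F4c_le
  have h3 : Nat.card ↥slM21.range ≤ Nat.card ↥m21 := Subgroup.card_le_card_group _
  rw [card_m21] at h3 ⊢
  nlinarith

/-- `PSL₃(4)` over the concrete field is the stabiliser of the three points -/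
noncomputable def pslEquivM21 : Matrix.ProjectiveSpecialLinearGroup (Fin 3) F4c ≃* ↥m21 :=
  (QuotientGroup.quotientMulEquivOfEq ker_eq_center.symm).trans
    (QuotientGroup.quotientKerEquivOfSurjective slM21 slM21_surjective)

end Cfsg.Agent.Lib.helper3
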