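import Mathlib
import Cfsg.Agent.Lib.helper3.M21B

set_option autoImplicit false

namespace Cfsg.Agent.Lib.helper3

open Cfsg Matrix
open Cfsg.Agent.Lib.helper4
open Cfsg.Agent.Lib.Helper12.Golay
open Cfsg.Agent.Lib.Lead.F4
open Cfsg.Agent.Lib.Lead.F4.F4c

/-- the centre is carried to the centre by an isomorphism of groups -/
theorem map_center_of_mulEquiv {A B : Type*} [Group A] [Group B] (e : A ≃* B) :
    (Subgroup.center A).map e.toMonoidHom = Subgroup.center B := by
  ext x
  rw [Subgroup.mem_map, Subgroup.mem_center_iff]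
  constructor
  · rintro ⟨a, ha, rfl⟩ g
    rw [Subgroup.mem_center_iff] at ha
    obtain ⟨g', rfl⟩ := e.surjective g
    show e g' * e a = e a * e g'
    rw [← map_mul, ← map_mul, ha g']
  · intro hx
    refine ⟨e.symm x, ?_, by simp⟩
    rw [Subgroup.mem_center_iff]
    intro g
    apply e.injective
    rw [map_mul, map_mul, e.apply_symm_apply]
    exact hx (e g)

/-- special linear groups over isomorphic rings -/
noncomputable def slCongrRing {n : Type*} [Fintype n] [DecidableEq n] {K K' : Type*}
    [CommRing K] [CommRing K'] (e : K ≃+* K') :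
    Matrix.SpecialLinearGroup n K ≃* Matrix.SpecialLinearGroup n K' where
  toFun := Matrix.SpecialLinearGroup.map e.toRingHom
  invFun := Matrix.SpecialLinearGroup.map e.symm.toRingHom
  left_inv := by
    intro A
    ext i j
    show e.symm (e ((A : Matrix n n K) i j)) = _
    simp
  right_inv := by
    intro A
    ext i j
    show e (e.symm ((A : Matrix n n K') i j)) = _
    simp
  map_mul' := fun A B => map_mul _ A B

/-- projective special linear groups over isomorphic rings -/
noncomputable def pslCongrRing {n : Type*} [Fintype n] [DecidableEq n] {K K' : Type*}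
    [CommRing K] [CommRing K'] (e : K ≃+* K') :
    Matrix.ProjectiveSpecialLinearGroup n K ≃* Matrix.ProjectiveSpecialLinearGroup n K' :=
  QuotientGroup.congr _ _ (slCongrRing e) (map_center_of_mulEquiv (slCongrRing e))

/-- any triple stabiliser is isomorphic to the standard one -/
theorem triple_stab_equiv (p q r : GolayPt) (hpq : p ≠ q) (hpr : p ≠ r) (hqr : q ≠ r) :
    Nonempty (↥(MulAction.stabilizer ↥M24 p ⊓ MulAction.stabilizer ↥M24 q ⊓
      MulAction.stabilizer ↥M24 r) ≃* ↥m21) := by
  haveI := M24_pretrans_le 3 (by norm_num)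
  obtain ⟨g, hg⟩ := MulAction.exists_smul_eq (↥M24)
    (emb3 p q r hpq hpr hqr) (emb3 (pt 0) (pt 1) (pt 23) (by decide) (by decide) (by decide))
  have e1 := MulAction.stabilizerEquivStabilizer (G := ↥M24) hg.symm
  have e0 := MulEquiv.subgroupCongr (stabilizer_emb3 p q r hpq hpr hqr)
  have e2 := MulEquiv.subgroupCongr
    (stabilizer_emb3 (pt 0) (pt 1) (pt 23) (by decide) (by decide) (by decide))
  exact ⟨(e0.symm.trans e1).trans e2⟩

/-- the stabiliser of three points is `PSL₃` of the field of order four -/
theorem triple_stab_psl (p q r : GolayPt) (hpq : p ≠ q) (hpr : p ≠ r) (hqr : q ≠ r)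
    (F : Type) [Field F] [Fintype F] (hF : Fintype.card F = 4) :
    Nonempty (↥(MulAction.stabilizer ↥M24 p ⊓ MulAction.stabilizer ↥M24 q ⊓
      MulAction.stabilizer ↥M24 r) ≃* Matrix.ProjectiveSpecialLinearGroup (Fin 3) F) := by
  obtain ⟨e1⟩ := triple_stab_equiv p q r hpq hpr hqr
  have hcard : Fintype.card F = Fintype.card F4c := by rw [hF, card_F4c]
  let e : F ≃+* F4c := FiniteField.ringEquivOfCardEq hcard
  exact ⟨(e1.trans pslEquivM21.symm).trans (pslCongrRing e).symm⟩

end Cfsg.Agent.Lib.helper3
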