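import Mathlib
import Cfsg.Agent.Lib.helper3.GolayPerm

set_option autoImplicit false

/-! Transitivity of the two-point stabiliser of the Mathieu group on flags, from tables. -/

namespace Cfsg.Agent.Lib.helper3

open Cfsg

/-- check of one entry `(k, j, L)` against the base flag `(k0, j0)`: the table `L` is a
permutation in the Mathieu group fixing the points `∞` and `0`, carrying the support of the
codeword `k` to that of `k0` and the point `j` to `j0` -/
def flagEntryOK (k0 j0 : ℕ) (e : ℕ × ℕ × List ℕ) : Bool :=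
  tblCheck e.2.2 && (e.2.2.getD 23 0 == 23) && (e.2.2.getD 0 0 == 0) &&
    (permMask e.2.2 (golayMask k0) == golayMask e.1) && (e.2.2.getD e.2.1 0 == j0)

theorem gpt_23 : gpt 23 = none := rfl

theorem gpt_0 : gpt 0 = some 0 := by
  unfold gpt
  simp

theorem flagEntry_spec {k0 j0 : ℕ} {e : ℕ × ℕ × List ℕ} (h : flagEntryOK k0 j0 e = true)
    (hj : e.2.1 < 24) :
    ∃ g ∈ M24, g none = none ∧ g (some 0) = some 0 ∧
      (∀ q, gword (golayMask k0) (g q) = gword (golayMask e.1) q) ∧ g (gpt e.2.1) = gpt j0 := by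
  unfold flagEntryOK at h
  simp only [Bool.and_eq_true, beq_iff_eq] at h
  obtain ⟨⟨⟨⟨hchk, h23⟩, h0⟩, hm⟩, hpt⟩ := h
  obtain ⟨g, hg, hgt⟩ := exists_perm_of_tblCheck hchk
  obtain ⟨hlen, hlt, _, _⟩ := tblCheck_spec hchk
  refine ⟨g, hg, ?_, ?_, fun q => ?_, ?_⟩
  · rw [hgt]
    show gpt (e.2.2.getD 23 0) = none
    rw [h23, gpt_23]
  · rw [hgt]
    have : gidx (some (0 : ZMod 23)) = 0 := rfl
    show gpt (e.2.2.getD (gidx (some (0 : ZMod 23))) 0) = some 0
    rw [this, h0, gpt_0]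
  · rw [hgt, gword_tblFun e.2.2 hlt hlen, hm]
  · rw [hgt, tblFun_gpt hj, hpt]

theorem flag_trans {k0 j0 : ℕ} (ents : List (ℕ × ℕ × List ℕ))
    (hok : ents.all (flagEntryOK k0 j0) = true) {k j k' j' : ℕ} (hj : j < 24) (hj' : j' < 24)
    (h : ents.any (fun e => e.1 == k && e.2.1 == j) = true)
    (h' : ents.any (fun e => e.1 == k' && e.2.1 == j') = true) :
    ∃ π ∈ M24, π none = none ∧ π (some 0) = some 0 ∧
      (∀ q, gword (golayMask k) (π q) = gword (golayMask k') q) ∧ π (gpt j') = gpt j := by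
  rw [List.all_eq_true] at hok
  simp only [List.any_eq_true, Bool.and_eq_true, beq_iff_eq] at h h'
  obtain ⟨e, he, rfl, rfl⟩ := h
  obtain ⟨e', he', rfl, rfl⟩ := h'
  obtain ⟨g, hg, g0, g1, gs, gp⟩ := flagEntry_spec (hok e he) hj
  obtain ⟨g', hg', g0', g1', gs', gp'⟩ := flagEntry_spec (hok e' he') hj'
  refine ⟨g⁻¹ * g', M24.mul_mem (M24.inv_mem hg) hg', ?_, ?_, fun q => ?_, ?_⟩
  · rw [Equiv.Perm.mul_apply, g0', Equiv.Perm.inv_eq_iff_eq, g0]
  · rw [Equiv.Perm.mul_apply, g1', Equiv.Perm.inv_eq_iff_eq, g1]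
  · have h1 := gs (g⁻¹ (g' q))
    rw [show g (g⁻¹ (g' q)) = g' q from Equiv.apply_symm_apply g _] at h1
    rw [Equiv.Perm.mul_apply, ← h1, gs']
  · rw [Equiv.Perm.mul_apply, gp', Equiv.Perm.inv_eq_iff_eq, gp]

/-- the class of a codeword relative to the points `∞` and `0`, on masks -/
def keyB (k : ℕ) : ℕ × Bool × Bool :=
  (popc (golayMask k &&& 8388606), (golayMask k).testBit 23, (golayMask k).testBit 0)

/-- all flags satisfying `cond` occur in the table -/
def flagComplete (cond : ℕ → ℕ → Bool) (ents : List (ℕ × ℕ × List ℕ)) : Bool :=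
  (List.range 4096).all (fun k => (List.range 24).all (fun j =>
    !cond k j || ents.any (fun e => e.1 == k && e.2.1 == j)))

theorem flagComplete_spec {cond : ℕ → ℕ → Bool} {ents : List (ℕ × ℕ × List ℕ)}
    (h : flagComplete cond ents = true) {k j : ℕ} (hk : k < 4096) (hj : j < 24)
    (hc : cond k j = true) : ents.any (fun e => e.1 == k && e.2.1 == j) = true := by
  unfold flagComplete at h
  rw [List.all_eq_true] at h
  have h1 := h k (List.mem_range.mpr hk)
  rw [List.all_eq_true] at h1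
  have h2 := h1 j (List.mem_range.mpr hj)
  rw [hc] at h2
  simpa using h2

end Cfsg.Agent.Lib.helper3
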