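import Mathlib
import Cfsg.Agent.Lib.helper3.M22FlagA
import Cfsg.Agent.Lib.helper3.M22FlagB
import Cfsg.Agent.Lib.helper3.M22FlagC
import Cfsg.Agent.Lib.Lead.LeechMark

set_option autoImplicit false

/-! Transitivity of the two-point stabiliser `M22` of the Mathieu group on three classes of
flags (octads missing both points; octads through both points with a further point; octads through
the first point only, with a further point). -/

namespace Cfsg.Agent.Lib.helper3

open Cfsg Cfsg.Agent.Lib.Lead.LC Cfsg.Agent.Lib.Lead.LC3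

set_option maxRecDepth 1000000 in
theorem keyM_eq_keyB : ∀ k : Fin 4096, keyM k.val = keyB k.val := by decide +kernel

theorem testBit_of_Cw_ne {k : ℕ} {p : GolayPt} (h : Cw k p ≠ 0) :
    (golayMask k).testBit (gidx p) = true := by
  unfold Cw gword at h
  by_contra hb
  rw [if_neg hb] at h
  exact h rfl

theorem gidx_ne_23 {p : GolayPt} (h : p ≠ none) : gidx p ≠ 23 := by
  intro h23
  apply h
  apply gidx_injective
  rw [h23]
  rfl

theorem gidx_ne_0 {p : GolayPt} (h : p ≠ some 0) : gidx p ≠ 0 := by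
  intro h0
  apply h
  apply gidx_injective
  rw [h0]
  rfl

/-- `M22` is transitive on the 330 octads missing `∞` and `0` -/
theorem m22_T330 (k k' : ℕ) (hk : k < 4096) (hk' : k' < 4096) (h : keyM k = (8, false, false))
    (h' : keyM k' = (8, false, false)) :
    ∃ π ∈ M24, π none = none ∧ π (some 0) = some 0 ∧ ∀ p, Cw k (π p) ≠ 0 ↔ Cw k' p ≠ 0 := by
  have hb : keyB k = (8, false, false) := by rw [← keyM_eq_keyB ⟨k, hk⟩]; exact h
  have hb' : keyB k' = (8, false, false) := by rw [← keyM_eq_keyB ⟨k', hk'⟩]; exact h'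
  have hc : condA k 23 = true := by
    unfold condA
    rw [hb]
    rfl
  have hc' : condA k' 23 = true := by
    unfold condA
    rw [hb']
    rfl
  obtain ⟨π, hπ, h0, h1, hs, _⟩ := flag_trans flagA flagA_ok (by norm_num : 23 < 24)
    (by norm_num : 23 < 24) (flagComplete_spec flagA_complete hk (by norm_num) hc)
    (flagComplete_spec flagA_complete hk' (by norm_num) hc')
  refine ⟨π, hπ, h0, h1, fun p => ?_⟩
  show gword (golayMask k) (π p) ≠ 0 ↔ gword (golayMask k') p ≠ 0
  rw [hs p]

/-- `M22` is transitive on the 462 flags (octad through `∞` and `0`, further point of it) -/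
theorem m22_T462 (k k' : ℕ) (hk : k < 4096) (hk' : k' < 4096) (h : keyM k = (6, true, true))
    (h' : keyM k' = (6, true, true)) (p p' : GolayPt) (hp : p ≠ none) (hp0 : p ≠ some 0)
    (hp' : p' ≠ none) (hp0' : p' ≠ some 0) (hkp : Cw k p ≠ 0) (hkp' : Cw k' p' ≠ 0) :
    ∃ π ∈ M24, π none = none ∧ π (some 0) = some 0 ∧ (∀ q, Cw k (π q) ≠ 0 ↔ Cw k' q ≠ 0) ∧
      π p' = p := by
  have hb : keyB k = (6, true, true) := by rw [← keyM_eq_keyB ⟨k, hk⟩]; exact h
  have hb' : keyB k' = (6, true, true) := by rw [← keyM_eq_keyB ⟨k', hk'⟩]; exact h'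
  have hc : condB k (gidx p) = true := by
    unfold condB
    rw [hb, testBit_of_Cw_ne hkp]
    simp [gidx_ne_0 hp0, gidx_ne_23 hp]
  have hc' : condB k' (gidx p') = true := by
    unfold condB
    rw [hb', testBit_of_Cw_ne hkp']
    simp [gidx_ne_0 hp0', gidx_ne_23 hp']
  obtain ⟨π, hπ, h0, h1, hs, hpp⟩ := flag_trans flagB flagB_ok (gidx_lt p) (gidx_lt p')
    (flagComplete_spec flagB_complete hk (gidx_lt p) hc)
    (flagComplete_spec flagB_complete hk' (gidx_lt p') hc')
  rw [gpt_gidx, gpt_gidx] at hpp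
  refine ⟨π, hπ, h0, h1, fun q => ?_, hpp⟩
  show gword (golayMask k) (π q) ≠ 0 ↔ gword (golayMask k') q ≠ 0
  rw [hs q]

/-- `M22` is transitive on the 1232 flags (octad through `∞` missing `0`, further point of it) -/
theorem m22_T1232 (k k' : ℕ) (hk : k < 4096) (hk' : k' < 4096) (h : keyM k = (7, true, false))
    (h' : keyM k' = (7, true, false)) (p p' : GolayPt) (hp : p ≠ none) (hp' : p' ≠ none)
    (hkp : Cw k p ≠ 0) (hkp' : Cw k' p' ≠ 0) :
    ∃ π ∈ M24, π none = none ∧ π (some 0) = some 0 ∧ (∀ q, Cw k (π q) ≠ 0 ↔ Cw k' q ≠ 0) ∧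
      π p' = p := by
  have hb : keyB k = (7, true, false) := by rw [← keyM_eq_keyB ⟨k, hk⟩]; exact h
  have hb' : keyB k' = (7, true, false) := by rw [← keyM_eq_keyB ⟨k', hk'⟩]; exact h'
  have hc : condC k (gidx p) = true := by
    unfold condC
    rw [hb, testBit_of_Cw_ne hkp]
    simp [gidx_ne_23 hp]
  have hc' : condC k' (gidx p') = true := by
    unfold condC
    rw [hb', testBit_of_Cw_ne hkp']
    simp [gidx_ne_23 hp']
  obtain ⟨π, hπ, h0, h1, hs, hpp⟩ := flag_trans flagC flagC_ok (gidx_lt p) (gidx_lt p')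
    (flagComplete_spec flagC_complete hk (gidx_lt p) hc)
    (flagComplete_spec flagC_complete hk' (gidx_lt p') hc')
  rw [gpt_gidx, gpt_gidx] at hpp
  refine ⟨π, hπ, h0, h1, fun q => ?_, hpp⟩
  show gword (golayMask k) (π q) ≠ 0 ↔ gword (golayMask k') q ≠ 0
  rw [hs q]

end Cfsg.Agent.Lib.helper3
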