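import Mathlib
import Cfsg.Agent.Lib.helper4.M11PD
import Cfsg.Agent.Lib.helper4.ObjListsB
import Cfsg.Agent.Lib.helper4.OutMatD

set_option autoImplicit false

/-!
Data for the subgroups of index 56 and 210 of the two-point stabiliser in the group of the
length-24 code: double-coset representatives for the subgroup of order 11 generated by `gA11`,
and words in `gA11` and each representative evaluating to an element of order 7.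
-/

namespace Cfsg.Agent.Lib.helper3

open Cfsg.Agent.Lib.helper4 Cfsg.Agent.Lib.Helper12.Golay

/-- The powers of `gA11`. -/
def m22Pw : List (List ℕ) := [
  [0,1,2,3,4,5,6,7,8,9,10,11,12,13,14,15,16,17,18,19,20,21,22,23],
  [0,4,2,18,9,14,8,19,21,10,5,15,1,20,3,6,12,16,17,22,23,7,13,11],
  [0,9,2,17,10,3,21,22,7,5,14,6,4,23,18,8,1,12,16,13,11,19,20,15],
  [0,10,2,16,5,18,7,13,19,14,3,8,9,11,17,21,4,1,12,20,15,22,23,6],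
  [0,5,2,12,14,17,19,20,22,3,18,21,10,15,16,7,9,4,1,23,6,13,11,8],
  [0,14,2,1,3,16,22,23,13,18,17,7,5,6,12,19,10,9,4,11,8,20,15,21],
  [0,3,2,4,18,12,13,11,20,17,16,19,14,8,1,22,5,10,9,15,21,23,6,7],
  [0,18,2,9,17,1,20,15,23,16,12,22,3,21,4,13,14,5,10,6,7,11,8,19],
  [0,17,2,10,16,4,23,6,11,12,1,13,18,7,9,20,3,14,5,8,19,15,21,22],
  [0,16,2,5,12,9,11,8,15,1,4,20,17,19,10,23,18,3,14,21,22,6,7,13],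
  [0,12,2,14,1,10,15,21,6,4,9,23,16,22,5,11,17,18,3,7,13,8,19,20]]

/-- Elements of the two-point stabiliser whose inverses move the dodecad `dd9` to
representatives of the orbits of the subgroup of order 11. -/
def m22R : List (List ℕ) := [
  [0,5,2,10,11,17,14,4,9,18,6,12,23,1,15,3,16,19,22,13,8,21,20,7],
  [0,9,2,4,10,18,3,14,16,21,22,23,17,12,5,15,6,1,11,7,13,20,8,19],
  [0,14,2,23,3,12,9,5,7,13,17,18,1,21,19,16,10,4,22,8,20,11,6,15],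
  [0,13,2,21,18,14,15,3,10,9,1,22,20,16,4,17,12,5,6,23,8,11,19,7],
  [0,13,2,17,20,9,3,15,18,4,14,19,16,10,1,5,22,8,12,11,21,23,6,7],
  [0,23,2,14,1,22,19,5,6,4,17,12,3,10,21,18,9,11,16,13,7,8,15,20],
  [0,10,2,5,3,8,4,16,12,11,9,23,13,15,1,18,14,22,17,20,7,19,6,21],
  [0,10,2,16,6,21,9,1,12,3,17,5,18,7,19,11,22,4,14,15,8,23,13,20],
  [0,5,2,7,9,16,8,23,14,3,22,18,12,17,11,4,21,1,10,13,15,19,6,20],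
  [0,22,2,12,5,3,10,7,1,15,9,16,23,18,8,19,17,14,4,20,21,6,11,13],
  [0,17,2,11,21,8,12,1,23,14,15,7,4,5,10,16,9,3,18,19,13,22,6,20],
  [0,4,2,9,1,3,14,19,20,10,5,17,18,16,8,11,13,21,7,12,6,15,22,23],
  [0,16,2,14,1,15,23,12,4,8,9,10,21,5,13,18,11,17,19,3,22,6,7,20],
  [0,19,2,4,9,23,10,5,6,16,1,20,18,22,12,3,13,14,11,17,8,7,21,15],
  [0,20,2,13,16,6,9,14,18,12,15,4,17,5,22,21,1,10,23,3,8,19,11,7],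
  [0,9,2,16,6,12,18,7,13,8,4,22,15,17,14,3,5,1,19,10,23,11,20,21],
  [0,8,2,6,4,17,10,1,18,12,14,9,20,11,15,3,7,23,16,5,13,21,19,22],
  [0,1,2,7,3,17,6,12,11,23,4,19,10,18,9,16,20,8,14,5,22,15,21,13],
  [0,9,2,15,7,21,14,6,3,11,4,5,16,1,19,12,17,22,10,18,20,23,8,13],
  [0,1,2,11,3,7,14,6,17,10,9,19,22,18,5,15,21,16,12,4,23,8,13,20],
  [0,11,2,5,23,18,14,10,20,8,6,9,4,3,22,16,7,17,12,1,21,19,15,13],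
  [0,3,2,1,11,4,19,9,5,16,22,8,6,13,12,17,23,10,18,14,21,20,15,7],
  [0,7,2,20,19,5,12,14,18,15,3,21,9,22,16,23,4,1,10,17,13,6,8,11],
  [0,10,2,12,17,6,3,23,20,1,13,4,21,15,8,14,5,9,16,18,11,22,7,19],
  [0,9,2,19,18,21,12,5,3,10,4,6,1,16,15,14,20,13,11,7,17,23,8,22],
  [0,21,2,10,11,23,15,9,1,14,7,3,18,16,17,5,8,12,20,22,4,19,6,13],
  [0,16,2,22,21,4,14,17,9,19,7,5,3,11,1,18,8,23,10,20,12,15,6,13],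
  [0,22,2,21,14,19,10,20,4,5,11,1,23,3,9,18,12,15,16,6,17,7,8,13],
  [0,22,2,14,9,16,11,4,3,20,17,23,10,15,6,12,13,5,18,8,1,7,21,19],
  [0,8,2,18,19,22,12,21,6,11,17,1,14,13,9,3,5,16,4,7,10,15,23,20],
  [0,10,2,4,20,23,12,19,14,1,16,3,21,13,5,17,22,11,15,9,18,8,7,6],
  [0,6,2,9,22,12,14,1,16,18,3,13,11,17,19,7,15,10,21,4,5,20,23,8],
  [0,3,2,22,14,7,4,8,11,20,13,5,12,10,16,1,6,17,19,9,18,23,15,21],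
  [0,17,2,6,21,14,22,5,16,8,20,23,9,4,7,10,1,12,19,18,3,13,15,11],
  [0,8,2,15,7,5,1,12,13,3,20,16,21,22,9,10,4,14,6,18,17,23,19,11],
  [0,12,2,1,5,17,18,6,10,8,13,11,15,9,20,3,7,19,16,4,14,21,23,22],
  [0,11,2,3,20,7,12,10,4,5,8,21,17,6,13,14,18,23,1,16,9,22,19,15],
  [0,8,2,6,1,11,17,14,7,23,4,15,20,10,13,3,5,16,12,18,9,19,22,21],
  [0,14,2,15,16,10,18,13,4,7,17,1,20,5,3,12,19,21,8,23,11,9,22,6],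
  [0,7,2,8,13,20,16,9,18,10,17,14,1,11,12,5,3,21,22,6,19,4,23,15],
  [0,19,2,8,10,4,5,12,17,20,6,23,9,1,7,18,14,22,16,21,15,3,13,11],
  [0,14,2,13,6,10,4,18,8,21,23,5,9,17,1,22,12,19,15,3,20,16,7,11],
  [0,22,2,4,12,11,1,21,17,16,18,23,6,3,19,9,14,7,15,10,20,5,13,8],
  [0,6,2,4,7,19,12,15,14,21,16,18,9,10,17,8,20,3,23,1,11,5,22,13],
  [0,9,2,7,10,14,1,18,15,17,11,13,21,12,20,16,6,3,22,4,23,5,8,19],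
  [0,19,2,1,7,17,16,6,18,15,21,3,23,11,12,9,4,20,10,5,13,14,8,22],
  [0,9,2,8,21,7,5,3,6,11,4,14,23,22,17,12,19,1,18,10,20,16,15,13],
  [0,22,2,11,1,14,5,9,8,18,3,17,6,16,21,19,4,20,15,7,10,12,13,23],
  [0,17,2,14,6,8,16,7,10,15,11,13,12,5,18,4,9,19,23,22,1,3,20,21],
  [0,16,2,9,18,23,3,8,4,5,22,10,20,12,11,6,7,17,21,15,14,1,13,19],
  [0,15,2,14,6,17,5,3,1,8,21,9,10,19,13,7,18,16,23,22,12,4,11,20],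
  [0,13,2,16,19,8,17,12,4,20,18,14,7,9,6,1,22,11,5,23,3,10,15,21],
  [0,20,2,19,10,23,17,16,11,1,21,12,4,7,8,18,6,5,9,15,3,14,22,13],
  [0,6,2,20,11,10,1,15,9,4,19,14,18,16,22,17,21,7,23,5,3,12,8,13],
  [0,1,2,7,14,19,16,18,12,11,22,5,15,8,21,3,4,23,13,10,9,17,20,6],
  [0,23,2,8,17,9,5,15,14,19,6,20,22,12,3,7,10,4,11,16,1,18,13,21],
  [0,18,2,17,20,5,16,4,8,10,7,1,23,15,22,21,19,13,12,14,9,3,6,11],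
  [0,20,2,5,1,8,9,11,15,6,7,17,16,18,23,22,3,19,14,4,10,12,21,13],
  [0,10,2,9,15,6,17,20,5,14,23,22,1,18,19,16,13,12,21,3,7,11,4,8],
  [0,21,2,14,3,23,16,10,7,9,6,12,15,18,22,5,13,11,8,4,17,19,1,20],
  [0,15,2,19,8,6,14,16,5,23,1,4,3,21,11,10,7,18,22,17,9,13,12,20]]

/-- Representatives of the right cosets of the subgroup of order 11 in the subgroup of order 660. -/
def m22L : List (List ℕ) := [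
  [0,1,2,3,4,5,6,7,8,9,10,11,12,13,14,15,16,17,18,19,20,21,22,23],
  [0,12,2,16,14,5,15,21,23,10,9,11,1,13,4,6,3,17,18,20,19,7,22,8],
  [0,14,2,18,10,4,23,20,7,9,5,6,12,19,16,15,1,3,17,22,8,21,13,11],
  [0,10,2,17,9,16,7,22,21,5,4,15,14,8,18,23,12,1,3,13,11,20,19,6],
  [0,12,2,1,16,4,15,21,11,5,9,6,14,19,10,23,18,3,17,8,22,20,13,7],
  [0,9,2,3,5,18,21,13,20,4,16,23,10,11,17,7,14,12,1,19,6,22,8,15],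
  [0,14,2,12,18,16,23,20,6,4,5,15,10,8,9,7,17,1,3,11,13,22,19,21],
  [0,5,2,1,4,17,20,19,22,16,18,7,9,6,3,21,10,14,12,8,15,13,11,23],
  [0,10,2,14,17,18,7,22,15,16,4,23,9,11,5,21,3,12,1,6,19,13,8,20],
  [0,18,2,3,4,9,6,11,22,5,16,7,14,13,12,23,10,17,1,19,21,20,8,15],
  [0,4,2,12,16,3,22,8,13,18,17,21,5,15,1,20,9,10,14,11,23,19,6,7],
  [0,9,2,10,3,17,21,13,23,18,16,7,5,6,4,20,1,14,12,15,8,19,11,22],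
  [0,17,2,1,16,5,15,6,13,4,18,21,10,19,14,7,9,3,12,8,20,22,11,23],
  [0,4,2,1,5,12,22,19,20,16,9,23,18,21,3,6,14,10,17,8,15,11,13,7],
  [0,14,2,10,12,9,23,20,15,16,5,7,18,13,4,6,3,17,1,21,19,11,8,22],
  [0,16,2,14,18,1,13,11,19,17,3,20,4,23,12,22,5,9,10,6,7,8,15,21],
  [0,5,2,9,1,3,20,19,7,17,18,21,4,15,16,22,12,10,14,23,11,8,6,13],
  [0,3,2,12,18,4,23,15,19,16,17,20,9,8,10,21,5,1,14,11,22,13,6,7],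
  [0,16,2,12,4,14,13,8,22,18,5,7,17,20,1,15,10,9,3,11,23,6,19,21],
  [0,10,2,9,14,5,7,22,23,18,4,21,17,19,16,15,1,3,12,20,8,6,11,13],
  [0,5,2,17,16,3,20,8,11,9,12,6,4,15,1,22,18,14,10,13,7,19,21,23],
  [0,18,2,14,3,12,6,11,7,9,16,23,4,21,5,22,1,10,17,15,8,19,13,20],
  [0,18,2,10,17,12,19,6,8,3,1,22,16,7,14,13,4,5,9,15,21,11,23,20],
  [0,4,2,5,12,1,22,8,21,3,17,20,16,23,18,13,14,9,10,7,6,11,15,19],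
  [0,1,2,14,17,16,7,23,8,18,3,22,5,11,9,20,4,12,10,6,13,19,15,21],
  [0,18,2,14,16,10,19,11,13,17,4,21,3,22,12,23,9,5,1,6,7,15,8,20],
  [0,9,2,5,10,4,21,13,7,17,16,20,3,8,18,23,12,1,14,22,11,15,6,19],
  [0,4,2,3,18,1,22,11,6,5,14,15,16,23,12,13,17,10,9,19,21,8,20,7],
  [0,17,2,10,1,14,15,6,21,5,18,7,16,20,4,13,12,9,3,23,11,8,19,22],
  [0,16,2,10,9,1,11,13,19,12,3,22,5,7,17,20,4,18,14,21,23,8,15,6],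
  [0,4,2,18,1,3,22,19,23,12,9,6,5,15,16,20,17,14,10,7,13,8,21,11],
  [0,3,2,17,9,5,7,15,19,16,12,22,18,8,14,6,4,1,10,13,20,11,21,23],
  [0,17,2,9,3,14,8,15,11,1,12,13,18,21,10,19,16,4,5,23,20,6,7,22],
  [0,16,2,4,14,12,13,11,20,1,3,22,18,7,17,19,10,5,9,21,15,6,23,8],
  [0,12,2,10,3,18,21,7,11,17,1,13,4,6,5,22,16,14,9,15,19,8,23,20],
  [0,5,2,4,9,16,20,19,21,3,18,22,1,11,17,7,14,12,10,13,6,23,15,8],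
  [0,16,2,1,17,12,13,6,15,4,10,23,18,7,14,19,3,9,5,8,20,11,22,21],
  [0,3,2,9,12,10,23,15,20,4,17,21,18,22,16,19,14,5,1,7,6,11,8,13],
  [0,18,2,9,5,12,6,19,8,14,1,13,4,21,3,22,16,17,10,20,7,11,23,15],
  [0,16,2,17,12,1,13,8,7,14,5,15,4,23,18,22,3,10,9,21,19,11,20,6],
  [0,1,2,3,5,4,21,23,8,18,14,13,17,11,10,15,16,12,9,19,22,6,20,7],
  [0,9,2,14,12,17,19,21,8,3,1,20,16,23,10,11,5,4,18,15,6,13,7,22],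
  [0,5,2,4,17,1,20,8,6,3,12,22,16,7,9,11,10,18,14,23,21,13,15,19],
  [0,1,2,10,12,16,23,7,8,9,3,20,4,13,18,22,5,17,14,21,11,19,15,6],
  [0,9,2,10,16,14,19,13,11,12,5,6,3,20,17,7,18,4,1,21,23,15,8,22],
  [0,14,2,9,1,17,20,21,6,3,12,19,16,15,4,13,18,10,5,23,8,11,7,22],
  [0,3,2,9,17,5,11,15,8,1,18,22,12,19,10,21,4,16,14,23,20,7,6,13],
  [0,4,2,16,5,18,22,8,20,1,17,13,12,6,3,21,10,14,9,19,15,7,23,11],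
  [0,18,2,3,14,12,19,11,21,10,4,23,16,7,17,13,1,9,5,20,8,6,22,15],
  [0,12,2,1,4,16,20,7,11,17,10,19,3,6,9,23,18,14,5,8,13,15,22,21],
  [0,4,2,16,3,12,22,11,15,1,14,13,18,21,5,6,9,17,10,7,20,19,23,8],
  [0,12,2,9,14,18,7,21,11,5,1,22,16,19,17,13,4,3,10,20,6,8,23,15],
  [0,5,2,9,18,10,8,19,6,14,4,15,1,22,3,21,17,16,12,20,7,23,11,13],
  [0,17,2,16,10,4,15,6,7,14,18,13,1,11,5,21,3,12,9,22,19,23,20,8],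
  [0,12,2,18,3,10,8,15,13,1,17,11,9,6,14,19,16,5,4,7,22,21,23,20],
  [0,16,2,5,10,17,11,13,22,1,3,20,9,23,12,19,14,4,18,6,15,21,7,8],
  [0,1,2,5,3,4,6,23,11,12,17,13,14,8,9,20,16,18,10,7,22,21,15,19],
  [0,12,2,4,10,5,21,7,13,18,1,22,3,19,17,11,9,16,14,20,23,15,6,8],
  [0,9,2,16,14,10,19,21,20,17,1,11,12,6,3,8,18,5,4,22,7,15,23,13],
  [0,10,2,18,1,12,22,6,21,3,17,19,16,15,5,11,9,14,4,7,8,13,23,20]]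

/-- The preimages of `dd9`, listed by representative and power. -/
def m22OrbL : List ℕ := [109547,14867537,10324771,9583833,16114179,5912889,13460675,8032937,2977169,14812139,3986769,160251,6673507,761641,8867537,11960891,1342747,12677739,6018097,994979,15079065,4014875,236787,10984963,9902873,9920603,5697579,5078057,13321897,4081329,2369467,6313819,643955,255921,6688371,9213723,1137371,10743859,5709091,9385545,5751449,3041339,12866987,3757673,325481,4312697,9096755,9707187,11613723,5468947,5189747,5215371,3103369,10961337,3556715,376473,14895643,10375475,1389803,6551049,5196593,9307387,3462795,2194233,12797299,2004579,378331,2284139,8772913,9637483,9893393,5581371,13267995,6116003,2831545,6768515,3019641,401355,10867289,1296699,8813667,13997609,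1797657,13001395,8131643,620427,6509297,3114291,441139,12917851,10211851,1538225,15148075,6182665,877305,6472891,2907939,8460281,3393107,470393,13026891,1890873,8481979,15881763,1914673,4400859,7262739,858555,10704075,3658529,520899,6789177,9391371,9851625,3531833,4353835,13391473,1672891,2260627,15012659,1774939,540283,12703379,3873331,8861075,7803467,1044761,4671723,11457577,1396649,10643065,5556019,699803,14965443,12161337,1273283,15118945,6130969,9071307,16044209,3747115,12744641,8225393,710361,2476723,10624315,9787203,1290873,4713491,13507115,10310809,3367595,6714673,5048171,736209,15171795,4102411,8747465,15974505,2026785,12857065,16303641,1600435,14693619,7968515,779371,4644513,11341369,9586587,3437171,4306235,4939331,9409201,3607707,10908427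,5591417,823281,10522331,11590419,9517427,13874243,6273537,13576345,16662667,3961257,6383081,6997857,849075,6364843,11228945,1508339,2536539,4578059,9132153,9946275,3554857,12936985,5915259,900419,12819145,12568593,9841067,16020553,5890857,4877553,15500963,3678105,10576851,7508339,943955,4494075,2743323,8608675,11998321,1550091,4618841,13484091,1727659,10843809,7538489,964841,15060105,12208937,9725425,7382635,4783889,13175539,12227731,3488643,14889305,6275395,967595,2383097,10602283,1204081,8758899,5414427,9271827,13832379,4158467,4666281,7291993,1005025,2590441,2543385,8670075,9491579,1179171,12795441,14616083,1979035,6647963,7033131,1018459,8837275,11884587,9663785,5727841,5154361,5000859,11031227,3233203,2307939,4691793,1095635,6404691,13342995,1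0426563,12038281,7825673,13525353,6079721,2682537,14700465,12060531,1244041,15034481,14320939,1867457,14787257,8015123,9188323,7443673,2878211,12982769,12420171,1366499,10599529,13881089,10365553,13935771,7895563,13201841,8062179,3061633,6622169,11190619,1436497,12757115,14474243,10042025,15950993,8266531,4994521,6931147,2808241,10816995,11704137,1480121,2453067,12768057,1920115,8566443,7691793,9118523,5657811,2994731,4414873,11485795,1563721,8907305,14044217,10249771,5273273,6907443,4855731,2954963,2331547,2578771,8884587,1625931,8452849,15830067,10108675,13972177,8101915,5142915,15536361,3917193,2517985,14976377,1714153,6612689,6851387,8936915,11637475,3390737,13052739,14585945,1960075,14842025,16598305,1767507,12957859,16456713,10445697,7741689,7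136523,4742121,11126001,3313571,10764113,13730651,1814947,6765761,15696649,1984985,10805483,7396649,9006945,13797105,3976723,12598171,16339027,1821409,10923185,15994635,9991001,5366003,6994979,13442945,12255961,3596691,6568299,13227337,1876347,4259019,15325729,10161585,11937475,7648025,4811099,13291747,4037793,10694537,16139089,1938377,2353369,15124771,10231145,9561801,7531057,13380915,14161611,3797649,6498739,15603011,2073809,6728331,15489305,10043883,3339489,6663969,13242201,10273491,3193019,14777603,14357345,2157939,12623715,10067537,9677459,16136211,14496011,5992649,7332001,7212457,11290569,3195897,2219969,10718065,9866579,9747019,13760537,14379043,14562465,8201865,6972313,7094771,2659819,2470385,6524235,9362241,9799929,11725835,13925153,1423064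9,5957251,7092913,15271323,3822531,2717923,14914977,4132673,8823769,7653467,8976683,13720801,12297761,5648273,15475291,5820827,2729817,4377555,11311219,9543051,11762241,14131505,6171723,13431433,7948473,11167139,7608289,2784585,12960737,3837049,8712067,15735417,10085651,5389027,15578129,5966731,11432145,7700907,2794227,6593939,11082571,9687505,3647587,13024521,14502473,10150073,7629987,15218473,5851089,3000681,8572393,11849313,9482041,13659731,14201395,5848211,15413891,8327569,3088843,6738377,3067075,10787753,11619673,9626467,5553265,13217291,14310033,12394675,7484811,7172929,4948473,3223281,14853907,6036307,9023707,7592067,11483425,14091721,4121161,4516281,15223915,10016673,3273035,4454753,13601889,10391177,11823769,15753531,5797219,4830945,7048849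,11406227,11801051,3287899,12906835,5871723,9174145,16190113,12461337,5530571,6877305,4836771,11149025,11896721,3348969,11003201,5671785,9235545,13683371,12090417,13707171,8009297,5088147,6953179,11391363,3452361,14740297,14207345,10005731,15777409,16329489,14295507,8171715,6928777,15419841,12485089,3578577,10856731,13785419,10350689,5483689,15625729,14418873,3695835,6353827,6888817,9144259,3717985,12692945,16419395,10271121,15804619,16445697,6105569,15377609,8178561,11020793,15779267,3770835,10664387,16095553,10201417,14084289,16558121,14183817,16278241,7906737,6827971,15242193,3891569,4629987,7118409,9030553,11684083,11842851,5324617,13361745,6195379,11287691,15815561,3934955,10548633,7424867,9090417,5607107,11188761,13978003,12202091,5633409,7023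209,13550993,4012121,12837259,8280161,9282985,7491273,11330353,5246459,11073091,5348273,11218003,14062467,4895563,5101777,11241643,11951489,11871081,5432665,5040739,13147321,12144259,11678641,7677267,5810905,15263891,16259491,12137921,7578561,7252305,13404619,12114121,11659681,15871329,14460737,5938625,11381441,15894937,12347715,13677033,7990337,13282209,16518353,12100491,7371217,15311203]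

/-- For each table of `L660`, the power and the coset representative giving it. -/
def m22Idx : List (ℕ × ℕ) := [(0,0),(1,0),(0,1),(2,0),(1,1),(0,2),(3,0),(2,1),(1,2),(0,3),(0,4),(4,0),(3,1),(2,2),(1,3),(1,4),(0,5),(0,6),(10,1),(5,0),(4,1),(3,2),(2,3),(2,4),(1,5),(1,6),(0,7),(0,8),(0,9),(10,2),(10,0),(6,0),(5,1),(4,2),(3,3),(3,4),(2,5),(2,6),(1,7),(1,8),(1,9),(0,10),(0,11),(0,12),(0,13),(0,14),(10,3),(10,4),(7,0),(6,1),(5,2),(4,3),(4,4),(3,5),(3,6),(2,7),(2,8),(2,9),(1,10),(1,11),(1,12),(1,13),(1,14),(0,15),(0,16),(0,17),(0,18),(0,19),(0,20),(0,21),(10,5),(10,6),(9,1),(8,0),(7,1),(6,2),(5,3),(5,4),(4,5),(4,6),(3,7),(3,8),(3,9),(2,10),(2,11),(2,12),(2,13),(2,14),(1,15),(1,16),(1,17),(1,18),(1,19),(1,20),(1,21),(0,22),(0,23),(0,24),(0,25),(0,26),(0,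27),(0,28),(0,29),(0,30),(0,31),(10,7),(10,8),(10,9),(9,2),(9,0),(8,1),(7,2),(6,3),(6,4),(5,5),(5,6),(4,7),(4,8),(4,9),(3,10),(3,11),(3,12),(3,13),(3,14),(2,15),(2,16),(2,17),(2,18),(2,19),(2,20),(2,21),(1,22),(1,23),(1,24),(1,25),(1,26),(1,27),(1,28),(1,29),(1,30),(1,31),(0,32),(0,33),(0,34),(7,30),(0,35),(0,36),(0,37),(0,38),(0,39),(0,40),(0,41),(0,42),(0,43),(0,44),(10,32),(10,10),(10,11),(10,12),(10,13),(10,14),(9,3),(9,4),(8,2),(7,3),(7,4),(6,5),(6,6),(5,7),(5,8),(5,9),(4,10),(4,11),(4,12),(4,13),(4,14),(3,15),(3,16),(3,17),(3,18),(3,19),(3,20),(3,21),(2,22),(2,23),(2,24),(2,25),(2,26),(2,27),(2,28),(2,29),(2,30),(2,31),(1,32),(1,33),(1,34),(8,30),(1,35),(1,36),(1,37),(1,38),(1,39),(1,40),(1,41),(1,42),(1,43),(1,44),(0,45),(0,46),(0,47),(7,43),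(7,20),(2,37),(0,48),(0,49),(6,39),(0,50),(0,51),(0,52),(0,53),(0,54),(0,55),(4,35),(2,51),(7,26),(7,49),(10,15),(10,16),(10,17),(10,18),(10,19),(10,20),(10,21),(9,5),(9,6),(8,3),(8,4),(7,5),(7,6),(6,7),(6,8),(6,9),(5,10),(5,11),(5,12),(5,13),(5,14),(4,15),(4,16),(4,17),(4,18),(4,19),(4,20),(4,21),(3,22),(3,23),(3,24),(3,25),(3,26),(3,27),(3,28),(3,29),(3,30),(3,31),(2,32),(2,33),(2,34),(9,30),(2,35),(2,36),(2,38),(2,39),(2,40),(2,41),(2,42),(2,43),(2,44),(1,45),(1,46),(1,47),(8,43),(8,20),(3,37),(1,48),(1,49),(7,39),(1,50),(1,51),(1,52),(1,53),(1,54),(1,55),(5,35),(3,51),(8,26),(8,49),(0,56),(5,52),(7,47),(0,57),(9,28),(9,51),(7,29),(2,49),(9,48),(3,33),(4,44),(6,51),(6,27),(5,50),(9,21),(9,43),(6,23),(6,45),(8,55),(0,58),(0,59),(4,24),(7,8),(7,17)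,(10,33),(10,22),(10,23),(10,24),(10,25),(10,26),(10,27),(10,28),(10,29),(10,30),(10,31),(9,7),(9,8),(9,9),(8,5),(8,6),(7,7),(7,9),(6,10),(6,11),(6,12),(6,13),(6,14),(5,15),(5,16),(5,17),(5,18),(5,19),(5,20),(5,21),(4,22),(4,23),(4,25),(4,26),(4,27),(4,28),(4,29),(4,30),(4,31),(3,32),(3,34),(3,35),(3,36),(3,38),(3,39),(3,40),(3,41),(3,42),(3,43),(3,44),(2,45),(2,46),(2,47),(9,20),(4,37),(2,48),(8,39),(2,50),(2,52),(2,53),(2,54),(2,55),(6,35),(4,51),(9,26),(9,49),(1,56),(6,52),(8,47),(1,57),(10,51),(8,29),(3,49),(10,48),(4,33),(5,44),(7,51),(7,27),(6,50),(10,43),(7,23),(7,45),(9,55),(1,58),(1,59),(5,24),(8,8),(8,17),(2,59),(7,16),(7,34),(4,57),(9,40),(9,18),(7,21),(7,41),(7,42),(5,33),(6,44),(7,48),(9,36),(3,45),(4,43),(6,38),(10,50),(5,38),(9,31),(9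,13),(6,34),(6,15),(6,56),(8,59),(8,41),(3,58),(3,53),(9,56),(7,12),(7,25),(10,45),(10,34),(6,30),(10,35),(10,36),(10,37),(10,38),(10,39),(10,40),(10,41),(10,42),(10,44),(9,32),(9,10),(9,11),(9,12),(9,14),(8,7),(8,9),(7,10),(7,11),(7,13),(7,14),(6,16),(6,17),(6,18),(6,19),(6,20),(6,21),(5,22),(5,23),(5,25),(5,26),(5,27),(5,28),(5,29),(5,30),(5,31),(4,32),(4,34),(4,36),(4,38),(4,39),(4,40),(4,41),(4,42),(3,46),(3,47),(5,37),(3,48),(9,39),(3,50),(3,52),(3,54),(3,55),(7,35),(5,51),(10,49),(2,56),(7,52),(9,47),(2,57),(9,29),(4,49),(8,51),(8,27),(7,50),(8,23),(8,45),(10,55),(2,58),(6,24),(9,17),(3,59),(8,16),(8,34),(5,57),(8,21),(8,42),(6,33),(7,44),(8,48),(4,45),(5,43),(7,38),(7,15),(7,56),(9,59),(9,41),(4,58),(4,53),(10,56),(8,12),(8,25),(5,53),(7,24),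(7,46),(8,57),(4,46),(9,52),(9,53),(9,27),(7,31),(7,54),(7,55),(5,45),(5,48),(7,36),(3,56),(8,52),(6,28),(4,50),(9,44),(8,32),(6,46),(6,47),(6,22),(8,54),(6,58),(7,18),(7,19),(7,37),(4,52),(10,46),(10,47),(6,43),(5,39),(10,52),(10,53),(10,54),(6,26),(6,49),(9,15),(9,16),(9,19),(8,10),(8,11),(8,13),(8,14),(6,25),(6,29),(6,31),(5,32),(5,34),(5,36),(5,40),(5,41),(5,42),(4,47),(6,37),(4,48),(4,54),(4,55),(8,35),(3,57),(5,49),(8,50),(9,23),(9,45),(4,59),(9,34),(6,57),(9,42),(7,33),(8,44),(8,38),(8,15),(8,56),(10,59),(5,58),(9,25),(6,53),(8,24),(8,46),(9,57),(5,46),(8,31),(6,48),(8,36),(4,56),(7,28),(7,22),(9,54),(7,58),(8,18),(8,19),(8,37),(7,57),(9,38),(6,32),(7,59),(5,56),(9,37),(5,59),(6,40),(9,50),(5,55),(8,58),(9,58),(6,54),(10,57),(8,28),(10,58),(9,33),(9,22),(9,24),(6,36),(6,41),(6,42),(5,47),(5,54),(9,35),(8,33),(7,53),(9,46),(8,22),(7,32),(6,59),(7,40),(6,55),(8,53),(8,40)]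

set_option maxRecDepth 1000000 in
/-- Words (0 for `gA11`, 1 for the representative) evaluating to elements of order 7. -/
def m22W : List (List (List ℕ)) := [
  [[0,0,0,1],[0,1],[0,1],[0,0,1],[0,0,1],[0,0,1,1],[0,1,1],[0,0,1],[0,1],[0,0,0,1],[0,0,0,1,0,1,1],[0,0,1],[0,1],[0,0,1],[0,0,0,1],[0,1],[0,0,0,0,0,0,0,1],[0,1,1,1],[0,0,0,0,0,1,1],[0,0,1],[0,0,0,1,1],[0,0,1],[0,0,0,1],[0,0,1],[0,0,1],[0,1],[0,0,1],[0,0,0,1],[0,1],[0,0,1],[0,0,0,0,1,0,1,1,1],[0,0,1,1],[0,0,0,1],[0,0,1],[0,0,0,1,1],[0,0,1],[0,0,1],[0,0,1],[0,1],[0,0,1],[0,1],[0,1,1],[0,1],[0,0,1],[0,1,1,1],[0,1],[0,1,1,1,1],[0,0,1,1,1],[0,1,1],[0,0,0,0,1],[0,0,1],[0,1],[0,1],[0,1],[0,0,0,0,1],[0,1,1],[0,0,0,1],[0,1],[0,1],[0,0,1,1]],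
  [[0,0,1],[0,0,0,1,0,1,1],[0,1],[0,0,0,1],[0,0,0,1],[0,0,0,1],[0,0,0,1],[0,1],[0,1,1,1],[0,1,1],[0,1,1,1],[0,1],[0,1,1],[0,0,0,1],[0,1],[0,0,0,1],[0,0,1],[0,1],[0,0,0,1],[0,1,1,1],[0,0,0,1],[0,0,0,1],[0,1,1],[0,1],[0,1],[0,1],[0,0,1,1],[0,0,1],[0,0,0,1],[0,0,0,1,0,1],[0,0,0,1],[0,0,1,1],[0,0,1],[0,1],[0,0,0,1],[0,1],[0,1,1],[0,0,0,1],[0,0,1,1],[0,1,1],[0,0,1,1,1],[0,1,1],[0,1],[0,0,1],[0,1],[0,1],[0,0,1],[0,0,0,1,1],[0,0,0,1],[0,1],[0,1],[0,0,0,1],[0,1,1],[0,1,1],[0,0,0,1],[0,0,1,0,1,1],[0,0,1,1],[0,0,0,0,1],[0,1,1,1],[0,0,1]],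
  [[0,0,0,1],[0,0,1,1],[0,1],[0,1,1],[0,1],[0,1,1,1],[0,0,1],[0,1],[0,0,0,1],[0,1],[0,0,0,0,1,0,0,1,0,1],[0,1],[0,1,1,1],[0,1],[0,0,0,1],[0,0,0,0,1],[0,1],[0,1,1],[0,0,1],[0,0,0,1],[0,0,1,1],[0,1],[0,0,1],[0,0,0,0,1],[0,1,1],[0,1,1,1],[0,1],[0,0,1],[0,1,1],[0,0,1,1],[0,0,1,1,1],[0,0,0,1],[0,0,0,0,1,1],[0,1],[0,0,1],[0,0,0,1],[0,0,0,0,1],[0,1],[0,0,1,1],[0,0,1,1,1],[0,0,1],[0,1],[0,0,0,0,1],[0,0,1],[0,1],[0,0,1],[0,1,1],[0,1],[0,1,1,1],[0,0,0,1,0,1,1],[0,1,1],[0,1,1],[0,1],[0,0,1,1],[0,1],[0,0,0,1],[0,1,1,1],[0,1,1],[0,1],[0,0,1]],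
  [[0,0,0,1],[0,0,1,1],[0,0,0,1],[0,1,1],[0,0,1],[0,0,1],[0,1,1],[0,0,0,1,0,0,1,1],[0,0,0,1],[0,0,1],[0,1,1],[0,1],[0,0,1],[0,1,1],[0,0,1],[0,0,1],[0,0,1],[0,0,0,1],[0,0,0,1],[0,0,1],[0,0,1,1],[0,0,0,1],[0,1],[0,1,1,1],[0,1,1],[0,1,1],[0,1],[0,0,0,1],[0,1,1],[0,0,1],[0,0,0,1],[0,0,1],[0,1],[0,1],[0,1,1,1],[0,0,1,1],[0,1],[0,0,0,0,0,1],[0,0,0,0,1],[0,0,1],[0,0,1],[0,0,1],[0,0,1,0,1,1],[0,1,1],[0,1,1,1],[0,1,1],[0,1],[0,0,1,0,1],[0,0,1,1],[0,0,1,1,1],[0,1],[0,0,1,1],[0,0,1],[0,0,0,1],[0,0,1,1],[0,0,0,1],[0,1,1],[0,1],[0,0,0,0,1],[0,1]],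
  [[0,0,1],[0,0,0,1],[0,1],[0,0,0,0,0,1],[0,0,1],[0,0,0,0,1],[0,0,0,1],[0,0,0,0,1],[0,0,0,1],[0,0,1],[0,0,1],[0,0,1,0,1,1],[0,0,0,1],[0,1,1,1],[0,0,1],[0,1,1],[0,0,0,1],[0,1,1],[0,0,0,1],[0,0,0,1],[0,0,1],[0,0,1],[0,1],[0,0,0,1],[0,1],[0,1,1,1],[0,1],[0,0,1],[0,0,0,0,1],[0,0,0,1],[0,1],[0,0,1],[0,1,1,1],[0,1],[0,0,0,1],[0,1,1],[0,0,0,1],[0,0,1,0,1],[0,1],[0,0,1],[0,1],[0,1,1],[0,0,1,0,1,1],[0,1,1,1],[0,0,1],[0,1],[0,0,0,1,1],[0,1,1,1],[0,0,1],[0,0,0,1],[0,1],[0,1,1],[0,1,1],[0,0,1,1],[0,1],[0,1],[0,0,1],[0,0,1],[0,1],[0,1,1,1]],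
  [[0,0,0,0,1,0,0,1,1],[0,0,1,1],[0,0,0,1],[0,0,0,0,1,0,1,1],[0,0,1,0,1,1,1],[0,1],[0,1,1,1],[0,1],[0,1],[0,0,1,1],[0,0,1,1],[0,0,1],[0,0,1,1,1],[0,0,0,1],[0,1],[0,0,1,1,1],[0,1],[0,0,1],[0,1,1],[0,1,1],[0,0,1],[0,0,0,1,1],[0,0,0,1],[0,1],[0,1,1,1],[0,1],[0,0,1,0,1,1],[0,0,1],[0,1],[0,0,1,0,1],[0,1,1],[0,0,1],[0,0,1,1,1],[0,0,0,1],[0,0,0,1,1],[0,0,0,0,1],[0,0,0,0,0,1],[0,1],[0,0,1],[0,1],[0,0,1],[0,0,1],[0,1],[0,0,0,1,1],[0,1],[0,0,1,0,1],[0,0,1,1],[0,1],[0,1,1],[0,0,0,0,0,1],[0,0,0,1],[0,0,1],[0,0,1],[0,1,1],[0,0,1],[0,0,1,1],[0,0,1,1],[0,0,0,1,1],[0,0,1,1],[0,0,1,1]],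
  [[0,0,1],[0,0,1],[0,0,0,1],[0,1],[0,0,1,0,1,1],[0,1,1],[0,1,1],[0,0,1,0,1,1],[0,0,0,0,1],[0,1],[0,0,1],[0,1],[0,1,1,1],[0,1,1,1],[0,0,1,1],[0,0,1],[0,1,1,1,1],[0,1,1],[0,1],[0,1],[0,0,1],[0,0,1,1],[0,1],[0,0,1],[0,0,0,0,1],[0,0,0,1,1,1],[0,1],[0,0,1],[0,1],[0,0,1,1],[0,0,1],[0,1,1],[0,0,1],[0,1],[0,1],[0,1,1,1],[0,1,1],[0,0,0,0,1],[0,0,0,1,1],[0,1],[0,1,1],[0,1],[0,1,1],[0,0,1],[0,0,1,0,1],[0,1],[0,0,1],[0,0,1],[0,0,0,1],[0,0,1],[0,1,1,1],[0,0,1],[0,0,0,1,1],[0,0,0,1],[0,1,1],[0,1],[0,0,0,1],[0,1],[0,1,1],[0,1,1,1,1]],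
  [[0,0,1],[0,0,1,1],[0,1],[0,1],[0,1],[0,1,1],[0,0,1],[0,1],[0,1],[0,0,0,1,0,1,1,1],[0,1],[0,1,1],[0,0,1,0,1],[0,0,0,1],[0,1,1],[0,0,1],[0,0,1],[0,1],[0,1],[0,0,0,1],[0,1],[0,1,1],[0,0,1,1,1],[0,1,1],[0,0,1],[0,1],[0,0,1],[0,1],[0,1],[0,1,1],[0,1,1],[0,0,1],[0,0,0,1],[0,0,1],[0,0,1],[0,0,1],[0,0,0,1,0,0,1,1],[0,1],[0,1],[0,0,1],[0,0,0,1],[0,0,1,0,1],[0,0,1],[0,0,1,1],[0,1],[0,1],[0,0,1],[0,1],[0,1],[0,0,0,1],[0,0,1],[0,1],[0,1,1],[0,1],[0,0,0,0,0,1],[0,1,1],[0,0,1],[0,0,0,1],[0,0,1,1,1],[0,0,1,1]],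
  [[0,1],[0,0,1],[0,0,1,1],[0,1,1],[0,1],[0,0,0,1],[0,1],[0,0,1],[0,1],[0,0,0,0,1],[0,0,1],[0,1,1,1],[0,0,0,0,1],[0,1,1],[0,1],[0,0,1,1],[0,0,1],[0,0,1],[0,0,1],[0,0,0,1],[0,1,1],[0,1,1],[0,0,0,0,1,0,0,1,1],[0,0,1,1],[0,1,1],[0,1,1],[0,0,1,1,1],[0,0,1],[0,0,1,1],[0,0,1],[0,0,0,1],[0,1],[0,0,1,1],[0,0,1],[0,1,0,1,1],[0,1],[0,0,1],[0,0,1],[0,1,1],[0,0,1],[0,1,1],[0,0,0,1,1],[0,0,1,1],[0,1],[0,1],[0,1,1],[0,0,1],[0,0,1,1],[0,0,0,1,1,0,1,1,1],[0,1,1,1],[0,0,0,1],[0,0,0,1],[0,0,0,1,1],[0,0,1],[0,1],[0,0,0,0,1,1],[0,1,1],[0,1],[0,1],[0,0,1]],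
  [[0,0,0,1],[0,0,0,0,1],[0,1],[0,1,1],[0,0,1,0,1,1,1],[0,0,1,1],[0,1],[0,1],[0,1],[0,0,1,1,1],[0,1],[0,1,1],[0,0,1,0,1,1],[0,1,1],[0,0,1,1,1],[0,0,1,0,1,1],[0,0,0,1],[0,1,1],[0,0,1,1,1],[0,0,0,0,1],[0,0,1],[0,0,0,0,1],[0,1],[0,0,1],[0,0,1],[0,1],[0,1],[0,1],[0,0,1,0,1],[0,0,0,1,1],[0,0,1],[0,0,0,1],[0,0,0,1],[0,1,1,1],[0,1,1],[0,0,1,1],[0,0,0,0,1],[0,0,1,1],[0,1,1],[0,0,1],[0,0,0,1],[0,1,1],[0,1,1],[0,0,1],[0,0,0,0,1],[0,1,1],[0,0,0,1],[0,0,1,0,1],[0,1,1],[0,1],[0,0,1],[0,1],[0,0,0,1,1],[0,1,1,1],[0,1,1],[0,0,0,1],[0,0,0,0,1],[0,0,0,0,1,0,0,1,0,1],[0,1,1],[0,0,1]],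
  [[0,0,0,1],[0,0,0,0,1],[0,0,1],[0,0,1],[0,1],[0,0,0,1,1],[0,0,0,1],[0,0,0,1],[0,1,1],[0,0,1,1],[0,1],[0,1],[0,1,1,1,1],[0,1,1,1],[0,0,0,1],[0,1],[0,1],[0,1,1],[0,0,0,1,0,1],[0,0,0,1],[0,1],[0,0,0,1],[0,1],[0,1],[0,1,1,1],[0,0,1],[0,1],[0,0,1],[0,0,1,1],[0,1],[0,0,1],[0,1],[0,1],[0,0,1],[0,1],[0,1],[0,1],[0,0,1],[0,0,1],[0,0,1],[0,1,1,1],[0,1],[0,0,0,1,1],[0,1,1],[0,0,1],[0,1],[0,1],[0,1,1],[0,1],[0,1],[0,1,1],[0,1,1],[0,0,0,1],[0,1],[0,0,0,1],[0,0,1,0,1,1],[0,1,1],[0,1,1],[0,0,1,0,1,1],[0,0,0,1]],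
  [[0,1,1],[0,1],[0,0,0,1],[0,0,1],[0,0,0,0,1],[0,1],[0,1],[0,1,1],[0,0,1],[0,1],[0,1,1,1],[0,1],[0,1,1],[0,1,1],[0,0,1],[0,1],[0,1,1],[0,0,1],[0,1,1],[0,1],[0,0,1],[0,1],[0,0,1],[0,0,1],[0,1],[0,0,1],[0,0,1],[0,0,0,1],[0,0,1],[0,0,0,0,1],[0,0,1],[0,0,1],[0,0,0,1,0,1,1],[0,0,1],[0,0,1,1],[0,1],[0,1],[0,1,1],[0,1],[0,0,1,0,1],[0,1],[0,1,1],[0,1,1],[0,0,0,0,1],[0,0,1],[0,0,0,0,1,0,0,1,1],[0,0,0,1],[0,1,1,1],[0,1],[0,1,1],[0,0,1,0,1],[0,1],[0,0,1,1],[0,1],[0,0,1],[0,1,1,1,1],[0,1],[0,0,0,1],[0,1,1],[0,1]],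
  [[0,0,0,1],[0,0,0,0,1],[0,1,1,1],[0,1],[0,1],[0,1],[0,0,0,0,1],[0,1],[0,0,1],[0,1],[0,0,0,0,1],[0,0,0,1],[0,1,1],[0,1,1],[0,1,1,1],[0,0,0,1],[0,0,1,1],[0,0,1,1,0,1,1,1],[0,1,1],[0,0,1],[0,1],[0,0,0,0,1],[0,1],[0,1,1],[0,1],[0,0,0,0,1,0,1,1],[0,1],[0,0,0,1],[0,1],[0,1],[0,1],[0,0,0,1],[0,0,1],[0,1,1],[0,1,1],[0,1],[0,0,0,1],[0,0,1],[0,0,1,0,1],[0,1,1],[0,1],[0,1,1],[0,1],[0,0,1],[0,1,1],[0,0,0,1],[0,1],[0,0,1],[0,1],[0,0,0,1],[0,1],[0,1],[0,0,0,1],[0,0,1],[0,0,1,1],[0,0,1,1,1],[0,0,0,1],[0,0,1,0,1],[0,0,0,1],[0,0,1]],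
  [[0,0,1],[0,0,0,1],[0,0,1,0,1],[0,1],[0,0,0,0,0,1],[0,1],[0,0,0,1],[0,1,1],[0,0,1,1],[0,1],[0,0,1],[0,0,1],[0,1],[0,0,0,1],[0,0,0,1],[0,1,1],[0,0,0,1,1],[0,1,1],[0,0,1,1],[0,1],[0,1,1],[0,0,0,1],[0,1],[0,1,1,1],[0,0,0,1,0,1,1],[0,1],[0,0,0,0,0,1],[0,0,1,1],[0,0,0,1],[0,0,1],[0,0,0,1],[0,1],[0,1],[0,0,1,1],[0,0,0,1],[0,1,1],[0,1],[0,0,0,1],[0,1],[0,0,0,1],[0,0,1],[0,1],[0,1],[0,1,1],[0,0,1],[0,0,1],[0,1,1,1],[0,1,1,1],[0,1,1],[0,1],[0,1,1],[0,0,1],[0,0,1],[0,0,0,1],[0,0,0,0,0,1,0,1,1],[0,1],[0,0,1],[0,0,0,1],[0,0,1],[0,0,1]],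
  [[0,0,1],[0,1,1,1],[0,0,0,1],[0,0,1],[0,1],[0,0,1],[0,1],[0,0,0,1,1],[0,0,1],[0,0,0,1],[0,1],[0,1],[0,0,0,1],[0,0,0,0,1],[0,1,1,1],[0,1],[0,0,1],[0,0,1,1],[0,1,1,1],[0,1],[0,1],[0,0,1],[0,1],[0,1],[0,0,1,1,0,1,1],[0,1],[0,0,0,0,1],[0,0,0,1],[0,0,0,0,1],[0,0,1,0,1,1],[0,1,1],[0,1],[0,1],[0,0,1],[0,1],[0,1],[0,1,1],[0,1],[0,0,0,1],[0,0,1,0,1,1,1],[0,1,1],[0,1,1],[0,0,0,1],[0,1],[0,0,1],[0,1,1],[0,0,0,0,0,1],[0,1,1],[0,1],[0,0,1,1],[0,0,1],[0,0,1,0,1],[0,1],[0,0,0,0,1],[0,1],[0,0,0,1,1,1],[0,1,1],[0,1,1],[0,1,1],[0,1]],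
  [[0,0,1],[0,0,1,1],[0,0,1],[0,0,0,1],[0,0,0,1],[0,0,1],[0,1],[0,1,1],[0,1,1],[0,0,1],[0,1,1],[0,0,1],[0,1],[0,1],[0,1],[0,1,1],[0,1],[0,0,1,1,1],[0,0,0,1],[0,1],[0,0,0,1,1,1],[0,0,1,1],[0,0,1,1,1],[0,1],[0,1,1],[0,1],[0,0,0,1,0,1,1],[0,0,1],[0,0,1],[0,0,1,0,1],[0,1],[0,1],[0,1,1,1],[0,1],[0,0,1],[0,1,1],[0,1,1],[0,0,1],[0,0,1],[0,1],[0,0,0,1],[0,0,0,1,0,1,1],[0,0,0,0,1],[0,0,1],[0,1],[0,1,1,1],[0,1],[0,0,0,1],[0,1],[0,1],[0,1,1],[0,0,1],[0,1],[0,0,1],[0,0,1],[0,0,1],[0,1],[0,0,1,1],[0,0,1],[0,1,1,1]],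
  [[0,0,1,1],[0,0,0,1],[0,0,1],[0,1,1],[0,0,1],[0,1],[0,1],[0,0,0,1],[0,1],[0,0,0,1],[0,1],[0,0,1],[0,0,1,1],[0,1],[0,1,1],[0,0,1],[0,0,0,0,1],[0,0,0,1],[0,0,0,1,1],[0,0,1],[0,1],[0,0,1],[0,1],[0,0,1,1,1],[0,0,1,1],[0,0,1],[0,0,0,1],[0,0,0,0,0,1],[0,1,1],[0,1,1],[0,0,1],[0,1],[0,0,1],[0,1],[0,0,1,0,1],[0,1],[0,1],[0,0,0,0,0,1],[0,1],[0,0,1],[0,0,1],[0,0,1],[0,0,1,1],[0,0,1],[0,0,0,1,0,1,1],[0,1,1],[0,1],[0,1],[0,0,0,1],[0,1],[0,0,1],[0,1,1],[0,0,1,1,1],[0,0,1],[0,0,1],[0,0,1],[0,1],[0,1],[0,0,1,0,1,1],[0,1]],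
  [[0,0,0,1,1],[0,0,0,1,1],[0,1,1,1,1],[0,0,1],[0,0,0,0,0,1,0,0,1,1],[0,1],[0,1,1],[0,0,1],[0,0,0,1],[0,1,1],[0,1,1],[0,0,1,0,1,1],[0,0,1],[0,0,1],[0,0,0,1],[0,0,1,1],[0,0,0,1,1],[0,0,0,1],[0,1],[0,0,1],[0,1,1,1],[0,1,1,1],[0,0,1],[0,1,1,1],[0,1],[0,1,1],[0,1],[0,0,1],[0,0,1],[0,1],[0,1],[0,1],[0,1],[0,0,1],[0,1],[0,1],[0,1],[0,0,1],[0,1],[0,1],[0,1,1],[0,0,0,1],[0,1],[0,1],[0,0,0,1],[0,0,0,1],[0,1],[0,1],[0,1,1],[0,1,1],[0,1],[0,0,1],[0,1],[0,1],[0,1],[0,0,1,1],[0,0,1],[0,1],[0,1,1],[0,0,1]],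
  [[0,0,0,1],[0,0,1],[0,0,1],[0,1],[0,0,1],[0,1],[0,1],[0,0,0,0,1],[0,0,1],[0,1],[0,0,0,0,1],[0,1],[0,0,0,1],[0,0,1],[0,1],[0,0,0,1],[0,0,1],[0,1],[0,1],[0,0,0,1],[0,0,0,1],[0,0,1],[0,0,0,0,1],[0,0,0,1],[0,0,0,1,1],[0,1,1],[0,1],[0,1,1],[0,1],[0,0,1,1],[0,0,1],[0,0,1],[0,1],[0,1,1,1],[0,1,1],[0,0,0,1],[0,1,1,1,1],[0,0,0,1],[0,0,1,1,1],[0,1,1],[0,0,1,0,1,1],[0,1,1,1],[0,0,1],[0,0,1,1],[0,0,1,1],[0,1,1],[0,0,1,1],[0,1,1],[0,0,1,1],[0,1],[0,0,1],[0,0,1,1],[0,0,0,1],[0,1],[0,1],[0,0,1,0,1,0,1,1],[0,0,0,1],[0,1,1],[0,0,0,0,1],[0,1,1,1]],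
  [[0,0,0,1],[0,0,0,1],[0,1,1],[0,1],[0,0,0,1],[0,1],[0,0,0,1,1],[0,1],[0,1],[0,0,1,1],[0,0,1],[0,1],[0,0,1],[0,1],[0,0,0,0,1],[0,0,1],[0,1,1,1,1],[0,0,1],[0,1,1],[0,0,1],[0,1,1],[0,1],[0,1],[0,0,1,1],[0,1],[0,1,1],[0,0,1],[0,0,1],[0,1],[0,1,1],[0,0,1],[0,0,1,1,1],[0,0,0,0,1],[0,0,0,1],[0,0,1],[0,0,0,0,1,0,1,1],[0,1,1],[0,1],[0,1],[0,0,1,1],[0,0,0,1],[0,0,1,1],[0,1,1],[0,1,1,1],[0,0,1],[0,0,0,1],[0,0,0,1],[0,0,1,0,1],[0,1],[0,0,0,0,1],[0,1],[0,0,0,1,0,1],[0,1,1],[0,0,1],[0,1],[0,0,1],[0,0,1],[0,0,0,1,0,0,1,1],[0,0,0,1],[0,1]],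
  [[0,1,1,1],[0,0,0,0,1],[0,0,1],[0,0,1],[0,0,0,0,1],[0,1],[0,0,0,1],[0,0,1],[0,1],[0,0,1,1],[0,1],[0,0,0,0,1],[0,0,1,0,1,1],[0,1],[0,0,1],[0,1],[0,0,0,1],[0,1],[0,1,1,1],[0,0,0,0,1],[0,0,0,0,0,0,1],[0,1,1],[0,0,0,1],[0,0,0,0,0,1,0,1],[0,1],[0,0,1],[0,1],[0,0,1],[0,0,0,1],[0,1],[0,1],[0,1],[0,1,1],[0,1],[0,0,1],[0,0,1],[0,0,1],[0,1,1],[0,1],[0,0,1],[0,0,1],[0,1,1],[0,0,1],[0,0,1],[0,0,1],[0,0,1,0,1,1],[0,0,0,1],[0,0,1,1],[0,1,1,1,1],[0,1,1],[0,1],[0,0,1],[0,0,1,1],[0,0,1],[0,1],[0,1],[0,0,1],[0,1],[0,1,1,1],[0,1]],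
  [[0,0,0,1],[0,1],[0,1,1,1],[0,1],[0,0,1],[0,0,0,0,1],[0,0,1,1],[0,0,1],[0,1],[0,0,0,1],[0,0,1,1],[0,0,0,1],[0,1],[0,0,1],[0,1,1,1],[0,0,1],[0,1],[0,1,1],[0,0,1],[0,1,1,1],[0,0,1],[0,0,1],[0,0,0,1],[0,0,1],[0,0,1],[0,1],[0,1],[0,0,0,1],[0,1,1,1],[0,0,0,1],[0,0,0,1,1],[0,1],[0,1],[0,1],[0,1],[0,1],[0,1],[0,1,1],[0,0,1,0,1,1],[0,1,1],[0,0,0,1],[0,0,1],[0,1],[0,0,0,1],[0,1,1],[0,1,1],[0,1,1],[0,0,1,1],[0,1],[0,0,1,1,1],[0,0,1],[0,1],[0,1],[0,0,1],[0,1],[0,1,1],[0,1,0,1,1],[0,1],[0,0,0,1,0,1,1],[0,0,0,1]],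
  [[0,0,1,1],[0,0,0,1],[0,1],[0,0,0,1],[0,0,1],[0,0,0,0,1],[0,1,1,1],[0,1],[0,0,1,1],[0,0,0,0,1,1],[0,0,0,0,1],[0,0,0,0,1,1],[0,0,1],[0,1],[0,0,1],[0,1,1,1],[0,1],[0,0,0,0,1],[0,1,1],[0,1],[0,0,1],[0,1],[0,1,1],[0,1],[0,0,1,1],[0,0,1,1],[0,1],[0,0,1,1],[0,0,1],[0,1,1],[0,1],[0,0,0,1],[0,0,1],[0,1],[0,0,0,1,0,1,1],[0,1],[0,0,0,1],[0,1,1],[0,0,0,0,1],[0,0,1],[0,1,1,1],[0,0,1,1],[0,1],[0,0,1,1],[0,0,0,1],[0,1],[0,0,1],[0,1],[0,0,0,1],[0,1],[0,0,1,1],[0,1],[0,1,1,1],[0,1],[0,0,0,1,0,1,1],[0,1,1],[0,0,0,1,1],[0,0,1],[0,1],[0,0,1,0,1]],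
  [[0,0,1,0,1,1],[0,0,1],[0,1,1],[0,0,1],[0,1],[0,0,0,1,1],[0,0,1,0,1],[0,0,1],[0,0,1,1,1,1],[0,0,1],[0,1,1,1],[0,0,0,1,0,1],[0,0,0,0,1,0,1,1],[0,1,1],[0,0,0,1,1],[0,0,0,0,1],[0,0,1],[0,1],[0,0,0,1,0,1,1],[0,1,1],[0,0,1],[0,1],[0,1,1],[0,1,1],[0,1,1],[0,1],[0,1],[0,1],[0,0,0,1],[0,0,0,1,1],[0,0,1],[0,0,0,1,1],[0,0,1],[0,1,1,1],[0,1,1],[0,1,1],[0,0,1],[0,1,1],[0,0,0,1],[0,0,1,1],[0,0,0,0,1],[0,0,1],[0,1],[0,1],[0,1],[0,0,1],[0,0,0,1],[0,0,0,1],[0,1],[0,1],[0,0,1],[0,1,1],[0,1,1],[0,0,0,0,1,0,1,1],[0,0,1],[0,1],[0,0,1],[0,0,1,1],[0,1,0,1,1],[0,0,1]],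
  [[0,1],[0,1],[0,1],[0,0,1],[0,1,1],[0,1],[0,1],[0,1,1,1],[0,0,1],[0,1],[0,0,0,1],[0,0,1],[0,0,0,0,1],[0,0,1,0,1,1],[0,0,1],[0,0,0,1,1,1],[0,1,1],[0,0,1],[0,1],[0,1],[0,0,1],[0,0,0,1],[0,0,1],[0,0,1,1,0,1],[0,0,1,1],[0,0,1,1],[0,0,1],[0,1],[0,0,1],[0,0,1],[0,1],[0,0,1],[0,0,1],[0,1,1],[0,1],[0,0,1],[0,1],[0,1,1,1],[0,0,1],[0,1,1,1],[0,1],[0,0,1,0,1,1],[0,0,1],[0,0,1],[0,0,1,1],[0,0,0,0,1,1],[0,0,0,0,0,1],[0,0,0,1],[0,1],[0,1],[0,1],[0,0,0,1],[0,1],[0,0,1,1],[0,1,1],[0,0,1,1],[0,1],[0,0,1],[0,0,0,1],[0,0,0,1,0,1]],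
  [[0,1],[0,1],[0,1],[0,0,1],[0,1],[0,1,0,1,1,1],[0,0,1],[0,1],[0,0,0,1],[0,0,1],[0,1,1],[0,1],[0,1],[0,0,0,0,1],[0,0,0,1],[0,0,1],[0,0,1],[0,0,1,0,1],[0,0,0,1],[0,1],[0,1,1],[0,0,0,1],[0,0,0,1],[0,1,1],[0,1,1],[0,0,1,1],[0,0,1],[0,1],[0,0,0,1],[0,1,1],[0,0,1],[0,1],[0,1,1],[0,1,1],[0,1,1],[0,1,1,1],[0,0,1,1],[0,1,1],[0,1,1],[0,0,1,0,1],[0,0,0,1],[0,0,1],[0,0,1],[0,0,1],[0,0,0,1],[0,0,1],[0,0,1,1],[0,0,1,0,1,1,1],[0,1],[0,1],[0,1,1],[0,0,1],[0,1,1],[0,0,0,1,0,1,1],[0,1],[0,1],[0,0,0,1],[0,1,1],[0,0,1,0,1,1],[0,0,1]],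
  [[0,1,1,1],[0,1],[0,1],[0,1],[0,0,0,0,0,0,1,0,1,1],[0,0,1,1],[0,0,1,1],[0,1],[0,0,1,1],[0,1,1],[0,0,1,1],[0,0,0,1,1],[0,0,1,1],[0,0,1],[0,1,1],[0,0,1,0,1],[0,1,1],[0,0,0,1,0,1,1],[0,1],[0,0,1,1],[0,0,1],[0,0,0,1],[0,0,1],[0,1,1],[0,0,1],[0,1,1],[0,1,1],[0,0,0,1],[0,0,0,1],[0,0,1],[0,0,0,1,1],[0,1],[0,0,1],[0,0,1,1],[0,0,1],[0,0,1],[0,1,1],[0,0,0,1],[0,1],[0,0,1],[0,0,0,0,1],[0,1],[0,0,1],[0,1],[0,1,1],[0,0,1],[0,1],[0,1],[0,1],[0,0,1],[0,1],[0,1],[0,1,1,1],[0,1,1],[0,0,1],[0,1,1],[0,0,1],[0,1,1],[0,0,0,1],[0,1,1,1]],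
  [[0,0,1],[0,1],[0,1],[0,0,0,1],[0,1,1],[0,1,1],[0,0,1,1],[0,1,1],[0,0,1,1],[0,0,0,0,1,0,1,1],[0,1,1],[0,0,1,0,1],[0,0,1],[0,0,0,1],[0,1],[0,1],[0,0,1],[0,0,1,0,1,1],[0,1,1,1],[0,0,1],[0,1,1],[0,1,1,1],[0,1],[0,1],[0,1],[0,0,1],[0,1],[0,1,1],[0,0,1],[0,1],[0,1,1],[0,0,1],[0,0,1],[0,0,1],[0,0,1],[0,0,1],[0,1],[0,1,1,1],[0,1,1],[0,0,1,1],[0,0,1],[0,1,1],[0,0,1],[0,0,1],[0,1],[0,0,1],[0,0,0,1],[0,1],[0,0,0,1,1],[0,1,1],[0,0,1],[0,0,0,1],[0,1,1],[0,1,1,1],[0,1,1],[0,1,1],[0,1],[0,0,1],[0,0,1,1],[0,1,1,1]],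
  [[0,0,1],[0,1],[0,1],[0,1,1],[0,1,1],[0,1,1],[0,0,0,0,1,0,1,1],[0,1,1],[0,1],[0,1,1],[0,0,1,1,1],[0,0,1,1],[0,1,1],[0,0,1,1],[0,0,0,1],[0,0,1,0,1,0,1,1],[0,1,1],[0,0,0,1,1],[0,0,0,1],[0,1],[0,0,0,0,1],[0,0,0,1],[0,1],[0,1,1],[0,1],[0,1,1],[0,0,1],[0,1],[0,1,1],[0,0,0,1],[0,0,1,1],[0,0,1],[0,1],[0,0,1],[0,0,0,0,1,0,1,1],[0,1,1],[0,0,0,1,1],[0,1,1,1],[0,1,1],[0,0,1,1],[0,0,0,1,0,1,1],[0,0,1],[0,0,1],[0,0,1],[0,1,1],[0,0,0,1],[0,1],[0,1,1,1],[0,0,1],[0,0,0,1],[0,0,0,1,1],[0,0,0,1],[0,0,0,1],[0,1],[0,1,1,1,1],[0,1],[0,0,0,1],[0,1],[0,0,1],[0,1,1]],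
  [[0,1,1,1],[0,1,1,1],[0,0,1],[0,1],[0,0,0,1],[0,1,1],[0,0,1],[0,1],[0,0,1,1,1],[0,0,1,1,0,1,1,1],[0,1],[0,1,1,1],[0,1],[0,1,1],[0,1,1],[0,1],[0,0,1],[0,1],[0,1],[0,1],[0,1],[0,0,0,1],[0,1,1],[0,0,1,0,1],[0,0,1],[0,1],[0,1,1],[0,1],[0,0,0,0,1,1],[0,1],[0,1],[0,1],[0,0,0,1],[0,1,1],[0,0,0,1,0,1,1],[0,0,1],[0,0,1,1],[0,1,1],[0,1],[0,0,1],[0,0,1],[0,1],[0,1,1],[0,1,1],[0,1],[0,0,0,1,1],[0,0,1],[0,0,1],[0,1],[0,0,0,1],[0,0,1],[0,1],[0,1],[0,0,1,0,1,1],[0,1,1],[0,0,1],[0,0,0,1,1],[0,0,1,1],[0,0,0,1,0,1,1],[0,1,1,1]],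
  [[0,0,1,1,1],[0,0,1,1],[0,0,1],[0,0,0,1,0,1],[0,0,1,1],[0,0,1,0,1],[0,0,1],[0,0,1],[0,1,1,1],[0,0,1],[0,1,1,1],[0,0,1],[0,1,1,1],[0,0,0,1],[0,1],[0,0,1],[0,0,1,1,1,1],[0,0,0,1],[0,0,1],[0,0,1],[0,0,0,0,1,1],[0,0,1],[0,1],[0,1],[0,1],[0,0,1],[0,0,1],[0,1],[0,0,0,1,1],[0,1],[0,1,1],[0,0,1],[0,1],[0,0,1],[0,0,1],[0,1,1],[0,1,1,1],[0,1],[0,0,1],[0,1],[0,1],[0,1],[0,0,1],[0,0,1,1,1],[0,1],[0,0,1],[0,1,1,1],[0,1],[0,1],[0,1],[0,0,1,1],[0,1],[0,1,1],[0,0,0,1],[0,0,1],[0,1,1,1],[0,0,1],[0,0,1,1],[0,1],[0,1]],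
  [[0,1,1],[0,1,1,1,1],[0,1],[0,0,1],[0,0,0,1],[0,1,1],[0,1],[0,1],[0,0,1,0,1],[0,1],[0,1,1],[0,1],[0,0,1],[0,1],[0,0,1],[0,0,1],[0,0,0,1],[0,0,0,1,0,1,1],[0,0,1],[0,0,0,1],[0,0,0,1],[0,0,0,1],[0,1,1],[0,0,1],[0,0,0,1],[0,1],[0,1],[0,0,0,1],[0,1],[0,0,1],[0,0,0,1,0,1,1],[0,1,1],[0,1],[0,0,0,1],[0,0,0,1],[0,1],[0,1,1],[0,0,1,1],[0,0,0,1],[0,0,0,1],[0,0,0,1],[0,1],[0,1],[0,0,1],[0,0,1,0,1],[0,0,1,1,1],[0,0,0,0,1,1],[0,1],[0,0,0,1],[0,0,0,1,1],[0,1],[0,1],[0,0,0,1],[0,1,1,1],[0,1],[0,1],[0,1],[0,1,1],[0,1,1,1],[0,0,1,0,1]],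
  [[0,0,1],[0,1],[0,1],[0,0,0,1],[0,0,1],[0,0,1],[0,1],[0,1,1],[0,0,1],[0,1],[0,1,1],[0,0,0,1],[0,1,1,1],[0,1,1],[0,0,0,1],[0,1],[0,1,1],[0,0,1],[0,1,1,1],[0,0,0,1],[0,0,0,0,1],[0,0,1,0,1],[0,1],[0,0,0,1,1],[0,0,1],[0,0,1],[0,1,1,1],[0,1],[0,1,1],[0,1],[0,1],[0,0,0,0,1],[0,1],[0,0,1],[0,0,0,1],[0,0,1],[0,1],[0,1],[0,0,1],[0,0,0,1],[0,1,1],[0,1,1],[0,0,0,1],[0,1],[0,1],[0,1],[0,0,1],[0,1,1,1],[0,0,0,1],[0,1,1],[0,1],[0,1],[0,0,1],[0,1],[0,1],[0,0,1],[0,1],[0,1],[0,0,1],[0,0,1]],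
  [[0,1],[0,1,1,1],[0,0,0,0,1],[0,1],[0,1],[0,1],[0,1],[0,0,0,1],[0,0,1],[0,0,1],[0,1,1],[0,1,1,1],[0,1,1,1,1],[0,1,1],[0,0,1,1],[0,0,1],[0,0,1],[0,0,0,1,0,1,1],[0,0,0,1],[0,0,1],[0,1],[0,0,0,0,0,1],[0,0,1,1],[0,0,0,0,1],[0,0,1],[0,1,1],[0,1,1],[0,1,1],[0,1],[0,1],[0,0,0,1],[0,0,1,0,1],[0,0,1],[0,0,1,1],[0,0,0,1],[0,0,1],[0,1,1],[0,1,1,1],[0,1,1],[0,1,1,1],[0,0,1],[0,0,1,1],[0,1],[0,0,0,1],[0,0,0,0,1],[0,0,1,0,1,1],[0,1],[0,0,1,1,1],[0,0,1],[0,0,1,1],[0,1],[0,1,1,1,1],[0,0,1,1],[0,0,1],[0,1],[0,1,1],[0,1,1],[0,0,1,1],[0,1,1],[0,0,1]],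
  [[0,1,1],[0,0,1],[0,0,1,1],[0,0,1,1,1],[0,1],[0,1],[0,0,0,1],[0,1],[0,1],[0,0,1],[0,0,1],[0,1],[0,0,1],[0,1,1,1],[0,0,1],[0,1],[0,0,1],[0,1],[0,0,1],[0,1,1],[0,0,1],[0,1,1],[0,1],[0,0,1],[0,1],[0,1],[0,0,0,1],[0,0,1],[0,1],[0,0,1],[0,1,1],[0,1,1,1],[0,0,1],[0,0,0,0,1],[0,1],[0,1,1],[0,0,1],[0,1],[0,0,0,1],[0,1],[0,1],[0,1],[0,0,0,1],[0,0,1],[0,1,1],[0,0,1],[0,1],[0,0,1,1],[0,1],[0,0,1],[0,1],[0,1],[0,1],[0,1],[0,0,1],[0,1,1],[0,1,1],[0,0,0,1],[0,0,1],[0,0,1,1]],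
  [[0,1],[0,1],[0,0,1],[0,0,1,0,1],[0,0,1,1],[0,0,1],[0,1],[0,0,1],[0,1,1],[0,0,0,1],[0,1],[0,1],[0,0,0,0,1],[0,1,1,1],[0,1,1],[0,0,1,1],[0,0,1],[0,0,0,1],[0,0,1,1,1],[0,0,1],[0,0,1],[0,0,0,1],[0,1,1,1],[0,1,1],[0,0,0,0,1],[0,0,0,1],[0,0,1],[0,0,0,1,1],[0,1],[0,0,1,1],[0,1],[0,0,0,0,1,0,1,1],[0,1,1],[0,0,1,0,1,1,1],[0,1,1],[0,1,1],[0,1,1,1],[0,0,1],[0,0,1],[0,0,1,1],[0,0,0,0,0,1],[0,0,1,1],[0,1,1],[0,0,1],[0,0,0,0,1],[0,0,1],[0,1],[0,1],[0,1],[0,0,1,0,1],[0,0,1],[0,1],[0,0,1,1,1],[0,0,0,1],[0,0,1],[0,0,0,1],[0,1],[0,1],[0,1],[0,0,0,1]],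
  [[0,1],[0,0,1,1],[0,0,1],[0,0,1],[0,0,1],[0,0,1,1],[0,0,1],[0,1,1],[0,0,0,0,1],[0,0,1,1],[0,0,1],[0,1],[0,1,1],[0,0,0,1],[0,1],[0,1],[0,0,1],[0,0,1],[0,1,1],[0,0,0,1],[0,1,0,1,1],[0,1,1],[0,1,1,1],[0,1],[0,0,0,0,1],[0,0,1],[0,1],[0,0,1,1],[0,0,1],[0,1],[0,0,1],[0,1],[0,0,0,1,0,1,1,1],[0,0,1,1],[0,0,0,0,1],[0,1],[0,1,1],[0,0,1],[0,0,1],[0,0,1],[0,0,0,0,1],[0,1],[0,0,1],[0,0,1],[0,1],[0,1,1,1],[0,0,1],[0,1,1,1],[0,0,0,1],[0,0,1,1],[0,1],[0,0,1],[0,1,1],[0,1,1],[0,0,1],[0,0,1,1],[0,0,1,0,1,1],[0,1],[0,0,1],[0,1]],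
  [[0,1],[0,0,1,1,1],[0,0,1,1],[0,0,1],[0,1,1,1],[0,0,1],[0,1],[0,1,1,1],[0,1,1],[0,1,1],[0,0,1],[0,1],[0,1,1],[0,1],[0,0,1],[0,0,1],[0,1,1],[0,1,1],[0,1],[0,1,1],[0,1],[0,1,1,1],[0,1],[0,1,1,1],[0,1],[0,0,1],[0,0,1,1],[0,1,1,1],[0,0,1,1,1],[0,1],[0,0,1],[0,1],[0,0,1,1],[0,0,1,1],[0,0,0,1],[0,1],[0,0,1],[0,0,1],[0,1,1],[0,0,1],[0,1],[0,1],[0,0,1],[0,1],[0,0,1,1],[0,0,1],[0,0,1],[0,0,1],[0,1,1],[0,0,1,1],[0,0,0,1],[0,0,0,1],[0,0,0,0,0,1,0,1,1],[0,1],[0,0,0,1,0,1,1],[0,1],[0,1],[0,1],[0,1],[0,1]],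
  [[0,1],[0,0,1],[0,1],[0,1],[0,1],[0,0,0,1],[0,1],[0,1],[0,1,1],[0,1],[0,1],[0,1],[0,0,1,0,1],[0,0,1],[0,0,1],[0,0,1,1,1],[0,1],[0,1],[0,0,1,1],[0,1],[0,1],[0,0,1,1],[0,1,1,1],[0,0,0,1],[0,0,0,0,1],[0,1],[0,1],[0,0,0,1],[0,1,1,1],[0,0,0,1],[0,0,0,0,1,1],[0,1,1],[0,0,0,1,1],[0,0,0,0,1],[0,1],[0,1],[0,0,1,1],[0,0,1],[0,1,1],[0,0,1],[0,0,0,1],[0,1,1,1],[0,1],[0,0,1],[0,0,0,1],[0,1],[0,0,1],[0,1],[0,0,0,0,1],[0,0,1],[0,0,0,1,1],[0,0,1],[0,1,1,1],[0,1],[0,1,1,1],[0,0,0,1],[0,0,1],[0,0,1],[0,0,0,1],[0,1,1,1]],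
  [[0,1,1,1],[0,0,0,0,1],[0,1,1,1],[0,0,0,1],[0,0,1],[0,0,1,1],[0,0,1],[0,0,1,1],[0,1,1],[0,0,0,1,0,1,1],[0,0,1],[0,0,1],[0,0,0,0,1],[0,0,1],[0,0,0,1],[0,0,1,1],[0,0,0,1],[0,0,1],[0,1,1],[0,1,1,1],[0,1,1],[0,0,1,1],[0,1],[0,0,1],[0,0,0,1],[0,1],[0,1],[0,0,1,1],[0,1],[0,0,0,1,1],[0,0,1],[0,0,1,1],[0,0,0,0,1],[0,1,1],[0,1,1],[0,0,1,1],[0,1,1],[0,1,1],[0,0,1],[0,0,0,1],[0,1,1],[0,0,1,1],[0,0,0,1],[0,0,0,1],[0,0,1],[0,0,0,1],[0,1],[0,0,0,1],[0,0,1],[0,0,1],[0,0,1,1],[0,0,1,1],[0,1],[0,0,1,0,1,1],[0,0,1],[0,1],[0,0,1,1],[0,1],[0,0,1,1],[0,0,0,0,1]],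
  [[0,1],[0,0,1,0,1,1],[0,0,1],[0,0,0,0,1],[0,1],[0,1],[0,1,1,1],[0,1,1],[0,0,1],[0,1,1],[0,0,0,1],[0,1,1],[0,1,1,1],[0,1],[0,0,1,1],[0,1],[0,1,1,1],[0,0,0,1],[0,1,1,1],[0,1],[0,1],[0,1,1,1],[0,0,0,1],[0,1,1],[0,1,1],[0,0,0,1,0,0,1,1],[0,0,0,1],[0,1],[0,1],[0,1],[0,0,0,1],[0,0,0,1],[0,0,1,1],[0,1],[0,1],[0,1],[0,1],[0,0,1],[0,1],[0,1],[0,0,1],[0,1,1],[0,1,1],[0,1],[0,1],[0,1],[0,0,1,1],[0,1],[0,0,1],[0,0,1],[0,0,1],[0,0,1,1],[0,0,1,1],[0,0,1],[0,1,1],[0,0,0,1],[0,0,1,1],[0,0,1,1],[0,1],[0,0,1]],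
  [[0,1],[0,0,1],[0,0,1],[0,0,1],[0,1,1],[0,0,1,1],[0,1,1],[0,0,1,0,1,1],[0,1],[0,1],[0,1,1],[0,1],[0,1],[0,1,1,1],[0,1],[0,0,1],[0,1,1,1],[0,0,1],[0,1],[0,0,0,0,1],[0,1],[0,0,1,1],[0,0,1],[0,1],[0,1],[0,1],[0,1],[0,0,0,1],[0,0,0,1,1],[0,0,0,1,1],[0,1,1],[0,1],[0,0,0,1],[0,1,1],[0,0,1,1],[0,1,1],[0,1],[0,1,1],[0,1],[0,0,0,0,0,1],[0,1],[0,1],[0,1,1],[0,1],[0,0,1,1],[0,1],[0,1,1],[0,0,0,1,0,1],[0,0,1,1],[0,1,1,1],[0,1,1],[0,0,1],[0,0,0,1],[0,0,1],[0,1,1,1],[0,0,0,1,0,1],[0,0,0,1],[0,0,1],[0,0,0,0,1,0,1,1],[0,0,0,1,1]],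
  [[0,0,1],[0,1,1],[0,0,0,1],[0,0,1],[0,1],[0,0,1],[0,1],[0,1],[0,0,1],[0,0,0,1,0,1,1],[0,0,1],[0,0,1],[0,0,1],[0,1],[0,1,1],[0,0,1],[0,0,1],[0,0,1],[0,1,1,1],[0,0,1],[0,1],[0,0,0,1],[0,1,1],[0,0,1],[0,1,1],[0,0,0,1],[0,0,1],[0,1],[0,0,1],[0,1,1,1],[0,1],[0,0,1,0,1,0,1,1],[0,1,1],[0,0,1],[0,1],[0,0,0,0,1],[0,0,1],[0,1],[0,0,1],[0,1],[0,1],[0,0,0,1],[0,0,1],[0,0,1],[0,1],[0,0,0,1],[0,0,1],[0,0,0,1],[0,1,1],[0,1],[0,1,1],[0,0,1],[0,1],[0,1,1,1],[0,1],[0,1],[0,1],[0,0,1],[0,0,1,0,1],[0,0,0,1]],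
  [[0,0,1,1],[0,1],[0,1],[0,1],[0,1],[0,0,0,1],[0,1],[0,1,1],[0,0,0,1],[0,1,1],[0,1],[0,0,1],[0,1],[0,1],[0,1],[0,0,1],[0,0,0,0,1],[0,0,0,1,1],[0,0,1,1],[0,1],[0,1],[0,0,1],[0,1],[0,1,1],[0,0,1,1],[0,0,1],[0,0,1],[0,1,1],[0,0,0,1],[0,0,0,0,1],[0,1],[0,1],[0,0,1],[0,0,1],[0,0,1],[0,0,1],[0,0,0,1],[0,1],[0,1],[0,0,1],[0,1],[0,0,1],[0,0,1],[0,0,1],[0,1,1],[0,1,1],[0,1],[0,0,1],[0,1],[0,1],[0,1,1],[0,1,1],[0,1],[0,0,0,1],[0,0,0,0,1],[0,0,1],[0,1,1],[0,1],[0,0,0,1],[0,0,0,1]],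
  [[0,0,0,1],[0,0,1,0,1],[0,1],[0,0,0,1],[0,1],[0,0,1],[0,1,1],[0,0,1],[0,0,1],[0,0,1],[0,0,1,1],[0,0,1],[0,1,1,1],[0,1],[0,1],[0,0,1,1],[0,1],[0,0,1,1,1],[0,0,1,1],[0,0,1],[0,0,0,0,1],[0,0,1],[0,1],[0,1],[0,0,1],[0,1,1],[0,0,0,1,0,1,1],[0,1],[0,0,0,1,1],[0,0,0,1,0,1,1],[0,0,0,1,1,1],[0,0,0,1,1],[0,0,1,1],[0,1,1],[0,1],[0,0,1],[0,1,1],[0,1],[0,0,0,0,1],[0,1],[0,1],[0,0,1],[0,0,1,0,1],[0,1,1],[0,0,0,1,1],[0,0,0,1],[0,1,1,1],[0,0,1,1],[0,1],[0,0,1],[0,1],[0,1,1],[0,0,1,1],[0,0,1],[0,1],[0,0,0,0,1],[0,1],[0,0,0,1],[0,1,1,1,1,1],[0,1]],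
  [[0,1],[0,1],[0,1],[0,0,1,0,1,1],[0,0,1],[0,1],[0,1],[0,0,1],[0,1],[0,1],[0,1,1],[0,1,1,1],[0,0,1],[0,1],[0,1,1],[0,0,0,0,1],[0,1],[0,1],[0,0,1],[0,0,0,1,1],[0,0,1],[0,1],[0,0,1,0,1],[0,0,1],[0,0,0,0,1],[0,0,1],[0,1],[0,1,1],[0,0,1],[0,0,0,0,1],[0,1],[0,0,0,0,1],[0,0,1],[0,0,0,1,0,1,1,1],[0,1],[0,1],[0,1],[0,0,1],[0,0,0,1],[0,0,1],[0,0,1],[0,0,0,1],[0,0,1],[0,0,0,1,0,1],[0,0,0,0,1],[0,0,1],[0,0,0,1],[0,1,1],[0,0,1],[0,0,1],[0,0,1],[0,1],[0,1,1,1],[0,1],[0,0,1],[0,1],[0,1,1],[0,0,0,1],[0,1,1],[0,0,1]],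
  [[0,0,0,1,0,1],[0,1],[0,0,0,1],[0,0,1],[0,0,0,0,1],[0,0,1],[0,1,1],[0,0,0,1],[0,0,1],[0,1,1,1],[0,0,0,0,1],[0,1,1],[0,0,0,0,1],[0,0,0,0,0,1],[0,0,1,1,1],[0,1,1,1],[0,1,1,1],[0,0,0,1],[0,1,1],[0,0,0,1,1],[0,0,0,1,0,1,1],[0,0,1],[0,1,1,1],[0,1,1],[0,1],[0,0,0,0,1],[0,0,1],[0,0,1],[0,1,1],[0,0,1],[0,1,1],[0,1],[0,1],[0,0,1,1],[0,0,1,1],[0,1],[0,0,1,1],[0,0,1],[0,0,0,1,0,1],[0,0,1],[0,0,1],[0,0,0,1],[0,0,1],[0,0,0,1,1],[0,0,1],[0,0,1],[0,1,1],[0,0,0,1],[0,0,1,1],[0,0,1],[0,0,0,0,1],[0,0,1,1,0,1,1,1],[0,0,1,1,1,1],[0,0,1],[0,0,1],[0,1],[0,0,1],[0,0,1],[0,1],[0,0,0,1]],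
  [[0,0,1,1,0,1],[0,0,1,1],[0,1],[0,0,1,0,1],[0,1,1],[0,0,1],[0,0,0,1,0,1],[0,0,1,1],[0,1,1,1],[0,0,1],[0,1],[0,0,0,0,1],[0,1],[0,0,1,0,1,1],[0,0,0,1,1],[0,0,1],[0,1],[0,0,1],[0,1],[0,0,1],[0,1,1,1],[0,1],[0,0,1],[0,0,0,1],[0,0,1],[0,1],[0,1,0,1,1],[0,1],[0,0,1],[0,0,1],[0,0,1,1],[0,0,0,1,1],[0,0,1],[0,1,1],[0,0,1],[0,0,1],[0,1],[0,1],[0,1],[0,1,1],[0,1,1],[0,1],[0,1,1],[0,0,0,1,0,1,1],[0,0,1],[0,1,1],[0,0,1,1],[0,0,0,1],[0,0,1],[0,1],[0,0,1],[0,0,0,0,1],[0,0,1,1],[0,1,1],[0,0,1],[0,1,1],[0,1],[0,0,0,1],[0,1],[0,1,1,1]],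
  [[0,1],[0,1,1],[0,0,1,1],[0,1],[0,0,0,1],[0,1],[0,1,1],[0,0,1],[0,0,0,1],[0,1],[0,0,1,1],[0,0,1],[0,1],[0,1,1],[0,1],[0,1,1],[0,1],[0,0,1],[0,1,1],[0,1,1],[0,1,1],[0,0,1],[0,1,1,1],[0,0,0,1],[0,1],[0,1],[0,1],[0,0,0,0,1,0,1,1,1],[0,1],[0,0,1,1],[0,0,1,1],[0,1],[0,0,1,1],[0,1,1],[0,0,1],[0,1],[0,1,1,1],[0,0,0,1,1],[0,0,0,1],[0,0,1],[0,1],[0,0,1],[0,1],[0,0,0,0,1],[0,0,1],[0,0,0,1],[0,0,1],[0,0,1],[0,1,1],[0,0,1,1],[0,0,0,0,1],[0,0,1],[0,0,1,0,1,1],[0,0,1],[0,1],[0,1,1],[0,0,1],[0,0,0,0,0,1],[0,0,1],[0,1]],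
  [[0,1,1,1],[0,1],[0,0,0,1],[0,0,0,1,1,1],[0,1,1],[0,0,1,1],[0,1],[0,1,1,1],[0,1],[0,1],[0,0,1,0,1],[0,0,1],[0,1,1],[0,0,0,0,0,0,1],[0,1],[0,0,1],[0,1],[0,1],[0,1,1],[0,0,1,1,1],[0,0,1],[0,0,0,1,1],[0,0,0,1],[0,1],[0,0,1],[0,1],[0,0,0,1],[0,0,0,0,1],[0,0,1],[0,0,1,1,0,1],[0,1,1,1],[0,0,1],[0,0,1],[0,0,1],[0,0,1],[0,0,1],[0,0,1],[0,1],[0,0,1,0,1],[0,1],[0,1],[0,0,1],[0,1],[0,0,0,0,1,1],[0,0,1,1],[0,0,0,0,1],[0,1,1],[0,0,1],[0,0,1],[0,1,1],[0,1,1],[0,1,1],[0,0,1,0,1],[0,0,1],[0,0,1],[0,1],[0,0,1],[0,0,1,1],[0,0,1,1],[0,1]],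
  [[0,0,0,1,0,1,1],[0,0,0,0,1],[0,0,0,1],[0,0,0,1],[0,0,1,1],[0,1],[0,0,1],[0,0,1],[0,1,1],[0,0,0,1],[0,1],[0,1],[0,0,0,0,0,1],[0,0,0,1],[0,1,1],[0,1],[0,1],[0,0,1],[0,0,0,1],[0,1,1],[0,1],[0,0,1],[0,1],[0,1,1,1],[0,0,1,1],[0,1],[0,0,0,1,0,1,1],[0,0,1],[0,1,1],[0,0,0,0,0,1],[0,0,0,1],[0,0,1],[0,0,0,0,0,1],[0,1],[0,0,1],[0,0,0,1,1],[0,0,1,1],[0,0,1],[0,0,0,0,0,1],[0,1],[0,0,1,1,1],[0,1],[0,1,0,1,1],[0,1,1],[0,1],[0,0,1,0,1],[0,1],[0,1,1],[0,1],[0,0,1],[0,0,1],[0,1,1],[0,1,1,1],[0,1],[0,1],[0,1],[0,1,1],[0,1,1],[0,0,0,1,1],[0,1]],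
  [[0,0,0,1],[0,0,0,1,1],[0,0,1,0,1,1,1],[0,1],[0,1,1],[0,1],[0,1,1],[0,0,1],[0,0,1],[0,1],[0,0,1,0,1,1],[0,0,0,0,0,0,1],[0,0,1],[0,1,1],[0,1,1],[0,0,0,1,0,1,1],[0,1],[0,1],[0,0,0,1],[0,1,1],[0,1],[0,1,1],[0,1],[0,1],[0,0,1],[0,0,0,1],[0,1,1],[0,1,1],[0,0,1],[0,0,0,0,1],[0,1],[0,0,0,1],[0,1],[0,0,0,0,0,1,0,1,1],[0,1],[0,1],[0,1],[0,0,0,1],[0,1,1],[0,1],[0,0,0,1,0,1,1],[0,0,0,0,0,1,0,1,1],[0,0,1],[0,0,1],[0,0,0,1],[0,0,0,1,0,1,1],[0,0,1,0,1,1,1],[0,1],[0,1,1],[0,0,1],[0,0,0,1],[0,1,1,1,1],[0,0,0,1],[0,1],[0,1],[0,0,0,1],[0,0,1,1],[0,1,1,1],[0,0,1],[0,0,0,0,1]],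
  [[0,0,0,0,1],[0,0,1],[0,1],[0,0,1],[0,1,1],[0,0,0,1],[0,0,1],[0,0,1,0,1],[0,0,0,1,1,1],[0,0,1],[0,0,1],[0,0,0,1],[0,1,1,1],[0,1],[0,0,1],[0,1,1],[0,0,1,0,1,0,1,1],[0,0,1],[0,0,0,1],[0,1],[0,1,1],[0,0,0,1],[0,0,1],[0,1,1,1],[0,1,1],[0,1],[0,1,1],[0,1],[0,1,1,1],[0,1,1],[0,0,0,1],[0,0,1],[0,0,0,1],[0,0,1,1],[0,0,1,1],[0,0,1],[0,0,1],[0,1,1],[0,1],[0,0,0,0,1],[0,0,1],[0,0,1],[0,1],[0,0,0,1],[0,0,0,1],[0,1],[0,0,0,1,0,1,1],[0,0,1],[0,1,1],[0,1,1,1],[0,1],[0,1,1,1],[0,0,0,1,1],[0,0,1,0,1],[0,0,1,1],[0,0,1],[0,0,1],[0,1],[0,1],[0,1]],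
  [[0,0,1],[0,0,0,1,0,0,1,1],[0,1,1],[0,1,1,1],[0,0,1,1],[0,1,0,1,1],[0,0,0,0,1],[0,0,1,0,1,1,1],[0,1],[0,1],[0,1,1,1],[0,0,1,0,1],[0,1,1],[0,0,0,1],[0,0,1],[0,1],[0,0,0,0,0,1],[0,1,1,1],[0,0,1,0,1,1,1],[0,0,0,1],[0,0,0,0,1],[0,1,1],[0,0,0,1,0,1,1],[0,1,1],[0,1,1],[0,0,0,0,1],[0,0,1],[0,0,0,0,0,1],[0,1],[0,1],[0,1,1],[0,1],[0,0,0,1,1],[0,1,1],[0,1,1],[0,0,0,1],[0,1],[0,1,1,1,1],[0,0,1,1,1],[0,0,1],[0,0,0,1,1,0,1],[0,1,1],[0,0,1,0,1,1,1,1],[0,0,1],[0,1],[0,0,1],[0,1],[0,1],[0,0,0,1,1],[0,1,1],[0,0,0,1],[0,0,0,1,0,1,1],[0,1],[0,1],[0,0,1,0,1],[0,1,1],[0,0,0,1,0,1,1],[0,0,1,0,1,1,1],[0,0,1],[0,0,1]],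
  [[0,1,1],[0,0,0,0,1],[0,0,0,0,1],[0,1,1,1],[0,1],[0,0,1,1],[0,0,1],[0,0,1,1,1],[0,1,1],[0,1],[0,1],[0,0,0,1],[0,1,1],[0,0,0,1],[0,1],[0,0,0,1,0,1,1,1,1],[0,1],[0,1,1],[0,0,0,1,0,0,1,1],[0,0,0,1],[0,0,1],[0,0,1,0,1,1],[0,1],[0,1,1],[0,1],[0,0,0,1,0,1,1],[0,0,0,1],[0,0,1,1,1],[0,1,1],[0,1,1],[0,0,0,1,0,0,1,1],[0,0,1],[0,0,1,0,1],[0,0,1,1],[0,0,0,1],[0,1],[0,1],[0,0,0,1],[0,0,1],[0,1],[0,0,1,1],[0,1,1],[0,1,1],[0,0,1,1],[0,1,1],[0,1],[0,1],[0,1,1],[0,0,0,1,0,1,1],[0,0,1,0,1,1],[0,0,1,0,1],[0,1],[0,0,0,0,1,0,1,1],[0,1],[0,1],[0,1],[0,0,0,1],[0,1],[0,0,1],[0,0,0,1]],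
  [[0,0,0,1,0,1,1],[0,1],[0,1],[0,0,0,0,1],[0,1,1],[0,0,1],[0,0,0,0,1],[0,1],[0,1],[0,1,1],[0,1,1,1],[0,0,1,0,1],[0,1],[0,0,1,1],[0,0,1],[0,0,0,1],[0,0,1],[0,0,1],[0,1],[0,1],[0,0,1],[0,1],[0,1,1],[0,1,1,1],[0,1,1],[0,1],[0,0,0,1,1],[0,1,1,1],[0,0,1,1,1],[0,1],[0,0,0,1],[0,1],[0,0,0,0,1],[0,1],[0,0,1,1,1],[0,0,1,1],[0,0,0,1],[0,1],[0,1,1,1,1],[0,0,0,1,0,1,1],[0,1,1,1],[0,0,1],[0,1,1],[0,0,0,1],[0,1],[0,0,0,1],[0,1,1],[0,0,0,1,1],[0,0,1],[0,1,1],[0,1],[0,1],[0,1,1],[0,1],[0,1],[0,1],[0,1,1,1,1,1],[0,0,0,1],[0,0,1],[0,1]],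
  [[0,1,1],[0,0,1,1],[0,0,0,1,1],[0,1],[0,0,1],[0,1,1,1],[0,1],[0,1,1],[0,1],[0,0,0,1],[0,1,1,1],[0,0,0,0,0,1],[0,1],[0,1],[0,1],[0,1,1],[0,1],[0,1],[0,1,1],[0,0,1],[0,0,0,1,0,1,1],[0,1],[0,0,0,1],[0,0,0,1,1],[0,0,1],[0,0,1],[0,1,1],[0,1],[0,0,0,0,1],[0,1,1],[0,1],[0,1],[0,1,1],[0,0,0,1],[0,1,1,1,1],[0,0,1],[0,1],[0,1,1],[0,1,1,1],[0,1,1],[0,0,1],[0,0,1],[0,1],[0,1,1],[0,1,1],[0,1,1],[0,1,1],[0,1],[0,0,0,0,1],[0,1,1],[0,1,1],[0,0,1,0,1],[0,0,1],[0,0,0,1],[0,1],[0,1],[0,0,0,1,0,0,1,1],[0,1],[0,1,1,1],[0,1]],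
  [[0,0,0,1,0,1],[0,1],[0,0,0,1,1],[0,1],[0,0,1],[0,0,0,1],[0,0,1],[0,1,1],[0,0,0,1],[0,0,1],[0,1,1,1],[0,1,1,1],[0,0,0,0,1,1],[0,0,0,0,1],[0,1],[0,1,1],[0,1],[0,0,0,0,1],[0,0,1],[0,1,1,1],[0,1,1],[0,1],[0,0,0,1,0,0,1,1],[0,0,0,0,0,0,1,0,1,1],[0,0,0,0,1],[0,1],[0,0,0,0,1],[0,0,1],[0,0,0,0,1,0,1,1],[0,1,1],[0,0,0,1],[0,0,1,0,1],[0,1,1],[0,0,1],[0,1],[0,1,1],[0,0,1],[0,1],[0,0,1],[0,1],[0,0,1],[0,0,0,1],[0,0,0,1],[0,0,1],[0,1,1],[0,0,0,1],[0,0,1,1,1],[0,1],[0,1,1],[0,0,1],[0,0,1],[0,1,1,1],[0,0,1],[0,0,1,0,1],[0,1],[0,0,1,1],[0,1,1],[0,1,1],[0,1],[0,0,1,1]],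
  [[0,0,1,1],[0,1],[0,1,1],[0,1,1,1],[0,1,1],[0,0,1],[0,0,0,1],[0,0,0,1,0,1],[0,0,1],[0,1],[0,0,0,1],[0,1,1,1],[0,0,0,0,1],[0,0,0,0,1],[0,1,1,1],[0,1],[0,0,0,1],[0,1,1],[0,1],[0,0,0,0,1],[0,1],[0,0,0,0,1],[0,1,1],[0,0,1,0,1],[0,0,1,1],[0,1,1],[0,1],[0,1],[0,1],[0,1,1],[0,0,1],[0,0,1,1],[0,0,1],[0,0,0,0,1],[0,1],[0,0,0,0,1],[0,1,1],[0,1,1,1],[0,0,1,0,1,1],[0,0,1],[0,0,1],[0,1,1],[0,0,1,0,1,1],[0,0,0,1,0,0,1,1],[0,1],[0,0,1],[0,0,1,1],[0,0,0,1],[0,0,1],[0,0,1],[0,1,1],[0,1],[0,1],[0,1],[0,1],[0,0,0,0,1],[0,1,1,1,1],[0,1,1],[0,0,0,0,1],[0,1]],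
  [[0,1,0,1,1,1],[0,0,0,1],[0,1,1],[0,0,0,0,1],[0,1,1],[0,1],[0,1],[0,0,0,0,1],[0,0,0,1,0,1,1],[0,0,0,1],[0,0,1],[0,1,1],[0,0,0,1,1,0,1,1,1],[0,1,1],[0,0,0,1,1],[0,0,1],[0,0,1,0,1,1,1],[0,0,1,0,1,1],[0,0,1],[0,0,0,1,1],[0,1,1],[0,0,1],[0,1,1],[0,1,1,1],[0,0,1,0,1],[0,0,1],[0,1,1],[0,0,0,1],[0,1],[0,0,0,1],[0,0,1],[0,0,1],[0,1],[0,0,1],[0,0,1],[0,1,1,1],[0,0,0,1,0,0,1,1,1],[0,1],[0,1,1],[0,0,1,1],[0,1,1,1],[0,1,1,1],[0,0,0,0,1],[0,0,1,0,1,1],[0,0,0,1],[0,0,0,1,0,1,1],[0,1],[0,0,1],[0,0,0,1],[0,0,1],[0,1],[0,1,1],[0,0,1,1],[0,1],[0,1],[0,0,0,1,1],[0,0,1,1],[0,0,0,1,0,0,1,1,1],[0,1,1],[0,1]],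
  [[0,1,1],[0,0,0,1],[0,1,1],[0,1],[0,0,0,1],[0,0,1,0,1,1],[0,0,1,1],[0,0,1],[0,0,0,1,1],[0,1,1],[0,0,0,1,0,1,1],[0,1],[0,0,0,1,1],[0,0,1],[0,0,1,1],[0,0,1,0,1,1],[0,0,1,1,1],[0,1],[0,0,1],[0,1,1],[0,1,1],[0,0,1],[0,0,0,1,1],[0,0,1],[0,0,0,1],[0,0,1,0,1,1],[0,0,0,1],[0,0,1],[0,0,1],[0,0,0,1],[0,0,0,1,0,1,1,1],[0,0,1],[0,1],[0,1,1],[0,0,1],[0,1,1],[0,1],[0,0,1,0,1,1],[0,1,1,1],[0,0,1],[0,0,0,1,0,1,1],[0,0,1,1],[0,0,0,1],[0,0,1],[0,1],[0,0,0,1],[0,1],[0,1],[0,0,1,1],[0,1,1],[0,0,1,1],[0,1,1],[0,0,1,0,1],[0,1],[0,0,1],[0,1],[0,1],[0,0,0,1],[0,0,1],[0,0,0,1,0,0,1,1]]]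

set_option maxRecDepth 1000000 in
theorem m22Pw_eq : m22Pw = (List.range 11).map (powT gA11) := by decide +kernel

set_option maxRecDepth 1000000 in
theorem m22Pw_eleven : powT gA11 11 = List.range 24 := by decide +kernel

set_option maxRecDepth 1000000 in
theorem m22R_ok : ∀ i : Fin 61, okK (m22R.getD i.val []) = true ∧
    (m22R.getD i.val []).getD 0 0 = 0 ∧ (m22R.getD i.val []).getD 2 0 = 2 := by decide +kernel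

set_option maxRecDepth 1000000 in
theorem m22L_ok : ∀ j : Fin 60, okK (m22L.getD j.val []) = true := by decide +kernel

set_option maxRecDepth 1000000 in
theorem m22OrbL_eq : ∀ i : Fin 61, ∀ a : Fin 11,
    m22OrbL.getD (11 * i.val + a.val) 0 =
      actK (m22Pw.getD a.val []) (actK (m22R.getD i.val []) dd9) := by decide +kernel

set_option maxRecDepth 1000000 in
theorem m22_orb_cover : ∀ m ∈ dodL, m.testBit 0 = true → m.testBit 2 = false →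
    m = dd9 ∨ m ∈ m22OrbL := by decide +kernel

set_option maxRecDepth 1000000 in
theorem m22Idx_ok : ∀ k : Fin 660, (m22Idx.getD k.val (0, 0)).1 < 11 ∧
    (m22Idx.getD k.val (0, 0)).2 < 60 ∧
    L660.getD k.val [] = compTbl (m22Pw.getD (m22Idx.getD k.val (0, 0)).1 [])
      (m22L.getD (m22Idx.getD k.val (0, 0)).2 []) := by decide +kernel

end Cfsg.Agent.Lib.helper3

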