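import Mathlib
import Cfsg.Agent.Lib.helper4.M11P
import Cfsg.Agent.Lib.helper4.FusNorm
import Cfsg.Agent.Lib.helper4.OutMatD

set_option autoImplicit false

/-!
Fast arithmetic with permutations of the 24 points, coded as single natural numbers (base 32):
composition, powers and word evaluation by shifts and masks, which the kernel evaluates quickly,
and their agreement with the permutations.
-/

namespace Cfsg.Agent.Lib.helper3

open Cfsg Cfsg.Agent.Lib.helper4 Cfsg.Agent.Lib.Helper12.Golay

/-- The indices `0, …, 23`. -/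
def idx24 : List ℕ :=
  [0, 1, 2, 3, 4, 5, 6, 7, 8, 9, 10, 11, 12, 13, 14, 15, 16, 17, 18, 19, 20, 21, 22, 23]

theorem idx24_eq : idx24 = List.range 24 := by decide

/-- The `i`-th base-32 digit of a code. -/
def getC (c i : ℕ) : ℕ := Nat.land (Nat.shiftRight c (Nat.mul 5 i)) 31

/-- Composition of two coded permutations. -/
def compC (A B : ℕ) : ℕ :=
  @List.rec ℕ (fun _ => ℕ) 0
    (fun i _ ih => Nat.add (getC A (getC B i)) (Nat.mul 32 ih)) idx24

/-- The code of the identity. -/
def idC : ℕ := 984818244535754528103549039458486304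

theorem idC_eq : idC = encT (List.range 24) := by decide +kernel

/-- Force a natural number to a value before passing it on (identity function). -/
def forceN {α : Type} (n : ℕ) (k : ℕ → α) : α :=
  match n with
  | 0 => k 0
  | m + 1 => k (m + 1)

theorem forceN_eq {α : Type} (n : ℕ) (k : ℕ → α) : forceN n k = k n := by
  cases n <;> rfl

/-- Powers of a coded permutation. -/
def powC (A : ℕ) : ℕ → ℕ
  | 0 => idC
  | n + 1 => forceN (powC A n) fun X => compC A X

theorem powC_succ (A n : ℕ) : powC A (n + 1) = compC A (powC A n) := forceN_eq _ _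

/-- Evaluate a word (0 for the first letter, anything else for the second) by right
multiplications, on codes. -/
def wEvalC (A B : ℕ) : List ℕ → ℕ → ℕ
  | [], acc => acc
  | 0 :: w, acc => forceN (compC acc A) fun X => wEvalC A B w X
  | (_ + 1) :: w, acc => forceN (compC acc B) fun X => wEvalC A B w X

/-- Evaluate a word by right multiplications in a monoid. -/
def wEval {G : Type*} [Monoid G] (a b : G) : List ℕ → G → G
  | [], acc => acc
  | 0 :: w, acc => wEval a b w (acc * a)
  | (_ + 1) :: w, acc => wEval a b w (acc * b)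

theorem wEval_mem {G : Type*} [Group G] (K : Subgroup G) {a b : G} (ha : a ∈ K) (hb : b ∈ K) :
    ∀ (w : List ℕ) (acc : G), acc ∈ K → wEval a b w acc ∈ K
  | [], acc, h => h
  | 0 :: w, acc, h => wEval_mem K ha hb w _ (K.mul_mem h ha)
  | (_ + 1) :: w, acc, h => wEval_mem K ha hb w _ (K.mul_mem h hb)

theorem getC_encT : ∀ (L : List ℕ), (∀ x ∈ L, x < 32) → ∀ i : ℕ, getC (encT L) i = L.getD i 0
  | [], _, i => by
    show Nat.land (Nat.shiftRight 0 _) 31 = _
    simp
  | a :: as, h, 0 => by
    have ha : a < 32 := h a List.mem_cons_self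
    show Nat.land (Nat.shiftRight (a + 32 * encT as) (5 * 0)) 31 = a
    have e : Nat.land (Nat.shiftRight (a + 32 * encT as) (5 * 0)) 31 =
        (a + 32 * encT as) % 2 ^ 5 := Nat.and_two_pow_sub_one_eq_mod _ 5
    rw [e]
    omega
  | a :: as, h, i + 1 => by
    have ha : a < 32 := h a List.mem_cons_self
    have ih := getC_encT as (fun x hx => h x (List.mem_cons_of_mem _ hx)) i
    show Nat.land (Nat.shiftRight (a + 32 * encT as) (5 * (i + 1))) 31 = as.getD i 0
    rw [← ih]
    show Nat.land ((a + 32 * encT as) >>> (5 * (i + 1))) 31 = Nat.land ((encT as) >>> (5 * i)) 31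
    have e : (a + 32 * encT as) >>> (5 * (i + 1)) = (encT as) >>> (5 * i) := by
      have e5 : (a + 32 * encT as) >>> 5 = encT as := by
        rw [Nat.shiftRight_eq_div_pow]
        omega
      rw [show 5 * (i + 1) = 5 + 5 * i by ring, Nat.shiftRight_add, e5]
    rw [e]

theorem compC_encT {L1 L2 : List ℕ} (h1 : ∀ x ∈ L1, x < 32) (h2 : ∀ x ∈ L2, x < 32) :
    compC (encT L1) (encT L2) = encT (compTbl L1 L2) := by
  have key : ∀ (I : List ℕ),
      @List.rec ℕ (fun _ => ℕ) 0
        (fun i _ ih => Nat.add (getC (encT L1) (getC (encT L2) i)) (Nat.mul 32 ih)) I =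
      encT (I.map fun i => L1.getD (L2.getD i 0) 0) := by
    intro I
    induction I with
    | nil => rfl
    | cons i I ih =>
      show Nat.add (getC (encT L1) (getC (encT L2) i)) (Nat.mul 32 _) = _
      rw [ih, getC_encT L2 h2, getC_encT L1 h1]
      rfl
  unfold compC compTbl
  rw [key, idx24_eq]

/-- The code of a permutation of the 24 points. -/
noncomputable def codeOf (g : Equiv.Perm GolayPt) : ℕ := encT (tblOf g)

theorem tblOf_lt32 (g : Equiv.Perm GolayPt) : ∀ x ∈ tblOf g, x < 32 :=
  fun x hx => lt_trans (tblOf_lt g x hx) (by norm_num)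

theorem codeOf_mul (g h : Equiv.Perm GolayPt) : codeOf (g * h) = compC (codeOf g) (codeOf h) := by
  unfold codeOf
  rw [tblOf_mul, compC_encT (tblOf_lt32 g) (tblOf_lt32 h)]

theorem codeOf_one : codeOf 1 = idC := by
  unfold codeOf
  rw [tblOf_one, idC_eq]

theorem codeOf_injective : Function.Injective codeOf := by
  intro g h hgh
  exact tblOf_injective (encT_inj_valid (tblOf_validT g) (tblOf_validT h) hgh)

theorem codeOf_fperm {T : List ℕ} (hv : ValidT T) : codeOf (fperm T) = encT T := by
  unfold codeOf
  rw [tblOf_fperm hv]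

theorem codeOf_pow (g : Equiv.Perm GolayPt) (n : ℕ) : codeOf (g ^ n) = powC (codeOf g) n := by
  induction n with
  | zero => rw [pow_zero, codeOf_one]; rfl
  | succ n ih => rw [pow_succ', codeOf_mul, ih, powC_succ]

theorem codeOf_wEval (a b : Equiv.Perm GolayPt) :
    ∀ (w : List ℕ) (acc : Equiv.Perm GolayPt),
      codeOf (wEval a b w acc) = wEvalC (codeOf a) (codeOf b) w (codeOf acc)
  | [], acc => rfl
  | 0 :: w, acc => by
    show codeOf (wEval a b w (acc * a)) = forceN _ _
    rw [forceN_eq, codeOf_wEval a b w, codeOf_mul]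
  | (_ + 1) :: w, acc => by
    show codeOf (wEval a b w (acc * b)) = forceN _ _
    rw [forceN_eq, codeOf_wEval a b w, codeOf_mul]

end Cfsg.Agent.Lib.helper3
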