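import Mathlib
import Cfsg.Agent.Lib.helper3.M22IdxData
import Cfsg.Agent.Lib.helper3.PermCode

set_option autoImplicit false

/-! The word certificates of `M22IdxData` all pass (checked on codes). -/

namespace Cfsg.Agent.Lib.helper3

open Cfsg.Agent.Lib.helper4 Cfsg.Agent.Lib.Helper12.Golay

/-- The word test on codes: the evaluated permutation has order 7. -/
def m22ChkC (r l w : List ℕ) : Bool :=
  forceN (compC (encT l) (encT r)) fun C =>
    forceN (wEvalC (encT gA11) C w idC) fun X => Nat.beq (powC X 7) idC && !Nat.beq X idC

set_option maxRecDepth 1000000 in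
theorem m22ChkC_all : ∀ i : Fin 61, ∀ j : Fin 60,
    m22ChkC (m22R.getD i.val []) (m22L.getD j.val []) ((m22W.getD i.val []).getD j.val []) = true := by
  decide +kernel

end Cfsg.Agent.Lib.helper3
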