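import Mathlib
import Cfsg.Agent.Lib.helper3.M22IdxChk
import Cfsg.Agent.Lib.helper4.M24Stab
import Cfsg.Agent.Lib.helper4.AutRigid
import Cfsg.Agent.Lib.helper4.SextetKerB
import Cfsg.Agent.Lib.helper4.M9B
import Cfsg.Agent.Lib.Helper12.Golay.Trans

set_option autoImplicit false

/-!
Subgroups of the two-point stabiliser in the group of the length-24 code whose order is divisible
by 11 and larger than 660 have order divisible by 7. Consequently there are no subgroups of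
index 56 or 210.
-/

namespace Cfsg.Agent.Lib.helper3

open Cfsg Cfsg.Agent.Lib.helper4 Cfsg.Agent.Lib.Helper12.Golay
open scoped Pointwise

/-- The subgroup of the group of the code fixing the points 0 and 2. -/
def m22Fix : Subgroup (Equiv.Perm GolayPt) where
  carrier := {g | g ∈ M24 ∧ g (pt 0) = pt 0 ∧ g (pt 2) = pt 2}
  mul_mem' := by
    rintro a b ⟨ha, ha0, ha2⟩ ⟨hb, hb0, hb2⟩
    refine ⟨M24.mul_mem ha hb, ?_, ?_⟩
    · rw [Equiv.Perm.mul_apply, hb0, ha0]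
    · rw [Equiv.Perm.mul_apply, hb2, ha2]
  one_mem' := ⟨M24.one_mem, rfl, rfl⟩
  inv_mem' := by
    rintro a ⟨ha, ha0, ha2⟩
    refine ⟨M24.inv_mem ha, ?_, ?_⟩
    · rw [Equiv.Perm.inv_eq_iff_eq, ha0]
    · rw [Equiv.Perm.inv_eq_iff_eq, ha2]

theorem mem_m22Fix {g : Equiv.Perm GolayPt} :
    g ∈ m22Fix ↔ g ∈ M24 ∧ g (pt 0) = pt 0 ∧ g (pt 2) = pt 2 := Iff.rfl

theorem pt_zero_ne_two : pt 0 ≠ pt 2 := by decide

theorem card_m22Fix : Nat.card m22Fix = 443520 := by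
  rw [← card_M22 (pt 0) (pt 2) pt_zero_ne_two]
  refine Nat.card_congr ⟨fun x => ⟨⟨x.1, (mem_m22Fix.mp x.2).1⟩,
      Subgroup.mem_inf.mpr ⟨MulAction.mem_stabilizer_iff.mpr (mem_m22Fix.mp x.2).2.1,
        MulAction.mem_stabilizer_iff.mpr (mem_m22Fix.mp x.2).2.2⟩⟩,
    fun y => ⟨y.1.1, y.1.2, MulAction.mem_stabilizer_iff.mp (Subgroup.mem_inf.mp y.2).1,
      MulAction.mem_stabilizer_iff.mp (Subgroup.mem_inf.mp y.2).2⟩, ?_, ?_⟩
  · intro x; rfl
  · intro y; rfl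

/-- The element of order 11. -/
noncomputable def m22g0 : Equiv.Perm GolayPt := fperm gA11

theorem m22g0_G660 : m22g0 ∈ G660 := (fperm_mem_G660 LQ660_checks.2.1).2

theorem gA11_valid : ValidT gA11 := okK_valid (fperm_mem_G660 LQ660_checks.2.1).1

theorem tblOf_m22g0 : tblOf m22g0 = gA11 := tblOf_fperm gA11_valid

theorem m22g0_mem_fix : m22g0 ∈ m22Fix := by
  obtain ⟨⟨hM, _, h0⟩, h2⟩ := m22g0_G660
  exact ⟨hM, h0, h2⟩

theorem m22g0_pow_eleven : m22g0 ^ 11 = 1 := by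
  apply tblOf_injective
  rw [tblOf_pow, tblOf_m22g0, m22Pw_eleven, tblOf_one]

theorem m22g0_ne_one : m22g0 ≠ 1 := by
  intro h
  have := congrArg tblOf h
  rw [tblOf_m22g0, tblOf_one] at this
  exact absurd this (by decide)

theorem orderOf_m22g0 : orderOf m22g0 = 11 := by
  have : Fact (Nat.Prime 11) := ⟨by norm_num⟩
  exact orderOf_eq_prime m22g0_pow_eleven m22g0_ne_one

/-- The representatives as permutations. -/
noncomputable def m22r (i : ℕ) : Equiv.Perm GolayPt := fperm (m22R.getD i [])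

/-- The coset representatives as permutations. -/
noncomputable def m22l (j : ℕ) : Equiv.Perm GolayPt := fperm (m22L.getD j [])

theorem m22R_valid {i : ℕ} (hi : i < 61) : ValidT (m22R.getD i []) :=
  okK_valid (m22R_ok ⟨i, hi⟩).1

theorem m22L_valid {j : ℕ} (hj : j < 60) : ValidT (m22L.getD j []) :=
  okK_valid (m22L_ok ⟨j, hj⟩)

theorem tblOf_m22r {i : ℕ} (hi : i < 61) : tblOf (m22r i) = m22R.getD i [] :=
  tblOf_fperm (m22R_valid hi)

theorem tblOf_m22l {j : ℕ} (hj : j < 60) : tblOf (m22l j) = m22L.getD j [] :=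
  tblOf_fperm (m22L_valid hj)

theorem m22r_mem_fix {i : ℕ} (hi : i < 61) : m22r i ∈ m22Fix := by
  obtain ⟨hok, h0, h2⟩ := m22R_ok ⟨i, hi⟩
  refine ⟨fperm_mem hok, ?_, ?_⟩
  · show fperm _ (pt 0) = pt 0
    rw [fperm_pt (okK_valid hok) (by norm_num), h0]
  · show fperm _ (pt 2) = pt 2
    rw [fperm_pt (okK_valid hok) (by norm_num), h2]

theorem fs_actK_tblOf (g : Equiv.Perm GolayPt) {m : ℕ} (hm : m < 2 ^ 24) :
    fs (actK (tblOf g) m) = g⁻¹ • fs m := by
  rw [← permT_tblOf, permT_smul_fs (tblOf_validT g) hm, ← actK_eq]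

theorem m22Pw_getD {a : ℕ} (ha : a < 11) : m22Pw.getD a [] = tblOf (m22g0 ^ a) := by
  rw [tblOf_pow, tblOf_m22g0, m22Pw_eq, List.getD_eq_getElem _ _ (by simpa using ha)]
  simp

theorem m22OrbL_length : m22OrbL.length = 671 := by decide +kernel

theorem pt_zero_mem_dd9 : pt 0 ∈ fs dd9 := by
  rw [mem_fs, idx_pt (by norm_num)]
  decide

theorem pt_two_not_mem_dd9 : pt 2 ∉ fs dd9 := by
  rw [mem_fs, idx_pt (by norm_num)]
  decide

/-- With the element of order 11 inside, an element moving the dodecad gives an element of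
order 7. -/
theorem m22_seven_of_move (K : Subgroup (Equiv.Perm GolayPt)) (hK : K ≤ m22Fix)
    (hg0 : m22g0 ∈ K) (h : Equiv.Perm GolayPt) (hh : h ∈ K) (hmove : h • fs dd9 ≠ fs dd9) :
    ∃ x ∈ K, x ^ 7 = 1 ∧ x ≠ 1 := by
  obtain ⟨hM, h0, h2⟩ := mem_m22Fix.mp (hK hh)
  have hdd : dd9 < 2 ^ 24 := dd9_checks.1
  obtain ⟨m, hm⟩ : ∃ m, m = actK (tblOf h) dd9 := ⟨_, rfl⟩
  have hmlt : m < 2 ^ 24 := hm ▸ actK_lt (tblOf_validT h) dd9
  have hfs : fs m = h⁻¹ • fs dd9 := by rw [hm, fs_actK_tblOf h hdd]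
  have hdod : fs m ∈ dodecads := by
    rw [hfs]; exact smul_mem_dodecads (M24.inv_mem hM) fs_dd9_mem
  have hmL : m ∈ dodL := by
    obtain ⟨m', hm', e⟩ := (dodL_complete _).mp hdod
    rwa [fs_inj (dodL_lt hm') hmlt e] at hm'
  have hb0 : m.testBit 0 = true := by
    have h1 : pt 0 ∈ fs m := by
      rw [hfs, Finset.mem_inv_smul_finset_iff]
      show h (pt 0) ∈ fs dd9
      rw [h0]; exact pt_zero_mem_dd9
    rwa [mem_fs, idx_pt (by norm_num)] at h1
  have hb2 : m.testBit 2 = false := by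
    have h1 : pt 2 ∉ fs m := by
      rw [hfs, Finset.mem_inv_smul_finset_iff]
      show h (pt 2) ∉ fs dd9
      rw [h2]; exact pt_two_not_mem_dd9
    rw [mem_fs, idx_pt (by norm_num)] at h1
    simpa using h1
  have hne : m ≠ dd9 := by
    intro e
    apply hmove
    rw [e] at hfs
    conv_lhs => rw [hfs]
    rw [smul_inv_smul]
  rcases m22_orb_cover m hmL hb0 hb2 with e | hmem
  · exact absurd e hne
  obtain ⟨n, hn, hnm⟩ := List.mem_iff_getElem.mp hmem
  rw [m22OrbL_length] at hn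
  have hi : n / 11 < 61 := by omega
  have ha : n % 11 < 11 := Nat.mod_lt _ (by norm_num)
  have hO := m22OrbL_eq ⟨n / 11, hi⟩ ⟨n % 11, ha⟩
  have hidx : 11 * (n / 11) + n % 11 = n := Nat.div_add_mod n 11
  simp only [hidx] at hO
  rw [List.getD_eq_getElem _ _ (by rw [m22OrbL_length]; exact hn), hnm, m22Pw_getD ha,
    ← tblOf_m22r hi] at hO
  have hfs2 : fs m = (m22g0 ^ (n % 11))⁻¹ • (m22r (n / 11))⁻¹ • fs dd9 := by
    rw [hO, fs_actK_tblOf _ (actK_lt (tblOf_validT _) dd9), fs_actK_tblOf _ hdd]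
  -- the element of the subgroup of order 660
  have hlin : h * (m22g0 ^ (n % 11))⁻¹ * (m22r (n / 11))⁻¹ ∈ G660 := by
    have hfix : h * (m22g0 ^ (n % 11))⁻¹ * (m22r (n / 11))⁻¹ ∈ m22Fix :=
      m22Fix.mul_mem (m22Fix.mul_mem (hK hh) (m22Fix.inv_mem (m22Fix.pow_mem m22g0_mem_fix _)))
        (m22Fix.inv_mem (m22r_mem_fix hi))
    obtain ⟨q1, q2, q3⟩ := mem_m22Fix.mp hfix
    refine ⟨⟨q1, ?_, q2⟩, q3⟩
    rw [mul_smul, mul_smul, ← hfs2, hfs, smul_inv_smul]
  have hT := tblOf_mem_L660 hlin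
  obtain ⟨k, hk, hkT⟩ := List.mem_iff_getElem.mp hT
  rw [L660_length] at hk
  obtain ⟨hb, hj, hL⟩ := m22Idx_ok ⟨k, hk⟩
  simp only at hb hj hL
  rw [List.getD_eq_getElem _ _ (by rw [L660_length]; exact hk), hkT, m22Pw_getD hb,
    ← tblOf_m22l hj, ← tblOf_mul] at hL
  have hL' := tblOf_injective hL
  -- the product of the two representatives lies in the subgroup
  have hc : m22l (m22Idx.getD k (0, 0)).2 * m22r (n / 11) ∈ K := by
    have e : m22l (m22Idx.getD k (0, 0)).2 * m22r (n / 11) =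
        (m22g0 ^ (m22Idx.getD k (0, 0)).1)⁻¹ * h * (m22g0 ^ (n % 11))⁻¹ := by
      have e1 : m22l (m22Idx.getD k (0, 0)).2 = (m22g0 ^ (m22Idx.getD k (0, 0)).1)⁻¹ *
          (h * (m22g0 ^ (n % 11))⁻¹ * (m22r (n / 11))⁻¹) := by
        rw [hL']; group
      rw [e1]; group
    rw [e]
    exact K.mul_mem (K.mul_mem (K.inv_mem (K.pow_mem hg0 _)) hh) (K.inv_mem (K.pow_mem hg0 _))
  have hchk := m22ChkC_all ⟨n / 11, hi⟩ ⟨(m22Idx.getD k (0, 0)).2, hj⟩
  simp only [m22ChkC, forceN_eq, Bool.and_eq_true, Bool.not_eq_true', ← codeOf_fperm gA11_valid,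
    ← codeOf_fperm (m22R_valid hi), ← codeOf_fperm (m22L_valid hj), ← codeOf_mul,
    ← codeOf_one] at hchk
  rw [← codeOf_wEval, ← codeOf_pow] at hchk
  obtain ⟨c1, c2⟩ := hchk
  refine ⟨wEval m22g0 (m22l (m22Idx.getD k (0, 0)).2 * m22r (n / 11))
    ((m22W.getD (n / 11) []).getD (m22Idx.getD k (0, 0)).2 []) 1,
    wEval_mem K hg0 hc _ _ K.one_mem, ?_, ?_⟩
  · exact codeOf_injective (Nat.eq_of_beq_eq_true c1)
  · intro e
    exact Nat.ne_of_beq_eq_false c2 (congrArg codeOf e)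

/-- A subgroup fixing the dodecad has order at most 660. -/
theorem m22_card_le_of_fix (K : Subgroup (Equiv.Perm GolayPt)) (hK : K ≤ m22Fix)
    (hfix : ∀ h ∈ K, h • fs dd9 = fs dd9) : Nat.card K ≤ 660 := by
  have hmem : ∀ k : K, tblOf k.1 ∈ L660 := fun k => by
    obtain ⟨q1, q2, q3⟩ := mem_m22Fix.mp (hK k.2)
    exact tblOf_mem_L660 ⟨⟨q1, hfix k.1 k.2, q2⟩, q3⟩
  have hinj : Function.Injective (fun k : K => (⟨L660.idxOf (tblOf k.1), by
      rw [← L660_length]; exact List.idxOf_lt_length_of_mem (hmem k)⟩ : Fin 660)) := by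
    intro a b hab
    have h1 := congrArg Fin.val hab
    simp only at h1
    have h2 := (List.idxOf_inj (hmem a)).mp h1
    exact Subtype.ext (tblOf_injective h2)
  have := Nat.card_le_card_of_injective _ hinj
  simpa using this

theorem seven_dvd_of_elt {K : Subgroup (Equiv.Perm GolayPt)} {y : Equiv.Perm GolayPt} (hy : y ∈ K)
    (h7 : y ^ 7 = 1) (h1 : y ≠ 1) : 7 ∣ Nat.card K := by
  have : Fact (Nat.Prime 7) := ⟨by norm_num⟩
  have ho : orderOf y = 7 := orderOf_eq_prime h7 h1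
  have := orderOf_dvd_natCard (⟨y, hy⟩ : K)
  rwa [Subgroup.orderOf_mk, ho] at this

/-- The main step: order divisible by 11 and larger than 660 forces divisibility by 7. -/
theorem m22_seven_dvd (K : Subgroup (Equiv.Perm GolayPt)) (hK : K ≤ m22Fix)
    (h11 : 11 ∣ Nat.card K) (hbig : 660 < Nat.card K) : 7 ∣ Nat.card K := by
  have : Fact (Nat.Prime 11) := ⟨by norm_num⟩
  obtain ⟨x, hx⟩ := exists_prime_orderOf_dvd_card' 11 h11
  have hp2 : ¬ 11 ^ 2 ∣ Nat.card m22Fix := by rw [card_m22Fix]; norm_num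
  obtain ⟨g, k, hgk⟩ := exists_conj_pow_of_orderOf_prime 11 hp2
    (⟨x.1, hK x.2⟩ : m22Fix) ⟨m22g0, m22g0_mem_fix⟩
    (by rw [Subgroup.orderOf_mk, Subgroup.orderOf_coe, hx])
    (by rw [Subgroup.orderOf_mk, orderOf_m22g0])
  have hgk' : m22g0 = g.1 * x.1 ^ k * g.1⁻¹ := congrArg Subtype.val hgk
  have hinj : Function.Injective (MulAut.conj g.1).toMonoidHom := (MulAut.conj g.1).injective
  have hcard : Nat.card (K.map (MulAut.conj g.1).toMonoidHom) = Nat.card K :=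
    Nat.card_congr (K.equivMapOfInjective _ hinj).toEquiv.symm
  have hK' : K.map (MulAut.conj g.1).toMonoidHom ≤ m22Fix := by
    rintro y ⟨z, hz, rfl⟩
    show g.1 * z * g.1⁻¹ ∈ m22Fix
    exact m22Fix.mul_mem (m22Fix.mul_mem g.2 (hK hz)) (m22Fix.inv_mem g.2)
  have hg0 : m22g0 ∈ K.map (MulAut.conj g.1).toMonoidHom :=
    ⟨x.1 ^ k, K.pow_mem x.2 k, hgk'.symm⟩
  by_contra h7
  have hfix : ∀ h ∈ K.map (MulAut.conj g.1).toMonoidHom, h • fs dd9 = fs dd9 := by
    intro h hh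
    by_contra hm
    obtain ⟨y, hy, hy7, hy1⟩ := m22_seven_of_move _ hK' hg0 h hh hm
    exact h7 (hcard ▸ seven_dvd_of_elt hy hy7 hy1)
  have := m22_card_le_of_fix _ hK' hfix
  omega

/-- The two-point stabiliser has no subgroups of index 56 or 210. -/
theorem m22_no_index (p q : GolayPt) (hpq : p ≠ q)
    (H : Subgroup ↥(MulAction.stabilizer M24 p ⊓ MulAction.stabilizer M24 q)) :
    H.index ≠ 56 ∧ H.index ≠ 210 := by
  obtain ⟨t, ht0, ht2⟩ := two_trans (pt 0) (pt 2) p q pt_zero_ne_two hpq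
  have ht0' : t.1 (pt 0) = p := ht0
  have ht2' : t.1 (pt 2) = q := ht2
  let f : ↥(MulAction.stabilizer M24 p ⊓ MulAction.stabilizer M24 q) →* Equiv.Perm GolayPt :=
    ((MulAut.conj (t.1)⁻¹).toMonoidHom.comp M24.subtype).comp
      (MulAction.stabilizer M24 p ⊓ MulAction.stabilizer M24 q).subtype
  have hf : Function.Injective f := by
    intro a b hab
    have h1 : (MulAut.conj (t.1)⁻¹) a.1.1 = (MulAut.conj (t.1)⁻¹) b.1.1 := hab
    exact Subtype.ext (Subtype.ext ((MulAut.conj (t.1)⁻¹).injective h1))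
  have hcard : Nat.card (H.map f) = Nat.card H :=
    Nat.card_congr (H.equivMapOfInjective f hf).toEquiv.symm
  have hK : H.map f ≤ m22Fix := by
    rintro y ⟨x, hx, rfl⟩
    have hxp : x.1.1 p = p := MulAction.mem_stabilizer_iff.mp (Subgroup.mem_inf.mp x.2).1
    have hxq : x.1.1 q = q := MulAction.mem_stabilizer_iff.mp (Subgroup.mem_inf.mp x.2).2
    show (t.1)⁻¹ * x.1.1 * ((t.1)⁻¹)⁻¹ ∈ m22Fix
    rw [inv_inv]
    refine ⟨M24.mul_mem (M24.mul_mem (M24.inv_mem t.2) x.1.2) t.2, ?_, ?_⟩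
    · rw [Equiv.Perm.mul_apply, Equiv.Perm.mul_apply, ht0', hxp, Equiv.Perm.inv_eq_iff_eq, ht0']
    · rw [Equiv.Perm.mul_apply, Equiv.Perm.mul_apply, ht2', hxq, Equiv.Perm.inv_eq_iff_eq, ht2']
  have hmul := H.card_mul_index
  rw [card_M22 p q hpq] at hmul
  constructor
  · intro h56
    rw [h56] at hmul
    have hH : Nat.card H = 7920 := by omega
    have := m22_seven_dvd (H.map f) hK (by rw [hcard, hH]; norm_num) (by rw [hcard, hH]; norm_num)
    rw [hcard, hH] at this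
    omega
  · intro h210
    rw [h210] at hmul
    have hH : Nat.card H = 2112 := by omega
    have := m22_seven_dvd (H.map f) hK (by rw [hcard, hH]; norm_num) (by rw [hcard, hH]; norm_num)
    rw [hcard, hH] at this
    omega

end Cfsg.Agent.Lib.helper3
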