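import Mathlib
import Cfsg.Agent.Lib.Helper12.Golay.OctadStab
import Cfsg.Agent.Lib.Helper12.Golay.Flags
import Cfsg.Agent.Lib.Helper12.Golay.Trans
import Cfsg.Agent.Lib.helper4.M24Stab
import Cfsg.Agent.Lib.helper3.GolayCard
import Cfsg.Agent.Lib.helper3.GolaySteiner

set_option autoImplicit false

/-!
Subgroups of index 253 in a point stabiliser of the group of the length-24 code: the pointwise
stabiliser of an octad through the point is a 2-group, hence conjugate into such a subgroup; this
forces an orbit of length at least 16, and an element of order 7 (which fixes at most four points)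
leaves only the orbit lengths 16 and 21.
-/

namespace Cfsg.Agent.Lib.helper3

open Cfsg Cfsg.Agent.Lib.helper4 Cfsg.Agent.Lib.Helper12.Golay
open scoped Pointwise

/-- A `p`-subgroup is conjugate into any subgroup whose order has the full `p`-part. -/
theorem exists_conj_mem_of_pgroup {G : Type*} [Group G] [Finite G] (p n : ℕ) [hp : Fact p.Prime]
    (H P : Subgroup G) (hP : IsPGroup p P) (hH : p ^ n ∣ Nat.card H)
    (hG : ¬ p ^ (n + 1) ∣ Nat.card G) : ∃ g : G, ∀ e ∈ P, g * e * g⁻¹ ∈ H := by
  obtain ⟨Q', hQ'⟩ := Sylow.exists_subgroup_card_pow_prime p hH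
  have hQcard : Nat.card (Q'.map H.subtype) = p ^ n := by
    rw [Subgroup.card_map_of_injective H.subtype_injective]; exact hQ'
  have hGne : Nat.card G ≠ 0 := Nat.card_pos.ne'
  have hfac : (Nat.card G).factorization p = n := by
    have h1 : p ^ n ∣ Nat.card G := hH.trans (Subgroup.card_subgroup_dvd_card H)
    have h2 := (hp.out.pow_dvd_iff_le_factorization hGne).1 h1
    have h3 : ¬ (n + 1 ≤ (Nat.card G).factorization p) := fun h =>
      hG ((hp.out.pow_dvd_iff_le_factorization hGne).2 h)
    omega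
  let S : Sylow p G := Sylow.ofCard (Q'.map H.subtype) (by rw [hQcard, hfac])
  obtain ⟨R, hR⟩ := hP.exists_le_sylow
  obtain ⟨g, hg⟩ := MulAction.exists_smul_eq G R S
  refine ⟨g, fun e he => ?_⟩
  have h1 : MulAut.conj g • e ∈ MulAut.conj g • (R : Subgroup G) :=
    Subgroup.smul_mem_pointwise_smul _ _ _ (hR he)
  rw [← Sylow.coe_subgroup_smul, hg] at h1
  have h2 : MulAut.conj g • e ∈ Q'.map H.subtype := h1
  obtain ⟨q, _, hq⟩ := Subgroup.mem_map.1 h2
  have h3 : g * e * g⁻¹ = MulAut.conj g • e := rfl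
  rw [h3, ← hq]
  exact q.2

/-- An element of order 7 of the group of the code fixes at most four points. -/
theorem card_fixed_le_four_of_order_seven {h : Equiv.Perm GolayPt} (hh : h ∈ M24)
    (h7 : orderOf h = 7) : (Finset.univ.filter fun q => h q = q).card ≤ 4 := by
  by_contra hcon
  have h5 : 5 ≤ (Finset.univ.filter fun q => h q = q).card := by omega
  obtain ⟨t, ht, htc⟩ := Finset.exists_subset_card_eq h5
  let e : Fin 5 ↪ GolayPt :=
    (t.equivFinOfCardEq htc).symm.toEmbedding.trans (Function.Embedding.subtype _)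
  have hmem := (mem_stabilizer_emb_iff (G := M24) e ⟨h, hh⟩).2 (fun i => by
    have h1 : e i ∈ t := ((t.equivFinOfCardEq htc).symm i).2
    have h2 := ht h1
    rw [Finset.mem_filter] at h2
    exact h2.2)
  have hc := card_stabilizer_emb_mul_card (G := M24) 5 e
  rw [card_emb_golayPt, card_M24] at hc
  have hd : Nat.descFactorial 24 5 = 5100480 := by decide
  rw [hd] at hc
  have h48 := Nat.eq_of_mul_eq_mul_right (by norm_num) (hc.trans (by norm_num : 244823040 = 48 * 5100480))
  have ho : orderOf (Subtype.mk (⟨h, hh⟩ : M24) hmem) = 7 := by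
    rw [← h7, ← Subgroup.orderOf_coe, ← Subgroup.orderOf_coe]
  have hdvd := orderOf_dvd_natCard (Subtype.mk (⟨h, hh⟩ : M24) hmem)
  rw [ho, h48] at hdvd
  omega

/-- Fixed points of a permutation of prime-power order on an invariant set. -/
theorem card_modEq_card_filter_fixed {α : Type*} [Fintype α] [DecidableEq α] (p : ℕ)
    [hp : Fact p.Prime] (h : Equiv.Perm α) (hh : h ^ p = 1) (D : Finset α)
    (hD : ∀ q, h q ∈ D ↔ q ∈ D) : D.card ≡ (D.filter fun q => h q = q).card [MOD p] := by
  let σ : Equiv.Perm {q // q ∈ D} := h.subtypePerm hD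
  have hσ : σ ^ p ^ 1 = 1 := by
    rw [pow_one]
    ext q
    have : ((σ ^ p) q : α) = (h ^ p) q.1 := by
      rw [Equiv.Perm.subtypePerm_pow]
      rfl
    rw [this, hh]
    rfl
  have h1 := Equiv.Perm.card_compl_support_modEq hσ
  rw [Fintype.card_coe] at h1
  have h2 : (σ.supportᶜ).card = (D.filter fun q => h q = q).card := by
    apply Finset.card_bij (fun q _ => q.1)
    · intro q hq
      rw [Finset.mem_compl, Equiv.Perm.mem_support, not_not] at hq
      rw [Finset.mem_filter]
      refine ⟨q.2, ?_⟩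
      have := congrArg Subtype.val hq
      exact this
    · intro a _ b _ hab
      exact Subtype.ext hab
    · intro b hb
      rw [Finset.mem_filter] at hb
      refine ⟨⟨b, hb.1⟩, ?_, rfl⟩
      rw [Finset.mem_compl, Equiv.Perm.mem_support, not_not]
      exact Subtype.ext hb.2
  rw [h2] at h1
  exact h1.symm

/-- The orbit dichotomy: a subgroup of order 40320 of a point stabiliser containing the pointwise
stabiliser of an octad through the point stabilises that octad or a pair of points. -/
theorem m23_orbit_main (x : GolayPt) (K : Subgroup (Equiv.Perm GolayPt)) (hK24 : K ≤ M24)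
    (hKx : ∀ k ∈ K, k x = x) (hcard : Nat.card K = 40320) (o : Finset GolayPt) (ho : o ∈ octads)
    (hxo : x ∈ o) (hE : ∀ e ∈ M24, (∀ y ∈ o, e y = y) → e ∈ K) :
    (∃ s : Finset GolayPt, s.card = 2 ∧ x ∉ s ∧ ∀ k ∈ K, ∀ q, k q ∈ s ↔ q ∈ s) ∨
      (∀ k ∈ K, ∀ q, k q ∈ o ↔ q ∈ o) := by
  classical
  obtain ⟨p₀, hp₀, htr⟩ := exists_fixing o ho
  let Δ : Finset GolayPt := Finset.univ.filter (fun q => ∃ k ∈ K, k p₀ = q)
  have hΔmem : ∀ q, q ∈ Δ ↔ ∃ k ∈ K, k p₀ = q := fun q => by
    simp only [Δ, Finset.mem_filter, Finset.mem_univ, true_and]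
  have hinv : ∀ k ∈ K, ∀ q, k q ∈ Δ ↔ q ∈ Δ := by
    intro k hk q
    rw [hΔmem, hΔmem]
    constructor
    · rintro ⟨k', hk', h⟩
      exact ⟨k⁻¹ * k', K.mul_mem (K.inv_mem hk) hk', by
        rw [Equiv.Perm.mul_apply, h]; exact perm_inv_apply k q⟩
    · rintro ⟨k', hk', h⟩
      exact ⟨k * k', K.mul_mem hk hk', by rw [Equiv.Perm.mul_apply, h]⟩
  have hsub : oᶜ ⊆ Δ := by
    intro q hq
    rw [Finset.mem_compl] at hq
    obtain ⟨g, hg, hfix, hgq⟩ := htr q hq
    exact (hΔmem q).2 ⟨g, hE g hg hfix, hgq⟩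
  have hxΔ : x ∉ Δ := by
    rw [hΔmem]
    rintro ⟨k, hk, h⟩
    have h1 : p₀ = x := k.injective (h.trans (hKx k hk).symm)
    exact hp₀ (h1 ▸ hxo)
  have h16 : 16 ≤ Δ.card := by
    rw [← card_compl_octad o ho]
    exact Finset.card_le_card hsub
  have h23 : Δ.card ≤ 23 := by
    have h1 : Δ.card < (Finset.univ : Finset GolayPt).card :=
      Finset.card_lt_card ⟨Finset.subset_univ _, fun h => hxΔ (h (Finset.mem_univ x))⟩
    rw [Finset.card_univ, Fintype.card_option, ZMod.card] at h1
    omega
  have hdvd : Δ.card ∣ 40320 := by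
    rw [← hcard]
    have h1 := card_eq_orbit_mul K (K ⊓ MulAction.stabilizer (Equiv.Perm GolayPt) p₀) p₀
      (fun g => by rw [Subgroup.mem_inf, MulAction.mem_stabilizer_iff]; rfl)
    have h2 : Nat.card (MulAction.orbit K p₀) = Δ.card := by
      have : MulAction.orbit K p₀ = (Δ : Set GolayPt) := by
        ext q
        rw [Finset.mem_coe, hΔmem]
        constructor
        · rintro ⟨k, rfl⟩
          exact ⟨k.1, k.2, rfl⟩
        · rintro ⟨k, hk, rfl⟩
          exact ⟨⟨k, hk⟩, rfl⟩
      rw [this, Nat.card_coe_set_eq, Set.ncard_coe_finset]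
    rw [h1, h2]
    exact Dvd.intro _ rfl
  have h7dvd : 7 ∣ Nat.card K := by rw [hcard]; norm_num
  haveI : Fact (Nat.Prime 7) := ⟨by norm_num⟩
  obtain ⟨k7, hk7⟩ := exists_prime_orderOf_dvd_card' 7 h7dvd
  have hord : orderOf (k7 : Equiv.Perm GolayPt) = 7 := by rw [Subgroup.orderOf_coe]; exact hk7
  have hF := card_fixed_le_four_of_order_seven (hK24 k7.2) hord
  have hFΔ : (Δ.filter fun q => (k7 : Equiv.Perm GolayPt) q = q).card ≤ 3 := by
    have hsub' : (Δ.filter fun q => (k7 : Equiv.Perm GolayPt) q = q) ⊆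
        (Finset.univ.filter fun q => (k7 : Equiv.Perm GolayPt) q = q).erase x := by
      intro q hq
      rw [Finset.mem_filter] at hq
      rw [Finset.mem_erase, Finset.mem_filter]
      exact ⟨fun h => hxΔ (h ▸ hq.1), Finset.mem_univ _, hq.2⟩
    have h1 := Finset.card_le_card hsub'
    rw [Finset.card_erase_of_mem (by
      rw [Finset.mem_filter]; exact ⟨Finset.mem_univ _, hKx _ k7.2⟩)] at h1
    omega
  have hmod := card_modEq_card_filter_fixed 7 (k7 : Equiv.Perm GolayPt)
    (by rw [← hord]; exact pow_orderOf_eq_one _) Δ (hinv _ k7.2)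
  have hcases : Δ.card = 16 ∨ Δ.card = 21 := by
    unfold Nat.ModEq at hmod
    generalize (Δ.filter fun q => (k7 : Equiv.Perm GolayPt) q = q).card = f at hmod hFΔ
    generalize Δ.card = n at hmod h16 h23 hdvd
    interval_cases n
    · left; rfl
    · exfalso; revert hdvd; decide
    · exfalso; omega
    · exfalso; revert hdvd; decide
    · exfalso; omega
    · right; rfl
    · exfalso; revert hdvd; decide
    · exfalso; revert hdvd; decide
  rcases hcases with h | h
  · right
    have hΔeq : oᶜ = Δ :=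
      Finset.eq_of_subset_of_card_le hsub (by rw [card_compl_octad o ho, h])
    intro k hk q
    have := hinv k hk q
    rw [← hΔeq, Finset.mem_compl, Finset.mem_compl] at this
    exact not_iff_not.1 this
  · left
    refine ⟨(insert x Δ)ᶜ, ?_, ?_, ?_⟩
    · rw [Finset.card_compl, Finset.card_insert_of_notMem hxΔ, h, Fintype.card_option, ZMod.card]
    · rw [Finset.mem_compl, not_not]
      exact Finset.mem_insert_self _ _
    · intro k hk q
      rw [Finset.mem_compl, Finset.mem_compl, Finset.mem_insert, Finset.mem_insert,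
        hinv k hk q]
      have : k q = x ↔ q = x := by
        constructor
        · intro h1
          exact k.injective (h1.trans (hKx k hk).symm)
        · intro h1
          rw [h1, hKx k hk]
      rw [this]

/-- The stabiliser, in the group of the code, of a point and a set of points. -/
def m23Stab (x : GolayPt) (s : Finset GolayPt) : Subgroup (Equiv.Perm GolayPt) where
  carrier := {g | g ∈ M24 ∧ g x = x ∧ ∀ q, g q ∈ s ↔ q ∈ s}
  one_mem' := ⟨M24.one_mem, rfl, fun _ => Iff.rfl⟩
  mul_mem' := by
    rintro a b ⟨ha, hax, has⟩ ⟨hb, hbx, hbs⟩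
    refine ⟨M24.mul_mem ha hb, ?_, fun q => ?_⟩
    · rw [Equiv.Perm.mul_apply, hbx, hax]
    · rw [Equiv.Perm.mul_apply, has, hbs]
  inv_mem' := by
    rintro a ⟨ha, hax, has⟩
    refine ⟨M24.inv_mem ha, ?_, fun q => ?_⟩
    · rw [Equiv.Perm.inv_eq_iff_eq, hax]
    · have := has (a⁻¹ q)
      rw [perm_apply_inv] at this
      exact this.symm

theorem mem_m23Stab {x : GolayPt} {s : Finset GolayPt} {g : Equiv.Perm GolayPt} :
    g ∈ m23Stab x s ↔ g ∈ M24 ∧ g x = x ∧ ∀ q, g q ∈ s ↔ q ∈ s := Iff.rfl

/-- The stabiliser of a point and an octad through it has order 40320. -/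
theorem card_m23Stab_octad (x : GolayPt) (o : Finset GolayPt) (ho : o ∈ octads) (hxo : x ∈ o) :
    Nat.card (m23Stab x o) = 40320 := by
  have h1 := card_eq_orbit_mul (octStab o) (m23Stab x o) x (fun g => by
    rw [mem_m23Stab]
    unfold octStab
    rw [Subgroup.mem_inf, mem_stab_iff]
    tauto)
  have h2 : Nat.card (MulAction.orbit (octStab o) x) = 8 := by
    have : MulAction.orbit (octStab o) x = (o : Set GolayPt) := by
      ext y
      rw [Finset.mem_coe]
      constructor
      · rintro ⟨g, rfl⟩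
        have := (mem_stab_iff g.1 o).1 g.2.2 x
        exact this.2 hxo
      · intro hy
        obtain ⟨k₁, hk₁⟩ := flag_in o ho x hxo
        obtain ⟨k₂, hk₂⟩ := flag_in o ho y hy
        have h : (k₂ * k₁⁻¹) • ((o, x) : Finset GolayPt × GolayPt) = (o, y) := by
          rw [mul_smul, ← hk₁, inv_smul_smul, hk₂]
        rw [Prod.smul_mk, Prod.mk.injEq] at h
        refine ⟨⟨(k₂ * k₁⁻¹ : M24), (k₂ * k₁⁻¹ : M24).2, ?_⟩, h.2⟩
        exact MulAction.mem_stabilizer_iff.2 h.1
    rw [this, Nat.card_coe_set_eq, Set.ncard_coe_finset]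
    exact ho.2
  rw [card_octStab o ho, h2] at h1
  omega

/-- The stabiliser of a point and a pair of other points has order at most 40320. -/
theorem card_m23Stab_pair (x : GolayPt) (s : Finset GolayPt) (hs : s.card = 2) (hxs : x ∉ s) :
    Nat.card (m23Stab x s) ≤ 40320 := by
  classical
  obtain ⟨a, b, hab, rfl⟩ := Finset.card_eq_two.1 hs
  have hxa : x ≠ a := fun h => hxs (h ▸ Finset.mem_insert_self _ _)
  have hxb : x ≠ b := fun h => hxs (h ▸ Finset.mem_insert_of_mem (Finset.mem_singleton_self _))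
  let P3 : Subgroup (Equiv.Perm GolayPt) :=
    m23Stab x {a, b} ⊓ MulAction.stabilizer (Equiv.Perm GolayPt) a
  have h1 := card_eq_orbit_mul (m23Stab x {a, b}) P3 a (fun g => by
    rw [Subgroup.mem_inf, MulAction.mem_stabilizer_iff]; rfl)
  have h2 : Nat.card (MulAction.orbit (m23Stab x {a, b}) a) ≤ 2 := by
    have hsub : MulAction.orbit (m23Stab x {a, b}) a ⊆ (({a, b} : Finset GolayPt) : Set GolayPt) := by
      rintro y ⟨g, rfl⟩
      rw [Finset.mem_coe]
      exact (g.2.2.2 a).2 (Finset.mem_insert_self _ _)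
    have := Set.ncard_le_ncard hsub (Finset.finite_toSet _)
    rw [Set.ncard_coe_finset, hs] at this
    rw [Nat.card_coe_set_eq]
    exact this
  have h3 : Nat.card P3 ≤ 20160 := by
    let e : Fin 3 ↪ GolayPt := ⟨![x, a, b], by
      intro i j hij
      fin_cases i <;> fin_cases j <;> simp_all [Ne.symm]⟩
    haveI := M24_pretrans_le 3 (by norm_num)
    have hc := card_stabilizer_emb_mul_card (G := M24) 3 e
    rw [card_emb_golayPt, card_M24] at hc
    have hd : Nat.descFactorial 24 3 = 12144 := by decide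
    rw [hd] at hc
    have h20160 := Nat.eq_of_mul_eq_mul_right (by norm_num)
      (hc.trans (by norm_num : 244823040 = 20160 * 12144))
    rw [← h20160]
    have hfix : ∀ g : P3, ∀ i, (⟨g.1, g.2.1.1⟩ : M24) • e i = e i := by
      intro g i
      have hga : g.1 a = a := g.2.2
      have hgx : g.1 x = x := g.2.1.2.1
      have hgb : g.1 b = b := by
        have h4 := (g.2.1.2.2 b).2 (Finset.mem_insert_of_mem (Finset.mem_singleton_self _))
        rw [Finset.mem_insert, Finset.mem_singleton] at h4
        rcases h4 with h4 | h4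
        · exact absurd (g.1.injective (h4.trans hga.symm)) (Ne.symm hab)
        · exact h4
      fin_cases i
      · exact hgx
      · exact hga
      · exact hgb
    apply Nat.card_le_card_of_injective
      (fun g : P3 => Subtype.mk (⟨g.1, g.2.1.1⟩ : M24)
        ((mem_stabilizer_emb_iff (G := M24) e _).2 (hfix g)))
    intro g g' h
    apply Subtype.ext
    have := congrArg (fun z => ((z.1 : M24) : Equiv.Perm GolayPt)) h
    exact this
  rw [h1]
  calc Nat.card (MulAction.orbit (m23Stab x {a, b}) a) * Nat.card P3 ≤ 2 * 20160 :=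
        Nat.mul_le_mul h2 h3
    _ = 40320 := by norm_num

/-- A subgroup of a point stabiliser that stabilises a set and is at least as large as the full
stabiliser of the point and the set equals that stabiliser. -/
theorem m23_eq_subgroupOf (x : GolayPt) (H : Subgroup ↥(MulAction.stabilizer M24 x))
    (s : Finset GolayPt)
    (hinv : ∀ h ∈ H, ∀ q, ((h : M24) : Equiv.Perm GolayPt) q ∈ s ↔ q ∈ s)
    (hcard : Nat.card (m23Stab x s) ≤ Nat.card H) :
    H = (MulAction.stabilizer M24 s).subgroupOf (MulAction.stabilizer M24 x) := by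
  apply Subgroup.eq_of_le_of_card_ge
  · intro h hh
    rw [Subgroup.mem_subgroupOf]
    exact MulAction.mem_stabilizer_iff.2
      (MulAction.mem_stabilizer_iff.1 ((mem_stab_iff _ s).2 (hinv h hh)))
  · refine le_trans ?_ hcard
    apply Nat.card_le_card_of_injective
      (fun g : (MulAction.stabilizer M24 s).subgroupOf (MulAction.stabilizer M24 x) =>
        (⟨((g.1 : MulAction.stabilizer M24 x) : M24).1,
          ((g.1 : MulAction.stabilizer M24 x) : M24).2,
          MulAction.mem_stabilizer_iff.1 g.1.2,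
          (mem_stab_iff _ s).1 (MulAction.mem_stabilizer_iff.2
            (MulAction.mem_stabilizer_iff.1 (Subgroup.mem_subgroupOf.1 g.2)))⟩ : m23Stab x s))
    intro g g' h
    apply Subtype.ext
    apply Subtype.ext
    apply Subtype.ext
    exact congrArg (fun z : m23Stab x s => (z.1 : Equiv.Perm GolayPt)) h

end Cfsg.Agent.Lib.helper3
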