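import Mathlib
import Cfsg.Agent.Lib.helper3.M23Idx

set_option autoImplicit false

/-!
Tools for the determination of the subgroups of small index in the group of the length-24 code:
orbits as finite sets, fixed points of elements of prime order, bounds for the orders of setwise
stabilisers of small sets, and the impossibility of subgroups of small index in simple groups.
-/

namespace Cfsg.Agent.Lib.helper3

open Cfsg Cfsg.Agent.Lib.helper4 Cfsg.Agent.Lib.Helper12.Golay
open scoped Pointwise

/-! ### orbits -/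

/-- The stabiliser of a point in a permutation group. -/
def pstab (K : Subgroup (Equiv.Perm GolayPt)) (x : GolayPt) : Subgroup (Equiv.Perm GolayPt) :=
  K ⊓ MulAction.stabilizer (Equiv.Perm GolayPt) x

theorem mem_pstab {K : Subgroup (Equiv.Perm GolayPt)} {x : GolayPt} {g : Equiv.Perm GolayPt} :
    g ∈ pstab K x ↔ g ∈ K ∧ g x = x := by
  unfold pstab
  rw [Subgroup.mem_inf, MulAction.mem_stabilizer_iff]
  rfl

theorem pstab_le (K : Subgroup (Equiv.Perm GolayPt)) (x : GolayPt) : pstab K x ≤ K := inf_le_left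

open Classical in
/-- The orbit of a point as a finite set. -/
noncomputable def orbF (K : Subgroup (Equiv.Perm GolayPt)) (p : GolayPt) : Finset GolayPt :=
  Finset.univ.filter (fun q => ∃ k ∈ K, k p = q)

theorem mem_orbF {K : Subgroup (Equiv.Perm GolayPt)} {p q : GolayPt} :
    q ∈ orbF K p ↔ ∃ k ∈ K, k p = q := by
  unfold orbF
  simp only [Finset.mem_filter, Finset.mem_univ, true_and]

theorem self_mem_orbF (K : Subgroup (Equiv.Perm GolayPt)) (p : GolayPt) : p ∈ orbF K p :=
  mem_orbF.2 ⟨1, K.one_mem, rfl⟩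

theorem orbF_inv {K : Subgroup (Equiv.Perm GolayPt)} {p : GolayPt} {k : Equiv.Perm GolayPt}
    (hk : k ∈ K) (q : GolayPt) : k q ∈ orbF K p ↔ q ∈ orbF K p := by
  rw [mem_orbF, mem_orbF]
  constructor
  · rintro ⟨k', hk', h⟩
    exact ⟨k⁻¹ * k', K.mul_mem (K.inv_mem hk) hk', by
      rw [Equiv.Perm.mul_apply, h]; exact perm_inv_apply k q⟩
  · rintro ⟨k', hk', h⟩
    exact ⟨k * k', K.mul_mem hk hk', by rw [Equiv.Perm.mul_apply, h]⟩

theorem card_orbF_mul (K : Subgroup (Equiv.Perm GolayPt)) (p : GolayPt) :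
    Nat.card K = (orbF K p).card * Nat.card (pstab K p) := by
  have h1 := card_eq_orbit_mul K (pstab K p) p (fun g => mem_pstab)
  have h2 : Nat.card (MulAction.orbit K p) = (orbF K p).card := by
    have : MulAction.orbit K p = (orbF K p : Set GolayPt) := by
      ext q
      rw [Finset.mem_coe, mem_orbF]
      constructor
      · rintro ⟨k, rfl⟩
        exact ⟨k.1, k.2, rfl⟩
      · rintro ⟨k, hk, rfl⟩
        exact ⟨⟨k, hk⟩, rfl⟩
    rw [this, Nat.card_coe_set_eq, Set.ncard_coe_finset]
  rw [h1, h2]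

/-- An invariant set containing a point contains its orbit. -/
theorem orbF_subset {K : Subgroup (Equiv.Perm GolayPt)} {p : GolayPt} {D : Finset GolayPt}
    (hD : ∀ k ∈ K, ∀ q, k q ∈ D ↔ q ∈ D) (hp : p ∈ D) : orbF K p ⊆ D := by
  intro q hq
  obtain ⟨k, hk, rfl⟩ := mem_orbF.1 hq
  exact (hD k hk p).2 hp

/-- The complement of an invariant set is invariant. -/
theorem compl_inv {K : Subgroup (Equiv.Perm GolayPt)} {D : Finset GolayPt}
    (hD : ∀ k ∈ K, ∀ q, k q ∈ D ↔ q ∈ D) : ∀ k ∈ K, ∀ q, k q ∈ Dᶜ ↔ q ∈ Dᶜ := by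
  intro k hk q
  rw [Finset.mem_compl, Finset.mem_compl, hD k hk q]

theorem card_golay_univ : (Finset.univ : Finset GolayPt).card = 24 := by
  rw [Finset.card_univ, Fintype.card_option, ZMod.card]

/-! ### elements of prime order -/

/-- An element of the group of the code whose order does not divide 48 fixes at most four
points. -/
theorem card_fixed_le_four {h : Equiv.Perm GolayPt} (hh : h ∈ M24)
    (h48 : ¬ orderOf h ∣ 48) : (Finset.univ.filter fun q => h q = q).card ≤ 4 := by
  by_contra hcon
  have h5 : 5 ≤ (Finset.univ.filter fun q => h q = q).card := by omega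
  obtain ⟨t, ht, htc⟩ := Finset.exists_subset_card_eq h5
  let e : Fin 5 ↪ GolayPt :=
    (t.equivFinOfCardEq htc).symm.toEmbedding.trans (Function.Embedding.subtype _)
  have hmem := (mem_stabilizer_emb_iff (G := M24) e ⟨h, hh⟩).2 (fun i => by
    have h1 : e i ∈ t := ((t.equivFinOfCardEq htc).symm i).2
    have h2 := ht h1
    rw [Finset.mem_filter] at h2
    exact h2.2)
  have hc := card_stabilizer_emb_mul_card (G := M24) 5 e
  rw [card_emb_golayPt, card_M24] at hc
  have hd : Nat.descFactorial 24 5 = 5100480 := by decide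
  rw [hd] at hc
  have h48' := Nat.eq_of_mul_eq_mul_right (by norm_num)
    (hc.trans (by norm_num : 244823040 = 48 * 5100480))
  have ho : orderOf (Subtype.mk (⟨h, hh⟩ : M24) hmem) = orderOf h := by
    rw [← Subgroup.orderOf_coe, ← Subgroup.orderOf_coe]
  have hdvd := orderOf_dvd_natCard (Subtype.mk (⟨h, hh⟩ : M24) hmem)
  rw [ho, h48'] at hdvd
  exact h48 hdvd

/-- The number of fixed points of an element of prime order `p ≥ 5`. -/
theorem card_fixed_of_prime {h : Equiv.Perm GolayPt} (hh : h ∈ M24) (p : ℕ) [hp : Fact p.Prime]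
    (hp5 : 5 ≤ p) (hord : orderOf h = p) :
    (Finset.univ.filter fun q => h q = q).card ≤ 4 ∧
      (Finset.univ.filter fun q => h q = q).card % p = 24 % p := by
  refine ⟨card_fixed_le_four hh ?_, ?_⟩
  · rw [hord]
    intro hd
    have h1 : p ∣ 2 ^ 4 * 3 := by norm_num; exact hd
    rcases (Nat.Prime.dvd_mul hp.out).1 h1 with h2 | h2
    · have := (Nat.prime_dvd_prime_iff_eq hp.out Nat.prime_two).1 (hp.out.dvd_of_dvd_pow h2)
      omega
    · have := (Nat.prime_dvd_prime_iff_eq hp.out Nat.prime_three).1 h2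
      omega
  · have h1 := card_modEq_card_filter_fixed p h (by rw [← hord]; exact pow_orderOf_eq_one h)
      Finset.univ (fun q => by simp)
    rw [card_golay_univ] at h1
    have h2 : (Finset.univ.filter fun q => h q = q) =
        ((Finset.univ : Finset GolayPt).filter fun q => h q = q) := rfl
    exact h1.symm

/-- Elements of prime order in a subgroup of the group of the code. -/
theorem exists_prime_elt (K : Subgroup (Equiv.Perm GolayPt)) (hK : K ≤ M24) (p : ℕ)
    [hp : Fact p.Prime] (hp5 : 5 ≤ p) (hpK : p ∣ Nat.card K) :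
    ∃ h ∈ K, h ^ p = 1 ∧ (Finset.univ.filter fun q => h q = q).card ≤ 4 ∧
      (Finset.univ.filter fun q => h q = q).card % p = 24 % p := by
  haveI : Finite K := Subtype.finite
  obtain ⟨k, hk⟩ := exists_prime_orderOf_dvd_card' p hpK
  have hord : orderOf (k : Equiv.Perm GolayPt) = p := by rw [Subgroup.orderOf_coe]; exact hk
  obtain ⟨h1, h2⟩ := card_fixed_of_prime (hK k.2) p hp5 hord
  exact ⟨k.1, k.2, by rw [← hord]; exact pow_orderOf_eq_one _, h1, h2⟩

/-- The orbit length modulo `p` is the number of fixed points of an element of order `p` in the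
orbit. -/
theorem inv_card_mod {K : Subgroup (Equiv.Perm GolayPt)} {D : Finset GolayPt}
    (hD : ∀ k ∈ K, ∀ q, k q ∈ D ↔ q ∈ D) (p : ℕ) [hp : Fact p.Prime] {h : Equiv.Perm GolayPt}
    (hh : h ∈ K) (hhp : h ^ p = 1) :
    D.card % p = (D.filter fun q => h q = q).card % p :=
  card_modEq_card_filter_fixed p h hhp D (hD h hh)

end Cfsg.Agent.Lib.helper3
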