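import Mathlib
import Cfsg.Agent.Lib.helper3.M24IdxA

set_option autoImplicit false

/-!
Sylow argument: a subgroup of the group of the code whose order is divisible by `2 ^ 10` contains
the pointwise stabiliser of some octad.  Bounds for setwise stabilisers.  Simple groups have no
subgroups of small index.
-/

namespace Cfsg.Agent.Lib.helper3

open Cfsg Cfsg.Agent.Lib.helper4 Cfsg.Agent.Lib.Helper12.Golay
open scoped Pointwise

/-- There is an octad. -/
theorem exists_octad_mem (x : GolayPt) : ∃ o ∈ octads, x ∈ o := by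
  classical
  obtain ⟨t, hxt, htc⟩ := Finset.exists_superset_card_eq (s := ({x} : Finset GolayPt)) (n := 5)
    (by rw [Finset.card_singleton]; norm_num)
    (by rw [Fintype.card_option, ZMod.card]; norm_num)
  obtain ⟨o, ⟨ho, hto⟩, _⟩ := octads_steiner.2 t htc
  exact ⟨o, ho, hto (hxt (Finset.mem_singleton_self x))⟩

/-- The pointwise stabiliser of an octad in the group of the code is a 2-group. -/
theorem isPGroup_pointwise_octad (o : Finset GolayPt) (ho : o ∈ octads) (E : Subgroup ↥M24)
    (hE : ∀ g ∈ E, ∀ y ∈ o, (g : Equiv.Perm GolayPt) y = y) : IsPGroup 2 E := by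
  have hmemO : ∀ g : E, ((g.1 : M24) : Equiv.Perm GolayPt) ∈ octStab o := by
    intro g
    refine ⟨(g.1 : M24).2, (mem_stab_iff _ o).2 fun q => ?_⟩
    constructor
    · intro hq
      have := hE g.1 g.2 _ hq
      rw [Equiv.apply_eq_iff_eq] at this
      rwa [this] at hq
    · intro hq
      rw [hE g.1 g.2 q hq]
      exact hq
  let φ : E →* (resHom o).ker := MonoidHom.mk'
    (fun g => ⟨⟨((g.1 : M24) : Equiv.Perm GolayPt), hmemO g⟩,
      (mem_ker_resHom o _).2 (hE g.1 g.2)⟩) (fun _ _ => rfl)
  have hφ : Function.Injective φ := by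
    intro g g' h
    apply Subtype.ext
    apply Subtype.ext
    exact congrArg (fun z : (resHom o).ker => ((z.1 : octStab o) : Equiv.Perm GolayPt)) h
  exact (IsPGroup.of_card (n := 4) (by rw [card_ker_resHom o ho]; norm_num)).of_injective φ hφ

/-- A subgroup of order divisible by `2 ^ 10` contains the pointwise stabiliser of an octad. -/
theorem exists_octad_pointwise_le (K : Subgroup (Equiv.Perm GolayPt)) (hK : K ≤ M24)
    (h2 : 2 ^ 10 ∣ Nat.card K) :
    ∃ o ∈ octads, ∀ e ∈ M24, (∀ y ∈ o, e y = y) → e ∈ K := by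
  classical
  obtain ⟨o, ho, -⟩ := exists_octad_mem (pt 0)
  let E : Subgroup ↥M24 :=
    { carrier := {g | ∀ y ∈ o, (g : Equiv.Perm GolayPt) y = y}
      one_mem' := fun _ _ => rfl
      mul_mem' := by
        intro a b ha hb y hy
        show (a : Equiv.Perm GolayPt) ((b : Equiv.Perm GolayPt) y) = y
        rw [hb y hy, ha y hy]
      inv_mem' := by
        intro a ha y hy
        show ((a : Equiv.Perm GolayPt))⁻¹ y = y
        rw [Equiv.Perm.inv_eq_iff_eq, ha y hy] }
  have hE2 : IsPGroup 2 E := isPGroup_pointwise_octad o ho E (fun g hg => hg)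
  haveI : Fact (Nat.Prime 2) := ⟨Nat.prime_two⟩
  have hcardH : Nat.card (K.subgroupOf M24) = Nat.card K :=
    Nat.card_congr (Subgroup.subgroupOfEquivOfLe hK).toEquiv
  obtain ⟨g, hg⟩ := exists_conj_mem_of_pgroup 2 10 (K.subgroupOf M24) E hE2
    (by rw [hcardH]; exact h2) (by rw [card_M24]; norm_num)
  refine ⟨(g : Equiv.Perm GolayPt) • o, smul_mem_octads g.2 ho, ?_⟩
  intro e he hfix
  have he' : (g : Equiv.Perm GolayPt)⁻¹ * e * (g : Equiv.Perm GolayPt) ∈ M24 :=
    M24.mul_mem (M24.mul_mem (M24.inv_mem g.2) he) g.2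
  have hfix' : ∀ y ∈ o, ((g : Equiv.Perm GolayPt)⁻¹ * e * (g : Equiv.Perm GolayPt)) y = y := by
    intro y hy
    have h1 : (g : Equiv.Perm GolayPt) y ∈ (g : Equiv.Perm GolayPt) • o := by
      have : (g : Equiv.Perm GolayPt) • y ∈ (g : Equiv.Perm GolayPt) • o :=
        Finset.smul_mem_smul_finset hy
      exact this
    rw [Equiv.Perm.mul_apply, Equiv.Perm.mul_apply, hfix _ h1]
    exact perm_inv_apply _ y
  have h3 := hg ⟨_, he'⟩ hfix'
  rw [Subgroup.mem_subgroupOf] at h3
  have h4 : ((g * ⟨_, he'⟩ * g⁻¹ : M24) : Equiv.Perm GolayPt) = e := by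
    show (g : Equiv.Perm GolayPt) *
      ((g : Equiv.Perm GolayPt)⁻¹ * e * (g : Equiv.Perm GolayPt)) *
      (g : Equiv.Perm GolayPt)⁻¹ = e
    group
  rw [h4] at h3
  exact h3

/-! ### bounds for setwise stabilisers -/

theorem card_le_stabilizer_emb {G α : Type*} [Group G] [MulAction G α] [Finite G] {n : ℕ}
    (e : Fin n ↪ α) {β : Type*} (f : β → G) (hf : Function.Injective f)
    (hfix : ∀ b i, f b • e i = e i) : Nat.card β ≤ Nat.card (MulAction.stabilizer G e) := by
  apply Nat.card_le_card_of_injective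
    (fun b : β => Subtype.mk (f b) ((mem_stabilizer_emb_iff e _).2 (hfix b)))
  intro b b' h
  exact hf (congrArg Subtype.val h)

/-- A subgroup of the group of the code fixing `t` pointwise and stabilising `s`, with
`|s ∪ t| = m ≤ 5`, has order at most `|s|! · |M₂₄| / (24)_m`. -/
theorem card_mul_le_of_setwise (K : Subgroup (Equiv.Perm GolayPt)) (hK : K ≤ M24)
    (s t : Finset GolayPt) (hs : ∀ k ∈ K, ∀ q, k q ∈ s ↔ q ∈ s) (ht : ∀ k ∈ K, ∀ q ∈ t, k q = q)
    (m : ℕ) (hm : (s ∪ t).card = m) (hm5 : m ≤ 5) :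
    Nat.card K * Nat.descFactorial 24 m ≤ s.card.factorial * 244823040 := by
  classical
  haveI : Finite K := Subtype.finite
  let ρ : K →* Equiv.Perm ↥s := MonoidHom.mk'
    (fun k => (k.1).subtypePerm (hs k.1 k.2)) (fun a b => by ext x; rfl)
  have h1 := Subgroup.card_mul_index ρ.ker
  rw [Subgroup.index_ker] at h1
  have h2 : Nat.card ρ.range ≤ s.card.factorial := by
    have := Nat.card_le_card_of_injective (Subtype.val : ρ.range → Equiv.Perm ↥s)
      Subtype.val_injective
    rw [Nat.card_eq_fintype_card (α := Equiv.Perm ↥s), Fintype.card_perm, Fintype.card_coe] at this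
    exact this
  let e : Fin m ↪ GolayPt :=
    ((s ∪ t).equivFinOfCardEq hm).symm.toEmbedding.trans (Function.Embedding.subtype _)
  have hfix : ∀ g : ρ.ker, ∀ i, (⟨g.1.1, hK g.1.2⟩ : M24) • e i = e i := by
    intro g i
    have h3 : e i ∈ s ∪ t := (((s ∪ t).equivFinOfCardEq hm).symm i).2
    rcases Finset.mem_union.1 h3 with h4 | h4
    · have h5 : ρ g.1 = 1 := g.2
      have h6 := congrArg (fun σ : Equiv.Perm ↥s => ((σ ⟨e i, h4⟩ : ↥s) : GolayPt)) h5
      exact h6
    · exact ht g.1.1 g.1.2 _ h4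
  haveI := M24_pretrans_le m hm5
  have hc := card_stabilizer_emb_mul_card (G := M24) m e
  rw [card_emb_golayPt, card_M24] at hc
  have h7 := card_le_stabilizer_emb (G := M24) e (fun g : ρ.ker => (⟨g.1.1, hK g.1.2⟩ : M24))
    (by
      intro g g' h
      apply Subtype.ext
      apply Subtype.ext
      exact congrArg (fun z : M24 => (z : Equiv.Perm GolayPt)) h) hfix
  calc Nat.card K * Nat.descFactorial 24 m
      = Nat.card ρ.range * (Nat.card ρ.ker * Nat.descFactorial 24 m) := by rw [← h1]; ring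
    _ ≤ s.card.factorial * (_ * Nat.descFactorial 24 m) :=
        Nat.mul_le_mul h2 (Nat.mul_le_mul_right _ h7)
    _ = s.card.factorial * 244823040 := by rw [hc]

/-! ### simple groups have no subgroups of small index -/

theorem simple_no_small_index {G : Type*} [Group G] [Finite G] [IsSimpleGroup G]
    (J : Subgroup G) (n : ℕ) (hn : 1 < n) (hJ : J.index = n) (hG : n.factorial < Nat.card G) :
    False := by
  classical
  have hJtop : J ≠ ⊤ := by
    intro h
    rw [h, Subgroup.index_top] at hJ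
    omega
  rcases (Subgroup.normalCore_normal J).eq_bot_or_eq_top with h | h
  · have hinj : Function.Injective (MulAction.toPermHom G (G ⧸ J)) := by
      rw [← MonoidHom.ker_eq_bot_iff, ← Subgroup.normalCore_eq_ker, h]
    haveI : Fintype (G ⧸ J) := Fintype.ofFinite _
    have h1 := Nat.card_le_card_of_injective _ hinj
    rw [Nat.card_eq_fintype_card (α := Equiv.Perm (G ⧸ J)), Fintype.card_perm,
      ← Nat.card_eq_fintype_card, ← Subgroup.index_eq_card, hJ] at h1
    omega
  · exact hJtop (top_le_iff.1 (h ▸ Subgroup.normalCore_le J))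

end Cfsg.Agent.Lib.helper3
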