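import Mathlib
import Cfsg.Agent.Lib.helper3.M24IdxB
import Cfsg.Agent.Lib.helper3.M21C
import Cfsg.Agent.S0249

set_option autoImplicit false

/-!
Structure lemmas: the stabiliser of an octad has no subgroup of small index containing the
pointwise stabiliser; a three-point stabiliser has no subgroup of index 3; blocks of
imprimitivity from a set stabilised by a point stabiliser.
-/

namespace Cfsg.Agent.Lib.helper3

open Cfsg Cfsg.Agent.Lib.helper4 Cfsg.Agent.Lib.Helper12.Golay
open scoped Pointwise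

theorem octStab_no_small_index (o : Finset GolayPt) (ho : o ∈ octads)
    (N : Subgroup (Equiv.Perm GolayPt)) (hN : N ≤ octStab o)
    (hE : ∀ e ∈ M24, (∀ y ∈ o, e y = y) → e ∈ N) (n : ℕ) (hn : 1 < n) (hn7 : n ≤ 7)
    (hcard : Nat.card N * n = 322560) : False := by
  classical
  haveI : Finite (octStab o) := Subtype.finite
  let J : Subgroup ↥(octStab o) := N.subgroupOf (octStab o)
  have hJc : Nat.card J = Nat.card N := Nat.card_congr (Subgroup.subgroupOfEquivOfLe hN).toEquiv
  have hJi : J.index = n := by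
    have h1 := J.card_mul_index
    rw [hJc, card_octStab o ho, ← hcard] at h1
    have hpos : 0 < Nat.card N := by
      rcases Nat.eq_zero_or_pos (Nat.card N) with h | h
      · rw [h] at hcard; omega
      · exact h
    exact Nat.eq_of_mul_eq_mul_left hpos h1
  let f := (resHom o).rangeRestrict
  have hfs : Function.Surjective f := (resHom o).rangeRestrict_surjective
  have hker : f.ker ≤ J := by
    intro g hg
    rw [MonoidHom.ker_rangeRestrict] at hg
    rw [Subgroup.mem_subgroupOf]
    exact hE g.1 g.2.1 ((mem_ker_resHom o g).1 hg)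
  have hidx : (J.map f).index = n := by rw [Subgroup.index_map_eq J hfs hker, hJi]
  have hcard8 : Nat.card ↥o = 8 := by
    rw [Nat.card_eq_fintype_card, Fintype.card_coe]; exact ho.2
  haveI : IsSimpleGroup (alternatingGroup ↥o) := alternatingGroup.isSimpleGroup (by omega)
  haveI : IsSimpleGroup ↥(resHom o).range :=
    (MulEquiv.subgroupCongr (range_resHom_eq o ho)).isSimpleGroup
  have hrange : Nat.card ↥(resHom o).range = 20160 := by
    have h1 := Subgroup.card_mul_index (resHom o).ker
    rw [Subgroup.index_ker, card_octStab o ho, card_ker_resHom o ho] at h1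
    omega
  apply simple_no_small_index (J.map f) n hn hidx
  rw [hrange]
  calc n.factorial ≤ (7 : ℕ).factorial := Nat.factorial_le hn7
    _ = 5040 := by decide
    _ < 20160 := by norm_num

/-- A group of permutations in the group of the code fixing three points, as a subgroup of the
three-point stabiliser. -/
theorem triple_stab_comap (p q r : GolayPt) (N : Subgroup (Equiv.Perm GolayPt))
    (hN : ∀ g ∈ N, g ∈ M24 ∧ g p = p ∧ g q = q ∧ g r = r) :
    ∃ J : Subgroup ↥(MulAction.stabilizer ↥M24 p ⊓ MulAction.stabilizer ↥M24 q ⊓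
      MulAction.stabilizer ↥M24 r), Nat.card J = Nat.card N := by
  classical
  let φ : ↥(MulAction.stabilizer ↥M24 p ⊓ MulAction.stabilizer ↥M24 q ⊓
      MulAction.stabilizer ↥M24 r) →* Equiv.Perm GolayPt :=
    M24.subtype.comp (Subgroup.subtype _)
  have hφ : Function.Injective φ :=
    M24.subtype_injective.comp (Subgroup.subtype_injective _)
  refine ⟨N.comap φ, ?_⟩
  apply Nat.card_congr
  refine Equiv.ofBijective (fun g : N.comap φ => (⟨φ g.1, g.2⟩ : N)) ⟨?_, ?_⟩
  · intro g g' h
    apply Subtype.ext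
    have h' := congrArg (fun z : N => (z : Equiv.Perm GolayPt)) h
    exact hφ h'
  · intro n
    obtain ⟨h1, h2, h3, h4⟩ := hN n.1 n.2
    refine ⟨⟨⟨⟨n.1, h1⟩, ⟨⟨MulAction.mem_stabilizer_iff.2 h2, MulAction.mem_stabilizer_iff.2 h3⟩,
      MulAction.mem_stabilizer_iff.2 h4⟩⟩, ?_⟩, rfl⟩
    show φ _ ∈ N
    exact n.2

theorem triple_stab_card_dvd (p q r : GolayPt) (hpq : p ≠ q) (hpr : p ≠ r) (hqr : q ≠ r)
    (N : Subgroup (Equiv.Perm GolayPt))
    (hN : ∀ g ∈ N, g ∈ M24 ∧ g p = p ∧ g q = q ∧ g r = r) : Nat.card N ∣ 20160 := by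
  obtain ⟨J, hJ⟩ := triple_stab_comap p q r N hN
  rw [← hJ, ← card_triple_stab p q r hpq hpr hqr]
  exact Subgroup.card_subgroup_dvd_card J

theorem triple_stab_no_index_three (p q r : GolayPt) (hpq : p ≠ q) (hpr : p ≠ r) (hqr : q ≠ r)
    (N : Subgroup (Equiv.Perm GolayPt))
    (hN : ∀ g ∈ N, g ∈ M24 ∧ g p = p ∧ g q = q ∧ g r = r) (hcard : Nat.card N * 3 = 20160) :
    False := by
  classical
  haveI : Finite ↥M24 := finite_M24
  obtain ⟨e⟩ := triple_stab_psl p q r hpq hpr hqr Cfsg.Agent.Lib.Lead.F4.F4c card_F4c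
  haveI : IsSimpleGroup (Matrix.ProjectiveSpecialLinearGroup (Fin 3) Cfsg.Agent.Lib.Lead.F4.F4c) :=
    Cfsg.Agent.S0249.result 3 le_rfl
  haveI := e.isSimpleGroup
  obtain ⟨J, hJc⟩ := triple_stab_comap p q r N hN
  have hJi : J.index = 3 := by
    have h1 := J.card_mul_index
    rw [hJc, card_triple_stab p q r hpq hpr hqr, ← hcard] at h1
    have hpos : 0 < Nat.card N := by
      rcases Nat.eq_zero_or_pos (Nat.card N) with h | h
      · rw [h] at hcard; omega
      · exact h
    exact Nat.eq_of_mul_eq_mul_left hpos h1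
  apply simple_no_small_index J 3 (by norm_num) hJi
  rw [card_triple_stab p q r hpq hpr hqr]
  decide

/-- Blocks: if the stabiliser of `x` in `K` stabilises a set `B ∋ x`, and `K` contains elements
fixing `B` pointwise and transitive on the (larger) complement, then every element of `K` taking
`x` into `B` stabilises `B`. -/
theorem block_claim (K : Subgroup (Equiv.Perm GolayPt))
    (x : GolayPt) (B : Finset GolayPt)
    (hB : ∀ k ∈ K, k x = x → ∀ q, k q ∈ B ↔ q ∈ B)
    (hF : ∀ p q, p ∉ B → q ∉ B → ∃ e ∈ K, (∀ y ∈ B, e y = y) ∧ e p = q)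
    (hsize : B.card < Bᶜ.card) : ∀ k ∈ K, k x ∈ B → k • B = B := by
  classical
  intro k hk hkx
  -- `k • B` is invariant under the elements of `K` fixing `B` pointwise
  have hinv : ∀ e ∈ K, (∀ y ∈ B, e y = y) → ∀ q, q ∈ k • B → e q ∈ k • B := by
    intro e he hfix q hq
    have h1 : (k⁻¹ * e * k) x = x := by
      rw [Equiv.Perm.mul_apply, Equiv.Perm.mul_apply, hfix _ hkx]
      exact perm_inv_apply k x
    have h2 := hB (k⁻¹ * e * k) (K.mul_mem (K.mul_mem (K.inv_mem hk) he) hk) h1
    rw [← Finset.inv_smul_mem_iff] at hq ⊢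
    have h3 := (h2 (k⁻¹ • q)).2 hq
    rw [Equiv.Perm.mul_apply, Equiv.Perm.mul_apply] at h3
    have h4 : k (k⁻¹ • q) = q := perm_apply_inv k q
    rw [h4] at h3
    exact h3
  have hsub : k • B ⊆ B := by
    intro p hp
    by_contra hpB
    have hall : Bᶜ ⊆ k • B := by
      intro q hq
      rw [Finset.mem_compl] at hq
      obtain ⟨e, he, hfix, hepq⟩ := hF p q hpB hq
      rw [← hepq]
      exact hinv e he hfix p hp
    have := Finset.card_le_card hall
    rw [Finset.card_smul_finset] at this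
    omega
  exact Finset.eq_of_subset_of_card_le hsub (by rw [Finset.card_smul_finset])

/-- In the situation of `block_claim`, with `K` transitive, the setwise stabiliser of `B` in `K`
is transitive on `B`; its order follows. -/
theorem block_card (K : Subgroup (Equiv.Perm GolayPt)) (htrans : ∀ p q, ∃ k ∈ K, k p = q)
    (x : GolayPt) (B : Finset GolayPt) (hxB : x ∈ B)
    (hB : ∀ k ∈ K, k x = x → ∀ q, k q ∈ B ↔ q ∈ B)
    (hF : ∀ p q, p ∉ B → q ∉ B → ∃ e ∈ K, (∀ y ∈ B, e y = y) ∧ e p = q)
    (hsize : B.card < Bᶜ.card) :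
    Nat.card (K ⊓ MulAction.stabilizer (Equiv.Perm GolayPt) B : Subgroup (Equiv.Perm GolayPt)) =
      B.card * Nat.card (pstab K x) := by
  classical
  have hclaim := block_claim K x B hB hF hsize
  set N : Subgroup (Equiv.Perm GolayPt) := K ⊓ MulAction.stabilizer (Equiv.Perm GolayPt) B
    with hNdef
  have hNmem : ∀ g, g ∈ N ↔ g ∈ K ∧ g • B = B := by
    intro g
    rw [hNdef, Subgroup.mem_inf, MulAction.mem_stabilizer_iff]
  have h1 := card_orbF_mul N x
  have h2 : orbF N x = B := by
    ext y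
    rw [mem_orbF]
    constructor
    · rintro ⟨n, hn, rfl⟩
      have h3 : n • x ∈ n • B := Finset.smul_mem_smul_finset hxB
      rw [((hNmem n).1 hn).2] at h3
      exact h3
    · intro hy
      obtain ⟨k, hk, hkx⟩ := htrans x y
      exact ⟨k, (hNmem k).2 ⟨hk, hclaim k hk (hkx ▸ hy)⟩, hkx⟩
  have h3 : pstab N x = pstab K x := by
    ext g
    rw [mem_pstab, mem_pstab, hNmem]
    constructor
    · rintro ⟨⟨h4, _⟩, h5⟩
      exact ⟨h4, h5⟩
    · rintro ⟨h4, h5⟩
      exact ⟨⟨h4, MulAction.mem_stabilizer_iff.1 ((mem_stab_iff g B).2 (hB g h4 h5))⟩, h5⟩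
  rw [h1, h2, h3]

/-- In the situation of `block_claim`, with `K` transitive, the translates of `B` are disjoint
from `B` or equal to it. -/
theorem block_disjoint (K : Subgroup (Equiv.Perm GolayPt)) (htrans : ∀ p q, ∃ k ∈ K, k p = q)
    (x : GolayPt) (B : Finset GolayPt) (hxB : x ∈ B)
    (hB : ∀ k ∈ K, k x = x → ∀ q, k q ∈ B ↔ q ∈ B)
    (hF : ∀ p q, p ∉ B → q ∉ B → ∃ e ∈ K, (∀ y ∈ B, e y = y) ∧ e p = q)
    (hsize : B.card < Bᶜ.card) (k : Equiv.Perm GolayPt) (hk : k ∈ K) (t : GolayPt) (ht : t ∈ B)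
    (hkt : k t ∈ B) : k • B = B := by
  classical
  have hclaim := block_claim K x B hB hF hsize
  obtain ⟨n, hn, hnx⟩ := htrans x t
  have h1 : n • B = B := hclaim n hn (hnx ▸ ht)
  have h2 : (k * n) • B = B := by
    apply hclaim (k * n) (K.mul_mem hk hn)
    rw [Equiv.Perm.mul_apply, hnx]
    exact hkt
  rw [mul_smul, h1] at h2
  exact h2

/-- A subgroup containing a maximal subgroup is that subgroup or everything. -/
theorem card_of_coatom_le (B : Finset GolayPt) (hco : IsCoatom (MulAction.stabilizer M24 B))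
    (K : Subgroup (Equiv.Perm GolayPt)) (hK : K ≤ M24) (hle : octStab B ≤ K) :
    Nat.card K = Nat.card (octStab B) ∨ Nat.card K = 244823040 := by
  have hcardK : Nat.card (K.subgroupOf M24) = Nat.card K :=
    Nat.card_congr (Subgroup.subgroupOfEquivOfLe hK).toEquiv
  have hle' : MulAction.stabilizer M24 B ≤ K.subgroupOf M24 := by
    intro g hg
    rw [Subgroup.mem_subgroupOf]
    exact hle ⟨g.2, MulAction.mem_stabilizer_iff.2 (MulAction.mem_stabilizer_iff.1 hg)⟩
  rcases eq_or_lt_of_le hle' with h | h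
  · left
    rw [← hcardK, ← h]
    apply Nat.card_congr
    exact
      { toFun := fun g => ⟨g.1.1, g.1.2, MulAction.mem_stabilizer_iff.2
          (MulAction.mem_stabilizer_iff.1 g.2)⟩
        invFun := fun g => ⟨⟨g.1, g.2.1⟩, MulAction.mem_stabilizer_iff.2
          (MulAction.mem_stabilizer_iff.1 g.2.2)⟩
        left_inv := fun _ => rfl
        right_inv := fun _ => rfl }
  · right
    rw [← hcardK, hco.2 _ h, Subgroup.card_top, card_M24]

end Cfsg.Agent.Lib.helper3
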