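import Mathlib
import Cfsg.Agent.Lib.helper3.M24IdxC

set_option autoImplicit false

/-!
Subgroups of index 276 of the group of the code stabilise a pair of points.
-/

namespace Cfsg.Agent.Lib.helper3

open Cfsg Cfsg.Agent.Lib.helper4 Cfsg.Agent.Lib.Helper12.Golay
open scoped Pointwise

/-- A single orbit of full size means transitivity. -/
theorem trans_of_orbF_card {K : Subgroup (Equiv.Perm GolayPt)} {p : GolayPt}
    (h : (orbF K p).card = 24) : ∀ a b, ∃ k ∈ K, k a = b := by
  classical
  have huniv : orbF K p = Finset.univ :=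
    Finset.eq_univ_of_card _ (by rw [h, Fintype.card_option, ZMod.card])
  intro a b
  obtain ⟨ka, hka, hkap⟩ := mem_orbF.1 (huniv ▸ Finset.mem_univ a)
  obtain ⟨kb, hkb, hkbp⟩ := mem_orbF.1 (huniv ▸ Finset.mem_univ b)
  refine ⟨kb * ka⁻¹, K.mul_mem hkb (K.inv_mem hka), ?_⟩
  rw [Equiv.Perm.mul_apply, ← hkap, perm_inv_apply, hkbp]

theorem card_pstab_of_trans {K : Subgroup (Equiv.Perm GolayPt)}
    (htrans : ∀ a b, ∃ k ∈ K, k a = b) (x : GolayPt) :
    Nat.card K = 24 * Nat.card (pstab K x) := by
  classical
  have h1 := card_orbF_mul K x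
  have h2 : orbF K x = Finset.univ := by
    apply Finset.eq_univ_iff_forall.2
    intro q
    exact mem_orbF.2 (htrans x q)
  rw [h2, card_golay_univ] at h1
  exact h1

theorem orbF_card_le (K : Subgroup (Equiv.Perm GolayPt)) (p : GolayPt) :
    (orbF K p).card ≤ 24 := by
  rw [← card_golay_univ]
  exact Finset.card_le_card (Finset.subset_univ _)

/-- The number of fixed points of `h` in an invariant set, bounded by a superset. -/
theorem filter_fixed_card_le (D F : Finset GolayPt) (h : Equiv.Perm GolayPt)
    (hF : ∀ q ∈ D, h q = q → q ∈ F) : (D.filter fun q => h q = q).card ≤ F.card := by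
  classical
  apply Finset.card_le_card
  intro q hq
  rw [Finset.mem_filter] at hq
  exact hF q hq.1 hq.2

/-- If an orbit has one element, every element of the group fixes the point. -/
theorem fixes_of_orbF_card_one {K : Subgroup (Equiv.Perm GolayPt)} {p : GolayPt}
    (h : (orbF K p).card = 1) : ∀ k ∈ K, k p = p := by
  classical
  intro k hk
  obtain ⟨a, ha⟩ := Finset.card_eq_one.1 h
  have h1 : p ∈ orbF K p := self_mem_orbF K p
  have h2 : k p ∈ orbF K p := mem_orbF.2 ⟨k, hk, rfl⟩
  rw [ha, Finset.mem_singleton] at h1 h2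
  exact h2.trans h1.symm

theorem idx276_main (K : Subgroup (Equiv.Perm GolayPt)) (hK : K ≤ M24)
    (hcard : Nat.card K = 887040) :
    ∃ s : Finset GolayPt, s.card = 2 ∧ ∀ k ∈ K, ∀ q, k q ∈ s ↔ q ∈ s := by
  classical
  haveI : Fact (Nat.Prime 11) := ⟨by norm_num⟩
  haveI : Fact (Nat.Prime 7) := ⟨by norm_num⟩
  obtain ⟨h11, h11K, h11p, h11le, h11mod⟩ :=
    exists_prime_elt K hK 11 (by norm_num) (by rw [hcard]; norm_num)
  obtain ⟨h7, h7K, h7p, h7le, h7mod⟩ :=
    exists_prime_elt K hK 7 (by norm_num) (by rw [hcard]; norm_num)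
  have hF11c : (Finset.univ.filter fun q => h11 q = q).card = 2 := by
    have : 24 % 11 = 2 := by norm_num
    omega
  have hF7c : (Finset.univ.filter fun q => h7 q = q).card = 3 := by
    have : 24 % 7 = 3 := by norm_num
    omega
  obtain ⟨p, hp⟩ : ∃ p, h11 p ≠ p := by
    by_contra hcon
    push_neg at hcon
    have h1 : (Finset.univ.filter fun q => h11 q = q) = Finset.univ :=
      Finset.filter_true_of_mem (fun q _ => hcon q)
    rw [h1, card_golay_univ] at hF11c
    omega
  have hDinv : ∀ k ∈ K, ∀ q, k q ∈ orbF K p ↔ q ∈ orbF K p := fun k hk q => orbF_inv hk q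
  have h1 := inv_card_mod hDinv 11 h11K h11p
  have h2 := inv_card_mod hDinv 7 h7K h7p
  have h3 : ((orbF K p).filter fun q => h11 q = q).card ≤ 2 := by
    rw [← hF11c]
    exact filter_fixed_card_le _ _ _ (fun q _ hq => by simpa using hq)
  have h4 : ((orbF K p).filter fun q => h7 q = q).card ≤ 3 := by
    rw [← hF7c]
    exact filter_fixed_card_le _ _ _ (fun q _ hq => by simpa using hq)
  have h5 : ((orbF K p).filter fun q => h11 q = q).card < (orbF K p).card := by
    apply Finset.card_lt_card
    rw [Finset.filter_ssubset]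
    exact ⟨p, self_mem_orbF K p, hp⟩
  have h6 := orbF_card_le K p
  have h7' := card_orbF_mul K p
  rw [hcard] at h7'
  obtain ⟨n, hn⟩ : ∃ n, (orbF K p).card = n := ⟨_, rfl⟩
  obtain ⟨f, hf⟩ : ∃ f, ((orbF K p).filter fun q => h11 q = q).card = f := ⟨_, rfl⟩
  obtain ⟨f', hf'⟩ : ∃ f', ((orbF K p).filter fun q => h7 q = q).card = f' := ⟨_, rfl⟩
  obtain ⟨c, hc⟩ : ∃ c, Nat.card (pstab K p) = c := ⟨_, rfl⟩
  rw [hn, hf] at h1 h5
  rw [hn, hf'] at h2
  rw [hf] at h3
  rw [hf'] at h4
  rw [hn] at h6
  rw [hn, hc] at h7'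
  have hn2 : n = 22 ∨ n = 24 := by
    interval_cases n <;> omega
  rcases hn2 with hn22 | hn24
  · refine ⟨(orbF K p)ᶜ, ?_, compl_inv hDinv⟩
    rw [Finset.card_compl, hn, hn22, Fintype.card_option, ZMod.card]
  · exfalso
    have htrans := trans_of_orbF_card (hn.trans hn24)
    -- point stabilisers have order 36960
    have hst : ∀ x, Nat.card (pstab K x) = 36960 := by
      intro x
      have := card_pstab_of_trans htrans x
      omega
    set Kx := pstab K p with hKx
    have hKxM : Kx ≤ M24 := le_trans (pstab_le K p) hK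
    obtain ⟨a11, a11K, a11p, a11le, a11mod⟩ :=
      exists_prime_elt Kx hKxM 11 (by norm_num) (by rw [hst]; norm_num)
    obtain ⟨a7, a7K, a7p, a7le, a7mod⟩ :=
      exists_prime_elt Kx hKxM 7 (by norm_num) (by rw [hst]; norm_num)
    have hA11c : (Finset.univ.filter fun q => a11 q = q).card = 2 := by
      have : 24 % 11 = 2 := by norm_num
      omega
    have hA7c : (Finset.univ.filter fun q => a7 q = q).card = 3 := by
      have : 24 % 7 = 3 := by norm_num
      omega
    have hxA11 : p ∈ Finset.univ.filter fun q => a11 q = q := by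
      rw [Finset.mem_filter]
      exact ⟨Finset.mem_univ _, (mem_pstab.1 a11K).2⟩
    have hxA7 : p ∈ Finset.univ.filter fun q => a7 q = q := by
      rw [Finset.mem_filter]
      exact ⟨Finset.mem_univ _, (mem_pstab.1 a7K).2⟩
    -- the second fixed point of `a11`
    obtain ⟨y, hy⟩ : ∃ y, (Finset.univ.filter fun q => a11 q = q).erase p = {y} := by
      apply Finset.card_eq_one.1
      rw [Finset.card_erase_of_mem hxA11, hA11c]
    have hyA : y ∈ (Finset.univ.filter fun q => a11 q = q).erase p := by
      rw [hy]; exact Finset.mem_singleton_self y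
    have hyp : y ≠ p := (Finset.mem_erase.1 hyA).1
    have hyfix : a11 y = y := (Finset.mem_filter.1 (Finset.mem_erase.1 hyA).2).2
    -- Claim A: the stabiliser of `p` fixes `y`
    have hA : ∀ k ∈ Kx, k y = y := by
      apply fixes_of_orbF_card_one
      have hD'inv : ∀ k ∈ Kx, ∀ q, k q ∈ orbF Kx y ↔ q ∈ orbF Kx y := fun k hk q => orbF_inv hk q
      have hpD' : p ∉ orbF Kx y := by
        intro hp'
        obtain ⟨k, hk, hky⟩ := mem_orbF.1 hp'
        have : k y = k p := by rw [hky, (mem_pstab.1 hk).2]
        exact hyp (k.injective this)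
      have g1 := inv_card_mod hD'inv 11 a11K a11p
      have g2 := inv_card_mod hD'inv 7 a7K a7p
      have g3 : ((orbF Kx y).filter fun q => a11 q = q).card ≤ 1 := by
        have : ((orbF Kx y).filter fun q => a11 q = q) ⊆ {y} := by
          intro q hq
          rw [Finset.mem_filter] at hq
          rw [← hy, Finset.mem_erase, Finset.mem_filter]
          refine ⟨?_, Finset.mem_univ _, hq.2⟩
          rintro rfl
          exact hpD' hq.1
        exact (Finset.card_le_card this).trans (by rw [Finset.card_singleton])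
      have g3' : 1 ≤ ((orbF Kx y).filter fun q => a11 q = q).card := by
        apply Finset.card_pos.2
        exact ⟨y, Finset.mem_filter.2 ⟨self_mem_orbF Kx y, hyfix⟩⟩
      have g4 : ((orbF Kx y).filter fun q => a7 q = q).card ≤ 2 := by
        have : ((orbF Kx y).filter fun q => a7 q = q) ⊆
            (Finset.univ.filter fun q => a7 q = q).erase p := by
          intro q hq
          rw [Finset.mem_filter] at hq
          rw [Finset.mem_erase, Finset.mem_filter]
          refine ⟨?_, Finset.mem_univ _, hq.2⟩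
          rintro rfl
          exact hpD' hq.1
        refine (Finset.card_le_card this).trans ?_
        rw [Finset.card_erase_of_mem hxA7, hA7c]
      have g5 : (orbF Kx y).card ≤ 23 := by
        have : orbF Kx y ⊆ Finset.univ.erase p := by
          intro q hq
          rw [Finset.mem_erase]
          refine ⟨?_, Finset.mem_univ _⟩
          rintro rfl
          exact hpD' hq
        refine (Finset.card_le_card this).trans ?_
        rw [Finset.card_erase_of_mem (Finset.mem_univ _), card_golay_univ]
      have g6 := card_orbF_mul Kx y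
      rw [hst p] at g6
      obtain ⟨n', hn'⟩ : ∃ n', (orbF Kx y).card = n' := ⟨_, rfl⟩
      obtain ⟨e, he⟩ : ∃ e, ((orbF Kx y).filter fun q => a11 q = q).card = e := ⟨_, rfl⟩
      obtain ⟨e', he'⟩ : ∃ e', ((orbF Kx y).filter fun q => a7 q = q).card = e' := ⟨_, rfl⟩
      obtain ⟨c', hc'⟩ : ∃ c', Nat.card (pstab Kx y) = c' := ⟨_, rfl⟩
      rw [hn', he] at g1
      rw [hn', he'] at g2
      rw [he] at g3 g3'
      rw [he'] at g4
      rw [hn'] at g5
      rw [hn', hc'] at g6
      interval_cases n' <;> omega
    -- the third fixed point of `a7`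
    have hyA7 : y ∈ (Finset.univ.filter fun q => a7 q = q).erase p := by
      rw [Finset.mem_erase, Finset.mem_filter]
      exact ⟨hyp, Finset.mem_univ _, hA a7 a7K⟩
    obtain ⟨w, hw⟩ : ∃ w, ((Finset.univ.filter fun q => a7 q = q).erase p).erase y = {w} := by
      apply Finset.card_eq_one.1
      rw [Finset.card_erase_of_mem hyA7, Finset.card_erase_of_mem hxA7, hA7c]
    have hwA : w ∈ ((Finset.univ.filter fun q => a7 q = q).erase p).erase y := by
      rw [hw]; exact Finset.mem_singleton_self w
    have hwy : w ≠ y := (Finset.mem_erase.1 hwA).1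
    have hwp : w ≠ p := (Finset.mem_erase.1 (Finset.mem_erase.1 hwA).2).1
    have hwfix : a7 w = w :=
      (Finset.mem_filter.1 (Finset.mem_erase.1 (Finset.mem_erase.1 hwA).2).2).2
    have hA7all : ∀ q, a7 q = q → q = p ∨ q = y ∨ q = w := by
      intro q hq
      by_contra hcon
      push_neg at hcon
      have : q ∈ ((Finset.univ.filter fun q => a7 q = q).erase p).erase y := by
        rw [Finset.mem_erase, Finset.mem_erase, Finset.mem_filter]
        exact ⟨hcon.2.1, hcon.1, Finset.mem_univ _, hq⟩
      rw [hw, Finset.mem_singleton] at this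
      exact hcon.2.2 this
    obtain ⟨g, hg, hgp⟩ := htrans p w
    -- Claim B: the stabiliser of `w` fixes `g y`
    have hB : ∀ k ∈ K, k w = w → k (g y) = g y := by
      intro k hk hkw
      have h8 : g⁻¹ * k * g ∈ Kx := by
        rw [hKx, mem_pstab]
        refine ⟨K.mul_mem (K.mul_mem (K.inv_mem hg) hk) hg, ?_⟩
        rw [Equiv.Perm.mul_apply, Equiv.Perm.mul_apply, hgp, hkw, ← hgp]
        exact perm_inv_apply g p
      have h9 := hA _ h8
      rw [Equiv.Perm.mul_apply, Equiv.Perm.mul_apply, Equiv.Perm.inv_eq_iff_eq] at h9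
      exact h9
    have hgyw : g y ≠ w := by
      intro h
      rw [← hgp] at h
      exact hyp (g.injective h)
    have ha7K : a7 ∈ K := pstab_le K p a7K
    have hgy := hA7all (g y) (hB a7 ha7K hwfix)
    have hKxy : Kx = pstab K y := by
      apply Subgroup.eq_of_le_of_card_ge
      · intro k hk
        exact mem_pstab.2 ⟨pstab_le K p hk, hA k hk⟩
      · rw [hst, hst]
    have hKw : pstab K w = pstab K (g y) := by
      apply Subgroup.eq_of_le_of_card_ge
      · intro k hk
        exact mem_pstab.2 ⟨(mem_pstab.1 hk).1, hB k (mem_pstab.1 hk).1 (mem_pstab.1 hk).2⟩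
      · rw [hst, hst]
    have ha11w : a11 ∈ pstab K w := by
      rcases hgy with h | h | h
      · rw [hKw, h]; exact a11K
      · rw [hKw, h, ← hKxy]; exact a11K
      · exact absurd h hgyw
    have hwfix11 : a11 w = w := (mem_pstab.1 ha11w).2
    have : w ∈ (Finset.univ.filter fun q => a11 q = q).erase p := by
      rw [Finset.mem_erase, Finset.mem_filter]
      exact ⟨hwp, Finset.mem_univ _, hwfix11⟩
    rw [hy, Finset.mem_singleton] at this
    exact hwy this

end Cfsg.Agent.Lib.helper3
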