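import Mathlib
import Cfsg.Agent.Lib.helper3.M24IdxD

set_option autoImplicit false

/-!
Subgroups of index 759 of the group of the code stabilise an octad.
-/

namespace Cfsg.Agent.Lib.helper3

open Cfsg Cfsg.Agent.Lib.helper4 Cfsg.Agent.Lib.Helper12.Golay
open scoped Pointwise

/-- The pointwise stabiliser of an octad is transitive on the complement. -/
theorem pointwise_trans (o : Finset GolayPt) (ho : o ∈ octads) :
    ∀ p q, p ∉ o → q ∉ o → ∃ g ∈ M24, (∀ x ∈ o, g x = x) ∧ g p = q := by
  obtain ⟨p₀, -, htr⟩ := exists_fixing o ho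
  intro p q hp hq
  obtain ⟨gp, hgp, hgpfix, hgpp⟩ := htr p hp
  obtain ⟨gq, hgq, hgqfix, hgqq⟩ := htr q hq
  refine ⟨gq * gp⁻¹, M24.mul_mem hgq (M24.inv_mem hgp), ?_, ?_⟩
  · intro x hx
    rw [Equiv.Perm.mul_apply]
    have : gp⁻¹ x = x := by rw [Equiv.Perm.inv_eq_iff_eq, hgpfix x hx]
    rw [this, hgqfix x hx]
  · rw [Equiv.Perm.mul_apply, ← hgpp, perm_inv_apply, hgqq]

/-- A permutation fixing a set pointwise stabilises it. -/
theorem stab_of_pointwise (e : Equiv.Perm GolayPt) (o : Finset GolayPt)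
    (h : ∀ y ∈ o, e y = y) : ∀ q, e q ∈ o ↔ q ∈ o := by
  intro q
  constructor
  · intro hq
    have := h _ hq
    rw [Equiv.apply_eq_iff_eq] at this
    rwa [this] at hq
  · intro hq
    rw [h q hq]
    exact hq

theorem compl_subset_orbF (K : Subgroup (Equiv.Perm GolayPt)) (o : Finset GolayPt)
    (ho : o ∈ octads) (hE : ∀ e ∈ M24, (∀ y ∈ o, e y = y) → e ∈ K) (p : GolayPt) (hp : p ∉ o) :
    oᶜ ⊆ orbF K p := by
  intro q hq
  rw [Finset.mem_compl] at hq
  obtain ⟨g, hg, hfix, hgp⟩ := pointwise_trans o ho p q hp hq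
  exact mem_orbF.2 ⟨g, hE g hg hfix, hgp⟩

theorem octad_inv_of_card (K : Subgroup (Equiv.Perm GolayPt)) (o : Finset GolayPt)
    (ho : o ∈ octads) (hE : ∀ e ∈ M24, (∀ y ∈ o, e y = y) → e ∈ K) (p : GolayPt) (hp : p ∉ o)
    (h16 : (orbF K p).card = 16) : ∀ k ∈ K, ∀ q, k q ∈ o ↔ q ∈ o := by
  have h1 : oᶜ = orbF K p :=
    Finset.eq_of_subset_of_card_le (compl_subset_orbF K o ho hE p hp)
      (by rw [h16, card_compl_octad o ho])
  have h2 : ∀ k ∈ K, ∀ q, k q ∈ oᶜ ↔ q ∈ oᶜ := by
    rw [h1]
    exact fun k hk q => orbF_inv hk q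
  have h3 := compl_inv h2
  rw [compl_compl] at h3
  exact h3

/-- Elements of order seven and orbit lengths. -/
theorem seven_mod (K : Subgroup (Equiv.Perm GolayPt)) (hK : K ≤ M24) (h7 : 7 ∣ Nat.card K) :
    ∃ F : Finset GolayPt, F.card = 3 ∧ (∀ x, (∀ k ∈ K, k x = x) → x ∈ F) ∧
      ∀ D : Finset GolayPt, (∀ k ∈ K, ∀ q, k q ∈ D ↔ q ∈ D) →
        D.card % 7 = (D ∩ F).card % 7 := by
  classical
  haveI : Fact (Nat.Prime 7) := ⟨by norm_num⟩
  obtain ⟨a, aK, ap, ale, amod⟩ := exists_prime_elt K hK 7 (by norm_num) h7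
  refine ⟨Finset.univ.filter fun q => a q = q, ?_, ?_, ?_⟩
  · have : 24 % 7 = 3 := by norm_num
    omega
  · intro x hx
    rw [Finset.mem_filter]
    exact ⟨Finset.mem_univ _, hx a aK⟩
  · intro D hD
    rw [inv_card_mod hD 7 aK ap]
    congr 2
    ext q
    simp only [Finset.mem_filter, Finset.mem_inter, Finset.mem_univ, true_and]

theorem inter_card_le_of_notMem {D F : Finset GolayPt} {x : GolayPt} (hxF : x ∈ F)
    (hxD : x ∉ D) : (D ∩ F).card + 1 ≤ F.card := by
  classical
  have h1 : D ∩ F ⊆ F.erase x := by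
    intro q hq
    rw [Finset.mem_inter] at hq
    rw [Finset.mem_erase]
    refine ⟨?_, hq.2⟩
    rintro rfl
    exact hxD hq.1
  have h2 := Finset.card_le_card h1
  rw [Finset.card_erase_of_mem hxF] at h2
  have : 0 < F.card := Finset.card_pos.2 ⟨x, hxF⟩
  omega

/-- The orbit of a point under a group fixing another point does not contain the latter. -/
theorem notMem_orbF_of_fixed {K : Subgroup (Equiv.Perm GolayPt)} {x p : GolayPt}
    (hx : ∀ k ∈ K, k x = x) (hpx : p ≠ x) : x ∉ orbF K p := by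
  intro h
  obtain ⟨k, hk, hkp⟩ := mem_orbF.1 h
  have : k p = k x := by rw [hkp, hx k hk]
  exact hpx (k.injective this)

theorem orbF_card_le_of_fixed {K : Subgroup (Equiv.Perm GolayPt)} {x p : GolayPt}
    (hx : ∀ k ∈ K, k x = x) (hpx : p ≠ x) : (orbF K p).card ≤ 23 := by
  classical
  have : orbF K p ⊆ Finset.univ.erase x := by
    intro q hq
    rw [Finset.mem_erase]
    refine ⟨?_, Finset.mem_univ _⟩
    rintro rfl
    exact notMem_orbF_of_fixed hx hpx hq
  refine (Finset.card_le_card this).trans ?_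
  rw [Finset.card_erase_of_mem (Finset.mem_univ _), card_golay_univ]

theorem fix_iff_of_fix {k : Equiv.Perm GolayPt} {x : GolayPt} (hkx : k x = x) (q : GolayPt) :
    k q = x ↔ q = x := by
  constructor
  · intro h
    apply k.injective
    rw [h, hkx]
  · rintro rfl
    exact hkx

/-- The stabiliser of a set of points, inside the group of the code and as a group of
permutations. -/
theorem card_stabilizer_eq_octStab (B : Finset GolayPt) :
    Nat.card (MulAction.stabilizer M24 B) = Nat.card (octStab B) := by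
  apply Nat.card_congr
  exact
    { toFun := fun g => ⟨g.1.1, g.1.2, MulAction.mem_stabilizer_iff.2
        (MulAction.mem_stabilizer_iff.1 g.2)⟩
      invFun := fun g => ⟨⟨g.1, g.2.1⟩, MulAction.mem_stabilizer_iff.2
        (MulAction.mem_stabilizer_iff.1 g.2.2)⟩
      left_inv := fun _ => rfl
      right_inv := fun _ => rfl }

theorem idx759_main (K : Subgroup (Equiv.Perm GolayPt)) (hK : K ≤ M24)
    (hcard : Nat.card K = 322560) :
    ∃ o ∈ octads, ∀ k ∈ K, ∀ q, k q ∈ o ↔ q ∈ o := by
  classical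
  obtain ⟨o, ho, hE⟩ := exists_octad_pointwise_le K hK (by rw [hcard]; norm_num)
  refine ⟨o, ho, ?_⟩
  obtain ⟨p₀, hp₀, -⟩ := exists_fixing o ho
  obtain ⟨F, hF3, -, hFmod⟩ := seven_mod K hK (by rw [hcard]; norm_num)
  have hsub := compl_subset_orbF K o ho hE p₀ hp₀
  have hDinv : ∀ k ∈ K, ∀ q, k q ∈ orbF K p₀ ↔ q ∈ orbF K p₀ := fun k hk q => orbF_inv hk q
  have h1 := hFmod _ hDinv
  have h2 : ((orbF K p₀) ∩ F).card ≤ 3 := by
    rw [← hF3]; exact Finset.card_le_card Finset.inter_subset_right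
  have h3 : 16 ≤ (orbF K p₀).card := by
    rw [← card_compl_octad o ho]; exact Finset.card_le_card hsub
  have h4 := orbF_card_le K p₀
  have h5 := card_orbF_mul K p₀
  rw [hcard] at h5
  obtain ⟨n, hn⟩ : ∃ n, (orbF K p₀).card = n := ⟨_, rfl⟩
  obtain ⟨f, hf⟩ : ∃ f, ((orbF K p₀) ∩ F).card = f := ⟨_, rfl⟩
  obtain ⟨c, hc⟩ : ∃ c, Nat.card (pstab K p₀) = c := ⟨_, rfl⟩
  rw [hn, hf] at h1
  rw [hf] at h2
  rw [hn] at h3 h4
  rw [hn, hc] at h5
  have hn3 : n = 16 ∨ n = 21 ∨ n = 24 := by
    interval_cases n <;> omega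
  rcases hn3 with hn16 | hn21 | hn24
  · exact octad_inv_of_card K o ho hE p₀ hp₀ (hn.trans hn16)
  · exfalso
    have hs3 : ((orbF K p₀)ᶜ).card = 3 := by
      rw [Finset.card_compl, hn, hn21, Fintype.card_option, ZMod.card]
    have h6 := card_mul_le_of_setwise K hK ((orbF K p₀)ᶜ) ∅ (compl_inv hDinv)
      (fun _ _ q hq => absurd hq (Finset.notMem_empty q)) 3
      (by rw [Finset.union_empty]; exact hs3) (by norm_num)
    rw [hs3, hcard] at h6
    have h7 : Nat.descFactorial 24 3 = 12144 := by decide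
    have h8 : Nat.factorial 3 = 6 := by decide
    rw [h7, h8] at h6
    omega
  · exfalso
    have htrans := trans_of_orbF_card (hn.trans hn24)
    obtain ⟨x, hxo⟩ : o.Nonempty := by
      rw [← Finset.card_pos, ho.2]; norm_num
    have hst : Nat.card (pstab K x) = 13440 := by
      have := card_pstab_of_trans htrans x
      omega
    have hKxM : pstab K x ≤ M24 := le_trans (pstab_le K x) hK
    have hEx : ∀ e ∈ M24, (∀ y ∈ o, e y = y) → e ∈ pstab K x :=
      fun e he hfix => mem_pstab.2 ⟨hE e he hfix, hfix x hxo⟩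
    have hxfix : ∀ k ∈ pstab K x, k x = x := fun k hk => (mem_pstab.1 hk).2
    have hp₀x : p₀ ≠ x := fun h => hp₀ (h ▸ hxo)
    obtain ⟨F', hF'3, hxF', hF'mod⟩ := seven_mod (pstab K x) hKxM (by rw [hst]; norm_num)
    have hsub' := compl_subset_orbF (pstab K x) o ho hEx p₀ hp₀
    have hD'inv : ∀ k ∈ pstab K x, ∀ q, k q ∈ orbF (pstab K x) p₀ ↔ q ∈ orbF (pstab K x) p₀ :=
      fun k hk q => orbF_inv hk q
    have g1 := hF'mod _ hD'inv
    have g2 := inter_card_le_of_notMem (hxF' x hxfix) (notMem_orbF_of_fixed hxfix hp₀x)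
    rw [hF'3] at g2
    have g3 : 16 ≤ (orbF (pstab K x) p₀).card := by
      rw [← card_compl_octad o ho]; exact Finset.card_le_card hsub'
    have g4 := orbF_card_le_of_fixed hxfix hp₀x
    have g5 := card_orbF_mul (pstab K x) p₀
    rw [hst] at g5
    obtain ⟨n', hn'⟩ : ∃ n', (orbF (pstab K x) p₀).card = n' := ⟨_, rfl⟩
    obtain ⟨f', hf'⟩ : ∃ f', ((orbF (pstab K x) p₀) ∩ F').card = f' := ⟨_, rfl⟩
    obtain ⟨c', hc'⟩ : ∃ c', Nat.card (pstab (pstab K x) p₀) = c' := ⟨_, rfl⟩
    rw [hn', hf'] at g1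
    rw [hf'] at g2
    rw [hn'] at g3 g4
    rw [hn', hc'] at g5
    have hn2 : n' = 16 ∨ n' = 21 := by
      interval_cases n' <;> omega
    rcases hn2 with hn16 | hn21
    · -- the stabiliser of `x` stabilises the octad: a subgroup of index three
      have hinv := octad_inv_of_card (pstab K x) o ho hEx p₀ hp₀ (hn'.trans hn16)
      have hbc := block_card K htrans x o hxo
        (fun k hk hkx => hinv k (mem_pstab.2 ⟨hk, hkx⟩))
        (fun p q hp hq => by
          obtain ⟨g, hg, hfix, hgp⟩ := pointwise_trans o ho p q hp hq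
          exact ⟨g, hE g hg hfix, hfix, hgp⟩)
        (by rw [card_compl_octad o ho, ho.2]; norm_num)
      rw [hst, ho.2] at hbc
      refine octStab_no_small_index o ho
        (K ⊓ MulAction.stabilizer (Equiv.Perm GolayPt) o) (inf_le_inf_right _ hK) ?_ 3
        (by norm_num) (by norm_num) (by rw [hbc])
      intro e he hfix
      exact Subgroup.mem_inf.2 ⟨hE e he hfix, (mem_stab_iff e o).2 (stab_of_pointwise e o hfix)⟩
    · -- the stabiliser of `x` stabilises a pair: a subgroup of index three in a simple group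
      have hc3 : ((orbF (pstab K x) p₀)ᶜ).card = 3 := by
        rw [Finset.card_compl, hn', hn21, Fintype.card_option, ZMod.card]
      have hxc : x ∈ (orbF (pstab K x) p₀)ᶜ :=
        Finset.mem_compl.2 (notMem_orbF_of_fixed hxfix hp₀x)
      have hs2 : (((orbF (pstab K x) p₀)ᶜ).erase x).card = 2 := by
        rw [Finset.card_erase_of_mem hxc, hc3]
      obtain ⟨a, b, hab, hs⟩ := Finset.card_eq_two.1 hs2
      have hsinv : ∀ k ∈ pstab K x, ∀ q, k q ∈ ({a, b} : Finset GolayPt) ↔
          q ∈ ({a, b} : Finset GolayPt) := by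
        intro k hk q
        rw [← hs, Finset.mem_erase, Finset.mem_erase, compl_inv hD'inv k hk q]
        have : k q = x ↔ q = x := by
          constructor
          · intro h
            apply k.injective
            rw [h, hxfix k hk]
          · rintro rfl
            exact hxfix k hk
        rw [ne_eq, ne_eq, this]
      have hax : a ≠ x := by
        have : a ∈ ((orbF (pstab K x) p₀)ᶜ).erase x := by
          rw [hs]; exact Finset.mem_insert_self _ _
        exact (Finset.mem_erase.1 this).1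
      have hbx : b ≠ x := by
        have : b ∈ ((orbF (pstab K x) p₀)ᶜ).erase x := by
          rw [hs]; exact Finset.mem_insert_of_mem (Finset.mem_singleton_self _)
        exact (Finset.mem_erase.1 this).1
      have hfix3 : ∀ g ∈ pstab (pstab K x) a, g ∈ M24 ∧ g x = x ∧ g a = a ∧ g b = b := by
        intro g hg
        obtain ⟨hg1, hga⟩ := mem_pstab.1 hg
        refine ⟨hKxM hg1, hxfix g hg1, hga, ?_⟩
        have h1 := (hsinv g hg1 b).2 (Finset.mem_insert_of_mem (Finset.mem_singleton_self _))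
        rw [Finset.mem_insert, Finset.mem_singleton] at h1
        rcases h1 with h1 | h1
        · exfalso
          rw [← hga] at h1
          exact hab (g.injective h1).symm
        · exact h1
      have hdvd := triple_stab_card_dvd x a b hax.symm hbx.symm hab _ hfix3
      have horb : (orbF (pstab K x) a).card ≤ 2 := by
        have : orbF (pstab K x) a ⊆ {a, b} :=
          orbF_subset hsinv (Finset.mem_insert_self _ _)
        exact (Finset.card_le_card this).trans (by rw [Finset.card_pair hab])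
      have hpos : 0 < (orbF (pstab K x) a).card :=
        Finset.card_pos.2 ⟨a, self_mem_orbF _ a⟩
      have g6 := card_orbF_mul (pstab K x) a
      rw [hst] at g6
      obtain ⟨m, hm⟩ : ∃ m, (orbF (pstab K x) a).card = m := ⟨_, rfl⟩
      obtain ⟨d, hd⟩ : ∃ d, Nat.card (pstab (pstab K x) a) = d := ⟨_, rfl⟩
      rw [hm] at horb hpos
      rw [hm, hd] at g6
      rw [hd] at hdvd
      have hm12 : m = 1 ∨ m = 2 := by omega
      rcases hm12 with rfl | rfl
      · have : d = 13440 := by omega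
        rw [this] at hdvd
        revert hdvd
        decide
      · have : d * 3 = 20160 := by omega
        exact triple_stab_no_index_three x a b hax.symm hbx.symm hab _ hfix3 (hd ▸ this)

end Cfsg.Agent.Lib.helper3
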