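import Mathlib
import Cfsg.Agent.Lib.helper3.M24IdxE
import Cfsg.Agent.S1564
import Cfsg.Agent.S1565

set_option autoImplicit false

/-!
The group of the code has no subgroup of index 253.
-/

namespace Cfsg.Agent.Lib.helper3

open Cfsg Cfsg.Agent.Lib.helper4 Cfsg.Agent.Lib.Helper12.Golay
open scoped Pointwise

theorem idx253_main (K : Subgroup (Equiv.Perm GolayPt)) (hK : K ≤ M24)
    (hcard : Nat.card K = 967680) : False := by
  classical
  obtain ⟨o, ho, hE⟩ := exists_octad_pointwise_le K hK (by rw [hcard]; norm_num)
  obtain ⟨p₀, hp₀, -⟩ := exists_fixing o ho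
  obtain ⟨F, hF3, -, hFmod⟩ := seven_mod K hK (by rw [hcard]; norm_num)
  have hsub := compl_subset_orbF K o ho hE p₀ hp₀
  have hDinv : ∀ k ∈ K, ∀ q, k q ∈ orbF K p₀ ↔ q ∈ orbF K p₀ := fun k hk q => orbF_inv hk q
  have h1 := hFmod _ hDinv
  have h2 : ((orbF K p₀) ∩ F).card ≤ 3 := by
    rw [← hF3]; exact Finset.card_le_card Finset.inter_subset_right
  have h3 : 16 ≤ (orbF K p₀).card := by
    rw [← card_compl_octad o ho]; exact Finset.card_le_card hsub
  have h4 := orbF_card_le K p₀
  have h5 := card_orbF_mul K p₀
  rw [hcard] at h5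
  obtain ⟨n, hn⟩ : ∃ n, (orbF K p₀).card = n := ⟨_, rfl⟩
  obtain ⟨f, hf⟩ : ∃ f, ((orbF K p₀) ∩ F).card = f := ⟨_, rfl⟩
  obtain ⟨c, hc⟩ : ∃ c, Nat.card (pstab K p₀) = c := ⟨_, rfl⟩
  rw [hn, hf] at h1
  rw [hf] at h2
  rw [hn] at h3 h4
  rw [hn, hc] at h5
  have hn3 : n = 16 ∨ n = 21 ∨ n = 24 := by
    interval_cases n <;> omega
  have hd3 : Nat.descFactorial 24 3 = 12144 := by decide
  have hf3 : Nat.factorial 3 = 6 := by decide
  rcases hn3 with hn16 | hn21 | hn24
  · have hinv := octad_inv_of_card K o ho hE p₀ hp₀ (hn.trans hn16)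
    have hle : K ≤ octStab o := fun k hk => ⟨hK hk, (mem_stab_iff k o).2 (hinv k hk)⟩
    haveI : Finite (octStab o) := Subtype.finite
    have h6 := Subgroup.card_le_of_le hle
    rw [card_octStab o ho, hcard] at h6
    omega
  · have hs3 : ((orbF K p₀)ᶜ).card = 3 := by
      rw [Finset.card_compl, hn, hn21, Fintype.card_option, ZMod.card]
    have h6 := card_mul_le_of_setwise K hK ((orbF K p₀)ᶜ) ∅ (compl_inv hDinv)
      (fun _ _ q hq => absurd hq (Finset.notMem_empty q)) 3
      (by rw [Finset.union_empty]; exact hs3) (by norm_num)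
    rw [hs3, hcard, hd3, hf3] at h6
    omega
  · have htrans := trans_of_orbF_card (hn.trans hn24)
    obtain ⟨x, hxo⟩ : o.Nonempty := by
      rw [← Finset.card_pos, ho.2]; norm_num
    have hst : Nat.card (pstab K x) = 40320 := by
      have := card_pstab_of_trans htrans x
      omega
    have hKxM : pstab K x ≤ M24 := le_trans (pstab_le K x) hK
    have hEx : ∀ e ∈ M24, (∀ y ∈ o, e y = y) → e ∈ pstab K x :=
      fun e he hfix => mem_pstab.2 ⟨hE e he hfix, hfix x hxo⟩
    have hxfix : ∀ k ∈ pstab K x, k x = x := fun k hk => (mem_pstab.1 hk).2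
    rcases m23_orbit_main x (pstab K x) hKxM hxfix hst o ho hxo hEx with
      ⟨s, hs2, hxs, hsinv⟩ | hoinv
    · -- the stabiliser of `x` stabilises a pair
      have hle : pstab K x ≤ m23Stab x s :=
        fun k hk => mem_m23Stab.2 ⟨hKxM hk, hxfix k hk, hsinv k hk⟩
      haveI : Finite (m23Stab x s) := Subtype.finite
      have heq : pstab K x = m23Stab x s :=
        Subgroup.eq_of_le_of_card_ge hle (by rw [hst]; exact card_m23Stab_pair x s hs2 hxs)
      obtain ⟨a, b, hab, rfl⟩ := Finset.card_eq_two.1 hs2
      have hxa : x ≠ a := fun h => hxs (h ▸ Finset.mem_insert_self _ _)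
      have hxb : x ≠ b :=
        fun h => hxs (h ▸ Finset.mem_insert_of_mem (Finset.mem_singleton_self _))
      have hBc : (insert x ({a, b} : Finset GolayPt)).card = 3 := by
        rw [Finset.card_insert_of_notMem hxs, hs2]
      have hBinv : ∀ k ∈ K, k x = x → ∀ q, k q ∈ insert x ({a, b} : Finset GolayPt) ↔
          q ∈ insert x ({a, b} : Finset GolayPt) := by
        intro k hk hkx q
        have h1 := hsinv k (mem_pstab.2 ⟨hk, hkx⟩) q
        have h2 := fix_iff_of_fix hkx q
        constructor
        · intro h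
          rcases Finset.mem_insert.1 h with h | h
          · exact Finset.mem_insert.2 (Or.inl (h2.1 h))
          · exact Finset.mem_insert.2 (Or.inr (h1.1 h))
        · intro h
          rcases Finset.mem_insert.1 h with h | h
          · exact Finset.mem_insert.2 (Or.inl (h2.2 h))
          · exact Finset.mem_insert.2 (Or.inr (h1.2 h))
      have hFB : ∀ p q, p ∉ insert x ({a, b} : Finset GolayPt) →
          q ∉ insert x ({a, b} : Finset GolayPt) →
          ∃ e ∈ K, (∀ y ∈ insert x ({a, b} : Finset GolayPt), e y = y) ∧ e p = q := by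
        intro p q hp hq
        simp only [Finset.mem_insert, Finset.mem_singleton, not_or] at hp hq
        obtain ⟨g, g1, g2, g3, g4⟩ := four_trans x a b p x a b q hxa hxb (Ne.symm hp.1) hab
          (Ne.symm hp.2.1) (Ne.symm hp.2.2) hxa hxb (Ne.symm hq.1) hab
          (Ne.symm hq.2.1) (Ne.symm hq.2.2)
        have hgm : (g : Equiv.Perm GolayPt) ∈ m23Stab x {a, b} := by
          refine mem_m23Stab.2 ⟨g.2, g1, ?_⟩
          apply stab_of_pointwise
          intro y hy
          rw [Finset.mem_insert, Finset.mem_singleton] at hy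
          rcases hy with rfl | rfl
          · exact g2
          · exact g3
        refine ⟨g, pstab_le K x (heq ▸ hgm), ?_, g4⟩
        intro y hy
        simp only [Finset.mem_insert, Finset.mem_singleton] at hy
        rcases hy with rfl | rfl | rfl
        · exact g1
        · exact g2
        · exact g3
      have hbc := block_card K htrans x _ (Finset.mem_insert_self _ _) hBinv hFB
        (by rw [Finset.card_compl, hBc, Fintype.card_option, ZMod.card]; norm_num)
      rw [hst, hBc] at hbc
      have hle2 : K ⊓ MulAction.stabilizer (Equiv.Perm GolayPt)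
          (insert x ({a, b} : Finset GolayPt)) ≤ octStab (insert x ({a, b} : Finset GolayPt)) :=
        inf_le_inf_right _ hK
      have hub : Nat.card (octStab (insert x ({a, b} : Finset GolayPt))) ≤ 120960 := by
        have h6 := card_mul_le_of_setwise (octStab (insert x ({a, b} : Finset GolayPt)))
          inf_le_left (insert x ({a, b} : Finset GolayPt)) ∅
          (fun k hk => (mem_stab_iff k _).1 hk.2)
          (fun _ _ q hq => absurd hq (Finset.notMem_empty q)) 3
          (by rw [Finset.union_empty]; exact hBc) (by norm_num)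
        rw [hBc, hd3, hf3] at h6
        omega
      haveI : Finite (octStab (insert x ({a, b} : Finset GolayPt))) := Subtype.finite
      have heq2 := Subgroup.eq_of_le_of_card_ge hle2 (by rw [hbc]; exact hub)
      have hle3 : octStab (insert x ({a, b} : Finset GolayPt)) ≤ K := heq2 ▸ inf_le_left
      rcases card_of_coatom_le _ (Cfsg.Agent.S1564.result _ hBc) K hK hle3 with h | h
      · rw [hcard] at h; omega
      · rw [hcard] at h; omega
    · -- the stabiliser of `x` stabilises the octad
      have hbc := block_card K htrans x o hxo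
        (fun k hk hkx => hoinv k (mem_pstab.2 ⟨hk, hkx⟩))
        (fun p q hp hq => by
          obtain ⟨g, hg, hfix, hgp⟩ := pointwise_trans o ho p q hp hq
          exact ⟨g, hE g hg hfix, hfix, hgp⟩)
        (by rw [card_compl_octad o ho, ho.2]; norm_num)
      rw [hst, ho.2] at hbc
      have hle2 : K ⊓ MulAction.stabilizer (Equiv.Perm GolayPt) o ≤ octStab o :=
        inf_le_inf_right _ hK
      haveI : Finite (octStab o) := Subtype.finite
      have heq2 := Subgroup.eq_of_le_of_card_ge hle2 (by rw [hbc, card_octStab o ho])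
      have hle3 : octStab o ≤ K := heq2 ▸ inf_le_left
      rcases card_of_coatom_le _ (Cfsg.Agent.S1565.result o ho) K hK hle3 with h | h
      · rw [hcard, card_octStab o ho] at h; omega
      · rw [hcard] at h; omega

end Cfsg.Agent.Lib.helper3
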