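import Mathlib
import Cfsg.Agent.Lib.helper3.M24IdxE
import Cfsg.Agent.Lib.helper4.SextetKerC

set_option autoImplicit false

/-!
Subgroups of index 1771 of the group of the code stabilise a sextet.
-/

namespace Cfsg.Agent.Lib.helper3

open Cfsg Cfsg.Agent.Lib.helper4 Cfsg.Agent.Lib.Helper12.Golay
open scoped Pointwise

/-- A group stabilising a subset of at least five points of an octad stabilises the octad. -/
theorem octad_inv_of_subset (K : Subgroup (Equiv.Perm GolayPt)) (hK : K ≤ M24)
    (o : Finset GolayPt) (ho : o ∈ octads) (s : Finset GolayPt) (hso : s ⊆ o) (hs5 : 5 ≤ s.card)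
    (hsinv : ∀ k ∈ K, ∀ q, k q ∈ s ↔ q ∈ s) : ∀ k ∈ K, ∀ q, k q ∈ o ↔ q ∈ o := by
  classical
  obtain ⟨t, hts, ht5⟩ := Finset.exists_subset_card_eq hs5
  obtain ⟨b, ⟨hb, htb⟩, huniq⟩ := octads_steiner.2 t ht5
  intro k hk
  have h1 : k • o ∈ octads := smul_mem_octads (hK hk) ho
  have h2 : t ⊆ k • o := by
    intro q hq
    have hqs := hts hq
    rw [← Finset.inv_smul_mem_iff]
    apply hso
    have h3 : k (k⁻¹ • q) = q := perm_apply_inv k q
    exact (hsinv k hk (k⁻¹ • q)).1 (by rw [h3]; exact hqs)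
  have h3 : k • o = b := huniq _ ⟨h1, h2⟩
  have h4 : o = b := huniq _ ⟨ho, hts.trans hso⟩
  have h5 : k • o = o := h3.trans h4.symm
  exact (mem_stab_iff k o).1 (MulAction.mem_stabilizer_iff.2 h5)

theorem orbF_card_le_of_octad_inv (K : Subgroup (Equiv.Perm GolayPt)) (o : Finset GolayPt)
    (ho : o ∈ octads) (hinv : ∀ k ∈ K, ∀ q, k q ∈ o ↔ q ∈ o) (p : GolayPt) (hp : p ∉ o) :
    (orbF K p).card ≤ 16 := by
  rw [← card_compl_octad o ho]
  exact Finset.card_le_card (orbF_subset (compl_inv hinv) (Finset.mem_compl.2 hp))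

theorem mem_sextetOf_of_union {T T' : Finset GolayPt} (hT' : T'.card = 4) (hd : Disjoint T T')
    (hu : T ∪ T' ∈ octads) : T' ∈ sextetOf (ind T) := by
  classical
  obtain ⟨w, hw, hws, -⟩ := (mem_octads_iff _).1 hu
  have hw2 : w = ind T - ind T' := by
    apply support₂_injective
    rw [support₂_sub_of_disjoint (by rw [support₂_ind, support₂_ind]; exact hd), support₂_ind,
      support₂_ind, hws]
  unfold sextetOf
  rw [Finset.mem_image]
  refine ⟨ind T', ?_, support₂_ind T'⟩
  rw [mem_N4]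
  exact ⟨by rw [hammingNorm_ind, hT'], hw2 ▸ hw⟩

theorem sextet_of_tetrad_block (K : Subgroup (Equiv.Perm GolayPt)) (hK : K ≤ M24)
    (htrans : ∀ a b, ∃ k ∈ K, k a = b) (x : GolayPt) (hst : Nat.card (pstab K x) = 5760)
    (T : Finset GolayPt) (hT4 : T.card = 4) (hxT : x ∈ T)
    (hTinv : ∀ k ∈ pstab K x, ∀ q, k q ∈ T ↔ q ∈ T) :
    ∃ S ∈ sextets, ∀ k ∈ K, k • S = S := by
  classical
  -- the stabiliser of `x` is the full stabiliser of `x` and `T`
  set P := pstab (octStab T) x with hP
  have hPM : P ≤ M24 := (pstab_le _ x).trans inf_le_left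
  have hKP : pstab K x ≤ P := by
    intro k hk
    rw [hP, mem_pstab]
    exact ⟨⟨hK (pstab_le K x hk), (mem_stab_iff k T).2 (hTinv k hk)⟩, (mem_pstab.1 hk).2⟩
  have hPcard : Nat.card P ≤ 5760 := by
    have h6 := card_mul_le_of_setwise P hPM (T.erase x) {x}
      (by
        intro k hk q
        obtain ⟨hk1, hkx⟩ := mem_pstab.1 hk
        rw [Finset.mem_erase, Finset.mem_erase, (mem_stab_iff k T).1 hk1.2 q, ne_eq, ne_eq,
          fix_iff_of_fix hkx])
      (by
        intro k hk q hq
        rw [Finset.mem_singleton] at hq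
        rw [hq]
        exact (mem_pstab.1 hk).2) 4
      (by rw [Finset.union_comm, ← Finset.insert_eq, Finset.insert_erase hxT]; exact hT4)
      (by norm_num)
    rw [Finset.card_erase_of_mem hxT, hT4] at h6
    have h7 : Nat.descFactorial 24 4 = 255024 := by decide
    have h8 : Nat.factorial (4 - 1) = 6 := by decide
    rw [h7, h8] at h6
    omega
  haveI : Finite P := Subtype.finite
  have hKPeq : pstab K x = P := Subgroup.eq_of_le_of_card_ge hKP (by rw [hst]; exact hPcard)
  have hptw : ∀ e ∈ M24, (∀ y ∈ T, e y = y) → e ∈ pstab K x := by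
    intro e he hfix
    rw [hKPeq, hP, mem_pstab]
    exact ⟨⟨he, (mem_stab_iff e T).2 (stab_of_pointwise e T hfix)⟩, hfix x hxT⟩
  -- blocks
  have hB : ∀ k ∈ K, k x = x → ∀ q, k q ∈ T ↔ q ∈ T :=
    fun k hk hkx => hTinv k (mem_pstab.2 ⟨hk, hkx⟩)
  have hF : ∀ p q, p ∉ T → q ∉ T → ∃ e ∈ K, (∀ y ∈ T, e y = y) ∧ e p = q := by
    intro p q hp hq
    obtain ⟨a, b, c, hab, hac, hbc, habc⟩ := Finset.card_eq_three.1
      (show (T.erase x).card = 3 by rw [Finset.card_erase_of_mem hxT, hT4])
    have hTeq : T = insert x {a, b, c} := by rw [← habc, Finset.insert_erase hxT]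
    have hmemT : ∀ y, y ∈ T ↔ y = x ∨ y = a ∨ y = b ∨ y = c := by
      intro y
      rw [hTeq]
      simp only [Finset.mem_insert, Finset.mem_singleton]
    have hxa : x ≠ a := by
      have : a ∈ T.erase x := by rw [habc]; simp
      exact (Finset.mem_erase.1 this).1.symm
    have hxb : x ≠ b := by
      have : b ∈ T.erase x := by rw [habc]; simp
      exact (Finset.mem_erase.1 this).1.symm
    have hxc : x ≠ c := by
      have : c ∈ T.erase x := by rw [habc]; simp
      exact (Finset.mem_erase.1 this).1.symm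
    have hp' := (not_congr (hmemT p)).1 hp
    have hq' := (not_congr (hmemT q)).1 hq
    push_neg at hp' hq'
    obtain ⟨g, g1, g2, g3, g4, g5⟩ := five_trans x a b c p x a b c q hxa hxb hxc
      (Ne.symm hp'.1) hab hac (Ne.symm hp'.2.1) hbc (Ne.symm hp'.2.2.1) (Ne.symm hp'.2.2.2)
      hxa hxb hxc (Ne.symm hq'.1) hab hac (Ne.symm hq'.2.1) hbc (Ne.symm hq'.2.2.1)
      (Ne.symm hq'.2.2.2)
    have hfix : ∀ y ∈ T, (g : Equiv.Perm GolayPt) y = y := by
      intro y hy
      rcases (hmemT y).1 hy with rfl | rfl | rfl | rfl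
      · exact g1
      · exact g2
      · exact g3
      · exact g4
    exact ⟨g, pstab_le K x (hptw g g.2 hfix), hfix, g5⟩
  have hsize : T.card < Tᶜ.card := by
    rw [Finset.card_compl, hT4, Fintype.card_option, ZMod.card]; norm_num
  have hdisj := block_disjoint K htrans x T hxT hB hF hsize
  -- a translate of `T` different from `T` is disjoint from it, and the union is an octad
  have hmain : ∀ k ∈ K, k • T ≠ T → Disjoint T (k • T) ∧ T ∪ k • T ∈ octads := by
    intro k hk hne
    have hd : Disjoint T (k • T) := by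
      rw [Finset.disjoint_left]
      intro q hqT hqk
      obtain ⟨t, ht, rfl⟩ := Finset.mem_smul_finset.1 hqk
      exact hne (hdisj k hk t ht hqT)
    refine ⟨hd, ?_⟩
    have hz : k x ∉ T := fun h => hne (hdisj k hk x hxT h)
    have hU5 : (insert (k x) T).card = 5 := by rw [Finset.card_insert_of_notMem hz, hT4]
    obtain ⟨o2, ⟨ho2, hUo2⟩, -⟩ := octads_steiner.2 _ hU5
    have hTo2 : T ⊆ o2 := (Finset.subset_insert _ _).trans hUo2
    have hzo2 : k x ∈ o2 := hUo2 (Finset.mem_insert_self _ _)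
    have hstab : ∀ e ∈ M24, (∀ y ∈ o2, e y = y) → ∀ q ∈ k • T, e q ∈ k • T := by
      intro e he hfix q hq
      have heK : e ∈ K := pstab_le K x (hptw e he (fun y hy => hfix y (hTo2 hy)))
      have h1 : (k⁻¹ * e * k) x = x := by
        rw [Equiv.Perm.mul_apply, Equiv.Perm.mul_apply, hfix _ hzo2]
        exact perm_inv_apply k x
      have h2 := hB (k⁻¹ * e * k) (K.mul_mem (K.mul_mem (K.inv_mem hk) heK) hk) h1
      rw [← Finset.inv_smul_mem_iff] at hq ⊢
      have h3 := (h2 (k⁻¹ • q)).2 hq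
      rw [Equiv.Perm.mul_apply, Equiv.Perm.mul_apply] at h3
      have h4 : k (k⁻¹ • q) = q := perm_apply_inv k q
      rw [h4] at h3
      exact h3
    have hsub : k • T ⊆ o2 := by
      intro q hq
      by_contra hqo
      have hall : o2ᶜ ⊆ k • T := by
        intro q' hq'
        rw [Finset.mem_compl] at hq'
        obtain ⟨e, he, hfix, heq⟩ := pointwise_trans o2 ho2 q q' hqo hq'
        rw [← heq]
        exact hstab e he hfix q hq
      have := Finset.card_le_card hall
      rw [Finset.card_smul_finset, card_compl_octad o2 ho2, hT4] at this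
      omega
    have : T ∪ k • T = o2 := by
      apply Finset.eq_of_subset_of_card_le (Finset.union_subset hTo2 hsub)
      rw [Finset.card_union_of_disjoint hd, Finset.card_smul_finset, hT4, ho2.2]
    rw [this]
    exact ho2
  -- the sextet of `T`
  have hv : hammingNorm (ind T) = 4 := by rw [hammingNorm_ind, hT4]
  have hTS : T ∈ sextetOf (ind T) := by
    have := mem_sextetOf_self hv
    rwa [support₂_ind] at this
  refine ⟨sextetOf (ind T), sextetOf_mem hv, ?_⟩
  intro k hk
  have hkT : k • T ∈ sextetOf (ind T) := by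
    by_cases h : k • T = T
    · rw [h]; exact hTS
    · obtain ⟨hd, hu⟩ := hmain k hk h
      exact mem_sextetOf_of_union (by rw [Finset.card_smul_finset, hT4]) hd hu
  have h1 : k • sextetOf (ind T) ∈ sextets := smul_sextets (hK hk) (sextetOf_mem hv)
  have h2 : k • T ∈ k • sextetOf (ind T) := Finset.smul_mem_smul_finset hTS
  rw [sextet_unique h1 h2, ← sextet_unique (sextetOf_mem hv) hkT]

theorem idx1771_main (K : Subgroup (Equiv.Perm GolayPt)) (hK : K ≤ M24)
    (hcard : Nat.card K = 138240) : ∃ S ∈ sextets, ∀ k ∈ K, k • S = S := by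
  classical
  obtain ⟨o, ho, hE⟩ := exists_octad_pointwise_le K hK (by rw [hcard]; norm_num)
  obtain ⟨p₀, hp₀, -⟩ := exists_fixing o ho
  have hsub := compl_subset_orbF K o ho hE p₀ hp₀
  have hDinv : ∀ k ∈ K, ∀ q, k q ∈ orbF K p₀ ↔ q ∈ orbF K p₀ := fun k hk q => orbF_inv hk q
  have h3 : 16 ≤ (orbF K p₀).card := by
    rw [← card_compl_octad o ho]; exact Finset.card_le_card hsub
  have h4 := orbF_card_le K p₀
  have h5 := card_orbF_mul K p₀
  rw [hcard] at h5
  obtain ⟨n, hn⟩ : ∃ n, (orbF K p₀).card = n := ⟨_, rfl⟩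
  obtain ⟨c, hc⟩ : ∃ c, Nat.card (pstab K p₀) = c := ⟨_, rfl⟩
  rw [hn] at h3 h4
  rw [hn, hc] at h5
  have hn4 : n = 16 ∨ n = 18 ∨ n = 20 ∨ n = 24 := by
    interval_cases n <;> omega
  have hd4 : Nat.descFactorial 24 4 = 255024 := by decide
  have hf4 : Nat.factorial 4 = 24 := by decide
  rcases hn4 with hn16 | hn18 | hn20 | hn24
  · exfalso
    have hinv := octad_inv_of_card K o ho hE p₀ hp₀ (hn.trans hn16)
    have hle : K ≤ octStab o := fun k hk => ⟨hK hk, (mem_stab_iff k o).2 (hinv k hk)⟩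
    have h6 := Subgroup.card_dvd_of_le hle
    rw [card_octStab o ho, hcard] at h6
    revert h6
    decide
  · exfalso
    have hs6 : ((orbF K p₀)ᶜ).card = 6 := by
      rw [Finset.card_compl, hn, hn18, Fintype.card_option, ZMod.card]
    have hso : (orbF K p₀)ᶜ ⊆ o := by
      intro q hq
      by_contra h
      exact (Finset.mem_compl.1 hq) (hsub (Finset.mem_compl.2 h))
    have hinv := octad_inv_of_subset K hK o ho _ hso (by rw [hs6]; norm_num) (compl_inv hDinv)
    have h6 := orbF_card_le_of_octad_inv K o ho hinv p₀ hp₀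
    omega
  · exfalso
    have hs4 : ((orbF K p₀)ᶜ).card = 4 := by
      rw [Finset.card_compl, hn, hn20, Fintype.card_option, ZMod.card]
    have h6 := card_mul_le_of_setwise K hK ((orbF K p₀)ᶜ) ∅ (compl_inv hDinv)
      (fun _ _ q hq => absurd hq (Finset.notMem_empty q)) 4
      (by rw [Finset.union_empty]; exact hs4) (by norm_num)
    rw [hs4, hcard, hd4, hf4] at h6
    omega
  · have htrans := trans_of_orbF_card (hn.trans hn24)
    obtain ⟨x, hxo⟩ : o.Nonempty := by
      rw [← Finset.card_pos, ho.2]; norm_num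
    have hst : Nat.card (pstab K x) = 5760 := by
      have := card_pstab_of_trans htrans x
      omega
    have hKxM : pstab K x ≤ M24 := le_trans (pstab_le K x) hK
    have hEx : ∀ e ∈ M24, (∀ y ∈ o, e y = y) → e ∈ pstab K x :=
      fun e he hfix => mem_pstab.2 ⟨hE e he hfix, hfix x hxo⟩
    have hxfix : ∀ k ∈ pstab K x, k x = x := fun k hk => (mem_pstab.1 hk).2
    have hp₀x : p₀ ≠ x := fun h => hp₀ (h ▸ hxo)
    have hsub' := compl_subset_orbF (pstab K x) o ho hEx p₀ hp₀
    have hD'inv : ∀ k ∈ pstab K x, ∀ q, k q ∈ orbF (pstab K x) p₀ ↔ q ∈ orbF (pstab K x) p₀ :=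
      fun k hk q => orbF_inv hk q
    have g3 : 16 ≤ (orbF (pstab K x) p₀).card := by
      rw [← card_compl_octad o ho]; exact Finset.card_le_card hsub'
    have g4 := orbF_card_le_of_fixed hxfix hp₀x
    have g5 := card_orbF_mul (pstab K x) p₀
    rw [hst] at g5
    obtain ⟨n', hn'⟩ : ∃ n', (orbF (pstab K x) p₀).card = n' := ⟨_, rfl⟩
    obtain ⟨c', hc'⟩ : ∃ c', Nat.card (pstab (pstab K x) p₀) = c' := ⟨_, rfl⟩
    rw [hn'] at g3 g4
    rw [hn', hc'] at g5
    have hn3 : n' = 16 ∨ n' = 18 ∨ n' = 20 := by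
      interval_cases n' <;> omega
    have hxc : x ∈ (orbF (pstab K x) p₀)ᶜ :=
      Finset.mem_compl.2 (notMem_orbF_of_fixed hxfix hp₀x)
    rcases hn3 with hn16 | hn18 | hn20
    · exfalso
      have hinv := octad_inv_of_card (pstab K x) o ho hEx p₀ hp₀ (hn'.trans hn16)
      have hbc := block_card K htrans x o hxo
        (fun k hk hkx => hinv k (mem_pstab.2 ⟨hk, hkx⟩))
        (fun p q hp hq => by
          obtain ⟨g, hg, hfix, hgp⟩ := pointwise_trans o ho p q hp hq
          exact ⟨g, hE g hg hfix, hfix, hgp⟩)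
        (by rw [card_compl_octad o ho, ho.2]; norm_num)
      rw [hst, ho.2] at hbc
      refine octStab_no_small_index o ho
        (K ⊓ MulAction.stabilizer (Equiv.Perm GolayPt) o) (inf_le_inf_right _ hK) ?_ 7
        (by norm_num) (by norm_num) (by rw [hbc])
      intro e he hfix
      exact Subgroup.mem_inf.2 ⟨hE e he hfix, (mem_stab_iff e o).2 (stab_of_pointwise e o hfix)⟩
    · exfalso
      have hs6 : ((orbF (pstab K x) p₀)ᶜ).card = 6 := by
        rw [Finset.card_compl, hn', hn18, Fintype.card_option, ZMod.card]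
      have hso : (orbF (pstab K x) p₀)ᶜ ⊆ o := by
        intro q hq
        by_contra h
        exact (Finset.mem_compl.1 hq) (hsub' (Finset.mem_compl.2 h))
      have hinv := octad_inv_of_subset (pstab K x) hKxM o ho _ hso (by rw [hs6]; norm_num)
        (compl_inv hD'inv)
      have h6 := orbF_card_le_of_octad_inv (pstab K x) o ho hinv p₀ hp₀
      omega
    · have hs4 : ((orbF (pstab K x) p₀)ᶜ).card = 4 := by
        rw [Finset.card_compl, hn', hn20, Fintype.card_option, ZMod.card]
      exact sextet_of_tetrad_block K hK htrans x hst _ hs4 hxc (compl_inv hD'inv)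

end Cfsg.Agent.Lib.helper3
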