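import Mathlib

set_option autoImplicit false

namespace Cfsg.Agent.Lib.helper3

open Subgroup

/-- conjugation relation `u a u⁻¹ = a ^ s` propagated to powers -/
theorem pow_conj_pow {G : Type*} [Group G] (a u : G) (s : ℕ) (h : u * a * u⁻¹ = a ^ s)
    (j m : ℕ) : u ^ j * a ^ m = a ^ (s ^ j * m) * u ^ j := by
  have h1 : ∀ m : ℕ, u * a ^ m = a ^ (s * m) * u := by
    intro m
    have : (u * a * u⁻¹) ^ m = u * a ^ m * u⁻¹ := conj_pow
    rw [h, ← pow_mul] at this
    rw [this]
    group
  induction j generalizing m with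
  | zero => simp
  | succ j ih =>
    rw [pow_succ', mul_assoc, ih, ← mul_assoc, h1, mul_assoc, pow_succ' s j, mul_assoc]

/-- coatoms of the lattice of subgroups of a subgroup -/
theorem isCoatom_subgroupOf {G : Type*} [Group G] {H M : Subgroup G} (hle : H ≤ M) (hne : H ≠ M)
    (hmax : ∀ K : Subgroup G, H ≤ K → K ≤ M → K = H ∨ K = M) : IsCoatom (H.subgroupOf M) := by
  refine ⟨?_, ?_⟩
  · rw [Ne, subgroupOf_eq_top]
    exact fun h => hne (le_antisymm hle h)
  · intro b hb
    have hK1 : b.map M.subtype ≤ M := map_subtype_le b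
    have hK2 : H ≤ b.map M.subtype := by
      rw [← map_subgroupOf_eq_of_le hle]
      exact map_mono hb.le
    have hb' : b = (b.map M.subtype).subgroupOf M := by
      rw [subgroupOf, comap_map_eq_self_of_injective M.subtype_injective]
    rcases hmax _ hK2 hK1 with h | h
    · exfalso
      rw [h] at hb'
      exact hb.ne hb'.symm
    · rw [hb', h]
      exact subgroupOf_self M

/-- cardinality of `H.subgroupOf K` -/
theorem card_subgroupOf_eq_inf {G : Type*} [Group G] (H K : Subgroup G) :
    Nat.card (H.subgroupOf K) = Nat.card (H ⊓ K : Subgroup G) := by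
  rw [← inf_subgroupOf_right H K]
  exact Nat.card_congr (subgroupOfEquivOfLe inf_le_right).toEquiv

/-- Sylow counting for a prime dividing the group order exactly once -/
theorem sylow_count_of_sq_not_dvd {G : Type*} [Group G] [Finite G] (p : ℕ) [hp : Fact p.Prime]
    (hG : ¬ p ^ 2 ∣ Nat.card G) (P K : Subgroup G) (hP : Nat.card P = p) (hPK : P ≤ K) :
    ∃ n : ℕ, n % p = 1 ∧ Nat.card K = Nat.card (normalizer (P : Set G) ⊓ K : Subgroup G) * n := by
  have hPK' : Nat.card (P.subgroupOf K) = p := by
    rw [card_subgroupOf_eq_inf, inf_eq_left.mpr hPK, hP]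
  have hpg : IsPGroup p (P.subgroupOf K) := IsPGroup.of_card (n := 1) (by rw [hPK', pow_one])
  obtain ⟨S, hS⟩ := hpg.exists_le_sylow
  have hScard : Nat.card S = p := by
    obtain ⟨k, hk⟩ := (IsPGroup.iff_card.mp S.isPGroup')
    have hdvd : p ^ k ∣ Nat.card G := by
      rw [← hk]
      exact (card_subgroup_dvd_card (S : Subgroup K)).trans (card_subgroup_dvd_card K)
    have hk1 : k ≤ 1 := by
      by_contra hcon
      push Not at hcon
      exact hG ((pow_dvd_pow p hcon).trans hdvd)
    have hle : Nat.card (P.subgroupOf K) ≤ Nat.card S := card_le_of_le hS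
    rw [hPK', hk] at hle
    interval_cases k
    · rw [pow_zero] at hle
      exact absurd hle (by have := hp.out.one_lt; omega)
    · rw [hk, pow_one]
  have hSeq : P.subgroupOf K = (S : Subgroup K) :=
    eq_of_le_of_card_ge hS (by rw [hScard, hPK'])
  refine ⟨Nat.card (Sylow p K), ?_, ?_⟩
  · have := card_sylow_modEq_one p K
    rw [Nat.ModEq, Nat.mod_eq_of_lt hp.out.one_lt] at this
    exact this
  · have e : normalizer (S : Set K) = normalizer ((P.subgroupOf K : Subgroup K) : Set K) := by
      rw [hSeq]; rfl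
    rw [S.card_eq_index_normalizer, e, ← subgroupOf_normalizer_eq hPK,
      ← card_subgroupOf_eq_inf]
    exact (card_mul_index _).symm

/-- in a finite group, an element mapping a subgroup into itself by conjugation normalises it -/
theorem mem_normalizer_of_conj_mem {G : Type*} [Group G] [Finite G] (P : Subgroup G) (g : G)
    (h : ∀ x ∈ P, g * x * g⁻¹ ∈ P) : g ∈ normalizer (P : Set G) := by
  have hk : ∀ k : ℕ, ∀ x ∈ P, g ^ k * x * (g ^ k)⁻¹ ∈ P := by
    intro k
    induction k with
    | zero => intro x hx; simpa using hx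
    | succ k ih =>
      intro x hx
      have := h _ (ih x hx)
      rw [pow_succ']
      convert this using 1
      group
  rw [mem_normalizer_iff]
  intro x
  refine ⟨h x, fun hx => ?_⟩
  have hg : g ^ (orderOf g - 1) = g⁻¹ := by
    have hpos : 0 < orderOf g := orderOf_pos g
    rw [eq_inv_iff_mul_eq_one, ← pow_succ, Nat.sub_add_cancel hpos, pow_orderOf_eq_one]
  have := hk (orderOf g - 1) _ hx
  rw [hg] at this
  convert this using 1
  group

theorem mem_normalizer_zpowers {G : Type*} [Group G] [Finite G] (a g : G)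
    (h : g * a * g⁻¹ ∈ zpowers a) : g ∈ normalizer (zpowers a : Set G) := by
  apply mem_normalizer_of_conj_mem
  intro x hx
  obtain ⟨z, rfl⟩ := mem_zpowers_iff.mp hx
  have : g * a ^ z * g⁻¹ = (g * a * g⁻¹) ^ z := (conj_zpow).symm
  rw [this]
  exact zpow_mem h z

/-- a subgroup all of whose elements are `a ^ i * u ^ j`, with `a`, `u` of coprime orders -/
theorem card_eq_mul_of_forms {G : Type*} [Group G] [Finite G] (S : Subgroup G) (a u : G)
    (p q : ℕ) (ha : a ∈ S) (hu : u ∈ S) (hoa : orderOf a = p) (hou : orderOf u = q)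
    (hpq : Nat.Coprime p q) (hform : ∀ n ∈ S, ∃ i j : ℕ, n = a ^ i * u ^ j) :
    Nat.card S = p * q := by
  have hp : 0 < p := hoa ▸ orderOf_pos a
  have hq : 0 < q := hou ▸ orderOf_pos u
  have hdvd : p * q ∣ Nat.card S := by
    apply hpq.mul_dvd_of_dvd_of_dvd
    · rw [← hoa]
      have := orderOf_dvd_natCard (⟨a, ha⟩ : S)
      rwa [Subgroup.orderOf_mk] at this
    · rw [← hou]
      have := orderOf_dvd_natCard (⟨u, hu⟩ : S)
      rwa [Subgroup.orderOf_mk] at this
  have hle : Nat.card S ≤ p * q := by
    choose! fi fj hf using hform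
    let g : S → Fin p × Fin q := fun n =>
      (⟨fi n % p, Nat.mod_lt _ hp⟩, ⟨fj n % q, Nat.mod_lt _ hq⟩)
    have hg : Function.Injective g := by
      intro x y hxy
      have h1 : fi x % p = fi y % p := congrArg (fun t => (t.1 : ℕ)) hxy
      have h2 : fj x % q = fj y % q := congrArg (fun t => (t.2 : ℕ)) hxy
      apply Subtype.ext
      rw [hf x x.2, hf y y.2, ← pow_mod_orderOf a (fi x), ← pow_mod_orderOf a (fi y),
        ← pow_mod_orderOf u (fj x), ← pow_mod_orderOf u (fj y), hoa, hou, h1, h2]
    have := Nat.card_le_card_of_injective g hg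
    simpa using this
  exact le_antisymm hle (Nat.le_of_dvd Nat.card_pos hdvd)

end Cfsg.Agent.Lib.helper3
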