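import Mathlib
import Cfsg.Agent.Lib.helper3.MaxTools
import Cfsg.Agent.Lib.helper4.OutMat
import Cfsg.Agent.Lib.helper4.M24Stab

set_option autoImplicit false

namespace Cfsg.Agent.Lib.helper3

open Cfsg Subgroup
open Cfsg.Agent.Lib.helper4
open Cfsg.Agent.Lib.Helper12.Golay

/-! ### The subgroups `23 : 11` and `PSL(2, 23)` of the group of the length-24 code -/

/-- the subgroup `23 : 11` -/
noncomputable def bor23 : Subgroup ↥M24 := closure {gA, gU}
/-- the subgroup `PSL(2, 23)` -/
noncomputable def psl23 : Subgroup ↥M24 := closure {gA, gU, gW}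
/-- the stabiliser of the point at infinity -/
noncomputable def stabInf : Subgroup ↥M24 := MulAction.stabilizer ↥M24 (none : GolayPt)

theorem smul_pt_eq (x : ↥M24) {i : ℕ} (hi : i < 24) :
    x • (pt i) = pt ((tau x).getD i 0) := by
  unfold tau
  rw [tblOf_getD _ hi, pt_idx]
  rfl

theorem mem_stabInf_iff (x : ↥M24) : x ∈ stabInf ↔ (tau x).getD 23 0 = 23 := by
  unfold stabInf
  rw [MulAction.mem_stabilizer_iff]
  have h0 : (none : GolayPt) = pt 23 := rfl
  rw [h0, smul_pt_eq x (by norm_num)]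
  constructor
  · intro h
    have := congrArg idx h
    rwa [idx_pt (tau_getD_lt x 23), idx_pt (by norm_num)] at this
  · intro h
    rw [h]

theorem gA_mem_stabInf : gA ∈ stabInf := by
  rw [mem_stabInf_iff, tau_gA]; decide

theorem gU_mem_stabInf : gU ∈ stabInf := by
  rw [mem_stabInf_iff, tau_gU]; decide

theorem gC_mem_stabInf : gC ∈ stabInf := by
  rw [mem_stabInf_iff, tau_gC]; decide

theorem gW_smul_none : gW • (none : GolayPt) = pt 0 := by
  have h0 : (none : GolayPt) = pt 23 := rfl
  rw [h0, smul_pt_eq gW (by norm_num), tau_gW]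
  rfl

theorem bor23_le_stabInf : bor23 ≤ stabInf := by
  unfold bor23
  rw [closure_le]
  intro x hx
  rcases hx with rfl | rfl
  · exact gA_mem_stabInf
  · exact gU_mem_stabInf

theorem bor23_le_psl23 : bor23 ≤ psl23 := by
  unfold bor23 psl23
  apply Subgroup.closure_mono
  intro x hx
  rcases hx with rfl | rfl
  · exact Set.mem_insert _ _
  · exact Set.mem_insert_of_mem _ (Set.mem_insert _ _)

theorem gA_mem_bor23 : gA ∈ bor23 := subset_closure (Set.mem_insert _ _)
theorem gU_mem_bor23 : gU ∈ bor23 := subset_closure (Set.mem_insert_of_mem _ rfl)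
theorem gW_mem_psl23 : gW ∈ psl23 :=
  subset_closure (Set.mem_insert_of_mem _ (Set.mem_insert_of_mem _ rfl))

/-- elements normalising `⟨gA⟩` -/
theorem norm_gA_form (n : ↥M24) (h : n * gA * n⁻¹ ∈ zpowers gA) :
    ∃ a j : ℕ, n = gA ^ a * gU ^ j := by
  haveI := finite_M24_sub
  by_cases hn : n ∈ zpowers gA
  · obtain ⟨a, ha⟩ := exists_pow_of_mem_zpowers hn
    exact ⟨a, 0, by rw [pow_zero, mul_one, ha]⟩
  · obtain ⟨m, hm⟩ := norm24 n h hn
    obtain ⟨j, hj⟩ := exists_pow_of_mem_zpowers hm
    have h1 : n = (gA ^ m)⁻¹ * gU ^ j * gA ^ m := by rw [hj]; group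
    have h2 : (gA ^ m)⁻¹ = gA ^ (22 * m) := by
      rw [inv_eq_iff_mul_eq_one, ← pow_add, show m + 22 * m = 23 * m by ring, pow_mul, gA_pow,
        one_pow]
    refine ⟨22 * m + 2 ^ j * m, j, ?_⟩
    rw [h1, mul_assoc, pow_conj_pow gA gU 2 gU_gA, h2, ← mul_assoc, ← pow_add]

theorem gA_mem_normA : gA ∈ normalizer (zpowers gA : Set ↥M24) :=
  le_normalizer (mem_zpowers gA)

theorem gU_mem_normA : gU ∈ normalizer (zpowers gA : Set ↥M24) := by
  haveI := finite_M24_sub
  apply mem_normalizer_zpowers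
  rw [gU_gA]
  exact pow_mem (mem_zpowers gA) 2

theorem card_normA : Nat.card (normalizer (zpowers gA : Set ↥M24)) = 253 := by
  haveI := finite_M24_sub
  have := card_eq_mul_of_forms (normalizer (zpowers gA : Set ↥M24)) gA gU 23 11 gA_mem_normA
    gU_mem_normA orderOf_gA orderOf_gU (by norm_num) (fun n hn => norm_gA_form n
      ((mem_normalizer_iff.mp hn gA).mp (mem_zpowers gA)))
  rw [this]

theorem bor23_le_normA : bor23 ≤ normalizer (zpowers gA : Set ↥M24) := by
  unfold bor23
  rw [closure_le]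
  intro x hx
  rcases hx with rfl | rfl
  · exact gA_mem_normA
  · exact gU_mem_normA

theorem card_bor23 : Nat.card bor23 = 253 := by
  haveI := finite_M24_sub
  have := card_eq_mul_of_forms bor23 gA gU 23 11 gA_mem_bor23
    gU_mem_bor23 orderOf_gA orderOf_gU (by norm_num) (fun n hn => norm_gA_form n
      ((mem_normalizer_iff.mp (bor23_le_normA hn) gA).mp (mem_zpowers gA)))
  rw [this]

theorem bor23_eq_normA : bor23 = normalizer (zpowers gA : Set ↥M24) := by
  haveI := finite_M24_sub
  exact eq_of_le_of_card_ge bor23_le_normA (by rw [card_normA, card_bor23])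

end Cfsg.Agent.Lib.helper3
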