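import Mathlib
import Cfsg.Agent.Lib.helper3.M24L23A

set_option autoImplicit false

namespace Cfsg.Agent.Lib.helper3

open Cfsg Subgroup
open Cfsg.Agent.Lib.helper4
open Cfsg.Agent.Lib.Helper12.Golay

/-! ### `23 : 11` is maximal in the point stabiliser -/

/-- the normaliser of `⟨gU⟩` in the stabiliser of the point at infinity -/
noncomputable def normU55 : Subgroup ↥M24 := normalizer (zpowers gU : Set ↥M24) ⊓ stabInf

theorem normU55_form (n : ↥M24) (hn : n ∈ normU55) : ∃ j i : ℕ, n = gC ^ j * gU ^ i := by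
  obtain ⟨h1, h2⟩ := mem_inf.mp hn
  obtain ⟨ε, j, i, h⟩ := normU24 n ((mem_normalizer_iff.mp h1 gU).mp (mem_zpowers gU))
  rw [gW_pow_mod] at h
  have hε : ε % 2 = 0 ∨ ε % 2 = 1 := by omega
  rcases hε with hε | hε
  · rw [hε, pow_zero, one_mul] at h
    exact ⟨j, i, h⟩
  · exfalso
    rw [hε, pow_one] at h
    have h3 : n • (none : GolayPt) = none := h2
    have h4 : (gC ^ j * gU ^ i) • (none : GolayPt) = none :=
      (mul_mem (pow_mem gC_mem_stabInf j) (pow_mem gU_mem_stabInf i) : _ ∈ stabInf)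
    rw [h, mul_assoc, mul_smul, h4, gW_smul_none] at h3
    exact absurd h3 (by decide)

theorem gC_mem_normU55 : gC ∈ normU55 := by
  haveI := finite_M24_sub
  refine mem_inf.mpr ⟨?_, gC_mem_stabInf⟩
  apply mem_normalizer_zpowers
  rw [gC_gU, mul_inv_cancel_right]
  exact pow_mem (mem_zpowers gU) 3

theorem gU_mem_normU55 : gU ∈ normU55 :=
  mem_inf.mpr ⟨le_normalizer (mem_zpowers gU), gU_mem_stabInf⟩

theorem card_normU55 : Nat.card normU55 = 55 := by
  haveI := finite_M24_sub
  have := card_eq_mul_of_forms normU55 gC gU 5 11 gC_mem_normU55 gU_mem_normU55 orderOf_gC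
    orderOf_gU (by norm_num) normU55_form
  rw [this]

theorem arith_key23 : ∀ n ∈ Nat.divisors 40320, n % 23 = 1 →
    ((23 * n) % 11 = 1 ∨ (n % 5 = 0 ∧ (23 * (n / 5)) % 11 = 1)) → n = 1 ∨ n = 40320 := by
  decide +kernel

theorem card_stabInf : Nat.card stabInf = 10200960 := card_M23 none

/-- `23 : 11` is a maximal subgroup of the point stabiliser -/
theorem max_bor23 (K : Subgroup ↥M24) (h1 : bor23 ≤ K) (h2 : K ≤ stabInf) :
    K = bor23 ∨ K = stabInf := by
  haveI := finite_M24_sub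
  haveI : Fact (Nat.Prime 23) := ⟨by norm_num⟩
  haveI : Fact (Nat.Prime 11) := ⟨by norm_num⟩
  obtain ⟨n, hn1, hn2⟩ := sylow_count_of_sq_not_dvd 23 (by rw [card_M24]; norm_num)
    (zpowers gA) K (by rw [Nat.card_zpowers, orderOf_gA])
    ((zpowers_le.mpr gA_mem_bor23).trans h1)
  rw [← bor23_eq_normA, inf_eq_left.mpr h1, card_bor23] at hn2
  obtain ⟨n', hn1', hn2'⟩ := sylow_count_of_sq_not_dvd 11 (by rw [card_M24]; norm_num)
    (zpowers gU) K (by rw [Nat.card_zpowers, orderOf_gU])
    ((zpowers_le.mpr gU_mem_bor23).trans h1)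
  obtain ⟨r, hr⟩ : ∃ r, r = Nat.card (normalizer (zpowers gU : Set ↥M24) ⊓ K : Subgroup ↥M24) :=
    ⟨_, rfl⟩
  rw [← hr] at hn2'
  have hr1 : r ∣ 55 := by
    rw [← card_normU55, hr]
    exact card_dvd_of_le (inf_le_inf_left _ h2)
  have hr2 : 11 ∣ r := by
    have h : zpowers gU ≤ normalizer (zpowers gU : Set ↥M24) ⊓ K :=
      le_inf le_normalizer ((zpowers_le.mpr gU_mem_bor23).trans h1)
    have := card_dvd_of_le h
    rwa [Nat.card_zpowers, orderOf_gU, ← hr] at this
  have hK : Nat.card K ∣ 10200960 := by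
    rw [← card_stabInf]
    exact card_dvd_of_le h2
  have hr3 : r = 11 ∨ r = 55 := by
    have hmem : r ∈ Nat.divisors 55 := Nat.mem_divisors.mpr ⟨hr1, by norm_num⟩
    have hd : Nat.divisors 55 = {1, 5, 11, 55} := by decide
    rw [hd] at hmem
    simp only [Finset.mem_insert, Finset.mem_singleton] at hmem
    rcases hmem with h | h | h | h
    · rw [h] at hr2; omega
    · rw [h] at hr2; omega
    · exact Or.inl h
    · exact Or.inr h
  have hn3 : n ∣ 40320 := by
    rw [hn2] at hK
    have h : 253 * n ∣ 253 * 40320 := by norm_num; exact hK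
    exact Nat.dvd_of_mul_dvd_mul_left (by norm_num) h
  have hcond : (23 * n) % 11 = 1 ∨ (n % 5 = 0 ∧ (23 * (n / 5)) % 11 = 1) := by
    rw [hn2] at hn2'
    rcases hr3 with h | h
    · left
      rw [h] at hn2'
      have : n' = 23 * n := by omega
      rw [← this]; exact hn1'
    · right
      rw [h] at hn2'
      have h5 : n % 5 = 0 := by omega
      refine ⟨h5, ?_⟩
      have : n' = 23 * (n / 5) := by omega
      rw [← this]; exact hn1'
  rcases arith_key23 n (Nat.mem_divisors.mpr ⟨hn3, by norm_num⟩) hn1 hcond with h | h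
  · left
    rw [h] at hn2
    exact (eq_of_le_of_card_ge h1 (by rw [hn2, card_bor23])).symm
  · right
    rw [h] at hn2
    exact eq_of_le_of_card_ge h2 (by rw [hn2, card_stabInf])

end Cfsg.Agent.Lib.helper3
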