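import Mathlib
import Cfsg.Agent.Lib.helper3.M24L23B

set_option autoImplicit false

namespace Cfsg.Agent.Lib.helper3

open Cfsg Subgroup
open Cfsg.Agent.Lib.helper4
open Cfsg.Agent.Lib.Helper12.Golay

/-! ### The double coset decomposition of `PSL(2, 23)` and its maximality -/

/-- translation parts in the double coset identities -/
def brA : List ℕ := [22, 11, 15, 17, 9, 19, 13, 20, 5, 16, 2, 21, 7, 18, 3, 10, 4, 14, 6, 8, 12, 1]
/-- multiplier parts in the double coset identities -/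
def brJ : List ℕ := [0, 9, 6, 7, 10, 4, 3, 5, 1, 8, 2, 2, 8, 1, 5, 3, 4, 10, 7, 6, 9, 0]

set_option maxRecDepth 1000000 in
theorem bruhat_check : ((List.range 22).all fun k =>
    compTbl (compTbl tW24 (Apows23.getD (k + 1) [])) tW24 ==
      compTbl (compTbl (compTbl (Apows23.getD (brA.getD k 0) []) (Upows11.getD (brJ.getD k 0) []))
        tW24) (Apows23.getD (brA.getD k 0) [])) = true := by
  decide +kernel

theorem brA_lt : ∀ k < 22, brA.getD k 0 < 23 := by decide
theorem brJ_lt : ∀ k < 22, brJ.getD k 0 < 11 := by decide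

theorem bruhat_rel (i : ℕ) (h0 : 0 < i) (h1 : i < 23) :
    ∃ a j c : ℕ, gW * gA ^ i * gW = gA ^ a * gU ^ j * gW * gA ^ c := by
  obtain ⟨k, rfl⟩ : ∃ k, i = k + 1 := ⟨i - 1, by omega⟩
  have hk : k < 22 := by omega
  have hc := bruhat_check
  rw [List.all_eq_true] at hc
  have h := hc k (List.mem_range.mpr hk)
  rw [beq_iff_eq] at h
  refine ⟨brA.getD k 0, brJ.getD k 0, brA.getD k 0, ?_⟩
  apply tau_injective
  rw [tau_mul, tau_mul, tau_mul, tau_mul, tau_mul, tau_gW, tau_gA_pow, tau_gA_pow, tau_gU_pow,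
    Nat.mod_eq_of_lt h1, Nat.mod_eq_of_lt (brA_lt k hk), Nat.mod_eq_of_lt (brJ_lt k hk)]
  exact h

/-- membership in the union of the two double cosets -/
def inBr (x : ↥M24) : Prop := x ∈ bor23 ∨ ∃ b ∈ bor23, ∃ c : ℕ, x = b * gW * gA ^ c

theorem inBr_mul_gA_pow (x : ↥M24) (hx : inBr x) (k : ℕ) : inBr (x * gA ^ k) := by
  rcases hx with hx | ⟨b, hb, c, rfl⟩
  · exact Or.inl (mul_mem hx (pow_mem gA_mem_bor23 k))
  · exact Or.inr ⟨b, hb, c + k, by rw [mul_assoc, ← pow_add]⟩

theorem gA_pow_mul_gU (c : ℕ) : gA ^ c * gU = gU * gA ^ (12 * c) := by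
  have h := pow_conj_pow gA gU 2 gU_gA 1 (12 * c)
  rw [pow_one, pow_one] at h
  rw [h]
  congr 1
  rw [show 2 * (12 * c) = 23 * c + c by ring, pow_add, pow_mul, gA_pow, one_pow, one_mul]

theorem inBr_mul_gU (x : ↥M24) (hx : inBr x) : inBr (x * gU) := by
  rcases hx with hx | ⟨b, hb, c, rfl⟩
  · exact Or.inl (mul_mem hx gU_mem_bor23)
  · refine Or.inr ⟨b * gU ^ 10, mul_mem hb (pow_mem gU_mem_bor23 10), 12 * c, ?_⟩
    rw [mul_assoc, gA_pow_mul_gU, ← mul_assoc, mul_assoc b gW gU, gW_gU]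
    group

theorem inBr_mul_gU_pow (x : ↥M24) (hx : inBr x) (k : ℕ) : inBr (x * gU ^ k) := by
  induction k with
  | zero => simpa using hx
  | succ k ih =>
    rw [pow_succ, ← mul_assoc]
    exact inBr_mul_gU _ ih

theorem inBr_mul_gW (x : ↥M24) (hx : inBr x) : inBr (x * gW) := by
  rcases hx with hx | ⟨b, hb, c, rfl⟩
  · exact Or.inr ⟨x, hx, 0, by rw [pow_zero, mul_one]⟩
  · have hmod : gA ^ c = gA ^ (c % 23) := by
      rw [← orderOf_gA]
      exact (pow_mod_orderOf gA c).symm
    have hlt : c % 23 < 23 := Nat.mod_lt _ (by norm_num)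
    rw [hmod]
    rcases Nat.eq_zero_or_pos (c % 23) with h0 | h0
    · left
      rw [h0, pow_zero, mul_one, mul_assoc, gW_sq, mul_one]
      exact hb
    · obtain ⟨a, j, c', h⟩ := bruhat_rel _ h0 hlt
      refine Or.inr ⟨b * gA ^ a * gU ^ j, mul_mem (mul_mem hb (pow_mem gA_mem_bor23 a))
        (pow_mem gU_mem_bor23 j), c', ?_⟩
      have : b * gW * gA ^ (c % 23) * gW = b * (gW * gA ^ (c % 23) * gW) := by group
      rw [this, h]
      group

theorem inBr_of_mem_psl23 (x : ↥M24) (hx : x ∈ psl23) : inBr x := by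
  unfold psl23 at hx
  induction hx using closure_induction_right with
  | one => exact Or.inl (one_mem _)
  | mul_right x _ y hy ih =>
    rcases hy with rfl | rfl | rfl
    · have := inBr_mul_gA_pow x ih 1
      rwa [pow_one] at this
    · exact inBr_mul_gU x ih
    · exact inBr_mul_gW x ih
  | mul_inv_cancel x _ y hy ih =>
    rcases hy with rfl | rfl | rfl
    · have h : (gA : ↥M24)⁻¹ = gA ^ 22 := by
        rw [inv_eq_iff_mul_eq_one, ← pow_succ']
        exact gA_pow
      rw [h]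
      exact inBr_mul_gA_pow x ih 22
    · have h : (gU : ↥M24)⁻¹ = gU ^ 10 := by
        rw [inv_eq_iff_mul_eq_one, ← pow_succ']
        exact gU_pow
      rw [h]
      exact inBr_mul_gU_pow x ih 10
    · have h : (gW : ↥M24)⁻¹ = gW := by
        rw [inv_eq_iff_mul_eq_one]
        exact gW_sq
      rw [h]
      exact inBr_mul_gW x ih

theorem stabInf_inf_psl23 : stabInf ⊓ psl23 = bor23 := by
  apply le_antisymm
  · intro x hx
    obtain ⟨h1, h2⟩ := mem_inf.mp hx
    rcases inBr_of_mem_psl23 x h2 with h | ⟨b, hb, c, rfl⟩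
    · exact h
    · exfalso
      have h3 : (b * gW * gA ^ c) • (none : GolayPt) = none := h1
      have h4 : (gA ^ c) • (none : GolayPt) = none := (pow_mem gA_mem_stabInf c : _ ∈ stabInf)
      have h5 : b • (none : GolayPt) = none := bor23_le_stabInf hb
      rw [mul_smul, mul_smul, h4, gW_smul_none] at h3
      have h6 := MulAction.injective b (h3.trans h5.symm)
      exact absurd h6 (by decide)
  · exact le_inf bor23_le_stabInf bor23_le_psl23

theorem Apows_zero : ∀ i < 23, (Apows23.getD i []).getD 0 0 = i := by decide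

theorem exists_smul_none (H : Subgroup ↥M24) (hH : psl23 ≤ H) (p : GolayPt) :
    ∃ h ∈ H, h • (none : GolayPt) = p := by
  rcases Nat.lt_or_ge (idx p) 23 with hi | hi
  · refine ⟨gA ^ (idx p) * gW, hH (mul_mem (pow_mem (bor23_le_psl23 gA_mem_bor23) _)
      gW_mem_psl23), ?_⟩
    rw [mul_smul, gW_smul_none, smul_pt_eq _ (by norm_num), tau_gA_pow, Nat.mod_eq_of_lt hi,
      Apows_zero _ hi, pt_idx]
  · refine ⟨1, one_mem _, ?_⟩
    rw [one_smul]
    have h1 := idx_lt p
    have h2 : idx p = 23 := by omega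
    rw [← pt_idx p, h2]
    rfl

theorem pretransitive_of_psl23_le (H : Subgroup ↥M24) (hH : psl23 ≤ H) :
    MulAction.IsPretransitive ↥H GolayPt := by
  refine ⟨fun p q => ?_⟩
  obtain ⟨a, ha, hap⟩ := exists_smul_none H hH p
  obtain ⟨b, hb, hbq⟩ := exists_smul_none H hH q
  refine ⟨⟨b * a⁻¹, mul_mem hb (inv_mem ha)⟩, ?_⟩
  change (b * a⁻¹) • p = q
  rw [mul_smul, ← hap, inv_smul_smul, hbq]

theorem card_of_psl23_le (H : Subgroup ↥M24) (hH : psl23 ≤ H) :
    Nat.card H = Nat.card (stabInf ⊓ H : Subgroup ↥M24) * 24 := by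
  haveI := finite_M24_sub
  haveI := pretransitive_of_psl23_le H hH
  have h := card_stabilizer_mul_card (G := ↥H) (none : GolayPt)
  have h24 : Nat.card (Option (ZMod 23)) = 24 := Cfsg.Agent.Lib.helper4.card_golayPt
  rw [h24] at h
  have e : MulAction.stabilizer ↥H (none : GolayPt) = stabInf.subgroupOf H := by
    ext x
    rfl
  rw [e, card_subgroupOf_eq_inf] at h
  exact h.symm

theorem card_psl23 : Nat.card psl23 = 6072 := by
  rw [card_of_psl23_le psl23 le_rfl, stabInf_inf_psl23, card_bor23]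

/-- `PSL(2, 23)` is a maximal subgroup -/
theorem max_psl23 (H : Subgroup ↥M24) (hH : psl23 ≤ H) : H = psl23 ∨ H = ⊤ := by
  haveI := finite_M24_sub
  have hc := card_of_psl23_le H hH
  have h1 : bor23 ≤ stabInf ⊓ H := le_inf bor23_le_stabInf (bor23_le_psl23.trans hH)
  rcases max_bor23 _ h1 inf_le_left with h | h
  · left
    rw [h, card_bor23] at hc
    exact (eq_of_le_of_card_ge hH (by rw [hc, card_psl23])).symm
  · right
    rw [h, card_stabInf] at hc
    apply eq_top_of_card_eq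
    rw [hc, card_M24]

end Cfsg.Agent.Lib.helper3
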