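import Mathlib
import Cfsg.Agent.Lib.helper3.M24L23C
import Cfsg.Agent.Lib.helper3.GolayM24

set_option autoImplicit false

namespace Cfsg.Agent.Lib.helper3

open Cfsg Subgroup
open Cfsg.Agent.Lib.helper4
open Cfsg.Agent.Lib.Helper12.Golay

/-! ### The generating sets of the statement -/

/-- table of the multiplication by `c` -/
def mulTbl (c : ZMod 23) : List ℕ := (List.range 24).map fun i => idx ((pt i).map (c * ·))

theorem mulTbl_sq : ∀ c : ZMod 23, c ≠ 0 → mulTbl (c * c) ∈ Upows11 := by decide +kernel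

theorem tblOf_mulLeft (u : (ZMod 23)ˣ) :
    tblOf (Equiv.optionCongr (Units.mulLeft u)) = mulTbl (u : ZMod 23) := rfl

/-- the set of multiplications by squares -/
def sqSet : Set (Equiv.Perm GolayPt) :=
  {g : Equiv.Perm GolayPt | ∃ u : (ZMod 23)ˣ, IsSquare u ∧ g = Equiv.optionCongr (Units.mulLeft u)}

theorem sqSet_eq_pow (g : Equiv.Perm GolayPt) (hg : g ∈ sqSet) :
    ∃ k : ℕ, g = ((gU ^ k : ↥M24) : Equiv.Perm GolayPt) := by
  haveI : Fact (Nat.Prime 23) := ⟨by norm_num⟩
  obtain ⟨u, ⟨r, rfl⟩, rfl⟩ := hg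
  have h := mulTbl_sq (r : ZMod 23) r.ne_zero
  rw [← Units.val_mul, ← tblOf_mulLeft] at h
  obtain ⟨k, hk⟩ := mem_Upows11 h
  exact ⟨k, tblOf_injective hk⟩

theorem gU_coe_mem_sqSet : ((gU : ↥M24) : Equiv.Perm GolayPt) ∈ sqSet := by
  refine ⟨(⟨5, 14, by decide, by decide⟩ : (ZMod 23)ˣ) * ⟨5, 14, by decide, by decide⟩,
    ⟨_, rfl⟩, ?_⟩
  symm
  change _ = fperm tU24
  exact eq_fperm_of_tblOf (okK_valid out24_basic.2.1) (by rw [tblOf_mulLeft]; decide +kernel)

theorem gA_coe : ((gA : ↥M24) : Equiv.Perm GolayPt) =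
    Equiv.optionCongr (Equiv.addRight (1 : ZMod 23)) := shift_eq.symm

theorem gW_coe : ((gW : ↥M24) : Equiv.Perm GolayPt) = Cfsg.projInv := projInv_eq.symm

theorem closure_psl_eq :
    closure ({Equiv.optionCongr (Equiv.addRight (1 : ZMod 23)), Cfsg.projInv} ∪ sqSet) =
      psl23.map M24.subtype := by
  apply le_antisymm
  · rw [closure_le]
    rintro g (hg | hg)
    · rcases hg with rfl | rfl
      · rw [← gA_coe]
        exact mem_map_of_mem _ (bor23_le_psl23 gA_mem_bor23)
      · rw [← gW_coe]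
        exact mem_map_of_mem _ gW_mem_psl23
    · obtain ⟨k, rfl⟩ := sqSet_eq_pow g hg
      exact mem_map_of_mem _ (pow_mem (bor23_le_psl23 gU_mem_bor23) k)
  · rw [map_le_iff_le_comap]
    unfold psl23
    rw [closure_le]
    intro x hx
    rw [SetLike.mem_coe, mem_comap]
    apply Subgroup.subset_closure
    rcases hx with rfl | rfl | rfl
    · left; left; exact gA_coe
    · right; exact gU_coe_mem_sqSet
    · left; right; exact gW_coe

theorem closure_bor_eq :
    closure ({Equiv.optionCongr (Equiv.addRight (1 : ZMod 23))} ∪ sqSet) =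
      bor23.map M24.subtype := by
  apply le_antisymm
  · rw [closure_le]
    rintro g (hg | hg)
    · rw [Set.mem_singleton_iff.mp hg, ← gA_coe]
      exact mem_map_of_mem _ gA_mem_bor23
    · obtain ⟨k, rfl⟩ := sqSet_eq_pow g hg
      exact mem_map_of_mem _ (pow_mem gU_mem_bor23 k)
  · rw [map_le_iff_le_comap]
    unfold bor23
    rw [closure_le]
    intro x hx
    rw [SetLike.mem_coe, mem_comap]
    apply Subgroup.subset_closure
    rcases hx with rfl | rfl
    · left; exact gA_coe
    · right; exact gU_coe_mem_sqSet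

theorem psl23_isCoatom : IsCoatom psl23 := by
  refine ⟨?_, ?_⟩
  · intro h
    have h1 := card_psl23
    rw [h, card_top, card_M24] at h1
    norm_num at h1
  · intro b hb
    rcases max_psl23 b hb.le with h | h
    · exact absurd h.symm hb.ne
    · exact h

theorem bor23_isCoatom : IsCoatom (bor23.subgroupOf stabInf) := by
  apply isCoatom_subgroupOf bor23_le_stabInf
  · intro h
    have h1 := card_bor23
    rw [h, card_stabInf] at h1
    norm_num at h1
  · exact max_bor23

end Cfsg.Agent.Lib.helper3
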