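import Cfsg.Agent.Lib.helper3.O73CoverRels
import Cfsg.Agent.Lib.helper3.O73TC.PresZ

/-!
The centralised presentation of the orthogonal group `Ω₇(3)` acts on 2160 + 1134 points, and there the central
word `zW` has order six (helper3).
-/

set_option autoImplicit false
set_option maxRecDepth 100000
set_option Elab.async false

namespace Cfsg.Agent.Lib.Helper3.O73Mult

open Cfsg.Agent.Lib.helper23 Cfsg.Agent.Lib.Helper12.TC Cfsg.Agent.Lib.Helper12.TCG
open Cfsg.Agent.Lib.Helper3.PgWords Cfsg.Agent.Lib.Helper3.StemPres Cfsg.Agent.Lib.Helper3.O73TC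
open scoped commutatorElement

theorem gsC_chk : pgAllL gsC (fun P => P.ok 3294) = true := by decide +kernel

theorem gsC_ok : ∀ P ∈ gsC, P.ok 3294 = true := (pgAllL_iff _ _).1 gsC_chk

/-- the letters as permutations of the 3294 points -/
def pvC : ℕ → Equiv.Perm (Fin 3294) := pv 3294 gsC tabC

theorem tabC_length : tabC.length = 14 := rfl

theorem gsC_length : gsC.length = 7 := rfl

theorem wprod_pvC (w : List ℕ) (hw : ∀ s ∈ w, s < 14) :
    wprod pvC w = pgWordPerm 3294 gsC (w.map fun s => tabC.getD s 0) :=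
  wprod_pv 3294 gsC tabC w hw

theorem pvC_ge (s : ℕ) (hs : ¬ s < 14) : pvC s = 1 := by
  unfold pvC pv
  rw [tabC_length, if_neg hs]

theorem inv_letterC (j : ℕ) (hj : j < 7) :
    pgWordPerm 3294 gsC [j + 7] = (pgWordPerm 3294 gsC [j])⁻¹ := by
  have h := wordPerm_inv_letter gsC_ok j (by rw [gsC_length]; exact hj)
  rwa [gsC_length] at h

theorem pvC_inv : ∀ s < 14, pvC (invS Z.cIV s) = (pvC s)⁻¹ := by
  intro s hs
  have hp : ∀ t < 14, pvC t = pgWordPerm 3294 gsC [tabC.getD t 0] := by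
    intro t ht
    unfold pvC pv
    rw [tabC_length, if_pos ht]
  interval_cases s
  · show pvC 1 = (pvC 0)⁻¹
    rw [hp 1 (by decide), hp 0 (by decide)]; exact inv_letterC 0 (by decide)
  · show pvC 0 = (pvC 1)⁻¹
    rw [hp 1 (by decide), hp 0 (by decide)]
    show pgWordPerm 3294 gsC [0] = (pgWordPerm 3294 gsC [0 + 7])⁻¹
    rw [inv_letterC 0 (by decide), inv_inv]
  · show pvC 3 = (pvC 2)⁻¹
    rw [hp 3 (by decide), hp 2 (by decide)]; exact inv_letterC 1 (by decide)
  · show pvC 2 = (pvC 3)⁻¹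
    rw [hp 3 (by decide), hp 2 (by decide)]
    show pgWordPerm 3294 gsC [1] = (pgWordPerm 3294 gsC [1 + 7])⁻¹
    rw [inv_letterC 1 (by decide), inv_inv]
  · show pvC 5 = (pvC 4)⁻¹
    rw [hp 5 (by decide), hp 4 (by decide)]; exact inv_letterC 2 (by decide)
  · show pvC 4 = (pvC 5)⁻¹
    rw [hp 5 (by decide), hp 4 (by decide)]
    show pgWordPerm 3294 gsC [2] = (pgWordPerm 3294 gsC [2 + 7])⁻¹
    rw [inv_letterC 2 (by decide), inv_inv]
  · show pvC 7 = (pvC 6)⁻¹
    rw [hp 7 (by decide), hp 6 (by decide)]; exact inv_letterC 3 (by decide)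
  · show pvC 6 = (pvC 7)⁻¹
    rw [hp 7 (by decide), hp 6 (by decide)]
    show pgWordPerm 3294 gsC [3] = (pgWordPerm 3294 gsC [3 + 7])⁻¹
    rw [inv_letterC 3 (by decide), inv_inv]
  · show pvC 9 = (pvC 8)⁻¹
    rw [hp 9 (by decide), hp 8 (by decide)]; exact inv_letterC 4 (by decide)
  · show pvC 8 = (pvC 9)⁻¹
    rw [hp 9 (by decide), hp 8 (by decide)]
    show pgWordPerm 3294 gsC [4] = (pgWordPerm 3294 gsC [4 + 7])⁻¹
    rw [inv_letterC 4 (by decide), inv_inv]
  · show pvC 11 = (pvC 10)⁻¹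
    rw [hp 11 (by decide), hp 10 (by decide)]; exact inv_letterC 5 (by decide)
  · show pvC 10 = (pvC 11)⁻¹
    rw [hp 11 (by decide), hp 10 (by decide)]
    show pgWordPerm 3294 gsC [5] = (pgWordPerm 3294 gsC [5 + 7])⁻¹
    rw [inv_letterC 5 (by decide), inv_inv]
  · show pvC 13 = (pvC 12)⁻¹
    rw [hp 13 (by decide), hp 12 (by decide)]; exact inv_letterC 6 (by decide)
  · show pvC 12 = (pvC 13)⁻¹
    rw [hp 13 (by decide), hp 12 (by decide)]
    show pgWordPerm 3294 gsC [6] = (pgWordPerm 3294 gsC [6 + 7])⁻¹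
    rw [inv_letterC 6 (by decide), inv_inv]

/-! ### the checks -/

theorem eqC_sound (w1 w2 : List ℕ) (h1 : ∀ s ∈ w1, s < 14) (h2 : ∀ s ∈ w2, s < 14)
    (h : eqC w1 w2 = true) : wprod pvC w1 = wprod pvC w2 := by
  rw [wprod_pvC w1 h1, wprod_pvC w2 h2]
  exact wordPerm_eq_of_eval gsC_ok _ _ h

theorem z2W_lt : ∀ s ∈ z2W, s < 14 := by decide

theorem z3W_lt : ∀ s ∈ z3W, s < 14 := by decide

theorem zW_lt : ∀ s ∈ zW, s < 14 := by decide

theorem z2C_chk : pgAllL Z.posL (fun x => eqC (z2W ++ [x]) (x :: z2W)) = true := by decide +kernel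

theorem z3C_chk : pgAllL Z.posL (fun x => eqC (z3W ++ [x]) (x :: z3W)) = true := by decide +kernel

theorem z23C_chk : eqC (z2W ++ z3W) (z3W ++ z2W) = true := by decide +kernel

theorem z2C_sq_chk : eqC (z2W ++ z2W) [] = true := by decide +kernel

theorem z3C_cube_chk : eqC (z3W ++ (z3W ++ z3W)) [] = true := by decide +kernel

theorem z2C_ne1 : Nat.beq (evC z2W cP3) cP3 = false := by decide +kernel

theorem z3C_ne1 : Nat.beq (evC z3W cP2) cP2 = false := by decide +kernel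

/-- the central permutation of order two -/
def z2C : Equiv.Perm (Fin 3294) := wprod pvC z2W

/-- the central permutation of order three -/
def z3C : Equiv.Perm (Fin 3294) := wprod pvC z3W

/-- the central permutation of order six -/
def zC : Equiv.Perm (Fin 3294) := wprod pvC zW

theorem zC_eq : zC = z2C * z3C := by
  unfold zC z2C z3C zW
  rw [wprod_append]

theorem lt_nil : ∀ s ∈ ([] : List ℕ), s < 14 := fun _ hs => absurd hs List.not_mem_nil

theorem lt_app {w1 w2 : List ℕ} (h1 : ∀ s ∈ w1, s < 14) (h2 : ∀ s ∈ w2, s < 14) :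
    ∀ s ∈ w1 ++ w2, s < 14 := by
  intro s hs
  rcases List.mem_append.1 hs with h | h
  · exact h1 s h
  · exact h2 s h

theorem zXC_comm (w : List ℕ) (hw : ∀ s ∈ w, s < 14)
    (hchk : pgAllL Z.posL (fun x => eqC (w ++ [x]) (x :: w)) = true) :
    ∀ x ∈ Z.posL, Commute (wprod pvC w) (pvC x) := by
  intro x hx
  have hx14 := Z.hPl x hx
  have h := eqC_sound (w ++ [x]) (x :: w)
    (by
      intro s hs
      rcases List.mem_append.1 hs with h | h
      · exact hw s h
      · rw [List.mem_singleton] at h; rw [h]; exact hx14)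
    (by
      intro s hs
      rcases List.mem_cons.1 hs with h | h
      · rw [h]; exact hx14
      · exact hw s h)
    ((pgAllL_iff _ _).1 hchk x hx)
  rw [wprod_append, wprod_cons, wprod_cons, wprod_nil, mul_one] at h
  exact h

theorem z2C_comm : ∀ x ∈ Z.posL, Commute z2C (pvC x) := zXC_comm z2W z2W_lt z2C_chk

theorem z3C_comm : ∀ x ∈ Z.posL, Commute z3C (pvC x) := zXC_comm z3W z3W_lt z3C_chk

theorem z23C_comm : Commute z2C z3C := by
  have h := eqC_sound _ _ (lt_app z2W_lt z3W_lt) (lt_app z3W_lt z2W_lt) z23C_chk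
  rw [wprod_append, wprod_append] at h
  exact h

theorem z2C_sq : z2C ^ 2 = 1 := by
  have h := eqC_sound _ _ (lt_app z2W_lt z2W_lt) lt_nil z2C_sq_chk
  rw [wprod_append, wprod_nil] at h
  rw [pow_two]; exact h

theorem z3C_cube : z3C ^ 3 = 1 := by
  have h := eqC_sound _ _ (lt_app z3W_lt (lt_app z3W_lt z3W_lt)) lt_nil z3C_cube_chk
  rw [wprod_append, wprod_append, wprod_nil] at h
  rw [pow_succ, pow_two, mul_assoc]; exact h

theorem z2C_ne_one : z2C ≠ 1 := by
  unfold z2C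
  rw [wprod_pvC z2W z2W_lt]
  exact wordPerm_ne_one_of_eval gsC_ok _ cP3 (by decide) z2C_ne1

theorem z3C_ne_one : z3C ≠ 1 := by
  unfold z3C
  rw [wprod_pvC z3W z3W_lt]
  exact wordPerm_ne_one_of_eval gsC_ok _ cP2 (by decide) z3C_ne1

theorem orderOf_z2C : orderOf z2C = 2 :=
  haveI : Fact (Nat.Prime 2) := ⟨Nat.prime_two⟩
  orderOf_eq_prime z2C_sq z2C_ne_one

theorem orderOf_z3C : orderOf z3C = 3 :=
  haveI : Fact (Nat.Prime 3) := ⟨Nat.prime_three⟩
  orderOf_eq_prime z3C_cube z3C_ne_one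

theorem orderOf_zC : orderOf zC = 6 := by
  rw [zC_eq, z23C_comm.orderOf_mul_eq_mul_orderOf_of_coprime (by rw [orderOf_z2C, orderOf_z3C]; decide),
    orderOf_z2C, orderOf_z3C]

theorem relsC : ∀ r ∈ Z.rels, wprod pvC r = 1 ∨ wprod pvC r = z3C ∨ wprod pvC r = z3C * z3C ∨
    wprod pvC r = z2C := by
  intro r hr
  have hr14 := Z.hRl r hr
  have h := (pgAllL_iff _ _).1 relsC_chk r hr
  unfold relOK at h
  rw [Bool.or_eq_true, Bool.or_eq_true, Bool.or_eq_true] at h
  rcases h with h | h | h | h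
  · left
    have := eqC_sound r [] hr14 lt_nil h
    rwa [wprod_nil] at this
  · right; left
    exact eqC_sound r z3W hr14 z3W_lt h
  · right; right; left
    have := eqC_sound r (z3W ++ z3W) hr14 (lt_app z3W_lt z3W_lt) h
    rwa [wprod_append] at this
  · right; right; right
    exact eqC_sound r z2W hr14 z2W_lt h

theorem hCC : ∀ r ∈ Z.rels, ∀ x ∈ Z.posL, Commute (wprod pvC r) (pvC x) := by
  intro r hr x hx
  have hz2 := z2C_comm x hx
  have hz3 := z3C_comm x hx
  rcases relsC r hr with h | h | h | h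
  · rw [h]; exact Commute.one_left _
  · rw [h]; exact hz3
  · rw [h]; exact hz3.mul_left hz3
  · rw [h]; exact hz2

theorem sC : ∀ p ∈ Z.sData, pvC p.1 = ⁅wprod pvC p.2.1, wprod pvC p.2.2⁆ := by
  intro p hp
  obtain ⟨h1, h2, h3⟩ := Z.hSl p hp
  have hw : ∀ s ∈ sW Z.cIV p.1 p.2.1 p.2.2, s < 14 := by
    have hmem : sW Z.cIV p.1 p.2.1 p.2.2 ∈ Z.baseL := by
      rw [Z.baseL_eq]
      exact sW_mem_baseOf Z.cIV 14 Z.sData Z.rels Z.posL hp
    intro s hs
    exact lettersK_lt Z.hlet hmem hs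
  have h := eqC_sound _ [] hw lt_nil
    ((pgAllL_iff _ _).1 sC_chk _ (List.mem_map.2 ⟨p, hp, rfl⟩))
  rw [wprod_nil, wprod_sW pvC Z.cIV p.1 p.2.1 p.2.2 (fun t ht => pvC_inv t (h2 t ht))
    (fun t ht => pvC_inv t (h3 t ht)) (pvC_inv _ h1)] at h
  exact inv_mul_eq_one.1 h

theorem baseC : ∀ b ∈ Z.baseL, wprod pvC b = 1 := by
  rw [Z.baseL_eq]
  exact baseOf_holds pvC Z.cIV 14 pvC_inv Z.sData Z.rels Z.posL Z.hSl Z.hRl Z.hPl sC hCC

/-- the action of the presented group on the 3294 points -/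
theorem exists_homC : ∃ ρ : Z.Grp →* Equiv.Perm (Fin 3294), ∀ x < 14, ρ (Z.v x) = pvC x :=
  WPres.hlift 14 Z.baseL Z.hlet pvC baseC

/-- the central element of the presented group -/
def zQ : Z.Grp := wprod Z.v zW

theorem map_wprod_lt {K : Type*} [Group K] (ρ : Z.Grp →* K) (f : ℕ → K) (h : ∀ x < 14, ρ (Z.v x) = f x)
    (w : List ℕ) (hw : ∀ s ∈ w, s < 14) : ρ (wprod Z.v w) = wprod f w := by
  induction w with
  | nil => rw [wprod_nil, wprod_nil, map_one]
  | cons s w ih =>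
    rw [wprod_cons, wprod_cons, map_mul, ih (fun t ht => hw t (List.mem_cons_of_mem _ ht)),
      h s (hw s List.mem_cons_self)]

theorem six_dvd_orderOf_zQ : 6 ∣ orderOf zQ := by
  obtain ⟨ρ, hρ⟩ := exists_homC
  have h := map_wprod_lt ρ pvC hρ zW zW_lt
  rw [show wprod Z.v zW = zQ from rfl, show wprod pvC zW = zC from rfl] at h
  have := orderOf_map_dvd ρ zQ
  rwa [h, orderOf_zC] at this

end Cfsg.Agent.Lib.Helper3.O73Mult
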