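import Cfsg.Agent.Lib.helper3.O73CoverData
import Cfsg.Agent.Lib.helper3.PgWords

/-!
The 3294 points of the sixfold cover of the orthogonal group `Ω₇(3)`: evaluation of words in the fourteen
letters (helper3).
-/

set_option autoImplicit false
set_option maxRecDepth 100000

namespace Cfsg.Agent.Lib.Helper3.O73Mult

open Cfsg.Agent.Lib.helper23

/-- the generator numbers of the letters, the inverses being numbered from 7 on -/
def tabC : List ℕ := [0, 7, 1, 8, 2, 9, 3, 10, 4, 11, 5, 12, 6, 13]

/-- the image of a point under a word in the letters -/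
def evC (w : List ℕ) (p : ℕ) : ℕ := pgEvalW gsC (w.map fun s => tabC.getD s 0) p

/-- two words agree on all points -/
def eqC (w1 w2 : List ℕ) : Bool := pgAll 3294 (fun p => Nat.beq (evC w1 p) (evC w2 p))

/-- a relator is one of the central words -/
def relOK (r : List ℕ) : Bool := eqC r [] || (eqC r z3W || (eqC r (z3W ++ z3W) || eqC r z2W))

end Cfsg.Agent.Lib.Helper3.O73Mult
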