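import Cfsg.Agent.Lib.helper3.O73CoverBase

/-! the relators on the 3294 points, part 0 (generated, helper3) -/

set_option autoImplicit false
set_option maxRecDepth 100000
set_option Elab.async false

namespace Cfsg.Agent.Lib.Helper3.O73Mult

open Cfsg.Agent.Lib.helper23

/-- a part of the relators -/
def relP0 : List (List ℕ) :=
  [[3, 3, 3],
   [6, 6, 6],
   [9, 9, 9],
   [10, 10, 10],
   [2, 2, 2],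
   [0, 0, 0],
   [8, 8, 8],
   [11, 11, 11],
   [4, 4, 4],
   [1, 1, 1],
   [4, 7, 4, 3, 5, 6, 5, 6, 4, 7, 4, 2, 5, 6, 5, 7],
   [3, 9, 2, 8],
   [4, 7, 4, 3, 5, 6, 5, 0, 3, 0, 10, 1, 2, 1, 4, 7, 4, 2, 5, 6, 5, 0, 3, 0, 11, 1, 2, 1],
   [4, 7, 4, 3, 5, 6, 5, 10, 4, 7, 4, 2, 5, 6, 5, 11]]

theorem relP0_chk : pgAllL relP0 relOK = true := by decide +kernel

/-- a part of the relators -/
def relP4 : List (List ℕ) :=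
  [[4, 7, 4, 9, 5, 6, 5, 0, 3, 0, 10, 1, 2, 1, 4, 7, 4, 8, 5, 6, 5, 0, 3, 0, 11, 1, 2, 1],
   [4, 7, 4, 9, 5, 6, 5, 10, 4, 7, 4, 8, 5, 6, 5, 11],
   [4, 7, 4, 9, 5, 6, 5, 2, 4, 7, 4, 8, 5, 6, 5, 3],
   [4, 7, 4, 9, 5, 6, 5, 0, 4, 7, 4, 8, 5, 6, 5, 1],
   [4, 7, 4, 9, 5, 6, 5, 8, 4, 7, 4, 8, 5, 6, 5, 9, 0, 3, 0, 11, 1, 2, 1]]

theorem relP4_chk : pgAllL relP4 relOK = true := by decide +kernel

/-- a part of the relators -/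
def relP6 : List (List ℕ) :=
  [[0, 3, 0, 10, 1, 2, 1, 10, 0, 3, 0, 11, 1, 2, 1, 11, 4, 7, 4, 8, 5, 6, 5],
   [0, 3, 0, 10, 1, 2, 1, 2, 0, 3, 0, 11, 1, 2, 1, 3],
   [0, 3, 0, 10, 1, 2, 0, 3, 0, 11, 1, 2, 1, 1, 7, 4, 7, 4, 2, 9, 5, 6, 5, 11],
   [0, 3, 0, 10, 1, 2, 1, 8, 0, 3, 0, 11, 1, 2, 1, 9]]

theorem relP6_chk : pgAllL relP6 relOK = true := by decide +kernel

/-- a part of the relators -/
def relP7 : List (List ℕ) :=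
  [[0, 3, 0, 10, 1, 2, 1, 4, 7, 4, 11, 5, 6, 5, 0, 3, 0, 11, 1, 2, 1, 4, 7, 4, 10, 5, 6, 5, 8],
   [0, 3, 0, 10, 1, 2, 1, 4, 0, 3, 0, 11, 1, 2, 1, 5],
   [0, 3, 0, 10, 1, 2, 1, 4, 7, 4, 1, 5, 6, 5, 0, 3, 0, 11, 1, 2, 1, 4, 7, 4, 0, 5, 6, 2, 9, 4, 7, 4, 10, 5, 6, 5]]

theorem relP7_chk : pgAllL relP7 relOK = true := by decide +kernel

/-- a part of the relators -/
def relP8 : List (List ℕ) :=
  [[10, 2, 11, 3, 4, 7, 4, 3, 5, 6, 5, 6, 4, 7, 4, 8, 5, 6, 5, 0, 3, 0, 11, 1, 2, 1],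
   [10, 0, 11, 1],
   [10, 0, 3, 0, 8, 1, 2, 1, 11, 0, 3, 0, 9, 1, 2, 1],
   [10, 4, 7, 4, 11, 5, 6, 5, 11, 4, 7, 4, 10, 5, 6, 5, 0, 3, 0, 9, 1, 2, 1],
   [10, 4, 11, 7, 4, 0, 5, 6, 5, 3, 0, 8, 1, 2, 1, 4, 7, 4, 10, 5, 6, 5]]

theorem relP8_chk : pgAllL relP8 relOK = true := by decide +kernel

/-- a part of the commutator words -/
def sP0 : List (List ℕ) :=
  [[1, 4, 7, 4, 4, 7, 4, 0, 5, 6, 5, 5, 6, 5, 1],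
   [3, 4, 7, 4, 4, 7, 4, 2, 5, 6, 5, 5, 6, 5, 3],
   [5, 0, 3, 0, 0, 3, 0, 4, 1, 2, 1, 1, 2, 1, 5]]

theorem sP0_chk : pgAllL sP0 (fun w => eqC w []) = true := by decide +kernel

end Cfsg.Agent.Lib.Helper3.O73Mult
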