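import Cfsg.Agent.Lib.helper3.O73CoverBase

/-! the relators on the 3294 points, part 1 (generated, helper3) -/

set_option autoImplicit false
set_option maxRecDepth 100000
set_option Elab.async false

namespace Cfsg.Agent.Lib.Helper3.O73Mult

open Cfsg.Agent.Lib.helper23

/-- a part of the relators -/
def relP2 : List (List ℕ) :=
  [[4, 7, 4, 3, 11, 2, 10, 5, 6, 5, 2, 4, 9, 0, 3, 0, 10, 1, 2, 1],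
   [4, 7, 4, 3, 5, 6, 4, 7, 4, 2, 5, 6, 5, 5, 2],
   [6, 4, 7, 4, 9, 5, 6, 5, 7, 4, 7, 4, 8, 5, 6, 5],
   [6, 0, 3, 0, 10, 1, 2, 1, 7, 0, 3, 0, 11, 1, 2, 1],
   [6, 10, 7, 11],
   [6, 2, 7, 3, 4, 7, 4, 2, 5, 6, 5],
   [6, 0, 7, 1]]

theorem relP2_chk : pgAllL relP2 relOK = true := by decide +kernel

/-- a part of the relators -/
def relP9 : List (List ℕ) :=
  [[10, 4, 7, 4, 1, 5, 6, 5, 11, 4, 7, 4, 0, 5, 6, 5],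
   [2, 8, 3, 9],
   [2, 0, 3, 0, 8, 1, 2, 1, 3, 0, 3, 0, 9, 1, 2, 1, 4, 4, 7, 4, 0, 10, 5, 6, 5, 9],
   [2, 4, 7, 4, 11, 5, 6, 5, 3, 4, 7, 4, 10, 5, 6, 5],
   [2, 4, 3, 5],
   [2, 4, 7, 4, 1, 5, 6, 5, 3, 4, 7, 4, 0, 5, 6, 5, 5]]

theorem relP9_chk : pgAllL relP9 relOK = true := by decide +kernel

/-- a part of the relators -/
def relP10 : List (List ℕ) :=
  [[8, 1, 9, 4, 7, 4, 0, 5, 6, 4, 7, 4, 11, 5, 6, 5, 0, 3, 0, 9, 1, 2],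
   [0, 3, 0, 8, 1, 2, 1, 3, 0, 9, 1, 2],
   [0, 4, 7, 4, 11, 5, 6, 5, 1, 4, 7, 4, 10, 5, 6, 5],
   [0, 4, 1, 7, 4, 0, 5, 6, 5],
   [0, 4, 7, 4, 1, 5, 6, 5, 1, 4, 7, 4, 0, 5, 6, 5],
   [8, 0, 3, 0, 8, 1, 2, 1, 9, 0, 3, 0, 9, 1, 2, 1, 4, 7, 4, 10, 5, 6, 5]]

theorem relP10_chk : pgAllL relP10 relOK = true := by decide +kernel

/-- a part of the relators -/
def relP11 : List (List ℕ) :=
  [[8, 4, 7, 4, 11, 5, 6, 5, 9, 4, 7, 4, 10, 5, 6, 5],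
   [8, 4, 9, 5],
   [8, 4, 7, 4, 1, 5, 6, 5, 9, 4, 7, 4, 0, 5, 6, 5],
   [0, 3, 0, 8, 1, 2, 1, 4, 7, 4, 11, 5, 6, 5, 0, 3, 0, 9, 1, 2, 1, 4, 7, 4, 10, 5, 6, 5],
   [0, 3, 0, 8, 1, 2, 1, 4, 0, 3, 0, 9, 1, 2, 1, 5]]

theorem relP11_chk : pgAllL relP11 relOK = true := by decide +kernel

/-- a part of the relators -/
def relP14 : List (List ℕ) :=
  [[4, 7, 4, 13, 5, 6, 5, 11, 4, 7, 4, 12, 5, 6, 5, 10],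
   [0, 3, 0, 8, 1, 2, 1, 8, 11, 8, 13, 9, 10, 9, 5, 8, 11, 8, 12, 9, 10, 9, 0, 3, 0, 9, 1, 2, 1, 4],
   [4, 7, 4, 13, 5, 6, 5, 11, 12, 10, 4, 7, 4, 12, 5, 6, 5, 13, 0, 0, 3, 0, 8, 1, 2, 1, 8, 11, 8, 13, 9, 10, 9]]

theorem relP14_chk : pgAllL relP14 relOK = true := by decide +kernel

/-- a part of the relators -/
def relP15 : List (List ℕ) :=
  [[8, 11, 8, 13, 9, 10, 8, 11, 8, 4, 7, 4, 13, 5, 6, 5, 12, 4, 7, 4, 12, 5, 6, 5, 9, 10, 9, 9, 4, 4, 7, 4, 11, 5, 6, 5, 12],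
   [0, 3, 0, 4, 7, 4, 13, 5, 6, 5, 1, 2, 1, 4, 7, 4, 12, 5, 6, 5, 0, 3, 0, 4, 7, 4, 12, 5, 6, 5, 1, 2, 1, 4, 7, 4, 13, 5, 6, 5],
   [2, 6, 13, 9, 10, 12, 2, 6, 13, 9, 10, 12, 2, 6, 13, 9, 10, 12]]

theorem relP15_chk : pgAllL relP15 relOK = true := by decide +kernel

/-- a part of the commutator words -/
def sP1 : List (List ℕ) :=
  [[7, 0, 3, 0, 0, 3, 0, 6, 1, 2, 1, 1, 2, 1, 7],
   [9, 0, 3, 0, 0, 3, 0, 8, 1, 2, 1, 1, 2, 1, 9]]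

theorem sP1_chk : pgAllL sP1 (fun w => eqC w []) = true := by decide +kernel

end Cfsg.Agent.Lib.Helper3.O73Mult
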