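import Cfsg.Agent.Lib.helper3.O73CoverBase

/-! the relators on the 3294 points, part 2 (generated, helper3) -/

set_option autoImplicit false
set_option maxRecDepth 100000
set_option Elab.async false

namespace Cfsg.Agent.Lib.Helper3.O73Mult

open Cfsg.Agent.Lib.helper23

/-- a part of the relators -/
def relP1 : List (List ℕ) :=
  [[4, 7, 4, 3, 5, 6, 5, 2, 4, 7, 4, 2, 5, 6, 5, 3],
   [4, 7, 4, 3, 5, 6, 5, 0, 4, 7, 4, 2, 5, 6, 5, 1, 7],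
   [4, 7, 4, 3, 5, 6, 5, 8, 4, 7, 4, 2, 5, 6, 5, 9],
   [3, 5, 6, 5, 0, 3, 0, 8, 1, 2, 1, 4, 7, 4, 2, 5, 6, 5, 0, 3, 0, 9, 1, 2, 1, 7, 0, 10, 4, 7, 4, 8]]

theorem relP1_chk : pgAllL relP1 relOK = true := by decide +kernel

/-- a part of the relators -/
def relP3 : List (List ℕ) :=
  [[6, 8, 7, 9, 4, 7, 4, 3, 5, 6, 5, 3, 0, 3, 0, 11, 1, 2, 1, 4, 7, 4, 8, 5, 6, 5],
   [6, 0, 3, 0, 8, 1, 2, 1, 7, 0, 3, 0, 9, 1, 2, 1],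
   [6, 4, 7, 4, 11, 5, 6, 5, 7, 4, 7, 4, 10, 5, 6, 5, 1, 4, 7, 4, 0, 5, 6, 5, 0, 3, 0, 8, 1, 2, 1, 10],
   [6, 4, 7, 4, 1, 5, 6, 5, 7, 4, 7, 4, 0, 5, 6, 5, 0]]

theorem relP3_chk : pgAllL relP3 relOK = true := by decide +kernel

/-- a part of the relators -/
def relP5 : List (List ℕ) :=
  [[4, 7, 4, 9, 5, 6, 5, 0, 3, 0, 8, 1, 2, 1, 4, 7, 4, 8, 5, 6, 5, 0, 3, 0, 9, 1, 2, 1, 10],
   [4, 7, 4, 9, 5, 6, 4, 7, 4, 8, 5, 6, 5, 5, 2, 4, 7, 4, 2, 5, 6, 5, 0, 3, 0, 11, 1, 2, 1, 8],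
   [4, 7, 4, 9, 1, 8, 0, 5, 6, 5, 1, 6, 10, 0, 3, 0, 8, 1, 2, 1]]

theorem relP5_chk : pgAllL relP5 relOK = true := by decide +kernel

/-- a part of the relators -/
def relP12 : List (List ℕ) :=
  [[0, 3, 0, 8, 1, 2, 1, 4, 7, 4, 1, 5, 6, 5, 0, 3, 0, 9, 1, 2, 1, 4, 7, 4, 0, 5, 6, 5],
   [7, 4, 11, 5, 6, 4, 7, 4, 10, 5, 6, 5],
   [11, 1, 10, 0],
   [4, 7, 4, 1, 5, 6, 5, 7, 4, 0, 5, 6],
   [0, 3, 0, 0, 3, 0, 0, 1, 2, 1, 1, 2, 1, 1],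
   [0, 3, 0, 0, 3, 0, 4, 7, 4, 1, 5, 6, 5, 1, 2, 1, 1, 2, 1, 4, 7, 4, 1, 5, 6, 5]]

theorem relP12_chk : pgAllL relP12 relOK = true := by decide +kernel

/-- a part of the relators -/
def relP13 : List (List ℕ) :=
  [[4, 7, 4, 4, 7, 4, 4, 5, 6, 5, 5, 6, 5, 5],
   [4, 7, 4, 4, 7, 4, 4, 7, 4, 1, 5, 6, 5, 5, 6, 5, 5, 6, 5, 4, 7, 4, 1, 5, 6, 5],
   [0, 4, 1, 5, 4, 7, 4, 0, 5, 6, 5],
   [4, 4, 7, 4, 1, 5, 6, 5, 5, 4, 7, 4, 0, 5, 6, 5],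
   [0, 12, 1, 13],
   [2, 12, 3, 13],
   [1, 12, 0, 13],
   [5, 12, 4, 13],
   [4, 7, 4, 12, 5, 6, 5, 7, 4, 13, 5, 6, 12]]

theorem relP13_chk : pgAllL relP13 relOK = true := by decide +kernel

/-- a part of the commutator words -/
def sP2 : List (List ℕ) :=
  [[11, 0, 3, 0, 0, 3, 0, 10, 1, 2, 1, 1, 2, 1, 11],
   [13, 4, 7, 4, 4, 7, 4, 12, 5, 6, 5, 5, 6, 5, 13]]

theorem sP2_chk : pgAllL sP2 (fun w => eqC w []) = true := by decide +kernel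

end Cfsg.Agent.Lib.Helper3.O73Mult
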