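import Cfsg.Agent.Lib.helper3.O73CoverChk0
import Cfsg.Agent.Lib.helper3.O73CoverChk1
import Cfsg.Agent.Lib.helper3.O73CoverChk2
import Cfsg.Agent.Lib.helper3.O73TC.Z.Struct
import Cfsg.Agent.Lib.helper3.StemPres

/-! the relators on the 3294 points: assembly of the parts (generated, helper3) -/

set_option autoImplicit false
set_option maxRecDepth 100000

namespace Cfsg.Agent.Lib.Helper3.O73Mult

open Cfsg.Agent.Lib.helper23 Cfsg.Agent.Lib.Helper3.O73TC Cfsg.Agent.Lib.Helper3.StemPres

theorem pgAllL_app {α : Type} {l l' : List α} {p : α → Bool} (h : pgAllL l p = true)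
    (h' : pgAllL l' p = true) : pgAllL (l ++ l') p = true := by
  rw [pgAllL_iff] at h h' ⊢
  intro a ha
  rcases List.mem_append.1 ha with h1 | h1
  · exact h a h1
  · exact h' a h1

theorem rels_split : Z.rels = relP0 ++ (relP1 ++ (relP2 ++ (relP3 ++ (relP4 ++ (relP5 ++ (relP6 ++ (relP7 ++ (relP8 ++ (relP9 ++ (relP10 ++ (relP11 ++ (relP12 ++ (relP13 ++ (relP14 ++ (relP15))))))))))))))) := by
  decide +kernel

theorem relsC_chk : pgAllL Z.rels relOK = true := by
  rw [rels_split]
  exact pgAllL_app relP0_chk (pgAllL_app relP1_chk (pgAllL_app relP2_chk (pgAllL_app relP3_chk (pgAllL_app relP4_chk (pgAllL_app relP5_chk (pgAllL_app relP6_chk (pgAllL_app relP7_chk (pgAllL_app relP8_chk (pgAllL_app relP9_chk (pgAllL_app relP10_chk (pgAllL_app relP11_chk (pgAllL_app relP12_chk (pgAllL_app relP13_chk (pgAllL_app relP14_chk relP15_chk))))))))))))))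

theorem sWords_split : (Z.sData.map fun p => sW Z.cIV p.1 p.2.1 p.2.2) = sP0 ++ (sP1 ++ sP2) := by
  decide +kernel

theorem sC_chk : pgAllL (Z.sData.map fun p => sW Z.cIV p.1 p.2.1 p.2.2) (fun w => eqC w []) = true := by
  rw [sWords_split]
  exact pgAllL_app sP0_chk (pgAllL_app sP1_chk sP2_chk)

end Cfsg.Agent.Lib.Helper3.O73Mult
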