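import Cfsg.Agent.Lib.Helper28.O73C.Iso
import Cfsg.Agent.Lib.Helper13.O73CCR
import Cfsg.Agent.Lib.Helper16.O73COO
import Cfsg.Agent.Lib.Helper12.O73.Mat
import Cfsg.Agent.S0292
import Cfsg.Agent.S0295
import Cfsg.Agent.Lib.helper3.StemPres
import Cfsg.Agent.Lib.helper3.O73TC.Z.Struct

/-!
The seven root elements `A`, `C`, `B`, `D`, `x`, `y` (generating a group of type `G₂`) and `e` of the orthogonal
group `Ω₇(3)`, in helper28's encoding of the isometries of the seven dimensional orthogonal space over the field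
with three elements by matrices of natural numbers: they generate `Ω₇(3)`, they are commutators as prescribed,
and the relators of the presentation hold (helper3).
-/

set_option autoImplicit false
set_option maxRecDepth 100000

namespace Cfsg.Agent.Lib.Helper3.O73Mult

open Cfsg.Agent.Lib.Helper28.O73C Cfsg.Agent.Lib.Helper12.O73 Cfsg.Agent.Lib.Helper16
open Cfsg.Agent.Lib.Helper12.TC Cfsg.Agent.Lib.Helper12.TCG
open Cfsg.Agent.Lib.Helper3.StemPres Cfsg.Agent.Lib.Helper3.O73TC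
open scoped commutatorElement
open Matrix

/-! ### the letters -/

/-- the matrices of the fourteen letters -/
def letT : List M7 :=
  [
   ⟨⟨1,0,0,0,0,0,0⟩,⟨0,1,1,0,0,0,0⟩,⟨0,0,1,0,0,0,0⟩,⟨0,0,0,1,0,0,0⟩,⟨0,0,0,0,1,0,0⟩,⟨0,0,0,0,2,1,0⟩,⟨0,0,0,0,0,0,1⟩⟩,
   ⟨⟨1,0,0,0,0,0,0⟩,⟨0,1,2,0,0,0,0⟩,⟨0,0,1,0,0,0,0⟩,⟨0,0,0,1,0,0,0⟩,⟨0,0,0,0,1,0,0⟩,⟨0,0,0,0,1,1,0⟩,⟨0,0,0,0,0,0,1⟩⟩,
   ⟨⟨1,0,0,0,0,0,0⟩,⟨0,1,0,0,0,0,0⟩,⟨0,1,1,0,0,0,0⟩,⟨0,0,0,1,0,0,0⟩,⟨0,0,0,0,1,2,0⟩,⟨0,0,0,0,0,1,0⟩,⟨0,0,0,0,0,0,1⟩⟩,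
   ⟨⟨1,0,0,0,0,0,0⟩,⟨0,1,0,0,0,0,0⟩,⟨0,2,1,0,0,0,0⟩,⟨0,0,0,1,0,0,0⟩,⟨0,0,0,0,1,1,0⟩,⟨0,0,0,0,0,1,0⟩,⟨0,0,0,0,0,0,1⟩⟩,
   ⟨⟨1,0,0,0,0,0,0⟩,⟨0,1,0,0,0,0,0⟩,⟨0,0,1,0,0,0,0⟩,⟨0,1,0,1,0,0,0⟩,⟨0,0,0,0,1,0,2⟩,⟨0,0,0,0,0,1,0⟩,⟨0,0,0,0,0,0,1⟩⟩,
   ⟨⟨1,0,0,0,0,0,0⟩,⟨0,1,0,0,0,0,0⟩,⟨0,0,1,0,0,0,0⟩,⟨0,2,0,1,0,0,0⟩,⟨0,0,0,0,1,0,1⟩,⟨0,0,0,0,0,1,0⟩,⟨0,0,0,0,0,0,1⟩⟩,
   ⟨⟨1,0,0,0,0,0,0⟩,⟨0,1,0,1,0,0,0⟩,⟨0,0,1,0,0,0,0⟩,⟨0,0,0,1,0,0,0⟩,⟨0,0,0,0,1,0,0⟩,⟨0,0,0,0,0,1,0⟩,⟨0,0,0,0,2,0,1⟩⟩,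
   ⟨⟨1,0,0,0,0,0,0⟩,⟨0,1,0,2,0,0,0⟩,⟨0,0,1,0,0,0,0⟩,⟨0,0,0,1,0,0,0⟩,⟨0,0,0,0,1,0,0⟩,⟨0,0,0,0,0,1,0⟩,⟨0,0,0,0,1,0,1⟩⟩,
   ⟨⟨1,1,0,0,0,0,0⟩,⟨0,1,0,0,0,0,0⟩,⟨0,0,1,0,0,0,1⟩,⟨0,0,0,1,0,2,0⟩,⟨1,2,0,0,1,0,0⟩,⟨0,0,0,0,0,1,0⟩,⟨0,0,0,0,0,0,1⟩⟩,
   ⟨⟨1,2,0,0,0,0,0⟩,⟨0,1,0,0,0,0,0⟩,⟨0,0,1,0,0,0,2⟩,⟨0,0,0,1,0,1,0⟩,⟨2,2,0,0,1,0,0⟩,⟨0,0,0,0,0,1,0⟩,⟨0,0,0,0,0,0,1⟩⟩,
   ⟨⟨1,0,0,0,2,0,0⟩,⟨2,1,0,0,2,0,0⟩,⟨0,0,1,0,0,0,0⟩,⟨0,0,0,1,0,0,0⟩,⟨0,0,0,0,1,0,0⟩,⟨0,0,0,2,0,1,0⟩,⟨0,0,1,0,0,0,1⟩⟩,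
   ⟨⟨1,0,0,0,1,0,0⟩,⟨1,1,0,0,2,0,0⟩,⟨0,0,1,0,0,0,0⟩,⟨0,0,0,1,0,0,0⟩,⟨0,0,0,0,1,0,0⟩,⟨0,0,0,1,0,1,0⟩,⟨0,0,2,0,0,0,1⟩⟩,
   ⟨⟨1,0,0,0,0,0,0⟩,⟨0,1,0,0,0,0,0⟩,⟨0,0,1,0,0,0,0⟩,⟨0,0,0,1,0,0,0⟩,⟨0,0,1,0,1,0,0⟩,⟨0,2,0,0,0,1,0⟩,⟨0,0,0,0,0,0,1⟩⟩,
   ⟨⟨1,0,0,0,0,0,0⟩,⟨0,1,0,0,0,0,0⟩,⟨0,0,1,0,0,0,0⟩,⟨0,0,0,1,0,0,0⟩,⟨0,0,2,0,1,0,0⟩,⟨0,1,0,0,0,1,0⟩,⟨0,0,0,0,0,0,1⟩⟩]

/-- the matrix of a letter -/
def letM (s : ℕ) : M7 := letT.getD s one7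

/-- the matrix of a word in the letters -/
def wordM7 : List ℕ → M7
  | [] => one7
  | s :: w => mm (letM s) (wordM7 w)

theorem letM_ge (s : ℕ) (hs : ¬ s < 14) : letM s = one7 := by
  unfold letM
  rw [List.getD_eq_default]
  exact Nat.le_of_not_lt hs

theorem let_chk : ∀ s < 14, isoChk (letM s) = true ∧
    mm (letM s) (mm (letM s) (letM s)) = one7 := by decide +kernel

theorem let_exists (s : ℕ) : ∃ g : GO, Rep g (letM s) ∧ g ∈ Om := by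
  by_cases hs : s < 14
  · obtain ⟨g, hg⟩ := h28_exists_rep (letM s) (let_chk s hs).1
    have h3 : g * (g * g) = 1 := by
      have := rep_mul hg (rep_mul hg hg)
      rw [(let_chk s hs).2] at this
      exact rep_ext this rep_one
    refine ⟨g, hg, mem_Om_of_pow_three g ?_⟩
    rw [pow_succ, pow_two, mul_assoc]
    exact h3
  · rw [letM_ge s hs]
    exact ⟨1, rep_one, Subgroup.one_mem _⟩

/-- the letters as isometries -/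
noncomputable def gG (s : ℕ) : GO := (let_exists s).choose

theorem gG_rep (s : ℕ) : Rep (gG s) (letM s) := (let_exists s).choose_spec.1

theorem gG_mem (s : ℕ) : gG s ∈ Om := (let_exists s).choose_spec.2

/-- the letters as elements of `Ω₇(3)` -/
noncomputable def vG (s : ℕ) : ↥Om := ⟨gG s, gG_mem s⟩

theorem vG_ge (s : ℕ) (hs : ¬ s < 14) : vG s = 1 := by
  apply Subtype.ext
  have h := gG_rep s
  rw [letM_ge s hs] at h
  exact rep_ext h rep_one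

theorem rep_wprod (w : List ℕ) : Rep ((wprod vG w : ↥Om) : GO) (wordM7 w) := by
  induction w with
  | nil => exact rep_one
  | cons s w ih =>
    rw [wprod_cons, Subgroup.coe_mul]
    exact rep_mul (gG_rep s) ih

theorem wprod_vG_eq_one (w : List ℕ) (h : wordM7 w = one7) : wprod vG w = 1 := by
  apply Subtype.ext
  have h1 := rep_wprod w
  rw [h] at h1
  exact rep_ext h1 rep_one

/-! ### the checks -/

theorem inv_chk : ∀ s < 14, wordM7 [invS Z.cIV s, s] = one7 := by decide +kernel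

theorem vG_inv : ∀ s < 14, vG (invS Z.cIV s) = (vG s)⁻¹ := by
  intro s hs
  have h := wprod_vG_eq_one [invS Z.cIV s, s] (inv_chk s hs)
  rw [wprod_cons, wprod_cons, wprod_nil, mul_one] at h
  exact eq_inv_of_mul_eq_one_left h

theorem relsG_chk : Z.rels.all (fun r => decide (wordM7 r = one7)) = true := by decide +kernel

theorem vG_rels : ∀ r ∈ Z.rels, wprod vG r = 1 := by
  intro r hr
  have h := List.all_eq_true.1 relsG_chk r hr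
  rw [decide_eq_true_eq] at h
  exact wprod_vG_eq_one r h

theorem sG_chk : (Z.sData.map fun p => sW Z.cIV p.1 p.2.1 p.2.2).all
    (fun w => decide (wordM7 w = one7)) = true := by decide +kernel

theorem vG_S : ∀ p ∈ Z.sData, vG p.1 = ⁅wprod vG p.2.1, wprod vG p.2.2⁆ := by
  intro p hp
  obtain ⟨h1, h2, h3⟩ := Z.hSl p hp
  have h0 := List.all_eq_true.1 sG_chk _ (List.mem_map.2 ⟨p, hp, rfl⟩)
  rw [decide_eq_true_eq] at h0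
  have h := wprod_vG_eq_one _ h0
  rw [wprod_sW vG Z.cIV p.1 p.2.1 p.2.2 (fun t ht => vG_inv t (h2 t ht)) (fun t ht => vG_inv t (h3 t ht))
    (vG_inv _ h1)] at h
  exact inv_mul_eq_one.1 h

/-! ### the order and the simplicity of `Ω₇(3)` -/

/-- `PΩ₇(3)` is `Ω₇(3)` -/
noncomputable def omEquiv : Cfsg.POmega K (Cfsg.quadFormOdd 3 K) ≃* ↥Om :=
  (QuotientGroup.quotientMulEquivOfEq
    (Cfsg.Agent.S0292.center_trivial (F := K) (by decide) 3 le_rfl)).trans QuotientGroup.quotientBot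

theorem card_Om : Nat.card ↥Om = 4585351680 := by
  have h := Cfsg.Agent.S0292.result (F := K) (q := 3) (ZMod.card 3) (by decide) 3 le_rfl
  rw [Nat.card_congr omEquiv.toEquiv] at h
  norm_num [Finset.prod_range_succ] at h
  omega

theorem simple_Om : IsSimpleGroup ↥Om := by
  haveI hs : IsSimpleGroup (Cfsg.POmega K (Cfsg.quadFormOdd 3 K)) :=
    Cfsg.Agent.S0295.result (F := K) (by rw [ZMod.card]; decide) 3 le_rfl
  haveI : Nontrivial ↥Om := by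
    haveI : Finite ↥Om := Nat.finite_of_card_ne_zero (by rw [card_Om]; norm_num)
    have : 1 < Nat.card ↥Om := by rw [card_Om]; norm_num
    exact (Finite.one_lt_card_iff_nontrivial (α := ↥Om)).1 this
  exact IsSimpleGroup.isSimpleGroup_of_surjective omEquiv.toMonoidHom omEquiv.surjective

/-! ### generation -/

/-- the negatives of reflections which generate `Ω₇(3)` (helper12), as words in the letters -/
def mwT : List (List ℕ) :=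
  [
   [3, 0, 8, 2, 11, 9, 12, 6, 13, 7, 2, 11, 9, 12, 6, 13, 7, 2, 11, 9, 12, 6, 13, 7, 9, 1, 2],
   [1, 5, 11, 2, 11, 9, 12, 6, 13, 7, 2, 11, 9, 12, 6, 13, 7, 2, 11, 9, 12, 6, 13, 7, 10, 4, 0],
   [7, 9, 7, 5, 2, 11, 9, 12, 6, 13, 7, 2, 11, 9, 12, 6, 13, 7, 2, 11, 9, 12, 6, 13, 7, 4, 6, 8, 6],
   [9, 2, 1, 2, 11, 9, 12, 6, 13, 7, 2, 11, 9, 12, 6, 13, 7, 2, 11, 9, 12, 6, 13, 7, 0, 3, 8],
   [8, 7, 4, 11, 9, 12, 6, 13, 7, 2, 11, 9, 12, 6, 13, 7, 2, 11, 9, 12, 6, 13, 7, 2, 5, 6, 9],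
   [4, 3, 11, 2, 11, 9, 12, 6, 13, 7, 2, 11, 9, 12, 6, 13, 7, 2, 11, 9, 12, 6, 13, 7, 10, 2, 5],
   [10, 9, 5, 2, 11, 9, 12, 6, 13, 7, 2, 11, 9, 12, 6, 13, 7, 2, 11, 9, 12, 6, 13, 7, 4, 8, 11],
   [8, 2, 2, 11, 9, 12, 6, 13, 7, 2, 11, 9, 12, 6, 13, 7, 2, 11, 9, 12, 6, 13, 7, 3, 9]]

/-- the generators of helper12 -/
def genL : List Gen := [.b, .c, .d, .e, .f, .g, .h, .i]

/-- the word of a generator -/
def mW (k : ℕ) : List ℕ := mwT.getD k []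

/-- the tuple of an encoded vector -/
def tupV (a : V7) : T7 := ((a.a0 : K), (a.a1 : K), (a.a2 : K), (a.a3 : K), (a.a4 : K), (a.a5 : K), (a.a6 : K))

theorem toVec_eq (a : V7) : a.toVec = vec (tupV a) := rfl

/-- the columns of a matrix are the images of the basis vectors under the negative of a reflection -/
def colChk (a : T7) (m : M7) : Bool :=
  decide (actT a (1, 0, 0, 0, 0, 0, 0) = tupV m.c0) && decide (actT a (0, 1, 0, 0, 0, 0, 0) = tupV m.c1) &&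
  decide (actT a (0, 0, 1, 0, 0, 0, 0) = tupV m.c2) && decide (actT a (0, 0, 0, 1, 0, 0, 0) = tupV m.c3) &&
  decide (actT a (0, 0, 0, 0, 1, 0, 0) = tupV m.c4) && decide (actT a (0, 0, 0, 0, 0, 1, 0) = tupV m.c5) &&
  decide (actT a (0, 0, 0, 0, 0, 0, 1) = tupV m.c6)

theorem col_chk : ∀ k < 8, colChk (gv (genL.getD k .b)) (wordM7 (mW k)) = true := by decide +kernel

theorem mat_ext_cols (P Q : Matrix I7 I7 K) (h : ∀ j, P *ᵥ Pi.single j 1 = Q *ᵥ Pi.single j 1) :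
    P = Q := by
  ext i j
  have := congrFun (h j) i
  rwa [Matrix.mulVec_single_one, Matrix.mulVec_single_one] at this

/-- the generators of helper12 as elements of the isometry group in the form of helper28 -/
noncomputable def M' (s : Gen) : GO := M s

/-- the group of helper12 as a subgroup of the isometry group in the form of helper28 -/
noncomputable def J' : Subgroup GO := J

theorem J'_eq : J' = Subgroup.closure (Set.range M') := rfl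

theorem J'_normal : J'.Normal := J_normal

theorem J'_le_Om : J' ≤ Om := J_le_commutator

theorem M'_mulVec (s : Gen) (x : T7) : (M' s).mat *ᵥ vec x = vec (actT (gv s) x) := M_mulVec s x

theorem one_mat : (1 : GO).mat = 1 := rfl

theorem M_rep (k : ℕ) (hk : k < 8) : Rep (M' (genL.getD k .b)) (wordM7 (mW k)) := by
  have hc := col_chk k hk
  unfold colChk at hc
  simp only [Bool.and_eq_true, decide_eq_true_eq] at hc
  obtain ⟨⟨⟨⟨⟨⟨h0, h1⟩, h2⟩, h3⟩, h4⟩, h5⟩, h6⟩ := hc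
  show (M' (genL.getD k .b)).mat = (wordM7 (mW k)).toMat
  apply mat_ext_cols
  intro j
  rw [h28ci_col]
  rcases j with j | j | j
  · have e : (Pi.single (Sum.inl j) 1 : I7 → K) = vec (1, 0, 0, 0, 0, 0, 0) := by
      cases j; decide
    rw [e, M'_mulVec, h0]; rfl
  · fin_cases j
    · have e : (Pi.single (Sum.inr (Sum.inl 0)) 1 : I7 → K) = vec (0, 1, 0, 0, 0, 0, 0) := by decide
      show _ *ᵥ (Pi.single (Sum.inr (Sum.inl 0)) 1 : I7 → K) = _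
      rw [e, M'_mulVec, h1]; rfl
    · have e : (Pi.single (Sum.inr (Sum.inl 1)) 1 : I7 → K) = vec (0, 0, 1, 0, 0, 0, 0) := by decide
      show _ *ᵥ (Pi.single (Sum.inr (Sum.inl 1)) 1 : I7 → K) = _
      rw [e, M'_mulVec, h2]; rfl
    · have e : (Pi.single (Sum.inr (Sum.inl 2)) 1 : I7 → K) = vec (0, 0, 0, 1, 0, 0, 0) := by decide
      show _ *ᵥ (Pi.single (Sum.inr (Sum.inl 2)) 1 : I7 → K) = _
      rw [e, M'_mulVec, h3]; rfl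
  · fin_cases j
    · have e : (Pi.single (Sum.inr (Sum.inr 0)) 1 : I7 → K) = vec (0, 0, 0, 0, 1, 0, 0) := by decide
      show _ *ᵥ (Pi.single (Sum.inr (Sum.inr 0)) 1 : I7 → K) = _
      rw [e, M'_mulVec, h4]; rfl
    · have e : (Pi.single (Sum.inr (Sum.inr 1)) 1 : I7 → K) = vec (0, 0, 0, 0, 0, 1, 0) := by decide
      show _ *ᵥ (Pi.single (Sum.inr (Sum.inr 1)) 1 : I7 → K) = _
      rw [e, M'_mulVec, h5]; rfl
    · have e : (Pi.single (Sum.inr (Sum.inr 2)) 1 : I7 → K) = vec (0, 0, 0, 0, 0, 0, 1) := by decide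
      show _ *ᵥ (Pi.single (Sum.inr (Sum.inr 2)) 1 : I7 → K) = _
      rw [e, M'_mulVec, h6]; rfl

theorem mW_lt : ∀ k < 8, ∀ s ∈ mW k, s < 14 := by decide +kernel

theorem wprod_mem_closure (w : List ℕ) (hw : ∀ s ∈ w, s < 14) :
    wprod vG w ∈ Subgroup.closure {y | ∃ s < 14, y = vG s} := by
  unfold wprod
  apply Subgroup.list_prod_mem
  intro x hx
  obtain ⟨s, hs, rfl⟩ := List.mem_map.1 hx
  exact Subgroup.subset_closure ⟨s, hw s hs, rfl⟩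

theorem M_mem (k : ℕ) (hk : k < 8) : M' (genL.getD k .b) ∈
    (Subgroup.closure {y : ↥Om | ∃ s < 14, y = vG s}).map Om.subtype := by
  refine ⟨wprod vG (mW k), wprod_mem_closure _ (mW_lt k hk), ?_⟩
  exact rep_ext (rep_wprod (mW k)) (M_rep k hk)

theorem J_le : J' ≤ (Subgroup.closure {y : ↥Om | ∃ s < 14, y = vG s}).map Om.subtype := by
  rw [J'_eq, Subgroup.closure_le]
  rintro _ ⟨s, rfl⟩
  cases s
  · exact M_mem 0 (by decide)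
  · exact M_mem 1 (by decide)
  · exact M_mem 2 (by decide)
  · exact M_mem 3 (by decide)
  · exact M_mem 4 (by decide)
  · exact M_mem 5 (by decide)
  · exact M_mem 6 (by decide)
  · exact M_mem 7 (by decide)

theorem Mb_ne_one : M' .b ≠ 1 := by
  intro h
  have h1 := M'_mulVec .b (gv .c)
  rw [h, one_mat, Matrix.one_mulVec] at h1
  have h2 := congrArg tup h1
  have e : ∀ a : T7, tup (vec a) = a := fun _ => rfl
  rw [e, e] at h2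
  revert h2
  decide

theorem Om_le_J : ∀ g : GO, g ∈ Om → g ∈ J' := by
  intro g hg
  haveI := simple_Om
  have hJn : J'.Normal := J'_normal
  have hN : (J'.subgroupOf Om).Normal := hJn.subgroupOf Om
  rcases Subgroup.Normal.eq_bot_or_eq_top hN with h | h
  · exfalso
    have hb : M' .b ∈ J' := by
      rw [J'_eq]; exact Subgroup.subset_closure ⟨.b, rfl⟩
    have hbO : M' .b ∈ Om := J'_le_Om hb
    have : (⟨M' .b, hbO⟩ : ↥Om) ∈ J'.subgroupOf Om := by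
      rw [Subgroup.mem_subgroupOf]; exact hb
    rw [h, Subgroup.mem_bot] at this
    exact Mb_ne_one (congrArg Subtype.val this)
  · have : (⟨g, hg⟩ : ↥Om) ∈ J'.subgroupOf Om := by rw [h]; trivial
    rwa [Subgroup.mem_subgroupOf] at this

theorem vG_gen : ∀ x : ↥Om, x ∈ Subgroup.closure {y | ∃ s < 14, y = vG s} := by
  intro x
  obtain ⟨k, hk, e⟩ := J_le (Om_le_J x.1 x.2)
  have : k = x := Subtype.ext e
  rwa [this] at hk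

end Cfsg.Agent.Lib.Helper3.O73Mult
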