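import Cfsg.Agent.Lib.helper3.O73Cover
import Cfsg.Agent.Lib.helper3.O73Side
import Cfsg.Agent.Lib.Helper5.StemX
import Cfsg.Agent.Lib.Helper21.SchurCyclic
import Cfsg.Agent.Lib.Lead.IsoTransfer

/-!
The Schur multiplier of the orthogonal group `Ω₇(3)` is cyclic of order six: the centralised presentation on
the seven root elements `A`, `C`, `B`, `D`, `x`, `y`, `e` is a stem extension with kernel of order six, and it
maps onto every stem extension (helper3).
-/

set_option autoImplicit false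
set_option maxRecDepth 100000

namespace Cfsg.Agent.Lib.Helper3.O73Mult

open Cfsg.Agent.Lib.Helper28.O73C Cfsg.Agent.Lib.Helper12.O73 Cfsg.Agent.Lib.Helper16
open Cfsg.Agent.Lib.Helper12.TC Cfsg.Agent.Lib.Helper12.TCG
open Cfsg.Agent.Lib.Helper3.StemPres Cfsg.Agent.Lib.Helper3.O73TC
open scoped commutatorElement

universe u

/-! ### the presented group maps onto the orthogonal group -/

theorem baseG : ∀ b ∈ Z.baseL, wprod vG b = 1 := by
  rw [Z.baseL_eq]
  exact baseOf_holds vG Z.cIV 14 vG_inv Z.sData Z.rels Z.posL Z.hSl Z.hRl Z.hPl vG_S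
    (fun r hr x _ => by rw [vG_rels r hr]; exact Commute.one_left _)

theorem exists_homG : ∃ π : Z.Grp →* ↥Om, ∀ x < 14, π (Z.v x) = vG x :=
  WPres.hlift 14 Z.baseL Z.hlet vG baseG

/-- the projection of the presented group onto the orthogonal group -/
noncomputable def piG : Z.Grp →* ↥Om := exists_homG.choose

theorem piG_v : ∀ x < 14, piG (Z.v x) = vG x := exists_homG.choose_spec

theorem piG_surj : Function.Surjective piG := by
  intro x
  have hle : Subgroup.closure {y | ∃ s < 14, y = vG s} ≤ piG.range := by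
    rw [Subgroup.closure_le]
    rintro y ⟨s, hs, rfl⟩
    exact ⟨Z.v s, piG_v s hs⟩
  exact hle (vG_gen x)

theorem z2W_mem : z2W ∈ Z.rels := by decide +kernel

theorem z3W_mem : z3W ∈ Z.rels := by decide +kernel

theorem zQ_eq : zQ = wprod Z.v z2W * wprod Z.v z3W := by
  unfold zQ zW
  rw [wprod_append]

theorem zQ_mem_ker : zQ ∈ piG.ker := by
  rw [MonoidHom.mem_ker, zQ_eq, map_mul, map_wprod_lt piG vG piG_v z2W z2W_lt,
    map_wprod_lt piG vG piG_v z3W z3W_lt, vG_rels z2W z2W_mem, vG_rels z3W z3W_mem, one_mul]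

theorem zQ_mem_center : zQ ∈ Subgroup.center Z.Grp := by
  rw [zQ_eq]
  exact Subgroup.mul_mem _
    (rel_mem_center Z.v Z.cIV 14 Z.hvinv Z.hgen Z.sData Z.rels Z.posL Z.hpos Z.hPl Z.hRl Z.hbase' z2W_mem)
    (rel_mem_center Z.v Z.cIV 14 Z.hvinv Z.hgen Z.sData Z.rels Z.posL Z.hpos Z.hPl Z.hRl Z.hbase' z3W_mem)

instance : Finite Z.Grp := Z.card_le.1

theorem card_ker_le : Nat.card piG.ker ≤ 6 := by
  have h1 : Nat.card Z.Grp = Nat.card piG.ker * Nat.card ↥Om := by
    rw [← Nat.card_congr (QuotientGroup.quotientKerEquivOfSurjective piG piG_surj).toEquiv, mul_comm]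
    exact Subgroup.card_eq_card_quotient_mul_card_subgroup piG.ker
  have h2 := Z.card_le.2
  rw [h1, card_Om] at h2
  by_contra hc
  push_neg at hc
  have : 7 * 4585351680 ≤ Nat.card piG.ker * 4585351680 := Nat.mul_le_mul_right _ hc
  omega

/-- the central element as an element of the kernel -/
noncomputable def zK : piG.ker := ⟨zQ, zQ_mem_ker⟩

theorem orderOf_zK : orderOf zK = orderOf zQ := by
  have : ((zK : piG.ker) : Z.Grp) = zQ := rfl
  rw [← this, Subgroup.orderOf_coe]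

theorem card_ker : Nat.card piG.ker = 6 := by
  have h1 : 6 ∣ Nat.card piG.ker := by
    refine dvd_trans six_dvd_orderOf_zQ ?_
    rw [← orderOf_zK]
    exact orderOf_dvd_natCard zK
  have h2 := card_ker_le
  have h3 : 0 < Nat.card piG.ker := Nat.card_pos
  obtain ⟨k, hk⟩ := h1
  omega

theorem orderOf_zQ : orderOf zQ = 6 := by
  apply Nat.dvd_antisymm _ six_dvd_orderOf_zQ
  rw [← orderOf_zK, ← card_ker]
  exact orderOf_dvd_natCard zK

theorem zpowers_zK : Subgroup.zpowers zK = ⊤ := by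
  apply Subgroup.eq_top_of_card_eq
  rw [Nat.card_zpowers, orderOf_zK, orderOf_zQ, card_ker]

theorem mem_ker_iff (k : Z.Grp) : k ∈ piG.ker ↔ k ∈ Subgroup.zpowers zQ := by
  constructor
  · intro hk
    have : (⟨k, hk⟩ : piG.ker) ∈ Subgroup.zpowers zK := by rw [zpowers_zK]; trivial
    obtain ⟨j, hj⟩ := Subgroup.mem_zpowers_iff.1 this
    refine Subgroup.mem_zpowers_iff.2 ⟨j, ?_⟩
    have := congrArg Subtype.val hj
    rw [Subgroup.coe_zpow] at this
    exact this
  · intro hk
    obtain ⟨j, rfl⟩ := Subgroup.mem_zpowers_iff.1 hk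
    exact Subgroup.zpow_mem _ zQ_mem_ker j

theorem zQ_pow_six : zQ ^ 6 = 1 := by
  rw [← orderOf_zQ]
  exact pow_orderOf_eq_one zQ

theorem v_mem_commutator (s : ℕ) : Z.v s ∈ commutator Z.Grp := by
  have hpos : ∀ p ∈ Z.sData, Z.v p.1 ∈ commutator Z.Grp := by
    intro p hp
    rw [letter_eq_comm Z.v Z.cIV 14 Z.hvinv Z.sData Z.rels Z.posL Z.hSl Z.hbase' hp, commutator_def]
    exact Subgroup.commutator_mem_commutator (Subgroup.mem_top _) (Subgroup.mem_top _)
  have hall : ∀ t < 14, t ∈ Z.posL → Z.v t ∈ commutator Z.Grp := by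
    intro t _ ht
    have : ∃ p ∈ Z.sData, p.1 = t := by
      revert t
      decide
    obtain ⟨p, hp, rfl⟩ := this
    exact hpos p hp
  by_cases hs : s < 14
  · rcases Z.hpos s hs with h | h
    · exact hall s hs h
    · have h1 := hall _ (ivK_lt Z.hiv hs (by decide)).1 h
      rw [Z.hvinv s hs] at h1
      exact (Subgroup.inv_mem_iff _).1 h1
  · rw [Z.hvge s hs]; exact Subgroup.one_mem _

theorem commutator_top : commutator Z.Grp = ⊤ := by
  rw [eq_top_iff]
  intro γ _
  have hle : Subgroup.closure {y | ∃ x < 14, y = Z.v x} ≤ commutator Z.Grp := by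
    rw [Subgroup.closure_le]
    rintro y ⟨x, _, rfl⟩
    exact v_mem_commutator x
  exact hle (Z.hgen γ)

theorem piG_stem : Cfsg.IsStemExtension piG := by
  refine ⟨piG_surj, ?_, ?_⟩
  · intro k hk
    obtain ⟨j, rfl⟩ := Subgroup.mem_zpowers_iff.1 ((mem_ker_iff k).1 hk)
    exact Subgroup.zpow_mem _ zQ_mem_center j
  · rw [commutator_top]; exact le_top

theorem exists_stem : ∃ (Γ : Type) (_ : Group Γ) (_ : Finite Γ) (σ : Γ →* ↥Om),
    Cfsg.IsStemExtension σ ∧ Nonempty (σ.ker ≃* Multiplicative (ZMod 6)) := by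
  refine ⟨Z.Grp, inferInstance, inferInstance, piG, piG_stem, ?_⟩
  have hcyc : IsCyclic piG.ker := isCyclic_iff_exists_zpowers_eq_top.2 ⟨zK, zpowers_zK⟩
  have e2 := zmodCyclicMulEquiv hcyc
  rw [card_ker] at e2
  exact ⟨e2.symm⟩

/-! ### every stem extension is an image of the presented group -/

/-- the first words of the commutator expressions -/
def hwT : List (List ℕ) :=
  [
   [4, 7, 4, 4, 7, 4],
   [],
   [4, 7, 4, 4, 7, 4],
   [],
   [0, 3, 0, 0, 3, 0],
   [],
   [0, 3, 0, 0, 3, 0],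
   [],
   [0, 3, 0, 0, 3, 0],
   [],
   [0, 3, 0, 0, 3, 0],
   [],
   [4, 7, 4, 4, 7, 4],
   []]

/-- the second words of the commutator expressions -/
def kwT : List (List ℕ) :=
  [
   [0],
   [],
   [2],
   [],
   [4],
   [],
   [6],
   [],
   [8],
   [],
   [10],
   [],
   [12],
   []]

/-- the first words of the commutator expressions -/
def hwF (s : ℕ) : List ℕ := hwT.getD s []

/-- the second words of the commutator expressions -/
def kwF (s : ℕ) : List ℕ := kwT.getD s []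

theorem sData_F : ∀ p ∈ Z.sData, p.1 < 14 ∧ p.1 < invS Z.cIV p.1 ∧ hwF p.1 = p.2.1 ∧ kwF p.1 = p.2.2 := by
  decide +kernel

theorem F_sData : ∀ s < 14, s < invS Z.cIV s → (s, hwF s, kwF s) ∈ Z.sData := by
  intro s hs hp
  interval_cases s <;> first | exact absurd hp (by decide) | decide +kernel

theorem upper {Γ : Type u} [Group Γ] [Finite Γ] (σ : Γ →* ↥Om) (hσ : Cfsg.IsStemExtension σ) :
    ∃ π : Multiplicative (ZMod 6) →* σ.ker, Function.Surjective π := by
  obtain ⟨hsurj, hcen, hder⟩ := hσ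
  obtain ⟨v', h1, h2, h3, h4⟩ := exists_lifts σ hsurj hcen 14 Z.cIV (by decide) Z.hiv Z.hne vG vG_inv vG_ge
    hwF kwF (fun s hs hp => vG_S _ (F_sData s hs hp))
  have hS : ∀ p ∈ Z.sData, v' p.1 = ⁅wprod v' p.2.1, wprod v' p.2.2⁆ := by
    intro p hp
    obtain ⟨a, b, c, d⟩ := sData_F p hp
    have := h4 p.1 a b
    rwa [c, d] at this
  have hfun : (fun s => σ (v' s)) = vG := funext h1
  have hC : ∀ r ∈ Z.rels, ∀ x ∈ Z.posL, Commute (wprod v' r) (v' x) := by
    intro r hr x _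
    have hz : wprod v' r ∈ Subgroup.center Γ := by
      apply hcen
      rw [MonoidHom.mem_ker, map_wprod, hfun]
      exact vG_rels r hr
    exact ((Subgroup.mem_center_iff.1 hz) (v' x)).symm
  have hbase : ∀ b ∈ Z.baseL, wprod v' b = 1 := by
    rw [Z.baseL_eq]
    exact baseOf_holds v' Z.cIV 14 h2 Z.sData Z.rels Z.posL Z.hSl Z.hRl Z.hPl hS hC
  obtain ⟨ρ, hρ'⟩ := WPres.hlift 14 Z.baseL Z.hlet v' hbase
  have hρ : ∀ x < 14, ρ (Z.v x) = v' x := hρ'
  have hcomp : σ.comp ρ = piG := by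
    apply WPres.hom_ext
    intro x hx
    rw [MonoidHom.comp_apply]
    show σ (ρ (Z.v x)) = piG (Z.v x)
    rw [hρ x hx, h1, piG_v x hx]
  have hgen : ∀ γ : Γ, γ ∈ Subgroup.closure {y | ∃ s < 14, y = v' s} := by
    apply closure_lifts σ hcen hder 14 v'
    intro x
    have : {y | ∃ s < 14, y = σ (v' s)} = {y | ∃ s < 14, y = vG s} := by
      ext y
      constructor
      · rintro ⟨s, hs, rfl⟩; exact ⟨s, hs, h1 s⟩
      · rintro ⟨s, hs, rfl⟩; exact ⟨s, hs, (h1 s).symm⟩
    rw [this]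
    exact vG_gen x
  have hρsurj : Function.Surjective ρ := by
    intro γ
    have hle : Subgroup.closure {y | ∃ s < 14, y = v' s} ≤ ρ.range := by
      rw [Subgroup.closure_le]
      rintro y ⟨s, hs, rfl⟩
      exact ⟨Z.v s, hρ s hs⟩
    exact hle (hgen γ)
  have hzk : ρ zQ ∈ σ.ker := by
    rw [MonoidHom.mem_ker, ← MonoidHom.comp_apply, hcomp]
    exact zQ_mem_ker
  refine Cfsg.Agent.Lib.Helper21.exists_surj_of_cyclic 6 (⟨ρ zQ, hzk⟩ : σ.ker) ?_ ?_
  · apply Subtype.ext
    rw [Subgroup.coe_pow]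
    show ρ zQ ^ 6 = 1
    rw [← map_pow, zQ_pow_six, map_one]
  · intro k
    obtain ⟨a, ha⟩ := hρsurj k.1
    have hak : a ∈ piG.ker := by
      rw [MonoidHom.mem_ker, ← hcomp, MonoidHom.comp_apply, ha]
      exact k.2
    obtain ⟨j, hj⟩ := Subgroup.mem_zpowers_iff.1 ((mem_ker_iff a).1 hak)
    refine Subgroup.mem_zpowers_iff.2 ⟨j, ?_⟩
    apply Subtype.ext
    rw [Subgroup.coe_zpow]
    show ρ zQ ^ j = k.1
    rw [← map_zpow, hj, ha]

/-! ### transfer to an arbitrary field with three elements -/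

theorem commutator_equiv {A B : Type*} [Group A] [Group B] (e : A ≃* B) :
    Nonempty (↥(commutator A) ≃* ↥(commutator B)) := by
  have h : (commutator A).map e.toMonoidHom = commutator B := by
    rw [commutator_def, Subgroup.map_commutator, commutator_def,
      Subgroup.map_top_of_surjective _ e.surjective]
  exact ⟨(e.subgroupMap (commutator A)).trans (MulEquiv.subgroupCongr h)⟩

theorem exists_iso {F : Type u} [Field F] [Fintype F] (hF : Fintype.card F = 3) :
    Nonempty (Cfsg.POmega F (Cfsg.quadFormOdd 3 F) ≃* ↥Om) := by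
  haveI : Fact (Nat.Prime 3) := ⟨Nat.prime_three⟩
  haveI : CharP F 3 := charP_of_card_eq_prime hF
  have φ : F ≃+* ZMod 3 := (ZMod.ringEquivOfPrime F Nat.prime_three hF).symm
  obtain ⟨e1⟩ := Cfsg.Agent.Lib.Lead.IT.isoTransfer φ (Cfsg.quadFormOdd 3 F)
    (Cfsg.quadFormOdd 3 (ZMod 3)) (by
      intro v
      unfold Cfsg.quadFormOdd
      rw [map_add, map_pow, map_sum]
      congr 1
      apply Finset.sum_congr rfl
      intro i _
      rw [map_mul]
      rfl)
  obtain ⟨e3⟩ := commutator_equiv e1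
  have h2 : (2 : F) ≠ 0 := by
    intro h
    have h3 : ((2 : ℕ) : F) = 0 := by exact_mod_cast h
    rw [CharP.cast_eq_zero_iff F 3] at h3
    omega
  have hbot : Subgroup.center ↥(Cfsg.Omega F (Cfsg.quadFormOdd 3 F)) = ⊥ :=
    Cfsg.Agent.S0292.center_trivial h2 3 le_rfl
  exact ⟨(QuotientGroup.quotientMulEquivOfEq hbot).trans (QuotientGroup.quotientBot.trans e3)⟩

/-- the Schur multiplier of `PΩ₇(3)` -/
theorem o73_multiplier {F : Type u} [Field F] [Fintype F] (hF : Fintype.card F = 3) :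
    Cfsg.HasCyclicSchurMultiplier (Cfsg.POmega F (Cfsg.quadFormOdd 3 F)) 6 := by
  obtain ⟨e⟩ := exists_iso hF
  exact Cfsg.Agent.Lib.Helper5.Stem.hasSchurMultiplier_of_equiv e _ exists_stem
    (fun Γ _ _ σ hσ => upper σ hσ)

end Cfsg.Agent.Lib.Helper3.O73Mult
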