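import Mathlib
import Cfsg.Prelude.Def_Classical
import Cfsg.Agent.Lib.helper3.O9A.Defs
import Cfsg.Agent.Lib.Helper28.O9AFF8

set_option autoImplicit false

/-!
# Project O9A, row AFFRO, second copy (helper3): the spectrum of the frozen semidirect product `AffO F a b`,
directly from helper28's `o9aff_range_frozen` (no use of the rows AFFP, AFFR, AFFISO).
-/

namespace Cfsg.Agent.Lib.helper3.O9A

open Matrix Module Cfsg.Agent.Lib.Helper1.S8U

/-- `geo` of helper28 at the frozen action is `toLin'` of `geoM` -/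
theorem o9aaffro_h3_geo {F : Type*} [Field F] (a b : F)
    (g : ↥(Cfsg.Omega F (Cfsg.quadFormMinus 3 F a b))) (k : ℕ) :
    Cfsg.Agent.Lib.Helper28.O9AFF.geo (Cfsg.Agent.Lib.Helper28.O9AFF.h8 F a b) g k =
      Matrix.toLin' (geoM ((g : ↥(Cfsg.isometryGroup F (Cfsg.quadFormMinus 3 F a b))) : GL MI8 F) k) := by
  unfold Cfsg.Agent.Lib.Helper28.O9AFF.geo geoM
  rw [map_sum]
  refine Finset.sum_congr rfl (fun i _ => ?_)
  rw [Units.val_pow_eq_pow_val, Matrix.toLin'_pow]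
  rfl

/-- AFFRO, second copy -/
theorem o9aaffro_h3 {F : Type*} [Field F] [Fintype F] (p : ℕ) [Fact p.Prime] [CharP F p] (a b : F) (n : ℕ) :
    n ∈ Set.range (orderOf : AffO F a b → ℕ) ↔
      (∃ g ∈ Om8 F a b, orderOf g = n) ∨ (∃ g ∈ Om8 F a b, p * orderOf g = n ∧ geoM g (orderOf g) ≠ 0) := by
  have hinj : Function.Injective (Cfsg.isometryGroup F (Cfsg.quadFormMinus 3 F a b)).subtype :=
    Subgroup.subtype_injective _
  have hord : ∀ g : ↥(Cfsg.Omega F (Cfsg.quadFormMinus 3 F a b)),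
      orderOf (((g : ↥(Cfsg.isometryGroup F (Cfsg.quadFormMinus 3 F a b))) : GL MI8 F)) = orderOf g := by
    intro g
    rw [Subgroup.orderOf_coe, Subgroup.orderOf_coe]
  have hmem : ∀ g : ↥(Cfsg.Omega F (Cfsg.quadFormMinus 3 F a b)),
      (((g : ↥(Cfsg.isometryGroup F (Cfsg.quadFormMinus 3 F a b))) : GL MI8 F)) ∈ Om8 F a b := by
    intro g
    exact ⟨(g : ↥(Cfsg.isometryGroup F (Cfsg.quadFormMinus 3 F a b))), g.2, rfl⟩
  have hex : ∀ g ∈ Om8 F a b, ∃ g' : ↥(Cfsg.Omega F (Cfsg.quadFormMinus 3 F a b)),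
      (((g' : ↥(Cfsg.isometryGroup F (Cfsg.quadFormMinus 3 F a b))) : GL MI8 F)) = g := by
    rintro g ⟨x, hx, rfl⟩
    exact ⟨⟨x, hx⟩, rfl⟩
  have hne : ∀ (g : ↥(Cfsg.Omega F (Cfsg.quadFormMinus 3 F a b))) (k : ℕ),
      Cfsg.Agent.Lib.Helper28.O9AFF.geo (Cfsg.Agent.Lib.Helper28.O9AFF.h8 F a b) g k ≠ 0 ↔
        geoM ((g : ↥(Cfsg.isometryGroup F (Cfsg.quadFormMinus 3 F a b))) : GL MI8 F) k ≠ 0 := by
    intro g k
    rw [o9aaffro_h3_geo, Ne, Ne, LinearEquiv.map_eq_zero_iff]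
  have key := Cfsg.Agent.Lib.Helper28.O9AFF.o9aff_range_frozen (F := F) p a b n
  refine Iff.trans key ?_
  constructor
  · rintro (⟨g, hg⟩ | ⟨g, hg, h0⟩)
    · exact Or.inl ⟨_, hmem g, by rw [hord, hg]⟩
    · refine Or.inr ⟨_, hmem g, by rw [hord, hg], ?_⟩
      rw [hord]
      exact (hne g _).1 h0
  · rintro (⟨g, hg, hn⟩ | ⟨g, hg, hn, h0⟩)
    · obtain ⟨g', rfl⟩ := hex g hg
      exact Or.inl ⟨g', by rw [← hord, hn]⟩
    · obtain ⟨g', rfl⟩ := hex g hg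
      refine Or.inr ⟨g', by rw [← hord, hn], ?_⟩
      rw [hord] at h0
      exact (hne g' _).2 h0

end Cfsg.Agent.Lib.helper3.O9A
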