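import Mathlib
import Cfsg.Prelude.Def_Classical
import Cfsg.Agent.Lib.helper3.O9A.Defs
import Cfsg.Agent.Lib.helper3.O9AAFFROh3

set_option autoImplicit false

/-!
# Project O9A, row AFFRO (helper3): the spectrum of the frozen semidirect product `AffO F a b`, verbatim statement of the Skel
(proof: `o9aaffro_h3`, from helper28's `o9aff_range_frozen`).
-/

namespace Cfsg.Agent.Lib.helper3.O9A

open Matrix Module Polynomial Cfsg.Agent.Lib.Helper1.S8U

/-- AFFRO -/
theorem affO_range {F : Type*} [Field F] [Fintype F] (p : ℕ) [Fact p.Prime] [CharP F p] (a b : F) (n : ℕ) :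
    n ∈ Set.range (orderOf : AffO F a b → ℕ) ↔
      (∃ g ∈ Om8 F a b, orderOf g = n) ∨ (∃ g ∈ Om8 F a b, p * orderOf g = n ∧ geoM g (orderOf g) ≠ 0) :=
  o9aaffro_h3 p a b n

end Cfsg.Agent.Lib.helper3.O9A
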