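import Mathlib
import Cfsg.Prelude.Def_Classical
import Cfsg.Agent.Lib.helper3.O9A.Defs

set_option autoImplicit false

/-!
# Project O9A, row GEOP (helper3): `∑_{i < m p^k} g^i = (∑_{a<m} (g^(p^k))^a) (g - 1)^(p^k - 1)` in characteristic `p`.
-/

namespace Cfsg.Agent.Lib.helper3.O9A

open Matrix Module Polynomial Cfsg.Agent.Lib.Helper1.S8U Cfsg.Agent.Lib.Helper16

/-- the polynomial identity -/
theorem o9ageop_poly {F : Type*} [Field F] (p : ℕ) [Fact p.Prime] [CharP F p] (m k : ℕ) :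
    (∑ i ∈ Finset.range (m * p ^ k), (X : F[X]) ^ i) =
      (∑ a ∈ Finset.range m, ((X : F[X]) ^ (p ^ k)) ^ a) * (X - 1) ^ (p ^ k - 1) := by
  have hX : (X - 1 : F[X]) ≠ 0 := by
    have := X_sub_C_ne_zero (1 : F)
    simpa using this
  apply mul_left_cancel₀ hX
  have hpos : 0 < p ^ k := pow_pos (Fact.out : p.Prime).pos k
  rw [mul_geom_sum, mul_left_comm, ← pow_succ', Nat.sub_add_cancel hpos, sub_pow_char_pow, one_pow, geom_sum_mul,
    ← pow_mul, mul_comm m]

theorem geo_split {F : Type*} [Field F] (p : ℕ) [Fact p.Prime] [CharP F p] {R : Type*} [Ring R] [Algebra F R] (g : R) (m k : ℕ) :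
    ∑ i ∈ Finset.range (m * p ^ k), g ^ i =
      (∑ a ∈ Finset.range m, (g ^ (p ^ k)) ^ a) * (g - 1) ^ (p ^ k - 1) := by
  have h := congrArg (Polynomial.aeval (R := F) g) (o9ageop_poly (F := F) p m k)
  simpa only [map_sum, map_mul, map_pow, map_sub, aeval_X, map_one] using h

end Cfsg.Agent.Lib.helper3.O9A
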