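import Mathlib
import Cfsg.Prelude.Def_Classical
import Cfsg.Agent.Lib.helper3.O9A.Defs
import Cfsg.Agent.Lib.helper3.O9AGEOP

set_option autoImplicit false

/-!
# Project O9A, row GEOK (helper3): if `1 + y + ⋯ + y^(m p^k - 1) ≠ 0` (and `y^(m p^k) = 1`) then the fixed space of `y^(p^k)`
has dimension at least `p^k`.
-/

namespace Cfsg.Agent.Lib.helper3.O9A

open Matrix Module Polynomial Cfsg.Agent.Lib.Helper1.S8U Cfsg.Agent.Lib.Helper16

/-- `(g - 1)^(p^k) = g^(p^k) - 1` in an algebra over a field of characteristic `p` -/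
theorem o9ageok_frob {F : Type*} [Field F] (p : ℕ) [Fact p.Prime] [CharP F p] {R : Type*} [Ring R] [Algebra F R] (g : R) (k : ℕ) :
    (g - 1) ^ (p ^ k) = g ^ (p ^ k) - 1 := by
  have h0 : ((X : F[X]) - 1) ^ (p ^ k) = X ^ (p ^ k) - 1 := by
    rw [sub_pow_char_pow, one_pow]
  have h := congrArg (Polynomial.aeval (R := F) g) h0
  simpa only [map_pow, map_sub, aeval_X, map_one] using h

/-- a nilpotent endomorphism `D` (`D^P = 0`) of a space of dimension `< P` has `D^(P-1) = 0` -/
theorem o9ageok_nil {F : Type*} [Field F] {K : Type*} [AddCommGroup K] [Module F K] [FiniteDimensional F K]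
    (D : Module.End F K) (P : ℕ) (hD : D ^ P = 0) (hlt : finrank F K < P) : D ^ (P - 1) = 0 := by
  have hnil : IsNilpotent D := ⟨P, hD⟩
  have hch : D.charpoly = X ^ finrank F K := ((LinearMap.charpoly_nilpotent_tfae D).out 0 1).mp hnil
  have h1 : D ^ finrank F K = 0 := by
    have := D.aeval_self_charpoly
    rw [hch] at this
    simpa only [map_pow, aeval_X] using this
  have h2 : P - 1 = finrank F K + (P - 1 - finrank F K) := by omega
  rw [h2, pow_add, h1, zero_mul]

theorem geo_ker {F : Type*} [Field F] (p : ℕ) [Fact p.Prime] [CharP F p] {V : Type*} [AddCommGroup V] [Module F V] [FiniteDimensional F V]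
    (y : Module.End F V) (m k : ℕ) (hy : y ^ (m * p ^ k) = 1) (hS : ∑ i ∈ Finset.range (m * p ^ k), y ^ i ≠ 0) :
    p ^ k ≤ finrank F ↥(LinearMap.ker (y ^ (p ^ k) - 1)) := by
  set P := p ^ k with hP
  set s : Module.End F V := y ^ P with hs
  set D : Module.End F V := y - 1 with hD
  set T : Module.End F V := ∑ a ∈ Finset.range m, s ^ a with hT
  have hsplit : ∑ i ∈ Finset.range (m * P), y ^ i = T * D ^ (P - 1) := geo_split (F := F) p y m k
  have hDP : D ^ P = s - 1 := o9ageok_frob (F := F) p y k
  have hsT : (s - 1) * T = 0 := by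
    rw [hT, mul_geom_sum, hs, ← pow_mul, mul_comm P m, hy, sub_self]
  have hcomm_sD : Commute (s - 1) D := by
    have h1 : Commute s y := (Commute.refl y).pow_left P
    exact (h1.sub_left (Commute.one_left _)).sub_right (Commute.one_right _)
  have hcomm_TD : Commute T (D ^ (P - 1)) := by
    have h1 : Commute T y := by
      rw [hT]
      apply Commute.sum_left
      intro a _
      exact ((Commute.refl y).pow_left P).pow_left a
    exact (h1.sub_right (Commute.one_right _)).pow_right _
  -- a vector
  obtain ⟨x, hx⟩ : ∃ x : V, (T * D ^ (P - 1)) x ≠ 0 := by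
    by_contra hcon
    push Not at hcon
    apply hS
    rw [hsplit]
    exact LinearMap.ext hcon
  set K := LinearMap.ker (s - 1) with hK
  have hKinv : ∀ u ∈ K, D u ∈ K := by
    intro u hu
    rw [hK, LinearMap.mem_ker] at hu ⊢
    have := congrArg (fun f : Module.End F V => f u) hcomm_sD.eq
    simp only [Module.End.mul_apply] at this
    rw [this, hu, map_zero]
  have hv1 : T x ∈ K := by
    rw [hK, LinearMap.mem_ker, ← Module.End.mul_apply, hsT, LinearMap.zero_apply]
  by_contra hlt
  push Not at hlt
  have hD' : (D.restrict hKinv) ^ P = 0 := by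
    rw [Module.End.pow_restrict]
    apply LinearMap.ext
    intro u
    apply Subtype.ext
    rw [LinearMap.coe_restrict_apply, LinearMap.zero_apply, Submodule.coe_zero, hDP]
    exact LinearMap.mem_ker.mp u.2
  have h0 := o9ageok_nil (D.restrict hKinv) P hD' hlt
  rw [Module.End.pow_restrict] at h0
  have h1 := congrArg (fun f : Module.End F ↥K => ((f ⟨T x, hv1⟩ : ↥K) : V)) h0
  simp only [LinearMap.coe_restrict_apply, LinearMap.zero_apply, Submodule.coe_zero] at h1
  apply hx
  rw [hcomm_TD.eq, Module.End.mul_apply]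
  exact h1

end Cfsg.Agent.Lib.helper3.O9A
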