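import Mathlib
import Cfsg.Prelude.Def_Classical
import Cfsg.Agent.Lib.helper3.O9A.Defs
import Cfsg.Agent.Lib.helper3.O9AAFFRO
import Cfsg.Agent.Lib.helper3.O9AGEOK
import Cfsg.Agent.Lib.helper6.O9AEMB2
import Cfsg.Agent.Lib.helper6.O9AEMB3
import Cfsg.Agent.Lib.helper6.O9AHAT
import Cfsg.Agent.Lib.helper6.O9AHATOM
import Cfsg.Agent.Lib.Helper22.O9APOM

set_option autoImplicit false

/-!
# Project O9A, row MAIN, core (helper3): every element order of the frozen semidirect product `AffO F a b` (`= F^8 ⋊ Ω⁻₈(q)`, `q` odd)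
is an element order of `PΩ₉(q)`; here with the statement of the row LIFT (`lift9`) as a hypothesis `Hlift`.
Cites the rows AFFRO, GEOK, EMB2, EMB3, HAT, HATOM, POM.
-/

namespace Cfsg.Agent.Lib.helper3.O9A

open Matrix Module Polynomial Cfsg.Agent.Lib.Helper1.S8U Cfsg.Agent.Lib.Helper16

theorem o9amain_two_ne {F : Type*} [Field F] [Fintype F] (hF : Odd (Fintype.card F)) : (2 : F) ≠ 0 := by
  intro h2
  have hchar : ringChar F = 2 := by
    have hdvd : ringChar F ∣ 2 := by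
      have : ((2 : ℕ) : F) = 0 := by exact_mod_cast h2
      exact (ringChar.spec F 2).1 this
    rcases (Nat.dvd_prime Nat.prime_two).1 hdvd with h | h
    · exact absurd h (CharP.ringChar_ne_one)
    · exact h
  have heven : Fintype.card F % 2 = 0 := FiniteField.even_card_of_char_two hchar
  rcases hF with ⟨k, hk⟩
  omega

/-- the fixed space of `ĝ` contains `emb8 (fixed space of g) ⊕ ⟨w9⟩` -/
theorem o9amain_fix {F : Type*} [Field F] (h2 : (2 : F) ≠ 0) (a b : F) (hd : dl a b ≠ 0)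
    (A : Matrix MI8 MI8 F) (Y : Matrix OI9 OI9 F)
    (hY1 : ∀ v : MI8 → F, Y *ᵥ emb8 a b v = emb8 a b (A *ᵥ v)) (hY2 : Y *ᵥ w9 a b = w9 a b) :
    finrank F ↥(LinearMap.ker (Matrix.toLin' A - 1)) + 1 ≤
      finrank F ↥(LinearMap.ker (Matrix.toLin' Y - 1)) := by
  obtain ⟨P, hP⟩ := emb8_equiv h2 a b hd
  set K8 := LinearMap.ker (Matrix.toLin' A - 1) with hK8
  set K9 := LinearMap.ker (Matrix.toLin' Y - 1) with hK9
  -- the map (v, t) ↦ emb8 v + t • w9 on K8 × F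
  let Ψ0 : (↥K8 × F) →ₗ[F] (OI9 → F) := P.toLinearMap.comp (LinearMap.prodMap K8.subtype LinearMap.id)
  have hΨ0 : ∀ x : ↥K8 × F, Ψ0 x = emb8 a b (x.1 : MI8 → F) + x.2 • w9 a b := by
    intro x
    show P ((x.1 : MI8 → F), x.2) = _
    exact hP _ _
  have hmem : ∀ x : ↥K8 × F, Ψ0 x ∈ K9 := by
    intro x
    rw [hK9, LinearMap.mem_ker, LinearMap.sub_apply, Module.End.one_apply, Matrix.toLin'_apply, hΨ0,
      Matrix.mulVec_add, Matrix.mulVec_smul, hY1, hY2]
    have hx : A *ᵥ (x.1 : MI8 → F) = (x.1 : MI8 → F) := by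
      have h0 : (Matrix.toLin' A - 1) (x.1 : MI8 → F) = 0 := LinearMap.mem_ker.mp x.1.2
      rw [LinearMap.sub_apply, Module.End.one_apply, Matrix.toLin'_apply, sub_eq_zero] at h0
      exact h0
    rw [hx, sub_self]
  let Ψ : (↥K8 × F) →ₗ[F] ↥K9 := LinearMap.codRestrict K9 Ψ0 hmem
  have hinj : Function.Injective Ψ := by
    intro x x' hxx
    have h1 : Ψ0 x = Ψ0 x' := congrArg Subtype.val hxx
    have h2' : ((x.1 : MI8 → F), x.2) = ((x'.1 : MI8 → F), x'.2) := P.injective h1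
    have h3 := (Prod.mk.injEq _ _ _ _).mp h2'
    exact Prod.ext (Subtype.ext h3.1) h3.2
  have := LinearMap.finrank_le_finrank_of_injective hinj
  rw [Module.finrank_prod, Module.finrank_self] at this
  exact this

/-- MAIN, with the statement of LIFT as a hypothesis -/
theorem o9amain_core {F : Type*} [Field F] [Fintype F] (hF : Odd (Fintype.card F)) (a b : F)
    (hab : ∀ z₁ z₂ : F, z₁ ^ 2 + a * z₁ * z₂ + b * z₂ ^ 2 = 0 → z₁ = 0 ∧ z₂ = 0)
    (Hlift : ∀ (p : ℕ) [Fact p.Prime] [CharP F p] (Y : GL OI9 F) (_ : Y ∈ Om9 F) (k : ℕ)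
      (_ : ¬ p ∣ orderOf Y)
      (_ : p ^ k + 1 ≤ finrank F ↥(LinearMap.ker (Matrix.toLin' (Y : Matrix OI9 OI9 F) - 1))),
      ∃ X ∈ Om9 F, orderOf X = p ^ (k + 1) * orderOf Y) :
    Set.range (orderOf : AffO F a b → ℕ) ⊆ Set.range (orderOf : Cfsg.POmega F (Cfsg.quadFormOdd 4 F) → ℕ) := by
  classical
  have h2 : (2 : F) ≠ 0 := o9amain_two_ne hF
  obtain ⟨p, hcp⟩ := CharP.exists F
  have : CharP F p := hcp
  have hp : p.Prime := by
    rcases CharP.char_is_prime_or_zero F p with h | h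
    · exact h
    · exfalso
      have : CharP F 0 := h ▸ hcp
      have : CharZero F := CharP.charP_to_charZero F
      exact not_finite F
  have : Fact p.Prime := ⟨hp⟩
  have hd : dl a b ≠ 0 := dl_ne h2 a b hab
  obtain ⟨φ, hφinj, hφ1, hφ2⟩ := hat_ex h2 a b hd
  -- transport of an element of Om8 to Om9
  have key : ∀ g ∈ Om8 F a b, ∃ Y0 ∈ Om9 F, orderOf Y0 = orderOf g ∧
      (∀ (j : ℕ) (v : MI8 → F), ((Y0 ^ j : GL OI9 F) : Matrix OI9 OI9 F) *ᵥ emb8 a b v =
        emb8 a b (((g ^ j : GL MI8 F) : Matrix MI8 MI8 F) *ᵥ v)) ∧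
      (∀ j : ℕ, ((Y0 ^ j : GL OI9 F) : Matrix OI9 OI9 F) *ᵥ w9 a b = w9 a b) := by
    intro g hg
    obtain ⟨γ, hγ, rfl⟩ := hg
    refine ⟨((φ γ : ↥(Cfsg.isometryGroup F (Cfsg.quadFormOdd 4 F))) : GL OI9 F),
      ⟨φ γ, hom_commutator φ γ hγ, rfl⟩, ?_, ?_, ?_⟩
    · show orderOf ((φ γ : ↥(Cfsg.isometryGroup F (Cfsg.quadFormOdd 4 F))) : GL OI9 F) =
        orderOf ((γ : ↥(Cfsg.isometryGroup F (Cfsg.quadFormMinus 3 F a b))) : GL MI8 F)
      rw [Subgroup.orderOf_coe, Subgroup.orderOf_coe, orderOf_injective φ hφinj]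
    · intro j v
      have := hφ1 (γ ^ j) v
      rw [map_pow] at this
      simpa using this
    · intro j
      have := hφ2 (γ ^ j)
      rw [map_pow] at this
      simpa using this
  rintro n ⟨x, rfl⟩
  rcases (affO_range p a b (orderOf x)).mp ⟨x, rfl⟩ with ⟨g, hg, hgn⟩ | ⟨g, hg, hgn, hgeo⟩
  · obtain ⟨Y0, hY0, hord, -, -⟩ := key g hg
    exact (pom_range h2 _).mpr ⟨Y0, hY0, hord.trans hgn⟩
  · obtain ⟨Y0, hY0, hord, hact1, hact2⟩ := key g hg
    have hN0 : orderOf g ≠ 0 := (orderOf_pos g).ne'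
    obtain ⟨k, m, hm, hN⟩ := Nat.exists_eq_pow_mul_and_not_dvd hN0 p hp.ne_one
    -- the endomorphism of F^8
    set A : Matrix MI8 MI8 F := (g : Matrix MI8 MI8 F) with hA
    have hApow : ∀ j : ℕ, ((g ^ j : GL MI8 F) : Matrix MI8 MI8 F) = A ^ j := fun j => by
      rw [Units.val_pow_eq_pow_val]
    have hy : (Matrix.toLin' A) ^ (m * p ^ k) = 1 := by
      rw [← Matrix.toLin'_pow, ← hApow, mul_comm, ← hN, pow_orderOf_eq_one]
      simp only [Units.val_one, Matrix.toLin'_one]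
      rfl
    have hS : ∑ i ∈ Finset.range (m * p ^ k), (Matrix.toLin' A) ^ i ≠ 0 := by
      intro h0
      apply hgeo
      have h1 : Matrix.toLin' (geoM g (orderOf g)) = 0 := by
        unfold geoM
        rw [map_sum, hN, mul_comm (p ^ k) m]
        rw [← h0]
        refine Finset.sum_congr rfl fun i _ => ?_
        rw [hApow, Matrix.toLin'_pow]
      exact (Matrix.toLin' (R := F)).injective (by rw [h1, map_zero])
    have hker := geo_ker p (Matrix.toLin' A) m k hy hS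
    -- the element of order m
    have hYm : orderOf (Y0 ^ p ^ k) = m := by
      rw [orderOf_pow_of_dvd (pow_ne_zero k hp.ne_zero) (by rw [hord, hN]; exact dvd_mul_right _ _), hord, hN,
        Nat.mul_div_cancel_left _ (pow_pos hp.pos k)]
    have hfix : p ^ k + 1 ≤
        finrank F ↥(LinearMap.ker (Matrix.toLin' ((Y0 ^ p ^ k : GL OI9 F) : Matrix OI9 OI9 F) - 1)) := by
      have h1 := o9amain_fix h2 a b hd (A ^ p ^ k) ((Y0 ^ p ^ k : GL OI9 F) : Matrix OI9 OI9 F)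
        (fun v => by rw [hact1, hApow]) (hact2 _)
      rw [Matrix.toLin'_pow] at h1
      omega
    obtain ⟨X, hX, hXord⟩ := Hlift p (Y0 ^ p ^ k) (Subgroup.pow_mem _ hY0 _) k (by rw [hYm]; exact hm) hfix
    refine (pom_range h2 _).mpr ⟨X, hX, ?_⟩
    rw [hXord, hYm, ← hgn, hN, pow_succ]
    ring

end Cfsg.Agent.Lib.helper3.O9A
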