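import Mathlib
import Cfsg.Prelude.Def_Classical
import Cfsg.Agent.Lib.helper3.O9A.Defs
import Cfsg.Agent.Lib.helper3.O9AMainCore
import Cfsg.Agent.Lib.helper4.O9ALIFTcore
import Cfsg.Agent.Lib.Helper22.O9AHEART

set_option autoImplicit false

/-!
# Project O9A, row MAIN (helper3): PART A of S2517.  `q` odd: every element order of the frozen semidirect product
`AffO F a b = F^8 ⋊ Ω⁻₈(q)` is an element order of `PΩ₉(q)`.
(`o9amain_core` with the statement of the row LIFT, obtained here from helper4's `o9alift_core`, `o9alift_pre` and helper22's `heart`.)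
-/

namespace Cfsg.Agent.Lib.helper3.O9A

open Matrix Module Polynomial Cfsg.Agent.Lib.Helper1.S8U Cfsg.Agent.Lib.Helper16

/-- the statement of the row LIFT, from `o9alift_core`, `o9alift_pre` (helper4) and `heart` (helper22) -/
theorem o9amain_lift {F : Type*} [Field F] [Fintype F] (hodd : Odd (Fintype.card F)) (p : ℕ) [Fact p.Prime] [CharP F p] (Y : GL OI9 F) (hY : Y ∈ Om9 F) (k : ℕ)
    (hm : ¬ p ∣ orderOf Y) (hfix : p ^ k + 1 ≤ finrank F ↥(LinearMap.ker (Matrix.toLin' (Y : Matrix OI9 OI9 F) - 1))) :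
    ∃ X ∈ Om9 F, orderOf X = p ^ (k + 1) * orderOf Y := by
  obtain ⟨h2, hp2, hiso, hpow, hcast, hdet, hoddV⟩ := o9alift_pre hodd p Y hY hm
  have hpp : p.Prime := Fact.out
  have hPodd : Odd (p ^ k) := (hpp.odd_of_ne_two hp2).pow
  exact o9alift_core hodd p Y hY k hm
    (heart h2 (Cfsg.Agent.Lib.Helper16.qfOdd 4 F) (Cfsg.Agent.Lib.Helper16.OA.qfOdd_nondeg 4 h2)
      (Matrix.toLin' (Y : Matrix OI9 OI9 F)) hiso (orderOf Y) hcast hpow hdet hoddV (p ^ k) hPodd hfix)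

/-- MAIN -/
theorem o9a_main {F : Type*} [Field F] [Fintype F] (hF : Odd (Fintype.card F)) (a b : F)
    (hab : ∀ z₁ z₂ : F, z₁ ^ 2 + a * z₁ * z₂ + b * z₂ ^ 2 = 0 → z₁ = 0 ∧ z₂ = 0) :
    Set.range (orderOf : AffO F a b → ℕ) ⊆ Set.range (orderOf : Cfsg.POmega F (Cfsg.quadFormOdd 4 F) → ℕ) :=
  o9amain_core hF a b hab (fun p _ _ Y hY k hm hfix => o9amain_lift hF p Y hY k hm hfix)

end Cfsg.Agent.Lib.helper3.O9A
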