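import Mathlib

/-!
# Project PM3 (S2930), pieces L2a, L2b, L2c (helper3): Lucas congruences and the arithmetic case split.
-/

set_option autoImplicit false

namespace Cfsg.Agent.Lib.Helper11.PM3

/-- PIECE L2a (Lucas). -/
theorem choose_three_pow_mul (j u : ℕ) : (3 ^ j * u).choose (3 ^ j) ≡ u [MOD 3] := by
  induction j with
  | zero => simp [Nat.ModEq]
  | succ j ih =>
    have : Fact (Nat.Prime 3) := ⟨Nat.prime_three⟩
    have h := Choose.choose_modEq_choose_mod_mul_choose_div_nat (p := 3)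
      (n := 3 ^ (j + 1) * u) (k := 3 ^ (j + 1))
    have e1 : 3 ^ (j + 1) * u = 3 * (3 ^ j * u) := by ring
    have e2 : 3 ^ (j + 1) = 3 * 3 ^ j := by ring
    have m1 : 3 ^ (j + 1) * u % 3 = 0 := by rw [e1]; exact Nat.mul_mod_right 3 _
    have m2 : 3 ^ (j + 1) % 3 = 0 := by rw [e2]; exact Nat.mul_mod_right 3 _
    have d1 : 3 ^ (j + 1) * u / 3 = 3 ^ j * u := by
      rw [e1]; exact Nat.mul_div_cancel_left _ (by norm_num)
    have d2 : 3 ^ (j + 1) / 3 = 3 ^ j := by
      rw [e2]; exact Nat.mul_div_cancel_left _ (by norm_num)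
    rw [m1, m2, d1, d2, Nat.choose_self, one_mul] at h
    exact h.trans ih

/-- PIECE L2b (Lucas). -/
theorem choose_three_pow_mul_add_one (j u : ℕ) (hj : 1 ≤ j) :
    (3 ^ j * u + 1).choose (3 ^ j) ≡ u [MOD 3] := by
  obtain ⟨i, rfl⟩ : ∃ i, j = i + 1 := ⟨j - 1, by omega⟩
  have : Fact (Nat.Prime 3) := ⟨Nat.prime_three⟩
  have h := Choose.choose_modEq_choose_mod_mul_choose_div_nat (p := 3)
    (n := 3 ^ (i + 1) * u + 1) (k := 3 ^ (i + 1))
  have e1 : 3 ^ (i + 1) * u + 1 = 3 * (3 ^ i * u) + 1 := by ring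
  have e2 : 3 ^ (i + 1) = 3 * 3 ^ i := by ring
  have m1 : (3 ^ (i + 1) * u + 1) % 3 = 1 := by rw [e1]; omega
  have m2 : 3 ^ (i + 1) % 3 = 0 := by rw [e2]; exact Nat.mul_mod_right 3 _
  have d1 : (3 ^ (i + 1) * u + 1) / 3 = 3 ^ i * u := by rw [e1]; omega
  have d2 : 3 ^ (i + 1) / 3 = 3 ^ i := by
    rw [e2]; exact Nat.mul_div_cancel_left _ (by norm_num)
  rw [m1, m2, d1, d2, Nat.choose_zero_right, one_mul] at h
  exact h.trans (choose_three_pow_mul i u)

/-- PIECE L2c (case split, pure arithmetic). -/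
theorem case_split (n : ℕ) (hn : 5 ≤ n) :
    (n = 6 ∨ n = 9 ∨ ∃ a : ℕ, 2 ≤ a ∧ n = 3 ^ a + 1) ∨
    (n % 3 = 2) ∨
    (∃ j u : ℕ, 1 ≤ j ∧ ¬ 3 ∣ u ∧ 2 ≤ u ∧ n = 3 ^ j * u + 1) ∨
    (∃ j u : ℕ, 1 ≤ j ∧ ¬ 3 ∣ u ∧ 4 ≤ u ∧ n = 3 ^ j * u) ∨
    (∃ a : ℕ, 3 ≤ a ∧ n = 3 ^ a) ∨
    (∃ a : ℕ, 2 ≤ a ∧ n = 2 * 3 ^ a) := by
  have h3 : n % 3 = 0 ∨ n % 3 = 1 ∨ n % 3 = 2 := by omega
  rcases h3 with h0 | h1 | h2
  · -- `n = 3^j u`
    obtain ⟨j, u, hu, hnu⟩ := Nat.exists_eq_pow_mul_and_not_dvd (n := n) (by omega) 3 (by norm_num)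
    have hj : 1 ≤ j := by
      rcases Nat.eq_zero_or_pos j with rfl | hpos
      · exfalso
        rw [pow_zero, one_mul] at hnu
        apply hu
        rw [← hnu]
        exact Nat.dvd_of_mod_eq_zero h0
      · exact hpos
    have hu0 : u ≠ 0 := by
      rintro rfl
      exact hu (dvd_zero 3)
    have hu3 : u ≠ 3 := by
      rintro rfl
      exact hu (dvd_refl 3)
    have hcases : u = 1 ∨ u = 2 ∨ 4 ≤ u := by omega
    rcases hcases with rfl | rfl | hu4
    · rw [mul_one] at hnu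
      have : j = 1 ∨ j = 2 ∨ 3 ≤ j := by omega
      rcases this with rfl | rfl | hj3
      · omega
      · left; right; left; omega
      · right; right; right; right; left
        exact ⟨j, hj3, hnu⟩
    · have : j = 1 ∨ 2 ≤ j := by omega
      rcases this with rfl | hj2
      · left; left; omega
      · right; right; right; right; right
        exact ⟨j, hj2, by rw [hnu]; ring⟩
    · right; right; right; left
      exact ⟨j, u, hj, hu, hu4, hnu⟩
  · -- `n - 1 = 3^j u`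
    obtain ⟨j, u, hu, hnu⟩ := Nat.exists_eq_pow_mul_and_not_dvd (n := n - 1) (by omega) 3
      (by norm_num)
    have hj : 1 ≤ j := by
      rcases Nat.eq_zero_or_pos j with rfl | hpos
      · exfalso
        rw [pow_zero, one_mul] at hnu
        apply hu
        rw [← hnu]
        exact Nat.dvd_of_mod_eq_zero (by omega)
      · exact hpos
    have hu0 : u ≠ 0 := by
      rintro rfl
      exact hu (dvd_zero 3)
    have hn' : n = 3 ^ j * u + 1 := by omega
    have hcases : u = 1 ∨ 2 ≤ u := by omega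
    rcases hcases with rfl | hu2
    · rw [mul_one] at hn'
      left; right; right
      refine ⟨j, ?_, hn'⟩
      by_contra hlt
      have : j = 1 := by omega
      subst this
      omega
    · right; right; left
      exact ⟨j, u, hj, hu, hu2, hn'⟩
  · right; left; exact h2

end Cfsg.Agent.Lib.Helper11.PM3
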