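import Mathlib

set_option autoImplicit false

namespace Cfsg.Agent.Lib.helper3

open Matrix

local notation "SLtwo" => Matrix.SpecialLinearGroup (Fin 2)

section

variable {F : Type*} [Field F] [Fintype F]

theorem two_eq_zero_of_card_eight (hF : Fintype.card F = 8) : (2 : F) = 0 := by
  have h := FiniteField.cast_card_eq_zero F
  rw [hF] at h
  have h8 : (8 : F) = 2 ^ 3 := by norm_num
  have : ((8 : ℕ) : F) = 2 ^ 3 := by push_cast; exact h8
  rw [this] at h
  exact pow_eq_zero_iff (by omega) |>.1 h

theorem exists_root_cubic (hF : Fintype.card F = 8) : ∃ a : F, a ^ 3 + a + 1 = 0 := by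
  classical
  have h2 := two_eq_zero_of_card_eight hF
  obtain ⟨b, hb0, hb1⟩ : ∃ b : F, b ≠ 0 ∧ b ≠ 1 := by
    by_contra hcon
    push Not at hcon
    have hsub : (Finset.univ : Finset F) ⊆ {0, 1} := by
      intro x _
      by_cases hx : x = 0
      · simp [hx]
      · simp [hcon x hx]
    have := Finset.card_le_card hsub
    rw [Finset.card_univ, hF] at this
    have h3 : ({0, 1} : Finset F).card ≤ 2 := Finset.card_insert_le _ _
    omega
  have hb8 : b ^ 8 = b := by
    have := FiniteField.pow_card b
    rwa [hF] at this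
  have hprod : b * (b + 1) * ((b ^ 3 + b + 1) * (b ^ 3 + b ^ 2 + 1)) = 0 := by
    linear_combination hb8 + (b ^ 7 + b ^ 6 + 2 * b ^ 5 + 2 * b ^ 4 + b ^ 3 + b ^ 2 + b) * h2
  have hb1' : b + 1 ≠ 0 := by
    intro h
    apply hb1
    linear_combination h - h2
  rcases mul_eq_zero.1 hprod with h | h
  · exact absurd h (mul_ne_zero hb0 hb1')
  · rcases mul_eq_zero.1 h with h | h
    · exact ⟨b, h⟩
    · refine ⟨b + 1, ?_⟩
      linear_combination h + (b ^ 2 + b + 1) * h2 + h2 * b

/-- the special linear group of degree two over the field of order eight has an element of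
order nine -/
theorem exists_orderOf_nine_SL (hF : Fintype.card F = 8) :
    ∃ x : Matrix.SpecialLinearGroup (Fin 2) F, orderOf x = 9 := by
  have h2 := two_eq_zero_of_card_eight hF
  obtain ⟨a, ha⟩ := exists_root_cubic hF
  have hdet : (!![0, 1; 1, a] : Matrix (Fin 2) (Fin 2) F).det = 1 := by
    rw [Matrix.det_fin_two_of]
    linear_combination (-1 : F) * h2
  set M : Matrix.SpecialLinearGroup (Fin 2) F := ⟨!![0, 1; 1, a], hdet⟩ with hM
  have hM3 : (M ^ 3 : Matrix.SpecialLinearGroup (Fin 2) F).1 = !![a, 1 + a ^ 2; 1 + a ^ 2, a + 1] := by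
    rw [Matrix.SpecialLinearGroup.coe_pow, hM]
    simp only [pow_succ, pow_zero, one_mul]
    rw [Matrix.mul_fin_two, Matrix.mul_fin_two]
    ext i j
    fin_cases i <;> fin_cases j
    · simp
    · simp
    · simp
    · simp
      linear_combination ha - h2
  have hN3 : (!![a, 1 + a ^ 2; 1 + a ^ 2, a + 1] : Matrix (Fin 2) (Fin 2) F) ^ 3 = 1 := by
    have e1 : (!![a, 1 + a ^ 2; 1 + a ^ 2, a + 1] : Matrix (Fin 2) (Fin 2) F) *
        !![a, 1 + a ^ 2; 1 + a ^ 2, a + 1] = !![a + 1, 1 + a ^ 2; 1 + a ^ 2, a] := by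
      rw [Matrix.mul_fin_two]
      ext i j
      fin_cases i <;> fin_cases j
      · simp
        linear_combination a * ha + (a ^ 2 - a) * h2
      · simp
        linear_combination 2 * ha - h2
      · simp
        linear_combination 2 * ha - h2
      · simp
        linear_combination a * ha + (a ^ 2 + 1) * h2
    have e2 : (!![a + 1, 1 + a ^ 2; 1 + a ^ 2, a] : Matrix (Fin 2) (Fin 2) F) *
        !![a, 1 + a ^ 2; 1 + a ^ 2, a + 1] = 1 := by
      rw [Matrix.mul_fin_two, Matrix.one_fin_two]
      ext i j
      fin_cases i <;> fin_cases j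
      · simp
        linear_combination a * ha + a ^ 2 * h2
      · simp
        linear_combination 2 * ha + a ^ 2 * h2
      · simp
        linear_combination 2 * ha - h2
      · simp
        linear_combination a * ha + a ^ 2 * h2
    rw [pow_succ, pow_two, e1, e2]
  refine ⟨M, ?_⟩
  have h9 : M ^ 3 ^ (1 + 1) = 1 := by
    apply Subtype.ext
    have : (3 : ℕ) ^ (1 + 1) = 3 * 3 := by norm_num
    rw [this, pow_mul, Matrix.SpecialLinearGroup.coe_pow, hM3, hN3]
    rfl
  have h3 : ¬ M ^ 3 ^ 1 = 1 := by
    intro h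
    rw [pow_one] at h
    have h00 := congrArg (fun X : Matrix.SpecialLinearGroup (Fin 2) F => X.1 0 0) h
    simp only [hM3] at h00
    have ha1 : a = 1 := by simpa using h00
    rw [ha1] at ha
    apply one_ne_zero (α := F)
    linear_combination ha - h2
  have := orderOf_eq_prime_pow h3 h9
  rw [this]
  norm_num

theorem center_SL2_eq_bot (h2 : (2 : F) = 0) :
    Subgroup.center (Matrix.SpecialLinearGroup (Fin 2) F) = ⊥ := by
  rw [eq_bot_iff]
  intro A hA
  rw [Matrix.SpecialLinearGroup.mem_center_iff] at hA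
  obtain ⟨r, hr, hrA⟩ := hA
  rw [Fintype.card_fin] at hr
  have hr1 : r = 1 := by
    have : (r - 1) ^ 2 = 0 := by linear_combination hr - (r - 1) * h2
    have := pow_eq_zero_iff (by omega) |>.1 this
    linear_combination this
  rw [Subgroup.mem_bot]
  apply Subtype.ext
  rw [← hrA, hr1]
  simp

/-- the projective special linear group of degree two over the field of order eight has an
element of order nine -/
theorem exists_orderOf_nine_PSL (hF : Fintype.card F = 8) :
    ∃ x : Matrix.ProjectiveSpecialLinearGroup (Fin 2) F, orderOf x = 9 := by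
  have h2 := two_eq_zero_of_card_eight hF
  obtain ⟨x, hx⟩ := exists_orderOf_nine_SL hF
  refine ⟨QuotientGroup.mk' (Subgroup.center (Matrix.SpecialLinearGroup (Fin 2) F)) x, ?_⟩
  rw [← hx]
  apply orderOf_injective
  rw [← MonoidHom.ker_eq_bot_iff, QuotientGroup.ker_mk', center_SL2_eq_bot h2]

end

end Cfsg.Agent.Lib.helper3
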