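import Mathlib

set_option autoImplicit false

namespace Cfsg.Agent.Lib.helper3

open Matrix

variable {F : Type*} [Field F]

/-- `SL(2,F)` -/
abbrev S2 (F : Type*) [Field F] := Matrix.SpecialLinearGroup (Fin 2) F

/-- upper unitriangular -/
def uu (t : F) : S2 F := ⟨!![1, t; 0, 1], by simp [Matrix.det_fin_two]⟩
/-- lower unitriangular -/
def vv (t : F) : S2 F := ⟨!![1, 0; t, 1], by simp [Matrix.det_fin_two]⟩
/-- the monomial element `u(t) v(-1/t) u(t)` -/
def nw (t : F) : S2 F := uu t * vv (-t⁻¹) * uu t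
/-- the diagonal element -/
def hd (t : F) : S2 F := nw t * (nw 1)⁻¹

@[simp] theorem uu_val (t : F) : (uu t).1 = !![1, t; 0, 1] := rfl
@[simp] theorem vv_val (t : F) : (vv t).1 = !![1, 0; t, 1] := rfl

theorem S2.ext' {X Y : S2 F} (h00 : X.1 0 0 = Y.1 0 0) (h01 : X.1 0 1 = Y.1 0 1)
    (h10 : X.1 1 0 = Y.1 1 0) (h11 : X.1 1 1 = Y.1 1 1) : X = Y := by
  apply Subtype.ext
  ext i j
  fin_cases i <;> fin_cases j <;> assumption

theorem S2.det_eq (X : S2 F) : X.1 0 0 * X.1 1 1 - X.1 0 1 * X.1 1 0 = 1 := by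
  have := X.2
  rwa [Matrix.det_fin_two] at this

theorem inv_val (X : S2 F) : (X⁻¹ : S2 F).1 = !![X.1 1 1, - X.1 0 1; - X.1 1 0, X.1 0 0] := by
  rw [Matrix.SpecialLinearGroup.coe_inv, Matrix.adjugate_fin_two]

theorem uu_mul (s t : F) : uu s * uu t = uu (s + t) := by
  apply S2.ext' <;>
    simp [Matrix.SpecialLinearGroup.coe_mul, Matrix.mul_apply, Fin.sum_univ_two] <;> ring

theorem vv_mul (s t : F) : vv s * vv t = vv (s + t) := by
  apply S2.ext' <;>
    simp [Matrix.SpecialLinearGroup.coe_mul, Matrix.mul_apply, Fin.sum_univ_two]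

theorem uu_zero : uu (0 : F) = 1 := by
  apply S2.ext' <;> simp

theorem vv_zero : vv (0 : F) = 1 := by
  apply S2.ext' <;> simp

theorem uu_inv (t : F) : (uu t)⁻¹ = uu (-t) := by
  rw [inv_eq_iff_mul_eq_one, uu_mul, add_neg_cancel, uu_zero]

theorem vv_inv (t : F) : (vv t)⁻¹ = vv (-t) := by
  rw [inv_eq_iff_mul_eq_one, vv_mul, add_neg_cancel, vv_zero]

theorem uu_injective : Function.Injective (uu : F → S2 F) := by
  intro s t h
  have := congrArg (fun X : S2 F => X.1 0 1) h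
  simpa using this

theorem vv_injective : Function.Injective (vv : F → S2 F) := by
  intro s t h
  have := congrArg (fun X : S2 F => X.1 1 0) h
  simpa using this

theorem nw_val {t : F} (ht : t ≠ 0) : (nw t).1 = !![0, t; -t⁻¹, 0] := by
  ext i j
  fin_cases i <;> fin_cases j <;>
    simp [nw, Matrix.SpecialLinearGroup.coe_mul, Matrix.mul_apply, Fin.sum_univ_two, ht]

theorem hd_val {t : F} (ht : t ≠ 0) : (hd t).1 = !![t, 0; 0, t⁻¹] := by
  ext i j
  fin_cases i <;> fin_cases j <;>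
    simp [hd, nw_val ht, nw_val (one_ne_zero : (1 : F) ≠ 0),
      Matrix.SpecialLinearGroup.coe_mul, Matrix.mul_apply, Fin.sum_univ_two]

/-- product of three elementary matrices -/
theorem uvu_val (x y : F) :
    (uu x * vv y * uu x).1 = !![1 + x * y, x * (2 + x * y); y, 1 + x * y] := by
  ext i j
  fin_cases i <;> fin_cases j <;>
    simp [Matrix.SpecialLinearGroup.coe_mul, Matrix.mul_apply, Fin.sum_univ_two] <;> ring

theorem hd_conj_uu {l : F} (hl : l ≠ 0) (s : F) : hd l * uu s * (hd l)⁻¹ = uu (l ^ 2 * s) := by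
  apply S2.ext' <;>
    simp [hd_val hl, Matrix.SpecialLinearGroup.coe_mul, Matrix.mul_apply,
      Fin.sum_univ_two, hl] <;> field_simp

theorem nw_conj_uu {t : F} (ht : t ≠ 0) (s : F) :
    nw t * uu s * (nw t)⁻¹ = vv (-(t⁻¹) ^ 2 * s) := by
  apply S2.ext' <;>
    simp [nw_val ht, Matrix.SpecialLinearGroup.coe_mul, Matrix.mul_apply,
      Fin.sum_univ_two, ht] <;> ring

/-- conjugating `u(1)` by an arbitrary element -/
theorem conj_uu_val (M : S2 F) (s : F) :
    (M * uu s * M⁻¹).1 = !![1 - s * M.1 0 0 * M.1 1 0, s * M.1 0 0 ^ 2;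
      -(s * M.1 1 0 ^ 2), 1 + s * M.1 0 0 * M.1 1 0] := by
  have hd := S2.det_eq M
  ext i j
  fin_cases i <;> fin_cases j <;>
    simp [Matrix.adjugate_fin_two, Matrix.SpecialLinearGroup.coe_mul, Matrix.mul_apply,
      Fin.sum_univ_two] <;>
    first | ring1 | linear_combination hd | linear_combination -hd


/-- Bruhat decomposition of an element with non-zero lower left entry -/
theorem bruhat_big (X : S2 F) (hc : X.1 1 0 ≠ 0) :
    X = uu (X.1 0 0 / X.1 1 0) * nw (-(X.1 1 0)⁻¹) * uu (X.1 1 1 / X.1 1 0) := by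
  have hd := S2.det_eq X
  have hn : -(X.1 1 0)⁻¹ ≠ 0 := neg_ne_zero.mpr (inv_ne_zero hc)
  apply S2.ext' <;>
    simp [nw_val hn, Matrix.SpecialLinearGroup.coe_mul, Matrix.mul_apply, Fin.sum_univ_two, hc] <;>
    field_simp <;>
    first | ring1 | linear_combination hd | linear_combination -hd

/-- an element with non-zero lower left entry is a product of three elementary matrices -/
theorem gen_big (X : S2 F) (hc : X.1 1 0 ≠ 0) :
    X = uu ((X.1 0 0 - 1) / X.1 1 0) * vv (X.1 1 0) * uu ((X.1 1 1 - 1) / X.1 1 0) := by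
  have hd := S2.det_eq X
  apply S2.ext' <;>
    simp [Matrix.SpecialLinearGroup.coe_mul, Matrix.mul_apply, Fin.sum_univ_two, hc] <;>
    field_simp <;>
    first | ring1 | linear_combination hd | linear_combination -hd

/-- `SL(2,F)` is generated by the elementary matrices -/
theorem closure_uu_vv :
    Subgroup.closure (Set.range (uu : F → S2 F) ∪ Set.range (vv : F → S2 F)) = ⊤ := by
  rw [eq_top_iff]
  intro X _
  have hu : ∀ t : F, uu t ∈ Subgroup.closure (Set.range (uu : F → S2 F) ∪ Set.range (vv : F → S2 F)) :=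
    fun t => Subgroup.subset_closure (Or.inl ⟨t, rfl⟩)
  have hv : ∀ t : F, vv t ∈ Subgroup.closure (Set.range (uu : F → S2 F) ∪ Set.range (vv : F → S2 F)) :=
    fun t => Subgroup.subset_closure (Or.inr ⟨t, rfl⟩)
  have key : ∀ Y : S2 F, Y.1 1 0 ≠ 0 →
      Y ∈ Subgroup.closure (Set.range (uu : F → S2 F) ∪ Set.range (vv : F → S2 F)) := by
    intro Y hY
    rw [gen_big Y hY]
    exact Subgroup.mul_mem _ (Subgroup.mul_mem _ (hu _) (hv _)) (hu _)
  by_cases hc : X.1 1 0 = 0
  · have h1 : (vv 1 * X).1 1 0 ≠ 0 := by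
      have hd := S2.det_eq X
      simp [Matrix.SpecialLinearGroup.coe_mul, Matrix.mul_apply, Fin.sum_univ_two, hc]
      intro h0
      rw [h0, hc] at hd
      simp at hd
    have h2 := key _ h1
    have h3 : X = (vv 1)⁻¹ * (vv 1 * X) := by group
    rw [h3]
    exact Subgroup.mul_mem _ (Subgroup.inv_mem _ (hv 1)) h2
  · exact key X hc

/-- the centre of `SL(2,F)` -/
theorem mem_center_S2 (X : S2 F) :
    X ∈ Subgroup.center (S2 F) ↔ ∃ r : F, r ^ 2 = 1 ∧ X.1 = !![r, 0; 0, r] := by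
  rw [Matrix.SpecialLinearGroup.mem_center_iff]
  constructor
  · rintro ⟨r, hr, hX⟩
    refine ⟨r, by simpa using hr, ?_⟩
    rw [← hX]
    ext i j
    fin_cases i <;> fin_cases j <;> simp [Matrix.scalar_apply]
  · rintro ⟨r, hr, hX⟩
    refine ⟨r, by simpa using hr, ?_⟩
    rw [hX]
    ext i j
    fin_cases i <;> fin_cases j <;> simp [Matrix.scalar_apply]

/-- equality in `PSL(2,F)` -/
theorem mk_eq_mk_iff (X Y : S2 F) :
    (QuotientGroup.mk X : S2 F ⧸ Subgroup.center (S2 F)) = QuotientGroup.mk Y ↔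
      ∃ r : F, r ^ 2 = 1 ∧ Y.1 = r • X.1 := by
  rw [QuotientGroup.eq, mem_center_S2]
  constructor
  · rintro ⟨r, hr, hX⟩
    refine ⟨r, hr, ?_⟩
    have h1 : Y = X * (X⁻¹ * Y) := by group
    rw [h1, Matrix.SpecialLinearGroup.coe_mul, hX]
    ext i j
    fin_cases i <;> fin_cases j <;> simp [Matrix.mul_apply, Fin.sum_univ_two, mul_comm]
  · rintro ⟨r, hr, hY⟩
    refine ⟨r, hr, ?_⟩
    rw [Matrix.SpecialLinearGroup.coe_mul, hY, Matrix.mul_smul, ← Matrix.SpecialLinearGroup.coe_mul,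
      inv_mul_cancel]
    ext i j
    fin_cases i <;> fin_cases j <;> simp

theorem mk_uu_injective {s t : F}
    (h : (QuotientGroup.mk (uu s) : S2 F ⧸ Subgroup.center (S2 F)) = QuotientGroup.mk (uu t)) :
    s = t := by
  obtain ⟨r, _, hY⟩ := (mk_eq_mk_iff _ _).mp h
  have h00 := congrFun (congrFun hY 0) 0
  have h01 := congrFun (congrFun hY 0) 1
  simp at h00 h01
  rw [← h00, one_mul] at h01
  exact h01.symm

theorem mk_vv_injective {s t : F}
    (h : (QuotientGroup.mk (vv s) : S2 F ⧸ Subgroup.center (S2 F)) = QuotientGroup.mk (vv t)) :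
    s = t := by
  obtain ⟨r, _, hY⟩ := (mk_eq_mk_iff _ _).mp h
  have h00 := congrFun (congrFun hY 0) 0
  have h10 := congrFun (congrFun hY 1) 0
  simp at h00 h10
  rw [← h00, one_mul] at h10
  exact h10.symm

theorem mk_uu_eq_vv {s t : F}
    (h : (QuotientGroup.mk (uu s) : S2 F ⧸ Subgroup.center (S2 F)) = QuotientGroup.mk (vv t)) :
    s = 0 ∧ t = 0 := by
  obtain ⟨r, _, hY⟩ := (mk_eq_mk_iff _ _).mp h
  have h00 := congrFun (congrFun hY 0) 0
  have h01 := congrFun (congrFun hY 0) 1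
  have h10 := congrFun (congrFun hY 1) 0
  simp at h00 h01 h10
  rw [← h00] at h01
  simp at h01
  exact ⟨h01, h10⟩

end Cfsg.Agent.Lib.helper3
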