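import Mathlib
import Cfsg.Agent.Lib.helper3.PSL2A

set_option autoImplicit false

namespace Cfsg.Agent.Lib.helper3

open Matrix

/-- Sylow conjugacy, elementwise -/
theorem sylow_conj_elementwise {G : Type*} [Group G] [Finite G] {p : ℕ} [Fact p.Prime]
    {H K : Subgroup G} (hH : IsPGroup p H) (hHi : ¬ p ∣ H.index) (hK : IsPGroup p K)
    (hKi : ¬ p ∣ K.index) : ∃ x : G, ∀ g, g ∈ K ↔ x⁻¹ * g * x ∈ H := by
  obtain ⟨x, hx⟩ := MulAction.exists_smul_eq G (hH.toSylow hHi) (hK.toSylow hKi)
  refine ⟨x, fun g => ?_⟩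
  have h1 : ((hK.toSylow hKi : Sylow p G) : Subgroup G) = K := rfl
  have h2 : ((hH.toSylow hHi : Sylow p G) : Subgroup G) = H := rfl
  rw [← h1, ← hx, Sylow.coe_subgroup_smul, Subgroup.mem_pointwise_smul_iff_inv_smul_mem, h2,
    MulAut.smul_def, ← map_inv, MulAut.conj_apply, inv_inv]

variable {F : Type*} [Field F]

/-- `PSL(2,F)` -/
abbrev P2 (F : Type*) [Field F] := S2 F ⧸ Subgroup.center (S2 F)

/-- the projection -/
def pmk : S2 F →* P2 F := QuotientGroup.mk' (Subgroup.center (S2 F))

theorem pmk_surjective : Function.Surjective (pmk : S2 F →* P2 F) :=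
  QuotientGroup.mk'_surjective _

theorem pmk_eq_iff (X Y : S2 F) : pmk X = pmk Y ↔ ∃ r : F, r ^ 2 = 1 ∧ Y.1 = r • X.1 :=
  mk_eq_mk_iff X Y

theorem pmk_uu_inj {s t : F} (h : pmk (uu s) = pmk (uu t)) : s = t := mk_uu_injective h
theorem pmk_vv_inj {s t : F} (h : pmk (vv s) = pmk (vv t)) : s = t := mk_vv_injective h
theorem pmk_uu_ne_vv {s t : F} (h : pmk (uu s) = pmk (vv t)) : s = 0 ∧ t = 0 := mk_uu_eq_vv h

/-- the additive group of the field as a subgroup of `PSL(2,F)` -/
def uHom : Multiplicative F →* P2 F where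
  toFun t := pmk (uu (Multiplicative.toAdd t))
  map_one' := by
    show pmk (uu 0) = 1
    rw [uu_zero, map_one]
  map_mul' s t := by
    show pmk (uu (Multiplicative.toAdd s + Multiplicative.toAdd t)) = _
    rw [← uu_mul, map_mul]

theorem uHom_injective : Function.Injective (uHom : Multiplicative F →* P2 F) := by
  intro s t h
  exact Multiplicative.toAdd.injective (pmk_uu_inj h)

/-- the image of the upper unitriangular group -/
def Ub (F : Type*) [Field F] : Subgroup (P2 F) := (uHom : Multiplicative F →* P2 F).range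

theorem mem_Ub {g : P2 F} : g ∈ Ub F ↔ ∃ t : F, g = pmk (uu t) := by
  constructor
  · rintro ⟨t, rfl⟩
    exact ⟨Multiplicative.toAdd t, rfl⟩
  · rintro ⟨t, rfl⟩
    exact ⟨Multiplicative.ofAdd t, rfl⟩

section Finite

variable [Fintype F]

theorem card_GL2' : Nat.card (GL (Fin 2) F) =
    (Fintype.card F ^ 2 - 1) * (Fintype.card F ^ 2 - Fintype.card F) := by
  rw [Matrix.card_GL_field, Fin.prod_univ_two]
  simp

theorem ker_det_eq_range' :
    (Matrix.GeneralLinearGroup.det : GL (Fin 2) F →* Fˣ).ker =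
      (Matrix.SpecialLinearGroup.toGL : S2 F →* GL (Fin 2) F).range := by
  ext x
  rw [MonoidHom.mem_ker, MonoidHom.mem_range]
  constructor
  · intro hx
    have hdet : (x : Matrix (Fin 2) (Fin 2) F).det = 1 := by
      have : ((Matrix.GeneralLinearGroup.det x : Fˣ) : F) = 1 := by rw [hx, Units.val_one]
      exact this
    refine ⟨⟨_, hdet⟩, ?_⟩
    apply Units.ext
    rfl
  · rintro ⟨s, rfl⟩
    apply Units.ext
    show ((Matrix.SpecialLinearGroup.toGL s : GL (Fin 2) F) : Matrix (Fin 2) (Fin 2) F).det = 1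
    rw [Matrix.SpecialLinearGroup.coe_GL_coe_matrix]
    exact s.2

/-- the order of `SL(2,F)` -/
theorem card_S2 : Nat.card (S2 F) = Fintype.card F * (Fintype.card F ^ 2 - 1) := by
  have hq : 2 ≤ Fintype.card F := Fintype.one_lt_card
  have h1 := Subgroup.card_mul_index (Matrix.GeneralLinearGroup.det : GL (Fin 2) F →* Fˣ).ker
  rw [Subgroup.index_ker, MonoidHom.range_eq_top.mpr Matrix.GeneralLinearGroup.det_surjective,
    Nat.card_congr Subgroup.topEquiv.toEquiv, Nat.card_units, Nat.card_eq_fintype_card (α := F),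
    card_GL2', ker_det_eq_range',
    ← Nat.card_congr (MonoidHom.ofInjective Matrix.SpecialLinearGroup.toGL_injective).toEquiv] at h1
  have h2 : Fintype.card F ^ 2 - Fintype.card F = Fintype.card F * (Fintype.card F - 1) := by
    rw [Nat.mul_sub, mul_one, pow_two]
  rw [h2] at h1
  have h3 : (Fintype.card F ^ 2 - 1) * (Fintype.card F * (Fintype.card F - 1)) =
      (Fintype.card F * (Fintype.card F ^ 2 - 1)) * (Fintype.card F - 1) := by ring
  rw [h3] at h1
  exact Nat.eq_of_mul_eq_mul_right (by omega) h1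

theorem card_Ub : Nat.card (Ub F) = Fintype.card F := by
  rw [Ub, ← Nat.card_congr (MonoidHom.ofInjective uHom_injective).toEquiv]
  rw [Nat.card_eq_fintype_card, Fintype.card_multiplicative]

variable {p f : ℕ} [Fact p.Prime] (hF : Fintype.card F = p ^ f) (hf : 1 ≤ f)

include hF in
theorem isPGroup_Ub : IsPGroup p (Ub F) := IsPGroup.of_card (card_Ub.trans hF)

include hF hf in
theorem index_Ub : ¬ p ∣ (Ub F).index := by
  intro hdvd
  have h1 := Subgroup.index_mul_card (Ub F)
  have h2 := Subgroup.card_eq_card_quotient_mul_card_subgroup (Subgroup.center (S2 F))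
  rw [card_Ub] at h1
  rw [card_S2] at h2
  have hq : 2 ≤ Fintype.card F := Fintype.one_lt_card
  have hqpos : 0 < Fintype.card F := by omega
  have h3 : (Ub F).index * Nat.card (Subgroup.center (S2 F)) = Fintype.card F ^ 2 - 1 := by
    have : Nat.card (P2 F) = Nat.card (S2 F ⧸ Subgroup.center (S2 F)) := rfl
    rw [← this, ← h1] at h2
    have h4 : Fintype.card F * (Fintype.card F ^ 2 - 1) =
        Fintype.card F * ((Ub F).index * Nat.card (Subgroup.center (S2 F))) := by
      rw [h2]; ring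
    exact (Nat.eq_of_mul_eq_mul_left hqpos h4).symm
  have h5 : p ∣ Fintype.card F ^ 2 - 1 := by
    rw [← h3]
    exact Dvd.dvd.mul_right hdvd _
  have h6 : p ∣ Fintype.card F ^ 2 := by
    rw [hF]
    exact dvd_pow (dvd_pow_self p (by omega)) (by norm_num)
  have h7 : p ∣ 1 := by
    have : Fintype.card F ^ 2 - (Fintype.card F ^ 2 - 1) = 1 := by
      have : 1 ≤ Fintype.card F ^ 2 := Nat.one_le_pow _ _ hqpos
      omega
    rw [← this]
    exact Nat.dvd_sub h6 h5
  exact (Fact.out : p.Prime).one_lt.ne' (Nat.dvd_one.mp h7)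

end Finite

end Cfsg.Agent.Lib.helper3
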