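import Mathlib
import Cfsg.Agent.Lib.helper3.PSL2B

set_option autoImplicit false

namespace Cfsg.Agent.Lib.helper3

open Matrix

variable {F : Type*} [Field F]

/-- conjugation by an upper triangular matrix preserves the upper unitriangular group -/
theorem conj_upper (X : S2 F) (hc : X.1 1 0 = 0) (s : F) :
    X * uu s * X⁻¹ = uu (s * X.1 0 0 ^ 2) := by
  apply Subtype.ext
  rw [conj_uu_val, hc]
  simp

theorem uu_comm (s t : F) : uu s * uu t = uu t * uu s := by
  rw [uu_mul, uu_mul, add_comm]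

/-- the lower unitriangular elements are conjugates of the upper ones -/
theorem vv_eq_conj (t : F) : vv t = nw 1 * uu (-t) * (nw 1)⁻¹ := by
  rw [nw_conj_uu one_ne_zero]
  simp

variable [Fintype F] {p f : ℕ} [Fact p.Prime] (hF : Fintype.card F = p ^ f) (hf : 1 ≤ f)

include hF hf in
/-- after composing with an inner automorphism, an automorphism of `PSL(2,F)` preserves
both unipotent subgroups -/
theorem normalize_aut (α : P2 F ≃* P2 F) :
    ∃ y : P2 F, (∀ t : F, ∃ s : F, y * α (pmk (uu t)) * y⁻¹ = pmk (uu s)) ∧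
      (∀ t : F, ∃ s : F, y * α (pmk (vv t)) * y⁻¹ = pmk (vv s)) := by
  have hfin : Finite (P2 F) := Finite.of_surjective _ (pmk_surjective (F := F))
  have hK : IsPGroup p ((Ub F).map α.toMonoidHom) := (isPGroup_Ub hF).map _
  have hKi : ¬ p ∣ ((Ub F).map α.toMonoidHom).index := by
    have := Subgroup.index_map_equiv (Ub F) α
    rw [show (α.toMonoidHom : P2 F →* P2 F) = (α : P2 F →* P2 F) from rfl, this]
    exact index_Ub hF hf
  obtain ⟨x, hx⟩ := sylow_conj_elementwise (isPGroup_Ub hF) (index_Ub hF hf) hK hKi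
  have hβU : ∀ t : F, ∃ s : F, x⁻¹ * α (pmk (uu t)) * x = pmk (uu s) := by
    intro t
    have h1 : α (pmk (uu t)) ∈ (Ub F).map α.toMonoidHom :=
      Subgroup.mem_map_of_mem _ (mem_Ub.2 ⟨t, rfl⟩)
    exact mem_Ub.1 ((hx _).1 h1)
  choose a ha using hβU
  have ha_inj : Function.Injective a := by
    intro s t h
    have h1 := ha s
    rw [h, ← ha t] at h1
    have h2 : α (pmk (uu s)) = α (pmk (uu t)) := by
      calc α (pmk (uu s)) = x * (x⁻¹ * α (pmk (uu s)) * x) * x⁻¹ := by group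
        _ = x * (x⁻¹ * α (pmk (uu t)) * x) * x⁻¹ := by rw [h1]
        _ = α (pmk (uu t)) := by group
    exact pmk_uu_inj (α.injective h2)
  have ha_surj : Function.Surjective a := Finite.injective_iff_surjective.1 ha_inj
  obtain ⟨Z, hZ⟩ := pmk_surjective (x⁻¹ * α (pmk (nw (1 : F))) * x)
  have hV : ∀ t : F, x⁻¹ * α (pmk (vv t)) * x = pmk (Z * uu (a (-t)) * Z⁻¹) := by
    intro t
    rw [vv_eq_conj, map_mul, map_mul, map_inv, map_mul, map_mul, map_inv, map_mul, map_mul, map_inv,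
      hZ, ← ha (-t)]
    group
  by_cases hc : Z.1 1 0 = 0
  · exfalso
    have h1 := hV 1
    rw [conj_upper Z hc] at h1
    obtain ⟨t1, ht1⟩ := ha_surj (a (-1) * Z.1 0 0 ^ 2)
    rw [← ht1, ← ha t1] at h1
    have h2 : α (pmk (vv 1)) = α (pmk (uu t1)) := by
      calc α (pmk (vv 1)) = x * (x⁻¹ * α (pmk (vv 1)) * x) * x⁻¹ := by group
        _ = x * (x⁻¹ * α (pmk (uu t1)) * x) * x⁻¹ := by rw [h1]
        _ = α (pmk (uu t1)) := by group
    have h3 := pmk_uu_ne_vv (α.injective h2).symm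
    exact one_ne_zero h3.2
  · have hZd := bruhat_big Z hc
    set e1 := Z.1 0 0 / Z.1 1 0 with he1
    set e2 := Z.1 1 1 / Z.1 1 0 with he2
    set n0 := -(Z.1 1 0)⁻¹ with hn0
    have hn0' : n0 ≠ 0 := neg_ne_zero.mpr (inv_ne_zero hc)
    refine ⟨pmk (uu (-e1)) * x⁻¹, ?_, ?_⟩
    · intro t
      refine ⟨a t, ?_⟩
      calc pmk (uu (-e1)) * x⁻¹ * α (pmk (uu t)) * (pmk (uu (-e1)) * x⁻¹)⁻¹
          = pmk (uu (-e1)) * (x⁻¹ * α (pmk (uu t)) * x) * (pmk (uu (-e1)))⁻¹ := by group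
        _ = pmk (uu (-e1) * uu (a t) * (uu (-e1))⁻¹) := by
            rw [ha t]
            simp only [map_mul, map_inv]
        _ = pmk (uu (a t)) := by
            rw [uu_comm, mul_inv_cancel_right]
    · intro t
      refine ⟨-(n0⁻¹) ^ 2 * a (-t), ?_⟩
      calc pmk (uu (-e1)) * x⁻¹ * α (pmk (vv t)) * (pmk (uu (-e1)) * x⁻¹)⁻¹
          = pmk (uu (-e1)) * (x⁻¹ * α (pmk (vv t)) * x) * (pmk (uu (-e1)))⁻¹ := by group
        _ = pmk (uu (-e1) * (Z * uu (a (-t)) * Z⁻¹) * (uu (-e1))⁻¹) := by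
            rw [hV t]
            simp only [map_mul, map_inv]
        _ = pmk (nw n0 * uu (a (-t)) * (nw n0)⁻¹) := by
            congr 1
            rw [hZd, ← uu_inv]
            have hcomm : uu e2 * uu (a (-t)) * (uu e2)⁻¹ = uu (a (-t)) := by
              rw [uu_comm, mul_inv_cancel_right]
            calc (uu e1)⁻¹ * (uu e1 * nw n0 * uu e2 * uu (a (-t)) * (uu e1 * nw n0 * uu e2)⁻¹) *
                  ((uu e1)⁻¹)⁻¹
                = nw n0 * (uu e2 * uu (a (-t)) * (uu e2)⁻¹) * (nw n0)⁻¹ := by group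
              _ = nw n0 * uu (a (-t)) * (nw n0)⁻¹ := by rw [hcomm]
        _ = pmk (vv (-(n0⁻¹) ^ 2 * a (-t))) := by rw [nw_conj_uu hn0']

end Cfsg.Agent.Lib.helper3
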