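import Mathlib
import Cfsg.Agent.Lib.helper3.PSL2C

set_option autoImplicit false

namespace Cfsg.Agent.Lib.helper3

open Matrix

variable {F : Type*} [Field F]

/-- two additive maps on a finite field which agree on squares are equal -/
theorem additive_eq_of_eq_on_squares [Finite F] (g1 g2 : F → F)
    (h1 : ∀ x y, g1 (x + y) = g1 x + g1 y) (h2 : ∀ x y, g2 (x + y) = g2 x + g2 y)
    (hsq : ∀ x, g1 (x ^ 2) = g2 (x ^ 2)) : ∀ x, g1 x = g2 x := by
  intro x
  by_cases h : (2 : F) = 0
  · have hch : ringChar F = 2 := by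
      have : CharP F 2 := by
        apply CharTwo.of_one_ne_zero_of_two_eq_zero one_ne_zero h
      exact ringChar.eq F 2
    obtain ⟨w, hw⟩ := FiniteField.isSquare_of_char_two hch x
    rw [hw, ← pow_two]
    exact hsq w
  · have z1 : g1 0 = 0 := by
      have := h1 0 0
      rw [add_zero] at this
      exact left_eq_add.mp this
    have z2 : g2 0 = 0 := by
      have := h2 0 0
      rw [add_zero] at this
      exact left_eq_add.mp this
    have n1 : ∀ y, g1 (-y) = - g1 y := by
      intro y
      have := h1 y (-y)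
      rw [add_neg_cancel, z1] at this
      exact (neg_eq_of_add_eq_zero_right this.symm).symm
    have n2 : ∀ y, g2 (-y) = - g2 y := by
      intro y
      have := h2 y (-y)
      rw [add_neg_cancel, z2] at this
      exact (neg_eq_of_add_eq_zero_right this.symm).symm
    have hx : x = ((x + 1) / 2) ^ 2 + -(((x - 1) / 2) ^ 2) := by
      field_simp
      ring
    rw [hx, h1, h2, n1, n2, hsq, hsq]


theorem nw_mul_nw_inv {x c : F} (hx : x ≠ 0) (hc : c ≠ 0) : nw x * (nw c)⁻¹ = hd (x / c) := by
  have hxc : x / c ≠ 0 := div_ne_zero hx hc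
  apply S2.ext' <;>
    simp [hd_val hxc, nw_val hx, nw_val hc, Matrix.SpecialLinearGroup.coe_mul, Matrix.mul_apply,
      Fin.sum_univ_two] <;>
    field_simp

/-- the additive map induced on the upper unitriangular group is semilinear -/
theorem rigid_core [Finite F] (γ : P2 F ≃* P2 F) (a b : F → F)
    (ha : ∀ t, γ (pmk (uu t)) = pmk (uu (a t))) (hb : ∀ t, γ (pmk (vv t)) = pmk (vv (b t))) :
    ∃ (c : F) (σ : F ≃+* F), c ≠ 0 ∧ (∀ t, a t = c * σ t) ∧ (∀ t, b t = c⁻¹ * σ t) := by
  -- additivity
  have a_add : ∀ s t, a (s + t) = a s + a t := by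
    intro s t
    apply pmk_uu_inj
    rw [← ha, ← uu_mul, map_mul, map_mul, ha, ha, ← map_mul, uu_mul]
  have b_add : ∀ s t, b (s + t) = b s + b t := by
    intro s t
    apply pmk_vv_inj
    rw [← hb, ← vv_mul, map_mul, map_mul, hb, hb, ← map_mul, vv_mul]
  have a_zero : a 0 = 0 := by
    have := a_add 0 0
    rw [add_zero] at this
    exact left_eq_add.mp this
  have b_zero : b 0 = 0 := by
    have := b_add 0 0
    rw [add_zero] at this
    exact left_eq_add.mp this
  have a_inj : Function.Injective a := by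
    intro s t h
    have h1 := ha s
    rw [h, ← ha t] at h1
    exact pmk_uu_inj (γ.injective h1)
  have a_ne : ∀ t, t ≠ 0 → a t ≠ 0 := by
    intro t ht h
    rw [← a_zero] at h
    exact ht (a_inj h)
  set c := a 1 with hc
  have hc0 : c ≠ 0 := a_ne 1 one_ne_zero
  -- the monomial relation
  have key : ∀ t, t ≠ 0 → b (-t⁻¹) = -(a t)⁻¹ := by
    intro t ht
    have h1 : γ (pmk (nw t)) = pmk (uu (a t) * vv (b (-t⁻¹)) * uu (a t)) := by
      rw [nw, map_mul, map_mul, map_mul, map_mul, ha, hb, map_mul, map_mul]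
    have h2 := congrArg (fun X => γ (pmk X)) (nw_conj_uu ht 1)
    simp only [map_mul, map_inv] at h2
    rw [h1, ha, hb, ← map_inv, ← map_mul, ← map_mul] at h2
    obtain ⟨r, hr, hY⟩ := (pmk_eq_iff _ _).mp h2
    have h01 := congrFun (congrFun hY 0) 1
    rw [conj_uu_val, uvu_val] at h01
    simp at h01
    have hr0 : r ≠ 0 := by
      rintro rfl
      simp at hr
    have h3 : 1 + a t * b (-t⁻¹) = 0 := by
      rcases h01 with h | h
      · exact absurd h hr0
      · rcases h with h | h
        · exact absurd h hc0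
        · exact h
    have hat := a_ne t ht
    have h4 : a t * b (-t⁻¹) = -1 := by linear_combination h3
    calc b (-t⁻¹) = (a t)⁻¹ * (a t * b (-t⁻¹)) := by
          rw [← mul_assoc, inv_mul_cancel₀ hat, one_mul]
      _ = -(a t)⁻¹ := by rw [h4]; ring
  have hnw : ∀ t, t ≠ 0 → γ (pmk (nw t)) = pmk (nw (a t)) := by
    intro t ht
    rw [nw, map_mul, map_mul, map_mul, map_mul, ha, hb, key t ht, ← map_mul, ← map_mul]
    rfl
  have hhd : ∀ t, t ≠ 0 → γ (pmk (hd t)) = pmk (hd (a t / c)) := by
    intro t ht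
    rw [hd, map_mul, map_mul, map_inv, map_inv, hnw t ht, hnw 1 one_ne_zero, ← map_inv, ← map_mul,
      nw_mul_nw_inv (a_ne t ht) hc0]
  have torus : ∀ l s, l ≠ 0 → a (l ^ 2 * s) = (a l / c) ^ 2 * a s := by
    intro l s hl
    have h2 := congrArg (fun X => γ (pmk X)) (hd_conj_uu hl s)
    simp only [map_mul, map_inv] at h2
    rw [hhd l hl, ha, ha, ← map_inv, ← map_mul, ← map_mul,
      hd_conj_uu (div_ne_zero (a_ne l hl) hc0)] at h2
    exact (pmk_uu_inj h2).symm
  -- the normalised map
  set σ0 : F → F := fun t => a t / c with hσ0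
  have σ_add : ∀ s t, σ0 (s + t) = σ0 s + σ0 t := by
    intro s t
    simp only [hσ0, a_add, add_div]
  have σ_one : σ0 1 = 1 := by
    simp only [hσ0]
    exact div_self hc0
  have σ_zero : σ0 0 = 0 := by
    simp only [hσ0, a_zero, zero_div]
  have σ_sq : ∀ l s, σ0 (l ^ 2 * s) = σ0 l ^ 2 * σ0 s := by
    intro l s
    by_cases hl : l = 0
    · subst hl
      simp [hσ0, a_zero]
    · simp only [hσ0]
      rw [torus l s hl]
      ring
  have σ_sq1 : ∀ l, σ0 (l ^ 2) = σ0 l ^ 2 := by
    intro l
    have := σ_sq l 1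
    rwa [mul_one, σ_one, mul_one] at this
  have σ_mul : ∀ x s, σ0 (x * s) = σ0 x * σ0 s := by
    intro x s
    refine additive_eq_of_eq_on_squares (fun x => σ0 (x * s)) (fun x => σ0 x * σ0 s) ?_ ?_ ?_ x
    · intro x y
      simp only [add_mul, σ_add]
    · intro x y
      simp only [σ_add, add_mul]
    · intro x
      simp only [σ_sq, σ_sq1]
  let σh : F →+* F :=
    { toFun := σ0
      map_one' := σ_one
      map_mul' := σ_mul
      map_zero' := σ_zero
      map_add' := σ_add }
  have σ_bij : Function.Bijective σh :=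
    ⟨σh.injective, Finite.injective_iff_surjective.1 σh.injective⟩
  refine ⟨c, RingEquiv.ofBijective σh σ_bij, hc0, ?_, ?_⟩
  · intro t
    show a t = c * σ0 t
    simp only [hσ0]
    field_simp
  · intro t
    show b t = c⁻¹ * σ0 t
    by_cases ht : t = 0
    · subst ht
      rw [b_zero, σ_zero, mul_zero]
    · have hti : -t⁻¹ ≠ 0 := neg_ne_zero.mpr (inv_ne_zero ht)
      have h1 := key (-t⁻¹) hti
      rw [inv_neg, inv_inv, neg_neg] at h1
      rw [h1]
      have h2 : σ0 (-t⁻¹) * σ0 t = -1 := by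
        rw [← σ_mul, neg_mul, inv_mul_cancel₀ ht]
        have := σ_add 1 (-1)
        rw [add_neg_cancel, σ_zero, σ_one] at this
        exact (neg_eq_of_add_eq_zero_right this.symm).symm
      have h3 : a (-t⁻¹) = c * σ0 (-t⁻¹) := by
        simp only [hσ0]
        field_simp
      have h4 : σ0 t ≠ 0 := by
        intro h
        rw [h, mul_zero] at h2
        exact one_ne_zero (neg_eq_zero.mp h2.symm)
      have h5 : σ0 (-t⁻¹) ≠ 0 := by
        intro h
        rw [h, zero_mul] at h2
        exact one_ne_zero (neg_eq_zero.mp h2.symm)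
      rw [h3]
      generalize σ0 (-t⁻¹) = y at h2 h4 h5 ⊢
      generalize σ0 t = z at h2 h4 h5 ⊢
      have hz : z = -y⁻¹ := by
        calc z = y⁻¹ * (y * z) := by rw [← mul_assoc, inv_mul_cancel₀ h5, one_mul]
          _ = -y⁻¹ := by rw [h2]; ring
      rw [hz, mul_inv]
      ring

end Cfsg.Agent.Lib.helper3
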