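import Mathlib
import Cfsg.Agent.Lib.helper3.PSL2D

set_option autoImplicit false

namespace Cfsg.Agent.Lib.helper3

open Matrix

variable {F : Type*} [Field F]

theorem gl_det_mul (A : GL (Fin 2) F) : A.val.det * A.inv.det = 1 := by
  rw [← Matrix.det_mul, A.val_inv, Matrix.det_one]

/-- conjugation by an element of `GL(2,F)` as an automorphism of `SL(2,F)` -/
def glConj (A : GL (Fin 2) F) : S2 F ≃* S2 F where
  toFun X := ⟨A.val * X.1 * A.inv, by
    rw [Matrix.det_mul, Matrix.det_mul, X.2, mul_one, gl_det_mul]⟩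
  invFun X := ⟨A.inv * X.1 * A.val, by
    rw [Matrix.det_mul, Matrix.det_mul, X.2, mul_one, mul_comm, gl_det_mul]⟩
  left_inv X := by
    apply Subtype.ext
    show A.inv * (A.val * X.1 * A.inv) * A.val = X.1
    rw [← Matrix.mul_assoc, ← Matrix.mul_assoc, A.inv_val, Matrix.one_mul, Matrix.mul_assoc,
      A.inv_val, Matrix.mul_one]
  right_inv X := by
    apply Subtype.ext
    show A.val * (A.inv * X.1 * A.val) * A.inv = X.1
    rw [← Matrix.mul_assoc, ← Matrix.mul_assoc, A.val_inv, Matrix.one_mul, Matrix.mul_assoc,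
      A.val_inv, Matrix.mul_one]
  map_mul' X Y := by
    apply Subtype.ext
    show A.val * (X.1 * Y.1) * A.inv = (A.val * X.1 * A.inv) * (A.val * Y.1 * A.inv)
    have h : A.inv * A.val = 1 := A.inv_val
    calc A.val * (X.1 * Y.1) * A.inv = A.val * X.1 * 1 * Y.1 * A.inv := by
          simp only [Matrix.mul_one, Matrix.mul_assoc]
      _ = A.val * X.1 * A.inv * (A.val * Y.1 * A.inv) := by
          rw [← h]
          simp only [Matrix.mul_assoc]

theorem glConj_val (A : GL (Fin 2) F) (X : S2 F) : (glConj A X).1 = A.val * X.1 * A.inv := rfl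

theorem glConj_mul (A B : GL (Fin 2) F) (X : S2 F) :
    glConj (A * B) X = glConj A (glConj B X) := by
  apply Subtype.ext
  rw [glConj_val, glConj_val, glConj_val]
  show (A.val * B.val) * X.1 * (B.inv * A.inv) = A.val * (B.val * X.1 * B.inv) * A.inv
  simp only [Matrix.mul_assoc]

theorem glConj_one (X : S2 F) : glConj (1 : GL (Fin 2) F) X = X := by
  apply Subtype.ext
  rw [glConj_val]
  show (1 : Matrix (Fin 2) (Fin 2) F) * X.1 * 1 = X.1
  rw [Matrix.one_mul, Matrix.mul_one]

/-- `SL(2,F)` inside `GL(2,F)` -/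
def sToGL (Y : S2 F) : GL (Fin 2) F :=
  ⟨Y.1, (Y⁻¹ : S2 F).1, by
    rw [← Matrix.SpecialLinearGroup.coe_mul, mul_inv_cancel, Matrix.SpecialLinearGroup.coe_one], by
    rw [← Matrix.SpecialLinearGroup.coe_mul, inv_mul_cancel, Matrix.SpecialLinearGroup.coe_one]⟩

theorem glConj_sToGL (Y X : S2 F) : glConj (sToGL Y) X = Y * X * Y⁻¹ := by
  apply Subtype.ext
  rw [glConj_val]
  rfl

/-- the diagonal matrix `diag(c, 1)` -/
def diagGL (c : F) (hc : c ≠ 0) : GL (Fin 2) F :=
  ⟨!![c, 0; 0, 1], !![c⁻¹, 0; 0, 1], by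
    ext i j
    fin_cases i <;> fin_cases j <;> simp [Matrix.mul_apply, Fin.sum_univ_two, hc], by
    ext i j
    fin_cases i <;> fin_cases j <;> simp [Matrix.mul_apply, Fin.sum_univ_two, hc]⟩

theorem glConj_diag_uu (c : F) (hc : c ≠ 0) (t : F) :
    glConj (diagGL c hc) (uu t) = uu (c * t) := by
  apply S2.ext' <;>
    simp [glConj_val, diagGL, Matrix.mul_apply, Fin.sum_univ_two, hc]

theorem glConj_diag_vv (c : F) (hc : c ≠ 0) (t : F) :
    glConj (diagGL c hc) (vv t) = vv (c⁻¹ * t) := by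
  apply S2.ext' <;>
    simp [glConj_val, diagGL, Matrix.mul_apply, Fin.sum_univ_two, mul_comm, hc]

/-- a field automorphism applied entrywise -/
def smapE (σ : F ≃+* F) : S2 F ≃* S2 F where
  toFun := Matrix.SpecialLinearGroup.map σ.toRingHom
  invFun := Matrix.SpecialLinearGroup.map σ.symm.toRingHom
  left_inv X := by
    apply Subtype.ext
    ext i j
    show σ.symm (σ (X.1 i j)) = X.1 i j
    exact σ.symm_apply_apply _
  right_inv X := by
    apply Subtype.ext
    ext i j
    show σ (σ.symm (X.1 i j)) = X.1 i j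
    exact σ.apply_symm_apply _
  map_mul' := map_mul _

theorem smapE_val (σ : F ≃+* F) (X : S2 F) (i j : Fin 2) : (smapE σ X).1 i j = σ (X.1 i j) :=
  rfl

theorem smapE_uu (σ : F ≃+* F) (t : F) : smapE σ (uu t) = uu (σ t) := by
  apply S2.ext' <;> simp [smapE_val]

theorem smapE_vv (σ : F ≃+* F) (t : F) : smapE σ (vv t) = vv (σ t) := by
  apply S2.ext' <;> simp [smapE_val]

end Cfsg.Agent.Lib.helper3
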