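import Mathlib
import Cfsg.Agent.Lib.helper3.PSL2E

set_option autoImplicit false

namespace Cfsg.Agent.Lib.helper3

open Matrix

variable {F : Type*} [Field F] [Fintype F] {p f : ℕ} [Fact p.Prime]
  (hF : Fintype.card F = p ^ f) (hf : 1 ≤ f)

include hF hf in
/-- every automorphism of `PSL(2,F)` is induced by a semilinear map -/
theorem aut_semilinear (α : P2 F ≃* P2 F) :
    ∃ (A : GL (Fin 2) F) (σ : F ≃+* F),
      ∀ X : S2 F, α (pmk X) = pmk (glConj A (smapE σ X)) := by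
  obtain ⟨y, hU, hV⟩ := normalize_aut hF hf α
  choose a ha using hU
  choose b hb using hV
  let γ : P2 F ≃* P2 F := α.trans (MulAut.conj y)
  have hγ : ∀ g, γ g = y * α g * y⁻¹ := fun g => rfl
  obtain ⟨c, σ, hc, hac, hbc⟩ :=
    rigid_core γ a b (fun t => by rw [hγ, ha]) (fun t => by rw [hγ, hb])
  let f1 : S2 F →* P2 F := γ.toMonoidHom.comp pmk
  let f2 : S2 F →* P2 F :=
    pmk.comp ((glConj (diagGL c hc)).toMonoidHom.comp (smapE σ).toMonoidHom)
  have heq : f1 = f2 := by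
    apply MonoidHom.eq_of_eqOn_dense (closure_uu_vv (F := F))
    rintro X (⟨t, rfl⟩ | ⟨t, rfl⟩)
    · show γ (pmk (uu t)) = pmk (glConj _ (smapE σ (uu t)))
      rw [hγ, ha, smapE_uu, glConj_diag_uu, hac]
    · show γ (pmk (vv t)) = pmk (glConj _ (smapE σ (vv t)))
      rw [hγ, hb, smapE_vv, glConj_diag_vv, hbc]
  obtain ⟨Y, hY⟩ := pmk_surjective y
  refine ⟨sToGL Y⁻¹ * diagGL c hc, σ, fun X => ?_⟩
  have h1 : γ (pmk X) = pmk (glConj (diagGL c hc) (smapE σ X)) := DFunLike.congr_fun heq X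
  rw [glConj_mul, glConj_sToGL, inv_inv, map_mul, map_mul, map_inv, hY, ← h1, hγ]
  group

end Cfsg.Agent.Lib.helper3
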