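import Mathlib
import Cfsg.Agent.Lib.helper3.PSL2F

set_option autoImplicit false

namespace Cfsg.Agent.Lib.helper3

open Matrix

variable {F : Type*} [Field F]

/-- trace of a 2 x 2 matrix -/
def tr2 (X : S2 F) : F := X.1 0 0 + X.1 1 1

theorem tr2_eq_trace (X : S2 F) : tr2 X = Matrix.trace X.1 := by
  rw [Matrix.trace_fin_two]
  rfl

theorem tr2_glConj (A : GL (Fin 2) F) (X : S2 F) : tr2 (glConj A X) = tr2 X := by
  rw [tr2_eq_trace, tr2_eq_trace, glConj_val, Matrix.trace_mul_comm, ← Matrix.mul_assoc, A.inv_val,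
    Matrix.one_mul]

theorem tr2_smapE (σ : F ≃+* F) (X : S2 F) : tr2 (smapE σ X) = σ (tr2 X) := by
  simp only [tr2, smapE_val, map_add]

theorem tr2_sq_of_pmk_eq {X Y : S2 F} (h : pmk X = pmk Y) : tr2 Y ^ 2 = tr2 X ^ 2 := by
  obtain ⟨r, hr, hY⟩ := (pmk_eq_iff _ _).mp h
  have h1 : tr2 Y = r * tr2 X := by
    simp only [tr2, hY, Matrix.smul_apply, smul_eq_mul]
    ring
  rw [h1, mul_pow, hr, one_mul]

/-- an element with prescribed trace -/
def trElt (x : F) : S2 F := ⟨!![x, -1; 1, 0], by simp [Matrix.det_fin_two]⟩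

theorem tr2_trElt (x : F) : tr2 (trElt x) = x := by
  simp [tr2, trElt]

/-- `σ` is the field automorphism attached to the automorphism `α` -/
def IsTw (α : P2 F ≃* P2 F) (σ : F ≃+* F) : Prop :=
  ∀ X Y : S2 F, α (pmk X) = pmk Y → tr2 Y ^ 2 = σ (tr2 X ^ 2)

theorem isTw_of_semilinear {α : P2 F ≃* P2 F} {A : GL (Fin 2) F} {σ : F ≃+* F}
    (h : ∀ X : S2 F, α (pmk X) = pmk (glConj A (smapE σ X))) : IsTw α σ := by
  intro X Y hXY
  rw [h X] at hXY
  rw [tr2_sq_of_pmk_eq hXY, tr2_glConj, tr2_smapE, map_pow]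

theorem isTw_unique [Finite F] {α : P2 F ≃* P2 F} {σ σ' : F ≃+* F} (h : IsTw α σ)
    (h' : IsTw α σ') : σ = σ' := by
  apply RingEquiv.ext
  apply additive_eq_of_eq_on_squares (fun x => σ x) (fun x => σ' x)
    (fun x y => map_add σ x y) (fun x y => map_add σ' x y)
  intro x
  obtain ⟨Y, hY⟩ := pmk_surjective (α (pmk (trElt x)))
  have h1 := h (trElt x) Y hY.symm
  have h2 := h' (trElt x) Y hY.symm
  rw [tr2_trElt] at h1 h2
  show σ (x ^ 2) = σ' (x ^ 2)
  rw [← h1, ← h2]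

theorem isTw_mul {α β : P2 F ≃* P2 F} {σ τ : F ≃+* F} (h : IsTw α σ) (h' : IsTw β τ) :
    IsTw (β.trans α) (τ.trans σ) := by
  intro X Y hXY
  obtain ⟨W, hW⟩ := pmk_surjective (β (pmk X))
  have h1 := h' X W hW.symm
  have h2 : α (pmk W) = pmk Y := by
    rw [hW]
    exact hXY
  have h3 := h W Y h2
  rw [h3, h1]
  rfl

end Cfsg.Agent.Lib.helper3
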