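import Mathlib
import Cfsg.Agent.Lib.helper3.PSL2G

set_option autoImplicit false

namespace Cfsg.Agent.Lib.helper3

open Matrix

variable {F : Type*} [Field F]

/-- the automorphism of `PSL(2,F)` induced by an automorphism of `SL(2,F)` -/
def quotAut (e : S2 F ≃* S2 F) : P2 F ≃* P2 F :=
  QuotientGroup.congr (Subgroup.center (S2 F)) (Subgroup.center (S2 F)) e
    (Subgroup.characteristic_iff_map_eq.1 Subgroup.centerCharacteristic e)

theorem quotAut_pmk (e : S2 F ≃* S2 F) (X : S2 F) : quotAut e (pmk X) = pmk (e X) :=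
  QuotientGroup.congr_mk _ _ e _ X

/-- `quotAut` as a homomorphism -/
def quotAutHom : MulAut (S2 F) →* MulAut (P2 F) where
  toFun := quotAut
  map_one' := by
    apply MulEquiv.ext
    intro g
    obtain ⟨X, rfl⟩ := pmk_surjective g
    rw [quotAut_pmk]
    rfl
  map_mul' e e' := by
    apply MulEquiv.ext
    intro g
    obtain ⟨X, rfl⟩ := pmk_surjective g
    show quotAut (e * e') (pmk X) = quotAut e (quotAut e' (pmk X))
    rw [quotAut_pmk, quotAut_pmk, quotAut_pmk]
    rfl

/-- `glConj` as a homomorphism -/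
def glConjHom : GL (Fin 2) F →* MulAut (S2 F) where
  toFun := glConj
  map_one' := by
    apply MulEquiv.ext
    intro X
    exact glConj_one X
  map_mul' A B := by
    apply MulEquiv.ext
    intro X
    exact glConj_mul A B X

theorem isTw_conj (g : P2 F) : IsTw (MulAut.conj g) (RingEquiv.refl F) := by
  intro X Y hXY
  obtain ⟨B, rfl⟩ := pmk_surjective g
  rw [MulAut.conj_apply, ← map_inv, ← map_mul, ← map_mul, ← glConj_sToGL] at hXY
  rw [tr2_sq_of_pmk_eq hXY, tr2_glConj]
  rfl

theorem isTw_smapE (σ : F ≃+* F) : IsTw (quotAut (smapE σ)) σ := by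
  intro X Y hXY
  rw [quotAut_pmk] at hXY
  rw [tr2_sq_of_pmk_eq hXY, tr2_smapE, map_pow]

theorem isTw_glConj (A : GL (Fin 2) F) : IsTw (quotAut (glConj A)) (RingEquiv.refl F) := by
  intro X Y hXY
  rw [quotAut_pmk] at hXY
  rw [tr2_sq_of_pmk_eq hXY, tr2_glConj]
  rfl

variable [Fintype F] {p f : ℕ} [Fact p.Prime] (hF : Fintype.card F = p ^ f) (hf : 1 ≤ f)

include hF hf in
theorem exists_isTw (α : P2 F ≃* P2 F) : ∃ σ : F ≃+* F, IsTw α σ := by
  obtain ⟨A, σ, h⟩ := aut_semilinear hF hf α
  exact ⟨σ, isTw_of_semilinear h⟩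

/-- the field automorphism attached to an automorphism of `PSL(2,F)` -/
noncomputable def twHom : MulAut (P2 F) →* RingAut F :=
  MonoidHom.mk' (fun α => Classical.choose (exists_isTw hF hf α)) (fun α β =>
    isTw_unique (Classical.choose_spec (exists_isTw hF hf (α * β)))
      (isTw_mul (Classical.choose_spec (exists_isTw hF hf α))
        (Classical.choose_spec (exists_isTw hF hf β))))

theorem twHom_spec (α : MulAut (P2 F)) : IsTw α (twHom hF hf α) :=
  Classical.choose_spec (exists_isTw hF hf α)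

theorem twHom_eq {α : MulAut (P2 F)} {σ : F ≃+* F} (h : IsTw α σ) : twHom hF hf α = σ :=
  isTw_unique (twHom_spec hF hf α) h

theorem twHom_conj (g : P2 F) : twHom hF hf (MulAut.conj g) = 1 :=
  twHom_eq hF hf (isTw_conj g)

theorem twHom_smapE (σ : F ≃+* F) : twHom hF hf (quotAut (smapE σ)) = σ :=
  twHom_eq hF hf (isTw_smapE σ)

theorem twHom_glConj (A : GL (Fin 2) F) : twHom hF hf (quotAut (glConj A)) = 1 :=
  twHom_eq hF hf (isTw_glConj A)

theorem twHom_surjective : Function.Surjective (twHom hF hf : MulAut (P2 F) →* RingAut F) :=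
  fun σ => ⟨quotAut (smapE σ), twHom_smapE hF hf σ⟩

/-- the kernel consists of the inner-diagonal automorphisms -/
theorem twHom_ker {α : MulAut (P2 F)} (h : twHom hF hf α = 1) :
    ∃ A : GL (Fin 2) F, α = quotAut (glConj A) := by
  obtain ⟨A, σ, hA⟩ := aut_semilinear hF hf α
  have h1 : twHom hF hf α = σ := twHom_eq hF hf (isTw_of_semilinear hA)
  rw [h] at h1
  refine ⟨A, ?_⟩
  apply MulEquiv.ext
  intro g
  obtain ⟨X, rfl⟩ := pmk_surjective g
  rw [hA, quotAut_pmk, ← h1]
  rfl

end Cfsg.Agent.Lib.helper3
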