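import Mathlib
import Cfsg.Prelude.Def_KGroupFacts
import Cfsg.Agent.Lib.helper3.PSL2H

set_option autoImplicit false

namespace Cfsg.Agent.Lib.helper3

open Matrix

variable {F : Type*} [Field F]

/-- the scalar matrix in `GL(2,F)` -/
def scalarGL (u : Fˣ) : GL (Fin 2) F :=
  ⟨!![(u : F), 0; 0, (u : F)], !![((u⁻¹ : Fˣ) : F), 0; 0, ((u⁻¹ : Fˣ) : F)], by
    ext i j
    fin_cases i <;> fin_cases j <;> simp [Matrix.mul_apply, Fin.sum_univ_two], by
    ext i j
    fin_cases i <;> fin_cases j <;> simp [Matrix.mul_apply, Fin.sum_univ_two]⟩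

theorem scalarGL_val (u : Fˣ) : (scalarGL u).val = !![(u : F), 0; 0, (u : F)] := rfl

theorem scalarGL_inv (u : Fˣ) :
    (scalarGL u).inv = !![((u⁻¹ : Fˣ) : F), 0; 0, ((u⁻¹ : Fˣ) : F)] := rfl

theorem glConj_scalarGL (u : Fˣ) (X : S2 F) : glConj (scalarGL u) X = X := by
  have hu : (u : F) * ((u⁻¹ : Fˣ) : F) = 1 := by
    rw [← Units.val_mul, mul_inv_cancel, Units.val_one]
  apply S2.ext' <;>
  · rw [glConj_val, scalarGL_val, scalarGL_inv]
    simp only [Matrix.mul_apply, Fin.sum_univ_two, Matrix.of_apply, Matrix.cons_val_zero,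
      Matrix.cons_val_one, Matrix.cons_val', Matrix.cons_val_fin_one, mul_zero, zero_mul,
      add_zero, zero_add]
    linear_combination (X.1 _ _) * hu

theorem det_scalarGL (u : Fˣ) : Matrix.GeneralLinearGroup.det (scalarGL u) = u ^ 2 := by
  apply Units.ext
  rw [Matrix.GeneralLinearGroup.val_det_apply]
  simp [scalarGL, Matrix.det_fin_two, pow_two]

/-- an element of `GL(2,F)` acting trivially on `PSL(2,F)` is scalar -/
theorem scalar_of_trivial (C : GL (Fin 2) F) (h : ∀ X : S2 F, pmk (glConj C X) = pmk X) :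
    ∃ c : F, C.val = !![c, 0; 0, c] := by
  have key : ∀ X : S2 F, tr2 X = 2 → X.1 * C.val = C.val * X.1 := by
    intro X hX
    obtain ⟨r, hr, hY⟩ := (pmk_eq_iff _ _).mp (h X)
    have h1 : tr2 X = r * tr2 (glConj C X) := by
      simp only [tr2]
      rw [hY]
      simp only [Matrix.smul_apply, smul_eq_mul]
      ring
    rw [tr2_glConj, hX] at h1
    have h2 : (r - 1) ^ 2 = 0 := by linear_combination hr + h1
    have h3 : r = 1 := by
      have := pow_eq_zero_iff (two_ne_zero) |>.mp h2
      exact sub_eq_zero.mp this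
    rw [h3, one_smul, glConj_val] at hY
    conv_lhs => rw [hY]
    rw [Matrix.mul_assoc, C.inv_val, Matrix.mul_one]
  have hu := key (uu 1) (by simp [tr2]; norm_num)
  have hv := key (vv 1) (by simp [tr2]; norm_num)
  have hu00 := congrFun (congrFun hu 0) 0
  have hu01 := congrFun (congrFun hu 0) 1
  have hv00 := congrFun (congrFun hv 0) 0
  simp [Matrix.mul_apply, Fin.sum_univ_two] at hu00 hu01 hv00
  refine ⟨C.val 0 0, ?_⟩
  ext i j
  fin_cases i <;> fin_cases j <;> simp
  · exact hv00
  · exact hu00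
  · have := hu01
    linear_combination this

end Cfsg.Agent.Lib.helper3
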