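import Mathlib
import Cfsg.Prelude.Def_KGroupFacts
import Cfsg.Agent.Lib.helper3.PSL2I

set_option autoImplicit false

namespace Cfsg.Agent.Lib.helper3

open Matrix

section RingAutCard

variable {F : Type*} [Field F] [Fintype F] {p f : ℕ} [Fact p.Prime]

theorem ringAut_cyclic_card (hF : Fintype.card F = p ^ f) :
    IsCyclic (RingAut F) ∧ Nat.card (RingAut F) = f := by
  have : CharP F p := charP_of_card_eq_prime_pow hF
  let _ : Algebra (ZMod p) F := ZMod.algebra F p
  let e1 : (F ≃ₐ[ZMod p] F) →* RingAut F :=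
    { toFun := fun σ => σ.toRingEquiv
      map_one' := rfl
      map_mul' := fun _ _ => rfl }
  have hinj : Function.Injective e1 := by
    intro σ τ h
    apply AlgEquiv.ext
    intro x
    exact DFunLike.congr_fun h x
  have hsurj : Function.Surjective e1 := by
    intro σ
    refine ⟨AlgEquiv.ofRingEquiv (f := σ) (fun x => ?_), ?_⟩
    · have := RingHom.ext_zmod ((σ : F →+* F).comp (algebraMap (ZMod p) F)) (algebraMap (ZMod p) F)
      exact DFunLike.congr_fun this x
    · apply RingEquiv.ext
      intro x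
      rfl
  constructor
  · exact isCyclic_of_surjective e1 hsurj
  · have h1 : Nat.card (RingAut F) = Nat.card (F ≃ₐ[ZMod p] F) :=
      (Nat.card_congr (Equiv.ofBijective e1 ⟨hinj, hsurj⟩)).symm
    rw [h1, IsGalois.card_aut_eq_finrank]
    have h2 := Module.card_eq_pow_finrank (K := ZMod p) (V := F)
    rw [ZMod.card, hF] at h2
    exact (Nat.pow_right_injective (Fact.out : p.Prime).two_le h2).symm

end RingAutCard

variable {F : Type*} [Field F]

/-- the map from `GL(2,F)` to the outer automorphism group of `PSL(2,F)` -/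
def diagOutHom : GL (Fin 2) F →* Cfsg.Out (P2 F) :=
  (QuotientGroup.mk' (Cfsg.Inn (P2 F))).comp (quotAutHom.comp glConjHom)

theorem diagOutHom_apply (A : GL (Fin 2) F) :
    diagOutHom A = QuotientGroup.mk (s := Cfsg.Inn (P2 F)) (quotAut (glConj A)) := rfl

theorem det_val_eq (A : GL (Fin 2) F) :
    ((Matrix.GeneralLinearGroup.det A : Fˣ) : F) = A.val.det :=
  Matrix.GeneralLinearGroup.val_det_apply A

/-- kernel of `diagOutHom`: the matrices of square determinant -/
theorem diagOutHom_ker :
    (diagOutHom : GL (Fin 2) F →* Cfsg.Out (P2 F)).ker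
      = ((powMonoidHom 2 : Fˣ →* Fˣ).range).comap Matrix.GeneralLinearGroup.det := by
  ext A
  rw [MonoidHom.mem_ker, Subgroup.mem_comap, diagOutHom_apply, QuotientGroup.eq_one_iff]
  constructor
  · rintro ⟨g, hg⟩
    obtain ⟨B, rfl⟩ := pmk_surjective g
    -- C := sToGL B⁻¹ * A acts trivially
    have hC : ∀ X : S2 F, pmk (glConj ((sToGL B)⁻¹ * A) X) = pmk X := by
      intro X
      have h1 : quotAut (glConj A) (pmk X) = MulAut.conj (pmk B) (pmk X) := by rw [hg]
      rw [quotAut_pmk, MulAut.conj_apply, ← map_inv, ← map_mul, ← map_mul,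
        ← glConj_sToGL] at h1
      rw [glConj_mul, ← quotAut_pmk, h1, quotAut_pmk, ← glConj_mul, inv_mul_cancel, glConj_one]
    obtain ⟨c, hc⟩ := scalar_of_trivial _ hC
    have hdet : (Matrix.GeneralLinearGroup.det ((sToGL B)⁻¹ * A) : Fˣ)
        = Matrix.GeneralLinearGroup.det A := by
      rw [map_mul, map_inv]
      have : Matrix.GeneralLinearGroup.det (sToGL B) = 1 := by
        apply Units.ext
        rw [det_val_eq]
        simp [sToGL]
      rw [this, inv_one, one_mul]
    have hc2 : ((Matrix.GeneralLinearGroup.det A : Fˣ) : F) = c ^ 2 := by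
      rw [← hdet, det_val_eq, hc]
      simp [Matrix.det_fin_two, pow_two]
    have hc0 : c ≠ 0 := by
      intro h0
      rw [h0] at hc2
      have := (Matrix.GeneralLinearGroup.det A).ne_zero
      apply this
      rw [hc2]
      ring
    refine ⟨Units.mk0 c hc0, ?_⟩
    apply Units.ext
    rw [hc2]
    simp
  · rintro ⟨u, hu⟩
    have hu' : u ^ 2 = Matrix.GeneralLinearGroup.det A := hu
    -- A' := A * (scalarGL u)⁻¹ has determinant one
    have hdet : Matrix.GeneralLinearGroup.det (A * (scalarGL u)⁻¹) = 1 := by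
      rw [map_mul, map_inv, det_scalarGL, ← hu', mul_inv_cancel]
    have hdet' : (A * (scalarGL u)⁻¹).val.det = 1 := by
      rw [← det_val_eq, hdet, Units.val_one]
    obtain ⟨B, hB⟩ : ∃ B : S2 F, B.1 = (A * (scalarGL u)⁻¹).val := ⟨⟨_, hdet'⟩, rfl⟩
    refine ⟨pmk B, ?_⟩
    apply MulEquiv.ext
    intro g
    obtain ⟨X, rfl⟩ := pmk_surjective g
    rw [quotAut_pmk, MulAut.conj_apply, ← map_inv, ← map_mul, ← map_mul, ← glConj_sToGL]
    congr 1
    have h1 : sToGL B = A * (scalarGL u)⁻¹ := by
      apply Units.ext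
      exact hB
    rw [h1, glConj_mul]
    have h2 : glConj (scalarGL u)⁻¹ X = X := by
      have h3 := glConj_scalarGL u (glConj (scalarGL u)⁻¹ X)
      rw [← glConj_mul, mul_inv_cancel, glConj_one] at h3
      exact h3.symm
    rw [h2]

variable [Fintype F] {p f : ℕ} [Fact p.Prime] (hF : Fintype.card F = p ^ f) (hf : 1 ≤ f)

/-- the field-automorphism component of an outer automorphism of `PSL(2,F)` -/
noncomputable def outTwHom : Cfsg.Out (P2 F) →* RingAut F :=
  QuotientGroup.lift (Cfsg.Inn (P2 F)) (twHom hF hf) (by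
    rintro _ ⟨g, rfl⟩
    exact twHom_conj hF hf g)

theorem outTwHom_mk (α : MulAut (P2 F)) :
    outTwHom hF hf (QuotientGroup.mk α) = twHom hF hf α := rfl

theorem outTwHom_surjective : Function.Surjective (outTwHom hF hf) := by
  intro σ
  obtain ⟨α, hα⟩ := twHom_surjective hF hf σ
  exact ⟨QuotientGroup.mk α, hα⟩

theorem outTwHom_ker : (outTwHom hF hf).ker = (diagOutHom : GL (Fin 2) F →* _).range := by
  ext x
  obtain ⟨α, rfl⟩ := QuotientGroup.mk_surjective x
  rw [MonoidHom.mem_ker, outTwHom_mk]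
  constructor
  · intro h
    obtain ⟨A, rfl⟩ := twHom_ker hF hf h
    exact ⟨A, rfl⟩
  · rintro ⟨A, hA⟩
    rw [diagOutHom_apply] at hA
    have : outTwHom hF hf (QuotientGroup.mk (quotAut (glConj A)))
        = outTwHom hF hf (QuotientGroup.mk α) := by rw [hA]
    rw [outTwHom_mk, outTwHom_mk, twHom_glConj] at this
    exact this.symm

include hF in
theorem card_outTwHom_ker : Nat.card (outTwHom hF hf).ker = Nat.gcd 2 (p ^ f - 1) := by
  rw [outTwHom_ker]
  have h1 : Nat.card (diagOutHom : GL (Fin 2) F →* Cfsg.Out (P2 F)).range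
      = (diagOutHom : GL (Fin 2) F →* Cfsg.Out (P2 F)).ker.index :=
    (Subgroup.index_ker _).symm
  rw [h1, diagOutHom_ker,
    Subgroup.index_comap_of_surjective _ Matrix.GeneralLinearGroup.det_surjective,
    IsCyclic.index_powMonoidHom_range, Nat.card_units, Nat.card_eq_fintype_card, hF,
    Nat.gcd_comm]

include hF in
theorem isCyclic_outTwHom_ker : IsCyclic (outTwHom hF hf).ker := by
  have hc := card_outTwHom_ker hF hf
  have hd : Nat.gcd 2 (p ^ f - 1) ∣ 2 := Nat.gcd_dvd_left _ _
  rcases (Nat.dvd_prime Nat.prime_two).mp hd with h | h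
  · rw [h] at hc
    haveI : Subsingleton (outTwHom hF hf).ker := (Nat.card_eq_one_iff_unique.mp hc).1
    exact isCyclic_of_subsingleton
  · rw [h] at hc
    haveI : Fact (Nat.Prime 2) := ⟨Nat.prime_two⟩
    exact isCyclic_of_prime_card hc

end Cfsg.Agent.Lib.helper3
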