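import Mathlib
import Cfsg.Agent.Lib.helper2.PT.Defs
import Cfsg.Agent.Lib.Helper25.ThirdMainPair

set_option autoImplicit false

/-! Project PT (S4642), piece PT-BrauerCent (helper3). -/

namespace Cfsg.Agent.Lib.helper3.PT

universe u

open Cfsg Cfsg.Agent.Lib.helper2.PT Cfsg.Agent.Lib.helper7 Cfsg.Agent.Lib.Helper25

theorem brauerCent : BrauerCentProp.{u} := by
  intro p _ M hM H _ _ R hR ξ
  classical
  haveI : Fintype (IrrCharacter H) := Fintype.ofFinite _
  haveI : Fintype (Subgroup.centralizer (R : Set H)) := Fintype.ofFinite _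
  haveI : Fintype (IrrCharacter (Subgroup.centralizer (R : Set H))) := Fintype.ofFinite _
  have hPr := hM.2.1.isPrime
  obtain ⟨χ₀, hχ₀⟩ := h7_brauer_hom_block R (Subgroup.centralizer (R : Set H)) hM hR le_rfl
    (Subgroup.centralizer_le_normalizer _) ξ
  refine ⟨χ₀, fun g => ?_⟩
  have h3 := hχ₀ _ (h7_centralChar_mem hPr g)
  rw [h7_brEval_centralChar, ← tp_icc_eq_bcc] at h3
  exact h3

end Cfsg.Agent.Lib.helper3.PT
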