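import Mathlib
import Cfsg.Agent.Lib.helper2.PT.Defs
import Cfsg.Agent.Lib.helper7.BlockCover3

set_option autoImplicit false

/-! Project PT (S4642), piece PT-OverClosed (helper3). -/

namespace Cfsg.Agent.Lib.helper3.PT

universe u

open Cfsg Cfsg.Agent.Lib.helper2.PT Cfsg.Agent.Lib.helper7 Cfsg.Agent.Lib.Helper25

theorem overClosed : OverClosedProp.{u} := by
  intro p _ M hM H _ _ K₀ _ _ hcop θ₀ _ χ ψ h hχ
  classical
  haveI : Fintype (IrrCharacter H) := Fintype.ofFinite _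
  haveI : Fintype (IrrCharacter K₀) := Fintype.ofFinite _
  have hP := hM.2.1.isPrime
  unfold Over at hχ ⊢
  rw [← h7_over_orbit_iff] at hχ ⊢
  exact h7_over_congr K₀ hP _ (h7_orbitSet_stable K₀ θ₀)
    (fun n => h7_memLocalRing_blockCoeff_of_coprime hM hcop _ n) χ ψ h hχ

end Cfsg.Agent.Lib.helper3.PT
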