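import Mathlib

/-! Power graph, part A: cyclic subgroup facts. -/

namespace Cfsg.Agent.Lib.helper3

open Subgroup

variable {G : Type*} [Group G]

/-- In a finite group, inside a cyclic subgroup `zpowers c`, divisibility of orders gives
membership. -/
theorem pg_mem_zpowers_of_dvd [Finite G] {c u v : G} (hu : u ∈ zpowers c) (hv : v ∈ zpowers c)
    (h : orderOf u ∣ orderOf v) : u ∈ zpowers v := by
  classical
  obtain ⟨i, rfl⟩ := (mem_zpowers_iff).1 hu
  obtain ⟨j, rfl⟩ := (mem_zpowers_iff).1 hv
  -- work in the cyclic group `zpowers c`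
  haveI : Fintype G := Fintype.ofFinite G
  let K := zpowers c
  haveI : IsCyclic K := inferInstance
  let u' : K := ⟨c ^ i, zpow_mem (mem_zpowers c) i⟩
  let v' : K := ⟨c ^ j, zpow_mem (mem_zpowers c) j⟩
  have hou : orderOf u' = orderOf (c ^ i) := Subgroup.orderOf_mk _ _
  have hov : orderOf v' = orderOf (c ^ j) := Subgroup.orderOf_mk _ _
  set d := orderOf v' with hd
  have hdpos : 0 < d := orderOf_pos v'
  -- the set of solutions of x^d = 1 in K
  have hle : (Finset.univ.filter fun x : K => x ^ d = 1).card ≤ d :=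
    IsCyclic.card_pow_eq_one_le hdpos
  have hsub : (Finset.univ.filter fun x : K => x ∈ zpowers v') ⊆
      (Finset.univ.filter fun x : K => x ^ d = 1) := by
    intro x hx
    simp only [Finset.mem_filter, Finset.mem_univ, true_and] at hx ⊢
    obtain ⟨k, rfl⟩ := (mem_zpowers_iff).1 hx
    rw [← zpow_natCast, ← zpow_mul, mul_comm, zpow_mul, zpow_natCast, hd, pow_orderOf_eq_one,
      one_zpow]
  have hcard : (Finset.univ.filter fun x : K => x ∈ zpowers v').card = d := by
    rw [hd, ← Nat.card_zpowers v', Nat.card_eq_fintype_card, Fintype.card_subtype]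
  have heq : (Finset.univ.filter fun x : K => x ∈ zpowers v') =
      (Finset.univ.filter fun x : K => x ^ d = 1) :=
    Finset.eq_of_subset_of_card_le hsub (by rw [hcard]; exact hle)
  have hu1 : u' ^ d = 1 := by
    apply orderOf_dvd_iff_pow_eq_one.1
    rw [hou, hov]; exact h
  have : u' ∈ (Finset.univ.filter fun x : K => x ∈ zpowers v') := by
    rw [heq]; simp [hu1]
  simp only [Finset.mem_filter, Finset.mem_univ, true_and] at this
  obtain ⟨k, hk⟩ := (mem_zpowers_iff).1 this
  refine (mem_zpowers_iff).2 ⟨k, ?_⟩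
  have := congrArg (fun x : K => (x : G)) hk
  simpa [u', v'] using this

/-- In a finite group, an element of every order dividing `orderOf c` in `zpowers c`. -/
theorem pg_exists_orderOf_eq [Finite G] (c : G) {d : ℕ} (hd : d ∣ orderOf c) :
    ∃ u ∈ zpowers c, orderOf u = d := by
  have hc : orderOf c ≠ 0 := (orderOf_pos c).ne'
  obtain ⟨e, he⟩ := hd
  refine ⟨c ^ e, pow_mem (mem_zpowers c) e, ?_⟩
  have hde : e ∣ orderOf c := ⟨d, by rw [he, mul_comm]⟩
  have he0 : e ≠ 0 := by
    rintro rfl; rw [mul_zero] at he; exact hc he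
  rw [orderOf_pow_of_dvd he0 hde, he]
  exact Nat.mul_div_cancel _ (Nat.pos_of_ne_zero he0)

end Cfsg.Agent.Lib.helper3
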