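import Mathlib
import Cfsg.Agent.Lib.helper3.PowerGraphA

/-! Power graph, part B: comparability, closed neighbourhoods, classes. -/

namespace Cfsg.Agent.Lib.helper3

open Subgroup

variable {G : Type*} [Group G]

/-- comparability in the power graph (reflexive). -/
def pgAdj (x y : G) : Prop := x ∈ zpowers y ∨ y ∈ zpowers x

theorem pgAdj_comm {x y : G} : pgAdj x y ↔ pgAdj y x := or_comm

theorem pgAdj_symm {x y : G} (h : pgAdj x y) : pgAdj y x := pgAdj_comm.1 h

theorem pgAdj_refl (x : G) : pgAdj x x := Or.inl (mem_zpowers x)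

theorem pgAdj_one_left (x : G) : pgAdj 1 x := Or.inl (one_mem _)

/-- closed neighbourhood -/
def pgNb (x : G) : Set G := {y | pgAdj x y}

theorem mem_pgNb {x y : G} : y ∈ pgNb x ↔ pgAdj x y := Iff.rfl

theorem pgNb_self (x : G) : x ∈ pgNb x := pgAdj_refl x

theorem pgNb_eq_of_zpowers_eq {x y : G} (h : zpowers x = zpowers y) : pgNb x = pgNb y := by
  ext z
  simp only [mem_pgNb, pgAdj]
  have hx : ∀ w, x ∈ zpowers w ↔ y ∈ zpowers w := by
    intro w
    rw [← zpowers_le, ← zpowers_le (g := y), h]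
  rw [h, hx]

theorem pgAdj_of_pgNb_eq {x y : G} (h : pgNb x = pgNb y) : pgAdj x y := by
  have : y ∈ pgNb x := by rw [h]; exact pgNb_self y
  exact this

/-- inside a cyclic subgroup, comparability is divisibility of orders -/
theorem pgAdj_iff_of_mem [Finite G] {c u v : G} (hu : u ∈ zpowers c) (hv : v ∈ zpowers c) :
    pgAdj u v ↔ (orderOf u ∣ orderOf v ∨ orderOf v ∣ orderOf u) := by
  constructor
  · rintro (h | h)
    · exact Or.inl (orderOf_dvd_of_mem_zpowers h)
    · exact Or.inr (orderOf_dvd_of_mem_zpowers h)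
  · rintro (h | h)
    · exact Or.inl (pg_mem_zpowers_of_dvd hu hv h)
    · exact Or.inr (pg_mem_zpowers_of_dvd hv hu h)

theorem pg_zpowers_eq_of_orderOf_eq [Finite G] {c u v : G} (hu : u ∈ zpowers c)
    (hv : v ∈ zpowers c) (h : orderOf u = orderOf v) : zpowers u = zpowers v := by
  apply le_antisymm
  · rw [zpowers_le]; exact pg_mem_zpowers_of_dvd hu hv (by rw [h])
  · rw [zpowers_le]; exact pg_mem_zpowers_of_dvd hv hu (by rw [h])

theorem pg_zpowers_eq_of_mem_of_orderOf_eq [Finite G] {u v : G} (hu : u ∈ zpowers v)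
    (h : orderOf u = orderOf v) : zpowers u = zpowers v :=
  pg_zpowers_eq_of_orderOf_eq hu (mem_zpowers v) h

/-- number theory: a proper nontrivial divisor of a non-prime-power has an incomparable
divisor. -/
theorem pg_exists_incomparable_dvd {n d : ℕ} (hn : ¬ IsPrimePow n) (hd : d ∣ n) (h1 : 1 < d)
    (hdn : d < n) : ∃ d', d' ∣ n ∧ ¬ d ∣ d' ∧ ¬ d' ∣ d := by
  have hd0 : d ≠ 0 := by omega
  have hn0 : n ≠ 0 := by omega
  obtain ⟨k, rfl⟩ := hd
  have hk1 : 1 < k := by
    by_contra hk
    have : k = 0 ∨ k = 1 := by omega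
    rcases this with rfl | rfl
    · simp at hn0
    · simp at hdn
  set r := k.minFac with hr
  have hrp : r.Prime := Nat.minFac_prime (by omega)
  have hrk : r ∣ k := Nat.minFac_dvd k
  set a := d.factorization r with ha
  by_cases hpow : d ∣ r ^ (a + 1)
  · -- d is a power of r
    obtain ⟨b, hb, rfl⟩ := (Nat.dvd_prime_pow hrp).1 hpow
    have hb1 : b ≠ 0 := by
      rintro rfl; simp at h1
    -- there is another prime dividing n
    have : ∃ s : ℕ, s.Prime ∧ s ∣ r ^ b * k ∧ s ≠ r := by
      by_contra hcon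
      push Not at hcon
      apply hn
      have := Nat.eq_prime_pow_of_unique_prime_dvd hn0 (fun {s} hs hsd => hcon s hs hsd)
      rw [this]
      refine hrp.isPrimePow.pow ?_
      intro h0
      rw [h0, pow_zero] at this
      omega
    obtain ⟨s, hs, hsn, hsr⟩ := this
    refine ⟨s, hsn, ?_, ?_⟩
    · intro h
      have : r ∣ s := dvd_trans (dvd_pow_self r hb1) h
      exact hsr ((Nat.prime_dvd_prime_iff_eq hrp hs).1 this).symm
    · intro h
      have : s ∣ r := hs.dvd_of_dvd_pow h
      exact hsr ((Nat.prime_dvd_prime_iff_eq hs hrp).1 this)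
  · refine ⟨r ^ (a + 1), ?_, hpow, ?_⟩
    · rw [pow_succ]
      exact mul_dvd_mul (Nat.ordProj_dvd d r) hrk
    · exact Nat.pow_succ_factorization_not_dvd hd0 hrp

/-- group version -/
theorem pg_exists_incomparable [Finite G] {x y : G} (hx : ¬ IsPrimePow (orderOf x))
    (hy : y ∈ zpowers x) (hy1 : y ≠ 1) (hyx : orderOf y ≠ orderOf x) :
    ∃ z ∈ zpowers x, ¬ pgAdj z y := by
  have hdvd : orderOf y ∣ orderOf x := orderOf_dvd_of_mem_zpowers hy
  have h1 : 1 < orderOf y := by
    have := orderOf_pos y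
    have h1' : orderOf y ≠ 1 := by
      intro h; exact hy1 (orderOf_eq_one_iff.1 h)
    omega
  have hlt : orderOf y < orderOf x :=
    lt_of_le_of_ne (Nat.le_of_dvd (orderOf_pos x) hdvd) hyx
  obtain ⟨d', hd'n, h1', h2'⟩ := pg_exists_incomparable_dvd hx hdvd h1 hlt
  obtain ⟨z, hz, hzo⟩ := pg_exists_orderOf_eq x hd'n
  refine ⟨z, hz, ?_⟩
  rw [pgAdj_iff_of_mem hz hy, hzo]
  rintro (h | h)
  · exact h2' h
  · exact h1' h

/-- classes of non-dominating elements of non-prime-power order are generator sets -/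
theorem pg_cls_nonpp [Finite G] {x w : G} (hx : ¬ IsPrimePow (orderOf x))
    (hnd : ∃ z, ¬ pgAdj x z) (hw : pgNb w = pgNb x) : zpowers w = zpowers x := by
  have hadj : pgAdj w x := pgAdj_of_pgNb_eq hw
  have hw1 : w ≠ 1 := by
    rintro rfl
    obtain ⟨z, hz⟩ := hnd
    apply hz
    have : z ∈ pgNb (1 : G) := pgAdj_one_left z
    rw [hw] at this
    exact this
  have hx1 : x ≠ 1 := by
    rintro rfl
    obtain ⟨z, hz⟩ := hnd
    exact hz (pgAdj_one_left z)
  rcases hadj with h | h
  · -- w ∈ zpowers x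
    by_cases ho : orderOf w = orderOf x
    · exact pg_zpowers_eq_of_mem_of_orderOf_eq h ho
    · exfalso
      obtain ⟨z, hz, hzw⟩ := pg_exists_incomparable hx h hw1 ho
      have : z ∈ pgNb x := Or.inr hz
      rw [← hw] at this
      exact hzw (pgAdj_symm this)
  · -- x ∈ zpowers w
    by_cases ho : orderOf x = orderOf w
    · exact (pg_zpowers_eq_of_mem_of_orderOf_eq h ho).symm
    · exfalso
      have hwpp : ¬ IsPrimePow (orderOf w) := by
        intro hpp
        apply hx
        have hdvd : orderOf x ∣ orderOf w := orderOf_dvd_of_mem_zpowers h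
        obtain ⟨r, k, hr, hk, hrk⟩ := hpp
        rw [← hrk] at hdvd
        obtain ⟨j, hj, hjx⟩ := (Nat.dvd_prime_pow hr.nat_prime).1 hdvd
        rw [hjx]
        refine hr.nat_prime.isPrimePow.pow ?_
        rintro rfl
        rw [pow_zero] at hjx
        exact hx1 (orderOf_eq_one_iff.1 hjx)
      obtain ⟨z, hz, hzx⟩ := pg_exists_incomparable hwpp h hx1 ho
      have : z ∈ pgNb w := Or.inr hz
      rw [hw] at this
      exact hzx (pgAdj_symm this)

/-- classes of non-dominating elements of prime-power order consist of elements of prime power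
order for the same prime -/
theorem pg_cls_pp [Finite G] {x w : G} {r j : ℕ} (hr : r.Prime) (hj : j ≠ 0)
    (hx : orderOf x = r ^ j) (hw : pgNb w = pgNb x) : ∃ k, orderOf w = r ^ k := by
  have hadj : pgAdj w x := pgAdj_of_pgNb_eq hw
  have hx1 : x ≠ 1 := by
    rintro rfl
    rw [orderOf_one] at hx
    have : 1 < r ^ j := Nat.one_lt_pow hj hr.one_lt
    omega
  rcases hadj with h | h
  · have hdvd : orderOf w ∣ orderOf x := orderOf_dvd_of_mem_zpowers h
    rw [hx] at hdvd
    obtain ⟨k, _, hk⟩ := (Nat.dvd_prime_pow hr).1 hdvd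
    exact ⟨k, hk⟩
  · have hdvd : orderOf x ∣ orderOf w := orderOf_dvd_of_mem_zpowers h
    by_cases hwpp : IsPrimePow (orderOf w)
    · obtain ⟨s, k, hs, hk, hsk⟩ := hwpp
      have hsp : s.Prime := hs.nat_prime
      rw [hx, ← hsk] at hdvd
      have : r ∣ s ^ k := dvd_trans (dvd_pow_self r hj) hdvd
      have hrs : r = s := (Nat.prime_dvd_prime_iff_eq hr hsp).1 (hr.dvd_of_dvd_pow this)
      exact ⟨k, by rw [hrs, hsk]⟩
    · exfalso
      have ho : orderOf x ≠ orderOf w := by
        intro h'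
        apply hwpp
        rw [← h', hx]
        exact hr.isPrimePow.pow hj
      obtain ⟨z, hz, hzx⟩ := pg_exists_incomparable hwpp h hx1 ho
      have : z ∈ pgNb w := Or.inr hz
      rw [hw] at this
      exact hzx (pgAdj_symm this)

end Cfsg.Agent.Lib.helper3
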