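import Mathlib
import Cfsg.Agent.Lib.helper3.PowerGraphB

/-! Power graph, part C: sizes of generator sets; class bounds. -/

namespace Cfsg.Agent.Lib.helper3

open Subgroup

variable {G : Type*} [Group G]

theorem pg_mem_of_zpowers_eq {w a : G} (h : zpowers w = zpowers a) : w ∈ zpowers a := by
  rw [← h]; exact mem_zpowers w

theorem pg_orderOf_eq_of_zpowers_eq {w a : G} (h : zpowers w = zpowers a) :
    orderOf w = orderOf a := by
  rw [← Nat.card_zpowers, ← Nat.card_zpowers a, h]

/-- the number of generators of a cyclic subgroup -/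
theorem pg_card_gens [Finite G] (a : G) :
    Nat.card {w : G // zpowers w = zpowers a} = Nat.totient (orderOf a) := by
  classical
  haveI : Fintype G := Fintype.ofFinite G
  let K := zpowers a
  have e : {w : G // zpowers w = zpowers a} ≃ {u : K // orderOf u = orderOf a} :=
    { toFun := fun w => ⟨⟨w.1, pg_mem_of_zpowers_eq w.2⟩, by
        rw [Subgroup.orderOf_mk]; exact pg_orderOf_eq_of_zpowers_eq w.2⟩
      invFun := fun u => ⟨u.1.1, pg_zpowers_eq_of_mem_of_orderOf_eq u.1.2 (by
        rw [Subgroup.orderOf_coe]; exact u.2)⟩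
      left_inv := fun w => rfl
      right_inv := fun u => rfl }
  rw [Nat.card_congr e, Nat.card_eq_fintype_card, Fintype.card_subtype]
  apply IsCyclic.card_orderOf_eq_totient
  rw [Fintype.card_zpowers]

end Cfsg.Agent.Lib.helper3
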