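import Mathlib
import Cfsg.Agent.Lib.helper3.PowerGraphC

/-! Power graph, part D: the local configuration and the case of both neighbours below. -/

namespace Cfsg.Agent.Lib.helper3

open Subgroup

variable {G : Type*} [Group G]

/-- the configuration around an element of order `pq` seen in the power graph -/
structure PgConfig (h a b : G) (P Q : ℕ) : Prop where
  nd : ∃ z, ¬ pgAdj h z
  nab : ¬ pgAdj a b
  ah : pgAdj a h
  bh : pgAdj b h
  cov : ∀ w, pgAdj w h → ¬ (pgAdj w a ∧ pgAdj w b) → (pgNb w = pgNb a ∨ pgNb w = pgNb b)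
  ca : Nat.card {w : G // pgNb w = pgNb a} = P
  cb : Nat.card {w : G // pgNb w = pgNb b} = Q
  ch : Nat.card {w : G // pgNb w = pgNb h} = P * Q

theorem PgConfig.swap {h a b : G} {P Q : ℕ} (c : PgConfig h a b P Q) : PgConfig h b a Q P where
  nd := c.nd
  nab := fun h' => c.nab (pgAdj_symm h')
  ah := c.bh
  bh := c.ah
  cov := fun w hw hn => (c.cov w hw (fun h' => hn ⟨h'.2, h'.1⟩)).symm
  ca := c.cb
  cb := c.ca
  ch := by rw [mul_comm]; exact c.ch

theorem pgAdj_congr_right {x a a' : G} (h : pgNb a' = pgNb a) : pgAdj x a' ↔ pgAdj x a := by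
  rw [pgAdj_comm, ← mem_pgNb, h, mem_pgNb, pgAdj_comm]

theorem PgConfig.replace {h a b a' : G} {P Q : ℕ} (c : PgConfig h a b P Q)
    (ha : pgNb a' = pgNb a) : PgConfig h a' b P Q where
  nd := c.nd
  nab := by
    intro h'
    apply c.nab
    have : b ∈ pgNb a' := h'
    rw [ha] at this
    exact this
  ah := by
    have : h ∈ pgNb a := c.ah
    rw [← ha] at this
    exact this
  bh := c.bh
  cov := by
    intro w hw hn
    rw [ha]
    apply c.cov w hw
    rw [← pgAdj_congr_right ha]
    exact hn
  ca := by rw [ha]; exact c.ca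
  cb := c.cb
  ch := c.ch

/-- key consequence: in the cyclic group below `h`, not adjacent to `b` forces the class of `a` -/
theorem PgConfig.key {h a b : G} {P Q : ℕ} (c : PgConfig h a b P Q) {w : G}
    (hw : w ∈ zpowers h) (hwb : ¬ pgAdj w b) : pgNb w = pgNb a := by
  rcases c.cov w (Or.inl hw) (fun h' => hwb h'.2) with h1 | h1
  · exact h1
  · exfalso
    apply hwb
    have : b ∈ pgNb w := by rw [h1]; exact pgNb_self b
    exact this

theorem pg_prime_pow_dvd_prime_pow {r s i j : ℕ} (hr : r.Prime) (hs : s.Prime) (hrs : r ≠ s)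
    (hi : i ≠ 0) : ¬ r ^ i ∣ s ^ j := by
  intro h
  have : r ∣ s ^ j := dvd_trans (dvd_pow_self r hi) h
  exact hrs ((Nat.prime_dvd_prime_iff_eq hr hs).1 (hr.dvd_of_dvd_pow this))

/-- step 1: replace `a` by an element of prime order -/
theorem PgConfig.exists_prime [Finite G] {h a b : G} {P Q : ℕ} (c : PgConfig h a b P Q)
    (ha : a ∈ zpowers h) (hb : b ∈ zpowers h) :
    ∃ a' ∈ zpowers h, pgNb a' = pgNb a ∧ (orderOf a').Prime ∧ ¬ orderOf a' ∣ orderOf b := by
  have hnd : ¬ (orderOf a ∣ orderOf b ∨ orderOf b ∣ orderOf a) := by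
    rw [← pgAdj_iff_of_mem ha hb]; exact c.nab
  push Not at hnd
  have hd1 : orderOf a ≠ 0 := (orderOf_pos a).ne'
  have hd2 : orderOf b ≠ 0 := (orderOf_pos b).ne'
  have hnle : ¬ (orderOf a).factorization ≤ (orderOf b).factorization := by
    rw [Nat.factorization_le_iff_dvd hd1 hd2]; exact hnd.1
  rw [Finsupp.le_def] at hnle
  push Not at hnle
  obtain ⟨r, hr⟩ := hnle
  have hrp : r.Prime := by
    by_contra hnp
    rw [Nat.factorization_eq_zero_of_not_prime (orderOf a) hnp] at hr
    omega
  set k := (orderOf a).factorization r with hk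
  have hk0 : k ≠ 0 := by omega
  have hrk_a : r ^ k ∣ orderOf a := Nat.ordProj_dvd _ _
  have ham : orderOf a ∣ orderOf h := orderOf_dvd_of_mem_zpowers ha
  -- element of order r^k
  obtain ⟨w1, hw1, hw1o⟩ := pg_exists_orderOf_eq h (dvd_trans hrk_a ham)
  have hw1b : ¬ pgAdj w1 b := by
    rw [pgAdj_iff_of_mem hw1 hb, hw1o]
    rintro (h' | h')
    · have := (hrp.pow_dvd_iff_le_factorization hd2).1 h'
      omega
    · exact hnd.2 (dvd_trans h' hrk_a)
  have hnb1 : pgNb w1 = pgNb a := c.key hw1 hw1b
  -- element of order r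
  obtain ⟨u, hu, huo⟩ := pg_exists_orderOf_eq h
    (dvd_trans (dvd_trans (dvd_pow_self r hk0) hrk_a) ham)
  -- r does not divide orderOf b: else ... we only need: u not adjacent to b
  -- first show orderOf b is not a power of r and r-part of b smaller
  have hub : ¬ pgAdj u b := by
    intro hadj
    -- u adjacent to b; u ∈ zpowers w1 so consider: b ∈ pgNb u
    rw [pgAdj_iff_of_mem hu hb, huo] at hadj
    rcases hadj with h' | h'
    · -- r ∣ orderOf b.  Use the element of order s ... instead use w1-class argument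
      -- let s be a prime with larger valuation in b
      have hnle2 : ¬ (orderOf b).factorization ≤ (orderOf a).factorization := by
        rw [Nat.factorization_le_iff_dvd hd2 hd1]; exact hnd.2
      rw [Finsupp.le_def] at hnle2
      push Not at hnle2
      obtain ⟨s, hs⟩ := hnle2
      have hsp : s.Prime := by
        by_contra hnp
        rw [Nat.factorization_eq_zero_of_not_prime (orderOf b) hnp] at hs
        omega
      have hsr : s ≠ r := by
        rintro rfl; omega
      set l := (orderOf b).factorization s with hl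
      have hl0 : l ≠ 0 := by omega
      have hsl_b : s ^ l ∣ orderOf b := Nat.ordProj_dvd _ _
      have hbm : orderOf b ∣ orderOf h := orderOf_dvd_of_mem_zpowers hb
      obtain ⟨w2, hw2, hw2o⟩ := pg_exists_orderOf_eq h (dvd_trans hsl_b hbm)
      have hw2a : ¬ pgAdj w2 a := by
        rw [pgAdj_iff_of_mem hw2 ha, hw2o]
        rintro (h'' | h'')
        · have := (hsp.pow_dvd_iff_le_factorization hd1).1 h''
          omega
        · exact hnd.1 (dvd_trans h'' hsl_b)
      have hnb2 : pgNb w2 = pgNb b := c.swap.key hw2 hw2a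
      -- u is adjacent to b, hence to w2
      have hub' : pgAdj u b := (pgAdj_iff_of_mem hu hb).2 (by rw [huo]; exact Or.inl h')
      have : pgAdj u w2 := (pgAdj_congr_right hnb2).2 hub'
      rw [pgAdj_iff_of_mem hu hw2, huo, hw2o] at this
      rcases this with h3 | h3
      · exact pg_prime_pow_dvd_prime_pow hrp hsp (Ne.symm hsr) one_ne_zero
          (by rw [pow_one]; exact h3)
      · have := pg_prime_pow_dvd_prime_pow hsp hrp hsr hl0 (j := 1) (by rw [pow_one]; exact h3)
        exact this
    · -- orderOf b ∣ r, so orderOf b ∣ orderOf a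
      exact hnd.2 (dvd_trans h' (dvd_trans (dvd_pow_self r hk0) hrk_a))
  have hnb : pgNb u = pgNb a := c.key hu hub
  refine ⟨u, hu, hnb, by rw [huo]; exact hrp, ?_⟩
  rw [huo]
  intro h'
  apply hub
  exact (pgAdj_iff_of_mem hu hb).2 (by rw [huo]; exact Or.inl h')

end Cfsg.Agent.Lib.helper3
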