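import Mathlib
import Cfsg.Agent.Lib.helper3.PowerGraphD

/-! Power graph, part E: both neighbours below `h` (case I). -/

namespace Cfsg.Agent.Lib.helper3

open Subgroup

variable {G : Type*} [Group G]

/-- no third prime -/
theorem PgConfig.third [Finite G] {h a b : G} {P Q r s : ℕ} (c : PgConfig h a b P Q)
    (ha : a ∈ zpowers h) (hb : b ∈ zpowers h) (hr : r.Prime) (hs : s.Prime)
    (hra : orderOf a = r) (hsb : orderOf b = s) {t : ℕ} (ht : t.Prime)
    (htm : t ∣ orderOf h) : t = r ∨ t = s := by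
  by_contra hcon
  push Not at hcon
  obtain ⟨u, hu, huo⟩ := pg_exists_orderOf_eq h htm
  have hua : ¬ pgAdj u a := by
    rw [pgAdj_iff_of_mem hu ha, huo, hra]
    rintro (h' | h')
    · exact hcon.1 ((Nat.prime_dvd_prime_iff_eq ht hr).1 h')
    · exact hcon.1 ((Nat.prime_dvd_prime_iff_eq hr ht).1 h').symm
  have hnb : pgNb u = pgNb b := c.swap.key hu hua
  have hub : pgAdj u b := by
    have : b ∈ pgNb u := by rw [hnb]; exact pgNb_self b
    exact this
  rw [pgAdj_iff_of_mem hu hb, huo, hsb] at hub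
  rcases hub with h' | h'
  · exact hcon.2 ((Nat.prime_dvd_prime_iff_eq ht hs).1 h')
  · exact hcon.2 ((Nat.prime_dvd_prime_iff_eq hs ht).1 h').symm

/-- no square of `r` -/
theorem PgConfig.nosq [Finite G] {h a b : G} {P Q r s : ℕ} (c : PgConfig h a b P Q)
    (ha : a ∈ zpowers h) (hb : b ∈ zpowers h) (hr : r.Prime) (hs : s.Prime) (hrs : r ≠ s)
    (hra : orderOf a = r) (hsb : orderOf b = s) : ¬ r * r ∣ orderOf h := by
  intro hsq
  have hrm : r ∣ orderOf h := hra ▸ orderOf_dvd_of_mem_zpowers ha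
  have hsm : s ∣ orderOf h := hsb ▸ orderOf_dvd_of_mem_zpowers hb
  have hcop : Nat.Coprime r s := (Nat.coprime_primes hr hs).2 hrs
  have hrsm : r * s ∣ orderOf h := hcop.mul_dvd_of_dvd_of_dvd hrm hsm
  obtain ⟨v', hv', hv'o⟩ := pg_exists_orderOf_eq h hsq
  obtain ⟨v, hv, hvo⟩ := pg_exists_orderOf_eq h hrsm
  have hrs' : ¬ r ∣ s := fun h' => hrs ((Nat.prime_dvd_prime_iff_eq hr hs).1 h')
  have hsr' : ¬ s ∣ r := fun h' => hrs ((Nat.prime_dvd_prime_iff_eq hs hr).1 h').symm
  have hv'b : ¬ pgAdj v' b := by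
    rw [pgAdj_iff_of_mem hv' hb, hv'o, hsb]
    rintro (h' | h')
    · exact hrs' (dvd_trans (dvd_mul_right r r) h')
    · rcases (Nat.Prime.dvd_mul hs).1 h' with h'' | h'' <;> exact hsr' h''
  have hnb : pgNb v' = pgNb a := c.key hv' hv'b
  have hva : pgAdj v a := by
    rw [pgAdj_iff_of_mem hv ha, hvo, hra]
    exact Or.inr (dvd_mul_right r s)
  have hvv' : pgAdj v v' := (pgAdj_congr_right hnb).2 hva
  rw [pgAdj_iff_of_mem hv hv', hvo, hv'o] at hvv'
  rcases hvv' with h' | h'
  · have : s ∣ r * r := dvd_trans (dvd_mul_left s r) h'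
    rcases (Nat.Prime.dvd_mul hs).1 this with h'' | h'' <;> exact hsr' h''
  · have : r ∣ s := by
      have h2 := Nat.dvd_of_mul_dvd_mul_left hr.pos h'
      exact h2
    exact hrs' this

/-- the class of `a` when `h` has order `r s` -/
theorem PgConfig.cls_a [Finite G] {h a b : G} {P Q r s : ℕ} (c : PgConfig h a b P Q)
    (ha : a ∈ zpowers h) (hb : b ∈ zpowers h) (hr : r.Prime) (hs : s.Prime) (hrs : r ≠ s)
    (hra : orderOf a = r) (hsb : orderOf b = s) (hm : orderOf h = r * s) : P = r - 1 := by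
  have hrs' : ¬ r ∣ s := fun h' => hrs ((Nat.prime_dvd_prime_iff_eq hr hs).1 h')
  have hsr' : ¬ s ∣ r := fun h' => hrs ((Nat.prime_dvd_prime_iff_eq hs hr).1 h').symm
  have hset : ∀ w : G, pgNb w = pgNb a ↔ zpowers w = zpowers a := by
    intro w
    constructor
    · intro hw
      have hwh : pgAdj w h := by
        have : h ∈ pgNb a := c.ah
        rw [← hw] at this
        exact this
      have hwb : ¬ pgAdj w b := by
        intro h'
        apply c.nab
        have : b ∈ pgNb w := h'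
        rw [hw] at this
        exact this
      rcases hwh with h1 | h1
      · -- w ∈ zpowers h
        have hdvd : orderOf w ∣ r * s := hm ▸ orderOf_dvd_of_mem_zpowers h1
        rw [pgAdj_iff_of_mem h1 hb, hsb] at hwb
        push Not at hwb
        have hwr : orderOf w = r := by
          obtain ⟨d1, d2, hd1, hd2, hd12⟩ := (Nat.dvd_mul).1 hdvd
          rcases (Nat.dvd_prime hr).1 hd1 with rfl | rfl <;>
            rcases (Nat.dvd_prime hs).1 hd2 with rfl | rfl
          · exfalso; apply hwb.1; rw [← hd12]; simp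
          · exfalso; apply hwb.1; rw [← hd12]; simp
          · rw [← hd12]; simp
          · exfalso; apply hwb.2; rw [← hd12]; exact dvd_mul_left _ _
        exact pg_zpowers_eq_of_orderOf_eq h1 ha (by rw [hwr, hra])
      · exfalso
        apply hwb
        exact Or.inr ((zpowers_le.2 h1) hb)
    · exact pgNb_eq_of_zpowers_eq
  have e : {w : G // pgNb w = pgNb a} ≃ {w : G // zpowers w = zpowers a} :=
    Equiv.subtypeEquivRight hset
  rw [← c.ca, Nat.card_congr e, pg_card_gens, hra, Nat.totient_prime hr]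

/-- case I -/
theorem PgConfig.caseI [Finite G] {h a b : G} {P Q : ℕ} (c : PgConfig h a b P Q)
    (ha : a ∈ zpowers h) (hb : b ∈ zpowers h) :
    ∃ r s : ℕ, r.Prime ∧ s.Prime ∧ r ≠ s ∧ orderOf h = r * s ∧ P = r - 1 ∧ Q = s - 1 := by
  obtain ⟨a', ha', hnba, hpa, -⟩ := c.exists_prime ha hb
  have c1 : PgConfig h a' b P Q := c.replace hnba
  obtain ⟨b', hb', hnbb, hpb, -⟩ := c1.swap.exists_prime hb ha'
  have c2 : PgConfig h b' a' Q P := c1.swap.replace hnbb
  have c3 : PgConfig h a' b' P Q := c2.swap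
  set r := orderOf a' with hr
  set s := orderOf b' with hs
  have hrs : r ≠ s := by
    intro h'
    apply c3.nab
    rw [pgAdj_iff_of_mem ha' hb', ← hr, ← hs, h']
    exact Or.inl dvd_rfl
  have hrm : r ∣ orderOf h := orderOf_dvd_of_mem_zpowers ha'
  have hsm : s ∣ orderOf h := orderOf_dvd_of_mem_zpowers hb'
  have hcop : Nat.Coprime r s := (Nat.coprime_primes hpa hpb).2 hrs
  have hrsm : r * s ∣ orderOf h := hcop.mul_dvd_of_dvd_of_dvd hrm hsm
  have hm : orderOf h = r * s := by
    obtain ⟨k, hk⟩ := hrsm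
    by_cases hk1 : k = 1
    · rw [hk, hk1, mul_one]
    · exfalso
      have hk0 : k ≠ 0 := by
        rintro rfl
        rw [mul_zero] at hk
        exact (orderOf_pos h).ne' hk
      set t := k.minFac with ht
      have htp : t.Prime := Nat.minFac_prime hk1
      have htk : t ∣ k := Nat.minFac_dvd k
      have htm : t ∣ orderOf h := by rw [hk]; exact dvd_trans htk (dvd_mul_left _ _)
      rcases c3.third ha' hb' hpa hpb rfl rfl htp htm with h' | h'
      · apply c3.nosq ha' hb' hpa hpb hrs rfl rfl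
        rw [hk]
        have : r ∣ k := h' ▸ htk
        obtain ⟨k', rfl⟩ := this
        exact ⟨s * k', by ring⟩
      · apply c3.swap.nosq hb' ha' hpb hpa (Ne.symm hrs) rfl rfl
        rw [hk]
        have : s ∣ k := h' ▸ htk
        obtain ⟨k', rfl⟩ := this
        exact ⟨r * k', by ring⟩
  refine ⟨r, s, hpa, hpb, hrs, hm, ?_, ?_⟩
  · exact c3.cls_a ha' hb' hpa hpb hrs rfl rfl hm
  · exact c3.swap.cls_a hb' ha' hpb hpa (Ne.symm hrs) rfl rfl (by rw [hm, mul_comm])

end Cfsg.Agent.Lib.helper3
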