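import Mathlib
import Cfsg.Agent.Lib.helper3.PowerGraphE

/-! Power graph, part F: both neighbours above `h` is impossible (case II); main local lemma. -/

namespace Cfsg.Agent.Lib.helper3

open Subgroup

variable {G : Type*} [Group G]

theorem PgConfig.totient_le [Finite G] {h a b : G} {P Q : ℕ} (c : PgConfig h a b P Q) :
    Nat.totient (orderOf a) ≤ P := by
  rw [← pg_card_gens a, ← c.ca]
  apply Nat.card_le_card_of_injective
    (fun w : {w : G // zpowers w = zpowers a} =>
      (⟨w.1, pgNb_eq_of_zpowers_eq w.2⟩ : {w : G // pgNb w = pgNb a}))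
  intro w1 w2 h12
  apply Subtype.ext
  exact congrArg (fun w : {w : G // pgNb w = pgNb a} => w.1) h12

theorem PgConfig.h_ne_one {h a b : G} {P Q : ℕ} (c : PgConfig h a b P Q) : h ≠ 1 := by
  rintro rfl
  obtain ⟨z, hz⟩ := c.nd
  exact hz (pgAdj_one_left z)

/-- elements of the class of `h` lie below `a` when `h` is below both and has prime power order -/
theorem PgConfig.cls_h_mem [Finite G] {h a b : G} {P Q r j : ℕ} (c : PgConfig h a b P Q)
    (hr : r.Prime) (hj : j ≠ 0) (hrj : orderOf h = r ^ j) {w : G} (hw : pgNb w = pgNb h) :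
    w ∈ zpowers a := by
  obtain ⟨k, hk⟩ := pg_cls_pp hr hj hrj hw
  have hwa : pgAdj w a := by
    have : a ∈ pgNb h := pgAdj_symm c.ah
    rw [← hw] at this
    exact this
  have hwb : pgAdj w b := by
    have : b ∈ pgNb h := pgAdj_symm c.bh
    rw [← hw] at this
    exact this
  rcases hwa with h1 | h1
  · exact h1
  · exfalso
    apply c.nab
    rcases hwb with h2 | h2
    · -- w ∈ zpowers b
      exact Or.inl ((zpowers_le.2 h2) h1)
    · -- a, b ∈ zpowers w, a cyclic r-group
      rw [pgAdj_iff_of_mem h1 h2]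
      have hda : orderOf a ∣ r ^ k := hk ▸ orderOf_dvd_of_mem_zpowers h1
      have hdb : orderOf b ∣ r ^ k := hk ▸ orderOf_dvd_of_mem_zpowers h2
      obtain ⟨x, _, hx⟩ := (Nat.dvd_prime_pow hr).1 hda
      obtain ⟨y, _, hy⟩ := (Nat.dvd_prime_pow hr).1 hdb
      rw [hx, hy]
      rcases le_total x y with hxy | hxy
      · exact Or.inl (pow_dvd_pow r hxy)
      · exact Or.inr (pow_dvd_pow r hxy)

/-- the class of `h` is small -/
theorem PgConfig.cls_h_lt [Finite G] {h a b : G} {P Q : ℕ} (c : PgConfig h a b P Q)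
    (hha : h ∈ zpowers a) :
    Nat.card {w : G // pgNb w = pgNb h} < 2 * Nat.totient (orderOf a) := by
  classical
  have hpos : 0 < Nat.totient (orderOf a) := Nat.totient_pos.2 (orderOf_pos a)
  have hma : orderOf h ∣ orderOf a := orderOf_dvd_of_mem_zpowers hha
  by_cases hpp : IsPrimePow (orderOf h)
  · obtain ⟨r, j, hr', hj, hrj⟩ := hpp
    have hr : r.Prime := hr'.nat_prime
    have hj0 : j ≠ 0 := hj.ne'
    have hn0 : orderOf a ≠ 0 := (orderOf_pos a).ne'
    set α := (orderOf a).factorization r with hα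
    have hra : r ∣ orderOf a := dvd_trans (dvd_pow_self r hj0) (hrj ▸ hma)
    have hα1 : 0 < α := hr.factorization_pos_of_dvd hn0 hra
    -- the big set
    let T : Set G := {w | w ∈ zpowers a ∧ w ^ (r ^ α) = 1}
    let S : Set G := {w | pgNb w = pgNb h}
    have hST : S ⊆ T := by
      intro w hw
      have hw' : pgNb w = pgNb h := hw
      obtain ⟨k, hk⟩ := pg_cls_pp hr hj0 hrj.symm hw'
      have hwa : w ∈ zpowers a := c.cls_h_mem hr hj0 hrj.symm hw'
      refine ⟨hwa, ?_⟩
      have hdvd : r ^ k ∣ orderOf a := hk ▸ orderOf_dvd_of_mem_zpowers hwa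
      have hkα : k ≤ α := (hr.pow_dvd_iff_le_factorization hn0).1 hdvd
      apply orderOf_dvd_iff_pow_eq_one.1
      rw [hk]
      exact pow_dvd_pow r hkα
    have h1T : (1 : G) ∈ T := ⟨one_mem _, one_pow _⟩
    have h1S : (1 : G) ∉ S := by
      intro h1
      have h1' : pgNb (1 : G) = pgNb h := h1
      obtain ⟨z, hz⟩ := c.nd
      apply hz
      have : z ∈ pgNb (1 : G) := pgAdj_one_left z
      rw [h1'] at this
      exact this
    have hss : S ⊂ T := by
      refine ⟨hST, ?_⟩
      intro hTS
      exact h1S (hTS h1T)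
    have hTfin : T.Finite := Set.toFinite T
    have hlt : S.ncard < T.ncard := Set.ncard_lt_ncard hss hTfin
    -- card of T
    haveI : Fintype G := Fintype.ofFinite G
    let K := zpowers a
    have hTle : T.ncard ≤ r ^ α := by
      have hpos' : 0 < r ^ α := Nat.pow_pos hr.pos
      have hle := IsCyclic.card_pow_eq_one_le (α := K) hpos'
      refine le_trans ?_ hle
      rw [← _root_.Nat.card_coe_set_eq, ← Fintype.card_subtype, ← Nat.card_eq_fintype_card]
      apply Nat.card_le_card_of_injective
        (fun w : T => (⟨⟨w.1, w.2.1⟩, by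
          apply Subtype.ext
          simpa using w.2.2⟩ : {u : K // u ^ (r ^ α) = 1}))
      intro w1 w2 h12
      apply Subtype.ext
      have := congrArg (fun u : {u : K // u ^ (r ^ α) = 1} => (u.1 : G)) h12
      simpa using this
    have hS : Nat.card {w : G // pgNb w = pgNb h} = S.ncard := _root_.Nat.card_coe_set_eq S
    rw [hS]
    -- r^α ≤ 2 φ(r^α) ≤ 2 φ(orderOf a)
    have htp : Nat.totient (r ^ α) = r ^ (α - 1) * (r - 1) := Nat.totient_prime_pow hr hα1
    have hdiv : Nat.totient (r ^ α) ∣ Nat.totient (orderOf a) :=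
      Nat.totient_dvd_of_dvd (Nat.ordProj_dvd _ _)
    have hle2 : Nat.totient (r ^ α) ≤ Nat.totient (orderOf a) := Nat.le_of_dvd hpos hdiv
    have hrα : r ^ α ≤ 2 * Nat.totient (r ^ α) := by
      rw [htp]
      have : r ^ α = r ^ (α - 1) * r := by
        rw [← pow_succ]; congr 1; omega
      rw [this]
      have h2 : r ≤ 2 * (r - 1) := by have := hr.two_le; omega
      calc r ^ (α - 1) * r ≤ r ^ (α - 1) * (2 * (r - 1)) := Nat.mul_le_mul_left _ h2
        _ = 2 * (r ^ (α - 1) * (r - 1)) := by ring
    omega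
  · -- class = generators
    have hset : ∀ w : G, pgNb w = pgNb h ↔ zpowers w = zpowers h := by
      intro w
      exact ⟨pg_cls_nonpp hpp c.nd, pgNb_eq_of_zpowers_eq⟩
    have e : {w : G // pgNb w = pgNb h} ≃ {w : G // zpowers w = zpowers h} :=
      Equiv.subtypeEquivRight hset
    rw [Nat.card_congr e, pg_card_gens]
    have hdiv : Nat.totient (orderOf h) ∣ Nat.totient (orderOf a) := Nat.totient_dvd_of_dvd hma
    have := Nat.le_of_dvd hpos hdiv
    omega

/-- case II is impossible -/
theorem PgConfig.caseII [Finite G] {h a b : G} {P Q : ℕ} (c : PgConfig h a b P Q)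
    (hha : h ∈ zpowers a) (hhb : h ∈ zpowers b) (hb : b ∉ zpowers h) : False := by
  have h1 := c.totient_le
  have h2 := c.swap.totient_le
  have h3 := c.cls_h_lt hha
  rw [c.ch] at h3
  -- orderOf b ≥ 3
  have hm1 : orderOf h ≠ 1 := fun h' => c.h_ne_one (orderOf_eq_one_iff.1 h')
  have hmb : orderOf h ∣ orderOf b := orderOf_dvd_of_mem_zpowers hhb
  have hne : orderOf h ≠ orderOf b := by
    intro h'
    apply hb
    rw [pg_zpowers_eq_of_mem_of_orderOf_eq hhb h']
    exact mem_zpowers b
  have hnb : 2 < orderOf b := by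
    obtain ⟨k, hk⟩ := hmb
    have hpos := orderOf_pos h
    have hposb := orderOf_pos b
    have hk0 : k ≠ 0 := by rintro rfl; omega
    have hk1 : k ≠ 1 := by rintro rfl; omega
    have : 2 ≤ k := by omega
    have : 2 ≤ orderOf h := by omega
    nlinarith
  have heven := Nat.totient_even hnb
  have hposb : 0 < Nat.totient (orderOf b) := Nat.totient_pos.2 (orderOf_pos b)
  have h2le : 2 ≤ Nat.totient (orderOf b) := by
    obtain ⟨t, ht⟩ := heven
    omega
  have hQ : 2 ≤ Q := le_trans h2le h2
  nlinarith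

/-- the local lemma: the configuration forces `h` to have order `p q` -/
theorem PgConfig.orderOf_eq [Finite G] {h a b : G} {p q : ℕ} (hp : p.Prime) (hq : q.Prime)
    (c : PgConfig h a b (p - 1) (q - 1)) : orderOf h = p * q := by
  have key : ∀ {a b : G} {P Q : ℕ}, PgConfig h a b P Q → a ∈ zpowers h → h ∈ zpowers b → False := by
    intro a b P Q c' h1 h2
    exact c'.nab (Or.inl ((zpowers_le.2 h2) h1))
  rcases c.ah with h1 | h1 <;> rcases c.bh with h2 | h2
  · obtain ⟨r, s, hr, hs, -, hm, hP, hQ⟩ := c.caseI h1 h2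
    have := hr.two_le
    have := hs.two_le
    have := hp.two_le
    have := hq.two_le
    have hrp : r = p := by omega
    have hsq : s = q := by omega
    rw [hm, hrp, hsq]
  · exact (key c h1 h2).elim
  · exact (key c.swap h2 h1).elim
  · by_cases hb : b ∈ zpowers h
    · exact (key c.swap hb h1).elim
    · exact (c.caseII h1 h2 hb).elim

end Cfsg.Agent.Lib.helper3
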