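import Mathlib
import Cfsg.Agent.Lib.helper3.PowerGraphF

/-! Power graph, part G: the configuration at an element of order `pq`; transfer; main theorem. -/

namespace Cfsg.Agent.Lib.helper3

open Subgroup

variable {G : Type*} [Group G]

theorem pg_not_isPrimePow_mul {p q : ℕ} (hp : p.Prime) (hq : q.Prime) (hpq : p ≠ q) {n : ℕ}
    (h : p * q ∣ n) : ¬ IsPrimePow n := by
  rintro ⟨r, k, hr, hk, hrk⟩
  have hrp : r.Prime := hr.nat_prime
  have h1 : p ∣ r ^ k := hrk ▸ dvd_trans (dvd_mul_right p q) h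
  have h2 : q ∣ r ^ k := hrk ▸ dvd_trans (dvd_mul_left q p) h
  have e1 : p = r := (Nat.prime_dvd_prime_iff_eq hp hrp).1 (hp.dvd_of_dvd_pow h1)
  have e2 : q = r := (Nat.prime_dvd_prime_iff_eq hq hrp).1 (hq.dvd_of_dvd_pow h2)
  exact hpq (e1.trans e2.symm)

theorem pg_dvd_mul_primes {p q d : ℕ} (hp : p.Prime) (hq : q.Prime) (h : d ∣ p * q) :
    d = 1 ∨ d = p ∨ d = q ∨ d = p * q := by
  obtain ⟨d1, d2, hd1, hd2, rfl⟩ := (Nat.dvd_mul).1 h
  rcases (Nat.dvd_prime hp).1 hd1 with rfl | rfl <;>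
    rcases (Nat.dvd_prime hq).1 hd2 with rfl | rfl <;> simp

/-- the class of an element of prime order `r` below an element of order `r s` -/
theorem pg_cls_prime [Finite G] {h a b : G} {r s : ℕ} (hr : r.Prime) (hs : s.Prime) (hrs : r ≠ s)
    (ha : a ∈ zpowers h) (hb : b ∈ zpowers h) (hra : orderOf a = r) (hsb : orderOf b = s)
    (hm : orderOf h = r * s) (w : G) : pgNb w = pgNb a ↔ zpowers w = zpowers a := by
  have hrs' : ¬ r ∣ s := fun h' => hrs ((Nat.prime_dvd_prime_iff_eq hr hs).1 h')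
  have hsr' : ¬ s ∣ r := fun h' => hrs ((Nat.prime_dvd_prime_iff_eq hs hr).1 h').symm
  have hab : ¬ pgAdj a b := by
    rw [pgAdj_iff_of_mem ha hb, hra, hsb]
    rintro (h' | h')
    · exact hrs' h'
    · exact hsr' h'
  constructor
  · intro hw
    have hwh : pgAdj w h := by
      have : h ∈ pgNb a := Or.inl ha
      rw [← hw] at this
      exact this
    have hwb : ¬ pgAdj w b := by
      intro h'
      apply hab
      have : b ∈ pgNb w := h'
      rw [hw] at this
      exact this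
    rcases hwh with h1 | h1
    · have hdvd : orderOf w ∣ r * s := hm ▸ orderOf_dvd_of_mem_zpowers h1
      rw [pgAdj_iff_of_mem h1 hb, hsb] at hwb
      push Not at hwb
      have hwr : orderOf w = r := by
        rcases pg_dvd_mul_primes hr hs hdvd with h' | h' | h' | h'
        · exfalso; apply hwb.1; rw [h']; exact one_dvd _
        · exact h'
        · exfalso; apply hwb.1; rw [h']
        · exfalso; apply hwb.2; rw [h']; exact dvd_mul_left _ _
      exact pg_zpowers_eq_of_orderOf_eq h1 ha (by rw [hwr, hra])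
    · exfalso
      apply hwb
      exact Or.inr ((zpowers_le.2 h1) hb)
  · exact pgNb_eq_of_zpowers_eq

/-- the configuration at a non-dominating element of order `p q` -/
theorem pg_config_of_order [Finite G] {g : G} {p q : ℕ} (hp : p.Prime) (hq : q.Prime)
    (hpq : p ≠ q) (hg : orderOf g = p * q) (hnd : ∃ z, ¬ pgAdj g z) :
    PgConfig g (g ^ q) (g ^ p) (p - 1) (q - 1) := by
  have hx : g ^ q ∈ zpowers g := pow_mem (mem_zpowers g) q
  have hy : g ^ p ∈ zpowers g := pow_mem (mem_zpowers g) p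
  have hxo : orderOf (g ^ q) = p := by
    rw [orderOf_pow_of_dvd hq.ne_zero (hg ▸ dvd_mul_left q p), hg]
    exact Nat.mul_div_cancel _ hq.pos
  have hyo : orderOf (g ^ p) = q := by
    rw [orderOf_pow_of_dvd hp.ne_zero (hg ▸ dvd_mul_right p q), hg]
    exact Nat.mul_div_cancel_left _ hp.pos
  have hpq' : ¬ p ∣ q := fun h' => hpq ((Nat.prime_dvd_prime_iff_eq hp hq).1 h')
  have hqp' : ¬ q ∣ p := fun h' => hpq ((Nat.prime_dvd_prime_iff_eq hq hp).1 h').symm
  have hgq : orderOf g = q * p := by rw [hg, mul_comm]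
  have hclsx := pg_cls_prime hp hq hpq hx hy hxo hyo hg
  have hclsy := pg_cls_prime hq hp (Ne.symm hpq) hy hx hyo hxo hgq
  refine ⟨hnd, ?_, Or.inl hx, Or.inl hy, ?_, ?_, ?_, ?_⟩
  · rw [pgAdj_iff_of_mem hx hy, hxo, hyo]
    rintro (h' | h')
    · exact hpq' h'
    · exact hqp' h'
  · intro w hw hn
    rcases hw with h1 | h1
    · have hdvd : orderOf w ∣ p * q := hg ▸ orderOf_dvd_of_mem_zpowers h1
      rcases pg_dvd_mul_primes hp hq hdvd with h' | h' | h' | h'
      · exfalso; apply hn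
        rw [pgAdj_iff_of_mem h1 hx, pgAdj_iff_of_mem h1 hy, h']
        exact ⟨Or.inl (one_dvd _), Or.inl (one_dvd _)⟩
      · left
        exact pgNb_eq_of_zpowers_eq (pg_zpowers_eq_of_orderOf_eq h1 hx (by rw [h', hxo]))
      · right
        exact pgNb_eq_of_zpowers_eq (pg_zpowers_eq_of_orderOf_eq h1 hy (by rw [h', hyo]))
      · exfalso; apply hn
        rw [pgAdj_iff_of_mem h1 hx, pgAdj_iff_of_mem h1 hy, h', hxo, hyo]
        exact ⟨Or.inr (dvd_mul_right _ _), Or.inr (dvd_mul_left _ _)⟩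
    · exfalso; apply hn
      exact ⟨Or.inr ((zpowers_le.2 h1) hx), Or.inr ((zpowers_le.2 h1) hy)⟩
  · rw [Nat.card_congr (Equiv.subtypeEquivRight hclsx), pg_card_gens, hxo, Nat.totient_prime hp]
  · rw [Nat.card_congr (Equiv.subtypeEquivRight hclsy), pg_card_gens, hyo, Nat.totient_prime hq]
  · have hpp : ¬ IsPrimePow (orderOf g) := pg_not_isPrimePow_mul hp hq hpq (hg ▸ dvd_rfl)
    have hset : ∀ w : G, pgNb w = pgNb g ↔ zpowers w = zpowers g := fun w =>
      ⟨pg_cls_nonpp hpp hnd, pgNb_eq_of_zpowers_eq⟩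
    rw [Nat.card_congr (Equiv.subtypeEquivRight hset), pg_card_gens, hg,
      Nat.totient_mul ((Nat.coprime_primes hp hq).2 hpq), Nat.totient_prime hp,
      Nat.totient_prime hq]

section transfer

variable {H : Type*} [Group H] (e : G ≃ H) (he : ∀ x y : G, pgAdj x y ↔ pgAdj (e x) (e y))

include he in
theorem pg_nb_eq_iff (w x : G) : pgNb (e w) = pgNb (e x) ↔ pgNb w = pgNb x := by
  constructor
  · intro h
    ext z
    rw [mem_pgNb, mem_pgNb, he, he x z]
    have := Set.ext_iff.1 h (e z)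
    exact this
  · intro h
    ext z'
    obtain ⟨z, rfl⟩ := e.surjective z'
    rw [mem_pgNb, mem_pgNb, ← he, ← he]
    exact Set.ext_iff.1 h z

include he in
theorem PgConfig.transfer {g x y : G} {P Q : ℕ} (c : PgConfig g x y P Q) :
    PgConfig (e g) (e x) (e y) P Q := by
  have hcard : ∀ u : G, Nat.card {w' : H // pgNb w' = pgNb (e u)} =
      Nat.card {w : G // pgNb w = pgNb u} := by
    intro u
    symm
    apply Nat.card_congr
    exact e.subtypeEquiv (fun w => (pg_nb_eq_iff e he w u).symm)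
  refine ⟨?_, ?_, ?_, ?_, ?_, ?_, ?_, ?_⟩
  · obtain ⟨z, hz⟩ := c.nd
    exact ⟨e z, fun h => hz ((he _ _).2 h)⟩
  · exact fun h => c.nab ((he _ _).2 h)
  · exact (he _ _).1 c.ah
  · exact (he _ _).1 c.bh
  · intro w' hw' hn
    obtain ⟨w, rfl⟩ := e.surjective w'
    have := c.cov w ((he _ _).2 hw') (fun h => hn ⟨(he _ _).1 h.1, (he _ _).1 h.2⟩)
    rcases this with h | h
    · exact Or.inl ((pg_nb_eq_iff e he _ _).2 h)
    · exact Or.inr ((pg_nb_eq_iff e he _ _).2 h)
  · rw [hcard, c.ca]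
  · rw [hcard, c.cb]
  · rw [hcard, c.ch]

end transfer

end Cfsg.Agent.Lib.helper3
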