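import Mathlib
import Cfsg.Agent.Lib.helper3.PowerGraphG

/-! Power graph, part H: the dominating case and the main theorem. -/

namespace Cfsg.Agent.Lib.helper3

open Subgroup

variable {G : Type*} [Group G]

/-- a dominating element of order `p q` generates the group -/
theorem pg_dom_card [Finite G] {g : G} {p q : ℕ} (hp : p.Prime) (hq : q.Prime) (hpq : p ≠ q)
    (hg : orderOf g = p * q) (hdom : ∀ z, pgAdj g z) : Nat.card G = p * q := by
  have hg1 : g ≠ 1 := by
    rintro rfl
    rw [orderOf_one] at hg
    have := hp.two_le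
    have := hq.two_le
    nlinarith
  have hall : ∀ z : G, z ∈ zpowers g := by
    intro z
    rcases hdom z with h | h
    · by_cases ho : orderOf g = orderOf z
      · rw [pg_zpowers_eq_of_mem_of_orderOf_eq h ho]
        exact mem_zpowers z
      · exfalso
        have hpp : ¬ IsPrimePow (orderOf z) :=
          pg_not_isPrimePow_mul hp hq hpq (hg ▸ orderOf_dvd_of_mem_zpowers h)
        obtain ⟨w, _, hw⟩ := pg_exists_incomparable hpp h hg1 ho
        exact hw (pgAdj_symm (hdom w))
    · exact h
  rw [← hg]
  exact (orderOf_eq_card_of_forall_mem_zpowers hall).symm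

/-- a nontrivial dominating element in a group of order `p q` has order `p q` -/
theorem pg_dom_order [Finite G] {h : G} {p q : ℕ} (hp : p.Prime) (hq : q.Prime) (hpq : p ≠ q)
    (hcard : Nat.card G = p * q) (h1 : h ≠ 1) (hdom : ∀ z, pgAdj h z) : orderOf h = p * q := by
  haveI := Fact.mk hp
  haveI := Fact.mk hq
  obtain ⟨zp, hzp⟩ := exists_prime_orderOf_dvd_card' (G := G) p (hcard ▸ dvd_mul_right p q)
  obtain ⟨zq, hzq⟩ := exists_prime_orderOf_dvd_card' (G := G) q (hcard ▸ dvd_mul_left q p)
  have hn1 : orderOf h ≠ 1 := fun h' => h1 (orderOf_eq_one_iff.1 h')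
  have hdvd : orderOf h ∣ p * q := hcard ▸ orderOf_dvd_natCard h
  have hpq' : ¬ p ∣ q := fun h' => hpq ((Nat.prime_dvd_prime_iff_eq hp hq).1 h')
  have hqp' : ¬ q ∣ p := fun h' => hpq ((Nat.prime_dvd_prime_iff_eq hq hp).1 h').symm
  have h1p : orderOf h = p ∨ p ∣ orderOf h := by
    rcases hdom zp with h' | h'
    · left
      have := orderOf_dvd_of_mem_zpowers h'
      rw [hzp] at this
      rcases (Nat.dvd_prime hp).1 this with h'' | h''
      · exact (hn1 h'').elim
      · exact h''
    · right
      have := orderOf_dvd_of_mem_zpowers h'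
      rwa [hzp] at this
  have h1q : orderOf h = q ∨ q ∣ orderOf h := by
    rcases hdom zq with h' | h'
    · left
      have := orderOf_dvd_of_mem_zpowers h'
      rw [hzq] at this
      rcases (Nat.dvd_prime hq).1 this with h'' | h''
      · exact (hn1 h'').elim
      · exact h''
    · right
      have := orderOf_dvd_of_mem_zpowers h'
      rwa [hzq] at this
  rcases h1p with h2 | h2 <;> rcases h1q with h3 | h3
  · exact (hpq (h2.symm.trans h3)).elim
  · rw [h2] at h3; exact (hqp' h3).elim
  · rw [h3] at h2; exact (hpq' h2).elim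
  · exact Nat.dvd_antisymm hdvd
      (((Nat.coprime_primes hp hq).2 hpq).mul_dvd_of_dvd_of_dvd h2 h3)

/-- main direction -/
theorem pg_exists_order_of_equiv {H : Type*} [Group H] [Finite G] [Finite H] (e : G ≃ H)
    (he : ∀ x y : G, pgAdj x y ↔ pgAdj (e x) (e y)) {p q : ℕ} (hp : p.Prime) (hq : q.Prime)
    (hpq : p ≠ q) (hg : ∃ g : G, orderOf g = p * q) : ∃ h : H, orderOf h = p * q := by
  obtain ⟨g, hg⟩ := hg
  by_cases hnd : ∃ z, ¬ pgAdj g z
  · have c := pg_config_of_order hp hq hpq hg hnd
    exact ⟨e g, (c.transfer e he).orderOf_eq hp hq⟩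
  · push Not at hnd
    have hcardG : Nat.card G = p * q := pg_dom_card hp hq hpq hg hnd
    have hcardH : Nat.card H = p * q := by rw [← Nat.card_congr e, hcardG]
    have hdomH : ∀ u : G, (∀ z, pgAdj u z) → ∀ z', pgAdj (e u) z' := by
      intro u hu z'
      obtain ⟨z, rfl⟩ := e.surjective z'
      exact (he _ _).1 (hu z)
    have hinv : ∀ z, pgAdj g⁻¹ z := by
      intro z
      have := hnd z
      unfold pgAdj at this ⊢
      rw [zpowers_inv]
      rcases this with h | h
      · exact Or.inl (inv_mem_iff.1 (by simpa using inv_mem h))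
      · exact Or.inr h
    have hne : g ≠ g⁻¹ := by
      intro h'
      have h2 : g ^ 2 = 1 := by
        rw [pow_two]
        nth_rewrite 2 [h']
        exact mul_inv_cancel g
      have := orderOf_dvd_of_pow_eq_one h2
      rw [hg] at this
      have := Nat.le_of_dvd (by norm_num) this
      have := hp.two_le
      have := hq.two_le
      nlinarith
    by_cases h1 : e g = 1
    · have h2 : e g⁻¹ ≠ 1 := by
        intro h'
        exact hne (e.injective (h1.trans h'.symm))
      exact ⟨e g⁻¹, pg_dom_order hp hq hpq hcardH h2 (hdomH _ hinv)⟩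
    · exact ⟨e g, pg_dom_order hp hq hpq hcardH h1 (hdomH _ hnd)⟩

end Cfsg.Agent.Lib.helper3
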