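import Mathlib
import Cfsg.Prelude.Def_KGroupFacts
import Cfsg.Agent.Lib.helper3.PresCover

set_option autoImplicit false

/-!
Stem extensions from presentations, with an arbitrary central kernel: if `G` is given by generators and
relators, and elements of a group `M` satisfy the relators up to elements of a subgroup `Z` commuting with
them, then the subgroup of `M × G` generated by the pairs is a central extension of `G` whose kernel embeds
into `Z` (helper3).
-/

namespace Cfsg.Agent.Lib.helper3

open Cfsg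

section PresCoverV

universe u

variable {G : Type u} [Group G] {ι : Type} (rels : Set (FreeGroup ι))
  (e : PresentedGroup rels ≃* G) {M : Type} [Group M] (m : ι → M)
  (Z : Subgroup M) (hcomm : ∀ z ∈ Z, ∀ i, Commute z (m i))
  (hrel : ∀ r ∈ rels, FreeGroup.lift m r ∈ Z)

include hcomm in
theorem pcv_commute_lift {z : M} (hz : z ∈ Z) (w : FreeGroup ι) :
    Commute z (FreeGroup.lift m w) := by
  induction w using FreeGroup.induction_on with
  | C1 => simp
  | of i => simpa using hcomm z hz i
  | inv_of i ih => simpa using ih.inv_right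
  | mul x y hx hy => rw [map_mul]; exact hx.mul_right hy

include hcomm hrel in
theorem pcv_lift_mem_of_mk_eq_one (w : FreeGroup ι) (hw : PresentedGroup.mk rels w = 1) :
    FreeGroup.lift m w ∈ Z := by
  have hw' : w ∈ Subgroup.normalClosure rels := by
    rw [← QuotientGroup.eq_one_iff]
    exact hw
  let N : Subgroup (FreeGroup ι) := Z.comap (FreeGroup.lift m)
  haveI : N.Normal := by
    constructor
    intro n hn g
    show FreeGroup.lift m (g * n * g⁻¹) ∈ Z
    have hn' : FreeGroup.lift m n ∈ Z := hn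
    have hc : Commute (FreeGroup.lift m n) (FreeGroup.lift m g) :=
      pcv_commute_lift m Z hcomm hn' g
    rw [map_mul, map_mul, map_inv, ← hc.eq, mul_assoc, mul_inv_cancel, mul_one]
    exact hn'
  have hle : Subgroup.normalClosure rels ≤ N :=
    Subgroup.normalClosure_le_normal (fun r hr => hrel r hr)
  exact hle hw'

include hcomm hrel in
theorem pcv_ker_fst_mem (x : ↥(pcGroup rels e m)) (hx : x ∈ (pcProj rels e m).ker) :
    x.1.1 ∈ Z := by
  obtain ⟨w, hw⟩ := x.2
  rw [MonoidHom.mem_ker, pcProj_apply, ← hw, pcHom_snd] at hx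
  rw [← hw, pcHom_fst]
  apply pcv_lift_mem_of_mk_eq_one rels m Z hcomm hrel
  exact (MulEquiv.map_eq_one_iff e).1 hx

include hcomm hrel in
theorem pcv_ker_le_center : (pcProj rels e m).ker ≤ Subgroup.center ↥(pcGroup rels e m) := by
  intro x hx
  rw [Subgroup.mem_center_iff]
  intro y
  have h1 := pcv_ker_fst_mem rels e m Z hcomm hrel x hx
  have hx2 : x.1.2 = 1 := hx
  obtain ⟨w, hw⟩ := y.2
  apply Subtype.ext
  apply Prod.ext
  · show y.1.1 * x.1.1 = x.1.1 * y.1.1
    rw [← hw, pcHom_fst]
    exact (pcv_commute_lift m Z hcomm h1 w).eq.symm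
  · show y.1.2 * x.1.2 = x.1.2 * y.1.2
    rw [hx2, mul_one, one_mul]

variable (hZ : ∀ z ∈ Z, ∃ u ∈ commutator (FreeGroup ι),
  PresentedGroup.mk rels u = 1 ∧ FreeGroup.lift m u = z)

include hcomm hrel hZ in
theorem pcv_ker_le_commutator :
    (pcProj rels e m).ker ≤ commutator ↥(pcGroup rels e m) := by
  intro x hx
  have h1 := pcv_ker_fst_mem rels e m Z hcomm hrel x hx
  obtain ⟨u, hu, hu1, huz⟩ := hZ _ h1
  have hx2 : x.1.2 = 1 := hx
  have hxe : x = pcZ rels e m u := by
    apply Subtype.ext
    apply Prod.ext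
    · show x.1.1 = (pcHom rels e m u).1
      rw [pcHom_fst, huz]
    · show x.1.2 = (pcHom rels e m u).2
      rw [pcHom_snd, hu1, map_one, hx2]
  rw [hxe]
  exact pcZ_mem_commutator rels e m u hu

/-- the kernel of the projection, mapped to `Z` -/
def pcvKerHom : ↥(pcProj rels e m).ker →* M where
  toFun x := x.1.1.1
  map_one' := rfl
  map_mul' _ _ := rfl

theorem pcvKerHom_injective : Function.Injective (pcvKerHom rels e m) := by
  intro x y h
  apply Subtype.ext
  apply Subtype.ext
  apply Prod.ext
  · exact h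
  · have hx : x.1.1.2 = 1 := x.2
    have hy : y.1.1.2 = 1 := y.2
    rw [hx, hy]

include hcomm hrel hZ in
theorem pcvKerHom_range : (pcvKerHom rels e m).range = Z := by
  apply le_antisymm
  · rintro _ ⟨x, rfl⟩
    exact pcv_ker_fst_mem rels e m Z hcomm hrel x.1 x.2
  · intro z hz
    obtain ⟨u, _, hu1, huz⟩ := hZ z hz
    have hk : pcZ rels e m u ∈ (pcProj rels e m).ker := pcZ_mem_ker rels e m u hu1
    refine ⟨⟨pcZ rels e m u, hk⟩, ?_⟩
    show (pcHom rels e m u).1 = z
    rw [pcHom_fst, huz]

include e hcomm hrel hZ in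
/-- the cover is a stem extension with kernel isomorphic to `Z` -/
theorem pcv_stem [Finite M] [Finite G] :
    ∃ (Γ : Type u) (_ : Group Γ) (_ : Finite Γ) (σ : Γ →* G),
      IsStemExtension σ ∧ Nonempty (σ.ker ≃* Z) := by
  refine ⟨↥(pcGroup rels e m), inferInstance, inferInstance, pcProj rels e m,
    ⟨pcProj_surjective rels e m, pcv_ker_le_center rels e m Z hcomm hrel,
      pcv_ker_le_commutator rels e m Z hcomm hrel hZ⟩, ?_⟩
  have e1 := MonoidHom.ofInjective (pcvKerHom_injective rels e m)
  have e2 : ↥(pcvKerHom rels e m).range ≃* ↥Z :=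
    MulEquiv.subgroupCongr (pcvKerHom_range rels e m Z hcomm hrel hZ)
  exact ⟨e1.trans e2⟩

end PresCoverV

end Cfsg.Agent.Lib.helper3
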