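import Mathlib
import Cfsg.Agent.Lib.helper3.PrimPartMain
import Cfsg.Agent.S4422

set_option autoImplicit false

namespace Cfsg.Agent.Lib.helper3

/-- From a primitive divisor `M > n + 1` to a large Zsigmondy prime. -/
theorem large_zsig_of_prim (q n M : ℕ) (hq : 2 ≤ q) (hn : 2 ≤ n) (hM : M ∣ q ^ n - 1)
    (hcop : ∀ i : ℕ, 1 ≤ i → i < n → Nat.Coprime M (q ^ i - 1)) (hbig : n + 1 < M) :
    ∃ p : ℕ, p.Prime ∧ p ∣ q ^ n - 1 ∧ (∀ i : ℕ, 1 ≤ i → i < n → ¬ p ∣ q ^ i - 1) ∧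
      (n + 1 < p ∨ p ^ 2 ∣ q ^ n - 1) := by
  have hprim : ∀ p : ℕ, p.Prime → p ∣ M → ∀ i : ℕ, 1 ≤ i → i < n → ¬ p ∣ q ^ i - 1 := by
    intro p hp hpM i hi hin hpd
    have h1 : Nat.Coprime p (q ^ i - 1) := Nat.Coprime.coprime_dvd_left hpM (hcop i hi hin)
    have h2 : p ∣ Nat.gcd p (q ^ i - 1) := Nat.dvd_gcd dvd_rfl hpd
    rw [h1] at h2
    exact hp.one_lt.ne' (Nat.dvd_one.mp h2)
  have hge : ∀ p : ℕ, p.Prime → p ∣ M → n + 1 ≤ p := by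
    intro p hp hpM
    have h := Cfsg.Agent.S4422.prime_case q n p hq (by omega) hp (hpM.trans hM) (hprim p hp hpM)
    rw [Nat.mod_eq_of_lt (show 1 < n by omega)] at h
    have h2 := hp.two_le
    have h3 := Nat.div_add_mod p n
    have h4 : p / n ≠ 0 := by
      intro h0
      rw [h0, h] at h3
      omega
    have h5 : n * 1 ≤ n * (p / n) := Nat.mul_le_mul_left _ (Nat.one_le_iff_ne_zero.mpr h4)
    omega
  by_cases hex : ∃ p : ℕ, p.Prime ∧ p ∣ M ∧ n + 1 < p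
  · obtain ⟨p, hp, hpM, hlt⟩ := hex
    exact ⟨p, hp, hpM.trans hM, hprim p hp hpM, Or.inl hlt⟩
  · push Not at hex
    have hM0 : M ≠ 0 := by omega
    have hM1 : M ≠ 1 := by omega
    obtain ⟨p, hp, hpM⟩ := Nat.exists_prime_and_dvd hM1
    have hpn : p = n + 1 := le_antisymm (hex p hp hpM) (hge p hp hpM)
    have huniq : ∀ {d : ℕ}, d.Prime → d ∣ M → d = p := by
      intro d hd hdM
      rw [hpn]
      exact le_antisymm (hex d hd hdM) (hge d hd hdM)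
    have hpow := Nat.eq_prime_pow_of_unique_prime_dvd hM0 huniq
    have hlen : 2 ≤ M.primeFactorsList.length := by
      by_contra hlt
      push Not at hlt
      have : p ^ M.primeFactorsList.length ≤ p ^ 1 :=
        Nat.pow_le_pow_right hp.pos (by omega)
      rw [← hpow, pow_one] at this
      omega
    refine ⟨p, hp, hpM.trans hM, hprim p hp hpM, Or.inr ?_⟩
    have : p ^ 2 ∣ M := by
      rw [hpow]
      exact pow_dvd_pow p hlen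
    exact this.trans hM

theorem zs_wit2 (q n p : ℕ) (hp : p.Prime) (h1 : p ∣ q ^ n - 1)
    (h2 : ∀ i < n, 1 ≤ i → ¬ p ∣ q ^ i - 1) (h3 : n + 1 < p) :
    ∃ p : ℕ, p.Prime ∧ p ∣ q ^ n - 1 ∧ (∀ i : ℕ, 1 ≤ i → i < n → ¬ p ∣ q ^ i - 1) ∧
      (n + 1 < p ∨ p ^ 2 ∣ q ^ n - 1) :=
  ⟨p, hp, h1, fun i hi hin => h2 i hin hi, Or.inl h3⟩

/-- Feit's theorem for `n ≥ 3`. -/
theorem large_zsig_ge_three (q n : ℕ) (hq : 2 ≤ q) (hn : 3 ≤ n)
    (h2 : ¬ (q = 2 ∧ (n = 4 ∨ n = 6 ∨ n = 10 ∨ n = 12 ∨ n = 18)))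
    (h3 : ¬ (q = 3 ∧ (n = 4 ∨ n = 6))) (h4 : ¬ (q = 5 ∧ n = 6)) :
    ∃ p : ℕ, p.Prime ∧ p ∣ q ^ n - 1 ∧ (∀ i : ℕ, 1 ≤ i → i < n → ¬ p ∣ q ^ i - 1) ∧
      (n + 1 < p ∨ p ^ 2 ∣ q ^ n - 1) := by
  rcases exists_prim_ge' q n hq hn with ⟨M, hM, hcop, hbig⟩ | h
  · exact large_zsig_of_prim q n M hq (by omega) hM hcop (by omega)
  · simp only [zsExc, List.mem_cons, Prod.mk.injEq, List.mem_nil_iff, or_false] at h
    rcases h with ⟨rfl, rfl⟩ | ⟨rfl, rfl⟩ | ⟨rfl, rfl⟩ | ⟨rfl, rfl⟩ | ⟨rfl, rfl⟩ | ⟨rfl, rfl⟩ |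
      ⟨rfl, rfl⟩ | ⟨rfl, rfl⟩ | ⟨rfl, rfl⟩ | ⟨rfl, rfl⟩ | ⟨rfl, rfl⟩ | ⟨rfl, rfl⟩ | ⟨rfl, rfl⟩
    · exact absurd ⟨rfl, by simp⟩ h2
    · exact absurd ⟨rfl, by simp⟩ h2
    · exact absurd ⟨rfl, by simp⟩ h2
    · exact absurd ⟨rfl, by simp⟩ h2
    · exact absurd ⟨rfl, by simp⟩ h2
    · exact absurd ⟨rfl, by simp⟩ h3
    · exact absurd ⟨rfl, by simp⟩ h3
    · exact absurd ⟨rfl, rfl⟩ h4
    · exact zs_wit2 2 3 7 (by norm_num) (by decide +kernel) (by decide +kernel) (by norm_num)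
    · exact zs_wit2 2 8 17 (by norm_num) (by decide +kernel) (by decide +kernel) (by norm_num)
    · exact zs_wit2 2 20 41 (by norm_num) (by decide +kernel) (by decide +kernel) (by norm_num)
    · exact zs_wit2 4 3 7 (by norm_num) (by decide +kernel) (by decide +kernel) (by norm_num)
    · exact zs_wit2 4 6 13 (by norm_num) (by decide +kernel) (by decide +kernel) (by norm_num)

/-- Feit's theorem for `n = 2`. -/
theorem large_zsig_two (q : ℕ) (hq : 2 ≤ q)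
    (h1 : ¬ ∃ s t : ℕ, t ≤ 1 ∧ q + 1 = 2 ^ s * 3 ^ t) :
    ∃ p : ℕ, p.Prime ∧ p ∣ q ^ 2 - 1 ∧ (∀ i : ℕ, 1 ≤ i → i < 2 → ¬ p ∣ q ^ i - 1) ∧
      (2 + 1 < p ∨ p ^ 2 ∣ q ^ 2 - 1) := by
  have hfac : q ^ 2 - 1 = (q + 1) * (q - 1) := by
    obtain ⟨c, rfl⟩ : ∃ c, q = c + 1 := ⟨q - 1, by omega⟩
    simp only [Nat.add_sub_cancel]
    have : (c + 1) ^ 2 = (c + 1 + 1) * c + 1 := by ring
    omega
  have hnd : ∀ p : ℕ, p.Prime → p ∣ q + 1 → p ≠ 2 → ∀ i : ℕ, 1 ≤ i → i < 2 → ¬ p ∣ q ^ i - 1 := by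
    intro p hp hpq hp2 i hi hi2 hd
    have hi1 : i = 1 := by omega
    subst hi1
    rw [pow_one] at hd
    have h2 : p ∣ (q + 1) - (q - 1) := Nat.dvd_sub hpq hd
    have h3 : (q + 1) - (q - 1) = 2 := by omega
    rw [h3] at h2
    exact hp2 ((Nat.prime_dvd_prime_iff_eq hp Nat.prime_two).mp h2)
  obtain ⟨a, c, hc, hqc⟩ := Nat.exists_eq_two_pow_mul_odd (show q + 1 ≠ 0 by omega)
  have hcq : c ∣ q + 1 := hqc ▸ Dvd.intro_left _ rfl
  have hodd2 : ∀ p : ℕ, p ∣ c → p ≠ 2 := by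
    rintro p hpc rfl
    exact (Nat.not_even_iff_odd.mpr hc) (even_iff_two_dvd.mpr hpc)
  by_cases hex : ∃ p : ℕ, p.Prime ∧ p ∣ c ∧ 3 < p
  · obtain ⟨p, hp, hpc, hlt⟩ := hex
    refine ⟨p, hp, ?_, hnd p hp (hpc.trans hcq) (hodd2 p hpc), Or.inl (by omega)⟩
    rw [hfac]
    exact Dvd.dvd.mul_right (hpc.trans hcq) _
  · push Not at hex
    have hc0 : c ≠ 0 := by rintro rfl; exact absurd hc (by decide)
    have huniq : ∀ {d : ℕ}, d.Prime → d ∣ c → d = 3 := by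
      intro d hd hdc
      have h1' := hex d hd hdc
      have h2' := hd.two_le
      have h3' := hodd2 d hdc
      omega
    have hpow := Nat.eq_prime_pow_of_unique_prime_dvd hc0 huniq
    have hlen : 2 ≤ c.primeFactorsList.length := by
      by_contra hlt
      push Not at hlt
      exact h1 ⟨a, c.primeFactorsList.length, by omega, by rw [hqc, ← hpow]⟩
    have h9 : 3 ^ 2 ∣ c := by
      rw [hpow]
      exact pow_dvd_pow 3 hlen
    have h3c : 3 ∣ c := (dvd_pow_self 3 (by norm_num)).trans h9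
    refine ⟨3, Nat.prime_three, ?_, hnd 3 Nat.prime_three (h3c.trans hcq) (by norm_num), Or.inr ?_⟩
    · rw [hfac]
      exact Dvd.dvd.mul_right (h3c.trans hcq) _
    · rw [hfac]
      exact Dvd.dvd.mul_right (h9.trans hcq) _

end Cfsg.Agent.Lib.helper3
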