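import Mathlib

set_option autoImplicit false

namespace Cfsg.Agent.Lib.helper3

/-- A finite abelian `2`-group whose automorphisms permute the involutions transitively is
homocyclic. -/
theorem p2_homocyclic (A : Type*) [CommGroup A] [Finite A] (hA : IsPGroup 2 A)
    (htr : ∀ x y : A, x ≠ 1 → x ^ 2 = 1 → y ≠ 1 → y ^ 2 = 1 → ∃ α : A ≃* A, α x = y) :
    ∃ m r : ℕ, Nonempty (A ≃* (Fin r → Multiplicative (ZMod (2 ^ m)))) := by
  classical
  obtain ⟨ι, hι, n, hn1, ⟨e⟩⟩ := CommGroup.equiv_prod_multiplicative_zmod_of_finite A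
  -- each `n i` is a power of two
  have hpow : ∀ i, ∃ k : ℕ, n i = 2 ^ k := by
    intro i
    have : NeZero (n i) := ⟨by have := hn1 i; omega⟩
    -- the element `e.symm (single i 1)` has order `n i`
    let z : A := e.symm (Pi.mulSingle i (Multiplicative.ofAdd (1 : ZMod (n i))))
    obtain ⟨k, hk⟩ := hA z
    have h1 : e (z ^ 2 ^ k) = 1 := by rw [hk, map_one]
    rw [map_pow, MulEquiv.apply_symm_apply] at h1
    have h2 := congrFun h1 i
    rw [Pi.pow_apply, Pi.mulSingle_eq_same, Pi.one_apply, ← ofAdd_nsmul] at h2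
    have h3 : (2 ^ k) • (1 : ZMod (n i)) = 0 := by
      have := congrArg Multiplicative.toAdd h2
      simpa using this
    rw [nsmul_eq_mul, mul_one] at h3
    have h4 : n i ∣ 2 ^ k := by
      have := (ZMod.natCast_eq_zero_iff (2 ^ k) (n i)).mp (by exact_mod_cast h3)
      exact this
    obtain ⟨j, -, hj⟩ := (Nat.dvd_prime_pow Nat.prime_two).mp h4
    exact ⟨j, hj⟩
  choose k hk using hpow
  have hk1 : ∀ i, 1 ≤ k i := by
    intro i
    rcases Nat.eq_zero_or_pos (k i) with h | h
    · have := hn1 i
      rw [hk i, h, pow_zero] at this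
      omega
    · exact h
  rcases isEmpty_or_nonempty ι with hemp | hne
  · -- trivial group
    refine ⟨0, 0, ⟨?_⟩⟩
    have : Subsingleton A := e.toEquiv.subsingleton
    let _ : Unique A := uniqueOfSubsingleton 1
    exact MulEquiv.ofUnique
  · obtain ⟨i0, hi0⟩ := Finite.exists_max k
    -- all exponents equal `k i0`
    have hall : ∀ j, k j = k i0 := by
      intro j
      by_contra hne'
      have hlt : k j < k i0 := lt_of_le_of_ne (hi0 j) hne'
      have : NeZero (n i0) := ⟨by have := hn1 i0; omega⟩
      have : NeZero (n j) := ⟨by have := hn1 j; omega⟩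
      let z : A := e.symm (Pi.mulSingle i0 (Multiplicative.ofAdd (1 : ZMod (n i0))))
      let x : A := z ^ 2 ^ (k i0 - 1)
      let y : A := e.symm (Pi.mulSingle j (Multiplicative.ofAdd ((2 ^ (k j - 1) : ℕ) : ZMod (n j))))
      have hex : e x = Pi.mulSingle i0
          (Multiplicative.ofAdd (((2 ^ (k i0 - 1) : ℕ) : ZMod (n i0)))) := by
        show e (z ^ 2 ^ (k i0 - 1)) = _
        rw [map_pow, MulEquiv.apply_symm_apply, ← Pi.mulSingle_pow, ← ofAdd_nsmul, nsmul_eq_mul,
          mul_one]
      have hhalf0 : ((2 ^ (k i0 - 1) : ℕ) : ZMod (n i0)) ≠ 0 := by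
        intro h
        rw [ZMod.natCast_eq_zero_iff, hk i0] at h
        have := Nat.le_of_dvd (by positivity) h
        have h5 : k i0 ≤ k i0 - 1 := (Nat.pow_le_pow_iff_right (by norm_num)).mp this
        have := hk1 i0
        omega
      have hhalfj : ((2 ^ (k j - 1) : ℕ) : ZMod (n j)) ≠ 0 := by
        intro h
        rw [ZMod.natCast_eq_zero_iff, hk j] at h
        have := Nat.le_of_dvd (by positivity) h
        have h5 : k j ≤ k j - 1 := (Nat.pow_le_pow_iff_right (by norm_num)).mp this
        have := hk1 j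
        omega
      have hx1 : x ≠ 1 := by
        intro h
        have h6 : e x = 1 := by rw [h, map_one]
        rw [hex] at h6
        have h7 := congrFun h6 i0
        rw [Pi.mulSingle_eq_same, Pi.one_apply] at h7
        exact hhalf0 (by simpa using congrArg Multiplicative.toAdd h7)
      have hx2 : x ^ 2 = 1 := by
        apply e.injective
        rw [map_pow, hex, map_one, ← Pi.mulSingle_pow, ← ofAdd_nsmul, nsmul_eq_mul]
        have h8 : ((2 : ℕ) : ZMod (n i0)) * ((2 ^ (k i0 - 1) : ℕ) : ZMod (n i0)) = 0 := by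
          rw [← Nat.cast_mul, ZMod.natCast_eq_zero_iff, hk i0, ← pow_succ']
          have := hk1 i0
          rw [show k i0 - 1 + 1 = k i0 by omega]
        rw [h8, ofAdd_zero, Pi.mulSingle_one]
      have hy1 : y ≠ 1 := by
        intro h
        have h6 : e y = 1 := by rw [h, map_one]
        rw [MulEquiv.apply_symm_apply] at h6
        have h7 := congrFun h6 j
        rw [Pi.mulSingle_eq_same, Pi.one_apply] at h7
        exact hhalfj (by simpa using congrArg Multiplicative.toAdd h7)
      have hy2 : y ^ 2 = 1 := by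
        apply e.injective
        rw [map_pow, MulEquiv.apply_symm_apply, map_one, ← Pi.mulSingle_pow, ← ofAdd_nsmul,
          nsmul_eq_mul]
        have h8 : ((2 : ℕ) : ZMod (n j)) * ((2 ^ (k j - 1) : ℕ) : ZMod (n j)) = 0 := by
          rw [← Nat.cast_mul, ZMod.natCast_eq_zero_iff, hk j, ← pow_succ']
          have := hk1 j
          rw [show k j - 1 + 1 = k j by omega]
        rw [h8, ofAdd_zero, Pi.mulSingle_one]
      obtain ⟨α, hα⟩ := htr x y hx1 hx2 hy1 hy2
      -- `y = (α z) ^ 2 ^ (k i0 - 1)`, whose `j`-th coordinate is trivial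
      have h9 : e y = (e (α z)) ^ 2 ^ (k i0 - 1) := by
        rw [← hα, ← map_pow, ← map_pow]
      have h10 := congrFun h9 j
      rw [MulEquiv.apply_symm_apply, Pi.mulSingle_eq_same, Pi.pow_apply] at h10
      have h11 : (e (α z) j) ^ 2 ^ (k i0 - 1) = 1 := by
        have h12 : (e (α z) j) ^ 2 ^ (k j) = 1 := by
          have hc : Nat.card (Multiplicative (ZMod (n j))) = 2 ^ k j := by
            rw [Nat.card_eq_fintype_card, Fintype.card_multiplicative, ZMod.card]
            exact hk j
          have := pow_card_eq_one' (G := Multiplicative (ZMod (n j))) (x := e (α z) j)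
          rw [hc] at this
          exact this
        have h13 : 2 ^ (k j) ∣ 2 ^ (k i0 - 1) := pow_dvd_pow 2 (by omega)
        obtain ⟨c, hc⟩ := h13
        rw [hc, pow_mul, h12, one_pow]
      rw [h11] at h10
      exact hhalfj (by simpa using congrArg Multiplicative.toAdd h10)
    refine ⟨k i0, Fintype.card ι, ⟨?_⟩⟩
    have hni : ∀ i, n i = 2 ^ k i0 := fun i => by rw [hk i, hall i]
    refine e.trans ?_
    refine (MulEquiv.piCongrRight (fun i =>
      (ZMod.ringEquivCongr (hni i)).toAddEquiv.toMultiplicative)).trans ?_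
    exact MulEquiv.arrowCongr (Fintype.equivFin ι) (MulEquiv.refl _)
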