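import Mathlib
import Cfsg.Agent.Lib.Helper21.ZGA
import Cfsg.Agent.Lib.helper3.S3797P2a

set_option autoImplicit false

namespace Cfsg.Agent.Lib.helper3

open Cfsg Cfsg.Agent.Lib.Helper21

/-- fusion in a Sylow `2`-subgroup `S` with `N S ⊴ G`, `N` a normal subgroup of odd order, is
controlled by `N_G(S)`. -/
theorem p2_fusion {G : Type*} [Group G] [Finite G] (S : Sylow 2 G) (N M : Subgroup G)
    [hNn : N.Normal] [hMn : M.Normal]
    (hN : (Nat.card N).Coprime 2) (hM : M = N ⊔ (S : Subgroup G))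
    {x y : G} (hx : x ∈ (S : Subgroup G)) (hy : y ∈ (S : Subgroup G)) (g : G)
    (hg : g * x * g⁻¹ = y) :
    ∃ h ∈ Subgroup.normalizer ((S : Subgroup G) : Set G), h * x * h⁻¹ = y := by
  have hSM : (S : Subgroup G) ≤ M := by rw [hM]; exact le_sup_right
  have htop : Subgroup.normalizer ((S : Subgroup G) : Set G) ⊔ M = ⊤ :=
    Sylow.normalizer_sup_eq_top' S hSM
  have hgm : g ∈ ((Subgroup.normalizer ((S : Subgroup G) : Set G) ⊔ M : Subgroup G) : Set G) := by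
    rw [htop]; exact Set.mem_univ g
  rw [Subgroup.mul_normal] at hgm
  obtain ⟨h, hh, m, hm, rfl⟩ := Set.mem_mul.mp hgm
  have hm' : m ∈ ((N ⊔ (S : Subgroup G) : Subgroup G) : Set G) := by
    rw [← hM]; exact hm
  rw [Subgroup.normal_mul] at hm'
  obtain ⟨n, hn, s, hs, rfl⟩ := Set.mem_mul.mp hm'
  have hh' : h ∈ Subgroup.normalizer ((S : Subgroup G) : Set G) := hh
  have hn' : n ∈ N := hn
  have hs' : s ∈ (S : Subgroup G) := hs
  -- `x' = s x s⁻¹`, `y' = h⁻¹ y h`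
  have hx' : s * x * s⁻¹ ∈ (S : Subgroup G) :=
    Subgroup.mul_mem _ (Subgroup.mul_mem _ hs' hx) (Subgroup.inv_mem _ hs')
  have hy' : h⁻¹ * y * h ∈ (S : Subgroup G) := by
    have := (Subgroup.mem_normalizer_iff'.mp (Subgroup.inv_mem _ hh') y)
    have h2 : h⁻¹ * y * h⁻¹⁻¹ ∈ (S : Subgroup G) :=
      (Subgroup.mem_normalizer_iff.mp (Subgroup.inv_mem _ hh') y).mp hy
    rwa [inv_inv] at h2
  have hrel : h⁻¹ * y * h = n * (s * x * s⁻¹) * n⁻¹ := by
    rw [← hg]; group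
  have hinf : N ⊓ (S : Subgroup G) = ⊥ := by
    apply Subgroup.inf_eq_bot_of_coprime
    obtain ⟨k, hk⟩ := IsPGroup.iff_card.mp S.2
    rw [hk]
    exact Nat.Coprime.pow_right k hN
  have hmem : (h⁻¹ * y * h) * (s * x * s⁻¹)⁻¹ ∈ N ⊓ (S : Subgroup G) := by
    refine ⟨?_, Subgroup.mul_mem _ hy' (Subgroup.inv_mem _ hx')⟩
    rw [hrel]
    have h1 : n * (s * x * s⁻¹) * n⁻¹ * (s * x * s⁻¹)⁻¹ =
        n * ((s * x * s⁻¹) * n⁻¹ * (s * x * s⁻¹)⁻¹) := by group
    rw [h1]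
    exact N.mul_mem hn' (hNn.conj_mem _ (N.inv_mem hn') _)
  rw [hinf, Subgroup.mem_bot, mul_inv_eq_one] at hmem
  refine ⟨h * s, Subgroup.mul_mem _ hh' (Subgroup.le_normalizer hs'), ?_⟩
  have : y = h * (s * x * s⁻¹) * h⁻¹ := by
    rw [← hmem]; group
  rw [this]; group

/-- under `2`-length one, `O_{2',2}(G) = O_{2'}(G) S`. -/
theorem p2_ups_two_eq {G : Type*} [Group G] [Finite G] (S : Sylow 2 G)
    (hlen : Cfsg.PLengthLE 2 1 G) : ups 2 G 2 = ups 2 G 1 ⊔ (S : Subgroup G) := by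
  have hp2 : Fact (Nat.Prime 2) := ⟨Nat.prime_two⟩
  have hU1n : (ups 2 G 1).Normal := (upperPSeries 2 G 1).2
  have hU2n : (ups 2 G 2).Normal := (upperPSeries 2 G 2).2
  -- index of `U_2` is odd
  have h2 := goodCard_factor (G := G) (p := 2) 2
  unfold GoodCard at h2
  rw [if_pos (by decide : Even 2)] at h2
  have htop : ups 2 G 3 = ⊤ := hlen
  rw [show (2 : ℕ) + 1 = 3 from rfl, htop, ← MonoidHom.range_eq_map,
    MonoidHom.range_eq_top_of_surjective _ (QuotientGroup.mk'_surjective _), Subgroup.card_top,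
    ← Subgroup.index_eq_card] at h2
  have hSle : (S : Subgroup G) ≤ ups 2 G 2 :=
    Cfsg.Agent.Lib.Helper21.ZG.le_of_index_coprime (ups 2 G 2) h2 (S : Subgroup G) S.2
  have hle : ups 2 G 1 ⊔ (S : Subgroup G) ≤ ups 2 G 2 :=
    sup_le (ups_le_succ 2 1) hSle
  apply le_antisymm _ hle
  rw [← Subgroup.relIndex_eq_one]
  -- the relative index is a power of two and odd
  have h1 := goodCard_factor (G := G) (p := 2) 1
  unfold GoodCard at h1
  rw [if_neg (by decide : ¬ Even 1)] at h1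
  obtain ⟨k, hk⟩ := h1
  have hd1 : (ups 2 G 1 ⊔ (S : Subgroup G)).relIndex (ups 2 G 2) ∣ 2 ^ k := by
    rw [← hk, show (1 : ℕ) + 1 = 2 from rfl, ← Subgroup.relIndex_ker, QuotientGroup.ker_mk']
    exact Subgroup.relIndex_dvd_of_le_left _ le_sup_left
  have hd2 : (ups 2 G 1 ⊔ (S : Subgroup G)).relIndex (ups 2 G 2) ∣ (S : Subgroup G).index := by
    have h3 : (ups 2 G 1 ⊔ (S : Subgroup G)).relIndex (ups 2 G 2) ∣
        (S : Subgroup G).relIndex (ups 2 G 2) :=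
      Subgroup.relIndex_dvd_of_le_left _ le_sup_right
    exact h3.trans (Dvd.intro _ (Subgroup.relIndex_mul_index hSle))
  obtain ⟨j, -, hj⟩ := (Nat.dvd_prime_pow Nat.prime_two).mp hd1
  rcases Nat.eq_zero_or_pos j with h0 | h0
  · rw [hj, h0, pow_zero]
  · exfalso
    have h4 : 2 ∣ (S : Subgroup G).index := by
      refine dvd_trans ?_ hd2
      rw [hj]
      exact dvd_pow_self 2 h0.ne'
    exact S.not_dvd_index h4

/-- Part 2 of S3797: the shape of the Sylow `2`-subgroup, given `2`-length one. -/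
theorem s3797_part2 {G : Type*} [Group G] [Finite G] (hG : Group.IsSolvable G) (S : Sylow 2 G)
    (hconj : ∀ x y : G, x ≠ 1 → x ^ 2 = 1 → y ≠ 1 → y ^ 2 = 1 → IsConj x y)
    (hlen : Cfsg.PLengthLE 2 1 G) :
    (∃ m r : ℕ, Nonempty (↥(S : Subgroup G) ≃* (Fin r → Multiplicative (ZMod (2 ^ m))))) ∨
    (¬ IsMulCommutative (S : Subgroup G) ∧ ∃ Y : Subgroup (MulAut ↥(S : Subgroup G)),
      Group.IsSolvable Y ∧ ∀ x y : ↥(S : Subgroup G), x ≠ 1 → x ^ 2 = 1 → y ≠ 1 → y ^ 2 = 1 →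
        ∃ a ∈ Y, a x = y) := by
  have hp2 : Fact (Nat.Prime 2) := ⟨Nat.prime_two⟩
  have hU1n : (ups 2 G 1).Normal := (upperPSeries 2 G 1).2
  have hU2n : (ups 2 G 2).Normal := (upperPSeries 2 G 2).2
  have hM := p2_ups_two_eq S hlen
  have hNodd : (Nat.card (ups 2 G 1)).Coprime 2 := card_ups_one_coprime
  -- the automorphism group induced by the normalizer
  let φ := Subgroup.normalizerMonoidHom (S : Subgroup G)
  have hYsol : Group.IsSolvable φ.range :=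
    Group.isSolvable_of_surjective (f := φ.rangeRestrict) φ.rangeRestrict_surjective
  have htr : ∀ x y : ↥(S : Subgroup G), x ≠ 1 → x ^ 2 = 1 → y ≠ 1 → y ^ 2 = 1 →
      ∃ a ∈ φ.range, a x = y := by
    intro x y hx1 hx2 hy1 hy2
    have hc := hconj (x : G) (y : G) (fun h => hx1 (Subtype.ext h))
      (by rw [← Subgroup.coe_pow, hx2]; rfl) (fun h => hy1 (Subtype.ext h))
      (by rw [← Subgroup.coe_pow, hy2]; rfl)
    obtain ⟨g, hg⟩ := isConj_iff.mp hc
    obtain ⟨h, hh, hhx⟩ := p2_fusion S (ups 2 G 1) (ups 2 G 2) hNodd hM x.2 y.2 g hg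
    refine ⟨φ ⟨h, hh⟩, ⟨⟨h, hh⟩, rfl⟩, ?_⟩
    apply Subtype.ext
    exact hhx
  by_cases hab : IsMulCommutative (S : Subgroup G)
  · left
    let _ : CommGroup ↥(S : Subgroup G) :=
      { (inferInstance : Group ↥(S : Subgroup G)) with
        mul_comm := fun a b => hab.is_comm.comm a b }
    have hS2 : IsPGroup 2 ↥(S : Subgroup G) := S.2
    apply p2_homocyclic _ hS2
    intro x y hx1 hx2 hy1 hy2
    obtain ⟨a, -, ha⟩ := htr x y hx1 hx2 hy1 hy2
    exact ⟨a, ha⟩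
  · right
    exact ⟨hab, φ.range, hYsol, htr⟩
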