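import Mathlib
import Cfsg.Agent.Lib.helper3.S3797P2

set_option autoImplicit false

namespace Cfsg.Agent.Lib.helper3

open Cfsg Cfsg.Agent.Lib.Helper21

/-- lifting involutions modulo a normal subgroup of odd order. -/
theorem s3797_lift_invol {G : Type*} [Group G] [Finite G] (N : Subgroup G) [N.Normal]
    (hN : (Nat.card N).Coprime 2) (x : G ⧸ N) (hx2 : x ^ 2 = 1) :
    ∃ g : G, g ^ 2 = 1 ∧ QuotientGroup.mk' N g = x := by
  obtain ⟨g0, rfl⟩ := QuotientGroup.mk'_surjective N x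
  have hmem : g0 ^ 2 ∈ N := by
    rw [← QuotientGroup.eq_one_iff]
    have : ((g0 ^ 2 : G) : G ⧸ N) = (QuotientGroup.mk' N g0) ^ 2 := rfl
    rw [this, hx2]
  have hdvd : orderOf (g0 ^ 2) ∣ Nat.card N := Subgroup.orderOf_dvd_natCard _ hmem
  have hodd : Odd (orderOf (g0 ^ 2)) := by
    rw [← Nat.not_even_iff_odd]
    intro he
    have h2 : 2 ∣ Nat.card N := he.two_dvd.trans hdvd
    have h3 : 2 ∣ Nat.gcd (Nat.card N) 2 := Nat.dvd_gcd h2 dvd_rfl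
    rw [hN] at h3
    omega
  obtain ⟨c, hc⟩ := hodd
  refine ⟨g0 ^ orderOf (g0 ^ 2), ?_, ?_⟩
  · rw [← pow_mul, mul_comm, pow_mul, pow_orderOf_eq_one]
  · rw [map_pow, hc, pow_succ, pow_mul, hx2, one_pow, one_mul]

/-- The Sylow/fusion step of S3797: if `X = Q M` with `Q` a normal `2`-subgroup containing all
involutions, the involutions lie in `M` and are `M`-conjugate, and `M` has `2`-length one, then
some Sylow `2`-subgroup `S ≥ Q` of `X` has `N_X(S)` transitive on the involutions. -/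
theorem s3797_F {X : Type*} [Group X] [Finite X] (Q M : Subgroup X) [hQn : Q.Normal]
    (hQ2 : IsPGroup 2 Q)
    (hQM : ∀ g : X, ∃ n ∈ Q, ∃ m ∈ M, g = n * m)
    (hinvQ : ∀ x : X, x ^ 2 = 1 → x ∈ Q) (hinvM : ∀ x : X, x ^ 2 = 1 → x ∈ M)
    (hconjM : ∀ x y : X, x ≠ 1 → x ^ 2 = 1 → y ≠ 1 → y ^ 2 = 1 → ∃ m ∈ M, m * x * m⁻¹ = y)
    (hlenM : Cfsg.PLengthLE 2 1 ↥M) :
    ∃ S : Sylow 2 X, Q ≤ (S : Subgroup X) ∧
      ∀ x y : X, x ≠ 1 → x ^ 2 = 1 → y ≠ 1 → y ^ 2 = 1 →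
        ∃ h ∈ Subgroup.normalizer ((S : Subgroup X) : Set X), h * x * h⁻¹ = y := by
  have hp2 : Fact (Nat.Prime 2) := ⟨Nat.prime_two⟩
  obtain ⟨T⟩ : Nonempty (Sylow 2 ↥M) := inferInstance
  -- a Sylow subgroup of `X` above `T`
  have hT' : IsPGroup 2 ((T : Subgroup ↥M).map M.subtype) := T.2.map _
  obtain ⟨S, hTS⟩ := hT'.exists_le_sylow
  have hQS : Q ≤ (S : Subgroup X) := hQ2.le_sylow_of_normal S
  refine ⟨S, hQS, ?_⟩
  -- `S ⊓ M = T`
  have hSM : ∀ s : X, s ∈ (S : Subgroup X) → ∀ hs : s ∈ M, (⟨s, hs⟩ : ↥M) ∈ (T : Subgroup ↥M) := by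
    intro s hsS hsM
    have h1 : IsPGroup 2 ((S : Subgroup X).subgroupOf M) := S.2.comap_subtype
    have h2 : (T : Subgroup ↥M) ≤ (S : Subgroup X).subgroupOf M := by
      intro t ht
      rw [Subgroup.mem_subgroupOf]
      exact hTS ⟨t, ht, rfl⟩
    have h3 := T.3 h1 h2
    rw [← h3, Subgroup.mem_subgroupOf]
    exact hsS
  -- elements of `N_M(T)` normalize `S`
  have hconjS : ∀ h : ↥M, h ∈ Subgroup.normalizer ((T : Subgroup ↥M) : Set ↥M) →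
      ∀ s ∈ (S : Subgroup X), (h : X) * s * (h : X)⁻¹ ∈ (S : Subgroup X) := by
    intro h hh s hs
    obtain ⟨n, hn, m, hm, rfl⟩ := hQM s
    have hmS : m ∈ (S : Subgroup X) := by
      have : m = n⁻¹ * (n * m) := by group
      rw [this]
      exact Subgroup.mul_mem _ (Subgroup.inv_mem _ (hQS hn)) hs
    have hmT : (⟨m, hm⟩ : ↥M) ∈ (T : Subgroup ↥M) := hSM m hmS hm
    have h1 : h * ⟨m, hm⟩ * h⁻¹ ∈ (T : Subgroup ↥M) :=
      (Subgroup.mem_normalizer_iff.mp hh _).mp hmT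
    have h2 : (h : X) * m * (h : X)⁻¹ ∈ (S : Subgroup X) := hTS ⟨_, h1, rfl⟩
    have h3 : (h : X) * n * (h : X)⁻¹ ∈ (S : Subgroup X) := hQS (hQn.conj_mem n hn _)
    have h4 : (h : X) * (n * m) * (h : X)⁻¹ =
        ((h : X) * n * (h : X)⁻¹) * ((h : X) * m * (h : X)⁻¹) := by group
    rw [h4]
    exact Subgroup.mul_mem _ h3 h2
  have hnorm : ∀ h : ↥M, h ∈ Subgroup.normalizer ((T : Subgroup ↥M) : Set ↥M) →
      (h : X) ∈ Subgroup.normalizer ((S : Subgroup X) : Set X) := by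
    intro h hh
    rw [Subgroup.mem_normalizer_iff]
    intro s
    constructor
    · exact hconjS h hh s
    · intro hs
      have hh' : h⁻¹ ∈ Subgroup.normalizer ((T : Subgroup ↥M) : Set ↥M) := Subgroup.inv_mem _ hh
      have h5 := hconjS h⁻¹ hh' _ hs
      have h6 : ((h⁻¹ : ↥M) : X) * ((h : X) * s * (h : X)⁻¹) * ((h⁻¹ : ↥M) : X)⁻¹ = s := by
        rw [Subgroup.coe_inv]; group
      rwa [h6] at h5
  -- fusion inside `M`
  have hU1n : (ups 2 ↥M 1).Normal := (upperPSeries 2 ↥M 1).2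
  have hU2n : (ups 2 ↥M 2).Normal := (upperPSeries 2 ↥M 2).2
  have hM2 := p2_ups_two_eq T hlenM
  have hNodd : (Nat.card (ups 2 ↥M 1)).Coprime 2 := card_ups_one_coprime
  -- the involutions of `M` lie in `T`
  have hQMn : (Q.subgroupOf M).Normal := Subgroup.normal_subgroupOf
  have hinvT : ∀ x : X, x ^ 2 = 1 → ∀ hx : x ∈ M, (⟨x, hx⟩ : ↥M) ∈ (T : Subgroup ↥M) := by
    intro x hx2 hxM
    have h1 : IsPGroup 2 (Q.subgroupOf M) := hQ2.comap_subtype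
    have h2 : Q.subgroupOf M ≤ (T : Subgroup ↥M) := h1.le_sylow_of_normal T
    apply h2
    rw [Subgroup.mem_subgroupOf]
    exact hinvQ x hx2
  intro x y hx1 hx2 hy1 hy2
  obtain ⟨m, hm, hmxy⟩ := hconjM x y hx1 hx2 hy1 hy2
  have hxM := hinvM x hx2
  have hyM := hinvM y hy2
  obtain ⟨h, hh, hhx⟩ := p2_fusion T (ups 2 ↥M 1) (ups 2 ↥M 2) hNodd hM2
    (hinvT x hx2 hxM) (hinvT y hy2 hyM) ⟨m, hm⟩ (Subtype.ext hmxy)
  refine ⟨(h : X), hnorm h hh, ?_⟩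
  have := congrArg Subtype.val hhx
  simpa using this
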