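import Mathlib
import Cfsg.Agent.Lib.Helper21.GYenB
import Cfsg.Agent.Lib.Helper5.SolvPSolv
import Cfsg.Agent.Lib.helper3.S3797F
import Cfsg.Agent.Lib.Helper10.GSz.Main

set_option autoImplicit false

namespace Cfsg.Agent.Lib.helper3

open Cfsg Cfsg.Agent.Lib.Helper21 Cfsg.Agent.Lib.Helper21.GYen
open Pointwise

universe u

/-- the hypotheses of S3797 in a form suited for induction -/
def S3797Hyp (G : Type u) [Group G] : Prop :=
  Group.IsSolvable G ∧
  (∃ x y : G, x ≠ y ∧ x ≠ 1 ∧ x ^ 2 = 1 ∧ y ≠ 1 ∧ y ^ 2 = 1 ∧ x * y = y * x) ∧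
  ∀ x y : G, x ≠ 1 → x ^ 2 = 1 → y ≠ 1 → y ^ 2 = 1 → IsConj x y

/-- piece P-A -/
def S3797PA : Prop :=
  ∀ {S : Type u} [Group S] [Finite S],
    (∀ x : S, x ^ 2 = 1 → ∀ y : S, x * y = y * x) →
    (∀ x : S, (x ^ 2) ^ 2 = 1) →
    Nat.card S ≤ (Nat.card {x : S // x ^ 2 = 1}) ^ 3

/-- piece P-B -/
def S3797PB : Prop :=
  ∀ {S : Type u} [Group S] [Finite S],
    (∀ x : S, x ^ 2 = 1 → ∀ y : S, x * y = y * x) →
    (∀ x : S, (x ^ 2) ^ 2 = 1) →
    Nat.card S ≤ (Nat.card {x : S // x ^ 2 = 1}) ^ 3 →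
    ∀ (A : Subgroup (MulAut S)),
    (∀ x y : S, x ≠ 1 → x ^ 2 = 1 → y ≠ 1 → y ^ 2 = 1 → ∃ a ∈ A, a x = y) →
    ∀ (Q : Subgroup S), (∀ a ∈ A, ∀ x ∈ Q, a x ∈ Q) → (∀ x : S, x ^ 2 = 1 → x ∈ Q) →
    Q ≠ ⊤ →
    ∀ x ∈ Q, ∀ y ∈ Q, x ^ 2 = y ^ 2 → (x⁻¹ * y) ^ 2 = 1

/-- piece P-C -/
def S3797PC : Prop :=
  ∀ {X : Type u} [Group X] [Finite X] (Q : Subgroup X), IsPGroup 2 Q →
    (∀ x ∈ Q, ∀ y ∈ Q, x * y = y * x) → ∀ (k : X), Odd (orderOf k) →
    (∀ x ∈ Q, k * x * k⁻¹ ∈ Q) → (∀ x ∈ Q, x ^ 2 = 1 → k * x = x * k) →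
    ∀ x ∈ Q, k * x = x * k

variable {X : Type u} [Group X] [Finite X]

/-- `frattini_complement` of helper21 with the extra information `K ≤ L`. -/
theorem s3797_frattini_complement {p : ℕ} [hp : Fact p.Prime] (Q L : Subgroup X) [hQn : Q.Normal]
    [hLn : L.Normal] (hQp : IsPGroup p Q) (hcop : (Q.relIndex L).Coprime p) :
    ∃ K : Subgroup X, K ≤ L ∧ (∀ x ∈ K, x ∈ Q → x = 1) ∧
      (∀ l ∈ L, ∃ n ∈ Q, ∃ h ∈ K, l = n * h) ∧
      (∀ g : X, ∃ n ∈ Q, ∀ k ∈ K, (n⁻¹ * g) * k * (n⁻¹ * g)⁻¹ ∈ K) := by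
  set N : Subgroup L := Q.subgroupOf L with hN
  haveI : N.Normal := Subgroup.normal_subgroupOf
  have hNp : IsPGroup p N := hQp.comap_subtype
  obtain ⟨k, hk⟩ := IsPGroup.iff_card.mp hNp
  have hidx : N.index = Q.relIndex L := rfl
  have hcop' : (Nat.card N).Coprime N.index := by
    rw [hk, hidx]; exact Nat.Coprime.pow_left k hcop.symm
  obtain ⟨H₀, hH₀⟩ := Subgroup.exists_right_complement'_of_coprime hcop'
  have hsolvN : Group.IsSolvable N := by
    haveI := hNp.isNilpotent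
    infer_instance
  have hcardH₀ : Nat.card H₀ = N.index := hH₀.symm.index_eq_card.symm
  refine ⟨H₀.map L.subtype, ?_, ?_, ?_, ?_⟩
  · rintro _ ⟨h, _, rfl⟩
    exact h.2
  · rintro _ ⟨h, hh, rfl⟩ hq
    have h1 : h ∈ N ⊓ H₀ := ⟨Subgroup.mem_subgroupOf.mpr hq, hh⟩
    rw [hH₀.disjoint.eq_bot, Subgroup.mem_bot] at h1
    rw [h1]; rfl
  · intro l hl
    obtain ⟨⟨n, h⟩, hnh, -⟩ := (Subgroup.isComplement'_def.mp hH₀).existsUnique ⟨l, hl⟩
    refine ⟨((n : L) : X), Subgroup.mem_subgroupOf.mp n.2, ((h : L) : X), ⟨h, h.2, rfl⟩, ?_⟩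
    have := congrArg Subtype.val hnh
    simpa using this.symm
  · intro g
    set φ : MulAut L := MulAut.conjNormal g with hφ
    set H₁ : Subgroup L := H₀.map φ.toMonoidHom with hH₁
    have hc1 : Nat.card H₁ = Nat.card H₀ := Subgroup.card_map_of_injective φ.injective
    have hH₁c : Subgroup.IsComplement' N H₁ := by
      apply Subgroup.isComplement'_of_coprime
      · rw [hc1]; exact hH₀.card_mul_card
      · rw [hc1, hcardH₀]; exact hcop'
    obtain ⟨l, hl⟩ := Cfsg.Agent.S0001.result N hcop' (Or.inl hsolvN) H₀ H₁ hH₀ hH₁c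
    obtain ⟨⟨n, h⟩, hnh, -⟩ := (Subgroup.isComplement'_def.mp hH₀).existsUnique l
    have hn : MulAut.conj (n : L) • H₀ = H₁ := by
      rw [← hl, ← hnh, map_mul, mul_smul, Subgroup.conj_smul_eq_self_of_mem h.2]
    refine ⟨((n : L) : X), Subgroup.mem_subgroupOf.mp n.2, ?_⟩
    rintro _ ⟨h', hh', rfl⟩
    have h2 : φ h' ∈ MulAut.conj (n : L) • H₀ := by
      rw [hn]; exact ⟨h', hh', rfl⟩
    rw [Subgroup.mem_pointwise_smul_iff_inv_smul_mem] at h2
    refine ⟨_, h2, ?_⟩
    simp [MulAut.smul_def, hφ, MulAut.conjNormal_apply]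
    group

/-- an element mapping the finite subgroup `K` into itself by conjugation normalizes it. -/
theorem s3797_mem_normalizer (K : Subgroup X) (m : X) (h : ∀ k ∈ K, m * k * m⁻¹ ∈ K) :
    m ∈ Subgroup.normalizer (K : Set X) := by
  rw [Subgroup.mem_normalizer_iff]
  intro y
  refine ⟨h y, fun hy => ?_⟩
  let f : K → K := fun k => ⟨m * k * m⁻¹, h k k.2⟩
  have hf : Function.Injective f := by
    intro a b hab
    have h1 : m * (a : X) * m⁻¹ = m * (b : X) * m⁻¹ := congrArg Subtype.val hab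
    apply Subtype.ext
    have h2 : (a : X) = m⁻¹ * (m * (a : X) * m⁻¹) * m := by group
    rw [h2, h1]; group
  obtain ⟨k, hk⟩ := (Finite.injective_iff_surjective.mp hf) ⟨m * y * m⁻¹, hy⟩
  have h3 : m * (k : X) * m⁻¹ = m * y * m⁻¹ := congrArg Subtype.val hk
  have h4 : y = (k : X) := by
    have h5 : y = m⁻¹ * (m * y * m⁻¹) * m := by group
    rw [h5, ← h3]; group
  rw [h4]; exact k.2

/-- an element of odd order whose square commutes with `x` commutes with `x`. -/
theorem s3797_comm_of_sq_comm {k x : X} (hk : Odd (orderOf k)) (h : k ^ 2 * x = x * k ^ 2) :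
    k * x = x * k := by
  obtain ⟨c, hc⟩ := hk
  have h1 : k = (k ^ 2) ^ (c + 1) := by
    rw [← pow_mul, show 2 * (c + 1) = orderOf k + 1 by omega, pow_succ, pow_orderOf_eq_one, one_mul]
  have h2 : Commute (k ^ 2) x := h
  have h3 : Commute ((k ^ 2) ^ (c + 1)) x := h2.pow_left _
  rw [← h1] at h3
  exact h3

/-- **Main lemma**: in a solvable group with `O_{2'} = 1`, all involutions conjugate and two
commuting involutions, `O_2` has odd index (given the statement for smaller groups). -/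
theorem s3797_main_lemma (hPA : S3797PA.{u}) (hPB : S3797PB.{u}) (hPC : S3797PC.{u})
    (hX : S3797Hyp X) (hO : pPrimeCore 2 X = ⊥)
    (IH : ∀ (M : Type u) [Group M] [Finite M], Nat.card M < Nat.card X → S3797Hyp M →
      PLengthLE 2 1 M) :
    (Nat.card (X ⧸ pCore 2 X)).Coprime 2 := by
  classical
  have hp2 : Fact (Nat.Prime 2) := ⟨Nat.prime_two⟩
  obtain ⟨hsolv, ⟨x0, y0, hxy0, hx01, hx02, hy01, hy02, hcomm0⟩, hconj⟩ := hX
  have hsol : IsPSolvable 2 X := Cfsg.Agent.Lib.Helper5.isPSolvable_of_isSolvable 2 X hsolv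
  haveI hQn : (pCore 2 X).Normal := Cfsg.pCore_normal 2 X
  have hQp : IsPGroup 2 (pCore 2 X) := Cfsg.Agent.Lib.Helper1.pCore_isPGroup 2
  have hC := Cfsg.Agent.Lib.Helper5.h5_centralizer_pCore_le hsol hO
  have hQ : pCore 2 X ≠ ⊥ := by
    intro hQ
    haveI := subsingleton_of_centralizer_bot_le hQ hC
    exact hx01 (Subsingleton.elim _ _)
  -- all involutions lie in `W`
  have hW : ∀ x : X, x ^ 2 = 1 → x ∈ wSub 2 X := by
    intro x hx
    by_cases hx1 : x = 1
    · rw [hx1]; exact one_mem _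
    obtain ⟨z, hz, hzo⟩ := exists_orderOf_in_wSub (p := 2) hQ
    have hz1 : z ≠ 1 := by
      intro h; rw [h, orderOf_one] at hzo; omega
    have hz2 : z ^ 2 = 1 := by rw [← hzo]; exact pow_orderOf_eq_one z
    obtain ⟨g, hg⟩ := isConj_iff.mp (hconj z x hz1 hz2 hx1 hx)
    rw [← hg]
    exact aut_mem_wSub (MulAut.conj g) hz
  have hWQ : ∀ x : X, x ^ 2 = 1 → x ∈ pCore 2 X := fun x hx => (hW x hx).1
  have hWcent : ∀ x : X, x ^ 2 = 1 → ∀ y ∈ pCore 2 X, y * x = x * y := fun x hx => (hW x hx).2.1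
  by_cases hgoal : (Nat.card (X ⧸ pCore 2 X)).Coprime 2
  · exact hgoal
  -- notation
  obtain ⟨π, hπ⟩ : ∃ π : X →* X ⧸ pCore 2 X, π = QuotientGroup.mk' (pCore 2 X) := ⟨_, rfl⟩
  have hπs : Function.Surjective π := by rw [hπ]; exact QuotientGroup.mk'_surjective _
  have hπker : ∀ x : X, π x = 1 ↔ x ∈ pCore 2 X := by
    intro x; rw [hπ]; exact QuotientGroup.eq_one_iff x
  have hsolvQ : IsPSolvable 2 (X ⧸ pCore 2 X) :=
    Cfsg.Agent.Lib.Helper5.h5_isPSolvable_of_surjective π hπs hsol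
  have hOq : pCore 2 (X ⧸ pCore 2 X) = ⊥ := by
    rw [Cfsg.Agent.Lib.helper17.pCore_quotient (pCore 2 X) hQp, eq_bot_iff]
    rintro _ ⟨r, hr, rfl⟩
    rw [Subgroup.mem_bot]
    exact (QuotientGroup.eq_one_iff r).mpr hr
  have hle := Cfsg.Agent.Lib.Helper5.h5_centralizer_pPrimeCore_le hsolvQ hOq
  obtain ⟨L, hL⟩ : ∃ L : Subgroup X, L = (pPrimeCore 2 (X ⧸ pCore 2 X)).comap π := ⟨_, rfl⟩
  have hLmem : ∀ x : X, x ∈ L ↔ π x ∈ pPrimeCore 2 (X ⧸ pCore 2 X) := by
    intro x; rw [hL]; exact Subgroup.mem_comap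
  haveI hLn : L.Normal := by
    rw [hL]; exact Subgroup.Normal.comap (Cfsg.pPrimeCore_normal 2 _) π
  have hrel : (pCore 2 X).relIndex L = Nat.card (pPrimeCore 2 (X ⧸ pCore 2 X)) := by
    have h2 := Subgroup.relIndex_comap (H := (⊥ : Subgroup (X ⧸ pCore 2 X))) π L
    rw [MonoidHom.comap_bot, Subgroup.relIndex_bot_left] at h2
    have h3 : π.ker = pCore 2 X := by rw [hπ]; exact QuotientGroup.ker_mk' _
    rw [h3] at h2
    rw [h2, hL, Subgroup.map_comap_eq_self_of_surjective hπs]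
  have hcardP : (Nat.card (pPrimeCore 2 (X ⧸ pCore 2 X))).Coprime 2 :=
    Cfsg.Agent.Lib.Helper1.pPrimeCore_card_coprime 2
  have hcop : ((pCore 2 X).relIndex L).Coprime 2 := by
    rw [hrel]; exact hcardP
  obtain ⟨K, hKL, hKQ, hLK, hfr⟩ := s3797_frattini_complement (pCore 2 X) L hQp hcop
  -- elements of `K` have odd order
  have hKodd : ∀ k ∈ K, Odd (orderOf k) := by
    intro k hk
    have h1 : (π k) ^ Nat.card (pPrimeCore 2 (X ⧸ pCore 2 X)) = 1 := by
      have h2 : (⟨π k, (hLmem k).mp (hKL hk)⟩ : pPrimeCore 2 (X ⧸ pCore 2 X)) ^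
          Nat.card (pPrimeCore 2 (X ⧸ pCore 2 X)) = 1 := pow_card_eq_one'
      have h3 := congrArg Subtype.val h2
      rw [Subgroup.coe_pow, Subgroup.coe_one] at h3
      exact h3
    rw [← map_pow, hπker] at h1
    have h4 := hKQ _ (K.pow_mem hk _) h1
    have h5 := orderOf_dvd_of_pow_eq_one h4
    rw [← Nat.not_even_iff_odd]
    intro he
    have h6 : 2 ∣ Nat.gcd (Nat.card (pPrimeCore 2 (X ⧸ pCore 2 X))) 2 :=
      Nat.dvd_gcd (he.two_dvd.trans h5) dvd_rfl
    rw [hcardP] at h6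
    omega
  -- it suffices to show `K = 1`
  have hsuff : (∀ k ∈ K, k = 1) → (Nat.card (X ⧸ pCore 2 X)).Coprime 2 := by
    intro hK1
    have hLQ : L ≤ pCore 2 X := by
      intro l hl
      obtain ⟨n, hn, h, hh, rfl⟩ := hLK l hl
      rw [hK1 h hh, mul_one]; exact hn
    have hP' : pPrimeCore 2 (X ⧸ pCore 2 X) = ⊥ := by
      rw [eq_bot_iff]
      intro y hy
      obtain ⟨x, rfl⟩ := hπs y
      rw [Subgroup.mem_bot, hπker]
      exact hLQ ((hLmem x).mpr hy)
    haveI := subsingleton_of_centralizer_bot_le hP' hle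
    rw [Nat.card_unique]
    exact Nat.coprime_one_left 2
  -- an element of order two modulo `Q`, normalizing `K`
  have hexists : ∃ v : X, v ≠ 1 ∧ v ^ 2 = 1 ∧ ∀ k ∈ K, v * k * v⁻¹ ∈ K := by
    have hdvd : 2 ∣ Nat.card (X ⧸ pCore 2 X) := by
      rw [Nat.coprime_comm, Nat.Prime.coprime_iff_not_dvd Nat.prime_two] at hgoal
      exact not_not.mp hgoal
    obtain ⟨gb, hgb⟩ := exists_prime_orderOf_dvd_card' 2 hdvd
    obtain ⟨g, rfl⟩ := hπs gb
    obtain ⟨n, hn, hnK⟩ := hfr g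
    obtain ⟨m, hm⟩ : ∃ m : X, m = n⁻¹ * g := ⟨_, rfl⟩
    rw [← hm] at hnK
    have hπm : π m = π g := by
      rw [hm, map_mul, map_inv, (hπker n).mpr hn, inv_one, one_mul]
    have hpm : 2 ∣ orderOf m := by
      have := orderOf_map_dvd π m
      rwa [hπm, hgb] at this
    obtain ⟨t, ht⟩ := hpm
    have ht0 : t ≠ 0 := by
      rintro rfl
      rw [mul_zero] at ht
      exact (orderOf_pos m).ne' ht
    have hvo : orderOf (m ^ t) = 2 := by
      rw [orderOf_pow_of_dvd ht0 (ht ▸ dvd_mul_left _ _), ht,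
        Nat.mul_div_cancel _ (Nat.pos_of_ne_zero ht0)]
    have hpowK : ∀ (j : ℕ) (k : X), k ∈ K → m ^ j * k * (m ^ j)⁻¹ ∈ K := by
      intro j
      induction j with
      | zero => intro k hk; simpa using hk
      | succ j ih =>
        intro k hk
        have h1 := ih _ (hnK k hk)
        have h2 : m ^ (j + 1) * k * (m ^ (j + 1))⁻¹ = m ^ j * (m * k * m⁻¹) * (m ^ j)⁻¹ := by
          rw [pow_succ]; group
        rw [h2]; exact h1
    refine ⟨m ^ t, ?_, ?_, fun k hk => hpowK t k hk⟩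
    · intro h; rw [h, orderOf_one] at hvo; omega
    · rw [← hvo]; exact pow_orderOf_eq_one _
  obtain ⟨v, hv1, hv2, hvK⟩ := hexists
  -- `v` centralizes `K`
  have hvcK : ∀ k ∈ K, k * v = v * k := by
    intro k hk
    have h1 : v * k * v⁻¹ * k⁻¹ ∈ K := K.mul_mem (hvK k hk) (K.inv_mem hk)
    have h2 : v * k * v⁻¹ * k⁻¹ ∈ pCore 2 X := by
      have h3 : k * v⁻¹ * k⁻¹ ∈ pCore 2 X := hQn.conj_mem _ ((pCore 2 X).inv_mem (hWQ v hv2)) k
      have h4 : v * k * v⁻¹ * k⁻¹ = v * (k * v⁻¹ * k⁻¹) := by group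
      rw [h4]; exact (pCore 2 X).mul_mem (hWQ v hv2) h3
    have h5 := hKQ _ h1 h2
    calc k * v = (v * k * v⁻¹ * k⁻¹)⁻¹ * (v * k) := by group
      _ = v * k := by rw [h5, inv_one, one_mul]
  -- hence every involution centralizes `L`, in particular `K`
  have hinvL : ∀ w : X, w ^ 2 = 1 → ∀ l ∈ L, l * w = w * l := by
    intro w hw l hl
    by_cases hw1 : w = 1
    · rw [hw1]; simp
    obtain ⟨g, hg⟩ := isConj_iff.mp (hconj v w hv1 hv2 hw1 hw)
    -- `v` centralizes `L`
    have hvL : ∀ l ∈ L, l * v = v * l := by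
      intro l hl
      obtain ⟨n', hn', h', hh', rfl⟩ := hLK l hl
      rw [mul_assoc, hvcK h' hh', ← mul_assoc, hWcent v hv2 n' hn', mul_assoc]
    have h1 := hvL (g⁻¹ * l * g) (by
      have := hLn.conj_mem l hl g⁻¹
      simpa using this)
    rw [← hg]
    calc l * (g * v * g⁻¹) = g * ((g⁻¹ * l * g) * v) * g⁻¹ := by group
      _ = g * (v * (g⁻¹ * l * g)) * g⁻¹ := by rw [h1]
      _ = g * v * g⁻¹ * l := by group
  have hinvK : ∀ w : X, w ^ 2 = 1 → ∀ k ∈ K, k * w = w * k :=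
    fun w hw k hk => hinvL w hw k (hKL hk)
  apply hsuff
  -- the normalizer of `K`
  set M : Subgroup X := Subgroup.normalizer (K : Set X) with hMdef
  have hQM : ∀ g : X, ∃ n ∈ pCore 2 X, ∃ m ∈ M, g = n * m := by
    intro g
    obtain ⟨n, hn, hnK⟩ := hfr g
    exact ⟨n, hn, n⁻¹ * g, s3797_mem_normalizer K _ hnK, by group⟩
  have hinvM : ∀ x : X, x ^ 2 = 1 → x ∈ M := by
    intro x hx
    apply s3797_mem_normalizer
    intro k hk
    have h1 := hinvK x hx k hk
    have h2 : x * k * x⁻¹ = k := by rw [← h1]; group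
    rw [h2]; exact hk
  have hconjM : ∀ x y : X, x ≠ 1 → x ^ 2 = 1 → y ≠ 1 → y ^ 2 = 1 → ∃ m ∈ M, m * x * m⁻¹ = y := by
    intro x y hx1 hx2 hy1 hy2
    obtain ⟨g, hg⟩ := isConj_iff.mp (hconj x y hx1 hx2 hy1 hy2)
    obtain ⟨n, hn, m, hm, rfl⟩ := hQM g
    refine ⟨m, hm, ?_⟩
    have h1 : (m * x * m⁻¹) ^ 2 = 1 := by
      have : (m * x * m⁻¹) ^ 2 = m * x ^ 2 * m⁻¹ := by rw [pow_two, pow_two]; group
      rw [this, hx2]; group
    have h2 := hWcent _ h1 n hn
    rw [← hg]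
    calc m * x * m⁻¹ = (n * (m * x * m⁻¹)) * n⁻¹ := by rw [h2]; group
      _ = n * m * x * (n * m)⁻¹ := by group
  -- all elements of `K` are trivial
  intro k hk
  by_cases hMtop : M = ⊤
  · -- `K` is normal of odd order
    have hKn : K.Normal := by
      rw [← Subgroup.normalizer_eq_top_iff]; exact hMtop
    have hKc : (Nat.card K).Coprime 2 := by
      rw [Nat.coprime_comm, Nat.Prime.coprime_iff_not_dvd Nat.prime_two]
      intro hd
      obtain ⟨c, hc⟩ := exists_prime_orderOf_dvd_card' 2 hd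
      have h1 := hKodd (c : X) c.2
      rw [Subgroup.orderOf_coe, hc] at h1
      exact absurd h1 (by decide)
    have h2 : K ≤ pPrimeCore 2 X := Cfsg.Agent.Lib.Helper1.le_pPrimeCore hKn hKc
    rw [hO] at h2
    exact Subgroup.mem_bot.mp (h2 hk)
  · -- induction
    have hcardM : Nat.card M < Nat.card X := by
      have h1 : 1 < M.index := Subgroup.one_lt_index_of_ne_top hMtop
      have h2 := Subgroup.card_mul_index M
      have h3 : 0 < Nat.card M := Nat.card_pos
      nlinarith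
    have hHypM : S3797Hyp ↥M := by
      refine ⟨inferInstance, ?_, ?_⟩
      · refine ⟨⟨x0, hinvM x0 hx02⟩, ⟨y0, hinvM y0 hy02⟩, ?_, ?_, ?_, ?_, ?_, ?_⟩
        · intro h; exact hxy0 (congrArg Subtype.val h)
        · intro h; exact hx01 (congrArg Subtype.val h)
        · apply Subtype.ext; simpa using hx02
        · intro h; exact hy01 (congrArg Subtype.val h)
        · apply Subtype.ext; simpa using hy02
        · apply Subtype.ext; simpa using hcomm0
      · intro x y hx1 hx2 hy1 hy2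
        have hx2' : (x : X) ^ 2 = 1 := by
          have := congrArg Subtype.val hx2; simpa using this
        have hy2' : (y : X) ^ 2 = 1 := by
          have := congrArg Subtype.val hy2; simpa using this
        obtain ⟨m, hm, hmxy⟩ := hconjM (x : X) (y : X) (fun h => hx1 (Subtype.ext h)) hx2'
          (fun h => hy1 (Subtype.ext h)) hy2'
        exact isConj_iff.mpr ⟨⟨m, hm⟩, Subtype.ext hmxy⟩
    have hlenM : PLengthLE 2 1 ↥M := IH ↥M hcardM hHypM
    obtain ⟨S, hQS, hStr⟩ := s3797_F (pCore 2 X) M hQp hQM hWQ hinvM hconjM hlenM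
    -- `k` centralizes `Q`
    have hkQ : ∀ x ∈ pCore 2 X, k * x * k⁻¹ ∈ pCore 2 X := fun x hx => hQn.conj_mem x hx k
    have hkW : ∀ x ∈ pCore 2 X, x ^ 2 = 1 → k * x = x * k := fun x _ hx => hinvK x hx k hk
    have hkcent : ∀ x ∈ pCore 2 X, k * x = x * k := by
      by_cases hSab : ∀ a ∈ (S : Subgroup X), ∀ b ∈ (S : Subgroup X), a * b = b * a
      · exact hPC (pCore 2 X) hQp (fun a ha b hb => hSab a (hQS ha) b (hQS hb)) k (hKodd k hk)
          hkQ hkW
      · push Not at hSab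
        obtain ⟨a, ha, b, hb, hab⟩ := hSab
        -- Higman's theorem on `S`
        let φ := Subgroup.normalizerMonoidHom (S : Subgroup X)
        have hYsol : Group.IsSolvable φ.range :=
          Group.isSolvable_of_surjective (f := φ.rangeRestrict) φ.rangeRestrict_surjective
        have hx0S : x0 ∈ (S : Subgroup X) := hQS (hWQ x0 hx02)
        have hy0S : y0 ∈ (S : Subgroup X) := hQS (hWQ y0 hy02)
        have htrS : ∀ x y : ↥(S : Subgroup X), x ≠ 1 → x ^ 2 = 1 → y ≠ 1 → y ^ 2 = 1 →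
            ∃ a ∈ φ.range, a x = y := by
          intro x y hx1 hx2 hy1 hy2
          have hx2' : (x : X) ^ 2 = 1 := by
            have := congrArg Subtype.val hx2; simpa using this
          have hy2' : (y : X) ^ 2 = 1 := by
            have := congrArg Subtype.val hy2; simpa using this
          obtain ⟨h, hh, hhx⟩ := hStr (x : X) (y : X) (fun h => hx1 (Subtype.ext h)) hx2'
            (fun h => hy1 (Subtype.ext h)) hy2'
          refine ⟨φ ⟨h, hh⟩, ⟨⟨h, hh⟩, rfl⟩, ?_⟩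
          apply Subtype.ext
          exact hhx
        have hGS : Cfsg.Agent.Lib.Helper10.GSz.GSuz (φ.range.subtype : φ.range →* MulAut ↥(S : Subgroup X)) := by
          refine ⟨inferInstance, inferInstance, hYsol, S.2, ?_, ?_⟩
          · refine ⟨⟨x0, hx0S⟩, ⟨y0, hy0S⟩, ?_, ?_, ?_, ?_, ?_⟩
            · intro h; exact hxy0 (congrArg Subtype.val h)
            · intro h; exact hx01 (congrArg Subtype.val h)
            · apply Subtype.ext; rw [← pow_two]; simpa using hx02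
            · intro h; exact hy01 (congrArg Subtype.val h)
            · apply Subtype.ext; rw [← pow_two]; simpa using hy02
          · intro x y hx1 hx hy1 hy
            obtain ⟨a', ha', hax⟩ := htrS x y hx1 (by rw [pow_two]; exact hx) hy1
              (by rw [pow_two]; exact hy)
            exact ⟨⟨a', ha'⟩, hax⟩
        have hnaS : ∃ x y : ↥(S : Subgroup X), x * y ≠ y * x :=
          ⟨⟨a, ha⟩, ⟨b, hb⟩, fun h => hab (congrArg Subtype.val h)⟩
        have hcentS : ∀ x : ↥(S : Subgroup X), x ^ 2 = 1 → ∀ y : ↥(S : Subgroup X),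
            x * y = y * x := by
          intro x hx y
          have := hGS.mem_center_of_sq (x := x) (by rw [← pow_two]; exact hx)
          exact (Subgroup.mem_center_iff.mp this y).symm
        have hsqS : ∀ x : ↥(S : Subgroup X), (x ^ 2) ^ 2 = 1 := by
          intro x
          have := (hGS.sq_mem hnaS x).2
          rw [pow_two, pow_two]; exact this
        have hbound := hPA hcentS hsqS
        -- the subgroup `Q` inside `S`
        have hQ'A : ∀ a' ∈ φ.range, ∀ x ∈ (pCore 2 X).subgroupOf (S : Subgroup X),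
            a' x ∈ (pCore 2 X).subgroupOf (S : Subgroup X) := by
          rintro _ ⟨h, rfl⟩ x hx
          rw [Subgroup.mem_subgroupOf] at hx ⊢
          exact hQn.conj_mem _ hx _
        have hWQ' : ∀ x : ↥(S : Subgroup X), x ^ 2 = 1 →
            x ∈ (pCore 2 X).subgroupOf (S : Subgroup X) := by
          intro x hx
          rw [Subgroup.mem_subgroupOf]
          apply hWQ
          have := congrArg Subtype.val hx; simpa using this
        have hQ'ne : (pCore 2 X).subgroupOf (S : Subgroup X) ≠ ⊤ := by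
          intro htop
          apply hgoal
          have hSQ : (S : Subgroup X) ≤ pCore 2 X := Subgroup.subgroupOf_eq_top.mp htop
          have hidx : (pCore 2 X).index ∣ (S : Subgroup X).index :=
            Subgroup.index_dvd_of_le hSQ
          rw [← Subgroup.index_eq_card]
          rw [Nat.coprime_comm, Nat.Prime.coprime_iff_not_dvd Nat.prime_two]
          intro h2
          exact S.not_dvd_index (h2.trans hidx)
        have hinj := hPB hcentS hsqS hbound φ.range htrS _ hQ'A hWQ' hQ'ne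
        intro x hx
        apply s3797_comm_of_sq_comm (hKodd k hk)
        -- `k x k⁻¹ = x w`
        have hxS : x ∈ (S : Subgroup X) := hQS hx
        have hyQ : k * x * k⁻¹ ∈ pCore 2 X := hkQ x hx
        have hyS : k * x * k⁻¹ ∈ (S : Subgroup X) := hQS hyQ
        have hx4 : (x ^ 2) ^ 2 = 1 := by
          have := congrArg Subtype.val (hsqS ⟨x, hxS⟩); simpa using this
        have hsqeq : (k * x * k⁻¹) ^ 2 = x ^ 2 := by
          have h1 : (k * x * k⁻¹) ^ 2 = k * x ^ 2 * k⁻¹ := by rw [pow_two, pow_two]; group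
          rw [h1, hkW (x ^ 2) ((pCore 2 X).pow_mem hx 2) hx4]; group
        have hw : (x⁻¹ * (k * x * k⁻¹)) ^ 2 = 1 := by
          have h1 := hinj ⟨x, hxS⟩ (Subgroup.mem_subgroupOf.mpr hx) ⟨k * x * k⁻¹, hyS⟩
            (Subgroup.mem_subgroupOf.mpr hyQ) (Subtype.ext (by simpa using hsqeq.symm))
          have := congrArg Subtype.val h1; simpa using this
        obtain ⟨w, hwdef⟩ : ∃ w : X, w = x⁻¹ * (k * x * k⁻¹) := ⟨_, rfl⟩
        rw [← hwdef] at hw
        have hwQ : w ∈ pCore 2 X := hWQ w hw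
        have hkw : k * w = w * k := hkW w hwQ hw
        have hkx : k * x * k⁻¹ = x * w := by rw [hwdef]; group
        have hwx : w * x = x * w := hWcent w hw x hx |>.symm
        -- `k² x k⁻² = x w² = x`
        have h2 : k ^ 2 * x * (k ^ 2)⁻¹ = x := by
          calc k ^ 2 * x * (k ^ 2)⁻¹ = k * (k * x * k⁻¹) * k⁻¹ := by rw [pow_two]; group
            _ = k * (x * w) * k⁻¹ := by rw [hkx]
            _ = (k * x * k⁻¹) * (k * w * k⁻¹) := by group
            _ = (x * w) * w := by rw [hkx, hkw]; group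
            _ = x * w ^ 2 := by rw [pow_two]; group
            _ = x := by rw [hw, mul_one]
        calc k ^ 2 * x = (k ^ 2 * x * (k ^ 2)⁻¹) * k ^ 2 := by group
          _ = x * k ^ 2 := by rw [h2]
    have hkC : k ∈ Subgroup.centralizer (pCore 2 X : Set X) := by
      rw [Subgroup.mem_centralizer_iff]
      intro x hx
      exact (hkcent x hx).symm
    exact hKQ k hk (hC hkC)

end Cfsg.Agent.Lib.helper3
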