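import Mathlib
import Cfsg.Agent.Lib.helper3.S3797Main
import Cfsg.Agent.Lib.Helper21.GYenC

set_option autoImplicit false

namespace Cfsg.Agent.Lib.helper3

open Cfsg Cfsg.Agent.Lib.Helper21 Cfsg.Agent.Lib.Helper21.GYen

universe u

/-- a normal subgroup of odd order contains no involution. -/
theorem s3797_eq_one_of_sq {G : Type*} [Group G] [Finite G] (N : Subgroup G)
    (hN : (Nat.card N).Coprime 2) {g : G} (hg : g ∈ N) (hg2 : g ^ 2 = 1) : g = 1 := by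
  have h1 : orderOf g ∣ 2 := orderOf_dvd_of_pow_eq_one hg2
  have h2 : orderOf g ∣ Nat.card N := Subgroup.orderOf_dvd_natCard _ hg
  have h3 : orderOf g ∣ Nat.gcd (Nat.card N) 2 := Nat.dvd_gcd h2 h1
  rw [hN] at h3
  exact orderOf_eq_one_iff.mp (Nat.dvd_one.mp h3)

/-- the hypotheses pass to `G / O(G)`. -/
theorem s3797_hyp_quotient {G : Type u} [Group G] [Finite G] (hG : S3797Hyp G) :
    haveI := Cfsg.pPrimeCore_normal 2 G
    S3797Hyp (G ⧸ pPrimeCore 2 G) := by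
  haveI hNn : (pPrimeCore 2 G).Normal := Cfsg.pPrimeCore_normal 2 G
  have hNodd : (Nat.card (pPrimeCore 2 G)).Coprime 2 :=
    Cfsg.Agent.Lib.Helper1.pPrimeCore_card_coprime 2
  obtain ⟨hsolv, ⟨x0, y0, hxy0, hx01, hx02, hy01, hy02, hcomm0⟩, hconj⟩ := hG
  have hne1 : ∀ g : G, g ≠ 1 → g ^ 2 = 1 → (QuotientGroup.mk' (pPrimeCore 2 G) g) ≠ 1 := by
    intro g hg1 hg2 h
    exact hg1 (s3797_eq_one_of_sq _ hNodd ((QuotientGroup.eq_one_iff g).mp h) hg2)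
  refine ⟨inferInstance, ?_, ?_⟩
  · refine ⟨QuotientGroup.mk' _ x0, QuotientGroup.mk' _ y0, ?_, hne1 x0 hx01 hx02, ?_,
      hne1 y0 hy01 hy02, ?_, ?_⟩
    · intro h
      have h1 : QuotientGroup.mk' (pPrimeCore 2 G) (x0⁻¹ * y0) = 1 := by
        rw [map_mul, map_inv, h, inv_mul_cancel]
      have h2 : (x0⁻¹ * y0) ^ 2 = 1 := by
        have hx0inv : x0⁻¹ = x0 := by
          rw [inv_eq_iff_mul_eq_one, ← pow_two, hx02]
        rw [hx0inv, pow_two]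
        calc x0 * y0 * (x0 * y0) = x0 * (y0 * x0) * y0 := by group
          _ = x0 * (x0 * y0) * y0 := by rw [hcomm0]
          _ = x0 ^ 2 * y0 ^ 2 := by rw [pow_two, pow_two]; group
          _ = 1 := by rw [hx02, hy02, one_mul]
      have h3 := s3797_eq_one_of_sq _ hNodd ((QuotientGroup.eq_one_iff _).mp h1) h2
      apply hxy0
      calc x0 = x0 * (x0⁻¹ * y0) := by rw [h3, mul_one]
        _ = y0 := by group
    · rw [← map_pow, hx02, map_one]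
    · rw [← map_pow, hy02, map_one]
    · rw [← map_mul, ← map_mul, hcomm0]
  · intro x y hx1 hx2 hy1 hy2
    obtain ⟨gx, hgx2, rfl⟩ := s3797_lift_invol (pPrimeCore 2 G) hNodd x hx2
    obtain ⟨gy, hgy2, rfl⟩ := s3797_lift_invol (pPrimeCore 2 G) hNodd y hy2
    have hgx1 : gx ≠ 1 := by
      intro h; apply hx1; rw [h, map_one]
    have hgy1 : gy ≠ 1 := by
      intro h; apply hy1; rw [h, map_one]
    obtain ⟨g, hg⟩ := isConj_iff.mp (hconj gx gy hgx1 hgx2 hgy1 hgy2)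
    refine isConj_iff.mpr ⟨QuotientGroup.mk' (pPrimeCore 2 G) g, ?_⟩
    rw [← map_inv, ← map_mul, ← map_mul, hg]

/-- Part 1 of S3797, by induction on the order. -/
theorem s3797_part1_aux (hPA : S3797PA.{u}) (hPB : S3797PB.{u}) (hPC : S3797PC.{u}) :
    ∀ n : ℕ, ∀ (G : Type u) [Group G] [Finite G], Nat.card G = n → S3797Hyp G →
      PLengthLE 2 1 G := by
  intro n
  induction n using Nat.strong_induction_on with
  | _ n ih =>
    intro G _ _ hn hG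
    have hp2 : Fact (Nat.Prime 2) := ⟨Nat.prime_two⟩
    haveI hN0 : (pPrimeCore 2 G).Normal := Cfsg.pPrimeCore_normal 2 G
    have hHX : S3797Hyp (G ⧸ pPrimeCore 2 G) := s3797_hyp_quotient hG
    have hOX : pPrimeCore 2 (G ⧸ pPrimeCore 2 G) = ⊥ :=
      Cfsg.Agent.Lib.Helper1.pPrimeCore_quotient_eq_bot 2
    have hcardX : Nat.card (G ⧸ pPrimeCore 2 G) ≤ n := by
      rw [← hn]
      exact Nat.card_le_card_of_surjective _ (QuotientGroup.mk'_surjective (pPrimeCore 2 G))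
    have hmain := s3797_main_lemma hPA hPB hPC hHX hOX (by
      intro M _ _ hM hHM
      exact ih (Nat.card M) (lt_of_lt_of_le hM hcardX) M rfl hHM)
    haveI : (pCore 2 (G ⧸ pPrimeCore 2 G)).Normal := Cfsg.pCore_normal 2 _
    have h1 : PLengthLE 2 1 (pCore 2 (G ⧸ pPrimeCore 2 G)) :=
      Cfsg.Agent.Lib.Helper21.plength_one_of_isPGroup (Cfsg.Agent.Lib.Helper1.pCore_isPGroup 2)
    have h0 : PLengthLE 2 0 ((G ⧸ pPrimeCore 2 G) ⧸ pCore 2 (G ⧸ pPrimeCore 2 G)) :=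
      Cfsg.Agent.Lib.Helper21.plength_zero_of_coprime hmain
    have hX : PLengthLE 2 (1 + 0) (G ⧸ pPrimeCore 2 G) :=
      Cfsg.Agent.Lib.Helper21.plength_add (pCore 2 (G ⧸ pPrimeCore 2 G)) h1 h0
    have hN : PLengthLE 2 0 (pPrimeCore 2 G) :=
      Cfsg.Agent.Lib.Helper21.plength_zero_of_coprime
        (Cfsg.Agent.Lib.Helper1.pPrimeCore_card_coprime 2)
    have := Cfsg.Agent.Lib.Helper21.plength_add (pPrimeCore 2 G) hN hX
    simpa using this

/-- the hypotheses of the frozen statement give `S3797Hyp`. -/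
theorem s3797_hyp_of {G : Type u} [Group G] [Finite G] (hG : Group.IsSolvable G) (S : Sylow 2 G)
    (htwo : ∃ x y : G, x ∈ (S : Subgroup G) ∧ y ∈ (S : Subgroup G) ∧ x ≠ y ∧ x ≠ 1 ∧ x ^ 2 = 1 ∧
      y ≠ 1 ∧ y ^ 2 = 1)
    (hconj : ∀ x y : G, x ≠ 1 → x ^ 2 = 1 → y ≠ 1 → y ^ 2 = 1 → IsConj x y) : S3797Hyp G := by
  have hp2 : Fact (Nat.Prime 2) := ⟨Nat.prime_two⟩
  refine ⟨hG, ?_, hconj⟩
  obtain ⟨x, y, hxS, hyS, hxy, hx1, hx2, hy1, hy2⟩ := htwo
  -- a central involution of `S`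
  haveI : Nontrivial ↥(S : Subgroup G) := ⟨⟨⟨x, hxS⟩, 1, fun h => hx1 (congrArg Subtype.val h)⟩⟩
  have hSp : IsPGroup 2 ↥(S : Subgroup G) := S.2
  haveI := hSp.center_nontrivial
  have hZp : IsPGroup 2 (Subgroup.center ↥(S : Subgroup G)) := hSp.to_subgroup _
  obtain ⟨k, hk⟩ := IsPGroup.iff_card.mp hZp
  have hk0 : k ≠ 0 := by
    rintro rfl
    rw [pow_zero] at hk
    exact (Finite.one_lt_card (α := Subgroup.center ↥(S : Subgroup G))).ne' hk
  have hdvd : 2 ∣ Nat.card (Subgroup.center ↥(S : Subgroup G)) := by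
    rw [hk]; exact dvd_pow_self 2 hk0
  obtain ⟨c, hc⟩ := exists_prime_orderOf_dvd_card' 2 hdvd
  obtain ⟨z, hz⟩ : ∃ z : G, z = ((c : ↥(S : Subgroup G)) : G) := ⟨_, rfl⟩
  have hzo : orderOf z = 2 := by rw [hz, Subgroup.orderOf_coe, Subgroup.orderOf_coe, hc]
  have hz1 : z ≠ 1 := by
    intro h; rw [h, orderOf_one] at hzo; omega
  have hz2 : z ^ 2 = 1 := by rw [← hzo]; exact pow_orderOf_eq_one z
  have hzc : ∀ s ∈ (S : Subgroup G), z * s = s * z := by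
    intro s hs
    have := Subgroup.mem_center_iff.mp c.2 ⟨s, hs⟩
    have h2 := congrArg Subtype.val this
    rw [hz]
    exact h2.symm
  by_cases hzx : z = x
  · exact ⟨x, y, hxy, hx1, hx2, hy1, hy2, by rw [← hzx]; exact hzc y hyS⟩
  · exact ⟨z, x, hzx, hz1, hz2, hx1, hx2, hzc x hxS⟩

/-- Part 1 of S3797. -/
theorem s3797_part1 (hPA : S3797PA.{u}) (hPB : S3797PB.{u}) (hPC : S3797PC.{u})
    {G : Type u} [Group G] [Finite G] (hG : Group.IsSolvable G) (S : Sylow 2 G)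
    (htwo : ∃ x y : G, x ∈ (S : Subgroup G) ∧ y ∈ (S : Subgroup G) ∧ x ≠ y ∧ x ≠ 1 ∧ x ^ 2 = 1 ∧
      y ≠ 1 ∧ y ^ 2 = 1)
    (hconj : ∀ x y : G, x ≠ 1 → x ^ 2 = 1 → y ≠ 1 → y ^ 2 = 1 → IsConj x y) :
    PLengthLE 2 1 G :=
  s3797_part1_aux hPA hPB hPC _ G rfl (s3797_hyp_of hG S htwo hconj)

end Cfsg.Agent.Lib.helper3
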