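import Mathlib
import Cfsg.Agent.Lib.helper15.S496B
import Cfsg.Agent.Lib.Helper20.S496C1
import Cfsg.Agent.Lib.Helper25.S496C2
import Cfsg.Agent.Lib.helper15.S496A
import Cfsg.Agent.Lib.Helper25.S496D5

set_option autoImplicit false

namespace Cfsg.Agent.Lib.helper3.S496

theorem no_simple_720 {G : Type*} [Group G] [Finite G] [IsSimpleGroup G]
    (hG : Nat.card G = 720) : False := by
  obtain ⟨hC5, z, hz, hCz⟩ := s720_five hG
  rcases s720_n3 hG with h10 | h40
  · exact s720_ten hG hC5 z hz hCz h10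
  · obtain ⟨D, hD, hM, hT⟩ := s720_forty_struct hG hC5 h40
    exact s720_count hG z hz hCz D hD hM hT

end Cfsg.Agent.Lib.helper3.S496
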