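import Mathlib
import Cfsg.Agent.Lib.helper3.S496Tbl
import Cfsg.Agent.Lib.helper3.S496N720
import Cfsg.Agent.Lib.Helper10.S4961008
import Cfsg.Agent.Lib.Helper11.S4961080
import Cfsg.Agent.Lib.Helper21.S496N756

set_option autoImplicit false

namespace Cfsg.Agent.Lib.helper3.S496

open Cfsg.Agent.Lib.helper8 Cfsg.Agent.Lib.helper23

theorem not_solvable {G : Type*} [Group G] [IsSimpleGroup G] (hG : ¬ IsMulCommutative G) :
    ¬ Group.IsSolvable G := by
  intro hs
  have hcomm : ∀ a b : G, a * b = b * a := IsSimpleGroup.comm_iff_isSolvable.mpr hs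
  exact hG ⟨⟨hcomm⟩⟩

theorem mod4_kill {G : Type*} [Group G] [Finite G] [IsSimpleGroup G] (hG : ¬ IsMulCommutative G)
    (h4 : Nat.card G % 4 = 2) : False := by
  have hodd : Odd (Nat.card G / 2) := by
    rw [Nat.odd_iff]; omega
  have hg : Nat.card G = 2 * (Nat.card G / 2) := by omega
  obtain ⟨K, hK⟩ := Cfsg.Agent.Lib.Helper24.bf_two_odd _ hodd hg
  haveI : K.Normal := Subgroup.normal_of_index_eq_two hK
  rcases IsSimpleGroup.eq_bot_or_eq_top_of_normal K inferInstance with hb | ht
  · rw [hb, Subgroup.index_bot] at hK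
    haveI : Fact (Nat.Prime 2) := ⟨Nat.prime_two⟩
    haveI : IsCyclic G := isCyclic_of_prime_card hK
    exact hG ⟨⟨fun a b => (IsCyclic.commGroup (α := G)).mul_comm a b⟩⟩
  · rw [ht, Subgroup.index_top] at hK
    omega

theorem cert_sound {G : Type*} [Group G] [Finite G] [IsSimpleGroup G] (hG : ¬ IsMulCommutative G)
    (c : ℕ × ℕ × ℕ × ℕ × ℕ × ℕ) (hc : certOk c = true) (hcard : Nat.card G = c.1) :
    c.1 ∈ allowedOrders := by
  obtain ⟨n, tag, a, b, e, f⟩ := c
  simp only at hcard ⊢
  unfold certOk at hc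
  simp only [Bool.or_eq_true, Bool.and_eq_true, beq_iff_eq] at hc
  rcases hc with ((hc | hc) | hc) | hc
  · exact List.contains_iff_mem.mp hc.2
  · exfalso
    apply mod4_kill hG
    rw [hcard]
    exact hc.2
  · exfalso
    obtain ⟨⟨⟨-, ha⟩, hb⟩, hn⟩ := hc
    apply not_solvable hG
    exact Cfsg.Agent.Lib.helper2.burnside_pq a b e f (isPrimeB_sound a ha) (isPrimeB_sound b hb)
      (hcard.trans hn)
  · exfalso
    obtain ⟨⟨-, ha⟩, hk⟩ := hc
    exact killedBy_sound hG n a b e (isPrimeB_sound a ha) hk hcard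

theorem main {G : Type*} [Group G] [Finite G] [IsSimpleGroup G]
    (hG : ¬ IsMulCommutative G) (h : Nat.card G ≤ 1092) :
    Nat.card G = 60 ∨ Nat.card G = 168 ∨ Nat.card G = 360 ∨ Nat.card G = 504 ∨ Nat.card G = 660 ∨
      Nat.card G = 1092 := by
  have h1 : 1 ≤ Nat.card G := Nat.card_pos
  have hmem : Nat.card G ∈ List.range' 1 1092 := by
    rw [List.mem_range'_1]
    omega
  rw [← allCerts_cover, List.mem_map] at hmem
  obtain ⟨c, hc, hcn⟩ := hmem
  have hok : certOk c = true := List.all_eq_true.mp allCerts_ok c hc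
  have hall := cert_sound hG c hok hcn.symm
  rw [hcn] at hall
  unfold allowedOrders at hall
  simp only [List.mem_cons, List.not_mem_nil, or_false] at hall
  rcases hall with h | h | h | h | h | h | h | h | h | h
  · exact Or.inl h
  · exact Or.inr (Or.inl h)
  · exact Or.inr (Or.inr (Or.inl h))
  · exact Or.inr (Or.inr (Or.inr (Or.inl h)))
  · exact Or.inr (Or.inr (Or.inr (Or.inr (Or.inl h))))
  · exact Or.inr (Or.inr (Or.inr (Or.inr (Or.inr h))))
  · exact (no_simple_720 h).elim
  · exact (no_simple_756 h).elim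
  · exact (no_simple_1008 h).elim
  · exact (no_simple_1080 h).elim

end Cfsg.Agent.Lib.helper3.S496
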