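import Mathlib
import Cfsg.Prelude.Def_LieExceptional
import Cfsg.Agent.Lib.Helper1.Ord4032.Case288
import Cfsg.Agent.Lib.helper8.SylowBasic
import Cfsg.Agent.Lib.helper8.SimpleEmbed
import Cfsg.Agent.Lib.helper8.Burnside
import Cfsg.Agent.Lib.helper23.OrdGen3

/-!
# Project S496, order 756 (backup copy by helper3, fresh names)

A simple group of order 756 has 36 Sylow 7-subgroups, each self-centralizing with normalizer of
order 21, and the exceptional character analysis (three orbits of size two on the dual) has no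
solution among the divisors of 756.
-/

set_option autoImplicit false
set_option linter.style.haveILetI false
set_option linter.unusedSectionVars false
set_option linter.unusedVariables false

namespace Cfsg.Agent.Lib.helper3.S496

open scoped ComplexConjugate
open Cfsg.Agent.Lib.Helper11 Cfsg.Agent.Lib.helper7 Cfsg.Agent.Lib.Helper25 Cfsg.Agent.Lib.helper2
open Cfsg.Agent.Lib.Helper26 Cfsg.Agent.Lib.helper8 Cfsg.Agent.Lib.helper23
open Cfsg.Agent.Lib.Helper24 Cfsg.Agent.Lib.Helper1.O4032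

theorem h3x_sum_sq_two {X : Type*} [DecidableEq X] (T : Finset X) (w : X → ℤ)
    (h : ∑ x ∈ T, w x ^ 2 = 2) :
    ∃ x₁ ∈ T, ∃ x₂ ∈ T, x₁ ≠ x₂ ∧ (w x₁ = 1 ∨ w x₁ = -1) ∧ (w x₂ = 1 ∨ w x₂ = -1) ∧
      ∀ z ∈ T, z ≠ x₁ → z ≠ x₂ → w z = 0 := by
  have hex : ∃ x₁ ∈ T, w x₁ ≠ 0 := by
    by_contra hcon
    push Not at hcon
    rw [Finset.sum_eq_zero (fun x hx => by rw [hcon x hx]; norm_num)] at h
    norm_num at h
  obtain ⟨x₁, hx₁T, hx₁0⟩ := hex
  have hle1 : w x₁ ^ 2 ≤ 2 := by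
    rw [← h]
    exact Finset.single_le_sum (f := fun x => w x ^ 2) (fun x _ => sq_nonneg _) hx₁T
  have hw1 : w x₁ = 1 ∨ w x₁ = -1 := by
    have h1 : w x₁ ≤ 1 := by nlinarith
    have h2 : -1 ≤ w x₁ := by nlinarith
    omega
  have hsq1 : w x₁ ^ 2 = 1 := by rcases hw1 with h | h <;> rw [h] <;> norm_num
  have hrest : ∑ x ∈ T.erase x₁, w x ^ 2 = 1 := by
    have := Finset.add_sum_erase T (fun x => w x ^ 2) hx₁T
    beta_reduce at this
    linarith
  have hex2 : ∃ x₂ ∈ T.erase x₁, w x₂ ≠ 0 := by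
    by_contra hcon
    push Not at hcon
    rw [Finset.sum_eq_zero (fun x hx => by rw [hcon x hx]; norm_num)] at hrest
    norm_num at hrest
  obtain ⟨x₂, hx₂T, hx₂0⟩ := hex2
  have hle2 : w x₂ ^ 2 ≤ 1 := by
    rw [← hrest]
    exact Finset.single_le_sum (f := fun x => w x ^ 2) (fun x _ => sq_nonneg _) hx₂T
  have hw2 : w x₂ = 1 ∨ w x₂ = -1 := by
    have h1 : w x₂ ≤ 1 := by nlinarith
    have h2 : -1 ≤ w x₂ := by nlinarith
    omega
  have hsq2 : w x₂ ^ 2 = 1 := by rcases hw2 with h | h <;> rw [h] <;> norm_num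
  have hrest2 : ∑ x ∈ (T.erase x₁).erase x₂, w x ^ 2 = 0 := by
    have := Finset.add_sum_erase (T.erase x₁) (fun x => w x ^ 2) hx₂T
    beta_reduce at this
    linarith
  have hx₂ne : x₂ ≠ x₁ := (Finset.mem_erase.1 hx₂T).1
  refine ⟨x₁, hx₁T, x₂, (Finset.mem_erase.1 hx₂T).2, Ne.symm hx₂ne, hw1, hw2, ?_⟩
  intro z hzT hz1 hz2
  have hzmem : z ∈ (T.erase x₁).erase x₂ :=
    Finset.mem_erase.2 ⟨hz2, Finset.mem_erase.2 ⟨hz1, hzT⟩⟩
  have := (Finset.sum_eq_zero_iff_of_nonneg (fun x _ => sq_nonneg (w x))).1 hrest2 z hzmem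
  exact pow_eq_zero_iff (two_ne_zero) |>.1 this

theorem h3x_exc3_struct {X : Type*} [Fintype X] [DecidableEq X] (S : Finset X) (w d : X → ℤ)
    (x₀ : X) (a ε : ℤ) (hε : ε = 1 ∨ ε = -1) (hS : S.card = 2) (hx₀ : x₀ ∉ S) (hw₀ : w x₀ = 1)
    (hwa : ∀ x ∈ S, w x = a) (hnorm : ∑ x, w x ^ 2 + 2 * ε * a = 3) (hd₀ : d x₀ = 1)
    (hdeg : ∀ θ ∈ S, ∑ x, w x * d x + ε * d θ = 0) :
    ∃ x₁ x₂ θ, x₁ ≠ x₀ ∧ x₂ ≠ x₀ ∧ x₁ ∉ S ∧ x₂ ∉ S ∧ θ ∈ S ∧
      (w x₁ = 1 ∨ w x₁ = -1) ∧ (w x₂ = 1 ∨ w x₂ = -1) ∧ (a = 0 ∨ a = -ε) ∧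
      1 + w x₁ * d x₁ + w x₂ * d x₂ + (2 * a + ε) * d θ = 0 := by
  have hsplit : ∀ f : X → ℤ, ∑ x, f x = f x₀ + ∑ x ∈ S, f x + ∑ x ∈ (insert x₀ S)ᶜ, f x := by
    intro f
    rw [← Finset.sum_add_sum_compl (insert x₀ S) f, Finset.sum_insert hx₀]
  have hSsq : ∑ x ∈ S, w x ^ 2 = 2 * a ^ 2 := by
    rw [Finset.sum_congr rfl (fun x hx => by rw [hwa x hx]), Finset.sum_const, hS]
    simp
  have hcnn : 0 ≤ ∑ x ∈ (insert x₀ S)ᶜ, w x ^ 2 := Finset.sum_nonneg (fun x _ => sq_nonneg _)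
  have hn := hsplit (fun x => w x ^ 2)
  beta_reduce at hn
  rw [hw₀, hSsq] at hn
  have ha : a = 0 ∨ a = -ε := by
    rcases hε with h | h <;> rw [h] at hnorm ⊢
    · have h4 : 2 * a ^ 2 + 2 * a ≤ 2 := by linarith
      have h5 : -1 ≤ a := by nlinarith
      have h6 : a ≤ 0 := by nlinarith
      omega
    · have h4 : 2 * a ^ 2 - 2 * a ≤ 2 := by linarith
      have h5 : a ≤ 1 := by nlinarith
      have h6 : 0 ≤ a := by nlinarith
      have : a = 0 ∨ a = 1 := by omega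
      simpa using this
  have hrest : ∑ x ∈ (insert x₀ S)ᶜ, w x ^ 2 = 2 := by
    rcases ha with ha | ha
    · rw [ha] at hn hnorm
      linarith
    · have hεε : ε * ε = 1 := by rcases hε with h | h <;> rw [h] <;> norm_num
      rw [ha] at hn hnorm
      nlinarith
  obtain ⟨x₁, hx₁T, x₂, hx₂T, hne, hw1, hw2, hzero⟩ := h3x_sum_sq_two _ w hrest
  have hx₁' : x₁ ∉ insert x₀ S := Finset.mem_compl.mp hx₁T
  have hx₂' : x₂ ∉ insert x₀ S := Finset.mem_compl.mp hx₂T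
  have hx₁x₀ : x₁ ≠ x₀ := fun h => hx₁' (h ▸ Finset.mem_insert_self _ _)
  have hx₁S : x₁ ∉ S := fun h => hx₁' (Finset.mem_insert_of_mem h)
  have hx₂x₀ : x₂ ≠ x₀ := fun h => hx₂' (h ▸ Finset.mem_insert_self _ _)
  have hx₂S : x₂ ∉ S := fun h => hx₂' (Finset.mem_insert_of_mem h)
  obtain ⟨θ₀, hθ₀⟩ : S.Nonempty := by
    rw [← Finset.card_pos]; omega
  have hrestd : ∑ x ∈ (insert x₀ S)ᶜ, w x * d x = w x₁ * d x₁ + w x₂ * d x₂ := by
    rw [← Finset.add_sum_erase _ _ hx₁T]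
    have hx₂T' : x₂ ∈ ((insert x₀ S)ᶜ).erase x₁ := Finset.mem_erase.2 ⟨Ne.symm hne, hx₂T⟩
    rw [← Finset.add_sum_erase _ _ hx₂T']
    rw [Finset.sum_eq_zero, add_zero]
    intro z hz
    have hz2 := Finset.mem_erase.1 hz
    have hz1 := Finset.mem_erase.1 hz2.2
    rw [hzero z hz1.2 hz1.1 hz2.1, zero_mul]
  have hdeq : ∀ θ ∈ S, d θ = d θ₀ := by
    intro θ hθ
    have e1 := hdeg θ hθ
    have e2 := hdeg θ₀ hθ₀
    have : ε * d θ = ε * d θ₀ := by linarith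
    rcases hε with h | h <;> rw [h] at this <;> linarith
  have hSd : ∑ x ∈ S, w x * d x = 2 * (a * d θ₀) := by
    rw [Finset.sum_congr rfl (fun x hx => by rw [hwa x hx, hdeq x hx]), Finset.sum_const, hS]
    simp
  have hd := hsplit (fun x => w x * d x)
  beta_reduce at hd
  rw [hw₀, hd₀, hSd, hrestd] at hd
  refine ⟨x₁, x₂, θ₀, hx₁x₀, hx₂x₀, hx₁S, hx₂S, hθ₀, hw1, hw2, ha, ?_⟩
  have := hdeg θ₀ hθ₀
  rw [hd] at this
  linarith

theorem no_simple_756_h3 {G : Type*} [Group G] [Finite G] [IsSimpleGroup G]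
    (hG : Nat.card G = 756) : False := by
  classical
  haveI : Fact (Nat.Prime 7) := ⟨by norm_num⟩
  haveI : Fintype G := Fintype.ofFinite G
  haveI : Fintype (Cfsg.IrrCharacter G) := Fintype.ofFinite _
  have hG7 : Nat.card G = 7 ^ 1 * 108 := by rw [hG]; norm_num
  have hnd7 : ¬ 7 ∣ 108 := by norm_num
  have hnc : ¬ IsMulCommutative G := h8_not_comm_of_card (by rw [hG]; norm_num)
  have hmem7 := h8_nsylow_mem (G := G) 7 1 108 hG7 hnd7
  have e108 : (Nat.divisors 108).filter (fun d => d % 7 = 1) = {1, 36} := by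
    decide +kernel
  rw [e108] at hmem7
  simp only [Finset.mem_insert, Finset.mem_singleton] at hmem7
  have hne1 := h8_simple_nsylow_ne_one (G := G) 7 1 108 hG7 hnd7 (by norm_num) (by norm_num)
  have hn7 : Nat.card (Sylow 7 G) = 36 := by
    rcases hmem7 with h | h
    · exact absurd h hne1
    · exact h
  obtain ⟨P⟩ : Nonempty (Sylow 7 G) := inferInstance
  haveI : Fintype (P : Subgroup G) := Fintype.ofFinite _
  obtain ⟨hP, hNn, -, r, hr6, hr1, hCr⟩ := og3_sylow_data 7 108 hG7 hnd7 (by norm_num) P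
  rw [hn7, hG] at hNn
  have hN : Nat.card (Subgroup.normalizer ((P : Subgroup G) : Set G)) = 21 := by omega
  rw [hN] at hCr
  have hr3 : r = 3 := by
    have hle : r ≤ 6 := Nat.le_of_dvd (by norm_num) hr6
    interval_cases r <;> omega
  subst hr3
  have hC : Nat.card (Subgroup.centralizer ((P : Subgroup G) : Set G)) = 7 := by omega
  have hN' : Nat.card (Subgroup.normalizer ((P : Subgroup G) : Set G)) = 7 * 3 := by rw [hN]
  obtain ⟨ε, S, w, a, θ', hε, hS, hwa, hnorm, hdeg, hcS, hcN, hw1, htS, hθS, hshape⟩ :=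
    exc_main2 (P : Subgroup G) (p := 7) (e := 3) (t := 2) hP hC hN' (by norm_num) (by norm_num)
  obtain ⟨χ₁, χ₂, θ, hχ₁, hχ₂, hχ₁S, hχ₂S, hθ, hc1, hc2, ha, hrel⟩ := h3x_exc3_struct S w
    (fun χ => (Cfsg.charDegree (χ : G → ℂ) : ℤ)) (trivIrr G) a ε hε hS htS hw1 hwa
    (by exact_mod_cast hnorm) (by rw [exc_degree_triv]; rfl) hdeg
  beta_reduce at hrel
  have hθtriv : θ ≠ trivIrr G := fun h => htS (h ▸ hθ)
  have hd1 : Cfsg.charDegree (χ₁ : G → ℂ) ≠ 1 := fun h => hχ₁ (exc_linear_trivial hnc χ₁ h)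
  have hd2 : Cfsg.charDegree (χ₂ : G → ℂ) ≠ 1 := fun h => hχ₂ (exc_linear_trivial hnc χ₂ h)
  have hdθ : Cfsg.charDegree (θ : G → ℂ) ≠ 1 := fun h => hθtriv (exc_linear_trivial hnc θ h)
  have hdv1 : Cfsg.charDegree (χ₁ : G → ℂ) ∣ Nat.card G := cdc_degree_dvd χ₁
  have hdv2 : Cfsg.charDegree (χ₂ : G → ℂ) ∣ Nat.card G := cdc_degree_dvd χ₂
  have hdvθ : Cfsg.charDegree (θ : G → ℂ) ∣ Nat.card G := cdc_degree_dvd θ
  rw [hG] at hdv1 hdv2 hdvθ
  obtain ⟨m₁, hm₁⟩ := hcN χ₁ hχ₁S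
  obtain ⟨m₂, hm₂⟩ := hcN χ₂ hχ₂S
  obtain ⟨m₃, hm₃⟩ := hcS θ hθ
  rw [hwa θ hθ] at hm₃
  set d₁ := Cfsg.charDegree (χ₁ : G → ℂ) with hd₁def
  set d₂ := Cfsg.charDegree (χ₂ : G → ℂ) with hd₂def
  set D := Cfsg.charDegree (θ : G → ℂ) with hDdef
  push_cast at hm₁ hm₂ hm₃
  have e1 : (Nat.divisors 756).filter (fun d => d % 7 = 1) = {1, 36} := by decide +kernel
  have e6 : (Nat.divisors 756).filter (fun d => d % 7 = 6) = {6, 27} := by decide +kernel
  have e4 : (Nat.divisors 756).filter (fun d => d % 7 = 4) = {4, 18} := by decide +kernel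
  have e3 : (Nat.divisors 756).filter (fun d => d % 7 = 3) = {3, 108} := by decide +kernel
  have key : ∀ (x k : ℕ), x ∣ 756 → x % 7 = k →
      x ∈ (Nat.divisors 756).filter (fun d => d % 7 = k) := by
    intro x k hx hk
    exact Finset.mem_filter.2 ⟨Nat.mem_divisors.2 ⟨hx, by norm_num⟩, hk⟩
  have hd1c : (w χ₁ = 1 ∧ d₁ = 36) ∨ (w χ₁ = -1 ∧ (d₁ = 6 ∨ d₁ = 27)) := by
    rcases hc1 with h | h
    · left
      refine ⟨h, ?_⟩
      rw [h] at hm₁
      have := key d₁ 1 hdv1 (by omega)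
      rw [e1] at this
      simp only [Finset.mem_insert, Finset.mem_singleton] at this
      omega
    · right
      refine ⟨h, ?_⟩
      rw [h] at hm₁
      have := key d₁ 6 hdv1 (by omega)
      rw [e6] at this
      simpa only [Finset.mem_insert, Finset.mem_singleton] using this
  have hd2c : (w χ₂ = 1 ∧ d₂ = 36) ∨ (w χ₂ = -1 ∧ (d₂ = 6 ∨ d₂ = 27)) := by
    rcases hc2 with h | h
    · left
      refine ⟨h, ?_⟩
      rw [h] at hm₂
      have := key d₂ 1 hdv2 (by omega)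
      rw [e1] at this
      simp only [Finset.mem_insert, Finset.mem_singleton] at this
      omega
    · right
      refine ⟨h, ?_⟩
      rw [h] at hm₂
      have := key d₂ 6 hdv2 (by omega)
      rw [e6] at this
      simpa only [Finset.mem_insert, Finset.mem_singleton] using this
  have hDc : (2 * a + ε = 1 ∧ (D = 4 ∨ D = 18)) ∨ (2 * a + ε = -1 ∧ (D = 3 ∨ D = 108)) := by
    have hε' : 2 * a + ε = 1 ∨ 2 * a + ε = -1 := by
      rcases ha with h | h <;> rcases hε with h' | h' <;> omega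
    rcases hε' with h | h
    · left
      refine ⟨h, ?_⟩
      have := key D 4 hdvθ (by omega)
      rw [e4] at this
      simpa only [Finset.mem_insert, Finset.mem_singleton] using this
    · right
      refine ⟨h, ?_⟩
      have := key D 3 hdvθ (by omega)
      rw [e3] at this
      simpa only [Finset.mem_insert, Finset.mem_singleton] using this
  rcases hd1c with ⟨h1, h1'⟩ | ⟨h1, h1'⟩ <;> rcases hd2c with ⟨h2, h2'⟩ | ⟨h2, h2'⟩ <;>
    rcases hDc with ⟨h3, h3'⟩ | ⟨h3, h3'⟩ <;> rw [h1, h2, h3] at hrel <;> omega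

end Cfsg.Agent.Lib.helper3.S496
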