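import Mathlib
import Cfsg.Prelude.Def_Classical
import Cfsg.Agent.Lib.helper3.S5953.Defs2
import Cfsg.Agent.Lib.helper3.S5953T11
import Cfsg.Agent.Lib.Helper21.S5953C2
import Cfsg.Agent.Lib.helper17.S5953R7
import Cfsg.Agent.Lib.Helper16.S5953R6
import Cfsg.Agent.Lib.Helper25.S5953A6
import Cfsg.Agent.Lib.Helper16.S5953N12
import Cfsg.Agent.Lib.Helper16.S5953X134
import Cfsg.Agent.Lib.Helper16.S5953X567
import Cfsg.Agent.Lib.Helper27.S5953T5
import Cfsg.Agent.Lib.Helper27.S5953T6
import Cfsg.Agent.Lib.Helper11.S5953T9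
import Cfsg.Agent.Lib.Helper24.S5953NS6
import Cfsg.Agent.Lib.Helper24.S5953NS23
import Cfsg.Agent.Lib.helper23.S5953NS1
import Cfsg.Agent.Lib.helper23.S5953NS4
import Cfsg.Agent.Lib.helper23.S5953X2
import Cfsg.Agent.Lib.Helper25.S5953S5core
import Cfsg.Agent.Lib.Lead.S5953S2
import Cfsg.Agent.Lib.Helper20.S5953S3
import Cfsg.Agent.Lib.Helper21.S5953NS7core
import Cfsg.Agent.Lib.Lead.S5953N13core
import Cfsg.Agent.Lib.Helper26.S5953N10
import Cfsg.Agent.Lib.Helper20.S5953N11

set_option autoImplicit false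
open scoped MatrixGroups

/-!
# Project S5953: MAIN (helper3).  `s5953_main` is the frozen statement S5953 (without the unused `hT`).
The three glue lemmas `s5953main_*` are the verbatim rows S5 / NS7 / N13 obtained from the landed cores.
-/

namespace Cfsg.Agent.Lib.helper3.S5953

open Module Polynomial

/-- row S5 (`suff_abs`) from helper25's core, lead's S2 and helper20's S4 -/
theorem s5953main_suff_abs {F : Type*} [Field F] [Fintype F] {p : ℕ} [Fact p.Prime] [CharP F p] {q n : ℕ}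
    (hF : Fintype.card F = q ^ 2) {r : ℕ} [Fact r.Prime] (hrp : r ≠ p) (hr2 : r ≠ 2)
    {y : Module.End F (Fin n → F)} (h : HCtx q r 1 y) (m : ℕ) (hmn : 2 * m ≤ n)
    (i b c : ℕ) (hi : i = orderOf (q : ZMod r)) (hb : b = bb i) (hc : c = cc i)
    (h1 : 2 * (m % b) ≤ n % c)
    (h2 : i % 4 ≠ 2 ∨ (r - 1) / b + 2 * (m / b) ≤ n / b) : HTId q y m := by
  have hcinv : HInv y (cycS r y) := Cfsg.Agent.Lib.Helper24.el_inv_ker y _
  obtain ⟨-, -, -, hcnd⟩ := split hF hrp h
  exact s5953s5_core hF hrp hr2 h m hmn i b c hi hb hc h1 h2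
    (fun h4 => lag_full hF hrp hr2 h h4 (cycS r y) hcinv le_rfl hcnd)
    (fun hodd => lag_dist hF hrp h hodd (cycS r y) hcinv le_rfl hcnd)

/-- row NS7 (`ns_suff`) from helper21's core, T11, T6, NS2 -/
theorem s5953main_ns_suff {F : Type*} [Field F] [Fintype F] {p : ℕ} [Fact p.Prime] [CharP F p] {q n : ℕ}
    (hF : Fintype.card F = q ^ 2) (r : ℕ) [Fact r.Prime] (hrp : r ≠ p) (hr2 : r ≠ 2) {z : F}
    (hz : ∀ a : F, a ^ r ≠ z) {x : Module.End F (Fin n → F)} (h : HCtx q r z x) (m : ℕ)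
    (hrm : r ∣ m) (hmn : 2 * m ≤ n) : HTId q x m := by
  have hrpr : r.Prime := Fact.out
  have hrF : (r : F) ≠ 0 := Cfsg.Agent.Lib.Helper24.el_cast_ne_zero r hrp
  exact s5953ns7_core hF r hr2 hz h
    (fun M hM f hirr ht hkill hdim => genline hF hrpr.pos h M hM f hirr ht hkill hdim)
    (fun N U hN hNnd hUN hU hUti => peel_ti hF hrF h N U hN hNnd hUN hU hUti)
    (fun W hW => ns_dvd r z hz x h.pow W hW) m hrm hmn

/-- row N13 (`nec_abs`) from lead's core, N10, N11 -/
theorem s5953main_nec_abs {F : Type*} [Field F] [Fintype F] {p : ℕ} [Fact p.Prime] [CharP F p] {q : ℕ}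
    (hF : Fintype.card F = q ^ 2) (r : ℕ) [Fact r.Prime] (hrp : r ≠ p) (hr2 : r ≠ 2)
    (n m i b c : ℕ) (hi : i = orderOf (q : ZMod r)) (hb : b = bb i) (hc : c = cc i)
    (hm1 : 1 ≤ m) (hmn : 2 * m ≤ n)
    (ha : ∃ a : ℕ, n < a + 2 * m ∧ a ≤ n ∧ 1 ≤ a ∧ (-(q : ZMod r)) ^ a = 1)
    (hall : ∀ y : Module.End F (Fin n → F), HCtx q r 1 y → y ≠ 1 → HTId q y m) :
    b ≤ m ∧ 2 * (m % b) ≤ n % c ∧
      (i % 4 ≠ 2 ∨ (r - 1) / b + 2 * (m / b) ≤ n / b) :=
  s5953n13_core hF r hrp hr2 n m i b c hi hb hc hm1 hmn ha hall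
    (fun hcn => maxel hF r hrp hr2 n c (by rw [hc, hi]) hcn)
    (fun h2 hbn => distel hF r hrp hr2 n i b hi h2 hb hbn)

theorem s5953_main {F : Type*} [Field F] [Fintype F] {p : ℕ} [Fact p.Prime] [CharP F p] {q : ℕ}
    (hq : Fintype.card F = q ^ 2)
    (n m : ℕ) (hn : 3 ≤ n) (hm : 1 ≤ m) (hmn : 2 * m ≤ n)
    (r : ℕ) [Fact r.Prime]
    (hrΩ : r ∣ Nat.card {W : Submodule F (Fin n → F) // Module.finrank F ↥W = m ∧ (∀ u ∈ W, ∀ v ∈ W, Cfsg.hermForm n F q u v = 0)})
    (i b c : ℕ) (hi : i = orderOf (q : ZMod r)) (hb : b = if Even i then i / 2 else i)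
    (hc : c = if i % 4 = 0 then i else if i % 4 = 2 then i / 2 else 2 * i) :
    (∀ x : Matrix.SpecialLinearGroup (Fin n) F, x ∈ Cfsg.SU n F q →
      (∃ z : F, ((x ^ r : Matrix.SpecialLinearGroup (Fin n) F) : Matrix (Fin n) (Fin n) F) = z • (1 : Matrix (Fin n) (Fin n) F)) →
      (∀ z : F, (x : Matrix (Fin n) (Fin n) F) ≠ z • (1 : Matrix (Fin n) (Fin n) F)) →
      ∃ W : Submodule F (Fin n → F), Module.finrank F ↥W = m ∧ (∀ u ∈ W, ∀ v ∈ W, Cfsg.hermForm n F q u v = 0) ∧
        W.map (Matrix.toLin' (x : Matrix (Fin n) (Fin n) F)) ≤ W) ↔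
    ((r = 2 ∧ p ≠ 2 ∧ (2 * m < n ∨ padicValNat 2 (q + 1) ≤ padicValNat 2 n)) ∨
     (r ≠ p ∧ 2 < r ∧ b ≤ m ∧ 2 * (m % b) ≤ n % c ∧
       (i % 4 ≠ 2 ∨ (i % 4 = 2 ∧ (r - 1) / b + 2 * (m / b) ≤ n / b ∧
         (2 < i ∨ (i = 2 ∧ (r ∣ m ∨ padicValNat r n ≤ padicValNat r (q + 1)))))))) := by
  have hrpr : r.Prime := Fact.out
  have hppr : p.Prime := Fact.out
  have hn0 : 0 < n := by omega
  haveI : Nonempty (Fin n) := ⟨⟨0, hn0⟩⟩
  obtain ⟨hrp, a, ha1, ha2, ha3, ha4⟩ := ti_count_dvd hq n m hm hmn r hrΩ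
  have hbb : b = bb i := hb
  have hcc : c = cc i := hc
  by_cases hr2 : r = 2
  · -- r = 2
    subst hr2
    have hp2 : p ≠ 2 := fun h => hrp h.symm
    have h2F : (2 : F) ≠ 0 := by
      intro h0
      have h1 : ((2 : ℕ) : F) = 0 := by exact_mod_cast h0
      have h2 := (CharP.cast_eq_zero_iff F p 2).mp h1
      exact hp2 ((Nat.prime_dvd_prime_iff_eq hppr Nat.prime_two).mp h2)
    constructor
    · intro hL
      left
      refine ⟨rfl, hp2, ?_⟩
      by_contra hcon
      push_neg at hcon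
      obtain ⟨h1, h2⟩ := hcon
      have hmn' : 2 * m = n := le_antisymm hmn h1
      obtain ⟨x, hxSU, hxz, hxns, hxno⟩ := two_nec hq h2F n m hm hmn' h2
      exact hxno (hL x hxSU hxz hxns)
    · rintro (⟨-, -, hcond⟩ | ⟨-, h2lt, -⟩)
      · rintro x hxSU ⟨z, hz⟩ -
        exact two_suff hq h2F n m hn0 hmn hcond x hxSU z hz
      · omega
  · -- r odd
    have hr3 : 2 < r := by
      have := hrpr.two_le
      omega
    have hrodd : r % 2 = 1 := by
      rcases hrpr.eq_two_or_odd with h | h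
      · exact absurd h hr2
      · exact h
    by_cases hi2 : i = 2
    · -- r ∣ q + 1
      have hrq : r ∣ q + 1 := (i_two_iff q r hr2).mp (by rw [← hi]; exact hi2)
      have hb1 : b = 1 := by
        rw [hb, hi2]
        norm_num
      have hc1 : c = 1 := by
        rw [hc, hi2]
        norm_num
      constructor
      · intro hL
        right
        refine ⟨hrp, hr3, by omega, by rw [hb1, hc1, Nat.mod_one, Nat.mod_one], Or.inr ⟨by omega, ?_, Or.inr ⟨hi2, ?_⟩⟩⟩
        · obtain ⟨y, hy, hdet, hns, hfix, hall⟩ := distel_two hq r hrp hr2 hrq n (by omega)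
          obtain ⟨x, hxSU, hxy, hxr⟩ := realize y hy hdet
          have hxns : ∀ z : F, (x : Matrix (Fin n) (Fin n) F) ≠ z • (1 : Matrix (Fin n) (Fin n) F) := by
            intro z hz
            apply hns z
            rw [← hxy, hz, map_smul, Matrix.toLin'_one]
            rfl
          obtain ⟨W, hWd, hWti, hWinv⟩ := hL x hxSU ⟨1, hxr⟩ hxns
          obtain ⟨-, hinv⟩ := std_ctx hn0 x hxSU 1 hxr
          have hWi : HInv y W := by
            rw [← hxy]
            exact (hinv W).mpr hWinv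
          have hWf := hall W hWi hWti
          obtain ⟨-, -, hfnd, -⟩ := split hq hrp hy
          have hhalf := ti_le_half hq (fixS y) W hfnd hWf hWti
          rw [hWd] at hhalf
          rw [hb1, Nat.div_one, Nat.div_one, Nat.div_one]
          omega
        · by_contra hcon
          push_neg at hcon
          obtain ⟨hnm, hval⟩ := hcon
          obtain ⟨x, z, hxSU, hxr, hzns⟩ := ns_elem hq r n hr2 hrq hn0 hval
          have hxns : ∀ z' : F, (x : Matrix (Fin n) (Fin n) F) ≠ z' • (1 : Matrix (Fin n) (Fin n) F) := by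
            intro z' hz'
            apply hzns z'
            have h1 : ((x ^ r : Matrix.SpecialLinearGroup (Fin n) F) : Matrix (Fin n) (Fin n) F) =
                (z' ^ r) • (1 : Matrix (Fin n) (Fin n) F) := by
              rw [Matrix.SpecialLinearGroup.coe_pow, hz', _root_.smul_pow, one_pow]
            rw [hxr] at h1
            have h2 := congrFun (congrFun h1 ⟨0, hn0⟩) ⟨0, hn0⟩
            simp only [Matrix.smul_apply, Matrix.one_apply_eq, smul_eq_mul, mul_one] at h2
            exact h2.symm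
          obtain ⟨W, hWd, hWti, hWinv⟩ := hL x hxSU ⟨z, hxr⟩ hxns
          obtain ⟨hctx, hinv⟩ := std_ctx hn0 x hxSU z hxr
          have hdv := ns_dvd r z hzns _ hctx.pow W ((hinv W).mpr hWinv)
          rw [hWd] at hdv
          exact hnm hdv
      · rintro (⟨h, -, -⟩ | ⟨-, -, -, -, hcase⟩)
        · exact absurd h hr2
        · rcases hcase with h | ⟨-, hsum, hcase2⟩
          · omega
          · have hcase3 : r ∣ m ∨ padicValNat r n ≤ padicValNat r (q + 1) := by
              rcases hcase2 with h | ⟨-, h⟩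
              · omega
              · exact h
            rintro x hxSU ⟨z, hz⟩ hxns
            obtain ⟨hctx, hinv⟩ := std_ctx hn0 x hxSU z hz
            have hzn := z_norm hctx
            suffices hsuf : HTId q (Matrix.toLin' (x : Matrix (Fin n) (Fin n) F)) m by
              obtain ⟨W, h1, h2, h3⟩ := hsuf
              exact ⟨W, h3, h2, (hinv W).mp h1⟩
            rcases split_dich hq r hr2 hrq z hzn with ⟨w, hw1, hwr⟩ | hns
            · obtain ⟨hy, hyinv, -⟩ := scale_ctx hctx w hw1 hwr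
              obtain ⟨W, h1, h2, h3⟩ := s5953main_suff_abs hq hrp hr2 hy m hmn i b c hi hbb hcc
                (by rw [hb1, hc1, Nat.mod_one, Nat.mod_one]) (Or.inr hsum)
              exact ⟨W, (hyinv W).mp h1, h2, h3⟩
            · rcases hcase3 with hrm | hval
              · exact s5953main_ns_suff hq r hrp hr2 hns hctx m hrm hmn
              · exfalso
                have hrn : r ∣ n := by
                  have h1 := ns_dvd r z hns _ hctx.pow ⊤ (fun w _ => Submodule.mem_top)
                  rwa [finrank_top, Module.finrank_fin_fun] at h1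
                have hdet := ns_det r hr2 z hns _ hctx.pow
                rw [LinearMap.det_toLin', Matrix.SpecialLinearGroup.det_coe,
                  Module.finrank_fin_fun] at hdet
                obtain ⟨w, hw1, hwr⟩ := ns_val hq r n hrq hrn hn0 hval z hzn hdet.symm
                exact hns w hwr
    · -- i ≠ 2
      have hnrq : ¬ r ∣ q + 1 := fun h => hi2 (by rw [hi]; exact (i_two_iff q r hr2).mpr h)
      have hcop : Nat.Coprime r (q + 1) := (Nat.Prime.coprime_iff_not_dvd hrpr).mpr hnrq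
      constructor
      · intro hL
        right
        have hall : ∀ y : Module.End F (Fin n → F), HCtx q r 1 y → y ≠ 1 → HTId q y m := by
          intro y hy hy1
          obtain ⟨x, hxSU, hxy, hxr, hxns⟩ := realize_one hq hnrq y hy hy1
          obtain ⟨W, hWd, hWti, hWinv⟩ := hL x hxSU ⟨1, hxr⟩ hxns
          obtain ⟨-, hinv⟩ := std_ctx hn0 x hxSU 1 hxr
          refine ⟨W, ?_, hWti, hWd⟩
          rw [← hxy]
          exact (hinv W).mpr hWinv
        obtain ⟨h1, h2, h3⟩ := s5953main_nec_abs hq r hrp hr2 n m i b c hi hbb hcc hm hmn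
          ⟨a, ha1, ha2, ha3, ha4⟩ hall
        refine ⟨hrp, hr3, h1, h2, ?_⟩
        rcases h3 with h | h
        · left
          exact h
        · by_cases h4 : i % 4 = 2
          · right
            exact ⟨h4, h, Or.inl (by omega)⟩
          · left
            exact h4
      · rintro (⟨h, -, -⟩ | ⟨-, -, hbm, h1, hcase⟩)
        · exact absurd h hr2
        · rintro x hxSU ⟨z, hz⟩ hxns
          obtain ⟨hctx, hinv⟩ := std_ctx hn0 x hxSU z hz
          have hzn := z_norm hctx
          obtain ⟨w, hw1, hwr⟩ := n1_root hcop z hzn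
          obtain ⟨hy, hyinv, -⟩ := scale_ctx hctx w hw1 hwr
          have h2 : i % 4 ≠ 2 ∨ (r - 1) / b + 2 * (m / b) ≤ n / b := by
            rcases hcase with h | ⟨-, h, -⟩
            · exact Or.inl h
            · exact Or.inr h
          obtain ⟨W, hW1, hW2, hW3⟩ := s5953main_suff_abs hq hrp hr2 hy m hmn i b c hi hbb hcc h1 h2
          exact ⟨W, hW3, hW2, (hinv W).mp ((hyinv W).mp hW1)⟩

end Cfsg.Agent.Lib.helper3.S5953
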