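import Mathlib
import Cfsg.Agent.Lib.helper3.S5956.Defs
import Cfsg.Agent.S5960

/-!
# Project S5956, row E1 (even_suff): characteristic 2 sufficiency from helper15's `S5960.struct`
-/

set_option autoImplicit false
set_option linter.unusedVariables false

namespace Cfsg.Agent.Lib.helper3.S5956

open Polynomial Module
open Cfsg.Agent.Lib.Helper13.S5955 Cfsg.Agent.Lib.Helper24
open Cfsg.Agent.Lib.helper6 Cfsg.Agent.Lib.helper6.SB

/-- any `x` with `x ^ 2` scalar (any characteristic): invariant nondegenerate subspaces of dimension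
`4 i + 2 j` for `i ≤ s`, `j ≤ f`, where `2 s + f = d` -/
theorem s5956e1_struct {F : Type*} [Field F] (d : ℕ) (hd : 1 ≤ d)
    (x : ↥(Matrix.symplecticGroup (Fin d) F)) (z : F)
    (hx : ((x ^ 2 : ↥(Matrix.symplecticGroup (Fin d) F)) :
      Matrix (Fin d ⊕ Fin d) (Fin d ⊕ Fin d) F) = z • (1 : Matrix (Fin d ⊕ Fin d) (Fin d ⊕ Fin d) F)) :
    ∃ s f : ℕ, 2 * s + f = d ∧ ∀ i ≤ s, ∀ j ≤ f,
      ∃ W : Submodule F (Fin d ⊕ Fin d → F), Module.finrank F ↥W = 4 * i + 2 * j ∧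
        (∀ u ∈ W, u ≠ 0 → ∃ v ∈ W, Cfsg.sympForm d F u v ≠ 0) ∧
        W.map (Matrix.toLin' (x : Matrix (Fin d ⊕ Fin d) (Fin d ⊕ Fin d) F)) ≤ W := by
  have hxx : (x : Matrix (Fin d ⊕ Fin d) (Fin d ⊕ Fin d) F) *
      (x : Matrix (Fin d ⊕ Fin d) (Fin d ⊕ Fin d) F) = z • 1 := by
    rw [← hx, SubmonoidClass.coe_pow, pow_two]
  have hX : ∀ v, Matrix.toLin' (x : Matrix (Fin d ⊕ Fin d) (Fin d ⊕ Fin d) F)
      (Matrix.toLin' (x : Matrix (Fin d ⊕ Fin d) (Fin d ⊕ Fin d) F) v) = z • v := by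
    intro v
    rw [Matrix.toLin'_apply, Matrix.toLin'_apply, Matrix.mulVec_mulVec, hxx,
      Matrix.smul_mulVec, Matrix.one_mulVec]
  have hω : ∀ u v, Cfsg.sympForm d F
      (Matrix.toLin' (x : Matrix (Fin d ⊕ Fin d) (Fin d ⊕ Fin d) F) u)
      (Matrix.toLin' (x : Matrix (Fin d ⊕ Fin d) (Fin d ⊕ Fin d) F) v) = Cfsg.sympForm d F u v := by
    intro u v
    rw [Matrix.toLin'_apply, Matrix.toLin'_apply]
    exact (mem_symplecticGroup_iff_sympForm d _).mp x.2 u v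
  have hz0 : z ≠ 0 := by
    rintro rfl
    have hu0 : (Pi.single (Sum.inl ⟨0, by omega⟩) 1 : Fin d ⊕ Fin d → F) ≠ 0 := by
      intro h
      have := congrFun h (Sum.inl ⟨0, by omega⟩)
      simp at this
    obtain ⟨v₀, hv₀⟩ := sympForm_nondeg d _ hu0
    have e := (hω
      (Matrix.toLin' (x : Matrix (Fin d ⊕ Fin d) (Fin d ⊕ Fin d) F) (Pi.single (Sum.inl ⟨0, by omega⟩) 1))
      (Matrix.toLin' (x : Matrix (Fin d ⊕ Fin d) (Fin d ⊕ Fin d) F) v₀)).trans (hω _ _)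
    rw [hX, zero_smul, sympForm_zero_left] at e
    exact hv₀ e.symm
  have htop_nd : Cfsg.Agent.S5960.ND d (⊤ : Submodule F (Fin d ⊕ Fin d → F)) := by
    intro u _ hu
    by_contra hne
    obtain ⟨v, hv⟩ := sympForm_nondeg d u hne
    exact hv (hu v trivial)
  have hdimtop : Module.finrank F (⊤ : Submodule F (Fin d ⊕ Fin d → F)) = 2 * d := by
    rw [finrank_top, Module.finrank_fintype_fun_eq_card, Fintype.card_sum, Fintype.card_fin]
    ring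
  obtain ⟨s, f, hsf, hA, _⟩ := Cfsg.Agent.S5960.struct d
    (Matrix.toLin' (x : Matrix (Fin d ⊕ Fin d) (Fin d ⊕ Fin d) F)) z hz0 hX hω d ⊤
    (fun _ _ => trivial) htop_nd hdimtop
  refine ⟨s, f, hsf, fun i hi j hj => ?_⟩
  obtain ⟨D, _, hDinv, hDnd, hDd⟩ := hA i hi j hj
  refine ⟨D, hDd, ?_, ?_⟩
  · intro u hu hu0
    by_contra hcon
    push Not at hcon
    exact hu0 (hDnd u hu hcon)
  · rintro _ ⟨v, hv, rfl⟩
    exact hDinv v hv

/-- E1 [M] EVENSUFF: characteristic 2 sufficiency (helper15's `Cfsg.Agent.S5960.struct`). -/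
theorem even_suff {F : Type*} [Field F] [CharP F 2] (d m : ℕ) (hme : Even m) (hmd : m ≤ d)
    (hcond : (2 * d) % 4 = 2 ∨ m % 4 = 0)
    (x : ↥(Matrix.symplecticGroup (Fin d) F)) (z : F)
    (hx : ((x ^ 2 : ↥(Matrix.symplecticGroup (Fin d) F)) :
      Matrix (Fin d ⊕ Fin d) (Fin d ⊕ Fin d) F) = z • (1 : Matrix (Fin d ⊕ Fin d) (Fin d ⊕ Fin d) F)) :
    ∃ W : Submodule F (Fin d ⊕ Fin d → F), Module.finrank F ↥W = m ∧
      (∀ u ∈ W, u ≠ 0 → ∃ v ∈ W, Cfsg.sympForm d F u v ≠ 0) ∧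
      W.map (Matrix.toLin' (x : Matrix (Fin d ⊕ Fin d) (Fin d ⊕ Fin d) F)) ≤ W := by
  rcases Nat.eq_zero_or_pos d with hd0 | hd1
  · have hm0 : m = 0 := by omega
    refine ⟨⊥, by rw [finrank_bot, hm0], ?_, by simp⟩
    intro u hu hu0
    exact absurd ((Submodule.mem_bot F).mp hu) hu0
  obtain ⟨s, f, hsf, hA⟩ := s5956e1_struct d hd1 x z hx
  obtain ⟨μ, hμ⟩ := hme
  -- m = 2 μ', need 2 i + j = μ'
  have key : ∃ i j : ℕ, i ≤ s ∧ j ≤ f ∧ 4 * i + 2 * j = m := by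
    by_cases hs : μ / 2 ≤ s
    · refine ⟨μ / 2, μ % 2, hs, ?_, by omega⟩
      rcases hcond with h1 | h1
      · have : f % 2 = 1 := by omega
        omega
      · have : μ % 2 = 0 := by omega
        omega
    · refine ⟨s, μ - 2 * s, le_rfl, by omega, by omega⟩
  obtain ⟨i, j, hi, hj, hij⟩ := key
  obtain ⟨W, hWd, hWnd, hWinv⟩ := hA i hi j hj
  exact ⟨W, hWd.trans hij, hWnd, hWinv⟩

end Cfsg.Agent.Lib.helper3.S5956
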