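import Mathlib
import Cfsg.Agent.Lib.helper3.S5956.Defs
import Cfsg.Agent.Lib.Helper5.S5955T7
import Cfsg.Agent.Lib.Lead.S5955T2

/-!
# Project S5956, row E2 (alt_invol_bound): characteristic 2, `B v (x v) = 0`: rank bound on a
nondegenerate invariant subspace of dimension `≡ 2 (mod 4)`
-/

set_option autoImplicit false
set_option linter.unusedVariables false

namespace Cfsg.Agent.Lib.helper3.S5956

open Polynomial Module
open Cfsg.Agent.Lib.Helper13.S5955 Cfsg.Agent.Lib.Helper24

/-- the general statement: the rank `ρ` of `x - 1` on `W` is even and `2 ρ ≤ dim W` -/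
theorem s5956e2_rank {F : Type*} [Field F] [CharP F 2] {V : Type*} [AddCommGroup V]
    [Module F V] [FiniteDimensional F V] {B : LinearMap.BilinForm F V} {x : Module.End F V}
    (h : SCtx 2 B x) (hax : ∀ v, B v (x v) = 0) (W : Submodule F V) (hW : SInv x W)
    (hWnd : SND B W) :
    Even (finrank F (W.map (x - 1))) ∧ 2 * finrank F (W.map (x - 1)) ≤ finrank F W := by
  have h2 : (2 : F) = 0 := by
    have := CharP.cast_eq_zero F 2
    exact_mod_cast this
  set T : Module.End F V := x - 1 with hT
  have hTT : ∀ v, T (T v) = 0 := by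
    intro v
    have hxx : x (x v) = v := by
      have := congrArg (fun f : Module.End F V => f v) h.pow
      simpa [pow_two] using this
    have : T (T v) = x (x v) - (2 : F) • x v + v := by
      simp only [hT, LinearMap.sub_apply, Module.End.one_apply, map_sub]
      rw [two_smul]
      abel
    rw [this, hxx, h2, zero_smul, sub_zero]
    have h2v : (2 : F) • v = 0 := by rw [h2, zero_smul]
    rw [two_smul] at h2v
    exact h2v
  have hTW : ∀ w ∈ W, T w ∈ W := fun w hw => W.sub_mem (hW w hw) hw
  -- kernel of T in W and a complement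
  set K : Submodule F V := W ⊓ LinearMap.ker T with hK
  obtain ⟨Q, hQ⟩ := Submodule.exists_isCompl K
  set C : Submodule F V := Q ⊓ W with hC
  have hKW : K ≤ W := inf_le_left
  have hCW : C ≤ W := inf_le_right
  have hsup : K ⊔ C = W := by
    rw [hC, ← sup_inf_assoc_of_le Q hKW, hQ.sup_eq_top, top_inf_eq]
  have hinf : K ⊓ C = ⊥ := by
    rw [eq_bot_iff]
    intro v hv
    have := hQ.disjoint.le_bot (Submodule.mem_inf.mpr ⟨hv.1, hv.2.1⟩)
    exact this
  have hdim : finrank F K + finrank F C = finrank F W := by
    have := Submodule.finrank_sup_add_finrank_inf_eq K C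
    rw [hsup, hinf, finrank_bot, add_zero] at this
    exact this.symm
  -- the image of W is the image of C, of the same dimension as C
  have hmap : W.map T = C.map T := by
    apply le_antisymm
    · rintro _ ⟨w, hw, rfl⟩
      rw [← hsup] at hw
      obtain ⟨k, hk, c, hc, rfl⟩ := Submodule.mem_sup.mp hw
      have : T k = 0 := LinearMap.mem_ker.mp hk.2
      rw [map_add, this, zero_add]
      exact Submodule.mem_map_of_mem hc
    · exact Submodule.map_mono hCW
  have hinj : Function.Injective (T.domRestrict C) := by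
    rw [← LinearMap.ker_eq_bot, LinearMap.ker_eq_bot']
    intro c hc
    have hc0 : T (c : V) = 0 := hc
    have : (c : V) ∈ K ⊓ C := Submodule.mem_inf.mpr
      ⟨Submodule.mem_inf.mpr ⟨hCW c.2, LinearMap.mem_ker.mpr hc0⟩, c.2⟩
    rw [hinf] at this
    exact Subtype.ext ((Submodule.mem_bot F).mp this)
  have hrank : finrank F (W.map T) = finrank F C := by
    rw [hmap, ← LinearMap.range_domRestrict, LinearMap.finrank_range_of_inj hinj]
  -- the image lies in K
  have hle : finrank F (W.map T) ≤ finrank F K := by
    apply Submodule.finrank_mono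
    rintro _ ⟨w, hw, rfl⟩
    exact Submodule.mem_inf.mpr ⟨hTW w hw, LinearMap.mem_ker.mpr (hTT w)⟩
  -- the alternating form γ(u, v) = B u (T v)
  set γ : LinearMap.BilinForm F V := B.compl₂ T with hγ
  have hγa : ∀ u v, γ u v = B u (T v) := fun u v => rfl
  have hγalt : ∀ v, γ v v = 0 := by
    intro v
    rw [hγa, hT, LinearMap.sub_apply, Module.End.one_apply, map_sub, hax, h.alt, sub_zero]
  have hγnd : SND γ C := by
    intro u hu hz
    have hall : ∀ w ∈ W, γ u w = 0 := by
      intro w hw
      rw [← hsup] at hw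
      obtain ⟨k, hk, c, hc, rfl⟩ := Submodule.mem_sup.mp hw
      have hk0 : T k = 0 := LinearMap.mem_ker.mp hk.2
      rw [map_add, hγa u k, hk0, map_zero, zero_add]
      exact hz c hc
    have hTu : T u = 0 := by
      apply hWnd _ (hTW u (hCW hu))
      intro w hw
      rw [s5955t2_skew B h.alt, ← hγa, s5955t2_skew γ hγalt, hall w hw, neg_zero, neg_zero]
    have : u ∈ K ⊓ C := Submodule.mem_inf.mpr
      ⟨Submodule.mem_inf.mpr ⟨hCW hu, LinearMap.mem_ker.mpr hTu⟩, hu⟩
    rw [hinf] at this
    exact (Submodule.mem_bot F).mp this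
  have heven : Even (finrank F C) := nd_even γ hγalt C hγnd
  refine ⟨hrank ▸ heven, ?_⟩
  omega

/-- E2 [M] ALTBOUND: characteristic 2, `B v (x v) = 0` for all `v`: on a nondegenerate invariant
`W` of dimension `≡ 2 (mod 4)` the rank of `x - 1` is at most `dim W / 2 - 1` (it is even, being
the rank of the alternating form `B u ((x - 1) v)`, and at most `dim W / 2`). -/
theorem alt_invol_bound {F : Type*} [Field F] [CharP F 2] {V : Type*} [AddCommGroup V]
    [Module F V] [FiniteDimensional F V] {B : LinearMap.BilinForm F V} {x : Module.End F V}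
    (h : SCtx 2 B x) (hax : ∀ v, B v (x v) = 0) (W : Submodule F V) (hW : SInv x W)
    (hWnd : SND B W) (hodd : finrank F W % 4 = 2) :
    2 * finrank F (W.map (x - 1)) + 2 ≤ finrank F W := by
  obtain ⟨⟨t, ht⟩, hle⟩ := s5956e2_rank h hax W hW hWnd
  omega

end Cfsg.Agent.Lib.helper3.S5956
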