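import Mathlib
import Cfsg.Agent.Lib.helper3.S5956.Defs
import Cfsg.Agent.Lib.helper3.S5956E2
import Cfsg.Agent.Lib.helper6.SympBasis
import Cfsg.Agent.Lib.helper7.S5955T4
import Cfsg.Agent.Lib.helper8.S5955X1

/-!
# Project S5956, row E3 (even_nec): characteristic 2, `d` even, `m ≡ 2 (mod 4)`: a bad involution
-/

set_option autoImplicit false
set_option linter.unusedVariables false
set_option linter.unusedSectionVars false

namespace Cfsg.Agent.Lib.helper3.S5956

open Polynomial Module
open Cfsg.Agent.Lib.Helper13.S5955 Cfsg.Agent.Lib.Helper24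
open Cfsg.Agent.Lib.helper6 Cfsg.Agent.Lib.helper6.SB
open Matrix

/-- swap `2j ↔ 2j + 1` -/
def s5956e3_flip (n : ℕ) : ℕ := if n % 2 = 0 then n + 1 else n - 1

theorem s5956e3_flip_flip (n : ℕ) : s5956e3_flip (s5956e3_flip n) = n := by
  unfold s5956e3_flip
  split_ifs <;> omega

theorem s5956e3_flip_ne (n : ℕ) : s5956e3_flip n ≠ n := by
  unfold s5956e3_flip
  split_ifs <;> omega

theorem s5956e3_flip_lt (d n : ℕ) (hd : d % 2 = 0) (hn : n < d) : s5956e3_flip n < d := by
  unfold s5956e3_flip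
  split_ifs <;> omega

/-- the fixed-point-free involution of `Fin d`, `d` even -/
def s5956e3_sig (d : ℕ) (hd : d % 2 = 0) (a : Fin d) : Fin d :=
  ⟨s5956e3_flip a, s5956e3_flip_lt d a hd a.2⟩

theorem s5956e3_sig_sig (d : ℕ) (hd : d % 2 = 0) (a : Fin d) :
    s5956e3_sig d hd (s5956e3_sig d hd a) = a := by
  apply Fin.ext
  exact s5956e3_flip_flip a

theorem s5956e3_sig_ne (d : ℕ) (hd : d % 2 = 0) (a : Fin d) : s5956e3_sig d hd a ≠ a := by
  intro h
  exact s5956e3_flip_ne a (congrArg Fin.val h)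

section elt
variable {F : Type*} [Field F] (d : ℕ) (hd : d % 2 = 0)

/-- the linear map `(a, b) ↦ (a + S b, b)`, `S` the permutation matrix of the involution -/
def s5956e3_y : Module.End F (Fin d ⊕ Fin d → F) where
  toFun v := fun k => Sum.elim (fun a => v (Sum.inl a) + v (Sum.inr (s5956e3_sig d hd a)))
    (fun a => v (Sum.inr a)) k
  map_add' u v := by
    funext k
    rcases k with a | a
    · simp only [Sum.elim_inl, Pi.add_apply]; ring
    · simp only [Sum.elim_inr, Pi.add_apply]
  map_smul' c v := by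
    funext k
    rcases k with a | a
    · simp only [Sum.elim_inl, Pi.smul_apply, smul_eq_mul, RingHom.id_apply]; ring
    · simp only [Sum.elim_inr, Pi.smul_apply, smul_eq_mul, RingHom.id_apply]

theorem s5956e3_y_inl (v : Fin d ⊕ Fin d → F) (a : Fin d) :
    s5956e3_y (F := F) d hd v (Sum.inl a) = v (Sum.inl a) + v (Sum.inr (s5956e3_sig d hd a)) := rfl

theorem s5956e3_y_inr (v : Fin d ⊕ Fin d → F) (a : Fin d) :
    s5956e3_y (F := F) d hd v (Sum.inr a) = v (Sum.inr a) := rfl

/-- sums over the involution -/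
theorem s5956e3_sum_sig (f : Fin d → F) :
    ∑ a, f (s5956e3_sig d hd a) = ∑ a, f a := by
  apply Fintype.sum_equiv (Function.Involutive.toPerm (s5956e3_sig d hd) (s5956e3_sig_sig d hd))
  intro a
  rfl

/-- `y` preserves the form -/
theorem s5956e3_pres (u v : Fin d ⊕ Fin d → F) :
    Cfsg.sympForm d F (s5956e3_y d hd u) (s5956e3_y d hd v) = Cfsg.sympForm d F u v := by
  rw [sympForm_eq_sum, sympForm_eq_sum]
  simp only [s5956e3_y_inl, s5956e3_y_inr]
  have h1 : ∑ a, u (Sum.inr a) * v (Sum.inr (s5956e3_sig d hd a)) =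
      ∑ a, u (Sum.inr (s5956e3_sig d hd a)) * v (Sum.inr a) := by
    rw [← s5956e3_sum_sig d hd (fun a => u (Sum.inr a) * v (Sum.inr (s5956e3_sig d hd a)))]
    apply Finset.sum_congr rfl
    intro a _
    rw [s5956e3_sig_sig]
  have h2 : ∀ a : Fin d,
      u (Sum.inr a) * (v (Sum.inl a) + v (Sum.inr (s5956e3_sig d hd a))) -
        (u (Sum.inl a) + u (Sum.inr (s5956e3_sig d hd a))) * v (Sum.inr a) =
      (u (Sum.inr a) * v (Sum.inl a) - u (Sum.inl a) * v (Sum.inr a)) +
        (u (Sum.inr a) * v (Sum.inr (s5956e3_sig d hd a)) -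
          u (Sum.inr (s5956e3_sig d hd a)) * v (Sum.inr a)) := by
    intro a; ring
  have h3 : ∑ a, (u (Sum.inr a) * v (Sum.inr (s5956e3_sig d hd a)) -
      u (Sum.inr (s5956e3_sig d hd a)) * v (Sum.inr a)) = 0 := by
    rw [Finset.sum_sub_distrib, h1, sub_self]
  simp only [h2, Finset.sum_add_distrib, h3, add_zero]

end elt

section char2
variable {F : Type*} [Field F] [CharP F 2] (d : ℕ) (hd : d % 2 = 0)

theorem s5956e3_two : (2 : F) = 0 := by
  have := CharP.cast_eq_zero F 2
  exact_mod_cast this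

/-- `y * y = 1` in characteristic 2 -/
theorem s5956e3_sq (v : Fin d ⊕ Fin d → F) :
    s5956e3_y (F := F) d hd (s5956e3_y d hd v) = v := by
  funext k
  rcases k with a | a
  · rw [s5956e3_y_inl, s5956e3_y_inl, s5956e3_y_inr]
    have h2 : (2 : F) = 0 := s5956e3_two
    linear_combination (v (Sum.inr (s5956e3_sig d hd a))) * h2
  · rw [s5956e3_y_inr, s5956e3_y_inr]

/-- `B v (y v) = 0` in characteristic 2 -/
theorem s5956e3_ax (v : Fin d ⊕ Fin d → F) :
    Cfsg.sympForm d F v (s5956e3_y d hd v) = 0 := by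
  rw [sympForm_eq_sum]
  simp only [s5956e3_y_inl, s5956e3_y_inr]
  have h2 : ∀ a : Fin d,
      v (Sum.inr a) * (v (Sum.inl a) + v (Sum.inr (s5956e3_sig d hd a))) -
        v (Sum.inl a) * v (Sum.inr a) = v (Sum.inr a) * v (Sum.inr (s5956e3_sig d hd a)) := by
    intro a; ring
  simp only [h2]
  apply Finset.sum_involution (fun a _ => s5956e3_sig d hd a)
  · intro a _
    rw [s5956e3_sig_sig]
    have h2 : (2 : F) = 0 := s5956e3_two
    linear_combination (v (Sum.inr a) * v (Sum.inr (s5956e3_sig d hd a))) * h2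
  · intro a _ _
    exact s5956e3_sig_ne d hd a
  · intro a _
    exact Finset.mem_univ _
  · intro a _
    exact s5956e3_sig_sig d hd a

end char2

/-- E3 [M-L] EVENNEC: characteristic 2, `d` even, `m ≡ 2 (mod 4)`: the involution
`[[1, S], [0, 1]]`, `S` alternating invertible, fixes no nondegenerate `m`-space. -/
theorem even_nec {F : Type*} [Field F] [CharP F 2] (d m : ℕ) (hd1 : 1 ≤ d)
    (hd : (2 * d) % 4 = 0) (hm : m % 4 = 2) (hmd : m ≤ 2 * d) :
    ∃ x : ↥(Matrix.symplecticGroup (Fin d) F),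
      ((x ^ 2 : ↥(Matrix.symplecticGroup (Fin d) F)) :
        Matrix (Fin d ⊕ Fin d) (Fin d ⊕ Fin d) F) =
          (1 : F) • (1 : Matrix (Fin d ⊕ Fin d) (Fin d ⊕ Fin d) F) ∧
      (∀ z : F, (x : Matrix (Fin d ⊕ Fin d) (Fin d ⊕ Fin d) F) ≠
        z • (1 : Matrix (Fin d ⊕ Fin d) (Fin d ⊕ Fin d) F)) ∧
      ¬ ∃ W : Submodule F (Fin d ⊕ Fin d → F), Module.finrank F ↥W = m ∧
        (∀ u ∈ W, u ≠ 0 → ∃ v ∈ W, Cfsg.sympForm d F u v ≠ 0) ∧
        W.map (Matrix.toLin' (x : Matrix (Fin d ⊕ Fin d) (Fin d ⊕ Fin d) F)) ≤ W := by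
  have hde : d % 2 = 0 := by omega
  set y : Module.End F (Fin d ⊕ Fin d → F) := s5956e3_y d hde with hy
  set A : Matrix (Fin d ⊕ Fin d) (Fin d ⊕ Fin d) F := LinearMap.toMatrix' y with hA
  have hAy : Matrix.toLin' A = y := Matrix.toLin'_toMatrix' y
  have hAmul : ∀ v, A *ᵥ v = y v := fun v => by rw [← Matrix.toLin'_apply, hAy]
  have hAmem : A ∈ Matrix.symplecticGroup (Fin d) F := by
    rw [mem_symplecticGroup_iff_sympForm]
    intro u v
    rw [hAmul, hAmul]
    exact s5956e3_pres d hde u v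
  have hyy : y * y = 1 := by
    apply LinearMap.ext
    intro v
    rw [Module.End.mul_apply, Module.End.one_apply]
    exact s5956e3_sq d hde v
  have hAA : A * A = 1 := by
    rw [hA, ← LinearMap.toMatrix'_mul, hyy, LinearMap.toMatrix'_one]
  -- the abstract context
  have hctx : SCtx 2 (stdB d F) y := by
    refine ⟨(stdB_alt_nd d).1, (stdB_alt_nd d).2, ?_, by rw [pow_two, hyy]⟩
    intro u v
    rw [stdB_apply, stdB_apply]
    exact s5956e3_pres d hde u v
  have hax : ∀ v, stdB d F v (y v) = 0 := fun v => by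
    rw [stdB_apply]; exact s5956e3_ax d hde v
  -- the rank of y - 1 is d
  have hrank : d ≤ finrank F ((⊤ : Submodule F (Fin d ⊕ Fin d → F)).map (y - 1)) := by
    -- the injective map b ↦ (y - 1) (0, b ∘ σ)
    let g : (Fin d → F) →ₗ[F] (Fin d ⊕ Fin d → F) :=
      { toFun := fun c => (y - 1) (fun k => Sum.elim (fun _ => 0) (fun a => c (s5956e3_sig d hde a)) k)
        map_add' := by
          intro c c'
          rw [← map_add]
          congr 1
          funext k
          rcases k with a | a <;> simp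
        map_smul' := by
          intro t c
          rw [RingHom.id_apply, ← map_smul]
          congr 1
          funext k
          rcases k with a | a <;> simp }
    have hg : ∀ (c : Fin d → F) (a : Fin d), g c (Sum.inl a) = c a := by
      intro c a
      show ((y - 1) _) (Sum.inl a) = c a
      rw [LinearMap.sub_apply, Module.End.one_apply, Pi.sub_apply, hy, s5956e3_y_inl]
      simp [s5956e3_sig_sig]
    have hginj : Function.Injective g := by
      intro c c' hcc
      funext a
      rw [← hg c a, ← hg c' a, hcc]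
    have hle : LinearMap.range g ≤ (⊤ : Submodule F (Fin d ⊕ Fin d → F)).map (y - 1) := by
      rintro _ ⟨c, rfl⟩
      exact Submodule.mem_map_of_mem Submodule.mem_top
    have := Submodule.finrank_mono hle
    rw [LinearMap.finrank_range_of_inj hginj, Module.finrank_fin_fun] at this
    exact this
  refine ⟨⟨A, hAmem⟩, ?_, ?_, ?_⟩
  · rw [SubmonoidClass.coe_pow, pow_two]
    show A * A = (1 : F) • 1
    rw [hAA, one_smul]
  · intro z hz
    have hz' : A = z • 1 := hz
    -- evaluate on the basis vector e_{inr 0}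
    have hd0 : 0 < d := hd1
    set e : Fin d ⊕ Fin d → F := Pi.single (Sum.inr (⟨0, hd0⟩ : Fin d)) 1 with he
    have h1 := hAmul e
    rw [hz', Matrix.smul_mulVec, Matrix.one_mulVec] at h1
    have h2 := congrFun h1 (Sum.inl (s5956e3_sig d hde ⟨0, hd0⟩))
    rw [hy, s5956e3_y_inl, s5956e3_sig_sig, Pi.smul_apply, he] at h2
    simp at h2
  · rintro ⟨W, hWd, hWnd, hWinv⟩
    rw [hAy] at hWinv
    have hWinv' : SInv y W := (el_inv_iff y W).mp hWinv
    have hWnd' : SND (stdB d F) W := (nd_iff_snd d W).mp hWnd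
    have htop_inv : SInv y (⊤ : Submodule F (Fin d ⊕ Fin d → F)) := fun _ _ => Submodule.mem_top
    have htop_nd : SND (stdB d F) (⊤ : Submodule F (Fin d ⊕ Fin d → F)) :=
      fun u _ hu => hctx.nd u (fun v => hu v Submodule.mem_top)
    obtain ⟨W', _, hW'inv, hW'nd, _, hdisj, hW'd⟩ := peel_nd (by norm_num : 0 < 2) hctx ⊤ W
      htop_inv htop_nd le_top hWinv' hWnd'
    have hfr : finrank F (⊤ : Submodule F (Fin d ⊕ Fin d → F)) = 2 * d := by
      rw [finrank_top, Module.finrank_fintype_fun_eq_card, Fintype.card_sum, Fintype.card_fin]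
      ring
    rw [hfr, hWd] at hW'd
    have hsup : W ⊔ W' = ⊤ := by
      apply Submodule.eq_top_of_finrank_eq
      have := Submodule.finrank_sup_add_finrank_inf_eq W W'
      rw [hdisj.eq_bot, finrank_bot, add_zero, hWd] at this
      rw [this, Module.finrank_fintype_fun_eq_card, Fintype.card_sum, Fintype.card_fin]
      omega
    have hb1 := alt_invol_bound hctx hax W hWinv' hWnd' (by rw [hWd]; exact hm)
    have hb2 := alt_invol_bound hctx hax W' hW'inv hW'nd (by omega)
    have hmapsup : (⊤ : Submodule F (Fin d ⊕ Fin d → F)).map (y - 1) =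
        W.map (y - 1) ⊔ W'.map (y - 1) := by
      rw [← hsup, Submodule.map_sup]
    have hle := Submodule.finrank_add_le_finrank_add_finrank (W.map (y - 1)) (W'.map (y - 1))
    rw [← hmapsup] at hle
    omega

end Cfsg.Agent.Lib.helper3.S5956
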