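import Mathlib
import Cfsg.Agent.S3589

/-!
# S8U helper (helper3): `g ∈ GO⁻₈(q)`, `q` even, with `rank (g - 1)` even and norm element
`Σ_{i < |g|} g^i ≠ 0`: then `2 |g|` divides some `N ∈ T8 q`, hence is an element order of `GO⁻₈(q)` and of `PSp 4 F`.

Route (no Jordan decomposition): `Σ_{i<n} X^i = (X-1)^(2^a-1) Ψ` in characteristic 2 (`n = 2^a m`), so
`(g-1)^(2^a-1) ≠ 0` on `ker (g-1)^(2^a)`; with `dim ker (g-1) ≥ 2` the kernels of the powers of `g-1` grow strictly up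
to `2^a`, so the multiplicity `2k` of `X+1` in the characteristic polynomial is `> 2^a`; SO8's PEEL1 + STRUCT1 + ARITH
give `N = m 2^t ∈ T8 q` with `g^N = 1` and `2k ≤ 2^t`, hence `2^(a+1) ∣ N`.
-/

set_option autoImplicit false

namespace Cfsg.Agent.Lib.helper3.S8UUP

open Polynomial Matrix Cfsg.Agent.Lib.Helper19.SO8 Cfsg.Agent.Lib.Helper13.OTS



/-- characteristic 2: `Σ_{i < 2^a m} X^i = (X - 1)^(2^a - 1) (Σ_{i<m} X^i)^(2^a)` -/
theorem s8uup_geom {F : Type*} [Field F] [CharP F 2] (a m : ℕ) :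
    (∑ i ∈ Finset.range (2 ^ a * m), (X : F[X]) ^ i) =
      (X - 1) ^ (2 ^ a - 1) * (∑ i ∈ Finset.range m, (X : F[X]) ^ i) ^ (2 ^ a) := by
  have hX : (X - 1 : F[X]) ≠ 0 := by
    have := X_sub_C_ne_zero (1 : F)
    simpa using this
  apply mul_left_cancel₀ hX
  have hpos : 0 < 2 ^ a := Nat.two_pow_pos a
  rw [mul_geom_sum, ← mul_assoc, ← pow_succ', Nat.sub_add_cancel hpos, ← mul_pow, mul_geom_sum,
    sub_pow_char_pow, one_pow, ← pow_mul, mul_comm m]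

section LinAlg

variable {F : Type*} [Field F] [CharP F 2] {V : Type*} [AddCommGroup V] [Module F V]

theorem s8uup_vec (f : Module.End F V) (a m : ℕ) (hf : f ^ (2 ^ a * m) = 1)
    (hS : ∑ i ∈ Finset.range (2 ^ a * m), f ^ i ≠ 0) :
    ∃ v : V, ((f - 1) ^ (2 ^ a - 1) : Module.End F V) v ≠ 0 ∧
      ((f - 1) ^ (2 ^ a) : Module.End F V) v = 0 := by
  have hne : ∃ u : V, (∑ i ∈ Finset.range (2 ^ a * m), f ^ i) u ≠ 0 := by
    by_contra h
    push Not at h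
    exact hS (LinearMap.ext h)
  obtain ⟨u, hu⟩ := hne
  have hg := congrArg (aeval f) (s8uup_geom (F := F) a m)
  rw [map_sum, map_mul, map_pow, map_pow, map_sub, aeval_X, map_one, map_sum] at hg
  simp only [map_pow, aeval_X] at hg
  refine ⟨((∑ i ∈ Finset.range m, f ^ i) ^ (2 ^ a)) u, ?_, ?_⟩
  · rw [← Module.End.mul_apply, ← hg]
    exact hu
  · have hpos : 0 < 2 ^ a := Nat.two_pow_pos a
    have h1 : (f - 1) ^ (2 ^ a) = (f - 1) * (f - 1) ^ (2 ^ a - 1) := by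
      rw [← pow_succ', Nat.sub_add_cancel hpos]
    rw [h1, Module.End.mul_apply, ← Module.End.mul_apply ((f - 1) ^ (2 ^ a - 1)), ← hg,
      ← Module.End.mul_apply, mul_geom_sum, hf, sub_self]
    rfl

theorem s8uup_mult [FiniteDimensional F V] (f : Module.End F V) (a m : ℕ)
    (hf : f ^ (2 ^ a * m) = 1) (hS : ∑ i ∈ Finset.range (2 ^ a * m), f ^ i ≠ 0)
    (hfix : 2 ≤ Module.finrank F (LinearMap.ker (f - 1))) :
    2 ^ a + 1 ≤ f.charpoly.rootMultiplicity 1 := by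
  obtain ⟨v, hv1, hv2⟩ := s8uup_vec f a m hf hS
  set D := f - 1 with hD
  have hstep : ∀ j, j + 1 ≤ 2 ^ a →
      Module.finrank F (LinearMap.ker (D ^ j)) + 1 ≤ Module.finrank F (LinearMap.ker (D ^ (j + 1))) := by
    intro j hj
    have hle : LinearMap.ker (D ^ j) ≤ LinearMap.ker (D ^ (j + 1)) := by
      intro x hx
      rw [LinearMap.mem_ker] at hx ⊢
      rw [pow_succ', Module.End.mul_apply, hx, map_zero]
    have hlt : LinearMap.ker (D ^ j) < LinearMap.ker (D ^ (j + 1)) := by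
      refine lt_of_le_of_ne hle ?_
      intro he
      have hw : (D ^ (2 ^ a - 1 - j)) v ∈ LinearMap.ker (D ^ (j + 1)) := by
        rw [LinearMap.mem_ker, ← Module.End.mul_apply, ← pow_add]
        have : j + 1 + (2 ^ a - 1 - j) = 2 ^ a := by omega
        rw [this]
        exact hv2
      rw [← he, LinearMap.mem_ker, ← Module.End.mul_apply, ← pow_add] at hw
      have : j + (2 ^ a - 1 - j) = 2 ^ a - 1 := by omega
      rw [this] at hw
      exact hv1 hw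
    exact Submodule.finrank_lt_finrank_of_lt hlt
  have hind : ∀ j, j + 1 ≤ 2 ^ a →
      Module.finrank F (LinearMap.ker D) + j ≤ Module.finrank F (LinearMap.ker (D ^ (j + 1))) := by
    intro j
    induction j with
    | zero => intro _; rw [zero_add, pow_one, add_zero]
    | succ j ih =>
      intro hj
      have := ih (by omega)
      have := hstep (j + 1) hj
      omega
  have hpos : 0 < 2 ^ a := Nat.two_pow_pos a
  have h1 := hind (2 ^ a - 1) (by omega)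
  rw [Nat.sub_add_cancel hpos] at h1
  have h2 := LinearMap.finrank_genEigenspace_le f (1 : F) (2 ^ a)
  rw [Module.End.genEigenspace_nat, one_smul, ← hD] at h2
  have h3 : 2 ^ a - 1 + 1 = 2 ^ a := Nat.sub_add_cancel hpos
  omega




end LinAlg

theorem s8uup_core {F : Type*} [Field F] [Fintype F] [CharP F 2]
    (hP : ∀ (χ : F[X]), χ ≠ 0 → χ.reverse = χ → Even χ.natDegree →
      ∃ (k : ℕ) (g : F[X]), χ = (X + 1) ^ (2 * k) * g ∧ g.eval 1 ≠ 0 ∧ g.reverse = g)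
    (hS1 : ∀ (n : ℕ) (g : F[X]), g ≠ 0 → g.reverse = g → g.eval 1 ≠ 0 → g.natDegree = 2 * n →
      ∃ w : ℕ → Bool → ℕ, (∑ e ∈ Finset.range (n + 1), e * (w e true + w e false) = n) ∧
        (∀ e ε, w e ε ≠ 0 → 1 ≤ e ∧ e ≤ n) ∧
        ∀ m t : ℕ, (∀ e ε, w e ε ≠ 0 → tyN (Fintype.card F) e ε ∣ m) → (∀ e ε, w e ε ≤ 2 ^ t) →
          g ∣ (X ^ m - 1 : F[X]) ^ (2 ^ t))
    {ι : Type} [Fintype ι] [DecidableEq ι] (hι : Fintype.card ι = 8)
    (A : Matrix ι ι F) (hrev : A.charpoly.reverse = A.charpoly) (hord : 0 < orderOf A)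
    (hS : ∑ i ∈ Finset.range (orderOf A), A ^ i ≠ 0)
    (hfix : 2 ≤ Module.finrank F (LinearMap.ker (Matrix.toLin' A - 1))) :
    ∃ N ∈ T8 (Fintype.card F), 2 * orderOf A ∣ N := by

  obtain ⟨a, m₀, hm₀, hn⟩ := Nat.exists_eq_two_pow_mul_odd (Nat.pos_iff_ne_zero.mp hord)
  set f : Module.End F (ι → F) := Matrix.toLinAlgEquiv' A with hf
  have hfA : f = Matrix.toLin' A := rfl
  have hpow : ∀ j, f ^ j = Matrix.toLinAlgEquiv' (A ^ j) := fun j => (map_pow _ A j).symm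
  have hfn : f ^ (2 ^ a * m₀) = 1 := by
    rw [hpow, ← hn, pow_orderOf_eq_one, map_one]
  have hSf : ∑ i ∈ Finset.range (2 ^ a * m₀), f ^ i ≠ 0 := by
    rw [← hn]
    intro h0
    apply hS
    have : Matrix.toLinAlgEquiv' (∑ i ∈ Finset.range (orderOf A), A ^ i) = 0 := by
      rw [map_sum, ← h0]
      exact Finset.sum_congr rfl (fun i _ => (hpow i).symm)
    exact (map_eq_zero_iff _ (Matrix.toLinAlgEquiv' (R := F) (n := ι)).injective).mp this
  have hmult := s8uup_mult f a m₀ hfn hSf (by rw [hfA]; exact hfix)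
  rw [hfA, Matrix.charpoly_toLin'] at hmult
  -- the factorisation of the characteristic polynomial
  have hmon : A.charpoly.Monic := Matrix.charpoly_monic A
  have hne : A.charpoly ≠ 0 := hmon.ne_zero
  have hdeg : A.charpoly.natDegree = 8 := by rw [Matrix.charpoly_natDegree_eq_dim, hι]
  obtain ⟨k, g, hχg, hg1, hgr⟩ := hP A.charpoly hne hrev ⟨4, by rw [hdeg]⟩
  have hg0 : g ≠ 0 := by
    rintro rfl
    exact hne (by rw [hχg, mul_zero])
  have hX1 : (X + 1 : F[X]) = X - C 1 := by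
    have h : (2 : F[X]) = 0 := by
      have : CharP F[X] 2 := inferInstance
      exact CharTwo.two_eq_zero
    have : (X + 1 : F[X]) - (X - C 1) = 2 := by simp; ring
    rw [h] at this
    exact sub_eq_zero.mp this
  -- `2 ^ a < 2 * k`
  have hak : 2 ^ a + 1 ≤ 2 * k := by
    by_contra hcon
    push Not at hcon
    have h1 : (X - C (1 : F)) ^ (2 ^ a + 1) ∣ A.charpoly :=
      (le_rootMultiplicity_iff hne).mp hmult
    have h2 : (X - C (1 : F)) ^ (2 * k + 1) ∣ (X - C (1 : F)) ^ (2 * k) * g := by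
      rw [← hX1, ← hχg, hX1]
      exact (pow_dvd_pow _ (by omega)).trans h1
    rw [pow_succ] at h2
    have h3 : (X - C (1 : F)) ∣ g :=
      (mul_dvd_mul_iff_left (pow_ne_zero _ (X_sub_C_ne_zero 1))).mp h2
    exact hg1 (dvd_iff_isRoot.mp h3)
  -- degrees
  have hmonic : ((X + 1 : F[X]) ^ (2 * k)).Monic := by
    have h := (monic_X_add_C (1 : F)).pow (2 * k)
    simpa using h
  have hdeg' : A.charpoly.natDegree = 2 * k + g.natDegree := by
    conv_lhs => rw [hχg]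
    rw [hmonic.natDegree_mul' hg0]
    congr 1
    have h1 : (X + 1 : F[X]) = X + C 1 := by simp
    rw [h1, natDegree_pow, natDegree_X_add_C, mul_one]
  have hkn : k ≤ 4 := by omega
  have hgd : g.natDegree = 2 * (4 - k) := by omega
  obtain ⟨w, hsum, hsupp, hdiv⟩ := hS1 (4 - k) g hg0 hgr hg1 hgd
  have hsum' : k + ∑ e ∈ Finset.range 5, e * (w e true + w e false) = 4 := by
    have hsub : Finset.range (4 - k + 1) ⊆ Finset.range 5 := by
      intro e he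
      rw [Finset.mem_range] at he ⊢
      omega
    have heq : ∑ e ∈ Finset.range 5, e * (w e true + w e false) =
        ∑ e ∈ Finset.range (4 - k + 1), e * (w e true + w e false) := by
      symm
      apply Finset.sum_subset hsub
      intro e _ he
      rw [Finset.mem_range, not_lt] at he
      have ht : w e true = 0 := by
        by_contra h
        have := (hsupp e true h).2
        omega
      have hf' : w e false = 0 := by
        by_contra h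
        have := (hsupp e false h).2
        omega
      rw [ht, hf', add_zero, mul_zero]
    rw [heq, hsum]
    omega
  have hsupp' : ∀ e ε, w e ε ≠ 0 → 1 ≤ e ∧ e ≤ 4 := by
    intro e ε h
    have := hsupp e ε h
    exact ⟨this.1, by omega⟩
  have hq : 2 ≤ Fintype.card F := Fintype.one_lt_card
  obtain ⟨N, hN, m, t, hNmt, h1, h2, h3⟩ := arith (Fintype.card F) hq k w hsum' hsupp'
  refine ⟨N, hN, ?_⟩
  have hd1 : g ∣ (X ^ m - 1 : F[X]) ^ (2 ^ t) := hdiv m t h1 h3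
  have hd2 : ((X + 1 : F[X]) ^ (2 * k)) ∣ (X ^ m - 1 : F[X]) ^ (2 ^ t) :=
    (pow_dvd_pow _ h2).trans (pow_dvd_pow_of_dvd (so8struct_X_add_one_dvd m) _)
  have hdvd : A.charpoly ∣ (X ^ m - 1 : F[X]) ^ (2 ^ t) := by
    rw [hχg]
    exact (so8struct_coprime g hg1 (2 * k)).mul_dvd hd2 hd1
  have hAN : A ^ N = 1 := by rw [hNmt]; exact pow_eq_one_of_dvd A m t hdvd
  have hnN : orderOf A ∣ N := orderOf_dvd_of_pow_eq_one hAN
  have hat : a + 1 ≤ t := by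
    have : 2 ^ a < 2 ^ t := by omega
    have := (Nat.pow_lt_pow_iff_right (by norm_num : 1 < 2)).mp this
    omega
  have h2N : 2 ^ (a + 1) ∣ N := by
    rw [hNmt]
    exact Dvd.dvd.mul_left (pow_dvd_pow 2 hat) m
  have hmN : m₀ ∣ N := (Dvd.intro_left _ hn.symm).trans hnN
  have hcop : Nat.Coprime (2 ^ (a + 1)) m₀ :=
    Nat.Coprime.pow_left _ (Nat.coprime_two_left.mpr hm₀)
  have : 2 * orderOf A = 2 ^ (a + 1) * m₀ := by rw [hn, pow_succ]; ring
  rw [this]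
  exact hcop.mul_dvd_of_dvd_of_dvd h2N hmN




/-- the characteristic polynomial of an isometry of the minus-type form is self-reciprocal (char 2) -/
theorem s8uup_charpoly_rev {F : Type*} [Field F] [CharP F 2] (k : ℕ) (a b : F) (ha : a ≠ 0)
    (g : ↥(Cfsg.isometryGroup F (Cfsg.quadFormMinus k F a b))) :
    ((g : GL ((Fin k ⊕ Fin k) ⊕ Fin 2) F) :
        Matrix ((Fin k ⊕ Fin k) ⊕ Fin 2) ((Fin k ⊕ Fin k) ⊕ Fin 2) F).charpoly.reverse =
      ((g : GL ((Fin k ⊕ Fin k) ⊕ Fin 2) F) :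
        Matrix ((Fin k ⊕ Fin k) ⊕ Fin 2) ((Fin k ⊕ Fin k) ⊕ Fin 2) F).charpoly := by
  let e := so8b_e (F := F) k a ha
  let P : Matrix (Fin (k + 1) ⊕ Fin (k + 1)) ((Fin k ⊕ Fin k) ⊕ Fin 2) F :=
    LinearMap.toMatrix' (e : ((Fin k ⊕ Fin k) ⊕ Fin 2 → F) →ₗ[F] (Fin (k + 1) ⊕ Fin (k + 1) → F))
  let P' : Matrix ((Fin k ⊕ Fin k) ⊕ Fin 2) (Fin (k + 1) ⊕ Fin (k + 1)) F :=
    LinearMap.toMatrix'
      (e.symm : (Fin (k + 1) ⊕ Fin (k + 1) → F) →ₗ[F] ((Fin k ⊕ Fin k) ⊕ Fin 2 → F))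
  have hP'P : P' * P = 1 := by
    show LinearMap.toMatrix' _ * LinearMap.toMatrix' _ = 1
    rw [← LinearMap.toMatrix'_comp, LinearEquiv.comp_coe, LinearEquiv.self_trans_symm,
      LinearEquiv.refl_toLinearMap, LinearMap.toMatrix'_id]
  have hPv : ∀ u, P *ᵥ u = e u := fun u => LinearMap.toMatrix'_mulVec _ u
  have hP'v : ∀ U, P' *ᵥ U = e.symm U := fun U => LinearMap.toMatrix'_mulVec _ U
  set G : Matrix ((Fin k ⊕ Fin k) ⊕ Fin 2) ((Fin k ⊕ Fin k) ⊕ Fin 2) F :=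
    ((g : GL ((Fin k ⊕ Fin k) ⊕ Fin 2) F) :
      Matrix ((Fin k ⊕ Fin k) ⊕ Fin 2) ((Fin k ⊕ Fin k) ⊕ Fin 2) F) with hG
  have hmem : P * G * P' ∈ Matrix.symplecticGroup (Fin (k + 1)) F := by
    rw [Cfsg.Agent.Lib.helper6.mem_symplecticGroup_iff_sympForm]
    intro U V
    rw [← Matrix.mulVec_mulVec, ← Matrix.mulVec_mulVec, ← Matrix.mulVec_mulVec,
      ← Matrix.mulVec_mulVec, hP'v, hP'v, hPv, hPv, so8b_form k a b ha,
      so8b_polar_pres k a b g g.2, ← so8b_form k a b ha]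
    show Cfsg.sympForm (k + 1) F (e (e.symm U)) (e (e.symm V)) = _
    rw [LinearEquiv.apply_symm_apply, LinearEquiv.apply_symm_apply]
  have hrev := charpoly_reverse (k + 1) ⟨P * G * P', hmem⟩
  have hcard : Fintype.card ((Fin k ⊕ Fin k) ⊕ Fin 2) ≤ Fintype.card (Fin (k + 1) ⊕ Fin (k + 1)) := by
    simp only [Fintype.card_sum, Fintype.card_fin]
    omega
  have hcard' : Fintype.card (Fin (k + 1) ⊕ Fin (k + 1)) - Fintype.card ((Fin k ⊕ Fin k) ⊕ Fin 2) = 0 := by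
    simp only [Fintype.card_sum, Fintype.card_fin]
    omega
  have hch : (P * G * P').charpoly = G.charpoly := by
    rw [Matrix.mul_assoc, Matrix.charpoly_mul_comm_of_le P (G * P') hcard, hcard', pow_zero, one_mul,
      Matrix.mul_assoc, hP'P, Matrix.mul_one]
  simp only at hrev
  rw [hch] at hrev
  exact hrev

/-- `ker (f - 1) ≠ 0` when the norm element `Σ f^i` is not zero -/
theorem s8uup_fix_pos {F : Type*} [Field F] {V : Type*} [AddCommGroup V] [Module F V]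
    [FiniteDimensional F V] (f : Module.End F V) (n : ℕ) (hf : f ^ n = 1)
    (hS : ∑ i ∈ Finset.range n, f ^ i ≠ 0) :
    1 ≤ Module.finrank F (LinearMap.ker (f - 1)) := by
  by_contra h
  have h0 : Module.finrank F (LinearMap.ker (f - 1)) = 0 := by omega
  have hbot : LinearMap.ker (f - 1) = ⊥ := Submodule.finrank_eq_zero.mp h0
  apply hS
  apply LinearMap.ext
  intro u
  have : (∑ i ∈ Finset.range n, f ^ i) u ∈ LinearMap.ker (f - 1) := by
    rw [LinearMap.mem_ker, ← Module.End.mul_apply, mul_geom_sum, hf, sub_self]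
    rfl
  rw [hbot, Submodule.mem_bot] at this
  rw [this]
  rfl




theorem s8uup_iso_core {F : Type*} [Field F] [Fintype F] [CharP F 2]
    (hP : ∀ (χ : F[X]), χ ≠ 0 → χ.reverse = χ → Even χ.natDegree →
      ∃ (k : ℕ) (g : F[X]), χ = (X + 1) ^ (2 * k) * g ∧ g.eval 1 ≠ 0 ∧ g.reverse = g)
    (hS1 : ∀ (n : ℕ) (g : F[X]), g ≠ 0 → g.reverse = g → g.eval 1 ≠ 0 → g.natDegree = 2 * n →
      ∃ w : ℕ → Bool → ℕ, (∑ e ∈ Finset.range (n + 1), e * (w e true + w e false) = n) ∧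
        (∀ e ε, w e ε ≠ 0 → 1 ≤ e ∧ e ≤ n) ∧
        ∀ m t : ℕ, (∀ e ε, w e ε ≠ 0 → tyN (Fintype.card F) e ε ∣ m) → (∀ e ε, w e ε ≤ 2 ^ t) →
          g ∣ (X ^ m - 1 : F[X]) ^ (2 ^ t))
    (a b : F) (ha : a ≠ 0) (g : ↥(Cfsg.isometryGroup F (Cfsg.quadFormMinus 3 F a b)))
    (hev : Even (((g : GL ((Fin 3 ⊕ Fin 3) ⊕ Fin 2) F) :
        Matrix ((Fin 3 ⊕ Fin 3) ⊕ Fin 2) ((Fin 3 ⊕ Fin 3) ⊕ Fin 2) F) - 1).rank)
    (hN : ∑ i ∈ Finset.range (orderOf g), ((g : GL ((Fin 3 ⊕ Fin 3) ⊕ Fin 2) F) :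
        Matrix ((Fin 3 ⊕ Fin 3) ⊕ Fin 2) ((Fin 3 ⊕ Fin 3) ⊕ Fin 2) F) ^ i ≠ 0) :
    ∃ N ∈ T8 (Fintype.card F), 2 * orderOf g ∣ N := by
  set A : Matrix ((Fin 3 ⊕ Fin 3) ⊕ Fin 2) ((Fin 3 ⊕ Fin 3) ⊕ Fin 2) F :=
    ((g : GL ((Fin 3 ⊕ Fin 3) ⊕ Fin 2) F) :
      Matrix ((Fin 3 ⊕ Fin 3) ⊕ Fin 2) ((Fin 3 ⊕ Fin 3) ⊕ Fin 2) F) with hA
  -- the order of the matrix is the order of the group element
  let ψ : ↥(Cfsg.isometryGroup F (Cfsg.quadFormMinus 3 F a b)) →*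
      Matrix ((Fin 3 ⊕ Fin 3) ⊕ Fin 2) ((Fin 3 ⊕ Fin 3) ⊕ Fin 2) F :=
    (Units.coeHom _).comp (Subgroup.subtype _)
  have hψ : Function.Injective ψ := by
    intro x y hxy
    exact Subtype.ext (Units.ext hxy)
  have hordA : orderOf A = orderOf g := orderOf_injective ψ hψ g
  have hord : 0 < orderOf A := by rw [hordA]; exact orderOf_pos g
  have hcard : Fintype.card ((Fin 3 ⊕ Fin 3) ⊕ Fin 2) = 8 := by
    simp only [Fintype.card_sum, Fintype.card_fin]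
  -- the fixed space
  set f : Module.End F (((Fin 3 ⊕ Fin 3) ⊕ Fin 2) → F) := Matrix.toLinAlgEquiv' A with hf
  have hfA : f = Matrix.toLin' A := rfl
  have hpow : ∀ j, f ^ j = Matrix.toLinAlgEquiv' (A ^ j) := fun j => (map_pow _ A j).symm
  have hfn : f ^ orderOf A = 1 := by rw [hpow, pow_orderOf_eq_one, map_one]
  have hSf : ∑ i ∈ Finset.range (orderOf A), f ^ i ≠ 0 := by
    intro h0
    apply hN
    rw [← hordA]
    have : Matrix.toLinAlgEquiv' (∑ i ∈ Finset.range (orderOf A), A ^ i) = 0 := by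
      rw [map_sum, ← h0]
      exact Finset.sum_congr rfl (fun i _ => (hpow i).symm)
    exact (map_eq_zero_iff _ (Matrix.toLinAlgEquiv'
      (R := F) (n := (Fin 3 ⊕ Fin 3) ⊕ Fin 2)).injective).mp this
  have hpos := s8uup_fix_pos f (orderOf A) hfn hSf
  have hrk : (A - 1).rank + Module.finrank F (LinearMap.ker (f - 1)) = 8 := by
    have h1 := LinearMap.finrank_range_add_finrank_ker (Matrix.mulVecLin (A - 1))
    rw [Module.finrank_fintype_fun_eq_card, hcard] at h1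
    have h2 : Matrix.mulVecLin (A - 1) = f - 1 := by
      rw [hfA]
      ext v i
      simp [Matrix.sub_mulVec]
    rw [h2] at h1
    unfold Matrix.rank
    rw [h2]
    exact h1
  have hfix : 2 ≤ Module.finrank F (LinearMap.ker (Matrix.toLin' A - 1)) := by
    rw [← hfA]
    obtain ⟨r, hr⟩ := hev
    omega
  have hrev : A.charpoly.reverse = A.charpoly := s8uup_charpoly_rev 3 a b ha g
  have hN' : ∑ i ∈ Finset.range (orderOf A), A ^ i ≠ 0 := by rw [hordA]; exact hN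
  obtain ⟨N, hNT, hdvd⟩ := s8uup_core hP hS1 hcard A hrev hord hN' hfix
  exact ⟨N, hNT, by rw [← hordA]; exact hdvd⟩


/-- the wrapper on the landed SO8 rows PEEL1 and STRUCT1 -/
theorem s8uup_iso {F : Type*} [Field F] [Fintype F] [CharP F 2]
    (a b : F) (ha : a ≠ 0) (g : ↥(Cfsg.isometryGroup F (Cfsg.quadFormMinus 3 F a b)))
    (hev : Even (((g : GL ((Fin 3 ⊕ Fin 3) ⊕ Fin 2) F) :
        Matrix ((Fin 3 ⊕ Fin 3) ⊕ Fin 2) ((Fin 3 ⊕ Fin 3) ⊕ Fin 2) F) - 1).rank)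
    (hN : ∑ i ∈ Finset.range (orderOf g), ((g : GL ((Fin 3 ⊕ Fin 3) ⊕ Fin 2) F) :
        Matrix ((Fin 3 ⊕ Fin 3) ⊕ Fin 2) ((Fin 3 ⊕ Fin 3) ⊕ Fin 2) F) ^ i ≠ 0) :
    ∃ N ∈ T8 (Fintype.card F), 2 * orderOf g ∣ N :=
  s8uup_iso_core (fun χ h1 h2 h3 => peel_one χ h1 h2 h3)
    (fun n g h1 h2 h3 h4 => sr_struct_aux n g h1 h2 h3 h4) a b ha g hev hN

/-- every divisor of a member of `T8 q` is the order of an isometry of the minus-type form -/
theorem s8uup_dvd_T8 {F : Type*} [Field F] [Fintype F] [CharP F 2] (a b : F)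
    (han : ∀ z₁ z₂ : F, z₁ ^ 2 + a * z₁ * z₂ + b * z₂ ^ 2 = 0 → z₁ = 0 ∧ z₂ = 0)
    (N : ℕ) (hN : N ∈ T8 (Fintype.card F)) (d : ℕ) (hd : d ∣ N) :
    d ∈ Set.range (orderOf : ↥(Cfsg.isometryGroup F (Cfsg.quadFormMinus 3 F a b)) → ℕ) := by
  obtain ⟨ha, c, hc⟩ := aniso_facts a b han
  have hR : OReal F 4 (-1) N :=
    so8asm_core oreal_sum oreal_splus (fun n hn => oreal_sminus n hn c hc) oreal_iplus
      (oreal_iminus c hc) oreal_u4 (oreal_u8m c hc) oreal_u8p N hN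
  obtain ⟨g, hg⟩ : ∃ g : ↥(Cfsg.isometryGroup F (Cfsg.quadFormMinus 3 F a b)), orderOf g = N :=
    oreal_xfer (Cfsg.Agent.Lib.Helper16.qfMinus 3 F a b) 4 (-1) (otsstdp_minus 3 a b han) N hR
  obtain ⟨k, hk⟩ := hd
  have hNpos : 0 < N := by rw [← hg]; exact orderOf_pos g
  have hk0 : k ≠ 0 := by
    rintro rfl
    rw [mul_zero] at hk
    omega
  refine ⟨g ^ k, ?_⟩
  show orderOf (g ^ k) = d
  rw [orderOf_pow_of_dvd hk0 (by rw [hg, hk]; exact dvd_mul_left k _), hg, hk,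
    Nat.mul_div_cancel _ (Nat.pos_of_ne_zero hk0)]

/-- MAIN: `2 |g|` is an element order of `GO⁻₈(q)` -/
theorem s8uup_main {F : Type*} [Field F] [Fintype F] [CharP F 2] (a b : F)
    (han : ∀ z₁ z₂ : F, z₁ ^ 2 + a * z₁ * z₂ + b * z₂ ^ 2 = 0 → z₁ = 0 ∧ z₂ = 0)
    (g : ↥(Cfsg.isometryGroup F (Cfsg.quadFormMinus 3 F a b)))
    (hev : Even (((g : GL ((Fin 3 ⊕ Fin 3) ⊕ Fin 2) F) :
        Matrix ((Fin 3 ⊕ Fin 3) ⊕ Fin 2) ((Fin 3 ⊕ Fin 3) ⊕ Fin 2) F) - 1).rank)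
    (hN : ∑ i ∈ Finset.range (orderOf g), ((g : GL ((Fin 3 ⊕ Fin 3) ⊕ Fin 2) F) :
        Matrix ((Fin 3 ⊕ Fin 3) ⊕ Fin 2) ((Fin 3 ⊕ Fin 3) ⊕ Fin 2) F) ^ i ≠ 0) :
    2 * orderOf g ∈
      Set.range (orderOf : ↥(Cfsg.isometryGroup F (Cfsg.quadFormMinus 3 F a b)) → ℕ) := by
  obtain ⟨ha, _, _⟩ := aniso_facts a b han
  obtain ⟨N, hNT, hdvd⟩ := s8uup_iso a b ha g hev hN
  exact s8uup_dvd_T8 a b han N hNT _ hdvd

/-- MAIN': `2 |g|` is an element order of `PSp 4 F` -/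
theorem s8uup_main_psp {F : Type*} [Field F] [Fintype F] [CharP F 2] (a b : F)
    (han : ∀ z₁ z₂ : F, z₁ ^ 2 + a * z₁ * z₂ + b * z₂ ^ 2 = 0 → z₁ = 0 ∧ z₂ = 0)
    (g : ↥(Cfsg.isometryGroup F (Cfsg.quadFormMinus 3 F a b)))
    (hev : Even (((g : GL ((Fin 3 ⊕ Fin 3) ⊕ Fin 2) F) :
        Matrix ((Fin 3 ⊕ Fin 3) ⊕ Fin 2) ((Fin 3 ⊕ Fin 3) ⊕ Fin 2) F) - 1).rank)
    (hN : ∑ i ∈ Finset.range (orderOf g), ((g : GL ((Fin 3 ⊕ Fin 3) ⊕ Fin 2) F) :
        Matrix ((Fin 3 ⊕ Fin 3) ⊕ Fin 2) ((Fin 3 ⊕ Fin 3) ⊕ Fin 2) F) ^ i ≠ 0) :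
    2 * orderOf g ∈ Set.range (orderOf : Cfsg.PSp 4 F → ℕ) := by
  rw [Cfsg.Agent.S3589.result a b han]
  exact s8uup_main a b han g hev hN

/-- the spectrum of `PSp 4 F` is the set of divisors of the members of `T8 q` -/
theorem s8uup_spec {F : Type*} [Field F] [Fintype F] [CharP F 2] (a b : F)
    (han : ∀ z₁ z₂ : F, z₁ ^ 2 + a * z₁ * z₂ + b * z₂ ^ 2 = 0 → z₁ = 0 ∧ z₂ = 0) (d : ℕ) :
    d ∈ Set.range (orderOf : Cfsg.PSp 4 F → ℕ) ↔ ∃ N ∈ T8 (Fintype.card F), d ∣ N := by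
  constructor
  · rw [psp_range 4 (by norm_num)]
    rintro ⟨x, rfl⟩
    exact so8upper_core sr_struct x
  · rintro ⟨N, hN, hd⟩
    rw [Cfsg.Agent.S3589.result a b han]
    exact s8uup_dvd_T8 a b han N hN d hd

end Cfsg.Agent.Lib.helper3.S8UUP
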