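import Mathlib
import Cfsg.Prelude.Def_Classical
import Cfsg.Agent.Lib.Helper1.S8U.Defs
import Cfsg.Agent.Lib.Helper1.S8UHDIFF
import Cfsg.Agent.Lib.helper3.S8UUP

/-!
Project S8U (designer helper1): spare copies (helper3) of the rows GOCH (`go_charpoly`), HD1 (`hd_one`) and HD2 (`hd_two`),
with EXACTLY the Skel statements, from `Cfsg.Agent.Lib.helper3.S8UUP` (+ HDIFF `hd_iff`).
-/

set_option autoImplicit false

namespace Cfsg.Agent.Lib.Helper1.S8U

open Matrix Module Polynomial Cfsg.Agent.Lib.Helper16 Cfsg.Agent.Lib.Helper13.OTS Cfsg.Agent.Lib.Helper19.SO8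
  Cfsg.Agent.Lib.helper14.OrthInv

/-- GOCH (same statement as `go_charpoly`) -/
theorem go_charpoly_h3 {F : Type*} [Field F] [CharP F 2] (a b : F) (ha : a ≠ 0) (g : GL MI8 F)
    (hg : g ∈ GO8 F a b) :
    (g : Matrix MI8 MI8 F).charpoly.reverse = (g : Matrix MI8 MI8 F).charpoly :=
  Cfsg.Agent.Lib.helper3.S8UUP.s8uup_charpoly_rev 3 a b ha ⟨g, hg⟩

/-- HD1 (same statement as `hd_one`) -/
theorem hd_one_h3 {F : Type*} [Field F] [Fintype F] [CharP F 2] (a b : F) (hab : Aniso a b) (g : GL MI8 F)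
    (hg : g ∈ GO8 F a b) : ∃ N ∈ T8 (Fintype.card F), orderOf g ∣ N := by
  have h1 : orderOf g ∈ Set.range (orderOf : Cfsg.PSp 4 F → ℕ) := by
    rw [Cfsg.Agent.S3589.result a b hab]
    exact ⟨⟨g, hg⟩, Subgroup.orderOf_mk g hg⟩
  exact (Cfsg.Agent.Lib.helper3.S8UUP.s8uup_spec a b hab _).mp h1

/-- HD2 (same statement as `hd_two`) -/
theorem hd_two_h3 {F : Type*} [Field F] [Fintype F] [CharP F 2] (a b : F) (hab : Aniso a b) (g : GL MI8 F)
    (hg : g ∈ Hd a b hab) (hgeo : geoM g (orderOf g) ≠ 0) :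
    ∃ N ∈ T8 (Fintype.card F), 2 * orderOf g ∣ N := by
  obtain ⟨hgo, hev⟩ := (hd_iff a b hab g).mp hg
  obtain ⟨ha, _, _⟩ := aniso_facts a b hab
  have hord : orderOf (⟨g, hgo⟩ : ↥(GO8 F a b)) = orderOf g := Subgroup.orderOf_mk g hgo
  have hN : ∑ i ∈ Finset.range (orderOf (⟨g, hgo⟩ : ↥(GO8 F a b))),
      (g : Matrix MI8 MI8 F) ^ i ≠ 0 := by
    rw [hord]
    intro h0
    apply hgeo
    unfold geoM
    rw [← h0]
    exact Finset.sum_congr rfl (fun i _ => Units.val_pow_eq_pow_val g i)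
  have := Cfsg.Agent.Lib.helper3.S8UUP.s8uup_iso a b ha ⟨g, hgo⟩ hev hN
  rw [hord] at this
  exact this

end Cfsg.Agent.Lib.Helper1.S8U
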