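import Mathlib
import Cfsg.Agent.Lib.helper2.S91Defs
import Cfsg.Agent.Lib.helper23.SylowQuot

/-!
# Project S91 (S4091), piece QUOT (helper3): factoring out a normal `p`-subgroup.
-/

set_option autoImplicit false

namespace Cfsg.Agent.Lib.helper3.S91dup
open Cfsg.Agent.Lib.helper2.S91
open Subgroup

universe u

/-- modulo a normal `p`-subgroup, `g` is a `p`-element iff its image is. -/
theorem quot_pelt_iff {G : Type*} [Group G] [Finite G] (p : ℕ) [Fact p.Prime] (N : Subgroup G)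
    [N.Normal] (hN : IsPGroup p N) (g : G) :
    (∃ k : ℕ, orderOf g = p ^ k) ↔ ∃ k : ℕ, orderOf (QuotientGroup.mk g : G ⧸ N) = p ^ k := by
  have hp : p.Prime := Fact.out
  constructor
  · rintro ⟨k, hk⟩
    have hd : orderOf (QuotientGroup.mk' N g) ∣ orderOf g := orderOf_map_dvd _ g
    rw [hk] at hd
    obtain ⟨j, -, hj⟩ := (Nat.dvd_prime_pow hp).1 hd
    exact ⟨j, hj⟩
  · rintro ⟨k, hk⟩
    have h1 : (QuotientGroup.mk g : G ⧸ N) ^ (p ^ k) = 1 := by
      rw [← hk]; exact pow_orderOf_eq_one _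
    have h2 : g ^ (p ^ k) ∈ N := by
      rw [← QuotientGroup.eq_one_iff, QuotientGroup.mk_pow]
      exact h1
    obtain ⟨j, hj⟩ := hN ⟨g ^ (p ^ k), h2⟩
    have h3 : (g ^ (p ^ k)) ^ (p ^ j) = 1 := by
      have := congrArg Subtype.val hj
      simpa using this
    have h4 : orderOf g ∣ p ^ (k + j) := by
      apply orderOf_dvd_of_pow_eq_one
      rw [pow_add, pow_mul]
      exact h3
    obtain ⟨i, -, hi⟩ := (Nat.dvd_prime_pow hp).1 h4
    exact ⟨i, hi⟩

/-- `u(G) = #N · u(G/N)`. -/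
theorem quot_card_pelts {G : Type*} [Group G] [Finite G] (p : ℕ) [Fact p.Prime] (N : Subgroup G)
    [N.Normal] (hN : IsPGroup p N) :
    Nat.card {g : G // ∃ k : ℕ, orderOf g = p ^ k} =
      Nat.card N * Nat.card {g : G ⧸ N // ∃ k : ℕ, orderOf g = p ^ k} := by
  have e1 : {g : G // ∃ k : ℕ, orderOf g = p ^ k} ≃
      (QuotientGroup.mk ⁻¹' {q : G ⧸ N | ∃ k : ℕ, orderOf q = p ^ k} : Set G) :=
    Equiv.subtypeEquivRight (fun g => quot_pelt_iff p N hN g)
  rw [Nat.card_congr e1,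
    Nat.card_congr (QuotientGroup.preimageMkEquivSubgroupProdSet N _), Nat.card_prod]
  rfl

/-- `#P = #N · #Q` for Sylow subgroups `P` of `G` and `Q` of `G/N`, `N` a `p`-group. -/
theorem quot_card_sylow {G : Type*} [Group G] [Finite G] (p : ℕ) [Fact p.Prime] (N : Subgroup G)
    [N.Normal] (hN : IsPGroup p N) (P : Sylow p G) (Q : Sylow p (G ⧸ N)) :
    Nat.card ↥(P : Subgroup G) = Nat.card N * Nat.card ↥(Q : Subgroup (G ⧸ N)) := by
  have hp : p.Prime := Fact.out
  obtain ⟨n, hn⟩ := hN.exists_card_eq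
  rw [Sylow.card_eq_multiplicity P, Sylow.card_eq_multiplicity Q,
    Subgroup.card_eq_card_quotient_mul_card_subgroup N,
    Nat.factorization_mul Nat.card_pos.ne' Nat.card_pos.ne', hn, Finsupp.add_apply,
    hp.factorization_pow, Finsupp.single_eq_same, pow_add, mul_comm]

/-- S91-QUOT -/
theorem quot_step {G : Type u} [Group G] [Finite G] (p : ℕ) [Fact p.Prime] (N : Subgroup G)
    [N.Normal] (hN : IsPGroup p N) (P : Sylow p G)
    (h : ∀ Q : Sylow p (G ⧸ N), Nat.card ↥(Q : Subgroup (G ⧸ N)) ^ p *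
        Nat.card (Sylow p (G ⧸ N)) ^ (p - 1) ≤
        Nat.card {g : G ⧸ N // ∃ k : ℕ, orderOf g = p ^ k} ^ p) :
    Nat.card ↥(P : Subgroup G) ^ p * Nat.card (Sylow p G) ^ (p - 1) ≤
      Nat.card {g : G // ∃ k : ℕ, orderOf g = p ^ k} ^ p := by
  have Q : Sylow p (G ⧸ N) := Classical.arbitrary _
  have hNP : N ≤ (P : Subgroup G) := hN.le_sylow_of_normal P
  have hn : Nat.card (Sylow p G) = Nat.card (Sylow p (G ⧸ N)) := by
    rw [Cfsg.Agent.Lib.helper23.card_sylow_eq_mul N P, sup_eq_left.2 hNP,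
      Subgroup.relIndex_eq_one.2 le_normalizer, mul_one]
  rw [hn, quot_card_sylow p N hN P Q, quot_card_pelts p N hN, mul_pow, mul_pow, mul_assoc]
  exact Nat.mul_le_mul_left _ (h Q)

end Cfsg.Agent.Lib.helper3.S91dup
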