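import Mathlib
import Cfsg.Agent.Lib.Helper19.SPD.Defs
import Cfsg.Agent.Lib.helper6.Symp
import Cfsg.Agent.Lib.helper3.SPDNONSC

/-!
# Project SPD (S5961), row SIGN: replace `x` (with `x ^ r` scalar) by `y = ± x` with `y ^ r = 1`.
-/

set_option autoImplicit false
set_option linter.unusedVariables false
set_option linter.unusedSectionVars false

namespace Cfsg.Agent.Lib.Helper19.SPD

open Matrix

variable {F : Type*} [Field F] {d : ℕ}

/-- SIGN [S-M]. -/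
theorem sign_fix (r : ℕ) (hr : Odd r) (hd : 1 ≤ d) (x : ↥(Matrix.symplecticGroup (Fin d) F)) (z : F)
    (hz : ((x ^ r : ↥(Matrix.symplecticGroup (Fin d) F)) : Matrix (Fin d ⊕ Fin d) (Fin d ⊕ Fin d) F) =
      z • (1 : Matrix (Fin d ⊕ Fin d) (Fin d ⊕ Fin d) F)) :
    ∃ y : (Fin d ⊕ Fin d → F) →ₗ[F] (Fin d ⊕ Fin d → F), Isom y ∧ y ^ r = 1 ∧
      ∀ W : Submodule F (Fin d ⊕ Fin d → F),
        W.map y = W.map (Matrix.toLin' (x : Matrix (Fin d ⊕ Fin d) (Fin d ⊕ Fin d) F)) := by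
  have hmem : z • (1 : Matrix (Fin d ⊕ Fin d) (Fin d ⊕ Fin d) F) ∈ Matrix.symplecticGroup (Fin d) F := by
    rw [← hz]
    exact (x ^ r).2
  have h2 : z * z = 1 := spdnonsc_sq_one hd z hmem
  have hz0 : z ≠ 0 := by
    rintro rfl
    simp at h2
  have hxr : (x : Matrix (Fin d ⊕ Fin d) (Fin d ⊕ Fin d) F) ^ r =
      z • (1 : Matrix (Fin d ⊕ Fin d) (Fin d ⊕ Fin d) F) := by
    rw [← hz]
    simp
  have hxs := (Cfsg.Agent.Lib.helper6.mem_symplecticGroup_iff_sympForm d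
    (x : Matrix (Fin d ⊕ Fin d) (Fin d ⊕ Fin d) F)).mp x.2
  refine ⟨z • Matrix.toLin' (x : Matrix (Fin d ⊕ Fin d) (Fin d ⊕ Fin d) F), ?_, ?_, ?_⟩
  · intro u v
    rw [LinearMap.smul_apply, LinearMap.smul_apply, Matrix.toLin'_apply, Matrix.toLin'_apply,
      Cfsg.Agent.Lib.helper6.sympForm_smul_left, Cfsg.Agent.Lib.helper6.sympForm_smul_right, hxs,
      ← mul_assoc, h2, one_mul]
  · rw [_root_.smul_pow, ← Matrix.toLin'_pow, hxr]
    obtain ⟨k, rfl⟩ := hr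
    have hzr : z ^ (2 * k + 1) * z = 1 := by
      rw [pow_succ, pow_mul, pow_two, h2, one_pow, one_mul, h2]
    rw [map_smul, Matrix.toLin'_one, smul_smul, hzr, one_smul]
    rfl
  · intro W
    exact Submodule.map_smul _ W z hz0

end Cfsg.Agent.Lib.Helper19.SPD
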