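import Mathlib
import Cfsg.Prelude.Def_LieExceptional
import Cfsg.Agent.S0243
import Cfsg.Agent.S0280
import Cfsg.Agent.Lib.helper3.SuzukiLieTrans
import Cfsg.Agent.Lib.helper3.PSL28
import Cfsg.Agent.Lib.helper3.GL52

set_option autoImplicit false

namespace Cfsg.Agent.Lib.helper3

open Cfsg

theorem card_GL52 : Nat.card (GL (Fin 5) (ZMod 2)) = 9999360 := by
  rw [Matrix.card_GL_field]
  simp [ZMod.card, Fin.prod_univ_five]

theorem card_section_dvd {H : Subgroup (GL (Fin 5) (ZMod 2))} (K : Subgroup H) [K.Normal] :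
    Nat.card (H ⧸ K) ∣ 9999360 := by
  rw [← card_GL52]
  exact (Subgroup.card_quotient_dvd_card K).trans (Subgroup.card_subgroup_dvd_card H)

/-- a section of `GL(5, 2)` has no element of order nine -/
theorem no_nine_in_section {H : Subgroup (GL (Fin 5) (ZMod 2))} {K : Subgroup H} [K.Normal]
    (x : H ⧸ K) : orderOf x ≠ 9 := by
  intro hx
  obtain ⟨h, rfl⟩ := QuotientGroup.mk_surjective x
  have hfin : Finite H := inferInstance
  have ho : 0 < orderOf h := orderOf_pos h
  have hdvd : 9 ∣ orderOf h := by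
    rw [← hx]
    exact orderOf_map_dvd (QuotientGroup.mk' K) h
  obtain ⟨j, hj⟩ := hdvd
  have hj0 : j ≠ 0 := by
    rintro rfl
    omega
  have h9 : orderOf (h ^ j) = 9 := by
    rw [orderOf_pow_of_dvd hj0 ⟨9, by rw [hj]; ring⟩, hj]
    exact Nat.mul_div_cancel _ (Nat.pos_of_ne_zero hj0)
  have hp9 : ((h ^ j : H) : GL (Fin 5) (ZMod 2)) ^ 9 = 1 := by
    have := pow_orderOf_eq_one (h ^ j)
    rw [h9] at this
    have := congrArg (Subtype.val) this
    simpa using this
  have hp3 := GL52_pow_three _ hp9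
  have hp3' : (h ^ j) ^ 3 = 1 := by
    apply Subtype.ext
    simpa using hp3
  have := orderOf_dvd_of_pow_eq_one hp3'
  rw [h9] at this
  omega

theorem psl_case_arith {k N : ℕ} (h : k * N = ((k + 1) ^ 2 - 1) * ((k + 1) ^ 2 - (k + 1) ^ 1))
    (hk : 0 < k) : N = (k + 2) * k * (k + 1) := by
  have e1 : (k + 1) ^ 2 - 1 = k * (k + 2) := by
    apply Nat.sub_eq_of_eq_add
    ring
  have e2 : (k + 1) ^ 2 - (k + 1) ^ 1 = k * (k + 1) := by
    apply Nat.sub_eq_of_eq_add
    ring
  rw [e1, e2] at h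
  have : k * N = k * ((k + 2) * k * (k + 1)) := by rw [h]; ring
  exact Nat.eq_of_mul_eq_mul_left hk this

end Cfsg.Agent.Lib.helper3
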