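import Mathlib
import Cfsg.Prelude.Def_LieExceptional
import Cfsg.Agent.Lib.helper3.SectionGL52

set_option autoImplicit false

namespace Cfsg.Agent.Lib.helper3

open Cfsg

/-- the case of `PSL(2, 2^n)` -/
theorem section_psl_case {H : Subgroup (GL (Fin 5) (ZMod 2))} {K : Subgroup H} [K.Normal]
    (n : ℕ) (F : Type) [Field F] [Fintype F] (hn : 2 ≤ n) (hF : Fintype.card F = 2 ^ n)
    (e : H ⧸ K ≃* Matrix.ProjectiveSpecialLinearGroup (Fin 2) F) : n = 2 := by
  have hdvd : Nat.card (Matrix.ProjectiveSpecialLinearGroup (Fin 2) F) ∣ 9999360 := by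
    rw [← Nat.card_congr e.toEquiv]
    exact card_section_dvd K
  have hS := Cfsg.Agent.S0243.result hF 2 le_rfl
  rw [Fin.prod_univ_two] at hS
  simp only [Fin.val_zero, Fin.val_one, pow_zero] at hS
  have hq1 : 1 ≤ 2 ^ n := Nat.one_le_two_pow
  obtain ⟨k, hk⟩ : ∃ k, 2 ^ n = k + 1 := ⟨2 ^ n - 1, by omega⟩
  have hgcd : Nat.gcd 2 (2 ^ n - 1) = 1 := by
    have hodd : Odd (2 ^ n - 1) := by
      have : Even (2 ^ n) := (Nat.even_pow' (by omega)).2 even_two
      exact Nat.Even.sub_odd hq1 this odd_one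
    exact (Nat.coprime_two_left.2 hodd)
  rw [hgcd, one_mul] at hS
  rw [hk] at hS
  simp only [Nat.add_sub_cancel] at hS
  have hk0 : 0 < k := by
    have : 4 ≤ 2 ^ n := by
      calc 4 = 2 ^ 2 := by norm_num
        _ ≤ 2 ^ n := Nat.pow_le_pow_right (by norm_num) hn
    omega
  have hN := psl_case_arith hS hk0
  have hle := Nat.le_of_dvd (by norm_num) hdvd
  have hn7 : n ≤ 7 := by
    by_contra hcon
    push Not at hcon
    have h256 : 256 ≤ 2 ^ n := by
      calc 256 = 2 ^ 8 := by norm_num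
        _ ≤ 2 ^ n := Nat.pow_le_pow_right (by norm_num) hcon
    have hk255 : 255 ≤ k := by omega
    have : 257 * 255 * 256 ≤ (k + 2) * k * (k + 1) :=
      Nat.mul_le_mul (Nat.mul_le_mul (by omega) hk255) (by omega)
    rw [hN] at hle
    omega
  rw [hN] at hdvd
  by_contra hne
  have h9 : ∃ x : Matrix.ProjectiveSpecialLinearGroup (Fin 2) F, orderOf x = 9 → False := by
    exact ⟨1, fun h => by rw [orderOf_one] at h; omega⟩
  interval_cases n
  · exact hne rfl
  · -- `n = 3`: an element of order nine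
    obtain ⟨x, hx⟩ := exists_orderOf_nine_PSL (F := F) (by rw [hF]; norm_num)
    apply no_nine_in_section (e.symm x)
    rw [← hx]
    exact orderOf_injective e.symm.toMonoidHom e.symm.injective x
  all_goals
    norm_num at hk
    rw [show k = k + 1 - 1 by omega, ← hk] at hdvd
    norm_num at hdvd

/-- the case of the Suzuki groups -/
theorem section_sz_case {H : Subgroup (GL (Fin 5) (ZMod 2))} {K : Subgroup H} [K.Normal]
    (m : ℕ) (F : Type) [Field F] [Fintype F] (hm : 1 ≤ m) (hF : Fintype.card F = 2 ^ (2 * m + 1))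
    (e : H ⧸ K ≃* Cfsg.Lie.Sz F (2 ^ (m + 1))) : False := by
  have hdvd : Nat.card (Cfsg.Lie.Sz F (2 ^ (m + 1))) ∣ 9999360 := by
    rw [← Nat.card_congr e.toEquiv]
    exact card_section_dvd K
  rw [card_lieSz hF hm] at hdvd
  have hle := Nat.le_of_dvd (by norm_num) hdvd
  by_cases h2 : 2 ≤ m
  · have h32 : 32 ≤ 2 ^ (2 * m + 1) := by
      calc 32 = 2 ^ 5 := by norm_num
        _ ≤ 2 ^ (2 * m + 1) := Nat.pow_le_pow_right (by norm_num) (by omega)
    set q := 2 ^ (2 * m + 1) with hq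
    have h1 : 32 ^ 2 ≤ q ^ 2 := Nat.pow_le_pow_left h32 2
    have : 32 ^ 2 * 31 * (32 ^ 2 + 1) ≤ q ^ 2 * (q - 1) * (q ^ 2 + 1) :=
      Nat.mul_le_mul (Nat.mul_le_mul h1 (by omega)) (by omega)
    omega
  · have hm1 : m = 1 := by omega
    subst hm1
    norm_num at hdvd

/-- the case of the unitary groups -/
theorem section_psu_case {H : Subgroup (GL (Fin 5) (ZMod 2))} {K : Subgroup H} [K.Normal]
    (n : ℕ) (F : Type) [Field F] [Fintype F] (hn : 2 ≤ n) (hF : Fintype.card F = 4 ^ n)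
    (e : H ⧸ K ≃* Cfsg.PSU 3 F (2 ^ n)) : False := by
  have hdvd : Nat.card (Cfsg.PSU 3 F (2 ^ n)) ∣ 9999360 := by
    rw [← Nat.card_congr e.toEquiv]
    exact card_section_dvd K
  have hF' : Fintype.card F = (2 ^ n) ^ 2 := by
    rw [hF, ← pow_mul, mul_comm, pow_mul]
    norm_num
  have hS := Cfsg.Agent.S0280.result hF' 3 (by norm_num)
  rw [Finset.prod_range_succ, Finset.prod_range_succ, Finset.prod_range_one] at hS
  have he0 : Even 0 := by decide
  have he1 : ¬ Even 1 := by decide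
  have he2 : Even 2 := by decide
  simp only [he0, he1, he2, if_true, if_false] at hS
  norm_num at hS
  set q := 2 ^ n with hq
  set N := Nat.card (Cfsg.PSU 3 F q) with hN
  have hle := Nat.le_of_dvd (by norm_num) hdvd
  have hg3 : Nat.gcd 3 (q + 1) ≤ 3 := Nat.gcd_le_left _ (by norm_num)
  by_cases h4 : 4 ≤ n
  · have h16 : 16 ≤ q := by
      calc 16 = 2 ^ 4 := by norm_num
        _ ≤ 2 ^ n := Nat.pow_le_pow_right (by norm_num) h4
    -- `3 (q+1) N ≥ q^3 (q+1)(q^2-1)(q^3+1)`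
    have hb : q ^ 3 * ((q + 1) * (q ^ 2 - 1) * (q ^ 3 + 1)) ≤ 3 * ((q + 1) * N) := by
      rw [← hS]
      exact Nat.mul_le_mul_right _ hg3
    have hb2 : 16 ^ 3 * (255 * (16 ^ 3 + 1)) * (q + 1) ≤
        q ^ 3 * ((q + 1) * (q ^ 2 - 1) * (q ^ 3 + 1)) := by
      have h1 : 16 ^ 3 ≤ q ^ 3 := Nat.pow_le_pow_left h16 3
      have h2 : 255 ≤ q ^ 2 - 1 := by
        have : 16 ^ 2 ≤ q ^ 2 := Nat.pow_le_pow_left h16 2
        omega
      have h3 : 16 ^ 3 + 1 ≤ q ^ 3 + 1 := by omega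
      calc 16 ^ 3 * (255 * (16 ^ 3 + 1)) * (q + 1)
          = 16 ^ 3 * ((q + 1) * 255 * (16 ^ 3 + 1)) := by ring
        _ ≤ q ^ 3 * ((q + 1) * (q ^ 2 - 1) * (q ^ 3 + 1)) :=
          Nat.mul_le_mul h1 (Nat.mul_le_mul (Nat.mul_le_mul le_rfl h2) h3)
    have hb3 : 16 ^ 3 * (255 * (16 ^ 3 + 1)) * (q + 1) ≤ 3 * N * (q + 1) := by
      calc _ ≤ _ := hb2
        _ ≤ 3 * ((q + 1) * N) := hb
        _ = 3 * N * (q + 1) := by ring
    have hb4 := Nat.le_of_mul_le_mul_right hb3 (by omega : 0 < q + 1)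
    omega
  · have hn23 : n = 2 ∨ n = 3 := by omega
    rcases hn23 with rfl | rfl
    · have hq4 : q = 4 := by rw [hq]; norm_num
      rw [hq4] at hS
      norm_num at hS
      have : N = 62400 := by omega
      rw [this] at hdvd
      norm_num at hdvd
    · have hq8 : q = 8 := by rw [hq]; norm_num
      rw [hq8] at hS
      norm_num at hS
      have : N = 5515776 := by omega
      rw [this] at hdvd
      norm_num at hdvd

/-- a section of `GL(5, 2)` isomorphic to a Bender group is `PSL(2, 4)` -/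
theorem section_GL52_bender {H : Subgroup (GL (Fin 5) (ZMod 2))} {K : Subgroup H} [K.Normal]
    (hX : (∃ (n : ℕ) (F : Type) (_ : Field F) (_ : Fintype F), 2 ≤ n ∧ Fintype.card F = 2 ^ n ∧
        Nonempty (H ⧸ K ≃* Matrix.ProjectiveSpecialLinearGroup (Fin 2) F)) ∨
      (∃ (m : ℕ) (F : Type) (_ : Field F) (_ : Fintype F), 1 ≤ m ∧
        Fintype.card F = 2 ^ (2 * m + 1) ∧ Nonempty (H ⧸ K ≃* Cfsg.Lie.Sz F (2 ^ (m + 1)))) ∨
      (∃ (n : ℕ) (F : Type) (_ : Field F) (_ : Fintype F), 2 ≤ n ∧ Fintype.card F = 4 ^ n ∧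
        Nonempty (H ⧸ K ≃* Cfsg.PSU 3 F (2 ^ n)))) :
    ∃ (F : Type) (_ : Field F) (_ : Fintype F), Fintype.card F = 4 ∧
      Nonempty (H ⧸ K ≃* Matrix.ProjectiveSpecialLinearGroup (Fin 2) F) := by
  rcases hX with ⟨n, F, i1, i2, hn, hF, ⟨e⟩⟩ | ⟨m, F, i1, i2, hm, hF, ⟨e⟩⟩ |
    ⟨n, F, i1, i2, hn, hF, ⟨e⟩⟩
  · have := section_psl_case n F hn hF e
    subst this
    exact ⟨F, i1, i2, by rw [hF]; norm_num, ⟨e⟩⟩
  · exact (section_sz_case m F hm hF e).elim
  · exact (section_psu_case n F hn hF e).elim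

end Cfsg.Agent.Lib.helper3
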