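import Mathlib

set_option autoImplicit false

namespace Cfsg.Agent.Lib.helper3

open SemidirectProduct

variable {N G : Type*} [CommGroup N] [Group G] (φ : G →* MulAut N)

/-- In a split extension of `G` by an elementary abelian 2-group on which the elements of odd prime
order of `G` act freely, and where no involution of `G` commutes with an element of odd prime
order, there is no element of order `2 * s` for an odd prime `s`. -/
theorem semi_no_two_mul (hN : ∀ n : N, n * n = 1)
    (hA : ∀ t g : G, t ≠ 1 → t * t = 1 → Commute t g → ∀ s : ℕ, s.Prime → s ≠ 2 → orderOf g ≠ s)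
    (hB : ∀ g : G, ∀ s : ℕ, s.Prime → s ≠ 2 → orderOf g = s → ∀ n : N, φ g n = n → n = 1)
    {s : ℕ} (hs : s.Prime) (hs2 : s ≠ 2) (y : N ⋊[φ] G) : orderOf y ≠ 2 * s := by
  intro hy
  have hz : orderOf (y ^ 2) = s := by
    rw [orderOf_pow_of_dvd (by norm_num) (by rw [hy]; exact dvd_mul_right 2 s), hy]
    exact Nat.mul_div_cancel_left s (by norm_num)
  have ht : orderOf (y ^ s) = 2 := by
    rw [orderOf_pow_of_dvd hs.ne_zero (by rw [hy]; exact dvd_mul_left s 2), hy]
    exact Nat.mul_div_cancel 2 hs.pos
  have hzt : Commute (y ^ 2) (y ^ s) := (Commute.refl y).pow_pow 2 s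
  set z := y ^ 2 with hzdef
  set t := y ^ s with htdef
  have hg0 : orderOf z.right = s := by
    have hd : orderOf z.right ∣ s := by
      have := orderOf_map_dvd (rightHom : N ⋊[φ] G →* G) z
      rwa [hz] at this
    rcases (Nat.dvd_prime hs).1 hd with h1 | h1
    · exfalso
      rw [orderOf_eq_one_iff] at h1
      have hzz : z * z = 1 := by
        ext
        · rw [mul_left, h1, map_one, one_left, MulAut.one_apply]
          exact hN _
        · rw [mul_right, h1, one_right, mul_one]
      have : orderOf z ∣ 2 := orderOf_dvd_of_pow_eq_one (by rw [pow_two]; exact hzz)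
      rw [hz] at this
      exact hs2 ((Nat.prime_dvd_prime_iff_eq hs Nat.prime_two).1 this)
    · exact h1
  have htt : t * t = 1 := by
    have := pow_orderOf_eq_one t
    rwa [ht, pow_two] at this
  have ht0 : t.right * t.right = 1 := by
    have := congrArg SemidirectProduct.right htt
    rwa [mul_right, one_right] at this
  have hc0 : Commute t.right z.right := by
    have := hzt.symm.map (rightHom : N ⋊[φ] G →* G)
    exact this
  by_cases ht1 : t.right = 1
  · have htne : t ≠ 1 := by
      intro h
      rw [h, orderOf_one] at ht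
      omega
    have hn : t.left ≠ 1 := by
      intro h
      apply htne
      ext
      · rw [h, one_left]
      · rw [ht1, one_right]
    have hcomm : t * z = z * t := hzt.symm.eq
    have hl := congrArg SemidirectProduct.left hcomm
    rw [mul_left, mul_left, ht1, map_one, MulAut.one_apply, mul_comm] at hl
    have hfix : φ z.right t.left = t.left := (mul_left_cancel hl).symm
    exact hn (hB z.right s hs hs2 hg0 t.left hfix)
  · exact hA t.right z.right ht1 ht0 hc0 s hs hs2 hg0

/-- products of two distinct primes occurring as element orders are the same in the split extension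
and in the quotient -/
theorem semi_order_iff (hN : ∀ n : N, n * n = 1)
    (hA : ∀ t g : G, t ≠ 1 → t * t = 1 → Commute t g → ∀ s : ℕ, s.Prime → s ≠ 2 → orderOf g ≠ s)
    (hB : ∀ g : G, ∀ s : ℕ, s.Prime → s ≠ 2 → orderOf g = s → ∀ n : N, φ g n = n → n = 1)
    {r s : ℕ} (hr : r.Prime) (hs : s.Prime) (hrs : r ≠ s) :
    (∃ y : N ⋊[φ] G, orderOf y = r * s) ↔ (∃ x : G, orderOf x = r * s) := by
  constructor
  · rintro ⟨y, hy⟩
    by_cases hr2 : r = 2
    · subst hr2
      exact absurd hy (semi_no_two_mul φ hN hA hB hs (Ne.symm hrs) y)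
    by_cases hs2 : s = 2
    · subst hs2
      rw [mul_comm] at hy
      exact absurd hy (semi_no_two_mul φ hN hA hB hr hrs y)
    refine ⟨y.right, ?_⟩
    have hd : orderOf y.right ∣ r * s := by
      have := orderOf_map_dvd (rightHom : N ⋊[φ] G →* G) y
      rwa [hy] at this
    apply Nat.dvd_antisymm hd
    set n := orderOf y.right with hn
    have h1 : (y ^ n).right = 1 := by
      have : (rightHom : N ⋊[φ] G →* G) (y ^ n) = 1 := by
        rw [map_pow]
        exact pow_orderOf_eq_one _
      exact this
    have h2 : (y ^ n) * (y ^ n) = 1 := by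
      ext
      · rw [mul_left, h1, map_one, one_left, MulAut.one_apply]
        exact hN _
      · rw [mul_right, h1, one_right, mul_one]
    have h3 : y ^ (n * 2) = 1 := by
      rw [pow_mul, pow_two]
      exact h2
    have h4 : r * s ∣ n * 2 := by
      rw [← hy]
      exact orderOf_dvd_of_pow_eq_one h3
    have hcop : Nat.Coprime (r * s) 2 := by
      apply Nat.Coprime.mul_left
      · exact (Nat.coprime_primes hr Nat.prime_two).2 hr2
      · exact (Nat.coprime_primes hs Nat.prime_two).2 hs2
    exact hcop.dvd_of_dvd_mul_right h4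
  · rintro ⟨x, hx⟩
    refine ⟨inr x, ?_⟩
    rw [orderOf_injective (inr : G →* N ⋊[φ] G) inr_injective x]
    exact hx

end Cfsg.Agent.Lib.helper3
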