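import Mathlib
import Cfsg.Agent.Lib.helper3.StPlane
set_option autoImplicit false
namespace Cfsg.Agent.Lib.helper3

/-- the hyperovals of the standard plane of order four, as masks -/
def hypList : List ℕ := [
  590883, 1067043, 299043, 1081923, 198723, 536643, 328323, 1057923, 151683, 541443, 165123, 272643,
  279077, 534565, 200741, 140357, 297029, 1069125, 164485, 541829, 1116293, 1057541, 328965, 561413,
  557609, 148521, 1060905, 270921, 1115209, 542793, 296073, 141449, 594057, 197385, 1083657, 282889,
  1114673, 271409, 165937, 148049, 558161, 331857, 533137, 280721, 1085585, 1066257, 592145, 143633,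
  6246, 82086, 786726, 1179846, 41286, 1926, 1313286, 53766, 76806, 660486, 1597446, 491526,
  1572970, 5290, 49450, 73930, 2890, 393610, 99850, 791050, 1182730, 30730, 1351690, 737290,
  98418, 1310898, 3378, 4818, 655698, 24978, 1574418, 84498, 46098, 399378, 860178, 1228818,
  24684, 655532, 4908, 3276, 1311052, 98700, 394764, 43532, 87052, 1579020, 1253388, 835596,
  393332, 2740, 74036, 49364, 5460, 1573268, 26132, 1184276, 789524, 104468, 696340, 1392660,
  1656, 41144, 1179960, 786648, 82264, 6552, 657944, 78360, 52248, 1315864, 417816, 1671192,
  51808, 1315424, 658528, 78944, 827488, 1261664, 788128, 103072, 27808, 1185952, 1646752, 442528,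
  83744, 1575712, 398624, 47392, 1335584, 753952, 42688, 395968, 1578176, 88256, 680128, 1409216,
  1181504, 29504, 101696, 792896, 467264, 1622336, 76672, 660352, 1314176, 54656, 1220992, 868736,
  1385984, 706048, 813568, 1280512, 1618432, 479744, 437248, 1657856, 1209344, 889856, 735232, 1366016]

/-- no line of the standard plane meets the set with mask `m` in more than two points -/
def indepMask (m : ℕ) : Bool := planeStd.all (fun c => Nat.ble (pc24 (Nat.land c m)) 2)

theorem hypList_ok : ∀ m ∈ hypList, m < 2 ^ 21 ∧ pc24 m = 6 ∧ indepMask m = true := by
  decide +kernel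

theorem hypList_nodup : hypList.Nodup := by decide +kernel

theorem hypList_length : hypList.length = 168 := by decide +kernel

theorem hyp_complete :
    forallSup indepMask (fun m => hypList.contains m) (List.range 21) 6 0 = true := by
  decide +kernel

theorem quad_cover :
    forallSup indepMask (fun m => hypList.any (fun h => Nat.beq (Nat.land h m) m))
      (List.range 21) 4 0 = true := by
  decide +kernel

theorem hyp_inter : ∀ h ∈ hypList, ∀ h' ∈ hypList, h = h' ∨ pc24 (Nat.land h h') ≤ 3 := by
  decide +kernel

end Cfsg.Agent.Lib.helper3
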