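import Mathlib
import Cfsg.Agent.Lib.helper3.StHypData

set_option autoImplicit false

namespace Cfsg.Agent.Lib.helper3

open Cfsg

universe u

/-! ### Independent sets and hyperovals of the planes of order four -/

/-- no line meets the set in more than two points -/
def Indep {α : Type u} [DecidableEq α] (L : Set (Finset α)) (S : Finset α) : Prop :=
  ∀ l ∈ L, (l ∩ S).card ≤ 2

theorem indep_mono {α : Type u} [DecidableEq α] {L : Set (Finset α)} {S S' : Finset α}
    (h : Indep L S) (hsub : S' ⊆ S) : Indep L S' := fun l hl =>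
  le_trans (Finset.card_le_card (Finset.inter_subset_inter_left hsub)) (h l hl)

/-- the standard plane of order four -/
def stdPlane : Set (Finset (Fin 21)) := {d | maskF d ∈ planeStd}

theorem planeStd_lt' : ∀ c ∈ planeStd, c < 2 ^ 21 := by decide +kernel

theorem indep_std_iff (T : Finset (Fin 21)) : Indep stdPlane T ↔ indepMask (maskF T) = true := by
  unfold Indep indepMask
  rw [List.all_eq_true]
  constructor
  · intro h c hc
    have hl : ofMask 21 c ∈ stdPlane := by
      change maskF (ofMask 21 c) ∈ planeStd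
      rw [maskF_ofMask c (planeStd_lt' c hc)]
      exact hc
    have := h _ hl
    rw [card_eq_pc24 (by norm_num), maskF_inter, maskF_ofMask c (planeStd_lt' c hc)] at this
    exact Nat.ble_eq.mpr this
  · intro h l hl
    have := Nat.ble_eq.mp (h (maskF l) hl)
    rw [card_eq_pc24 (by norm_num), maskF_inter]
    exact this

theorem forallSup_fin {N : ℕ} (ok P : ℕ → Bool) (r : ℕ)
    (h : forallSup ok P (List.range N) r 0 = true) (T : Finset (Fin N)) (hT : T.card = r)
    (hok : ∀ T0 : Finset (Fin N), T0 ⊆ T → ok (maskF T0) = true) : P (maskF T) = true := by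
  have hspec := forallSup_spec ok P (List.range N) r 0 List.nodup_range h
    (T.map Fin.valEmbedding) ?_ (by rw [Finset.card_map, hT]) ?_
  · rw [zero_add, ← maskF_eq_maskN] at hspec
    exact hspec
  · intro i hi
    rw [Finset.mem_map] at hi
    obtain ⟨j, -, rfl⟩ := hi
    rw [List.mem_toFinset, List.mem_range]
    exact j.2
  · intro T' hT'
    have hT'eq : T' = (T.filter (fun i : Fin N => i.val ∈ T')).map Fin.valEmbedding := by
      ext i
      rw [Finset.mem_map]
      constructor
      · intro hi
        have := hT' hi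
        rw [Finset.mem_map] at this
        obtain ⟨j, hj, rfl⟩ := this
        exact ⟨j, Finset.mem_filter.mpr ⟨hj, hi⟩, rfl⟩
      · rintro ⟨j, hj, rfl⟩
        exact (Finset.mem_filter.mp hj).2
    rw [zero_add, hT'eq, ← maskF_eq_maskN]
    exact hok _ (Finset.filter_subset _ _)

theorem hyp_std_iff (T : Finset (Fin 21)) :
    (T.card = 6 ∧ Indep stdPlane T) ↔ maskF T ∈ hypList := by
  constructor
  · rintro ⟨hc, hind⟩
    have := forallSup_fin indepMask (fun m => hypList.contains m) 6 hyp_complete T hc
      (fun T0 hT0 => (indep_std_iff T0).mp (indep_mono hind hT0))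
    simpa using this
  · intro h
    obtain ⟨-, h2, h3⟩ := hypList_ok _ h
    exact ⟨by rw [card_eq_pc24 (by norm_num)]; exact h2, (indep_std_iff T).mpr h3⟩

theorem quad_std_cover (T : Finset (Fin 21)) (hc : T.card = 4) (hind : Indep stdPlane T) :
    ∃ H : Finset (Fin 21), (H.card = 6 ∧ Indep stdPlane H) ∧ T ⊆ H := by
  have := forallSup_fin indepMask
    (fun m => hypList.any (fun h => Nat.beq (Nat.land h m) m)) 4 quad_cover T hc
    (fun T0 hT0 => (indep_std_iff T0).mp (indep_mono hind hT0))
  rw [List.any_eq_true] at this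
  obtain ⟨h, hh, hsub⟩ := this
  have hlt := (hypList_ok h hh).1
  refine ⟨ofMask 21 h, (hyp_std_iff _).mpr (by rw [maskF_ofMask h hlt]; exact hh), ?_⟩
  rw [subset_iff_land, maskF_ofMask h hlt]
  exact Nat.eq_of_beq_eq_true hsub

theorem hyp_std_inter {H H' : Finset (Fin 21)} (hH : H.card = 6 ∧ Indep stdPlane H)
    (hH' : H'.card = 6 ∧ Indep stdPlane H') (hne : H ≠ H') : (H ∩ H').card ≤ 3 := by
  have h1 := (hyp_std_iff H).mp hH
  have h2 := (hyp_std_iff H').mp hH'
  rcases hyp_inter _ h1 _ h2 with h | h
  · exact absurd (maskF_injective h) hne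
  · rw [card_eq_pc24 (by norm_num), maskF_inter]
    exact h

/-- the hyperovals of the standard plane, as a finite set -/
def hypFinset : Finset (Finset (Fin 21)) := (hypList.map (ofMask 21)).toFinset

theorem mem_hypFinset (T : Finset (Fin 21)) : T ∈ hypFinset ↔ T.card = 6 ∧ Indep stdPlane T := by
  rw [hyp_std_iff, hypFinset, List.mem_toFinset, List.mem_map]
  constructor
  · rintro ⟨h, hh, rfl⟩
    rw [maskF_ofMask h (hypList_ok h hh).1]
    exact hh
  · intro h
    exact ⟨maskF T, h, ofMask_maskF T⟩

theorem card_hypFinset : hypFinset.card = 168 := by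
  rw [hypFinset, List.toFinset_card_of_nodup, List.length_map, hypList_length]
  refine List.Nodup.map_on ?_ hypList_nodup
  intro a ha b hb hab
  rw [← maskF_ofMask a (hypList_ok a ha).1, ← maskF_ofMask b (hypList_ok b hb).1, hab]

theorem std_hyp_count : {H : Finset (Fin 21) | H.card = 6 ∧ Indep stdPlane H}.ncard = 168 := by
  have : {H : Finset (Fin 21) | H.card = 6 ∧ Indep stdPlane H} = ↑hypFinset := by
    ext T
    rw [Finset.mem_coe, mem_hypFinset]
    rfl
  rw [this, Set.ncard_coe_finset, card_hypFinset]

theorem std_quad_count : {S : Finset (Fin 21) | S.card = 4 ∧ Indep stdPlane S}.ncard = 2520 := by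
  have : {S : Finset (Fin 21) | S.card = 4 ∧ Indep stdPlane S} =
      ↑(hypFinset.biUnion (fun H => H.powersetCard 4)) := by
    ext T
    rw [Finset.mem_coe, Finset.mem_biUnion]
    constructor
    · rintro ⟨hc, hind⟩
      obtain ⟨H, hH, hsub⟩ := quad_std_cover T hc hind
      exact ⟨H, (mem_hypFinset H).mpr hH, Finset.mem_powersetCard.mpr ⟨hsub, hc⟩⟩
    · rintro ⟨H, hH, hT⟩
      rw [Finset.mem_powersetCard] at hT
      exact ⟨hT.2, indep_mono ((mem_hypFinset H).mp hH).2 hT.1⟩
  rw [this, Set.ncard_coe_finset, Finset.card_biUnion]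
  · have h15 : ∀ H ∈ hypFinset, (H.powersetCard 4).card = 15 := by
      intro H hH
      rw [Finset.card_powersetCard, ((mem_hypFinset H).mp hH).1]
      rfl
    rw [Finset.sum_congr rfl h15, Finset.sum_const, card_hypFinset]
    rfl
  · intro H hH H' hH' hne
    rw [Function.onFun, Finset.disjoint_left]
    intro T hT hT'
    rw [Finset.mem_powersetCard] at hT hT'
    have h1 := hyp_std_inter ((mem_hypFinset H).mp hH) ((mem_hypFinset H').mp hH') hne
    have h2 := Finset.card_le_card (Finset.subset_inter hT.1 hT'.1)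
    omega

theorem std_quad_unique (S : Finset (Fin 21)) (hS : S.card = 4 ∧ Indep stdPlane S) :
    ∃! H : Finset (Fin 21), (H.card = 6 ∧ Indep stdPlane H) ∧ S ⊆ H := by
  obtain ⟨H, hH, hsub⟩ := quad_std_cover S hS.1 hS.2
  refine ⟨H, ⟨hH, hsub⟩, ?_⟩
  rintro H' ⟨hH', hsub'⟩
  by_contra hne
  have h1 := hyp_std_inter hH' hH hne
  have h2 := Finset.card_le_card (Finset.subset_inter hsub' hsub)
  omega

/-! ### Transfer to an arbitrary plane of order four -/

theorem indep_image_iff {α : Type u} [DecidableEq α] {N : ℕ} (L : Set (Finset α))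
    (e : α ≃ Fin N) (S : Finset α) :
    Indep ((fun b => b.image e) '' L) (S.image e) ↔ Indep L S := by
  unfold Indep
  constructor
  · intro h l hl
    have := h (l.image e) ⟨l, hl, rfl⟩
    rwa [← Finset.image_inter _ _ e.injective, Finset.card_image_of_injective _ e.injective]
      at this
  · rintro h _ ⟨l, hl, rfl⟩
    rw [← Finset.image_inter _ _ e.injective, Finset.card_image_of_injective _ e.injective]
    exact h l hl

theorem image_indep_set {α : Type u} [DecidableEq α] {N : ℕ} (L : Set (Finset α))
    (e : α ≃ Fin N) (n : ℕ) :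
    (fun S : Finset α => S.image e) '' {S | S.card = n ∧ Indep L S} =
      {T | T.card = n ∧ Indep ((fun b => b.image e) '' L) T} := by
  ext T
  constructor
  · rintro ⟨S, ⟨hc, hind⟩, rfl⟩
    exact ⟨by rw [Finset.card_image_of_injective _ e.injective]; exact hc,
      (indep_image_iff L e S).mpr hind⟩
  · rintro ⟨hc, hind⟩
    refine ⟨T.image e.symm, ⟨?_, ?_⟩, image_image_symm e T⟩
    · rw [Finset.card_image_of_injective _ e.symm.injective]
      exact hc
    · rw [← indep_image_iff L e, image_image_symm]
      exact hind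

theorem plane_hyperovals {α : Type u} [Fintype α] [DecidableEq α] (hα : Fintype.card α = 21)
    (L : Set (Finset α)) (hL : IsSteinerSystem 2 5 L) :
    {S : Finset α | S.card = 4 ∧ Indep L S}.ncard = 2520 ∧
      {H : Finset α | H.card = 6 ∧ Indep L H}.ncard = 168 ∧
      ∀ S : Finset α, (S.card = 4 ∧ Indep L S) →
        ∃! H : Finset α, (H.card = 6 ∧ Indep L H) ∧ S ⊆ H := by
  obtain ⟨e, he⟩ := plane_std hα L hL
  have hstd : (fun b => b.image e) '' L = stdPlane := by
    ext d
    exact he d
  have hinj : Function.Injective (fun S : Finset α => S.image e) :=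
    Finset.image_injective e.injective
  refine ⟨?_, ?_, ?_⟩
  · rw [← Set.ncard_image_of_injective _ hinj, image_indep_set, hstd]
    exact std_quad_count
  · rw [← Set.ncard_image_of_injective _ hinj, image_indep_set, hstd]
    exact std_hyp_count
  · rintro S ⟨hc, hind⟩
    have hS' : (S.image e).card = 4 ∧ Indep stdPlane (S.image e) := by
      rw [← hstd]
      exact ⟨by rw [Finset.card_image_of_injective _ e.injective]; exact hc,
        (indep_image_iff L e S).mpr hind⟩
    obtain ⟨H', ⟨⟨hH'c, hH'i⟩, hsub⟩, huniq⟩ := std_quad_unique _ hS'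
    refine ⟨H'.image e.symm, ⟨⟨?_, ?_⟩, ?_⟩, ?_⟩
    · rw [Finset.card_image_of_injective _ e.symm.injective]
      exact hH'c
    · rw [← indep_image_iff L e, image_image_symm, hstd]
      exact hH'i
    · intro a ha
      rw [Finset.mem_image]
      exact ⟨e a, hsub (Finset.mem_image_of_mem _ ha), e.symm_apply_apply a⟩
    · rintro H ⟨⟨hHc, hHi⟩, hSH⟩
      have := huniq (H.image e) ⟨⟨?_, ?_⟩, Finset.image_subset_image hSH⟩
      · rw [← this, image_symm_image]
      · rw [Finset.card_image_of_injective _ e.injective]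
        exact hHc
      · rw [← hstd]
        exact (indep_image_iff L e H).mpr hHi

end Cfsg.Agent.Lib.helper3
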