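import Mathlib
import Cfsg.Agent.Lib.helper3.StHyp

set_option autoImplicit false

namespace Cfsg.Agent.Lib.helper3

open Cfsg

universe u

/-! ### The grid of a plane of order four with prescribed lines -/

section

variable {α : Type u} [Fintype α] [DecidableEq α] {L : Set (Finset α)}

/-- the grid with a prescribed line at infinity, prescribed points on it and prescribed rows and
columns -/
theorem plane_grid_of (hL : IsSteinerSystem 2 5 L) (hα : Fintype.card α = 21)
    {linf : Finset α} (hlinf : linf ∈ L) (pts : Fin 5 → α) (hpts : Function.Injective pts)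
    (hEl : ∀ i, pts i ∈ linf) (rows cols : Fin 4 → Finset α)
    (hrinj : Function.Injective rows) (hcinj : Function.Injective cols)
    (hrow : ∀ a, rows a ∈ L ∧ pts 0 ∈ rows a ∧ rows a ≠ linf)
    (hcol : ∀ b, cols b ∈ L ∧ pts 1 ∈ cols b ∧ cols b ≠ linf) :
    ∃ ι : Fin 5 ⊕ (Fin 4 × Fin 4) → α, Function.Injective ι ∧ (∀ i, ι (Sum.inl i) = pts i) ∧
      (∀ a b, ι (Sum.inr (a, b)) ∈ rows a) ∧ (∀ a b, ι (Sum.inr (a, b)) ∈ cols b) := by
  have hp01 : pts 0 ≠ pts 1 := fun h => absurd (hpts h) (by decide)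
  have hne : ∀ a b, rows a ≠ cols b := by
    intro a b h
    apply (hrow a).2.2
    exact plane_line_unique hL hp01 (hrow a).1 hlinf (hrow a).2.1 (h ▸ (hcol b).2.1)
      (hEl 0) (hEl 1)
  have hX : ∀ a b, ∃ z, rows a ∩ cols b = {z} := fun a b =>
    plane_inter_eq_singleton hL hα (hrow a).1 (hcol b).1 (hne a b)
  choose X hX using hX
  have hXr : ∀ a b, X a b ∈ rows a := by
    intro a b
    have : X a b ∈ rows a ∩ cols b := by
      rw [hX a b]
      exact Finset.mem_singleton_self _
    exact (Finset.mem_inter.mp this).1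
  have hXc : ∀ a b, X a b ∈ cols b := by
    intro a b
    have : X a b ∈ rows a ∩ cols b := by
      rw [hX a b]
      exact Finset.mem_singleton_self _
    exact (Finset.mem_inter.mp this).2
  have hXl : ∀ a b, X a b ∉ linf := by
    intro a b h
    have h0 : X a b = pts 0 := by
      by_contra hne0
      exact (hrow a).2.2
        (plane_line_unique hL hne0 (hrow a).1 hlinf (hXr a b) (hrow a).2.1 h (hEl 0))
    have h1 : X a b = pts 1 := by
      by_contra hne1
      exact (hcol b).2.2
        (plane_line_unique hL hne1 (hcol b).1 hlinf (hXc a b) (hcol b).2.1 h (hEl 1))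
    exact hp01 (h0.symm.trans h1)
  have hXinj : ∀ a b a' b', X a b = X a' b' → a = a' ∧ b = b' := by
    intro a b a' b' h
    constructor
    · have hne0 : X a b ≠ pts 0 := fun h0 => hXl a b (h0 ▸ hEl 0)
      have : rows a = rows a' :=
        plane_line_unique hL hne0 (hrow a).1 (hrow a').1 (hXr a b) (hrow a).2.1
          (h ▸ hXr a' b') (hrow a').2.1
      exact hrinj this
    · have hne1 : X a b ≠ pts 1 := fun h1 => hXl a b (h1 ▸ hEl 1)
      have : cols b = cols b' :=
        plane_line_unique hL hne1 (hcol b).1 (hcol b').1 (hXc a b) (hcol b).2.1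
          (h ▸ hXc a' b') (hcol b').2.1
      exact hcinj this
  refine ⟨Sum.elim pts (fun ab => X ab.1 ab.2), ?_, fun i => rfl, hXr, hXc⟩
  rintro (i | ⟨a, b⟩) (j | ⟨a', b'⟩) h
  · simp only [Sum.elim_inl] at h
    rw [hpts h]
  · simp only [Sum.elim_inl, Sum.elim_inr] at h
    exact absurd (h ▸ hEl i) (hXl a' b')
  · simp only [Sum.elim_inl, Sum.elim_inr] at h
    exact absurd (h ▸ hEl j) (hXl a b)
  · simp only [Sum.elim_inr] at h
    obtain ⟨rfl, rfl⟩ := hXinj a b a' b' h
    rfl

/-- the numbering given by a grid, and the completion of the grid realised by the plane -/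
theorem grid_final (hL : IsSteinerSystem 2 5 L) (hα : Fintype.card α = 21)
    (ι : Fin 5 ⊕ (Fin 4 × Fin 4) → α) (hinj : Function.Injective ι) {linf : Finset α}
    (rows cols : Fin 4 → Finset α) (hlinf : linf ∈ L) (hrows : ∀ a, rows a ∈ L)
    (hcols : ∀ b, cols b ∈ L) (h1 : ∀ i, ι (Sum.inl i) ∈ linf)
    (h2 : ∀ a, ι (Sum.inl 0) ∈ rows a) (h3 : ∀ b, ι (Sum.inl 1) ∈ cols b)
    (h4 : ∀ a b, ι (Sum.inr (a, b)) ∈ rows a) (h5 : ∀ a b, ι (Sum.inr (a, b)) ∈ cols b) :
    ∃ e : α ≃ Fin 21, (∀ s, e (ι s) = gridFun s) ∧ ∃ F ∈ planeFinals, IsStdVia F L e := by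
  have hbij : Function.Bijective ι := by
    rw [Fintype.bijective_iff_injective_and_card]
    refine ⟨hinj, ?_⟩
    rw [hα]
    simp
  set e := (Equiv.ofBijective ι hbij).symm.trans gridIdx with he
  have hes : ∀ s, e (ι s) = gridFun s := by
    intro s
    have : (Equiv.ofBijective ι hbij).symm (ι s) = s :=
      (Equiv.ofBijective ι hbij).symm_apply_apply s
    rw [he, Equiv.trans_apply, this]
    rfl
  have hS : IsSteinerSystem 2 5 ((fun b => b.image e) '' L) := isSteinerSystem_image hL e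
  have hinfm : maskF (linf.image e) = 31 := by
    rw [he, grid_line_image hbij (hL.1 _ hlinf) gridTinf gridTinf_card ?_]
    · exact gridTinf_mask
    · intro s hs
      rw [gridTinf, Finset.mem_image] at hs
      obtain ⟨i, -, rfl⟩ := hs
      exact h1 i
  have hrowm : ∀ a, maskF ((rows a).image e) = ![481, 7681, 122881, 1966081] a := by
    intro a
    rw [he, grid_line_image hbij (hL.1 _ (hrows a)) (gridTrow a) (gridTrow_card a) ?_]
    · exact gridTrow_mask a
    · intro s hs
      rw [gridTrow, Finset.mem_insert, Finset.mem_image] at hs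
      rcases hs with rfl | ⟨b, -, rfl⟩
      · exact h2 a
      · exact h4 a b
  have hcolm : ∀ b, maskF ((cols b).image e) = ![139810, 279618, 559234, 1118466] b := by
    intro b
    rw [he, grid_line_image hbij (hL.1 _ (hcols b)) (gridTcol b) (gridTcol_card b) ?_]
    · exact gridTcol_mask b
    · intro s hs
      rw [gridTcol, Finset.mem_insert, Finset.mem_image] at hs
      rcases hs with rfl | ⟨a, -, rfl⟩
      · exact h3 b
      · exact h5 a b
  have hK : ∀ c ∈ planeK9, ∃ b ∈ (fun b => b.image e) '' L, maskF b = c := by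
    intro c hc
    simp only [planeK9, List.mem_cons, List.not_mem_nil, or_false] at hc
    rcases hc with rfl | rfl | rfl | rfl | rfl | rfl | rfl | rfl | rfl
    · exact ⟨_, ⟨linf, hlinf, rfl⟩, hinfm⟩
    · exact ⟨_, ⟨rows 0, hrows 0, rfl⟩, hrowm 0⟩
    · exact ⟨_, ⟨rows 1, hrows 1, rfl⟩, hrowm 1⟩
    · exact ⟨_, ⟨rows 2, hrows 2, rfl⟩, hrowm 2⟩
    · exact ⟨_, ⟨rows 3, hrows 3, rfl⟩, hrowm 3⟩
    · exact ⟨_, ⟨cols 0, hcols 0, rfl⟩, hcolm 0⟩
    · exact ⟨_, ⟨cols 1, hcols 1, rfl⟩, hcolm 1⟩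
    · exact ⟨_, ⟨cols 2, hcols 2, rfl⟩, hcolm 2⟩
    · exact ⟨_, ⟨cols 3, hcols 3, rfl⟩, hcolm 3⟩
  obtain ⟨F, hF, hstd⟩ := solve_final (total := 21) (by norm_num) planeFinals _ hS (by decide)
    (by decide) planeFinals_ok planeScript planeK9 planeScript_ok planeK9_nodup hK plane_solve
  exact ⟨e, hes, F, hF, fun d => hstd d⟩

end

end Cfsg.Agent.Lib.helper3
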