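import Mathlib
import Cfsg.Agent.Lib.helper3.StHypGrid

set_option autoImplicit false

namespace Cfsg.Agent.Lib.helper3

open Cfsg

universe u

/-! ### The normal form of a plane of order four with a numbered hyperoval -/

/-- the completion of the grid in which the diagonal, with the two centres, is a hyperoval and
the lines joining the first diagonal point to the others pass through the points `2`, `3`, `4` -/
def hypStarF : List ℕ := planeFinals.getD 8 []

/-- the test singling out `hypStarF` -/
def hypCond (F : List ℕ) : Bool :=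
  F.all (fun c => Nat.ble (pc24 (Nat.land c 1082403)) 2) &&
  F.any (fun c => Nat.beq (Nat.land c 1060) 1060) &&
  F.any (fun c => Nat.beq (Nat.land c 32808) 32808) &&
  F.any (fun c => Nat.beq (Nat.land c 1048624) 1048624)

theorem final_select : ∀ F ∈ planeFinals, hypCond F = true → F = hypStarF := by decide +kernel

theorem planeFinals_lt : ∀ F ∈ planeFinals, ∀ c ∈ F, c < 2 ^ 21 := by decide +kernel

/-- the positions of the points of the hyperoval -/
def hpos : Fin 6 → Fin 21 := ![0, 1, 5, 10, 15, 20]

theorem hpos_mask : maskF (Finset.univ.image hpos) = 1082403 := by decide +kernel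

theorem mask_triple (a b c : Fin 21) (m : ℕ) (hm : maskF ({a, b, c} : Finset (Fin 21)) = m)
    (d : Finset (Fin 21)) (ha : a ∈ d) (hb : b ∈ d) (hc : c ∈ d) :
    Nat.beq (Nat.land (maskF d) m) m = true := by
  have hsub : ({a, b, c} : Finset (Fin 21)) ⊆ d := by
    intro x hx
    simp only [Finset.mem_insert, Finset.mem_singleton] at hx
    rcases hx with rfl | rfl | rfl <;> assumption
  have := (subset_iff_land _ _).mp hsub
  rw [hm] at this
  have h2 : Nat.land (maskF d) m = m := this
  rw [h2]
  exact Nat.beq_refl m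

theorem gridFun_diag : ∀ a : Fin 4, gridFun (Sum.inr (a, a)) = hpos a.succ.succ := by decide

theorem gridFun_inl : ∀ i : Fin 5, (gridFun (Sum.inl i) : ℕ) = i := by decide

theorem plane_hyp_std {α : Type u} [Fintype α] [DecidableEq α] (hα : Fintype.card α = 21)
    (L : Set (Finset α)) (hL : IsSteinerSystem 2 5 L) (h : Fin 6 → α)
    (hinj : Function.Injective h)
    (hind : ∀ l ∈ L, ∀ i j k, h i ∈ l → h j ∈ l → h k ∈ l → i = j ∨ i = k ∨ j = k) :
    ∃ e : α ≃ Fin 21, IsStdVia hypStarF L e ∧ ∀ i, e (h i) = hpos i := by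
  -- the secants
  have hline : ∀ i j, i ≠ j → ∃ l, l ∈ L ∧ h i ∈ l ∧ h j ∈ l := by
    intro i j hij
    obtain ⟨l, hl, h1, h2⟩ := plane_exists_line hL (hinj.ne hij)
    exact ⟨l, hl, h1, h2⟩
  choose! ln hln using hline
  have hmem : ∀ i j, i ≠ j → ∀ k, h k ∈ ln i j → k = i ∨ k = j := by
    intro i j hij k hk
    rcases hind _ (hln i j hij).1 i j k (hln i j hij).2.1 (hln i j hij).2.2 hk with h1 | h1 | h1
    · exact absurd h1 hij
    · exact Or.inl h1.symm
    · exact Or.inr h1.symm
  have hlne : ∀ i j, i ≠ j → ∀ i' j', i' ≠ j' → i' ≠ i → i' ≠ j → ln i j ≠ ln i' j' := by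
    intro i j hij i' j' hij' h1 h2 heq
    have := hmem i j hij i' (heq ▸ (hln i' j' hij').2.1)
    rcases this with h3 | h3
    · exact h1 h3
    · exact h2 h3
  set linf := ln 0 1 with hlinf
  have hlinfL : linf ∈ L := (hln 0 1 (by decide)).1
  -- the points at infinity
  have hz : ∀ k : Fin 3, ∃ z, linf ∩ ln 2 k.succ.succ.succ = {z} := by
    intro k
    refine plane_inter_eq_singleton hL hα hlinfL (hln 2 _ ?_).1 (hlne 0 1 (by decide) 2 _ ?_ ?_ ?_)
    · revert k; decide
    · revert k; decide
    · decide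
    · decide
  choose z hz using hz
  have hzl : ∀ k, z k ∈ linf := by
    intro k
    have : z k ∈ linf ∩ ln 2 k.succ.succ.succ := by
      rw [hz k]
      exact Finset.mem_singleton_self _
    exact (Finset.mem_inter.mp this).1
  have hzs : ∀ k, z k ∈ ln 2 k.succ.succ.succ := by
    intro k
    have : z k ∈ linf ∩ ln 2 k.succ.succ.succ := by
      rw [hz k]
      exact Finset.mem_singleton_self _
    exact (Finset.mem_inter.mp this).2
  have hk3 : ∀ k : Fin 3, (2 : Fin 6) ≠ k.succ.succ.succ := by decide
  have hzH : ∀ k m, z k ≠ h m := by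
    intro k m heq
    have h1 := hmem 0 1 (by decide) m (heq ▸ hzl k)
    have h2 := hmem 2 _ (hk3 k) m (heq ▸ hzs k)
    have key : ∀ (k : Fin 3) (m : Fin 6), (m = 0 ∨ m = 1) →
        (m = 2 ∨ m = k.succ.succ.succ) → False := by decide
    exact key k m h1 h2
  have hzinj : ∀ k k', z k = z k' → k = k' := by
    intro k k' heq
    by_contra hne
    have hl1 := hln 2 _ (hk3 k)
    have hl2 := hln 2 _ (hk3 k')
    have hne2 : ln 2 k.succ.succ.succ ≠ ln 2 k'.succ.succ.succ := by
      intro hh
      have := hmem 2 _ (hk3 k) k'.succ.succ.succ (hh ▸ hl2.2.2)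
      rcases this with h1 | h1
      · exact hk3 k' h1.symm
      · apply hne
        have := Fin.succ_injective _ (Fin.succ_injective _ (Fin.succ_injective _ h1))
        exact this.symm
    have hz2 : z k ≠ h 2 := hzH k 2
    exact hne2 (plane_line_unique hL hz2 hl1.1 hl2.1 (hzs k) hl1.2.1 (heq ▸ hzs k') hl2.2.1)
  set pts : Fin 5 → α := ![h 0, h 1, z 0, z 1, z 2] with hpts
  have hptsinj : Function.Injective pts := by
    have e0 : pts 0 = h 0 := rfl
    have e1 : pts 1 = h 1 := rfl
    have e2 : pts 2 = z 0 := rfl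
    have e3 : pts 3 = z 1 := rfl
    have e4 : pts 4 = z 2 := rfl
    have h01 : h 0 ≠ h 1 := hinj.ne (by decide)
    have z01 : z 0 ≠ z 1 := fun hh => absurd (hzinj _ _ hh) (by decide)
    have z02 : z 0 ≠ z 2 := fun hh => absurd (hzinj _ _ hh) (by decide)
    have z12 : z 1 ≠ z 2 := fun hh => absurd (hzinj _ _ hh) (by decide)
    intro i j hij
    fin_cases i <;> fin_cases j <;>
      first
        | rfl
        | (exfalso
           simp only [Fin.zero_eta, Fin.mk_one, Fin.reduceFinMk] at hij
           first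
             | exact h01 hij
             | exact h01 hij.symm
             | exact hzH _ _ hij
             | exact hzH _ _ hij.symm
             | exact z01 hij
             | exact z01 hij.symm
             | exact z02 hij
             | exact z02 hij.symm
             | exact z12 hij
             | exact z12 hij.symm)
  have hptsl : ∀ i, pts i ∈ linf := by
    intro i
    fin_cases i
    · exact (hln 0 1 (by decide)).2.1
    · exact (hln 0 1 (by decide)).2.2
    · exact hzl 0
    · exact hzl 1
    · exact hzl 2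
  -- rows and columns
  have ha2 : ∀ a : Fin 4, (0 : Fin 6) ≠ a.succ.succ := by decide
  have hb2 : ∀ a : Fin 4, (1 : Fin 6) ≠ a.succ.succ := by decide
  set rows : Fin 4 → Finset α := fun a => ln 0 a.succ.succ with hrowsdef
  set cols : Fin 4 → Finset α := fun b => ln 1 b.succ.succ with hcolsdef
  have hrinj : Function.Injective rows := by
    intro a a' heq
    have := hmem 0 _ (ha2 a) a'.succ.succ (by
      change h a'.succ.succ ∈ ln 0 a.succ.succ
      have : ln 0 a.succ.succ = ln 0 a'.succ.succ := heq
      rw [this]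
      exact (hln 0 _ (ha2 a')).2.2)
    rcases this with h1 | h1
    · exact absurd h1.symm (ha2 a')
    · exact (Fin.succ_injective _ (Fin.succ_injective _ h1)).symm
  have hcinj : Function.Injective cols := by
    intro b b' heq
    have := hmem 1 _ (hb2 b) b'.succ.succ (by
      change h b'.succ.succ ∈ ln 1 b.succ.succ
      have : ln 1 b.succ.succ = ln 1 b'.succ.succ := heq
      rw [this]
      exact (hln 1 _ (hb2 b')).2.2)
    rcases this with h1 | h1
    · exact absurd h1.symm (hb2 b')
    · exact (Fin.succ_injective _ (Fin.succ_injective _ h1)).symm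
  have hrow : ∀ a, rows a ∈ L ∧ pts 0 ∈ rows a ∧ rows a ≠ linf := by
    intro a
    refine ⟨(hln 0 _ (ha2 a)).1, (hln 0 _ (ha2 a)).2.1, ?_⟩
    intro heq
    have := hmem 0 1 (by decide) a.succ.succ (by
      rw [← hlinf, ← heq]
      exact (hln 0 _ (ha2 a)).2.2)
    rcases this with h1 | h1
    · exact ha2 a h1.symm
    · exact hb2 a h1.symm
  have hcol : ∀ b, cols b ∈ L ∧ pts 1 ∈ cols b ∧ cols b ≠ linf := by
    intro b
    refine ⟨(hln 1 _ (hb2 b)).1, (hln 1 _ (hb2 b)).2.1, ?_⟩
    intro heq
    have := hmem 0 1 (by decide) b.succ.succ (by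
      rw [← hlinf, ← heq]
      exact (hln 1 _ (hb2 b)).2.2)
    rcases this with h1 | h1
    · exact ha2 b h1.symm
    · exact hb2 b h1.symm
  obtain ⟨ι, hιinj, hιpts, hιr, hιc⟩ := plane_grid_of hL hα hlinfL pts hptsinj hptsl rows cols
    hrinj hcinj hrow hcol
  -- the diagonal of the grid
  have hdiag : ∀ a : Fin 4, ι (Sum.inr (a, a)) = h a.succ.succ := by
    intro a
    have hne : rows a ≠ cols a := by
      intro heq
      have := hmem 0 _ (ha2 a) 1 (by
        change h 1 ∈ ln 0 a.succ.succ
        have : ln 0 a.succ.succ = ln 1 a.succ.succ := heq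
        rw [this]
        exact (hln 1 _ (hb2 a)).2.1)
      rcases this with h1 | h1
      · exact absurd h1 (by decide)
      · exact hb2 a h1
    obtain ⟨w, hw⟩ := plane_inter_eq_singleton hL hα (hrow a).1 (hcol a).1 hne
    have m1 : ι (Sum.inr (a, a)) ∈ rows a ∩ cols a := Finset.mem_inter.mpr ⟨hιr a a, hιc a a⟩
    have m2 : h a.succ.succ ∈ rows a ∩ cols a :=
      Finset.mem_inter.mpr ⟨(hln 0 _ (ha2 a)).2.2, (hln 1 _ (hb2 a)).2.2⟩
    rw [hw, Finset.mem_singleton] at m1 m2
    rw [m1, m2]
  obtain ⟨e, hes, F, hF, hstd⟩ := grid_final hL hα ι hιinj rows cols hlinfL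
    (fun a => (hrow a).1) (fun b => (hcol b).1) (fun i => by rw [hιpts]; exact hptsl i)
    (fun a => by rw [hιpts]; exact (hrow a).2.1) (fun b => by rw [hιpts]; exact (hcol b).2.1)
    hιr hιc
  -- where the hyperoval goes
  have heh : ∀ i, e (h i) = hpos i := by
    intro i
    have h0 : e (h 0) = hpos 0 := by
      have : h 0 = ι (Sum.inl 0) := (hιpts 0).symm
      rw [this, hes]
      rfl
    have h1 : e (h 1) = hpos 1 := by
      have : h 1 = ι (Sum.inl 1) := (hιpts 1).symm
      rw [this, hes]
      rfl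
    have h2 : ∀ a : Fin 4, e (h a.succ.succ) = hpos a.succ.succ := by
      intro a
      rw [← hdiag a, hes, gridFun_diag]
    fin_cases i
    · exact h0
    · exact h1
    · exact h2 0
    · exact h2 1
    · exact h2 2
    · exact h2 3
  have hez : ∀ k : Fin 3, ((e (z k) : Fin 21) : ℕ) = (k : ℕ) + 2 := by
    intro k
    have : z k = ι (Sum.inl k.succ.succ) := by
      rw [hιpts]
      fin_cases k <;> rfl
    rw [this, hes, gridFun_inl]
    rfl
  -- the completion is the distinguished one
  have hcond : hypCond F = true := by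
    unfold hypCond
    rw [Bool.and_eq_true, Bool.and_eq_true, Bool.and_eq_true, List.all_eq_true,
      List.any_eq_true, List.any_eq_true, List.any_eq_true]
    have hsec : ∀ k : Fin 3, ∃ d : Finset (Fin 21), maskF d ∈ F ∧ hpos 2 ∈ d ∧
        hpos k.succ.succ.succ ∈ d ∧ e (z k) ∈ d := by
      intro k
      have hl := hln 2 _ (hk3 k)
      refine ⟨(ln 2 k.succ.succ.succ).image e, (hstd _).mp ⟨_, hl.1, rfl⟩, ?_, ?_, ?_⟩
      · rw [← heh]
        exact Finset.mem_image_of_mem _ hl.2.1
      · rw [← heh]
        exact Finset.mem_image_of_mem _ hl.2.2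
      · exact Finset.mem_image_of_mem _ (hzs k)
    refine ⟨⟨⟨?_, ?_⟩, ?_⟩, ?_⟩
    · intro c hc
      have hclt := planeFinals_lt F hF c hc
      have hd : ofMask 21 c ∈ (fun b => b.image e) '' L :=
        (hstd _).mpr (by rw [maskF_ofMask c hclt]; exact hc)
      obtain ⟨l, hl, hld⟩ := hd
      dsimp only at hld
      rw [Nat.ble_eq]
      have hcard : (ofMask 21 c ∩ Finset.univ.image hpos).card ≤ 2 := by
        by_contra hgt
        push Not at hgt
        obtain ⟨a, b, c', ha, hb, hc', hab, hac, hbc⟩ := Finset.two_lt_card_iff.mp hgt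
        rw [Finset.mem_inter, Finset.mem_image] at ha hb hc'
        obtain ⟨ha1, i, -, rfl⟩ := ha
        obtain ⟨hb1, j, -, rfl⟩ := hb
        obtain ⟨hc1, k, -, rfl⟩ := hc'
        have hmeml : ∀ m, hpos m ∈ ofMask 21 c → h m ∈ l := by
          intro m hm
          rw [← hld, ← heh, Finset.mem_image] at hm
          obtain ⟨x, hx, hxe⟩ := hm
          rwa [← e.injective hxe]
        rcases hind l hl i j k (hmeml i ha1) (hmeml j hb1) (hmeml k hc1) with h1 | h1 | h1
        · exact hab (by rw [h1])
        · exact hac (by rw [h1])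
        · exact hbc (by rw [h1])
      rw [card_eq_pc24 (by norm_num), maskF_inter, maskF_ofMask c hclt, hpos_mask] at hcard
      exact hcard
    · obtain ⟨d, hdF, m1, m2, m3⟩ := hsec 0
      refine ⟨maskF d, hdF, ?_⟩
      have hz0 : e (z 0) = (2 : Fin 21) := Fin.ext (hez 0)
      rw [hz0] at m3
      exact mask_triple 5 10 2 1060 (by decide +kernel) d m1 m2 m3
    · obtain ⟨d, hdF, m1, m2, m3⟩ := hsec 1
      refine ⟨maskF d, hdF, ?_⟩
      have hz1 : e (z 1) = (3 : Fin 21) := Fin.ext (hez 1)
      rw [hz1] at m3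
      exact mask_triple 5 15 3 32808 (by decide +kernel) d m1 m2 m3
    · obtain ⟨d, hdF, m1, m2, m3⟩ := hsec 2
      refine ⟨maskF d, hdF, ?_⟩
      have hz2 : e (z 2) = (4 : Fin 21) := Fin.ext (hez 2)
      rw [hz2] at m3
      exact mask_triple 5 20 4 1048624 (by decide +kernel) d m1 m2 m3
  have hFeq := final_select F hF hcond
  rw [hFeq] at hstd
  exact ⟨e, fun d => hstd d, heh⟩

end Cfsg.Agent.Lib.helper3
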