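import Mathlib
import Cfsg.Agent.Lib.helper3.StHypStd
import Cfsg.Agent.Lib.helper3.StAut

set_option autoImplicit false

namespace Cfsg.Agent.Lib.helper3

open Cfsg

universe u

/-! ### The permutations of a hyperoval extend uniquely to collineations -/

section

variable {α : Type u} [Fintype α] [DecidableEq α] {L : Set (Finset α)}

/-- every line through a point of a hyperoval contains a second point of it -/
theorem hyp_line_second (hL : IsSteinerSystem 2 5 L) (hα : Fintype.card α = 21) {H : Finset α}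
    (hH : H.card = 6 ∧ Indep L H) {h : α} (hh : h ∈ H) {l : Finset α} (hl : l ∈ L)
    (hhl : h ∈ l) : ∃ h' ∈ H, h' ≠ h ∧ h' ∈ l := by
  have hch : ∀ p : α, p ∈ H.erase h → ∃ n, n ∈ L ∧ h ∈ n ∧ p ∈ n := by
    intro p hp
    obtain ⟨n, hn, h1, h2⟩ := plane_exists_line hL (Finset.ne_of_mem_erase hp).symm
    exact ⟨n, hn, h1, h2⟩
  choose! f hf using hch
  have hinj : Set.InjOn f (H.erase h : Set α) := by
    intro p hp p' hp' hpp
    by_contra hne'
    have h1 := hf p hp
    have h2 := hf p' hp'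
    rw [← hpp] at h2
    have hsub : ({h, p, p'} : Finset α) ⊆ f p ∩ H := by
      intro x hx
      simp only [Finset.mem_insert, Finset.mem_singleton] at hx
      rw [Finset.mem_inter]
      rcases hx with rfl | rfl | rfl
      · exact ⟨h1.2.1, hh⟩
      · exact ⟨h1.2.2, Finset.mem_of_mem_erase hp⟩
      · exact ⟨h2.2.2, Finset.mem_of_mem_erase hp'⟩
    have hc3 : ({h, p, p'} : Finset α).card = 3 := by
      rw [Finset.card_insert_of_notMem, Finset.card_pair hne']
      simp only [Finset.mem_insert, Finset.mem_singleton, not_or]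
      exact ⟨(Finset.ne_of_mem_erase hp).symm, (Finset.ne_of_mem_erase hp').symm⟩
    have := Finset.card_le_card hsub
    have := hH.2 _ h1.1
    omega
  have hsub : (H.erase h).image f ⊆ thru L h := by
    intro n hn
    rw [Finset.mem_image] at hn
    obtain ⟨p, hp, rfl⟩ := hn
    rw [mem_thru]
    exact ⟨(hf p hp).1, (hf p hp).2.1⟩
  have heq : (H.erase h).image f = thru L h := by
    apply Finset.eq_of_subset_of_card_le hsub
    rw [Finset.card_image_of_injOn hinj, Finset.card_erase_of_mem hh, hH.1, card_thru hL hα]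
  have : l ∈ (H.erase h).image f := by
    rw [heq, mem_thru]
    exact ⟨hl, hhl⟩
  rw [Finset.mem_image] at this
  obtain ⟨p, hp, rfl⟩ := this
  exact ⟨p, Finset.mem_of_mem_erase hp, Finset.ne_of_mem_erase hp, (hf p hp).2.2⟩

/-- a collineation fixing every point of a hyperoval is the identity -/
theorem hyp_fix_eq_one (hL : IsSteinerSystem 2 5 L) (hα : Fintype.card α = 21) {H : Finset α}
    (hH : H.card = 6 ∧ Indep L H) {g : Equiv.Perm α} (hg : g ∈ setSystemAut L)
    (hfix : ∀ p ∈ H, g p = p) : g = 1 := by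
  have hg' := mem_setSystemAut_iff.mp hg
  -- the lines through a point of the hyperoval are fixed
  have hfixline : ∀ l ∈ L, ∀ h ∈ H, h ∈ l → l.image g = l := by
    intro l hl h hh hhl
    obtain ⟨h', hh', hne, hh'l⟩ := hyp_line_second hL hα hH hh hl hhl
    apply plane_line_unique hL hne ((hg' l).mpr hl) hl
    · exact Finset.mem_image.mpr ⟨h', hh'l, hfix h' hh'⟩
    · exact Finset.mem_image.mpr ⟨h, hhl, hfix h hh⟩
    · exact hh'l
    · exact hhl
  ext x
  rw [Equiv.Perm.one_apply]
  by_cases hx : x ∈ H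
  · exact hfix x hx
  obtain ⟨h1, hh1⟩ : H.Nonempty := by
    rw [← Finset.card_pos, hH.1]
    norm_num
  have hxh1 : x ≠ h1 := fun h => hx (h ▸ hh1)
  obtain ⟨l1, hl1, hxl1, hh1l1⟩ := plane_exists_line hL hxh1
  have hlt : (l1 ∩ H).card < H.card := by
    have := hH.2 l1 hl1
    rw [hH.1]
    omega
  obtain ⟨h2, hh2, hh2n⟩ := Finset.exists_mem_notMem_of_card_lt_card hlt
  have hh2l1 : h2 ∉ l1 := fun h => hh2n (Finset.mem_inter.mpr ⟨h, hh2⟩)
  have hxh2 : x ≠ h2 := fun h => hx (h ▸ hh2)
  obtain ⟨l2, hl2, hxl2, hh2l2⟩ := plane_exists_line hL hxh2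
  have hne : l1 ≠ l2 := fun h => hh2l1 (h ▸ hh2l2)
  obtain ⟨w, hw⟩ := plane_inter_eq_singleton hL hα hl1 hl2 hne
  have hxw : x ∈ l1 ∩ l2 := Finset.mem_inter.mpr ⟨hxl1, hxl2⟩
  have hgx : g x ∈ l1 ∩ l2 := by
    rw [Finset.mem_inter]
    constructor
    · rw [← hfixline l1 hl1 h1 hh1 hh1l1]
      exact Finset.mem_image_of_mem _ hxl1
    · rw [← hfixline l2 hl2 h2 hh2 hh2l2]
      exact Finset.mem_image_of_mem _ hxl2
  rw [hw, Finset.mem_singleton] at hxw hgx
  rw [hgx, hxw]

theorem hind_of_indep {H : Finset α} (hH : Indep L H) (h : Fin 6 → α)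
    (hinj : Function.Injective h) (hmem : ∀ i, h i ∈ H) :
    ∀ l ∈ L, ∀ i j k, h i ∈ l → h j ∈ l → h k ∈ l → i = j ∨ i = k ∨ j = k := by
  intro l hl i j k hi hj hk
  by_contra hcon
  push Not at hcon
  have hsub : ({h i, h j, h k} : Finset α) ⊆ l ∩ H := by
    intro x hx
    simp only [Finset.mem_insert, Finset.mem_singleton] at hx
    rw [Finset.mem_inter]
    rcases hx with rfl | rfl | rfl
    · exact ⟨hi, hmem _⟩
    · exact ⟨hj, hmem _⟩
    · exact ⟨hk, hmem _⟩
  have hc3 : ({h i, h j, h k} : Finset α).card = 3 := by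
    rw [Finset.card_insert_of_notMem, Finset.card_pair (hinj.ne hcon.2.2)]
    simp only [Finset.mem_insert, Finset.mem_singleton, not_or]
    exact ⟨hinj.ne hcon.1, hinj.ne hcon.2.1⟩
  have := Finset.card_le_card hsub
  have := hH l hl
  omega

/-- every permutation of a hyperoval is induced by exactly one collineation -/
theorem hyp_perm_extend (hα : Fintype.card α = 21) (L : Set (Finset α))
    (hL : IsSteinerSystem 2 5 L) (H : Finset α) (hH : H.card = 6 ∧ Indep L H)
    (σ : Equiv.Perm ↥H) :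
    ∃! g : Equiv.Perm α, g ∈ setSystemAut L ∧ ∀ p : ↥H, g p = σ p := by
  obtain ⟨f⟩ : Nonempty (Fin 6 ≃ ↥H) := ⟨(H.equivFinOfCardEq hH.1).symm⟩
  have hinj1 : Function.Injective (fun i => (f i : α)) := fun i j hij =>
    f.injective (Subtype.ext hij)
  have hinj2 : Function.Injective (fun i => (σ (f i) : α)) := fun i j hij =>
    f.injective (σ.injective (Subtype.ext hij))
  obtain ⟨e1, he1, hp1⟩ := plane_hyp_std hα L hL (fun i => (f i : α)) hinj1
    (hind_of_indep hH.2 _ hinj1 (fun i => (f i).2))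
  obtain ⟨e2, he2, hp2⟩ := plane_hyp_std hα L hL (fun i => (σ (f i) : α)) hinj2
    (hind_of_indep hH.2 _ hinj2 (fun i => (σ (f i)).2))
  have hsys : (fun b => b.image e1) '' L = (fun b => b.image e2) '' L := by
    ext d
    rw [he1 d, he2 d]
  have hgmem : e1.trans e2.symm ∈ setSystemAut L := by
    rw [mem_setSystemAut_iff]
    intro b
    have h1 : b.image (e1.trans e2.symm) = (b.image e1).image e2.symm := by
      rw [Finset.image_image]
      rfl
    rw [h1, ← image_mem_iff_of_iso e2 rfl ((b.image e1).image e2.symm), image_image_symm,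
      ← hsys, image_mem_iff_of_iso e1 rfl b]
  have hgval : ∀ p : ↥H, (e1.trans e2.symm) p = σ p := by
    intro p
    obtain ⟨i, rfl⟩ := f.surjective p
    rw [Equiv.trans_apply, hp1 i, ← hp2 i, Equiv.symm_apply_apply]
  refine ⟨e1.trans e2.symm, ⟨hgmem, hgval⟩, ?_⟩
  rintro g' ⟨hg'mem, hg'val⟩
  have hfix : ∀ p ∈ H, ((e1.trans e2.symm)⁻¹ * g') p = p := by
    intro p hp
    rw [Equiv.Perm.mul_apply, hg'val ⟨p, hp⟩, ← hgval ⟨p, hp⟩]
    exact Equiv.symm_apply_apply _ _
  have hone := hyp_fix_eq_one hL hα hH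
    ((setSystemAut L).mul_mem ((setSystemAut L).inv_mem hgmem) hg'mem) hfix
  exact (inv_mul_eq_one.mp hone).symm

end

end Cfsg.Agent.Lib.helper3
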