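import Mathlib
import Cfsg.Agent.Lib.helper3.StW12Aut
import Cfsg.Agent.Lib.helper3.StW22Main
import Cfsg.Agent.S0357
import Cfsg.Agent.S0387
import Cfsg.Agent.S0388

set_option autoImplicit false

namespace Cfsg.Agent.Lib.helper3

open Cfsg
open scoped Pointwise

universe u

/-! ### The automorphism group of the Steiner systems `S(4, 5, 11)` -/

/-- a Steiner system `S(5, 6, 12)` is determined by its derived system at a point -/
theorem steiner12_det {α : Type u} [Fintype α] [DecidableEq α] (hα : Fintype.card α = 12)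
    {B : Set (Finset α)} (hB : IsSteinerSystem 5 6 B) (x : α) (B' : Set (Finset α))
    (hB' : IsSteinerSystem 5 6 B') (h : derived B' x = derived B x) : B' = B := by
  have hthrough : ∀ b : Finset α, x ∈ b → (b ∈ B' ↔ b ∈ B) := by
    intro b hxb
    rw [← subtype_mem_derived_iff (B := B') hxb, ← subtype_mem_derived_iff (B := B) hxb, h]
  have key : ∀ {B1 B2 : Set (Finset α)}, IsSteinerSystem 5 6 B1 → IsSteinerSystem 5 6 B2 →
      (∀ b : Finset α, x ∈ b → (b ∈ B1 ↔ b ∈ B2)) → B1 ⊆ B2 := by
    intro B1 B2 h1 h2 hth b hb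
    by_cases hxb : x ∈ b
    · exact (hth b hxb).mp hb
    · have hc : bᶜ ∈ B1 := Cfsg.Agent.S0357.result hα h1 hb
      have hxc : x ∈ bᶜ := Finset.mem_compl.mpr hxb
      have hc2 : bᶜ ∈ B2 := (hth _ hxc).mp hc
      have := Cfsg.Agent.S0357.result hα h2 hc2
      rwa [compl_compl] at this
  exact Set.Subset.antisymm (key hB' hB hthrough) (key hB hB' (fun b hb => (hthrough b hb).symm))

/-- the stabiliser of a point of a second set in a point stabiliser, as an intersection -/
def stabStabEquiv' {G X Y : Type*} [Group G] [MulAction G X] [MulAction G Y] (a : X) (b : Y) :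
    MulAction.stabilizer (MulAction.stabilizer G a) b ≃*
      ↥(MulAction.stabilizer G a ⊓ MulAction.stabilizer G b) where
  toFun g := ⟨g.1.1, ⟨g.1.2, g.2⟩⟩
  invFun g := ⟨⟨g.1, g.2.1⟩, g.2.2⟩
  left_inv _ := rfl
  right_inv _ := rfl
  map_mul' _ _ := rfl

/-- a transitive action of a finite group on a set of the same size has trivial stabilisers -/
theorem trivial_of_card_eq {α : Type u} [Fintype α] [DecidableEq α] {B : Set (Finset α)} {n : ℕ}
    (htr : ∀ x y : Fin n ↪ α, ∃ g : setSystemAut B, ∀ i, (g : Equiv.Perm α) (x i) = y i)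
    (hcard : Nat.card (setSystemAut B) = Nat.card (Fin n ↪ α)) (x : Fin n ↪ α)
    (g : setSystemAut B) (hg : ∀ i, (g : Equiv.Perm α) (x i) = x i) : g = 1 := by
  have hsurj : Function.Surjective
      (fun g : setSystemAut B => x.trans (g : Equiv.Perm α).toEmbedding) := by
    intro y
    obtain ⟨g, hg⟩ := htr x y
    exact ⟨g, Function.Embedding.ext hg⟩
  have hbij := (Nat.bijective_iff_surjective_and_card _).mpr ⟨hsurj, hcard⟩
  apply hbij.1
  apply Function.Embedding.ext
  intro i
  simp only [Function.Embedding.trans_apply, Equiv.coe_toEmbedding]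
  rw [hg i]
  rfl

theorem hexRes_symm_smul {d : Finset GolayPt} (hd : d ∈ dodecads) (g : setSystemAut (hexads d))
    (a : ↥d) :
    ((g • a : ↥d) : GolayPt) =
      ((MulEquiv.ofBijective (hexRes d) (hexRes_bijective hd)).symm g) • (a : GolayPt) := by
  obtain ⟨g', rfl⟩ := (MulEquiv.ofBijective (hexRes d) (hexRes_bijective hd)).surjective g
  rw [MulEquiv.symm_apply_apply]
  rfl

/-- the automorphism group of any Steiner system `S(4, 5, 11)` -/
theorem w11_aut {α : Type u} [Fintype α] [DecidableEq α] (hα : Fintype.card α = 11)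
    {B : Set (Finset α)} (hB : IsSteinerSystem 4 5 B) :
    IsM11 (setSystemAut B) ∧ MulAction.IsMultiplyPretransitive (setSystemAut B) α 4 ∧
      ∀ x : Fin 4 ↪ α, MulAction.stabilizer (setSystemAut B) x = ⊥ := by
  obtain ⟨d, hd⟩ := exists_dodecad
  have hc12 : Fintype.card ↥d = 12 := by
    rw [Fintype.card_coe]
    exact hd.2
  obtain ⟨p⟩ : Nonempty ↥d := by
    rw [← Fintype.card_pos_iff, hc12]
    norm_num
  have hB0 := hexads_steiner hd
  have hD : IsSteinerSystem 4 5 (derived (hexads d) p) := Cfsg.Agent.S0351.result hB0 p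
  have hc11 : Fintype.card {a : ↥d // a ≠ p} = 11 := card_ne_subtype hc12 p
  have hsurj : Function.Surjective (resHom (hexads d) p) :=
    resHom_surjective hB0 (steiner12_det hc12 hB0 p)
  -- the model
  haveI h1 : MulAction.IsPretransitive (setSystemAut (hexads d)) ↥d := by
    have h5 := hexads_five d hd
    have h1 : MulAction.IsMultiplyPretransitive (setSystemAut (hexads d)) ↥d 1 :=
      MulAction.isMultiplyPretransitive_of_le (n := 5) (by norm_num)
        (by rw [Nat.card_eq_fintype_card, hc12]; norm_num)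
    exact MulAction.is_one_pretransitive_iff.mp h1
  have h4 : MulAction.IsMultiplyPretransitive (setSystemAut (derived (hexads d) p))
      {a : ↥d // a ≠ p} 4 := derived_aut_pretransitive 4 hsurj (hexads_five d hd)
  let ψ1 : MulAction.stabilizer (setSystemAut (hexads d)) p ≃*
      setSystemAut (derived (hexads d) p) :=
    MulEquiv.ofBijective (resHom (hexads d) p) ⟨resHom_injective _ _, hsurj⟩
  let ψ2 : MulAction.stabilizer (setSystemAut (hexads d)) p ≃*
      MulAction.stabilizer (MulAction.stabilizer M24 d) (p : GolayPt) :=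
    stabilizerCongrOfMap (MulEquiv.ofBijective (hexRes d) (hexRes_bijective hd)).symm
      (Subtype.val : ↥d → GolayPt) Subtype.val_injective (hexRes_symm_smul hd) p
  let ψ3 := stabStabEquiv' (G := M24) d (p : GolayPt)
  let ψ : setSystemAut (derived (hexads d) p) ≃*
      ↥(MulAction.stabilizer M24 d ⊓ MulAction.stabilizer M24 (p : GolayPt)) :=
    (ψ1.symm.trans ψ2).trans ψ3
  -- transfer
  obtain ⟨e, he⟩ : SetSystemIso (derived (hexads d) p) B := by
    obtain ⟨e1, he1⟩ := w11_std hc11 _ hD
    obtain ⟨e2, he2⟩ := w11_std hα B hB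
    exact iso_of_isStdVia he1 he2
  obtain ⟨φ, hφ⟩ := aut_transfer e he
  have h4B : MulAction.IsMultiplyPretransitive (setSystemAut B) α 4 :=
    isMultiplyPretransitive_of_equiv φ e hφ 4 h4
  have hsimple : IsSimpleGroup ↥(MulAction.stabilizer M24 d ⊓
      MulAction.stabilizer M24 (p : GolayPt)) := Cfsg.Agent.S0388.result d hd p p.2
  have hcard : Nat.card (setSystemAut B) = 7920 := by
    rw [← Cfsg.Agent.S0387.result d hd p p.2]
    exact Nat.card_congr (φ.symm.trans ψ).toEquiv
  refine ⟨⟨(φ.symm.trans ψ).isSimpleGroup, hcard⟩, h4B, ?_⟩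
  have htr : ∀ x y : Fin 4 ↪ α, ∃ g : setSystemAut B, ∀ i, (g : Equiv.Perm α) (x i) = y i := by
    intro x y
    obtain ⟨g, hg⟩ := (MulAction.isMultiplyPretransitive_iff.mp h4B) x y
    exact ⟨g, fun i => congrArg (fun z : Fin 4 ↪ α => z i) hg⟩
  have hcard' : Nat.card (setSystemAut B) = Nat.card (Fin 4 ↪ α) := by
    rw [hcard, Nat.card_eq_fintype_card, Fintype.card_embedding_eq, hα, Fintype.card_fin]
    rfl
  intro x
  rw [Subgroup.eq_bot_iff_forall]
  intro g hg
  rw [MulAction.mem_stabilizer_iff] at hg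
  exact trivial_of_card_eq htr hcard' x g (fun i => congrArg (fun z : Fin 4 ↪ α => z i) hg)

end Cfsg.Agent.Lib.helper3
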