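import Mathlib
import Cfsg.Prelude.Def_Sporadic_a
import Cfsg.Agent.Lib.helper3.Steiner

set_option autoImplicit false

namespace Cfsg.Agent.Lib.helper3

open Cfsg

variable {α : Type*} [Fintype α] [DecidableEq α] {t k : ℕ} {B : Set (Finset α)}

/-- blocks meeting `b` exactly in `u` -/
noncomputable def exactInter (B : Set (Finset α)) (b u : Finset α) : Finset (Finset α) :=
  (blocks B).filter (fun c => b ∩ c = u)

theorem mem_exactInter {b u c : Finset α} : c ∈ exactInter B b u ↔ c ∈ B ∧ b ∩ c = u := by
  unfold exactInter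
  rw [Finset.mem_filter, mem_blocks]

theorem card_through_eq_sum {b s : Finset α} (hs : s ⊆ b) :
    ((blocks B).filter (fun c => s ⊆ c)).card =
      ∑ u ∈ (b.powerset).filter (s ⊆ ·), (exactInter B b u).card := by
  have hdisj : ((((b.powerset).filter (s ⊆ ·)) : Finset (Finset α)) : Set (Finset α)).PairwiseDisjoint
      (fun u => exactInter B b u) := by
    intro u _ u' _ hne
    rw [Function.onFun, Finset.disjoint_left]
    intro c hc hc'
    rw [mem_exactInter] at hc hc'
    exact hne (hc.2.symm.trans hc'.2)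
  rw [← Finset.card_biUnion hdisj]
  congr 1
  ext c
  simp only [Finset.mem_filter, mem_blocks, Finset.mem_biUnion, Finset.mem_powerset,
    mem_exactInter]
  constructor
  · rintro ⟨hc, hsc⟩
    exact ⟨b ∩ c, ⟨Finset.inter_subset_left, Finset.subset_inter hs hsc⟩, hc, rfl⟩
  · rintro ⟨u, ⟨_, hsu⟩, hc, rfl⟩
    exact ⟨hc, hsu.trans Finset.inter_subset_right⟩

/-- the downward recursion step for exact intersection numbers -/
theorem exact_step (hB : IsSteinerSystem t k B) {b s : Finset α} (hb : b ∈ B) (hs : s ⊆ b)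
    (hst : s.card ≤ t) (n : ℕ → ℕ)
    (hn : ∀ u, u ⊆ b → s.card < u.card → (exactInter B b u).card = n u.card) :
    ((exactInter B b s).card +
        ∑ i ∈ Finset.Ioc s.card k, Nat.choose (k - s.card) (i - s.card) * n i) *
      Nat.choose (k - s.card) (t - s.card) =
      Nat.choose (Fintype.card α - s.card) (t - s.card) := by
  rw [← steiner_count_through hB s hst, card_through_eq_sum hs]
  congr 1
  have hsS : s ∈ (b.powerset).filter (s ⊆ ·) := by
    rw [Finset.mem_filter, Finset.mem_powerset]
    exact ⟨hs, Finset.Subset.refl s⟩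
  rw [← Finset.add_sum_erase _ _ hsS]
  congr 1
  have hmaps : ∀ u ∈ ((b.powerset).filter (s ⊆ ·)).erase s, u.card ∈ Finset.Ioc s.card k := by
    intro u hu
    rw [Finset.mem_erase, Finset.mem_filter, Finset.mem_powerset] at hu
    rw [Finset.mem_Ioc]
    constructor
    · exact Finset.card_lt_card (Finset.ssubset_iff_subset_ne.2 ⟨hu.2.2, hu.1.symm⟩)
    · rw [← steiner_card hB hb]
      exact Finset.card_le_card hu.2.1
  rw [← Finset.sum_fiberwise_of_maps_to hmaps]
  apply Finset.sum_congr rfl
  intro i hi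
  rw [Finset.mem_Ioc] at hi
  have hfil : (((b.powerset).filter (s ⊆ ·)).erase s).filter (fun u => u.card = i) =
      (b.powersetCard i).filter (s ⊆ ·) := by
    ext u
    simp only [Finset.mem_filter, Finset.mem_erase, Finset.mem_powerset, Finset.mem_powersetCard]
    constructor
    · rintro ⟨⟨_, hub, hsu⟩, hcard⟩
      exact ⟨⟨hub, hcard⟩, hsu⟩
    · rintro ⟨⟨hub, hcard⟩, hsu⟩
      refine ⟨⟨?_, hub, hsu⟩, hcard⟩
      rintro rfl
      omega
  rw [hfil]
  have hterm : ∀ u ∈ (b.powersetCard i).filter (s ⊆ ·), (exactInter B b u).card = n i := by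
    intro u hu
    rw [Finset.mem_filter, Finset.mem_powersetCard] at hu
    rw [hn u hu.1.1 (by rw [hu.1.2]; exact hi.1), hu.1.2]
  rw [Finset.sum_congr rfl hterm, Finset.sum_const, smul_eq_mul,
    Finset.card_filter_powersetCard_subset s b i hs (by omega), steiner_card hB hb]

end Cfsg.Agent.Lib.helper3
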