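import Mathlib
import Cfsg.Prelude.Def_KGroupFacts
import Cfsg.Agent.Lib.helper3.StemTools

set_option autoImplicit false

/-!
# Stem extensions of groups with dihedral Sylow 2-subgroups and cyclic odd Sylow subgroups
have kernel of order at most two.
-/

namespace Cfsg.Agent.Lib.helper3

open Cfsg
open scoped commutatorElement

theorem dihedral_gen (n : ℕ) :
    Subgroup.closure {(DihedralGroup.r 1 : DihedralGroup n), DihedralGroup.sr 0} = ⊤ := by
  rw [eq_top_iff]
  intro x _
  have h1 : (DihedralGroup.r 1 : DihedralGroup n) ∈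
      Subgroup.closure {(DihedralGroup.r 1 : DihedralGroup n), DihedralGroup.sr 0} :=
    Subgroup.subset_closure (by simp)
  have h0 : (DihedralGroup.sr 0 : DihedralGroup n) ∈
      Subgroup.closure {(DihedralGroup.r 1 : DihedralGroup n), DihedralGroup.sr 0} :=
    Subgroup.subset_closure (by simp)
  have hr : ∀ i : ZMod n, (DihedralGroup.r i : DihedralGroup n) ∈
      Subgroup.closure {(DihedralGroup.r 1 : DihedralGroup n), DihedralGroup.sr 0} := by
    intro i
    obtain ⟨k, rfl⟩ : ∃ k : ℤ, (k : ZMod n) = i := ZMod.intCast_surjective i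
    have := Subgroup.zpow_mem _ h1 k
    rw [DihedralGroup.r_one_zpow] at this
    exact this
  cases x with
  | r i => exact hr i
  | sr i =>
    have := Subgroup.mul_mem _ h0 (hr i)
    rw [DihedralGroup.sr_mul_r, zero_add] at this
    exact this

/-- central extensions of dihedral groups: the derived subgroup is cyclic, generated by an
element `u` lying over the rotation `r 2`, with `u ^ n = 1` -/
theorem dihedral_central_comm {E : Type*} [Group E] (n : ℕ)
    (τ : E →* DihedralGroup n) (hsurj : Function.Surjective τ)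
    (hc : τ.ker ≤ Subgroup.center E) :
    ∃ u : E, u ^ n = 1 ∧ τ u = DihedralGroup.r 2 ∧ commutator E ≤ Subgroup.zpowers u := by
  obtain ⟨a, ha⟩ := hsurj (DihedralGroup.r 1)
  obtain ⟨b, hb⟩ := hsurj (DihedralGroup.sr 0)
  have hgenD : Subgroup.closure {τ a, τ b} = ⊤ := by
    rw [ha, hb]; exact dihedral_gen n
  have hgen := Cfsg.Agent.Lib.Helper21.gen_lift τ a b hgenD
  have hz : b * a * b⁻¹ * a ∈ τ.ker := by
    rw [MonoidHom.mem_ker]
    simp only [map_mul, map_inv, ha, hb, DihedralGroup.inv_sr, DihedralGroup.sr_mul_r,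
      DihedralGroup.sr_mul_sr, DihedralGroup.r_mul_r]
    rw [DihedralGroup.one_def]
    congr 1
    ring
  have hN : b * a ^ n = a ^ n * b := by
    have hk : a ^ n ∈ τ.ker := by
      rw [MonoidHom.mem_ker, map_pow, ha, DihedralGroup.r_one_pow_n]
    exact Subgroup.mem_center_iff.mp (hc hk) b
  obtain ⟨huN, hK⟩ := stem_core_comm τ.ker hc a b hgen hz n hN
  refine ⟨a * b * a⁻¹ * b⁻¹, huN, ?_, hK⟩
  simp only [map_mul, map_inv, ha, hb, DihedralGroup.inv_sr, DihedralGroup.inv_r,
    DihedralGroup.r_mul_sr, DihedralGroup.sr_mul_r, DihedralGroup.sr_mul_sr]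
  congr 1
  ring

section StemDih

variable {Γ G : Type*} [Group Γ] [Group G] (σ : Γ →* G)

/-- a group with dihedral Sylow 2-subgroups and cyclic odd Sylow subgroups has Schur
multiplier of order at most two -/
theorem stem_ker_le_two_of_dihedral [Finite Γ] [Finite G] (hsurj : Function.Surjective σ)
    (hcen : σ.ker ≤ Subgroup.center Γ) (hder : σ.ker ≤ commutator Γ)
    (T : Sylow 2 G) (m : ℕ) (hm : 0 < m) (e : (T : Subgroup G) ≃* DihedralGroup (2 * m))
    (hodd : ∀ (r : ℕ) [Fact r.Prime], r ≠ 2 → ∀ R : Sylow r G, IsCyclic (R : Subgroup G)) :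
    ∃ w ∈ σ.ker, w ^ 2 = 1 ∧ ∀ z ∈ σ.ker, z ∈ Subgroup.zpowers w := by
  -- the dihedral analysis
  have hτs : Function.Surjective (e.toMonoidHom.comp (σ.subgroupComap (T : Subgroup G))) :=
    e.surjective.comp (σ.subgroupComap_surjective_of_surjective _ hsurj)
  have hker : (e.toMonoidHom.comp (σ.subgroupComap (T : Subgroup G))).ker ≤
      Subgroup.center ((T : Subgroup G).comap σ) := by
    intro x hx
    rw [MonoidHom.mem_ker, MonoidHom.comp_apply] at hx
    have hx0 : (σ.subgroupComap (T : Subgroup G)) x = 1 := (MulEquiv.map_eq_one_iff e).mp hx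
    have hx' : σ (x : Γ) = 1 := congrArg Subtype.val hx0
    have hc : (x : Γ) ∈ Subgroup.center Γ := hcen (MonoidHom.mem_ker.2 hx')
    rw [Subgroup.mem_center_iff]
    intro g
    apply Subtype.ext
    exact Subgroup.mem_center_iff.1 hc g
  obtain ⟨u, hun, hτu, hcomm⟩ := dihedral_central_comm (2 * m) _ hτs hker
  have h2m : ((2 * m : ℕ) : ZMod (2 * m)) = 0 := ZMod.natCast_self _
  -- w
  have hwker : ((u ^ m : ((T : Subgroup G).comap σ)) : Γ) ∈ σ.ker := by
    have h1 : (e.toMonoidHom.comp (σ.subgroupComap (T : Subgroup G))) (u ^ m) = 1 := by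
      rw [map_pow, hτu, DihedralGroup.r_pow, DihedralGroup.one_def]
      congr 1
      push_cast at h2m
      linear_combination h2m
    rw [MonoidHom.comp_apply] at h1
    have h2 : (σ.subgroupComap (T : Subgroup G)) (u ^ m) = 1 := (MulEquiv.map_eq_one_iff e).mp h1
    exact MonoidHom.mem_ker.mpr (congrArg Subtype.val h2)
  have hw2 : ((u ^ m : ((T : Subgroup G).comap σ)) : Γ) ^ 2 = 1 := by
    have : (u ^ m) ^ 2 = 1 := by rw [← pow_mul, mul_comm, hun]
    have h := congrArg Subtype.val this
    simpa using h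
  refine ⟨_, hwker, hw2, ?_⟩
  -- elements of the derived subgroup of the preimage lying in the kernel
  have hS : ∀ x ∈ ⁅(T : Subgroup G).comap σ, (T : Subgroup G).comap σ⁆, σ x = 1 →
      x ∈ Subgroup.zpowers ((u ^ m : ((T : Subgroup G).comap σ)) : Γ) := by
    intro x hx hx1
    rw [← Subgroup.map_subtype_commutator] at hx
    obtain ⟨x', hx', rfl⟩ := hx
    obtain ⟨j, hj⟩ := Subgroup.mem_zpowers_iff.mp (hcomm hx')
    have h1 : (e.toMonoidHom.comp (σ.subgroupComap (T : Subgroup G))) x' = 1 := by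
      rw [MonoidHom.comp_apply]
      have : (σ.subgroupComap (T : Subgroup G)) x' = 1 := Subtype.ext hx1
      rw [this]
      exact map_one _
    rw [← hj, map_zpow, hτu, DihedralGroup.r_zpow, DihedralGroup.one_def] at h1
    have h2 : ((2 * j : ℤ) : ZMod (2 * m)) = 0 := by
      have := DihedralGroup.r.inj h1
      push_cast
      exact this
    rw [ZMod.intCast_zmod_eq_zero_iff_dvd] at h2
    have h3 : (m : ℤ) ∣ j := by
      have : ((2 * m : ℕ) : ℤ) = 2 * (m : ℤ) := by push_cast; ring
      rw [this] at h2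
      exact Int.dvd_of_mul_dvd_mul_left (by norm_num) h2
    obtain ⟨t, ht⟩ := h3
    refine Subgroup.mem_zpowers_iff.mpr ⟨t, ?_⟩
    rw [← hj, ht, zpow_mul, zpow_natCast]
    simp
  -- no odd torsion in the kernel
  have hoddtors : ∀ (r : ℕ) [Fact r.Prime], r ≠ 2 → ∀ z ∈ σ.ker, z ^ r = 1 → z = 1 := by
    intro r hr hr2 z hz hzr
    obtain ⟨R⟩ : Nonempty (Sylow r G) := inferInstance
    haveI := hodd r hr2 R
    have hind : ¬ r ∣ (R : Subgroup G).index := Sylow.not_dvd_index R
    refine stem_no_prime_of_subgroup σ hsurj hcen hder (R : Subgroup G) hind ?_ hz hzr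
    intro w hw _
    exact comm_comap_trivial_of_cyclic σ hcen (R : Subgroup G) w hw
  intro z hz
  have hidx : ¬ 2 ∣ (T : Subgroup G).index := Sylow.not_dvd_index T
  have h1 := pow_index_mem_commutator ((T : Subgroup G).comap σ) (hcen hz) (hder hz)
  have h2 : σ (z ^ ((T : Subgroup G).comap σ).index) = 1 := by
    rw [map_pow, MonoidHom.mem_ker.mp hz, one_pow]
  have h3 := hS _ h1 h2
  rw [Subgroup.index_comap_of_surjective _ hsurj] at h3
  set idx := (T : Subgroup G).index with hidxdef
  -- the order of z divides 2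
  have hd : orderOf z ∣ 2 := by
    have h4 : z ^ (2 * idx) = 1 := by
      obtain ⟨i, hi⟩ := Subgroup.mem_zpowers_iff.mp h3
      rw [mul_comm, pow_mul, ← hi, ← zpow_natCast, ← zpow_mul, mul_comm, zpow_mul, zpow_natCast,
        hw2, one_zpow]
    have h5 : orderOf z ∣ 2 * idx := orderOf_dvd_of_pow_eq_one h4
    have hcop : Nat.Coprime (orderOf z) idx := by
      apply Nat.coprime_of_dvd
      intro r hrP hrd hri
      haveI : Fact r.Prime := ⟨hrP⟩
      have hr2 : r ≠ 2 := by
        rintro rfl
        exact hidx hri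
      have hpos : orderOf z ≠ 0 := (orderOf_pos z).ne'
      have ho : orderOf (z ^ (orderOf z / r)) = r := orderOf_pow_orderOf_div hpos hrd
      have hp1 : (z ^ (orderOf z / r)) ^ r = 1 := by
        have h0 := pow_orderOf_eq_one (z ^ (orderOf z / r))
        rw [ho] at h0
        exact h0
      have := hoddtors r hr2 _ (Subgroup.pow_mem _ hz _) hp1
      rw [this, orderOf_one] at ho
      exact hrP.one_lt.ne ho
    exact hcop.dvd_of_dvd_mul_right h5
  have hz2 : z ^ 2 = 1 := orderOf_dvd_iff_pow_eq_one.mp hd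
  have hoddidx : idx % 2 = 1 := by
    have := Nat.mod_two_eq_zero_or_one idx
    rcases this with h | h
    · exact absurd (Nat.dvd_of_mod_eq_zero h) hidx
    · exact h
  have hzi : z ^ idx = z := by
    rw [← Nat.div_add_mod idx 2, hoddidx, pow_add, pow_mul, hz2, one_pow, one_mul, pow_one]
  rw [hzi] at h3
  exact h3

end StemDih

end Cfsg.Agent.Lib.helper3
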