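import Mathlib

set_option autoImplicit false

namespace Cfsg.Agent.Lib.helper3

variable {V : Type*} [CommGroup V]

/-- fixed-point-free automorphism -/
def spvFpf (g : MulAut V) : Prop := ∀ v : V, g v = v → v = 1

/-- the norm operator `v ↦ ∏_{i<n} g^i v` -/
def spvNorm (g : MulAut V) (n : ℕ) (v : V) : V := ∏ i ∈ Finset.range n, (g ^ i) v

theorem spv_pow_eq_one [Finite V] {n : ℕ} (hn : (Nat.card V).Coprime n) {v : V}
    (h : v ^ n = 1) : v = 1 := by
  have h1 : orderOf v ∣ n := orderOf_dvd_of_pow_eq_one h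
  have h2 : orderOf v ∣ Nat.card V := orderOf_dvd_natCard v
  have h3 : orderOf v ∣ 1 := by
    have := Nat.dvd_gcd h2 h1
    rwa [hn] at this
  have h4 : orderOf v = 1 := Nat.dvd_one.mp h3
  exact orderOf_eq_one_iff.mp h4

theorem spvNorm_fixed {g : MulAut V} {n : ℕ} (hg : g ^ n = 1) (v : V) :
    g (spvNorm g n v) = spvNorm g n v := by
  unfold spvNorm
  rw [map_prod]
  have h1 : ∀ i ∈ Finset.range n, g ((g ^ i) v) = (g ^ (i + 1)) v := by
    intro i _
    rw [pow_succ', MulAut.mul_apply]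
  rw [Finset.prod_congr rfl h1]
  rcases Nat.eq_zero_or_pos n with h0 | h0
  · subst h0; simp
  · obtain ⟨m, rfl⟩ : ∃ m, n = m + 1 := ⟨n - 1, by omega⟩
    rw [Finset.prod_range_succ, Finset.prod_range_succ' (fun i => (g ^ i) v), hg]
    simp

theorem spv_pow_apply_of_fixed {g : MulAut V} {v : V} (h : g v = v) (i : ℕ) : (g ^ i) v = v := by
  induction i with
  | zero => simp
  | succ k ih => rw [pow_succ, MulAut.mul_apply, h, ih]

theorem spvNorm_of_fixed {g : MulAut V} (n : ℕ) {v : V} (h : g v = v) :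
    spvNorm g n v = v ^ n := by
  unfold spvNorm
  rw [Finset.prod_congr rfl (fun i _ => spv_pow_apply_of_fixed h i)]
  simp

theorem spvNorm_eq_one_of_fpf {g : MulAut V} {n : ℕ} (hg : g ^ n = 1) (hf : spvFpf g) (v : V) :
    spvNorm g n v = 1 :=
  hf _ (spvNorm_fixed hg v)

theorem spvNorm_mul (g : MulAut V) (n : ℕ) (v w : V) :
    spvNorm g n (v * w) = spvNorm g n v * spvNorm g n w := by
  unfold spvNorm
  rw [← Finset.prod_mul_distrib]
  exact Finset.prod_congr rfl (fun i _ => map_mul _ _ _)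

theorem spvNorm_one_right (g : MulAut V) (n : ℕ) : spvNorm g n (1 : V) = 1 := by
  unfold spvNorm
  simp

theorem spvNorm_inv (g : MulAut V) (n : ℕ) (v : V) :
    spvNorm g n (v⁻¹) = (spvNorm g n v)⁻¹ := by
  unfold spvNorm
  rw [← Finset.prod_inv_distrib]
  exact Finset.prod_congr rfl (fun i _ => map_inv _ _)

theorem spvNorm_one_left (n : ℕ) (v : V) : spvNorm (1 : MulAut V) n v = v ^ n := by
  apply spvNorm_of_fixed
  simp

/-- eigenvector computation: if `b c = ζ' c` and everything commutes, then the norm of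
`ζ⁻¹ b` on `c` is the norm of `ζ⁻¹ ζ'`. -/
theorem spvNorm_eigen {b ζ ζ' : MulAut V} (h1 : Commute b ζ) (h2 : Commute b ζ') (h3 : Commute ζ ζ')
    (n : ℕ) {c : V} (hc : b c = ζ' c) :
    spvNorm (ζ⁻¹ * b) n c = spvNorm (ζ⁻¹ * ζ') n c := by
  unfold spvNorm
  apply Finset.prod_congr rfl
  intro i _
  have hb : ∀ k : ℕ, (b ^ k) c = (ζ' ^ k) c := by
    intro k
    induction k with
    | zero => simp
    | succ k ih =>
      rw [pow_succ, MulAut.mul_apply, hc, ← MulAut.mul_apply, (h2.pow_left k).eq, MulAut.mul_apply, ih,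
        ← MulAut.mul_apply, ← pow_succ']
  have e1 : (ζ⁻¹ * b) ^ i = (ζ⁻¹) ^ i * b ^ i := (h1.symm.inv_left.mul_pow i)
  have e2 : (ζ⁻¹ * ζ') ^ i = (ζ⁻¹) ^ i * ζ' ^ i := (h3.inv_left.mul_pow i)
  rw [e1, e2, MulAut.mul_apply, MulAut.mul_apply, hb]

/-- the rank two identity -/
theorem spv_rank2_identity {a b : MulAut V} (hab : Commute a b) (p : ℕ) (v : V) :
    ∏ j ∈ Finset.range p, spvNorm (a * b ^ j) p v =
      ∏ i ∈ Finset.range p, (a ^ i) (spvNorm (b ^ i) p v) := by
  unfold spvNorm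
  rw [Finset.prod_comm]
  apply Finset.prod_congr rfl
  intro i _
  rw [map_prod]
  apply Finset.prod_congr rfl
  intro j _
  have e1 : (a * b ^ j) ^ i = a ^ i * (b ^ j) ^ i := (hab.pow_right j).mul_pow i
  rw [e1, MulAut.mul_apply, ← pow_mul, ← pow_mul, mul_comm j i]

theorem spv_rank2 [Finite V] {a b : MulAut V} (hab : Commute a b) {p : ℕ}
    (hV : (Nat.card V).Coprime p) {v : V}
    (h1 : ∀ j < p, spvNorm (a * b ^ j) p v = 1)
    (h2 : ∀ i, 0 < i → i < p → spvNorm (b ^ i) p v = 1) : v = 1 := by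
  have hid := spv_rank2_identity hab p v
  rw [Finset.prod_eq_one (fun j hj => h1 j (Finset.mem_range.mp hj))] at hid
  rcases Nat.eq_zero_or_pos p with h0 | h0
  · subst h0
    have : Nat.card V = 1 := by simpa using hV
    haveI : Subsingleton V := (Nat.card_eq_one_iff_unique.mp this).1
    exact Subsingleton.elim _ _
  · obtain ⟨m, rfl⟩ : ∃ m, p = m + 1 := ⟨p - 1, by omega⟩
    rw [Finset.prod_range_succ'] at hid
    have hz : ∏ i ∈ Finset.range m, (a ^ (i + 1)) (spvNorm (b ^ (i + 1)) (m + 1) v) = 1 := by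
      apply Finset.prod_eq_one
      intro i hi
      rw [h2 (i + 1) (by omega) (by have := Finset.mem_range.mp hi; omega)]
      simp
    rw [hz, pow_zero, pow_zero, spvNorm_one_left, one_mul] at hid
    simp only [MulAut.one_apply] at hid
    exact spv_pow_eq_one hV hid.symm

end Cfsg.Agent.Lib.helper3
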