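import Mathlib

set_option autoImplicit false

namespace Cfsg.Agent.Lib.helper3

universe u

open Equiv.Perm

theorem spv_sameCycle_map {Ω : Type*} {ζ g : Equiv.Perm Ω} (hg : Commute g ζ) {a b : Ω}
    (h : SameCycle ζ a b) : SameCycle ζ (g a) (g b) := by
  obtain ⟨i, hi⟩ := h
  refine ⟨i, ?_⟩
  have hc : Commute g (ζ ^ i) := hg.zpow_right i
  rw [← Equiv.Perm.mul_apply, ← hc.eq, Equiv.Perm.mul_apply, hi]

/-- the permutation induced on the set of cycles of `ζ` by a permutation commuting with `ζ` -/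
def spvQuotPerm {Ω : Type*} (ζ g : Equiv.Perm Ω) (hg : Commute g ζ) :
    Equiv.Perm (Quotient (SameCycle.setoid ζ)) where
  toFun := Quotient.map' g (fun _ _ h => spv_sameCycle_map hg h)
  invFun := Quotient.map' (g⁻¹ : Equiv.Perm Ω) (fun _ _ h => spv_sameCycle_map hg.inv_left h)
  left_inv := by
    intro x
    induction x using Quotient.inductionOn' with
    | h a => simp [Quotient.map'_mk'']
  right_inv := by
    intro x
    induction x using Quotient.inductionOn' with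
    | h a => simp [Quotient.map'_mk'']

theorem spvQuotPerm_mk {Ω : Type*} (ζ g : Equiv.Perm Ω) (hg : Commute g ζ) (a : Ω) :
    spvQuotPerm ζ g hg (Quotient.mk'' a) = Quotient.mk'' (g a) := rfl

/-- three distinct points in a nontrivial cycle of a permutation of odd prime order -/
theorem spv_three_distinct {Ω : Type*} {p : ℕ} (hp : p.Prime) (hp2 : p ≠ 2) {ζ : Equiv.Perm Ω}
    (hζ : ζ ^ p = 1) {a : Ω} (ha : ζ a ≠ a) :
    ζ a ≠ a ∧ (ζ ^ 2) a ≠ a ∧ (ζ ^ 2) a ≠ ζ a := by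
  refine ⟨ha, ?_, ?_⟩
  · intro h2
    -- ζ^2 a = a and ζ^p a = a with p odd give ζ a = a
    have hodd : Odd p := hp.odd_of_ne_two hp2
    obtain ⟨m, hm⟩ := hodd
    have h2m : ∀ k : ℕ, (ζ ^ (2 * k)) a = a := by
      intro k
      induction k with
      | zero => simp
      | succ k ih =>
        have : ζ ^ (2 * (k + 1)) = ζ ^ (2 * k) * ζ ^ 2 := by rw [← pow_add, mul_add, mul_one]
        rw [this, Equiv.Perm.mul_apply, h2, ih]
    have h3 : (ζ ^ p) a = a := by rw [hζ]; rfl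
    rw [hm, pow_succ, Equiv.Perm.mul_apply] at h3
    apply ha
    have h4 := h2m m
    -- ζ^(2m) (ζ a) = a, so ζ a = (ζ^(2m))⁻¹ a = a
    have h5 : (ζ ^ (2 * m)) (ζ a) = (ζ ^ (2 * m)) a := by rw [h3, h4]
    exact (ζ ^ (2 * m)).injective h5
  · intro h2
    apply ha
    have : (ζ ^ 2) a = ζ (ζ a) := by rw [pow_two, Equiv.Perm.mul_apply]
    rw [this] at h2
    exact ζ.injective h2

theorem spv_regular_set_aux {p : ℕ} [hp : Fact p.Prime] (hp2 : p ≠ 2) :
    ∀ n : ℕ, ∀ (Ω : Type u) [Finite Ω], Nat.card Ω = n →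
      ∀ Q : Subgroup (Equiv.Perm Ω), IsPGroup p Q →
        ∃ J : Set Ω, ∀ g ∈ Q, g '' J = J → g = 1 := by
  intro n
  induction n using Nat.strong_induction_on with
  | _ n ih =>
  intro Ω _ hn Q hQ
  by_cases hbot : Q = ⊥
  · refine ⟨∅, fun g hg _ => ?_⟩
    rw [hbot] at hg
    exact Subgroup.mem_bot.mp hg
  haveI : Nontrivial Q := by
    rw [Subgroup.nontrivial_iff_ne_bot]; exact hbot
  haveI : Finite Q := inferInstance
  haveI := hQ.center_nontrivial
  obtain ⟨⟨z, hzc⟩, hz1⟩ := exists_ne (1 : Subgroup.center Q)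
  have hz1' : z ≠ 1 := fun h => hz1 (Subtype.ext h)
  obtain ⟨k, hk⟩ := (IsPGroup.iff_orderOf.mp hQ) z
  have hk0 : k ≠ 0 := by
    rintro rfl
    rw [pow_zero, orderOf_eq_one_iff] at hk
    exact hz1' hk
  obtain ⟨k', rfl⟩ : ∃ k', k = k' + 1 := ⟨k - 1, by omega⟩
  set ζQ : Q := z ^ (p ^ k') with hζQ
  have hζQp : ζQ ^ p = 1 := by
    rw [hζQ, ← pow_mul, ← pow_succ, ← hk, pow_orderOf_eq_one]
  have hζQ1 : ζQ ≠ 1 := by
    intro h
    rw [hζQ] at h
    have hd := orderOf_dvd_of_pow_eq_one h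
    rw [hk] at hd
    have := Nat.pow_dvd_pow_iff_le_right hp.out.one_lt |>.mp hd
    omega
  have hζQc : ∀ g : Q, g * ζQ = ζQ * g := by
    intro g
    have hc : ζQ ∈ Subgroup.center Q := Subgroup.pow_mem _ hzc _
    exact (Subgroup.mem_center_iff.mp hc g)
  set ζ : Equiv.Perm Ω := (ζQ : Equiv.Perm Ω) with hζ
  have hζp : ζ ^ p = 1 := by
    have := congrArg (fun q : Q => (q : Equiv.Perm Ω)) hζQp
    simpa using this
  have hζ1 : ζ ≠ 1 := by
    intro h
    apply hζQ1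
    exact Subtype.ext h
  have hcomm : ∀ g ∈ Q, Commute g ζ := by
    intro g hg
    have := congrArg (fun q : Q => (q : Equiv.Perm Ω)) (hζQc ⟨g, hg⟩)
    show g * ζ = ζ * g
    simpa using this
  -- the quotient
  let r : Setoid Ω := SameCycle.setoid ζ
  let Ωq := Quotient r
  let ψ : Q →* Equiv.Perm Ωq :=
    { toFun := fun g => spvQuotPerm ζ g (hcomm g g.2)
      map_one' := by
        ext x
        induction x using Quotient.inductionOn' with
        | h a => simp [spvQuotPerm_mk]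
      map_mul' := by
        intro g h
        ext x
        induction x using Quotient.inductionOn' with
        | h a => simp [spvQuotPerm_mk] }
  have hψ : ∀ (g : Q) (a : Ω), ψ g (Quotient.mk'' a) = Quotient.mk'' ((g : Equiv.Perm Ω) a) := by
    intro g a
    rfl
  -- card of the quotient is smaller
  have hlt : Nat.card Ωq < n := by
    haveI := Fintype.ofFinite Ω
    haveI := Fintype.ofFinite Ωq
    rw [← hn, Nat.card_eq_fintype_card, Nat.card_eq_fintype_card]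
    apply Fintype.card_lt_of_surjective_not_injective (Quotient.mk'' : Ω → Ωq) Quotient.mk''_surjective
    intro hinj
    apply hζ1
    ext a
    have : (Quotient.mk'' (ζ a) : Ωq) = Quotient.mk'' a := by
      apply Quotient.sound'
      exact ⟨-1, by simp⟩
    simpa using hinj this
  obtain ⟨Jq, hJq⟩ := ih (Nat.card Ωq) hlt Ωq rfl ψ.range
    (hQ.of_surjective ψ.rangeRestrict ψ.rangeRestrict_surjective)
  -- section
  let s : Ωq → Ω := Quotient.out
  have hs : ∀ o : Ωq, (Quotient.mk'' (s o) : Ωq) = o := fun o => Quotient.out_eq' o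
  let J : Set Ω := {ω | (Quotient.mk'' ω : Ωq) ∈ Jq ↔ ω = s (Quotient.mk'' ω)}
  refine ⟨J, ?_⟩
  intro g hg hgJ
  -- basic: stabilizing J
  have hstab : ∀ (h : Equiv.Perm Ω), h '' J = J → ∀ ω, ω ∈ J ↔ h ω ∈ J := by
    intro h hh ω
    constructor
    · intro hω
      rw [← hh]
      exact ⟨ω, hω, rfl⟩
    · intro hω
      rw [← hh] at hω
      obtain ⟨ω', hω', he⟩ := hω
      rwa [h.injective he] at hω'
  have hginv : (g⁻¹ : Equiv.Perm Ω) '' J = J := by
    conv_lhs => rw [← hgJ]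
    rw [← Set.image_comp]
    have : (⇑(g⁻¹ : Equiv.Perm Ω) ∘ ⇑g) = id := by
      ext a; simp
    rw [this, Set.image_id]
  -- key step: for h ∈ Q stabilizing J, o ∈ Jq → ψ h o ∈ Jq
  have key : ∀ (h : Equiv.Perm Ω) (hh : h ∈ Q), h '' J = J → (h⁻¹ : Equiv.Perm Ω) '' J = J →
      ∀ o ∈ Jq, ψ ⟨h, hh⟩ o ∈ Jq := by
    intro h hh hJ hJinv o ho
    by_contra hno
    set a : Ω := h (s o) with ha
    have hmk_a : (Quotient.mk'' a : Ωq) = ψ ⟨h, hh⟩ o := by
      have e : ψ ⟨h, hh⟩ o = ψ ⟨h, hh⟩ (Quotient.mk'' (s o)) := by rw [hs o]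
      rw [e, hψ]
    have hso : s o ∈ J := by
      show (Quotient.mk'' (s o) : Ωq) ∈ Jq ↔ s o = s (Quotient.mk'' (s o))
      rw [hs o]
      exact ⟨fun _ => rfl, fun _ => ho⟩
    have haJ : a ∈ J := (hstab h hJ (s o)).mp hso
    have ha_ne : a ≠ s (ψ ⟨h, hh⟩ o) := by
      intro he
      have h1 : (Quotient.mk'' a : Ωq) ∈ Jq ↔ a = s (Quotient.mk'' a) := haJ
      rw [hmk_a] at h1
      exact hno (h1.mpr he)
    -- ζ a ≠ a
    have hζa : ζ a ≠ a := by
      intro hfix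
      -- then the class of a is {a}
      have hsc : SameCycle ζ a (s (ψ ⟨h, hh⟩ o)) := by
        have e : (Quotient.mk'' (s (ψ ⟨h, hh⟩ o)) : Ωq) = Quotient.mk'' a := by rw [hs, hmk_a]
        exact (Quotient.exact' e).symm
      obtain ⟨i, hi⟩ := hsc
      have hfixi : (ζ ^ i) a = a := by
        have hfix' : a ∈ Function.fixedPoints ζ := hfix
        exact (Equiv.Perm.zpow_apply_eq_self_of_apply_eq_self hfix i)
      exact ha_ne (hfixi ▸ hi ▸ rfl)
    obtain ⟨h1, h2, h3⟩ := spv_three_distinct hp.out hp2 hζp hζa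
    -- find c
    have hclass : ∀ i : ℕ, (Quotient.mk'' ((ζ ^ i) a) : Ωq) = ψ ⟨h, hh⟩ o := by
      intro i
      rw [← hmk_a]
      apply Quotient.sound'
      exact ⟨-(i : ℤ), by simp⟩
    have hcJ : ∀ c : Ω, (Quotient.mk'' c : Ωq) = ψ ⟨h, hh⟩ o → c ≠ s (ψ ⟨h, hh⟩ o) → c = a := by
      intro c hc hcs
      have hcJ' : c ∈ J := by
        show (Quotient.mk'' c : Ωq) ∈ Jq ↔ c = s (Quotient.mk'' c)
        rw [hc]
        exact ⟨fun hh' => absurd hh' hno, fun hh' => absurd hh' hcs⟩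
      have hpre : (h⁻¹ : Equiv.Perm Ω) c ∈ J := (hstab _ hJinv c).mp hcJ'
      have hmk_pre : (Quotient.mk'' ((h⁻¹ : Equiv.Perm Ω) c) : Ωq) = o := by
        have e1 : ψ ⟨h, hh⟩ (Quotient.mk'' ((h⁻¹ : Equiv.Perm Ω) c)) = ψ ⟨h, hh⟩ o := by
          rw [hψ]
          simp [hc]
        exact (ψ ⟨h, hh⟩).injective e1
      have hpre2 : (Quotient.mk'' ((h⁻¹ : Equiv.Perm Ω) c) : Ωq) ∈ Jq ↔
          (h⁻¹ : Equiv.Perm Ω) c = s (Quotient.mk'' ((h⁻¹ : Equiv.Perm Ω) c)) := hpre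
      rw [hmk_pre] at hpre2
      have := hpre2.mp ho
      rw [ha, ← this]
      simp
    by_cases hc1 : ζ a = s (ψ ⟨h, hh⟩ o)
    · have hc2 : (ζ ^ 2) a ≠ s (ψ ⟨h, hh⟩ o) := by
        rw [← hc1]; exact h3
      exact h2 (hcJ _ (hclass 2) hc2)
    · have := hcJ _ (by simpa using hclass 1) hc1
      exact h1 this
  -- ψ g stabilizes Jq
  have hψg : (ψ ⟨g, hg⟩) '' Jq = Jq := by
    apply Set.eq_of_subset_of_subset
    · rintro _ ⟨o, ho, rfl⟩
      exact key g hg hgJ hginv o ho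
    · intro o ho
      refine ⟨ψ ⟨g⁻¹, Q.inv_mem hg⟩ o, ?_, ?_⟩
      · have hginv2 : ((g⁻¹ : Equiv.Perm Ω)⁻¹ : Equiv.Perm Ω) '' J = J := by
          rw [inv_inv]; exact hgJ
        exact key g⁻¹ (Q.inv_mem hg) hginv hginv2 o ho
      · rw [← Equiv.Perm.mul_apply, ← map_mul]
        have : (⟨g, hg⟩ : Q) * ⟨g⁻¹, Q.inv_mem hg⟩ = 1 := by
          ext1; simp
        rw [this, map_one]; rfl
  have hψg1 : ψ ⟨g, hg⟩ = 1 := hJq _ ⟨⟨g, hg⟩, rfl⟩ hψg
  have hfixclass : ∀ ω : Ω, (Quotient.mk'' (g ω) : Ωq) = Quotient.mk'' ω := by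
    intro ω
    have := hψ ⟨g, hg⟩ ω
    rw [hψg1] at this
    simpa using this.symm
  -- g fixes s o
  have hfixs : ∀ o : Ωq, g (s o) = s o := by
    intro o
    by_cases ho : o ∈ Jq
    · have hso : s o ∈ J := by
        show (Quotient.mk'' (s o) : Ωq) ∈ Jq ↔ s o = s (Quotient.mk'' (s o))
        rw [hs o]
        exact ⟨fun _ => rfl, fun _ => ho⟩
      have h1 : g (s o) ∈ J := (hstab g hgJ _).mp hso
      have h2 : (Quotient.mk'' (g (s o)) : Ωq) ∈ Jq ↔ g (s o) = s (Quotient.mk'' (g (s o))) := h1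
      rw [hfixclass, hs o] at h2
      exact h2.mp ho
    · by_contra hne
      have h1 : g (s o) ∈ J := by
        show (Quotient.mk'' (g (s o)) : Ωq) ∈ Jq ↔ g (s o) = s (Quotient.mk'' (g (s o)))
        rw [hfixclass, hs o]
        exact ⟨fun h => absurd h ho, fun h => absurd h hne⟩
      have h2 : s o ∈ J := (hstab g hgJ _).mpr h1
      have h3 : (Quotient.mk'' (s o) : Ωq) ∈ Jq ↔ s o = s (Quotient.mk'' (s o)) := h2
      rw [hs o] at h3
      exact ho (h3.mpr rfl)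
  ext ω
  have hsc : SameCycle ζ (s (Quotient.mk'' ω)) ω := Quotient.exact' (hs (Quotient.mk'' ω))
  obtain ⟨i, hi⟩ := hsc
  have hc : Commute g (ζ ^ i) := (hcomm g hg).zpow_right i
  rw [← hi, ← Equiv.Perm.mul_apply, hc.eq, Equiv.Perm.mul_apply, hfixs]
  simp

/-- A `p`-group (`p` odd) acting on a finite set has a subset whose setwise stabilizer acts trivially. -/
theorem spv_regular_set {p : ℕ} [Fact p.Prime] (hp2 : p ≠ 2) {P : Type*} [Group P]
    (hP : IsPGroup p P) {Ω : Type u} [Finite Ω] (φ : P →* Equiv.Perm Ω) :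
    ∃ J : Set Ω, ∀ g : P, (φ g) '' J = J → φ g = 1 := by
  have hQ : IsPGroup p φ.range := hP.of_surjective φ.rangeRestrict φ.rangeRestrict_surjective
  obtain ⟨J, hJ⟩ := spv_regular_set_aux hp2 (Nat.card Ω) Ω rfl φ.range hQ
  exact ⟨J, fun g hg => hJ _ ⟨g, rfl⟩ hg⟩

end Cfsg.Agent.Lib.helper3
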