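import Mathlib
import Cfsg.Agent.Lib.helper3.SubPVA

set_option autoImplicit false

namespace Cfsg.Agent.Lib.helper3

universe u

variable {V : Type u} [CommGroup V]

/-- common fixed points of a set of automorphisms -/
def spvFix (S : Subgroup (MulAut V)) : Subgroup V where
  carrier := {v | ∀ b ∈ S, b v = v}
  one_mem' := fun b _ => map_one b
  mul_mem' := fun {v w} hv hw b hb => by rw [map_mul, hv b hb, hw b hb]
  inv_mem' := fun {v} hv b hb => by rw [map_inv, hv b hb]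

theorem mem_spvFix {S : Subgroup (MulAut V)} {v : V} : v ∈ spvFix S ↔ ∀ b ∈ S, b v = v := Iff.rfl

theorem spvFix_anti {S T : Subgroup (MulAut V)} (h : S ≤ T) : spvFix T ≤ spvFix S :=
  fun _ hv b hb => hv b (h hb)

/-- setwise stabilizer of a subgroup of `V` -/
def spvStab (W : Subgroup V) : Subgroup (MulAut V) where
  carrier := {g | ∀ v, g v ∈ W ↔ v ∈ W}
  one_mem' := fun v => by simp
  mul_mem' := fun {g h} hg hh v => by rw [MulAut.mul_apply, hg, hh]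
  inv_mem' := fun {g} hg v => by
    have := hg (g⁻¹ v)
    rw [MulAut.apply_inv_self] at this
    exact this.symm

theorem mem_spvStab {W : Subgroup V} {g : MulAut V} : g ∈ spvStab W ↔ ∀ v, g v ∈ W ↔ v ∈ W := Iff.rfl

theorem mem_spvStab_of_finite [Finite V] {W : Subgroup V} {g : MulAut V}
    (h : ∀ v ∈ W, g v ∈ W) : g ∈ spvStab W := by
  intro v
  refine ⟨fun hv => ?_, h v⟩
  -- g restricted to W is injective W → W hence surjective
  let f : W → W := fun w => ⟨g w, h w w.2⟩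
  have hinj : Function.Injective f := by
    intro a b hab
    have : g a = g b := congrArg Subtype.val hab
    exact Subtype.ext (g.injective this)
  have hsurj : Function.Surjective f := Finite.surjective_of_injective hinj
  obtain ⟨w, hw⟩ := hsurj ⟨g v, hv⟩
  have : g w = g v := congrArg Subtype.val hw
  rw [← g.injective this]
  exact w.2

/-- restriction of an element of the stabilizer to `W` -/
def spvResFun (W : Subgroup V) (g : spvStab W) : MulAut W where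
  toFun w := ⟨(g : MulAut V) w, (g.2 w).mpr w.2⟩
  invFun w := ⟨(g : MulAut V)⁻¹ w, ((spvStab W).inv_mem g.2 w).mpr w.2⟩
  left_inv w := by ext; simp
  right_inv w := by ext; simp
  map_mul' a b := by ext; simp

/-- restriction homomorphism -/
def spvRes (W : Subgroup V) : spvStab W →* MulAut W where
  toFun := spvResFun W
  map_one' := by ext w; simp [spvResFun]
  map_mul' a b := by ext w; simp [spvResFun]

theorem spvRes_apply (W : Subgroup V) (g : spvStab W) (w : W) :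
    ((spvRes W g) w : V) = (g : MulAut V) w := rfl

/-- The statement to be proved, for a fixed `V`. -/
def SpvGoal (p : ℕ) (V : Type u) [CommGroup V] : Prop :=
  ∀ (Γ P : Subgroup (MulAut V)), P ≤ Γ → (∀ γ ∈ Γ, ∀ g ∈ P, γ * g * γ⁻¹ ∈ P) → IsPGroup p P →
    ∀ x ∈ P, x ≠ 1 → ∃ v : V, ∀ γ ∈ Γ, (γ * x * γ⁻¹) v ≠ v

/-- restriction principle -/
theorem spv_restrict {p : ℕ} (W : Subgroup V) (hW : SpvGoal p W)
    (Γ₁ P₁ : Subgroup (MulAut V)) (hΓW : Γ₁ ≤ spvStab W) (hPΓ : P₁ ≤ Γ₁)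
    (hn : ∀ γ ∈ Γ₁, ∀ g ∈ P₁, γ * g * γ⁻¹ ∈ P₁) (hP : IsPGroup p P₁)
    (x : MulAut V) (hx : x ∈ P₁) (hxW : ∃ w ∈ W, x w ≠ w) :
    ∃ w ∈ W, ∀ γ ∈ Γ₁, (γ * x * γ⁻¹) w ≠ w := by
  set Γ' : Subgroup (MulAut W) := (Γ₁.subgroupOf (spvStab W)).map (spvRes W) with hΓ'
  set P' : Subgroup (MulAut W) := (P₁.subgroupOf (spvStab W)).map (spvRes W) with hP'
  have hxS : x ∈ spvStab W := hΓW (hPΓ hx)
  have h1 : P' ≤ Γ' := by
    apply Subgroup.map_mono
    intro g hg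
    exact hPΓ hg
  have h2 : ∀ γ ∈ Γ', ∀ g ∈ P', γ * g * γ⁻¹ ∈ P' := by
    rintro _ ⟨γ, hγ, rfl⟩ _ ⟨g, hg, rfl⟩
    refine ⟨γ * g * γ⁻¹, ?_, by simp⟩
    exact hn _ hγ _ hg
  have h3 : IsPGroup p P' := by
    have hsub : IsPGroup p (P₁.subgroupOf (spvStab W)) := hP.comap_subtype
    exact hsub.map _
  have h4 : spvRes W ⟨x, hxS⟩ ∈ P' := ⟨⟨x, hxS⟩, hx, rfl⟩
  have h5 : spvRes W ⟨x, hxS⟩ ≠ 1 := by
    obtain ⟨w, hw, hxw⟩ := hxW
    intro h
    apply hxw
    have := congrArg (fun f : MulAut W => ((f ⟨w, hw⟩ : W) : V)) h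
    simpa [spvRes_apply] using this
  obtain ⟨w, hw⟩ := hW Γ' P' h1 h2 h3 _ h4 h5
  refine ⟨w, w.2, ?_⟩
  intro γ hγ hfix
  have hγS : γ ∈ spvStab W := hΓW hγ
  apply hw (spvRes W ⟨γ, hγS⟩) ⟨⟨γ, hγS⟩, hγ, rfl⟩
  apply Subtype.ext
  have e : spvRes W ⟨γ, hγS⟩ * spvRes W ⟨x, hxS⟩ * (spvRes W ⟨γ, hγS⟩)⁻¹ =
      spvRes W ⟨γ * x * γ⁻¹, (spvStab W).mul_mem ((spvStab W).mul_mem hγS hxS) ((spvStab W).inv_mem hγS)⟩ := by
    rw [← map_inv, ← map_mul, ← map_mul]
    rfl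
  rw [e, spvRes_apply]
  exact hfix

end Cfsg.Agent.Lib.helper3
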