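import Mathlib
import Cfsg.Agent.Lib.helper3.SubPVC

set_option autoImplicit false

namespace Cfsg.Agent.Lib.helper3

universe u

variable {V : Type u} [CommGroup V]

/-- conjugate of a subgroup of automorphisms -/
def spvConj (γ : MulAut V) (S : Subgroup (MulAut V)) : Subgroup (MulAut V) :=
  S.map (MulAut.conj γ).toMonoidHom

theorem mem_spvConj {γ g : MulAut V} {S : Subgroup (MulAut V)} :
    g ∈ spvConj γ S ↔ γ⁻¹ * g * γ ∈ S := by
  unfold spvConj
  constructor
  · rintro ⟨h, hh, rfl⟩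
    simpa [MulAut.conj_apply, mul_assoc] using hh
  · intro h
    refine ⟨γ⁻¹ * g * γ, h, ?_⟩
    simp [MulAut.conj_apply, mul_assoc]

theorem spvConj_one (S : Subgroup (MulAut V)) : spvConj 1 S = S := by
  ext g; simp [mem_spvConj]

theorem spvConj_mul (γ δ : MulAut V) (S : Subgroup (MulAut V)) :
    spvConj (γ * δ) S = spvConj γ (spvConj δ S) := by
  ext g; simp [mem_spvConj, mul_assoc]

theorem spvConj_mono {γ : MulAut V} {S T : Subgroup (MulAut V)} (h : S ≤ T) :
    spvConj γ S ≤ spvConj γ T := Subgroup.map_mono h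

theorem spvConj_inv_conj (γ : MulAut V) (S : Subgroup (MulAut V)) :
    spvConj γ⁻¹ (spvConj γ S) = S := by
  rw [← spvConj_mul, inv_mul_cancel, spvConj_one]

theorem spvConj_conj_inv (γ : MulAut V) (S : Subgroup (MulAut V)) :
    spvConj γ (spvConj γ⁻¹ S) = S := by
  rw [← spvConj_mul, mul_inv_cancel, spvConj_one]

theorem spvConj_eq_self_of_normal {γ : MulAut V} {B Γ : Subgroup (MulAut V)} (hγ : γ ∈ Γ)
    (hBn : ∀ γ ∈ Γ, ∀ b ∈ B, γ * b * γ⁻¹ ∈ B) : spvConj γ B = B := by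
  ext g
  rw [mem_spvConj]
  constructor
  · intro h
    have := hBn γ hγ _ h
    simpa [mul_assoc] using this
  · intro h
    have := hBn γ⁻¹ (Γ.inv_mem hγ) _ h
    simpa [mul_assoc] using this

theorem spvFix_conj {γ : MulAut V} {S : Subgroup (MulAut V)} {v : V} (hv : v ∈ spvFix S) :
    γ v ∈ spvFix (spvConj γ S) := by
  intro g hg
  rw [mem_spvConj] at hg
  have := hv _ hg
  simp only [MulAut.mul_apply] at this
  -- γ⁻¹ (g (γ v)) = v
  have h2 := congrArg γ this
  simpa using h2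

theorem spvFix_conj_ne_bot {γ : MulAut V} {S : Subgroup (MulAut V)} (h : spvFix S ≠ ⊥) :
    spvFix (spvConj γ S) ≠ ⊥ := by
  intro hb
  apply h
  rw [Subgroup.eq_bot_iff_forall] at hb ⊢
  intro v hv
  have := hb _ (spvFix_conj (γ := γ) hv)
  simpa using this

/-- maximal elements among subgroups of `B` with nontrivial fixed points -/
def spvMax (B : Subgroup (MulAut V)) : Set (Subgroup (MulAut V)) :=
  {B₀ | B₀ ≤ B ∧ spvFix B₀ ≠ ⊥ ∧ ∀ B₁, B₀ ≤ B₁ → B₁ ≤ B → spvFix B₁ ≠ ⊥ → B₁ = B₀}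

theorem spvMax_exists [Finite V] {B B₀ : Subgroup (MulAut V)} (h0 : B₀ ≤ B) (hf : spvFix B₀ ≠ ⊥) :
    ∃ B₁ ∈ spvMax B, B₀ ≤ B₁ := by
  haveI : Finite (MulAut V) := Finite.of_injective (fun g : MulAut V => (g : V → V))
    (fun a b h => by ext v; exact congrFun h v)
  let s : Set (Subgroup (MulAut V)) := {B₁ | B₁ ≤ B ∧ spvFix B₁ ≠ ⊥}
  have hs : s.Finite := Set.toFinite s
  obtain ⟨B₁, h01, hmax⟩ := hs.exists_le_maximal (show B₀ ∈ s from ⟨h0, hf⟩)
  refine ⟨B₁, ⟨hmax.prop.1, hmax.prop.2, ?_⟩, h01⟩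
  intro B₂ h12 h2B h2f
  exact le_antisymm (hmax.le_of_ge ⟨h2B, h2f⟩ h12) h12

theorem spvMax_conj {B Γ : Subgroup (MulAut V)} (hBn : ∀ γ ∈ Γ, ∀ b ∈ B, γ * b * γ⁻¹ ∈ B)
    {γ : MulAut V} (hγ : γ ∈ Γ) {B₀ : Subgroup (MulAut V)} (h : B₀ ∈ spvMax B) :
    spvConj γ B₀ ∈ spvMax B := by
  obtain ⟨h1, h2, h3⟩ := h
  refine ⟨?_, spvFix_conj_ne_bot h2, ?_⟩
  · have := spvConj_mono (γ := γ) h1
    rwa [spvConj_eq_self_of_normal hγ hBn] at this
  · intro B₁ h01 h1B h1f
    have e1 : B₀ ≤ spvConj γ⁻¹ B₁ := by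
      have := spvConj_mono (γ := γ⁻¹) h01
      rwa [spvConj_inv_conj] at this
    have e2 : spvConj γ⁻¹ B₁ ≤ B := by
      have := spvConj_mono (γ := γ⁻¹) h1B
      rwa [spvConj_eq_self_of_normal (Γ.inv_mem hγ) hBn] at this
    have e3 := h3 _ e1 e2 (spvFix_conj_ne_bot h1f)
    rw [← e3, spvConj_conj_inv]

theorem spvMax_fpf {B B₀ : Subgroup (MulAut V)} (h : B₀ ∈ spvMax B) {b : MulAut V} (hb : b ∈ B)
    (hb0 : b ∉ B₀) {v : V} (hv : v ∈ spvFix B₀) (hbv : b v = v) : v = 1 := by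
  by_contra hv1
  obtain ⟨h1, h2, h3⟩ := h
  have hle : B₀ ⊔ Subgroup.zpowers b ≤ B := sup_le h1 (by
    rw [Subgroup.zpowers_le]; exact hb)
  have hfix : v ∈ spvFix (B₀ ⊔ Subgroup.zpowers b) := by
    intro g hg
    -- stabilizer of v is a subgroup containing B₀ and b
    let St : Subgroup (MulAut V) :=
      { carrier := {g | g v = v}
        one_mem' := by simp
        mul_mem' := fun {a c} ha hc => by
          show (a * c) v = v
          rw [MulAut.mul_apply, show c v = v from hc, show a v = v from ha]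
        inv_mem' := fun {a} ha => by
          show a⁻¹ v = v
          have : a v = v := ha
          rw [← this, MulAut.inv_apply_self, this] }
    have hle' : B₀ ⊔ Subgroup.zpowers b ≤ St := by
      apply sup_le
      · intro g hg; exact hv g hg
      · rw [Subgroup.zpowers_le]; exact hbv
    exact hle' hg
  have hne : spvFix (B₀ ⊔ Subgroup.zpowers b) ≠ ⊥ := by
    intro hb'
    rw [Subgroup.eq_bot_iff_forall] at hb'
    exact hv1 (hb' v hfix)
  have := h3 _ le_sup_left hle hne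
  apply hb0
  rw [← this]
  exact (le_sup_right : Subgroup.zpowers b ≤ _) (Subgroup.mem_zpowers b)

theorem spvFix_invariant {B₀ : Subgroup (MulAut V)} {b : MulAut V}
    (hb : ∀ g ∈ B₀, b * g = g * b) {v : V} (hv : v ∈ spvFix B₀) : b v ∈ spvFix B₀ := by
  intro g hg
  rw [← MulAut.mul_apply, ← hb g hg, MulAut.mul_apply, hv g hg]

/-- independence of the fixed spaces of the maximal subgroups -/
theorem spv_indep {B : Subgroup (MulAut V)} (hBc : ∀ a ∈ B, ∀ b ∈ B, a * b = b * a)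
    {ι : Type*} [DecidableEq ι] (f : ι → Subgroup (MulAut V)) :
    ∀ (n : ℕ) (s : Finset ι), s.card = n → Set.InjOn f s → (∀ i ∈ s, f i ∈ spvMax B) →
      ∀ (c : ι → V), (∀ i ∈ s, c i ∈ spvFix (f i)) →
      ∏ i ∈ s, c i = 1 → ∀ i ∈ s, c i = 1 := by
  intro n
  induction n using Nat.strong_induction_on with
  | _ n ih =>
  intro s hs hf hmax c hc hprod i₂ hi₂
  by_contra hne
  by_cases hex : ∃ i₁ ∈ s, i₁ ≠ i₂
  · obtain ⟨i₁, hi₁, h12⟩ := hex
    -- b ∈ f i₁ \ f i₂
    have hnle : ¬ f i₁ ≤ f i₂ := by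
      intro hle
      have := (hmax i₁ hi₁).2.2 (f i₂) hle (hmax i₂ hi₂).1 (hmax i₂ hi₂).2.1
      exact h12 (hf hi₂ hi₁ this).symm
    obtain ⟨b, hb1, hb2⟩ := SetLike.not_le_iff_exists.mp hnle
    have hbB : b ∈ B := (hmax i₁ hi₁).1 hb1
    let c' : ι → V := fun i => b (c i) * (c i)⁻¹
    have hc'1 : c' i₁ = 1 := by
      show b (c i₁) * (c i₁)⁻¹ = 1
      rw [(hc i₁ hi₁) b hb1, mul_inv_cancel]
    have hc' : ∀ i ∈ s.erase i₁, c' i ∈ spvFix (f i) := by
      intro i hi
      have his : i ∈ s := Finset.mem_of_mem_erase hi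
      apply (spvFix (f i)).mul_mem
      · apply spvFix_invariant _ (hc i his)
        intro g hg
        exact hBc b hbB g ((hmax i his).1 hg)
      · exact (spvFix (f i)).inv_mem (hc i his)
    have hprod' : ∏ i ∈ s.erase i₁, c' i = 1 := by
      have h1 : ∏ i ∈ s, c' i = 1 := by
        show ∏ i ∈ s, (b (c i) * (c i)⁻¹) = 1
        rw [Finset.prod_mul_distrib, Finset.prod_inv_distrib, ← map_prod, hprod]
        simp
      rw [← Finset.mul_prod_erase s c' hi₁, hc'1, one_mul] at h1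
      exact h1
    have hcard : (s.erase i₁).card < n := by
      rw [Finset.card_erase_of_mem hi₁, hs]
      have : 0 < s.card := Finset.card_pos.mpr ⟨i₁, hi₁⟩
      omega
    have hsub : (↑(s.erase i₁) : Set ι) ⊆ ↑s := by
      intro i hi
      exact Finset.mem_of_mem_erase hi
    have := ih _ hcard (s.erase i₁) rfl (hf.mono hsub)
      (fun i hi => hmax i (Finset.mem_of_mem_erase hi)) c' hc' hprod' i₂
      (Finset.mem_erase.mpr ⟨h12.symm, hi₂⟩)
    have hfix : b (c i₂) = c i₂ := by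
      have h : b (c i₂) * (c i₂)⁻¹ = 1 := this
      exact mul_inv_eq_one.mp h
    exact hne (spvMax_fpf (hmax i₂ hi₂) hbB hb2 (hc i₂ hi₂) hfix)
  · push Not at hex
    have hs1 : s = {i₂} := by
      ext i
      simp only [Finset.mem_singleton]
      exact ⟨fun hi => hex i hi, fun hi => hi ▸ hi₂⟩
    rw [hs1, Finset.prod_singleton] at hprod
    exact hne hprod

/-- the subgroup of automorphisms normalizing `S` -/
def spvNormz (S : Subgroup (MulAut V)) : Subgroup (MulAut V) where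
  carrier := {γ | spvConj γ S = S}
  one_mem' := spvConj_one S
  mul_mem' := fun {a b} ha hb => by
    show spvConj (a * b) S = S
    rw [spvConj_mul, show spvConj b S = S from hb, show spvConj a S = S from ha]
  inv_mem' := fun {a} ha => by
    show spvConj a⁻¹ S = S
    have h : spvConj a S = S := ha
    conv_lhs => rw [← h]
    exact spvConj_inv_conj a S

theorem mem_spvNormz {S : Subgroup (MulAut V)} {γ : MulAut V} :
    γ ∈ spvNormz S ↔ spvConj γ S = S := Iff.rfl

theorem spvNormz_le_stab [Finite V] (S : Subgroup (MulAut V)) : spvNormz S ≤ spvStab (spvFix S) := by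
  intro γ hγ
  apply mem_spvStab_of_finite
  intro v hv
  have := spvFix_conj (γ := γ) hv
  rwa [mem_spvNormz.mp hγ] at this

end Cfsg.Agent.Lib.helper3
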