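import Mathlib
import Cfsg.Agent.Lib.helper3.SubPVB
import Cfsg.Agent.Lib.helper3.SubPVD

set_option autoImplicit false

namespace Cfsg.Agent.Lib.helper3

universe u

variable {V : Type u} [CommGroup V]

theorem spv_finite_aut [Finite V] : Finite (MulAut V) :=
  Finite.of_injective (fun g : MulAut V => (g : V → V)) (fun a b h => by ext v; exact congrFun h v)

theorem spv_conj_norm {Γ B : Subgroup (MulAut V)} (hBn : ∀ γ ∈ Γ, ∀ b ∈ B, γ * b * γ⁻¹ ∈ B)
    {x γ : MulAut V} (hγ : γ ∈ Γ) (hnorm : ∀ B₀ ∈ spvMax B, spvConj x B₀ = B₀)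
    {B' : Subgroup (MulAut V)} (hB' : B' ∈ spvMax B) : spvConj (γ * x * γ⁻¹) B' = B' := by
  rw [spvConj_mul, spvConj_mul, hnorm _ (spvMax_conj hBn (Γ.inv_mem hγ) hB'), spvConj_conj_inv]

theorem spv_case1 {p : ℕ} [Finite V]
    (Γ P : Subgroup (MulAut V)) (hPΓ : P ≤ Γ) (hPn : ∀ γ ∈ Γ, ∀ g ∈ P, γ * g * γ⁻¹ ∈ P)
    (hP : IsPGroup p P) (x : MulAut V) (hx : x ∈ P)
    (hno : ∀ v : V, ∃ γ ∈ Γ, (γ * x * γ⁻¹) v = v)
    (B : Subgroup (MulAut V)) (hBn : ∀ γ ∈ Γ, ∀ b ∈ B, γ * b * γ⁻¹ ∈ B)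
    (hBc : ∀ a ∈ B, ∀ b ∈ B, a * b = b * a)
    (hnorm : ∀ B₀ ∈ spvMax B, spvConj x B₀ = B₀)
    (B₁ : Subgroup (MulAut V)) (hB₁ : B₁ ∈ spvMax B)
    (hW : SpvGoal p (spvFix B₁)) (hxB₁ : ∃ w ∈ spvFix B₁, x w ≠ w) : False := by
  classical
  haveI : Finite (MulAut V) := spv_finite_aut
  set Γ₁ : Subgroup (MulAut V) := Γ ⊓ spvNormz B₁ with hΓ₁
  set P₁ : Subgroup (MulAut V) := P ⊓ spvNormz B₁ with hP₁
  have h1 : Γ₁ ≤ spvStab (spvFix B₁) := inf_le_right.trans (spvNormz_le_stab B₁)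
  have h2 : P₁ ≤ Γ₁ := inf_le_inf_right _ hPΓ
  have h3 : ∀ γ ∈ Γ₁, ∀ g ∈ P₁, γ * g * γ⁻¹ ∈ P₁ := by
    intro γ hγ g hg
    exact ⟨hPn γ hγ.1 g hg.1, (spvNormz B₁).mul_mem ((spvNormz B₁).mul_mem hγ.2 hg.2)
      ((spvNormz B₁).inv_mem hγ.2)⟩
  have h4 : IsPGroup p P₁ := hP.to_le inf_le_left
  have h5 : x ∈ P₁ := ⟨hx, mem_spvNormz.mpr (hnorm B₁ hB₁)⟩
  obtain ⟨w, hwW, hw⟩ := spv_restrict (spvFix B₁) hW Γ₁ P₁ h1 h2 h3 h4 x h5 hxB₁
  -- the orbit of B₁
  let Oset : Set (Subgroup (MulAut V)) := {B' | ∃ γ ∈ Γ, spvConj γ B₁ = B'}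
  have hOfin : Oset.Finite := Set.toFinite Oset
  let O : Finset (Subgroup (MulAut V)) := hOfin.toFinset
  have hOmem : ∀ B', B' ∈ O ↔ ∃ γ ∈ Γ, spvConj γ B₁ = B' := by
    intro B'
    simp [O, Oset]
  have hrep : ∀ B' ∈ O, ∃ γ, γ ∈ Γ ∧ spvConj γ B₁ = B' := by
    intro B' hB'
    obtain ⟨γ, hγ, h⟩ := (hOmem B').mp hB'
    exact ⟨γ, hγ, h⟩
  choose! rep hrepΓ hrepeq using hrep
  have hOmax : ∀ B' ∈ O, B' ∈ spvMax B := by
    intro B' hB'
    rw [← hrepeq B' hB']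
    exact spvMax_conj hBn (hrepΓ B' hB') hB₁
  set v : V := ∏ B' ∈ O, (rep B') w with hv
  obtain ⟨γ, hγ, hfix⟩ := hno v
  set y : MulAut V := γ * x * γ⁻¹ with hy
  have hynorm : ∀ B' ∈ spvMax B, spvConj y B' = B' := fun B' hB' => spv_conj_norm hBn hγ hnorm hB'
  have hcomp : ∀ B' ∈ O, (rep B') w ∈ spvFix B' := by
    intro B' hB'
    have := spvFix_conj (γ := rep B') hwW
    rwa [hrepeq B' hB'] at this
  have hcomp2 : ∀ B' ∈ O, y ((rep B') w) ∈ spvFix B' := by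
    intro B' hB'
    have := spvFix_conj (γ := y) (hcomp B' hB')
    rwa [hynorm B' (hOmax B' hB')] at this
  have hprod : ∏ B' ∈ O, (y ((rep B') w) * ((rep B') w)⁻¹) = 1 := by
    rw [Finset.prod_mul_distrib, Finset.prod_inv_distrib, ← map_prod, ← hv, hfix, mul_inv_cancel]
  have hall := spv_indep hBc (fun S : Subgroup (MulAut V) => S) O.card O rfl
    (fun a _ b _ h => h) hOmax (fun B' => y ((rep B') w) * ((rep B') w)⁻¹)
    (fun B' hB' => (spvFix B').mul_mem (hcomp2 B' hB') ((spvFix B').inv_mem (hcomp B' hB'))) hprod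
  -- apply to B' = γ B₁
  have hB'O : spvConj γ B₁ ∈ O := (hOmem _).mpr ⟨γ, hγ, rfl⟩
  set g := rep (spvConj γ B₁) with hg
  have hgΓ : g ∈ Γ := hrepΓ _ hB'O
  have hgeq : spvConj g B₁ = spvConj γ B₁ := hrepeq _ hB'O
  have hγ₁ : g⁻¹ * γ ∈ Γ₁ := by
    refine ⟨Γ.mul_mem (Γ.inv_mem hgΓ) hγ, ?_⟩
    show g⁻¹ * γ ∈ spvNormz B₁
    rw [mem_spvNormz, spvConj_mul, ← hgeq, spvConj_inv_conj]
  have h6 := hall _ hB'O
  have h7 : y (g w) = g w := mul_inv_eq_one.mp h6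
  apply hw (g⁻¹ * γ) hγ₁
  have e : g⁻¹ * γ * x * (g⁻¹ * γ)⁻¹ = g⁻¹ * y * g := by
    rw [hy]; group
  rw [e, MulAut.mul_apply, MulAut.mul_apply, h7, MulAut.inv_apply_self]


theorem spv_case2 {p : ℕ} [Fact p.Prime] (hp2 : p ≠ 2) [Finite V]
    (Γ P : Subgroup (MulAut V)) (hPΓ : P ≤ Γ) (hPn : ∀ γ ∈ Γ, ∀ g ∈ P, γ * g * γ⁻¹ ∈ P)
    (hP : IsPGroup p P) (x : MulAut V) (hx : x ∈ P)
    (hno : ∀ v : V, ∃ γ ∈ Γ, (γ * x * γ⁻¹) v = v)
    (B : Subgroup (MulAut V)) (hBn : ∀ γ ∈ Γ, ∀ b ∈ B, γ * b * γ⁻¹ ∈ B)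
    (hBc : ∀ a ∈ B, ∀ b ∈ B, a * b = b * a)
    (hmove : ∃ B₀ ∈ spvMax B, spvConj x B₀ ≠ B₀) : False := by
  classical
  haveI : Finite (MulAut V) := spv_finite_aut
  let M := {S : Subgroup (MulAut V) // S ∈ spvMax B}
  haveI : Finite M := inferInstance
  letI : Fintype M := Fintype.ofFinite M
  letI act : MulAction P M :=
    { smul := fun g S => ⟨spvConj (g : MulAut V) S.1, spvMax_conj hBn (hPΓ g.2) S.2⟩
      one_smul := fun S => Subtype.ext (spvConj_one S.1)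
      mul_smul := fun g h S => Subtype.ext (spvConj_mul (g : MulAut V) (h : MulAut V) S.1) }
  have hsmul : ∀ (g : P) (S : M), (g • S).1 = spvConj (g : MulAut V) S.1 := fun _ _ => rfl
  let φ : P →* Equiv.Perm M := MulAction.toPermHom P M
  have hφ : ∀ (g : P) (S : M), φ g S = g • S := fun _ _ => rfl
  obtain ⟨J, hJ⟩ := spv_regular_set hp2 hP φ
  have hw : ∀ S : M, ∃ w, w ∈ spvFix S.1 ∧ w ≠ 1 := by
    intro S
    have := S.2.2.1
    rw [Ne, Subgroup.eq_bot_iff_forall] at this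
    push Not at this
    exact this
  choose w hwF hw1 using hw
  let c₂ : M → V := fun S => if S ∈ J then w S else 1
  set v : V := ∏ S, c₂ S with hv
  obtain ⟨γ, hγ, hfix⟩ := hno v
  set y : MulAut V := γ * x * γ⁻¹ with hy
  have hyP : y ∈ P := hPn γ hγ x hx
  set σ : Equiv.Perm M := φ ⟨y, hyP⟩ with hσ
  have hσval : ∀ S : M, (σ S).1 = spvConj y S.1 := fun S => rfl
  let c₁ : M → V := fun S => if σ⁻¹ S ∈ J then y (w (σ⁻¹ S)) else 1
  have h1 : ∀ S : M, y (c₂ S) = c₁ (σ S) := by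
    intro S
    show y (if S ∈ J then w S else 1) = if σ⁻¹ (σ S) ∈ J then y (w (σ⁻¹ (σ S))) else 1
    have e : σ⁻¹ (σ S) = S := by simp
    rw [e]
    split_ifs
    · rfl
    · exact map_one y
  have h2 : y v = ∏ S, c₁ S := by
    rw [hv, map_prod, Finset.prod_congr rfl (fun S _ => h1 S)]
    exact Equiv.prod_comp σ c₁
  have hc₁ : ∀ S : M, c₁ S ∈ spvFix S.1 := by
    intro S
    show (if σ⁻¹ S ∈ J then y (w (σ⁻¹ S)) else 1) ∈ spvFix S.1
    split_ifs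
    · have := spvFix_conj (γ := y) (hwF (σ⁻¹ S))
      have e : σ (σ⁻¹ S) = S := by simp
      rw [← hσval, e] at this
      exact this
    · exact (spvFix S.1).one_mem
  have hc₂ : ∀ S : M, c₂ S ∈ spvFix S.1 := by
    intro S
    show (if S ∈ J then w S else 1) ∈ spvFix S.1
    split_ifs
    · exact hwF S
    · exact (spvFix S.1).one_mem
  have hprod : ∏ S, (c₁ S * (c₂ S)⁻¹) = 1 := by
    rw [Finset.prod_mul_distrib, Finset.prod_inv_distrib, ← h2, ← hv, hfix, mul_inv_cancel]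
  have hall := spv_indep hBc (fun S : M => S.1) (Finset.univ : Finset M).card Finset.univ rfl
    (fun a _ b _ h => Subtype.ext h) (fun S _ => S.2) (fun S => c₁ S * (c₂ S)⁻¹)
    (fun S _ => (spvFix S.1).mul_mem (hc₁ S) ((spvFix S.1).inv_mem (hc₂ S))) hprod
  have heq : ∀ S : M, c₁ S = c₂ S := fun S => mul_inv_eq_one.mp (hall S (Finset.mem_univ S))
  have hsub : J ⊆ σ '' J := by
    intro S hS
    have h3 : c₂ S = w S := if_pos hS
    have h4 : c₁ S ≠ 1 := by rw [heq, h3]; exact hw1 S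
    have h5 : σ⁻¹ S ∈ J := by
      by_contra hn
      exact h4 (if_neg hn)
    exact ⟨σ⁻¹ S, h5, by simp⟩
  have himg : σ '' J = J := by
    symm
    apply Set.eq_of_subset_of_ncard_le hsub _ (Set.toFinite _)
    rw [Set.ncard_image_of_injective _ σ.injective]
  have hσ1 : σ = 1 := hJ ⟨y, hyP⟩ himg
  obtain ⟨B₀, hB₀, hne⟩ := hmove
  apply hne
  have hB' : spvConj γ B₀ ∈ spvMax B := spvMax_conj hBn hγ hB₀
  have h6 : spvConj y (spvConj γ B₀) = spvConj γ B₀ := by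
    have := hσval ⟨spvConj γ B₀, hB'⟩
    rw [hσ1] at this
    exact this.symm
  have e : x = γ⁻¹ * y * γ := by rw [hy]; group
  rw [e, spvConj_mul, spvConj_mul, h6, spvConj_inv_conj]


theorem spvFix_bot : spvFix (⊥ : Subgroup (MulAut V)) = ⊤ := by
  ext v
  simp only [Subgroup.mem_top, iff_true]
  intro b hb
  rw [Subgroup.mem_bot.mp hb]
  rfl

theorem spv_abelian_fpf {p : ℕ} [Fact p.Prime] (hp2 : p ≠ 2) [Finite V]
    (IH : ∀ W : Subgroup V, W ≠ ⊤ → SpvGoal p W)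
    (Γ P : Subgroup (MulAut V)) (hPΓ : P ≤ Γ) (hPn : ∀ γ ∈ Γ, ∀ g ∈ P, γ * g * γ⁻¹ ∈ P)
    (hP : IsPGroup p P)
    (hirr : ∀ W : Subgroup V, (∀ γ ∈ Γ, ∀ w ∈ W, γ w ∈ W) → W = ⊥ ∨ W = ⊤)
    (x : MulAut V) (hx : x ∈ P) (hx1 : x ≠ 1)
    (hno : ∀ v : V, ∃ γ ∈ Γ, (γ * x * γ⁻¹) v = v)
    (B : Subgroup (MulAut V)) (hBn : ∀ γ ∈ Γ, ∀ b ∈ B, γ * b * γ⁻¹ ∈ B)
    (hBc : ∀ a ∈ B, ∀ b ∈ B, a * b = b * a) :
    ∀ b ∈ B, b ≠ 1 → spvFpf b := by
  have hVnt : (⊤ : Subgroup V) ≠ ⊥ := by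
    intro h
    apply hx1
    ext v
    have hv : v ∈ (⊥ : Subgroup V) := h ▸ Subgroup.mem_top v
    rw [Subgroup.mem_bot.mp hv]
    simp
  obtain ⟨B₁, hB₁, -⟩ := spvMax_exists (B := B) (B₀ := ⊥) bot_le (by rw [spvFix_bot]; exact hVnt)
  by_cases huniq : ∀ B₂ ∈ spvMax B, B₂ = B₁
  · have hinv : ∀ γ ∈ Γ, ∀ w ∈ spvFix B₁, γ w ∈ spvFix B₁ := by
      intro γ hγ w hw
      have := spvFix_conj (γ := γ) hw
      rwa [huniq _ (spvMax_conj hBn hγ hB₁)] at this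
    rcases hirr _ hinv with h | h
    · exact absurd h hB₁.2.1
    · have hB₁bot : B₁ = ⊥ := by
        rw [Subgroup.eq_bot_iff_forall]
        intro b hb
        ext v
        have hv : v ∈ spvFix B₁ := h ▸ Subgroup.mem_top v
        simpa using hv b hb
      intro b hb hb1 v hv
      refine spvMax_fpf hB₁ hb ?_ (h ▸ Subgroup.mem_top v) hv
      rw [hB₁bot, Subgroup.mem_bot]
      exact hb1
  · exfalso
    push Not at huniq
    obtain ⟨B₂, hB₂, hne⟩ := huniq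
    by_cases hnorm : ∀ B₀ ∈ spvMax B, spvConj x B₀ = B₀
    · have hex : ∃ B₃ ∈ spvMax B, ∃ w ∈ spvFix B₃, x w ≠ w := by
        by_contra hcon
        push Not at hcon
        let M := {S : Subgroup (MulAut V) // S ∈ spvMax B}
        let W : Subgroup V := ⨆ S : M, spvFix S.1
        have hWinv : ∀ γ ∈ Γ, ∀ w ∈ W, γ w ∈ W := by
          intro γ hγ w hw
          have h1 : γ w ∈ W.map (γ : V ≃* V).toMonoidHom := ⟨w, hw, rfl⟩
          have h2 : W.map (γ : V ≃* V).toMonoidHom ≤ W := by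
            rw [Subgroup.map_iSup]
            apply iSup_le
            intro S
            rintro _ ⟨u, hu, rfl⟩
            have h3 : γ u ∈ spvFix (spvConj γ S.1) := spvFix_conj hu
            exact (le_iSup (fun S : M => spvFix S.1) ⟨spvConj γ S.1, spvMax_conj hBn hγ S.2⟩) h3
          exact h2 h1
        have hWne : W ≠ ⊥ := by
          intro hb
          apply hB₁.2.1
          rw [eq_bot_iff, ← hb]
          exact le_iSup (fun S : M => spvFix S.1) ⟨B₁, hB₁⟩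
        rcases hirr W hWinv with h | h
        · exact hWne h
        · -- x fixes W pointwise
          let Fx : Subgroup V :=
            { carrier := {v | x v = v}
              one_mem' := map_one x
              mul_mem' := fun {a b} ha hb => by
                show x (a * b) = a * b
                rw [map_mul, show x a = a from ha, show x b = b from hb]
              inv_mem' := fun {a} ha => by
                show x a⁻¹ = a⁻¹
                rw [map_inv, show x a = a from ha] }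
          have hle : W ≤ Fx := by
            apply iSup_le
            intro S w hw
            exact hcon S.1 S.2 w hw
          apply hx1
          ext v
          have : v ∈ Fx := hle (h ▸ Subgroup.mem_top v)
          have h' : x v = v := this
          simpa using h'
      obtain ⟨B₃, hB₃, hxw⟩ := hex
      have hW3 : spvFix B₃ ≠ ⊤ := by
        intro htop
        have hB₃bot : B₃ = ⊥ := by
          rw [Subgroup.eq_bot_iff_forall]
          intro b hb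
          ext v
          have hv : v ∈ spvFix B₃ := htop ▸ Subgroup.mem_top v
          simpa using hv b hb
        have hall : ∀ S ∈ spvMax B, S = B₃ := by
          intro S hS
          exact hB₃.2.2 S (by rw [hB₃bot]; exact bot_le) hS.1 hS.2.1
        exact hne ((hall B₂ hB₂).trans (hall B₁ hB₁).symm)
      exact spv_case1 Γ P hPΓ hPn hP x hx hno B hBn hBc hnorm B₃ hB₃ (IH _ hW3) hxw
    · push Not at hnorm
      exact spv_case2 hp2 Γ P hPΓ hPn hP x hx hno B hBn hBc hnorm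

end Cfsg.Agent.Lib.helper3
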