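import Mathlib
import Cfsg.Agent.Lib.helper3.SubPVD

set_option autoImplicit false

namespace Cfsg.Agent.Lib.helper3

universe u

variable {V : Type u} [CommGroup V]

theorem spv_zpowers_pow_eq_one {z ζ : MulAut V} {p : ℕ} (hzp : z ^ p = 1)
    (hζ : ζ ∈ Subgroup.zpowers z) : ζ ^ p = 1 := by
  obtain ⟨k, rfl⟩ := Subgroup.mem_zpowers_iff.mp hζ
  rw [← zpow_natCast, ← zpow_mul, mul_comm, zpow_mul, zpow_natCast, hzp, one_zpow]

theorem spv_zpowers_commute {z ζ g : MulAut V} (hgz : g * z = z * g)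
    (hζ : ζ ∈ Subgroup.zpowers z) : g * ζ = ζ * g := by
  obtain ⟨k, rfl⟩ := Subgroup.mem_zpowers_iff.mp hζ
  exact (Commute.zpow_right (show Commute g z from hgz) k).eq

theorem spv_eigen_eval_eq {p : ℕ} {z : MulAut V}
    {b : MulAut V} (hbz : b * z = z * b) {ζ : MulAut V} (hζ : ζ ∈ Subgroup.zpowers z)
    {c : V} (hc : b c = ζ c) :
    spvNorm (ζ⁻¹ * b) p c = c ^ p := by
  have h1 : Commute b ζ := spv_zpowers_commute hbz hζ
  rw [spvNorm_eigen h1 h1 (Commute.refl ζ) p hc, inv_mul_cancel, spvNorm_one_left]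

theorem spv_eigen_eval_ne {p : ℕ} {z : MulAut V}
    (hfpf : ∀ ζ ∈ Subgroup.zpowers z, ζ ≠ 1 → spvFpf ζ) (hzp : z ^ p = 1)
    {b : MulAut V} (hbz : b * z = z * b) {ζ ζ' : MulAut V} (hζ : ζ ∈ Subgroup.zpowers z)
    (hζ' : ζ' ∈ Subgroup.zpowers z) (h : ζ ≠ ζ') {c : V} (hc : b c = ζ' c) :
    spvNorm (ζ⁻¹ * b) p c = 1 := by
  have h1 : Commute b ζ := spv_zpowers_commute hbz hζ
  have h2 : Commute b ζ' := spv_zpowers_commute hbz hζ'
  have h3 : Commute ζ ζ' := by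
    obtain ⟨k, rfl⟩ := Subgroup.mem_zpowers_iff.mp hζ
    obtain ⟨l, rfl⟩ := Subgroup.mem_zpowers_iff.mp hζ'
    exact (Commute.refl z).zpow_zpow k l
  rw [spvNorm_eigen h1 h2 h3 p hc]
  have hmem : ζ⁻¹ * ζ' ∈ Subgroup.zpowers z :=
    (Subgroup.zpowers z).mul_mem ((Subgroup.zpowers z).inv_mem hζ) hζ'
  have hne : ζ⁻¹ * ζ' ≠ 1 := by
    intro h'
    apply h
    rw [inv_mul_eq_one] at h'
    exact h'
  exact spvNorm_eq_one_of_fpf (spv_zpowers_pow_eq_one hzp hmem) (hfpf _ hmem hne) c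

/-- if `ζ` of odd prime order `p` satisfies `ζ⁻¹ = ζ` then `ζ = 1` -/
theorem spv_eq_one_of_inv_eq {ζ : MulAut V} {p : ℕ} (hp : p.Prime) (hp2 : p ≠ 2) (hζp : ζ ^ p = 1)
    (h : ζ⁻¹ = ζ) : ζ = 1 := by
  have h2 : ζ ^ 2 = 1 := by
    rw [pow_two]
    nth_rewrite 1 [← h]
    exact inv_mul_cancel ζ
  have hd1 : orderOf ζ ∣ 2 := orderOf_dvd_of_pow_eq_one h2
  have hd2 : orderOf ζ ∣ p := orderOf_dvd_of_pow_eq_one hζp
  have hcop : Nat.Coprime 2 p := by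
    rw [Nat.coprime_comm]
    exact (Nat.coprime_primes hp Nat.prime_two).mpr hp2
  have : orderOf ζ ∣ 1 := by
    have := Nat.dvd_gcd hd1 hd2
    rwa [hcop] at this
  exact orderOf_eq_one_iff.mp (Nat.dvd_one.mp this)

theorem spvNorm_mem {W : Subgroup V} {g : MulAut V} (hg : ∀ w ∈ W, g w ∈ W) (n : ℕ) {w : V}
    (hw : w ∈ W) : spvNorm g n w ∈ W := by
  unfold spvNorm
  have key : ∀ i : ℕ, (g ^ i) w ∈ W := by
    intro i
    induction i with
    | zero => simpa using hw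
    | succ k ih =>
      rw [pow_succ', MulAut.mul_apply]
      exact hg _ ih
  exact Subgroup.prod_mem _ (fun i _ => key i)

/-- `B = B₀ · ⟨z⟩` for a maximal `B₀` with fixed points. -/
theorem spv_B_decomp [Finite V] {p : ℕ} (hp : p.Prime) (hV : (Nat.card V).Coprime p)
    {z : MulAut V} (hz1 : z ≠ 1) (hzp : z ^ p = 1)
    (hfpf : ∀ ζ ∈ Subgroup.zpowers z, ζ ≠ 1 → spvFpf ζ)
    {B B₀ : Subgroup (MulAut V)} (hBc : ∀ a ∈ B, ∀ b ∈ B, a * b = b * a) (hzB : z ∈ B)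
    (hBp : ∀ b ∈ B, b ^ p = 1) (hB₀ : B₀ ∈ spvMax B) :
    ∀ b ∈ B, ∃ ζ ∈ Subgroup.zpowers z, b * ζ⁻¹ ∈ B₀ := by
  intro b hb
  by_contra hcon
  push Not at hcon
  apply hB₀.2.1
  rw [Subgroup.eq_bot_iff_forall]
  intro w hw
  have hbz : Commute b z := hBc b hb z hzB
  have hinvB : ∀ g ∈ B, ∀ w ∈ spvFix B₀, g w ∈ spvFix B₀ := by
    intro g hg w hw
    apply spvFix_invariant _ hw
    intro h hh
    exact hBc g hg h (hB₀.1 hh)
  apply spv_rank2 hbz hV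
  · intro j _
    have hmemB : b * z ^ j ∈ B := B.mul_mem hb (B.pow_mem hzB j)
    have hnot : b * z ^ j ∉ B₀ := by
      have := hcon ((z ^ j)⁻¹) ((Subgroup.zpowers z).inv_mem (Subgroup.pow_mem _ (Subgroup.mem_zpowers z) j))
      rwa [inv_inv] at this
    have hpow : (b * z ^ j) ^ p = 1 := hBp _ hmemB
    exact spvMax_fpf hB₀ hmemB hnot (spvNorm_mem (hinvB _ hmemB) p hw) (spvNorm_fixed hpow w)
  · intro i hi0 hip
    have hne : z ^ i ≠ 1 := by
      intro h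
      haveI := Fact.mk hp
      have hord : orderOf z = p := orderOf_eq_prime hzp hz1
      have := orderOf_dvd_of_pow_eq_one h
      rw [hord] at this
      exact absurd (Nat.le_of_dvd hi0 this) (by omega)
    have hmem : z ^ i ∈ Subgroup.zpowers z := Subgroup.pow_mem _ (Subgroup.mem_zpowers z) i
    exact spvNorm_eq_one_of_fpf (spv_zpowers_pow_eq_one hzp hmem) (hfpf _ hmem hne) w

end Cfsg.Agent.Lib.helper3
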