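import Mathlib
import Cfsg.Agent.Lib.helper3.SubPVF

set_option autoImplicit false

namespace Cfsg.Agent.Lib.helper3

universe u

variable {V : Type u} [CommGroup V]

/-- context for Lemma Q -/
structure SpvQ (p : ℕ) (D U B B₀ : Subgroup (MulAut V)) (z : MulAut V) : Prop where
  hp : p.Prime
  hp2 : p ≠ 2
  hV : (Nat.card V).Coprime p
  hzc : ∀ d ∈ D, d * z = z * d
  hz1 : z ≠ 1
  hzp : z ^ p = 1
  hfpf : ∀ ζ ∈ Subgroup.zpowers z, ζ ≠ 1 → spvFpf ζ
  hUD : U ≤ D
  hK : ∀ d ∈ D, ∀ u ∈ U, d * u * d⁻¹ * u⁻¹ ∈ Subgroup.zpowers z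
  hBU : B ≤ U
  hBc : ∀ a ∈ B, ∀ b ∈ B, a * b = b * a
  hBmax : ∀ u ∈ U, (∀ b ∈ B, u * b = b * u) → u ∈ B
  hB₀ : B₀ ∈ spvMax B
  hdec : ∀ b ∈ B, ∃ ζ ∈ Subgroup.zpowers z, b * ζ⁻¹ ∈ B₀

structure SpvState (D U B B₀ U₁ : Subgroup (MulAut V)) (v : V) : Prop where
  hv : v ≠ 1
  hBU₁ : B ≤ U₁
  hU₁U : U₁ ≤ U
  h1 : ∀ b ∈ B₀, (∀ u ∈ U₁, b * u = u * b) → b v = v
  h2 : ∀ y ∈ D, y v = v → ∀ u ∈ U₁, y * u = u * y
  h3 : ∀ u ∈ U, (∀ b ∈ B₀, (∀ u₁ ∈ U₁, b * u₁ = u₁ * b) → u * b = b * u) → u ∈ U₁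

/-- every element of `⟨z⟩` is a power of a given nonidentity element -/
theorem spv_zpowers_gen {p : ℕ} (hp : p.Prime) {z ζ ξ : MulAut V} (hz1 : z ≠ 1) (hzp : z ^ p = 1)
    (hζ : ζ ∈ Subgroup.zpowers z) (hζ1 : ζ ≠ 1) (hξ : ξ ∈ Subgroup.zpowers z) :
    ∃ m : ℤ, ζ ^ m = ξ := by
  haveI := Fact.mk hp
  have hord : orderOf z = p := orderOf_eq_prime hzp hz1
  have hcard : Nat.card (Subgroup.zpowers z) = p := by rw [Nat.card_zpowers, hord]
  have hne : (⟨ζ, hζ⟩ : Subgroup.zpowers z) ≠ 1 := fun h => hζ1 (congrArg Subtype.val h)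
  have htop := zpowers_eq_top_of_prime_card hcard hne
  have hmem : (⟨ξ, hξ⟩ : Subgroup.zpowers z) ∈ Subgroup.zpowers (⟨ζ, hζ⟩ : Subgroup.zpowers z) := by
    rw [htop]; exact Subgroup.mem_top _
  obtain ⟨m, hm⟩ := Subgroup.mem_zpowers_iff.mp hmem
  refine ⟨m, ?_⟩
  have := congrArg Subtype.val hm
  simpa using this

/-- if `b a = ζ a b` with `ζ` commuting with `a` and `b` then `b aⁿ = ζⁿ aⁿ b`. -/
theorem spv_comm_zpow {G : Type*} [Group G] {a b ζ : G} (h : b * a = ζ * a * b)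
    (ha : Commute ζ a) (n : ℤ) : b * a ^ n = ζ ^ n * a ^ n * b := by
  have h1 : b * a * b⁻¹ = ζ * a := by rw [h]; group
  have h2 : b * a ^ n * b⁻¹ = (ζ * a) ^ n := by rw [← h1, conj_zpow]
  rw [ha.mul_zpow] at h2
  rw [← h2]; group

theorem spv_comm_zpow' {G : Type*} [Group G] {a b ζ : G} (h : b * a = ζ * a * b)
    (ha : Commute ζ a) (hb : Commute ζ b) (n : ℤ) : b ^ n * a = ζ ^ n * a * b ^ n := by
  -- a b = ζ⁻¹ b a
  have h0 : a * b = ζ⁻¹ * b * a := by
    have : ζ⁻¹ * (b * a) = a * b := by rw [h]; group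
    rw [← this]; group
  have h1 := spv_comm_zpow h0 hb.inv_left n
  -- a * b^n = ζ⁻¹^n * b^n * a
  have hc : Commute (ζ ^ n) a := ha.zpow_left n
  have h3 : b ^ n * a = ζ ^ n * (a * b ^ n) := by
    rw [h1, inv_zpow]; group
  rw [h3, mul_assoc]


theorem spv_mem_centralizer_singleton {G : Type*} [Group G] {y u : G} :
    u ∈ Subgroup.centralizer ({y} : Set G) ↔ y * u = u * y := by
  rw [Subgroup.mem_centralizer_iff]
  constructor
  · intro h; exact h y rfl
  · intro h g hg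
    rw [Set.mem_singleton_iff.mp hg]; exact h

theorem SpvQ.step [Finite V] {p : ℕ} {D U B B₀ : Subgroup (MulAut V)} {z : MulAut V}
    (Q : SpvQ p D U B B₀ z) {U₁ : Subgroup (MulAut V)} {v : V}
    (S : SpvState D U B B₀ U₁ v) {a : MulAut V} (haU : a ∈ U) (haU₁ : a ∉ U₁) :
    ∃ v', SpvState D U B B₀ (U₁ ⊔ Subgroup.zpowers a) v' := by
  have haD : a ∈ D := Q.hUD haU
  -- the element b
  have hexb : ∃ b ∈ B₀, (∀ u₁ ∈ U₁, b * u₁ = u₁ * b) ∧ a * b ≠ b * a := by
    by_contra hcon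
    push Not at hcon
    exact haU₁ (S.h3 a haU (fun b hb hbU => hcon b hb hbU))
  obtain ⟨b, hbB₀, hbU₁, hab⟩ := hexb
  have hbB : b ∈ B := Q.hB₀.1 hbB₀
  have hbU : b ∈ U := Q.hBU hbB
  have hbD : b ∈ D := Q.hUD hbU
  set ζ : MulAut V := b * a * b⁻¹ * a⁻¹ with hζdef
  have hζ : ζ ∈ Subgroup.zpowers z := Q.hK b hbD a haU
  have hζ1 : ζ ≠ 1 := by
    intro h
    apply hab
    have : b * a = ζ * a * b := by rw [hζdef]; group
    rw [this, h, one_mul]
  have hba : b * a = ζ * a * b := by rw [hζdef]; group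
  have hcentral : ∀ ξ ∈ Subgroup.zpowers z, ∀ d ∈ D, d * ξ = ξ * d :=
    fun ξ hξ d hd => spv_zpowers_commute (Q.hzc d hd) hξ
  have hbz : b * z = z * b := Q.hzc b hbD
  have hbv : b v = v := S.h1 b hbB₀ hbU₁
  have hbav : b (a v) = ζ (a v) := by
    rw [← MulAut.mul_apply, hba, MulAut.mul_apply, MulAut.mul_apply, hbv]
  have hone : (1 : MulAut V) ∈ Subgroup.zpowers z := Subgroup.one_mem _
  have hbv1 : b v = (1 : MulAut V) v := by rw [hbv]; rfl
  -- norms
  have hN1v : spvNorm ((1 : MulAut V)⁻¹ * b) p v = v ^ p := spv_eigen_eval_eq hbz hone hbv1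
  have hN1av : spvNorm ((1 : MulAut V)⁻¹ * b) p (a v) = 1 :=
    spv_eigen_eval_ne Q.hfpf Q.hzp hbz hone hζ (Ne.symm hζ1) hbav
  have hNζv : spvNorm (ζ⁻¹ * b) p v = 1 :=
    spv_eigen_eval_ne Q.hfpf Q.hzp hbz hζ hone hζ1 hbv1
  have hNζav : spvNorm (ζ⁻¹ * b) p (a v) = (a v) ^ p := spv_eigen_eval_eq hbz hζ hbav
  have hav1 : a v ≠ 1 := by
    intro h
    apply S.hv
    have := congrArg (a⁻¹ : MulAut V) h
    simpa using this
  have hv' : v * a v ≠ 1 := by
    intro h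
    have h1 := congrArg (spvNorm ((1 : MulAut V)⁻¹ * b) p) h
    rw [spvNorm_mul, hN1v, hN1av, spvNorm_one_right, mul_one] at h1
    exact S.hv (spv_pow_eq_one Q.hV h1)
  refine ⟨v * a v, ⟨hv', le_trans S.hBU₁ le_sup_left, ?_, ?_, ?_, ?_⟩⟩
  · -- U₂ ≤ U
    apply sup_le S.hU₁U
    rw [Subgroup.zpowers_le]; exact haU
  · -- (i)
    intro b' hb' hb'U
    have h1 : b' v = v := S.h1 b' hb' (fun u hu => hb'U u (le_sup_left (a := U₁) hu))
    have h2 : b' * a = a * b' := hb'U a ((le_sup_right : Subgroup.zpowers a ≤ _) (Subgroup.mem_zpowers a))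
    rw [map_mul, h1, ← MulAut.mul_apply, h2, MulAut.mul_apply, h1]
  · -- (ii)
    intro y hyD hy
    rw [map_mul] at hy
    set τ : MulAut V := y * b * y⁻¹ * b⁻¹ with hτdef
    have hτ : τ ∈ Subgroup.zpowers z := Q.hK y hyD b hbU
    have hby : b * y = τ⁻¹ * y * b := by rw [hτdef]; group
    have heig : ∀ ζ' ∈ Subgroup.zpowers z, ∀ c : V, b c = ζ' c → b (y c) = (τ⁻¹ * ζ') (y c) := by
      intro ζ' hζ' c hc
      have hyc : y (ζ' c) = ζ' (y c) := by
        rw [← MulAut.mul_apply, hcentral ζ' hζ' y hyD, MulAut.mul_apply]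
      rw [← MulAut.mul_apply, hby, MulAut.mul_apply, MulAut.mul_apply, hc, hyc, MulAut.mul_apply]
    have hyv := heig 1 hone v hbv1
    have hyav := heig ζ hζ (a v) hbav
    have hτinv : τ⁻¹ ∈ Subgroup.zpowers z := (Subgroup.zpowers z).inv_mem hτ
    have hτ1mem : τ⁻¹ * 1 ∈ Subgroup.zpowers z := by rw [mul_one]; exact hτinv
    have hτζmem : τ⁻¹ * ζ ∈ Subgroup.zpowers z := (Subgroup.zpowers z).mul_mem hτinv hζ
    have hfix : y v = v ∧ y (a v) = a v := by
      by_cases hτ1 : τ = 1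
      · have e1 : τ⁻¹ * 1 = (1 : MulAut V) := by rw [hτ1]; simp
        have e2 : τ⁻¹ * ζ = ζ := by rw [hτ1]; simp
        rw [e1] at hyv
        rw [e2] at hyav
        have h1 := congrArg (spvNorm ((1 : MulAut V)⁻¹ * b) p) hy
        rw [spvNorm_mul, spvNorm_mul, hN1v, hN1av, spv_eigen_eval_eq hbz hone hyv,
          spv_eigen_eval_ne Q.hfpf Q.hzp hbz hone hζ (Ne.symm hζ1) hyav, mul_one, mul_one] at h1
        have h2 : (y v * v⁻¹) ^ p = 1 := by rw [mul_pow, inv_pow, h1, mul_inv_cancel]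
        have h3 : y v = v := mul_inv_eq_one.mp (spv_pow_eq_one Q.hV h2)
        refine ⟨h3, ?_⟩
        rw [h3] at hy
        exact mul_left_cancel hy
      · exfalso
        have hne1 : (1 : MulAut V) ≠ τ⁻¹ * 1 := by
          rw [mul_one]
          intro h
          apply hτ1
          rw [← inv_inv τ, ← h, inv_one]
        have hN1yv : spvNorm ((1 : MulAut V)⁻¹ * b) p (y v) = 1 :=
          spv_eigen_eval_ne Q.hfpf Q.hzp hbz hone hτ1mem hne1 hyv
        by_cases hτζ : τ⁻¹ * ζ = 1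
        · -- τ = ζ
          have hτeq : τ = ζ := inv_injective (eq_inv_of_mul_eq_one_left hτζ)
          have hneζ : ζ ≠ τ⁻¹ * 1 := by
            rw [mul_one, hτeq]
            intro h
            exact hζ1 (spv_eq_one_of_inv_eq Q.hp Q.hp2 (spv_zpowers_pow_eq_one Q.hzp hζ) h.symm)
          have hneζ2 : ζ ≠ τ⁻¹ * ζ := by rw [hτζ]; exact hζ1
          have h1 := congrArg (spvNorm (ζ⁻¹ * b) p) hy
          rw [spvNorm_mul, spvNorm_mul, hNζv, hNζav,
            spv_eigen_eval_ne Q.hfpf Q.hzp hbz hζ hτ1mem hneζ hyv,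
            spv_eigen_eval_ne Q.hfpf Q.hzp hbz hζ hτζmem hneζ2 hyav, mul_one, one_mul] at h1
          exact hav1 (spv_pow_eq_one Q.hV h1.symm)
        · have hne2 : (1 : MulAut V) ≠ τ⁻¹ * ζ := fun h => hτζ h.symm
          have h1 := congrArg (spvNorm ((1 : MulAut V)⁻¹ * b) p) hy
          rw [spvNorm_mul, spvNorm_mul, hN1v, hN1av, hN1yv,
            spv_eigen_eval_ne Q.hfpf Q.hzp hbz hone hτζmem hne2 hyav, mul_one, mul_one] at h1
          exact S.hv (spv_pow_eq_one Q.hV h1.symm)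
    obtain ⟨hyv', hyav'⟩ := hfix
    have hyU₁ := S.h2 y hyD hyv'
    set κ : MulAut V := y * a * y⁻¹ * a⁻¹ with hκdef
    have hκ : κ ∈ Subgroup.zpowers z := Q.hK y hyD a haU
    have hya : y * a = κ * a * y := by rw [hκdef]; group
    have hκ1 : κ = 1 := by
      by_contra hκ1
      apply hav1
      apply Q.hfpf κ hκ hκ1
      have : y (a v) = κ (a v) := by
        rw [← MulAut.mul_apply, hya, MulAut.mul_apply, MulAut.mul_apply, hyv']
      rw [← this, hyav']
    have hya' : y * a = a * y := by rw [hya, hκ1, one_mul]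
    intro u hu
    have hle : U₁ ⊔ Subgroup.zpowers a ≤ Subgroup.centralizer ({y} : Set (MulAut V)) := by
      apply sup_le
      · intro u hu
        exact spv_mem_centralizer_singleton.mpr (hyU₁ u hu)
      · rw [Subgroup.zpowers_le]
        exact spv_mem_centralizer_singleton.mpr hya'
    exact spv_mem_centralizer_singleton.mp (hle hu)
  · -- (iii)
    intro u huU H
    have huD : u ∈ D := Q.hUD huU
    obtain ⟨m, hm⟩ := spv_zpowers_gen Q.hp Q.hz1 Q.hzp hζ hζ1 (Q.hK b hbD u huU)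
    have hbu : b * u = ζ ^ m * u * b := by rw [hm]; group
    have hζa : Commute ζ a := (hcentral ζ hζ a haD).symm
    have hζb : Commute ζ b := (hcentral ζ hζ b hbD).symm
    have hζu : Commute ζ u := (hcentral ζ hζ u huD).symm
    set u' : MulAut V := u * a ^ (-m) with hu'def
    have hu'U : u' ∈ U := U.mul_mem huU (U.zpow_mem haU _)
    -- claim 1
    have hbu' : b * u' = u' * b := by
      have h1 := spv_comm_zpow hba hζa (-m)
      have hc : Commute (ζ ^ m) u := hζu.zpow_left m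
      calc b * u' = (b * u) * a ^ (-m) := by rw [hu'def]; group
        _ = ζ ^ m * u * (b * a ^ (-m)) := by rw [hbu]; group
        _ = ζ ^ m * u * (ζ ^ (-m) * a ^ (-m) * b) := by rw [h1]
        _ = u * (ζ ^ m * ζ ^ (-m)) * a ^ (-m) * b := by
            rw [hc.eq]
            have hc2 : Commute (ζ ^ m) (ζ ^ (-m)) := (Commute.refl ζ).zpow_zpow m (-m)
            group
        _ = u' * b := by rw [← zpow_add, add_neg_cancel, zpow_zero, mul_one]
    -- claim 2
    have hclaim2 : ∀ b' ∈ B₀, (∀ u₁ ∈ U₁, b' * u₁ = u₁ * b') → u' * b' = b' * u' := by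
      intro b' hb' hb'U₁
      have hb'B : b' ∈ B := Q.hB₀.1 hb'
      have hb'D : b' ∈ D := Q.hUD (Q.hBU hb'B)
      obtain ⟨s, hs⟩ := spv_zpowers_gen Q.hp Q.hz1 Q.hzp hζ hζ1 (Q.hK b' hb'D a haU)
      have hb'a : b' * a = ζ ^ s * a * b' := by rw [hs]; group
      set b'' : MulAut V := b' * b ^ (-s) with hb''def
      have hb''B₀ : b'' ∈ B₀ := B₀.mul_mem hb' (B₀.zpow_mem hbB₀ _)
      have hb''a : b'' * a = a * b'' := by
        have h1 := spv_comm_zpow' hba hζa hζb (-s)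
        have hcs : Commute (ζ ^ (-s)) b' :=
          (show Commute ζ b' from (hcentral ζ hζ b' hb'D).symm).zpow_left (-s)
        calc b'' * a = b' * (b ^ (-s) * a) := by rw [hb''def]; group
          _ = b' * (ζ ^ (-s) * a * b ^ (-s)) := by rw [h1]
          _ = ζ ^ (-s) * (b' * a) * b ^ (-s) := by
              rw [← mul_assoc, ← mul_assoc, ← hcs.eq]
              simp only [mul_assoc]
          _ = ζ ^ (-s) * (ζ ^ s * a * b') * b ^ (-s) := by rw [hb'a]
          _ = (ζ ^ (-s) * ζ ^ s) * a * b'' := by rw [hb''def]; group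
          _ = a * b'' := by rw [← zpow_add, neg_add_cancel, zpow_zero, one_mul]
      have hb''U₂ : ∀ u₂ ∈ U₁ ⊔ Subgroup.zpowers a, b'' * u₂ = u₂ * b'' := by
        intro u₂ hu₂
        have hle : U₁ ⊔ Subgroup.zpowers a ≤ Subgroup.centralizer ({b''} : Set (MulAut V)) := by
          apply sup_le
          · intro w hw
            apply spv_mem_centralizer_singleton.mpr
            have h1 : Commute b' w := hb'U₁ w hw
            have h2 : Commute b w := hbU₁ w hw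
            exact (h1.mul_left (h2.zpow_left (-s))).eq
          · rw [Subgroup.zpowers_le]
            exact spv_mem_centralizer_singleton.mpr hb''a
        exact spv_mem_centralizer_singleton.mp (hle hu₂)
      have hub'' : Commute u b'' := H b'' hb''B₀ hb''U₂
      have hab'' : Commute a b'' := hb''a.symm
      have hu'b'' : Commute u' b'' := hub''.mul_left (hab''.zpow_left (-m))
      have hu'b : Commute u' b := hbu'.symm
      have hb'eq : b' = b'' * b ^ s := by rw [hb''def]; group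
      rw [hb'eq]
      exact (hu'b''.mul_right (hu'b.zpow_right s)).eq
    have hu'U₁ : u' ∈ U₁ := S.h3 u' hu'U hclaim2
    have hueq : u = u' * a ^ m := by rw [hu'def]; group
    rw [hueq]
    exact Subgroup.mul_mem _ (le_sup_left (a := U₁) hu'U₁)
      ((le_sup_right : Subgroup.zpowers a ≤ _) (Subgroup.zpow_mem _ (Subgroup.mem_zpowers a) m))

end Cfsg.Agent.Lib.helper3
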