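import Mathlib
import Cfsg.Agent.Lib.helper3.SubPVE
import Cfsg.Agent.Lib.helper3.SubPVG

set_option autoImplicit false

namespace Cfsg.Agent.Lib.helper3

universe u

variable {V : Type u} [CommGroup V]

theorem spv_card_lt {G : Type*} [Group G] [Finite G] {H K : Subgroup G} (h : H < K) :
    Nat.card H < Nat.card K := by
  by_contra hcon
  push Not at hcon
  exact h.ne (Subgroup.eq_of_le_of_card_ge h.le hcon)

theorem SpvQ.iterate [Finite V] {p : ℕ} {D U B B₀ : Subgroup (MulAut V)} {z : MulAut V}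
    (Q : SpvQ p D U B B₀ z) :
    ∀ (k : ℕ) (U₁ : Subgroup (MulAut V)) (v : V), SpvState D U B B₀ U₁ v →
      Nat.card U - Nat.card U₁ = k → ∃ v', SpvState D U B B₀ U v' := by
  haveI : Finite (MulAut V) := spv_finite_aut
  intro k
  induction k using Nat.strong_induction_on with
  | _ k ih =>
  intro U₁ v S hk
  by_cases hU : U₁ = U
  · exact ⟨v, hU ▸ S⟩
  · have hlt : U₁ < U := lt_of_le_of_ne S.hU₁U hU
    obtain ⟨a, haU, haU₁⟩ := SetLike.exists_of_lt hlt
    obtain ⟨v', S'⟩ := Q.step S haU haU₁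
    have hlt2 : U₁ < U₁ ⊔ Subgroup.zpowers a := by
      apply lt_of_le_of_ne le_sup_left
      intro h
      apply haU₁
      rw [h]
      exact (le_sup_right : Subgroup.zpowers a ≤ _) (Subgroup.mem_zpowers a)
    have h1 := spv_card_lt hlt2
    have h2 := Subgroup.card_le_of_le S'.hU₁U
    exact ih (Nat.card U - Nat.card ↥(U₁ ⊔ Subgroup.zpowers a)) (by omega) _ v' S' rfl

/-- existence of a maximal abelian subgroup of `U` containing `z` -/
theorem spv_exists_maxab [Finite V] {U : Subgroup (MulAut V)} {z : MulAut V} (hzU : z ∈ U) :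
    ∃ B : Subgroup (MulAut V), B ≤ U ∧ z ∈ B ∧ (∀ a ∈ B, ∀ b ∈ B, a * b = b * a) ∧
      ∀ u ∈ U, (∀ b ∈ B, u * b = b * u) → u ∈ B := by
  haveI : Finite (MulAut V) := spv_finite_aut
  let s : Set (Subgroup (MulAut V)) := {B | B ≤ U ∧ z ∈ B ∧ ∀ a ∈ B, ∀ b ∈ B, a * b = b * a}
  have hs : s.Finite := Set.toFinite s
  have hz : Subgroup.zpowers z ∈ s := by
    refine ⟨by rw [Subgroup.zpowers_le]; exact hzU, Subgroup.mem_zpowers z, ?_⟩
    intro a ha b hb
    obtain ⟨k, rfl⟩ := Subgroup.mem_zpowers_iff.mp ha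
    obtain ⟨l, rfl⟩ := Subgroup.mem_zpowers_iff.mp hb
    exact ((Commute.refl z).zpow_zpow k l).eq
  obtain ⟨B, -, hmax⟩ := hs.exists_le_maximal hz
  refine ⟨B, hmax.prop.1, hmax.prop.2.1, hmax.prop.2.2, ?_⟩
  intro u huU hub
  set K : Subgroup (MulAut V) := B ⊔ Subgroup.zpowers u with hK
  have hA : ∀ k ∈ K, (∀ b ∈ B, k * b = b * k) ∧ k * u = u * k := by
    intro k hk
    have hle : K ≤ Subgroup.centralizer (B : Set (MulAut V)) ⊓ Subgroup.centralizer ({u} : Set (MulAut V)) := by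
      apply sup_le
      · intro b hb
        refine Subgroup.mem_inf.mpr ⟨?_, ?_⟩
        · rw [Subgroup.mem_centralizer_iff]
          intro c hc
          exact hmax.prop.2.2 c hc b hb
        · exact spv_mem_centralizer_singleton.mpr (hub b hb)
      · rw [Subgroup.zpowers_le]
        refine Subgroup.mem_inf.mpr ⟨?_, ?_⟩
        · rw [Subgroup.mem_centralizer_iff]
          intro c hc
          exact (hub c hc).symm
        · exact spv_mem_centralizer_singleton.mpr rfl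
    have := Subgroup.mem_inf.mp (hle hk)
    refine ⟨?_, ?_⟩
    · intro b hb
      exact ((Subgroup.mem_centralizer_iff.mp this.1) b hb).symm
    · exact (spv_mem_centralizer_singleton.mp this.2).symm
  have hKab : ∀ a ∈ K, ∀ b ∈ K, a * b = b * a := by
    intro a ha b hb
    have hle : K ≤ Subgroup.centralizer ({a} : Set (MulAut V)) := by
      apply sup_le
      · intro c hc
        exact spv_mem_centralizer_singleton.mpr ((hA a ha).1 c hc)
      · rw [Subgroup.zpowers_le]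
        exact spv_mem_centralizer_singleton.mpr (hA a ha).2
    exact spv_mem_centralizer_singleton.mp (hle hb)
  have hKs : K ∈ s := by
    refine ⟨sup_le hmax.prop.1 (by rw [Subgroup.zpowers_le]; exact huU),
      (le_sup_left : B ≤ K) hmax.prop.2.1, hKab⟩
  have := hmax.le_of_ge hKs le_sup_left
  exact this ((le_sup_right : Subgroup.zpowers u ≤ K) (Subgroup.mem_zpowers u))

/-- Lemma Q -/
theorem spv_lemmaQ [Finite V] {p : ℕ} (hp : p.Prime) (hp2 : p ≠ 2) (hV : (Nat.card V).Coprime p)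
    (hVnt : (⊤ : Subgroup V) ≠ ⊥)
    {D U : Subgroup (MulAut V)} {z : MulAut V}
    (hzc : ∀ d ∈ D, d * z = z * d) (hz1 : z ≠ 1) (hzp : z ^ p = 1)
    (hfpf : ∀ ζ ∈ Subgroup.zpowers z, ζ ≠ 1 → spvFpf ζ)
    (hUD : U ≤ D) (hzU : z ∈ U) (hUp : ∀ u ∈ U, u ^ p = 1)
    (hK : ∀ d ∈ D, ∀ u ∈ U, d * u * d⁻¹ * u⁻¹ ∈ Subgroup.zpowers z) :
    ∃ v : V, ∀ y ∈ D, y v = v → ∀ u ∈ U, y * u = u * y := by
  obtain ⟨B, hBU, hzB, hBc, hBmax⟩ := spv_exists_maxab hzU
  obtain ⟨B₀, hB₀, -⟩ := spvMax_exists (B := B) (B₀ := ⊥) bot_le (by rw [spvFix_bot]; exact hVnt)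
  have hdec := spv_B_decomp hp hV hz1 hzp hfpf hBc hzB (fun b hb => hUp b (hBU hb)) hB₀
  have Q : SpvQ p D U B B₀ z :=
    { hp := hp, hp2 := hp2, hV := hV, hzc := hzc, hz1 := hz1, hzp := hzp, hfpf := hfpf, hUD := hUD,
      hK := hK, hBU := hBU, hBc := hBc, hBmax := hBmax, hB₀ := hB₀, hdec := hdec }
  -- base vector
  have hne := hB₀.2.1
  rw [Ne, Subgroup.eq_bot_iff_forall] at hne
  push Not at hne
  obtain ⟨w₀, hw₀, hw₀1⟩ := hne
  have hcentral : ∀ ξ ∈ Subgroup.zpowers z, ∀ d ∈ D, d * ξ = ξ * d :=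
    fun ξ hξ d hd => spv_zpowers_commute (hzc d hd) hξ
  have hbase : SpvState D U B B₀ B w₀ := by
    refine ⟨hw₀1, le_refl B, hBU, fun b hb _ => hw₀ b hb, ?_, ?_⟩
    · intro y hyD hy u hu
      obtain ⟨ζ', hζ', hb₀⟩ := hdec u hu
      set b₀ := u * ζ'⁻¹ with hb₀def
      have hb₀U : b₀ ∈ U := hBU (hB₀.1 hb₀)
      set κ : MulAut V := y * b₀ * y⁻¹ * b₀⁻¹ with hκdef
      have hκ : κ ∈ Subgroup.zpowers z := hK y hyD b₀ hb₀U
      have hyb : y * b₀ = κ * b₀ * y := by rw [hκdef]; group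
      have hκ1 : κ = 1 := by
        by_contra hκ1
        apply hw₀1
        apply hfpf κ hκ hκ1
        have h1 : y (b₀ w₀) = κ (b₀ (y w₀)) := by
          rw [← MulAut.mul_apply, hyb, MulAut.mul_apply, MulAut.mul_apply]
        rw [hy, hw₀ b₀ hb₀, hy] at h1
        exact h1.symm
      have hyb' : y * b₀ = b₀ * y := by rw [hyb, hκ1, one_mul]
      have hu_eq : u = b₀ * ζ' := by rw [hb₀def]; group
      have hyζ : y * ζ' = ζ' * y := hcentral ζ' hζ' y hyD
      rw [hu_eq, ← mul_assoc, hyb', mul_assoc, hyζ, ← mul_assoc]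
    · intro u huU H
      apply hBmax u huU
      intro b' hb'
      obtain ⟨ζ', hζ', hb₀⟩ := hdec b' hb'
      set b₀ := b' * ζ'⁻¹ with hb₀def
      have h1 : u * b₀ = b₀ * u := H b₀ hb₀ (fun u₁ hu₁ => hBc b₀ (hB₀.1 hb₀) u₁ hu₁)
      have hb'_eq : b' = b₀ * ζ' := by rw [hb₀def]; group
      have huζ : u * ζ' = ζ' * u := hcentral ζ' hζ' u (hUD huU)
      rw [hb'_eq, ← mul_assoc, h1, mul_assoc, huζ, ← mul_assoc]
  obtain ⟨v', S'⟩ := Q.iterate _ B w₀ hbase rfl
  exact ⟨v', S'.h2⟩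

end Cfsg.Agent.Lib.helper3
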