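import Mathlib
import Cfsg.Agent.Lib.helper17.PAct
import Cfsg.Agent.Lib.helper3.SubPVG

set_option autoImplicit false

namespace Cfsg.Agent.Lib.helper3

/-- power formula in class two -/
theorem spvg_mul_pow {G : Type*} [Group G] {t s c : G} (h : s * t = c * t * s)
    (hct : Commute c t) (hcs : Commute c s) (n : ℕ) :
    (t * s) ^ n = t ^ n * s ^ n * c ^ (n.choose 2) := by
  induction n with
  | zero => simp
  | succ n ih =>
    have h1 : s ^ n * t = c ^ n * t * s ^ n := by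
      have := spv_comm_zpow' h hct hcs (n : ℤ)
      simpa only [zpow_natCast] using this
    have hck : Commute (c ^ (n.choose 2)) (t * s) := (hct.mul_right hcs).pow_left _
    have hcn : Commute (c ^ n) (t ^ n) := (hct.pow_left n).pow_right n
    have hcn2 : Commute (c ^ n) (t * s ^ n * s) :=
      ((hct.mul_right (hcs.pow_right n)).mul_right hcs).pow_left n
    have hch : (n + 1).choose 2 = n + n.choose 2 := by
      rw [Nat.choose_succ_succ, Nat.choose_one_right]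
    calc (t * s) ^ (n + 1) = (t * s) ^ n * (t * s) := pow_succ _ _
      _ = t ^ n * s ^ n * (c ^ (n.choose 2) * (t * s)) := by rw [ih, mul_assoc]
      _ = t ^ n * s ^ n * ((t * s) * c ^ (n.choose 2)) := by rw [hck.eq]
      _ = t ^ n * (s ^ n * t) * s * c ^ (n.choose 2) := by simp only [mul_assoc]
      _ = t ^ n * (c ^ n * t * s ^ n) * s * c ^ (n.choose 2) := by rw [h1]
      _ = t ^ n * (c ^ n * (t * s ^ n * s)) * c ^ (n.choose 2) := by simp only [mul_assoc]
      _ = t ^ n * ((t * s ^ n * s) * c ^ n) * c ^ (n.choose 2) := by rw [hcn2.eq]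
      _ = t ^ (n + 1) * s ^ (n + 1) * c ^ ((n + 1).choose 2) := by
        rw [hch, pow_add c, pow_succ t, pow_succ s]; simp only [mul_assoc]

theorem spvg_mul_pow_prime {G : Type*} [Group G] {p : ℕ} (hp : p.Prime) (hp2 : p ≠ 2)
    {t s c : G} (h : s * t = c * t * s)
    (hct : Commute c t) (hcs : Commute c s) (hc : c ^ p = 1) :
    (t * s) ^ p = t ^ p * s ^ p := by
  rw [spvg_mul_pow h hct hcs p]
  have h2 : 2 < p := lt_of_le_of_ne hp.two_le (Ne.symm hp2)
  obtain ⟨k, hk⟩ := hp.dvd_choose_self (by norm_num : (2 : ℕ) ≠ 0) h2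
  rw [hk, pow_mul, hc, one_pow, mul_one]

/-- lifting the exponent, in the form needed -/
theorem spvg_lte {p : ℕ} (hp : p.Prime) (hp2 : p ≠ 2) {k m : ℕ} (hm : 1 ≤ m)
    (h : p ^ k ∣ m ^ p - 1) : p ^ k ∣ (m - 1) * p := by
  haveI := Fact.mk hp
  rcases Nat.eq_zero_or_pos k with hk | hk
  · subst hk; simp
  rcases Nat.lt_or_ge 1 m with hm1 | hm1
  swap
  · have : m = 1 := le_antisymm hm1 hm
    subst this; simp
  have hodd : Odd p := hp.odd_of_ne_two hp2
  have hpd : p ∣ m ^ p - 1 := dvd_trans (dvd_pow_self p (by omega)) h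
  have hmp : 1 ≤ m ^ p := Nat.one_le_pow _ _ (by omega)
  have hpm : p ∣ m - 1 := by
    rw [← ZMod.natCast_eq_zero_iff] at hpd ⊢
    rw [Nat.cast_sub hmp, Nat.cast_pow, ZMod.pow_card] at hpd
    rw [Nat.cast_sub hm]
    exact hpd
  have hnp : ¬ p ∣ m := by
    intro hd
    have : p ∣ m - (m - 1) := Nat.dvd_sub hd hpm
    have h1 : m - (m - 1) = 1 := by omega
    rw [h1] at this
    exact hp.one_lt.ne' (Nat.dvd_one.mp this)
  have hv := padicValNat.pow_sub_pow hodd hm1 (by simpa using hpm) hnp hp.ne_zero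
  rw [one_pow, padicValNat_self] at hv
  have hne : m ^ p - 1 ≠ 0 := by
    have : 1 < m ^ p := Nat.one_lt_pow hp.ne_zero hm1
    omega
  have hle : k ≤ padicValNat p (m - 1) + 1 := by
    rw [← hv]
    exact (padicValNat_dvd_iff_le hne).mp h
  have hd : p ^ (padicValNat p (m - 1) + 1) ∣ (m - 1) * p := by
    rw [pow_succ]
    exact Nat.mul_dvd_mul pow_padicValNat_dvd (dvd_refl p)
  exact dvd_trans (pow_dvd_pow p hle) hd

/-- A nontrivial normal section of a `p`-group contains a nontrivial central element of the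
quotient. -/
theorem spvg_T0 {G : Type*} [Group G] {p : ℕ} [Fact p.Prime] {D A C : Subgroup G} [Finite D]
    (hD : IsPGroup p D) (hCD : C ≤ D) (hne : ¬ C ≤ A)
    (hAn : ∀ d ∈ D, ∀ a ∈ A, d * a * d⁻¹ ∈ A) (hCn : ∀ d ∈ D, ∀ c ∈ C, d * c * d⁻¹ ∈ C) :
    ∃ t ∈ C, t ∉ A ∧ ∀ d ∈ D, t * d * t⁻¹ * d⁻¹ ∈ A := by
  classical
  set A' : Subgroup D := A.subgroupOf D with hA'
  haveI hA'n : A'.Normal := by
    refine ⟨fun a ha d => ?_⟩
    rw [hA', Subgroup.mem_subgroupOf] at ha ⊢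
    simpa using hAn d d.2 a ha
  set C' : Subgroup D := C.subgroupOf D with hC'
  haveI hC'n : C'.Normal := by
    refine ⟨fun a ha d => ?_⟩
    rw [hC', Subgroup.mem_subgroupOf] at ha ⊢
    simpa using hCn d d.2 a ha
  have hQ : IsPGroup p (D ⧸ A') := hD.to_quotient A'
  haveI : Group.IsNilpotent (D ⧸ A') := hQ.isNilpotent
  set C'' : Subgroup (D ⧸ A') := C'.map (QuotientGroup.mk' A') with hC''
  haveI : C''.Normal := Subgroup.Normal.map hC'n _ (QuotientGroup.mk'_surjective A')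
  have hC''ne : C'' ≠ ⊥ := by
    intro hbot
    apply hne
    intro c hc
    have hcD : c ∈ D := hCD hc
    have h1 : QuotientGroup.mk' A' ⟨c, hcD⟩ ∈ C'' :=
      ⟨⟨c, hcD⟩, by rw [SetLike.mem_coe, hC', Subgroup.mem_subgroupOf]; exact hc, rfl⟩
    rw [hbot, Subgroup.mem_bot, QuotientGroup.mk'_apply, QuotientGroup.eq_one_iff, hA',
      Subgroup.mem_subgroupOf] at h1
    exact h1
  have hmeet := Cfsg.Agent.Lib.helper17.nilpotent_normal_inf_center_ne_bot C'' hC''ne
  rw [Ne, Subgroup.eq_bot_iff_forall] at hmeet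
  push Not at hmeet
  obtain ⟨q, hq, hq1⟩ := hmeet
  obtain ⟨hqC, hqZ⟩ := Subgroup.mem_inf.mp hq
  obtain ⟨t, ht, rfl⟩ := hqC
  rw [SetLike.mem_coe, hC', Subgroup.mem_subgroupOf] at ht
  refine ⟨t, ht, ?_, ?_⟩
  · intro htA
    apply hq1
    rw [QuotientGroup.mk'_apply, QuotientGroup.eq_one_iff, hA', Subgroup.mem_subgroupOf]
    exact htA
  · intro d hd
    have hcomm := Subgroup.mem_center_iff.mp hqZ (QuotientGroup.mk' A' ⟨d, hd⟩)
    have h2 : QuotientGroup.mk' A' (t * ⟨d, hd⟩ * t⁻¹ * (⟨d, hd⟩ : D)⁻¹) = 1 := by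
      rw [map_mul, map_mul, map_mul, map_inv, map_inv, ← hcomm]
      group
    rw [QuotientGroup.mk'_apply, QuotientGroup.eq_one_iff, hA', Subgroup.mem_subgroupOf] at h2
    simpa using h2

/-- an abelian `p`-group with only `p` solutions of `a ^ p = 1` is cyclic -/
theorem spvg_cyclic {A : Type*} [CommGroup A] [Finite A] {p : ℕ} (hp : p.Prime)
    (hA : IsPGroup p A) {z : A} (hz1 : z ≠ 1) (hzp : z ^ p = 1)
    (h : ∀ a : A, a ^ p = 1 → a ∈ Subgroup.zpowers z) :
    ∃ a₀ : A, ∀ a : A, a ∈ Subgroup.zpowers a₀ := by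
  haveI := Fact.mk hp
  obtain ⟨a₀, ha₀⟩ := Monoid.exists_orderOf_eq_exponent (Monoid.ExponentExists.of_finite (G := A))
  obtain ⟨k, hk⟩ := (IsPGroup.iff_orderOf.mp hA) a₀
  have hexp : ∀ b : A, b ^ (p ^ k) = 1 := by
    intro b
    rw [← hk, ha₀]
    exact Monoid.pow_exponent_eq_one b
  have hk0 : k ≠ 0 := by
    intro h0
    apply hz1
    have := hexp z
    rwa [h0, pow_zero, pow_one] at this
  obtain ⟨k', rfl⟩ : ∃ k', k = k' + 1 := ⟨k - 1, by omega⟩
  -- z is a power of a₀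
  have hzmem : z ∈ Subgroup.zpowers a₀ := by
    set w := a₀ ^ (p ^ k') with hw
    have hwp : w ^ p = 1 := by
      rw [hw, ← pow_mul, ← pow_succ]; exact hexp a₀
    have hw1 : w ≠ 1 := by
      intro h1
      have hd := orderOf_dvd_of_pow_eq_one h1
      rw [hk] at hd
      have := Nat.le_of_dvd (pow_pos hp.pos _) hd
      have h2 : p ^ k' < p ^ (k' + 1) := Nat.pow_lt_pow_right hp.one_lt (by omega)
      omega
    have hwz := h w hwp
    -- zpowers z has prime order, generated by w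
    have hord : orderOf z = p := orderOf_eq_prime hzp hz1
    have hcard : Nat.card (Subgroup.zpowers z) = p := by rw [Nat.card_zpowers, hord]
    have hne : (⟨w, hwz⟩ : Subgroup.zpowers z) ≠ 1 := fun h => hw1 (congrArg Subtype.val h)
    have htop := zpowers_eq_top_of_prime_card hcard hne
    have hmem : (⟨z, Subgroup.mem_zpowers z⟩ : Subgroup.zpowers z) ∈
        Subgroup.zpowers (⟨w, hwz⟩ : Subgroup.zpowers z) := by
      rw [htop]; exact Subgroup.mem_top _
    obtain ⟨m, hm⟩ := Subgroup.mem_zpowers_iff.mp hmem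
    have hm' : w ^ m = z := by
      have := congrArg Subtype.val hm
      simpa using this
    rw [← hm', hw]
    exact Subgroup.zpow_mem _ (Subgroup.pow_mem _ (Subgroup.mem_zpowers a₀) _) _
  refine ⟨a₀, ?_⟩
  have key : ∀ j : ℕ, ∀ b : A, b ^ (p ^ j) = 1 → b ∈ Subgroup.zpowers a₀ := by
    intro j
    induction j with
    | zero =>
      intro b hb
      rw [pow_zero, pow_one] at hb
      rw [hb]; exact Subgroup.one_mem _
    | succ j ih =>
      intro b hb
      have hbp : (b ^ p) ^ (p ^ j) = 1 := by rw [← pow_mul, ← pow_succ']; exact hb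
      obtain ⟨i, hi⟩ := Subgroup.mem_zpowers_iff.mp (ih _ hbp)
      -- (a₀ ^ i) ^ (p ^ k') = 1
      have h1 : a₀ ^ (i * (p ^ k' : ℕ)) = 1 := by
        rw [zpow_mul, hi, zpow_natCast, ← pow_mul, ← pow_succ']
        exact hexp b
      have h2 : ((p ^ (k' + 1) : ℕ) : ℤ) ∣ i * (p ^ k' : ℕ) := by
        rw [← hk]; exact orderOf_dvd_iff_zpow_eq_one.mpr h1
      have h3 : (p : ℤ) ∣ i := by
        have h2' : (p : ℤ) * ((p ^ k' : ℕ) : ℤ) ∣ i * ((p ^ k' : ℕ) : ℤ) := by
          have e : ((p ^ (k' + 1) : ℕ) : ℤ) = (p : ℤ) * ((p ^ k' : ℕ) : ℤ) := by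
            rw [pow_succ, Nat.cast_mul, mul_comm]
          rw [← e]; exact h2
        have hne0 : ((p ^ k' : ℕ) : ℤ) ≠ 0 := by exact_mod_cast (pow_pos hp.pos k').ne'
        exact Int.dvd_of_mul_dvd_mul_right hne0 h2'
      obtain ⟨i', rfl⟩ := h3
      have h4 : (b * (a₀ ^ i')⁻¹) ^ p = 1 := by
        rw [mul_pow, inv_pow, ← hi, ← zpow_natCast (a₀ ^ i') p, ← zpow_mul, mul_comm i' (p : ℤ)]
        exact mul_inv_cancel _
      have h5 := h _ h4
      have h6 : b * (a₀ ^ i')⁻¹ ∈ Subgroup.zpowers a₀ := by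
        obtain ⟨l, hl⟩ := Subgroup.mem_zpowers_iff.mp h5
        rw [← hl]
        exact Subgroup.zpow_mem _ hzmem _
      have h7 : b = (b * (a₀ ^ i')⁻¹) * a₀ ^ i' := by group
      rw [h7]
      exact Subgroup.mul_mem _ h6 (Subgroup.zpow_mem _ (Subgroup.mem_zpowers a₀) _)
  intro a
  exact key (k' + 1) a (hexp a)

theorem spvg_zpowers_gen {G : Type*} [Group G] {p : ℕ} (hp : p.Prime) {z ζ ξ : G} (hz1 : z ≠ 1)
    (hzp : z ^ p = 1) (hζ : ζ ∈ Subgroup.zpowers z) (hζ1 : ζ ≠ 1) (hξ : ξ ∈ Subgroup.zpowers z) :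
    ∃ m : ℤ, ζ ^ m = ξ := by
  haveI := Fact.mk hp
  have hord : orderOf z = p := orderOf_eq_prime hzp hz1
  have hcard : Nat.card (Subgroup.zpowers z) = p := by rw [Nat.card_zpowers, hord]
  have hne : (⟨ζ, hζ⟩ : Subgroup.zpowers z) ≠ 1 := fun h => hζ1 (congrArg Subtype.val h)
  have htop := zpowers_eq_top_of_prime_card hcard hne
  have hmem : (⟨ξ, hξ⟩ : Subgroup.zpowers z) ∈ Subgroup.zpowers (⟨ζ, hζ⟩ : Subgroup.zpowers z) := by
    rw [htop]; exact Subgroup.mem_top _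
  obtain ⟨m, hm⟩ := Subgroup.mem_zpowers_iff.mp hmem
  refine ⟨m, ?_⟩
  have := congrArg Subtype.val hm
  simpa using this

theorem spvg_zpowers_pow {G : Type*} [Group G] {z ζ : G} {p : ℕ} (hzp : z ^ p = 1)
    (hζ : ζ ∈ Subgroup.zpowers z) : ζ ^ p = 1 := by
  obtain ⟨k, rfl⟩ := Subgroup.mem_zpowers_iff.mp hζ
  rw [← zpow_natCast, ← zpow_mul, mul_comm, zpow_mul, zpow_natCast, hzp, one_zpow]

theorem spvg_zpowers_comm {G : Type*} [Group G] {z ζ g : G} (hgz : g * z = z * g)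
    (hζ : ζ ∈ Subgroup.zpowers z) : g * ζ = ζ * g := by
  obtain ⟨k, rfl⟩ := Subgroup.mem_zpowers_iff.mp hζ
  exact (Commute.zpow_right (show Commute g z from hgz) k).eq

theorem spvg_sup_zpowers_comm {G : Type*} [Group G] {B : Subgroup G} {u : G}
    (hBc : ∀ a ∈ B, ∀ b ∈ B, a * b = b * a) (hub : ∀ b ∈ B, u * b = b * u) :
    ∀ a ∈ B ⊔ Subgroup.zpowers u, ∀ b ∈ B ⊔ Subgroup.zpowers u, a * b = b * a := by
  set K : Subgroup G := B ⊔ Subgroup.zpowers u with hK
  have hA : ∀ k ∈ K, (∀ b ∈ B, k * b = b * k) ∧ k * u = u * k := by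
    intro k hk
    have hle : K ≤ Subgroup.centralizer (B : Set G) ⊓ Subgroup.centralizer ({u} : Set G) := by
      apply sup_le
      · intro b hb
        refine Subgroup.mem_inf.mpr ⟨?_, ?_⟩
        · rw [Subgroup.mem_centralizer_iff]
          intro c hc
          exact hBc c hc b hb
        · exact spv_mem_centralizer_singleton.mpr (hub b hb)
      · rw [Subgroup.zpowers_le]
        refine Subgroup.mem_inf.mpr ⟨?_, ?_⟩
        · rw [Subgroup.mem_centralizer_iff]
          intro c hc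
          exact (hub c hc).symm
        · exact spv_mem_centralizer_singleton.mpr rfl
    have := Subgroup.mem_inf.mp (hle hk)
    refine ⟨?_, ?_⟩
    · intro b hb
      exact ((Subgroup.mem_centralizer_iff.mp this.1) b hb).symm
    · exact (spv_mem_centralizer_singleton.mp this.2).symm
  intro a ha b hb
  have hle : K ≤ Subgroup.centralizer ({a} : Set G) := by
    apply sup_le
    · intro c hc
      exact spv_mem_centralizer_singleton.mpr ((hA a ha).1 c hc)
    · rw [Subgroup.zpowers_le]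
      exact spv_mem_centralizer_singleton.mpr (hA a ha).2
  exact spv_mem_centralizer_singleton.mp (hle hb)

theorem spvg_sup_zpowers_normal {G : Type*} [Group G] {D B : Subgroup G} {u : G}
    (hBn : ∀ d ∈ D, ∀ b ∈ B, d * b * d⁻¹ ∈ B)
    (hu : ∀ d ∈ D, d * u * d⁻¹ ∈ B ⊔ Subgroup.zpowers u) :
    ∀ d ∈ D, ∀ k ∈ B ⊔ Subgroup.zpowers u, d * k * d⁻¹ ∈ B ⊔ Subgroup.zpowers u := by
  intro d hd k hk
  have hle : B ⊔ Subgroup.zpowers u ≤
      (B ⊔ Subgroup.zpowers u).comap (MulAut.conj d).toMonoidHom := by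
    apply sup_le
    · intro b hb
      rw [Subgroup.mem_comap]
      exact (le_sup_left : B ≤ _) (hBn d hd b hb)
    · rw [Subgroup.zpowers_le, Subgroup.mem_comap]
      exact hu d hd
  exact hle hk

theorem spvg_cyclic_sub {G : Type*} [Group G] {A : Subgroup G} [Finite A] {p : ℕ} (hp : p.Prime)
    (hA : IsPGroup p A) (hAc : ∀ a ∈ A, ∀ b ∈ A, a * b = b * a) {z : G} (hzA : z ∈ A)
    (hz1 : z ≠ 1) (hzp : z ^ p = 1)
    (h : ∀ a ∈ A, a ^ p = 1 → a ∈ Subgroup.zpowers z) :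
    ∃ a₀ ∈ A, ∀ a ∈ A, a ∈ Subgroup.zpowers a₀ := by
  letI : CommGroup A :=
    { (inferInstance : Group A) with mul_comm := fun a b => Subtype.ext (hAc a a.2 b b.2) }
  have hz1' : (⟨z, hzA⟩ : A) ≠ 1 := fun h => hz1 (congrArg Subtype.val h)
  have hzp' : (⟨z, hzA⟩ : A) ^ p = 1 := Subtype.ext (by simpa using hzp)
  have h' : ∀ a : A, a ^ p = 1 → a ∈ Subgroup.zpowers (⟨z, hzA⟩ : A) := by
    intro a ha
    have ha' : (a : G) ^ p = 1 := by
      have := congrArg Subtype.val ha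
      simpa using this
    obtain ⟨k, hk⟩ := Subgroup.mem_zpowers_iff.mp (h a a.2 ha')
    refine Subgroup.mem_zpowers_iff.mpr ⟨k, Subtype.ext ?_⟩
    simpa using hk
  obtain ⟨a₀, ha₀⟩ := spvg_cyclic hp hA hz1' hzp' h'
  refine ⟨a₀, a₀.2, fun a ha => ?_⟩
  obtain ⟨k, hk⟩ := Subgroup.mem_zpowers_iff.mp (ha₀ ⟨a, ha⟩)
  refine Subgroup.mem_zpowers_iff.mpr ⟨k, ?_⟩
  have := congrArg Subtype.val hk
  simpa using this

end Cfsg.Agent.Lib.helper3
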