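import Mathlib
import Cfsg.Agent.Lib.helper3.SubPVI

set_option autoImplicit false

namespace Cfsg.Agent.Lib.helper3

/-- conjugation action on a cyclic normal subgroup: iterating -/
theorem spvg_conj_pow_iter {G : Type*} [Group G] {y a : G} {m : ℕ} (h : y * a * y⁻¹ = a ^ m) (j : ℕ) :
    y ^ j * a * (y ^ j)⁻¹ = a ^ (m ^ j) := by
  induction j with
  | zero => simp
  | succ j ih =>
    have e : y ^ (j + 1) * a * (y ^ (j + 1))⁻¹ = y * (y ^ j * a * (y ^ j)⁻¹) * y⁻¹ := by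
      rw [pow_succ']; group
    rw [e, ih, ← conj_pow, h, ← pow_mul, pow_succ']

/-- the commutator of an element of order `p` with a generator of a cyclic normal `p`-subgroup has
order dividing `p` -/
theorem spvg_comm_pow {G : Type*} [Group G] [Finite G] {p : ℕ} (hp : p.Prime) (hp2 : p ≠ 2)
    {y a : G} (hyp : y ^ p = 1) (ha : ∃ k, orderOf a = p ^ k)
    (hmem : y * a * y⁻¹ ∈ Subgroup.zpowers a) : (y * a * y⁻¹ * a⁻¹) ^ p = 1 := by
  obtain ⟨k, hk⟩ := ha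
  have hfin : IsOfFinOrder a := isOfFinOrder_of_finite a
  rw [← hfin.mem_powers_iff_mem_zpowers] at hmem
  obtain ⟨m₀, hm₀⟩ := hmem
  have hm₀ : a ^ m₀ = y * a * y⁻¹ := hm₀
  -- choose a positive exponent
  obtain ⟨m, hm1, hm⟩ : ∃ m : ℕ, 1 ≤ m ∧ y * a * y⁻¹ = a ^ m := by
    rcases Nat.eq_zero_or_pos m₀ with h0 | h0
    · refine ⟨orderOf a, hfin.orderOf_pos, ?_⟩
      rw [pow_orderOf_eq_one, ← hm₀, h0, pow_zero]
    · exact ⟨m₀, h0, hm₀.symm⟩
  have h1 := spvg_conj_pow_iter hm p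
  rw [hyp, inv_one, one_mul, mul_one] at h1
  have hmp : 1 ≤ m ^ p := Nat.one_le_pow _ _ hm1
  have h2 : a ^ (m ^ p - 1) = 1 := by
    have : a ^ (m ^ p - 1) * a = a := by
      rw [← pow_succ, Nat.sub_add_cancel hmp]; exact h1.symm
    exact mul_eq_right.mp this
  have h3 : p ^ k ∣ m ^ p - 1 := by
    rw [← hk]; exact orderOf_dvd_of_pow_eq_one h2
  have h4 := spvg_lte hp hp2 hm1 h3
  have h5 : y * a * y⁻¹ * a⁻¹ = a ^ (m - 1) := by
    rw [hm]
    have : a ^ m = a ^ (m - 1) * a := by rw [← pow_succ, Nat.sub_add_cancel hm1]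
    rw [this, mul_assoc, mul_inv_cancel, mul_one]
  rw [h5, ← pow_mul]
  rw [← hk] at h4
  exact orderOf_dvd_iff_pow_eq_one.mp h4

/-- Claim P: a `p`-group (`p` odd) generated by elements of order `p`, in which every element `t`
with `t ^ p = 1` and `[t, D] ≤ ⟨z⟩` lies in `⟨z⟩`, is equal to `⟨z⟩`. -/
theorem spvg_claimP {G : Type*} [Group G] [Finite G] {p : ℕ} (hp : p.Prime) (hp2 : p ≠ 2)
    {D : Subgroup G} (hD : IsPGroup p D) {z : G} (hzD : z ∈ D) (hz1 : z ≠ 1) (hzp : z ^ p = 1)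
    (hzc : ∀ d ∈ D, d * z = z * d)
    (hstar : ∀ t ∈ D, t ^ p = 1 → (∀ d ∈ D, t * d * t⁻¹ * d⁻¹ ∈ Subgroup.zpowers z) →
      t ∈ Subgroup.zpowers z)
    {Y : Set G} (hYD : Y ⊆ D) (hYp : ∀ y ∈ Y, y ^ p = 1) (hgen : D ≤ Subgroup.closure Y) :
    ∀ y ∈ Y, y ∈ Subgroup.zpowers z := by
  haveI := Fact.mk hp
  have hzcent : ∀ ζ ∈ Subgroup.zpowers z, ∀ d ∈ D, d * ζ = ζ * d :=
    fun ζ hζ d hd => spvg_zpowers_comm (hzc d hd) hζ
  have hzconj : ∀ ζ ∈ Subgroup.zpowers z, ∀ d ∈ D, d * ζ * d⁻¹ = ζ := by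
    intro ζ hζ d hd
    rw [hzcent ζ hζ d hd, mul_inv_cancel_right]
  -- Step 1: a maximal normal abelian subgroup containing z
  let s : Set (Subgroup G) := {A | A ≤ D ∧ z ∈ A ∧ (∀ d ∈ D, ∀ a ∈ A, d * a * d⁻¹ ∈ A) ∧
    ∀ a ∈ A, ∀ b ∈ A, a * b = b * a}
  have hs : s.Finite := Set.toFinite s
  have hz : Subgroup.zpowers z ∈ s := by
    refine ⟨by rw [Subgroup.zpowers_le]; exact hzD, Subgroup.mem_zpowers z, ?_, ?_⟩
    · intro d hd a ha
      rw [hzconj a ha d hd]; exact ha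
    · intro a ha b hb
      obtain ⟨k, rfl⟩ := Subgroup.mem_zpowers_iff.mp ha
      obtain ⟨l, rfl⟩ := Subgroup.mem_zpowers_iff.mp hb
      exact ((Commute.refl z).zpow_zpow k l).eq
  obtain ⟨A, -, hmax⟩ := hs.exists_le_maximal hz
  obtain ⟨hAD, hzA, hAn, hAc⟩ := hmax.prop
  -- Step 2: elements of order p in A
  have hΩ : ∀ a ∈ A, a ^ p = 1 → a ∈ Subgroup.zpowers z := by
    by_contra hcon
    push Not at hcon
    obtain ⟨a, haA, hap, haz⟩ := hcon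
    let N : Subgroup G :=
      { carrier := {a | a ∈ A ∧ a ^ p = 1}
        one_mem' := ⟨A.one_mem, one_pow _⟩
        mul_mem' := fun {a b} ha hb => ⟨A.mul_mem ha.1 hb.1, by
          rw [(show Commute a b from hAc a ha.1 b hb.1).mul_pow, ha.2, hb.2, one_mul]⟩
        inv_mem' := fun {a} ha => ⟨A.inv_mem ha.1, by rw [inv_pow, ha.2, inv_one]⟩ }
    have hND : N ≤ D := fun a ha => hAD ha.1
    have hne : ¬ N ≤ Subgroup.zpowers z := fun h => haz (h ⟨haA, hap⟩)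
    have hNn : ∀ d ∈ D, ∀ c ∈ N, d * c * d⁻¹ ∈ N := by
      intro d hd c hc
      refine ⟨hAn d hd c hc.1, ?_⟩
      rw [conj_pow, hc.2, mul_one, mul_inv_cancel]
    have hZn : ∀ d ∈ D, ∀ a ∈ Subgroup.zpowers z, d * a * d⁻¹ ∈ Subgroup.zpowers z := by
      intro d hd a ha
      rw [hzconj a ha d hd]; exact ha
    obtain ⟨t, htN, htz, ht⟩ := spvg_T0 hD hND hne hZn hNn
    exact htz (hstar t (hND htN) htN.2 ht)
  -- Step 3: A is self-centralizing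
  have hself : ∀ t ∈ D, (∀ a ∈ A, t * a = a * t) → t ∈ A := by
    by_contra hcon
    push Not at hcon
    obtain ⟨t₀, ht₀D, ht₀c, ht₀A⟩ := hcon
    set C : Subgroup G := D ⊓ Subgroup.centralizer (A : Set G) with hC
    have hCD : C ≤ D := inf_le_left
    have hmemC : ∀ t, t ∈ C ↔ t ∈ D ∧ ∀ a ∈ A, t * a = a * t := by
      intro t
      rw [hC, Subgroup.mem_inf, Subgroup.mem_centralizer_iff]
      constructor
      · rintro ⟨h1, h2⟩
        exact ⟨h1, fun a ha => (h2 a ha).symm⟩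
      · rintro ⟨h1, h2⟩
        exact ⟨h1, fun a ha => (h2 a ha).symm⟩
    have hne : ¬ C ≤ A := fun h => ht₀A (h ((hmemC t₀).mpr ⟨ht₀D, ht₀c⟩))
    have hCn : ∀ d ∈ D, ∀ c ∈ C, d * c * d⁻¹ ∈ C := by
      intro d hd c hc
      obtain ⟨hcD, hcc⟩ := (hmemC c).mp hc
      refine (hmemC _).mpr ⟨D.mul_mem (D.mul_mem hd hcD) (D.inv_mem hd), ?_⟩
      intro a ha
      have ha' : d⁻¹ * a * d ∈ A := by
        have := hAn d⁻¹ (D.inv_mem hd) a ha
        rwa [inv_inv] at this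
      have := hcc _ ha'
      calc d * c * d⁻¹ * a = d * (c * (d⁻¹ * a * d)) * d⁻¹ := by group
        _ = d * ((d⁻¹ * a * d) * c) * d⁻¹ := by rw [this]
        _ = a * (d * c * d⁻¹) := by group
    obtain ⟨t, htC, htA, ht⟩ := spvg_T0 hD hCD hne hAn hCn
    obtain ⟨htD, htc⟩ := (hmemC t).mp htC
    set K : Subgroup G := A ⊔ Subgroup.zpowers t with hK
    have hKs : K ∈ s := by
      refine ⟨sup_le hAD (by rw [Subgroup.zpowers_le]; exact htD), (le_sup_left : A ≤ K) hzA, ?_, ?_⟩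
      · apply spvg_sup_zpowers_normal hAn
        intro d hd
        have h1 : t * d⁻¹ * t⁻¹ * d⁻¹⁻¹ ∈ A := ht d⁻¹ (D.inv_mem hd)
        have h2 : d * (t * d⁻¹ * t⁻¹ * d⁻¹⁻¹) * d⁻¹ ∈ A := hAn d hd _ h1
        have h3 : d * t * d⁻¹ = d * (t * d⁻¹ * t⁻¹ * d⁻¹⁻¹) * d⁻¹ * t := by group
        rw [h3]
        exact K.mul_mem ((le_sup_left : A ≤ K) h2)
          ((le_sup_right : Subgroup.zpowers t ≤ K) (Subgroup.mem_zpowers t))
      · exact spvg_sup_zpowers_comm hAc htc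
    have := hmax.le_of_ge hKs le_sup_left
    exact htA (this ((le_sup_right : Subgroup.zpowers t ≤ K) (Subgroup.mem_zpowers t)))
  -- Step 4: A is cyclic
  have hAp : IsPGroup p A := hD.to_le hAD
  obtain ⟨a₀, ha₀A, ha₀⟩ := spvg_cyclic_sub hp hAp hAc hzA hz1 hzp hΩ
  have ha₀D : a₀ ∈ D := hAD ha₀A
  have hord : ∃ k, orderOf a₀ = p ^ k := by
    obtain ⟨k, hk⟩ := (IsPGroup.iff_orderOf.mp hAp) ⟨a₀, ha₀A⟩
    exact ⟨k, by rw [← hk, Subgroup.orderOf_mk]⟩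
  -- Step 5,6: commutators with a₀ lie in ⟨z⟩
  have hYcl : Subgroup.closure Y ≤ D := (Subgroup.closure_le D).mpr hYD
  have hφ : ∀ d ∈ D, d * a₀ * d⁻¹ * a₀⁻¹ ∈ Subgroup.zpowers z := by
    intro d hd
    have hd' := hgen hd
    induction hd' using Subgroup.closure_induction with
    | mem y hy =>
      have hyD := hYD hy
      have hmem : y * a₀ * y⁻¹ ∈ Subgroup.zpowers a₀ := ha₀ _ (hAn y hyD a₀ ha₀A)
      have h1 := spvg_comm_pow hp hp2 (hYp y hy) hord hmem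
      exact hΩ _ (A.mul_mem (hAn y hyD a₀ ha₀A) (A.inv_mem ha₀A)) h1
    | one => simp
    | mul x y hx hy ihx ihy =>
      have hxD := hYcl hx
      have hyD := hYcl hy
      have h1 := ihx hxD
      have h2 := ihy hyD
      have e : x * y * a₀ * (x * y)⁻¹ * a₀⁻¹ =
          (x * (y * a₀ * y⁻¹ * a₀⁻¹) * x⁻¹) * (x * a₀ * x⁻¹ * a₀⁻¹) := by group
      rw [e, hzconj _ h2 x hxD]
      exact Subgroup.mul_mem _ h2 h1
    | inv x hx ihx =>
      have hxD := hYcl hx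
      have h1 := ihx hxD
      have e : x⁻¹ * a₀ * x⁻¹⁻¹ * a₀⁻¹ = x⁻¹ * (x * a₀ * x⁻¹ * a₀⁻¹)⁻¹ * x⁻¹⁻¹ := by group
      rw [e, hzconj _ (Subgroup.inv_mem _ h1) x⁻¹ (D.inv_mem hxD)]
      exact Subgroup.inv_mem _ h1
  -- (7a)
  have h7a : ∀ d ∈ D, d * a₀ = a₀ * d → d ∈ A := by
    intro d hd hc
    apply hself d hd
    intro a ha
    obtain ⟨k, rfl⟩ := Subgroup.mem_zpowers_iff.mp (ha₀ a ha)
    exact (Commute.zpow_right (show Commute d a₀ from hc) k).eq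
  -- (7c)
  have h7c : ∀ d ∈ D, ∀ a ∈ A, d * a * d⁻¹ * a⁻¹ ∈ Subgroup.zpowers z := by
    intro d hd a ha
    obtain ⟨k, rfl⟩ := Subgroup.mem_zpowers_iff.mp (ha₀ a ha)
    set ζ := d * a₀ * d⁻¹ * a₀⁻¹ with hζ
    have hζz := hφ d hd
    have h1 : d * a₀ * d⁻¹ = ζ * a₀ := by rw [hζ]; group
    have hcomm : Commute ζ a₀ := (hzcent ζ hζz a₀ ha₀D).symm
    have h2 : d * a₀ ^ k * d⁻¹ = ζ ^ k * a₀ ^ k := by
      rw [← conj_zpow, h1, hcomm.mul_zpow]
    rw [h2, mul_inv_cancel_right]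
    exact Subgroup.zpow_mem _ hζz _
  -- Step 8
  intro y hy
  have hyD := hYD hy
  apply hstar y hyD (hYp y hy)
  by_cases hyA : y ∈ A
  · intro d hd
    have := h7c d hd y hyA
    have e : y * d * y⁻¹ * d⁻¹ = (d * y * d⁻¹ * y⁻¹)⁻¹ := by group
    rw [e]
    exact Subgroup.inv_mem _ this
  · set ζ := y * a₀ * y⁻¹ * a₀⁻¹ with hζ
    have hζz : ζ ∈ Subgroup.zpowers z := hφ y hyD
    have hζ1 : ζ ≠ 1 := by
      intro h1
      apply hyA
      apply h7a y hyD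
      have : y * a₀ = ζ * a₀ * y := by rw [hζ]; group
      rw [this, h1, one_mul]
    have hya : y * a₀ = ζ * a₀ * y := by rw [hζ]; group
    have hca : Commute ζ a₀ := (hzcent ζ hζz a₀ ha₀D).symm
    have hcy : Commute ζ y := (hzcent ζ hζz y hyD).symm
    intro d hd
    set ξ := d * a₀ * d⁻¹ * a₀⁻¹ with hξ
    have hξz : ξ ∈ Subgroup.zpowers z := hφ d hd
    obtain ⟨i, hi⟩ := spvg_zpowers_gen hp hz1 hzp hζz hζ1 hξz
    have hda : d * a₀ = ξ * a₀ * d := by rw [hξ]; group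
    have hyi : y ^ (-i) * a₀ = ζ ^ (-i) * a₀ * y ^ (-i) := spv_comm_zpow' hya hca hcy (-i)
    have hζi : ζ ^ (-i) ∈ Subgroup.zpowers z := Subgroup.zpow_mem _ hζz _
    have hmemA : d * y ^ (-i) ∈ A := by
      apply h7a _ (D.mul_mem hd (D.zpow_mem hyD _))
      calc d * y ^ (-i) * a₀ = d * (y ^ (-i) * a₀) := by rw [mul_assoc]
        _ = d * (ζ ^ (-i) * a₀ * y ^ (-i)) := by rw [hyi]
        _ = (d * ζ ^ (-i)) * a₀ * y ^ (-i) := by simp only [mul_assoc]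
        _ = (ζ ^ (-i) * d) * a₀ * y ^ (-i) := by rw [hzcent _ hζi d hd]
        _ = ζ ^ (-i) * (d * a₀) * y ^ (-i) := by simp only [mul_assoc]
        _ = ζ ^ (-i) * (ξ * a₀ * d) * y ^ (-i) := by rw [hda]
        _ = (ζ ^ (-i) * ζ ^ i) * a₀ * d * y ^ (-i) := by rw [← hi]; simp only [mul_assoc]
        _ = a₀ * (d * y ^ (-i)) := by rw [← zpow_add]; simp [mul_assoc]
    set a := d * y ^ (-i) with ha
    have hd_eq : d = a * y ^ i := by rw [ha]; group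
    have e : y * d * y⁻¹ * d⁻¹ = y * a * y⁻¹ * a⁻¹ := by
      rw [hd_eq]
      have hc : Commute y (y ^ i) := (Commute.refl y).zpow_right i
      calc y * (a * y ^ i) * y⁻¹ * (a * y ^ i)⁻¹
          = y * a * (y ^ i * y⁻¹) * ((y ^ i)⁻¹ * a⁻¹) := by rw [mul_inv_rev]; simp only [mul_assoc]
        _ = y * a * (y⁻¹ * y ^ i) * ((y ^ i)⁻¹ * a⁻¹) := by
            rw [(hc.inv_left).eq]
        _ = y * a * y⁻¹ * a⁻¹ := by group
    rw [e]
    exact h7c y hyD a hmemA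

end Cfsg.Agent.Lib.helper3
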