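import Mathlib
import Cfsg.Agent.Lib.helper3.SubPVJ

set_option autoImplicit false

namespace Cfsg.Agent.Lib.helper3

/-- a nontrivial finite `p`-subgroup has a central element of order `p` -/
theorem spvg_central_elt {G : Type*} [Group G] [Finite G] {p : ℕ} (hp : p.Prime)
    {D : Subgroup G} (hD : IsPGroup p D) (hne : D ≠ ⊥) :
    ∃ z ∈ D, z ≠ 1 ∧ z ^ p = 1 ∧ ∀ d ∈ D, d * z = z * d := by
  haveI := Fact.mk hp
  haveI : Nontrivial D := (Subgroup.nontrivial_iff_ne_bot D).mpr hne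
  haveI := hD.center_nontrivial
  have hZ : IsPGroup p (Subgroup.center D) := hD.to_subgroup _
  have hdvd : p ∣ Nat.card (Subgroup.center D) := by
    rcases hZ.card_eq_or_dvd with h | h
    · exfalso
      have := Finite.one_lt_card_iff_nontrivial.mpr (inferInstance : Nontrivial (Subgroup.center D))
      omega
    · exact h
  obtain ⟨c, hc⟩ := exists_prime_orderOf_dvd_card' p hdvd
  refine ⟨((c : D) : G), (c : D).2, ?_, ?_, ?_⟩
  · intro h1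
    have : c = 1 := by
      apply Subtype.ext; apply Subtype.ext; simpa using h1
    rw [this, orderOf_one] at hc
    exact hp.one_lt.ne hc
  · have : c ^ p = 1 := by rw [← hc]; exact pow_orderOf_eq_one c
    have := congrArg (fun t : Subgroup.center D => ((t : D) : G)) this
    simpa using this
  · intro d hd
    have := Subgroup.mem_center_iff.mp c.2 ⟨d, hd⟩
    have := congrArg Subtype.val this
    simpa using this

/-- Lemma S -/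
theorem spvg_lemmaS {G : Type*} [Group G] [Finite G] {p : ℕ} (hp : p.Prime) (hp2 : p ≠ 2)
    {Γ D : Subgroup G} (hDn : ∀ γ ∈ Γ, ∀ d ∈ D, γ * d * γ⁻¹ ∈ D)
    (hD : IsPGroup p D)
    {x : G} (hxD : x ∈ D) (hxp : x ^ p = 1)
    (hgen : D ≤ Subgroup.closure {y | ∃ γ ∈ Γ, y = γ * x * γ⁻¹})
    (hnab : ∃ a ∈ D, ∃ b ∈ D, a * b ≠ b * a)
    (hR1 : ∀ B : Subgroup G, B ≤ D → (∀ γ ∈ Γ, ∀ b ∈ B, γ * b * γ⁻¹ ∈ B) →
      (∀ a ∈ B, ∀ b ∈ B, a * b = b * a) → ∀ a ∈ B, ∀ b ∈ B, a ^ p = 1 → b ^ p = 1 → a ≠ 1 →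
        b ∈ Subgroup.zpowers a) :
    ∃ (U : Subgroup G) (z : G), U ≤ D ∧ (∀ γ ∈ Γ, ∀ u ∈ U, γ * u * γ⁻¹ ∈ U) ∧ z ∈ U ∧ z ≠ 1 ∧
      z ^ p = 1 ∧ (∀ d ∈ D, d * z = z * d) ∧
      (∀ γ ∈ Γ, ∀ ζ ∈ Subgroup.zpowers z, γ * ζ * γ⁻¹ ∈ Subgroup.zpowers z) ∧
      (∀ u ∈ U, u ^ p = 1) ∧
      (∀ d ∈ D, ∀ u ∈ U, d * u * d⁻¹ * u⁻¹ ∈ Subgroup.zpowers z) ∧ ∃ u ∈ U, x * u ≠ u * x := by
  have hDne : D ≠ ⊥ := by
    intro h
    obtain ⟨a, ha, b, hb, hab⟩ := hnab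
    rw [h, Subgroup.mem_bot] at ha hb
    apply hab; rw [ha, hb]
  obtain ⟨z, hzD, hz1, hzp, hzc⟩ := spvg_central_elt hp hD hDne
  have hzcent : ∀ ζ ∈ Subgroup.zpowers z, ∀ d ∈ D, d * ζ = ζ * d :=
    fun ζ hζ d hd => spvg_zpowers_comm (hzc d hd) hζ
  have hzconj : ∀ ζ ∈ Subgroup.zpowers z, ∀ d ∈ D, d * ζ * d⁻¹ = ζ := by
    intro ζ hζ d hd
    rw [hzcent ζ hζ d hd, mul_inv_cancel_right]
  have hDn' : ∀ γ ∈ Γ, ∀ d ∈ D, γ⁻¹ * d * γ ∈ D := by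
    intro γ hγ d hd
    have := hDn γ⁻¹ (Γ.inv_mem hγ) d hd
    rwa [inv_inv] at this
  -- the center of D
  set Z : Subgroup G := D ⊓ Subgroup.centralizer (D : Set G) with hZ
  have hmemZ : ∀ t, t ∈ Z ↔ t ∈ D ∧ ∀ d ∈ D, t * d = d * t := by
    intro t
    rw [hZ, Subgroup.mem_inf, Subgroup.mem_centralizer_iff]
    constructor
    · rintro ⟨h1, h2⟩
      exact ⟨h1, fun a ha => (h2 a ha).symm⟩
    · rintro ⟨h1, h2⟩
      exact ⟨h1, fun a ha => (h2 a ha).symm⟩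
  have hZn : ∀ γ ∈ Γ, ∀ b ∈ Z, γ * b * γ⁻¹ ∈ Z := by
    intro γ hγ b hb
    obtain ⟨hbD, hbc⟩ := (hmemZ b).mp hb
    refine (hmemZ _).mpr ⟨hDn γ hγ b hbD, ?_⟩
    intro d hd
    have := hbc _ (hDn' γ hγ d hd)
    calc γ * b * γ⁻¹ * d = γ * (b * (γ⁻¹ * d * γ)) * γ⁻¹ := by group
      _ = γ * ((γ⁻¹ * d * γ) * b) * γ⁻¹ := by rw [this]
      _ = d * (γ * b * γ⁻¹) := by group
  have hZc : ∀ a ∈ Z, ∀ b ∈ Z, a * b = b * a := by
    intro a ha b hb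
    exact ((hmemZ a).mp ha).2 b ((hmemZ b).mp hb).1
  have hzZ : z ∈ Z := (hmemZ z).mpr ⟨hzD, fun d hd => (hzc d hd).symm⟩
  have hzΓ : ∀ γ ∈ Γ, ∀ ζ ∈ Subgroup.zpowers z, γ * ζ * γ⁻¹ ∈ Subgroup.zpowers z := by
    intro γ hγ ζ hζ
    obtain ⟨k, rfl⟩ := Subgroup.mem_zpowers_iff.mp hζ
    have h1 : γ * z * γ⁻¹ ∈ Subgroup.zpowers z := by
      apply hR1 Z inf_le_left hZn hZc z hzZ _ (hZn γ hγ z hzZ) hzp _ hz1
      rw [conj_pow, hzp, mul_one, mul_inv_cancel]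
    rw [← conj_zpow]
    exact Subgroup.zpow_mem _ h1 _
  -- the subgroup W
  let W : Subgroup G :=
    { carrier := {t | t ∈ D ∧ t ^ p = 1 ∧ ∀ d ∈ D, t * d * t⁻¹ * d⁻¹ ∈ Subgroup.zpowers z}
      one_mem' := ⟨D.one_mem, one_pow _, fun d _ => by simp⟩
      mul_mem' := by
        rintro t s ⟨htD, htp, htc⟩ ⟨hsD, hsp, hsc⟩
        refine ⟨D.mul_mem htD hsD, ?_, ?_⟩
        · have hc := hsc t htD
          have hcp := spvg_zpowers_pow hzp hc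
          have h : s * t = (s * t * s⁻¹ * t⁻¹) * t * s := by group
          rw [spvg_mul_pow_prime hp hp2 h (hzcent _ hc t htD).symm (hzcent _ hc s hsD).symm hcp,
            htp, hsp, one_mul]
        · intro d hd
          have e : t * s * d * (t * s)⁻¹ * d⁻¹ =
              (t * (s * d * s⁻¹ * d⁻¹) * t⁻¹) * (t * d * t⁻¹ * d⁻¹) := by group
          rw [e, hzconj _ (hsc d hd) t htD]
          exact Subgroup.mul_mem _ (hsc d hd) (htc d hd)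
      inv_mem' := by
        rintro t ⟨htD, htp, htc⟩
        refine ⟨D.inv_mem htD, by rw [inv_pow, htp, inv_one], ?_⟩
        intro d hd
        have e : t⁻¹ * d * t⁻¹⁻¹ * d⁻¹ = t⁻¹ * (t * d * t⁻¹ * d⁻¹)⁻¹ * t⁻¹⁻¹ := by group
        rw [e, hzconj _ (Subgroup.inv_mem _ (htc d hd)) t⁻¹ (D.inv_mem htD)]
        exact Subgroup.inv_mem _ (htc d hd) }
  have hmemW : ∀ t, t ∈ W ↔ t ∈ D ∧ t ^ p = 1 ∧
      ∀ d ∈ D, t * d * t⁻¹ * d⁻¹ ∈ Subgroup.zpowers z := fun t => Iff.rfl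
  have hWD : W ≤ D := fun t ht => ht.1
  have hWn : ∀ γ ∈ Γ, ∀ u ∈ W, γ * u * γ⁻¹ ∈ W := by
    intro γ hγ u hu
    obtain ⟨huD, hup, huc⟩ := hu
    refine ⟨hDn γ hγ u huD, by rw [conj_pow, hup, mul_one, mul_inv_cancel], ?_⟩
    intro d hd
    have h1 := huc _ (hDn' γ hγ d hd)
    have e : γ * u * γ⁻¹ * d * (γ * u * γ⁻¹)⁻¹ * d⁻¹ =
        γ * (u * (γ⁻¹ * d * γ) * u⁻¹ * (γ⁻¹ * d * γ)⁻¹) * γ⁻¹ := by group
    rw [e]
    exact hzΓ γ hγ _ h1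
  have hzW : z ∈ W := by
    refine ⟨hzD, hzp, fun d hd => ?_⟩
    have : z * d * z⁻¹ * d⁻¹ = 1 := by rw [← hzc d hd]; group
    rw [this]; exact Subgroup.one_mem _
  by_cases hx : ∃ u ∈ W, x * u ≠ u * x
  · refine ⟨W, z, hWD, hWn, hzW, hz1, hzp, hzc, hzΓ, fun u hu => hu.2.1, ?_, hx⟩
    intro d hd u hu
    have e : d * u * d⁻¹ * u⁻¹ = (u * d * u⁻¹ * d⁻¹)⁻¹ := by group
    rw [e]
    exact Subgroup.inv_mem _ (hu.2.2 d hd)
  · exfalso
    push Not at hx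
    set Y : Set G := {y | ∃ γ ∈ Γ, y = γ * x * γ⁻¹} with hY
    have hYD : Y ⊆ D := by
      rintro y ⟨γ, hγ, rfl⟩
      exact hDn γ hγ x hxD
    have hYp : ∀ y ∈ Y, y ^ p = 1 := by
      rintro y ⟨γ, hγ, rfl⟩
      rw [conj_pow, hxp, mul_one, mul_inv_cancel]
    -- every element of D centralizes W
    have hcent : ∀ d ∈ D, ∀ u ∈ W, d * u = u * d := by
      intro d hd u hu
      have hle : Subgroup.closure Y ≤ Subgroup.centralizer ({u} : Set G) := by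
        rw [Subgroup.closure_le]
        rintro y ⟨γ, hγ, rfl⟩
        apply spv_mem_centralizer_singleton.mpr
        have hu' : γ⁻¹ * u * γ ∈ W := by
          have := hWn γ⁻¹ (Γ.inv_mem hγ) u hu
          rwa [inv_inv] at this
        have := hx _ hu'
        calc u * (γ * x * γ⁻¹) = γ * ((γ⁻¹ * u * γ) * x) * γ⁻¹ := by group
          _ = γ * (x * (γ⁻¹ * u * γ)) * γ⁻¹ := by rw [this]
          _ = γ * x * γ⁻¹ * u := by group
      exact (spv_mem_centralizer_singleton.mp (hle (hgen hd))).symm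
    have hWc : ∀ a ∈ W, ∀ b ∈ W, a * b = b * a := fun a ha b hb => hcent a (hWD ha) b hb
    have hstar : ∀ t ∈ D, t ^ p = 1 →
        (∀ d ∈ D, t * d * t⁻¹ * d⁻¹ ∈ Subgroup.zpowers z) → t ∈ Subgroup.zpowers z := by
      intro t htD htp htc
      have htW : t ∈ W := ⟨htD, htp, htc⟩
      exact hR1 W hWD hWn hWc z hzW t htW hzp htp hz1
    have hall := spvg_claimP hp hp2 hD hzD hz1 hzp hzc hstar hYD hYp hgen
    have hle : D ≤ Subgroup.zpowers z := by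
      refine le_trans hgen ?_
      rw [Subgroup.closure_le]
      exact fun y hy => hall y hy
    obtain ⟨a, ha, b, hb, hab⟩ := hnab
    apply hab
    obtain ⟨k, rfl⟩ := Subgroup.mem_zpowers_iff.mp (hle ha)
    obtain ⟨l, rfl⟩ := Subgroup.mem_zpowers_iff.mp (hle hb)
    exact ((Commute.refl z).zpow_zpow k l).eq

end Cfsg.Agent.Lib.helper3
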