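import Mathlib
import Cfsg.Agent.Lib.helper3.SubPVH
import Cfsg.Agent.Lib.helper3.SubPVK

set_option autoImplicit false

namespace Cfsg.Agent.Lib.helper3

universe u

variable {V : Type u} [CommGroup V]

/-- product over a finite group of automorphisms -/
def spvAvg (D : Subgroup (MulAut V)) [Fintype D] (v : V) : V := ∏ d : D, (d : MulAut V) v

theorem spvAvg_mul (D : Subgroup (MulAut V)) [Fintype D] (v w : V) :
    spvAvg D (v * w) = spvAvg D v * spvAvg D w := by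
  unfold spvAvg
  rw [← Finset.prod_mul_distrib]
  exact Finset.prod_congr rfl (fun d _ => map_mul _ _ _)

theorem spvAvg_one (D : Subgroup (MulAut V)) [Fintype D] : spvAvg D (1 : V) = 1 := by
  unfold spvAvg
  exact Finset.prod_eq_one (fun d _ => map_one _)

theorem spvAvg_apply (D : Subgroup (MulAut V)) [Fintype D] {d₀ : MulAut V} (hd₀ : d₀ ∈ D) (v : V) :
    spvAvg D (d₀ v) = spvAvg D v := by
  unfold spvAvg
  exact Fintype.prod_equiv (Equiv.mulRight (⟨d₀, hd₀⟩ : D)) _ _ (fun d => by simp [MulAut.mul_apply])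

theorem spvAvg_fixed (D : Subgroup (MulAut V)) [Fintype D] {v : V} (hv : v ∈ spvFix D) :
    spvAvg D v = v ^ Nat.card D := by
  unfold spvAvg
  rw [Finset.prod_congr rfl (fun (d : D) _ => hv (d : MulAut V) d.2), Finset.prod_const, Finset.card_univ,
    Nat.card_eq_fintype_card]

theorem spv_irred [Finite V] {p : ℕ} [Fact p.Prime] (hV : (Nat.card V).Coprime p)
    {Γ D : Subgroup (MulAut V)} (hDp : IsPGroup p D)
    (hDn : ∀ γ ∈ Γ, ∀ d ∈ D, γ * d * γ⁻¹ ∈ D)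
    {x : MulAut V} (hxD : x ∈ D) (hx1 : x ≠ 1) (hxp : x ^ p = 1)
    (hB : ∀ W : Subgroup V, W ≠ ⊤ → (∀ γ ∈ Γ, ∀ w ∈ W, γ w ∈ W) → ∀ d ∈ D, ∀ w ∈ W, d w = w) :
    ∀ W : Subgroup V, (∀ γ ∈ Γ, ∀ w ∈ W, γ w ∈ W) → W = ⊥ ∨ W = ⊤ := by
  classical
  haveI : Finite (MulAut V) := spv_finite_aut
  letI : Fintype D := Fintype.ofFinite D
  set K : Subgroup V := Subgroup.closure {k | ∃ d ∈ D, ∃ v : V, k = d v * v⁻¹} with hK
  have hKinv : ∀ γ ∈ Γ, ∀ w ∈ K, γ w ∈ K := by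
    intro γ hγ w hw
    have hle : K ≤ K.comap γ.toMonoidHom := by
      rw [hK, Subgroup.closure_le]
      rintro k ⟨d, hd, v, rfl⟩
      rw [SetLike.mem_coe, Subgroup.mem_comap]
      apply Subgroup.subset_closure
      refine ⟨γ * d * γ⁻¹, hDn γ hγ d hd, γ v, ?_⟩
      simp [MulAut.mul_apply]
    exact hle hw
  have hKtop : K = ⊤ := by
    by_contra hne
    have hfix := hB K hne hKinv
    apply hx1
    ext v
    obtain ⟨k, hk⟩ : ∃ k, k = x v * v⁻¹ := ⟨_, rfl⟩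
    have hkK : k ∈ K := Subgroup.subset_closure ⟨x, hxD, v, hk⟩
    have hxk : x k = k := hfix x hxD k hkK
    have hxv : x v = k * v := by rw [hk]; simp
    have hpow : ∀ j : ℕ, (x ^ j) v = k ^ j * v := by
      intro j
      induction j with
      | zero => simp
      | succ j ih =>
        rw [pow_succ', MulAut.mul_apply, ih, map_mul, map_pow, hxk, hxv, pow_succ, mul_assoc]
    have h1 := hpow p
    rw [hxp, MulAut.one_apply] at h1
    have h2 : k ^ p = 1 := by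
      have : k ^ p * v = v := h1.symm
      exact mul_eq_right.mp this
    have h3 : k = 1 := spv_pow_eq_one hV h2
    rw [hxv, h3, one_mul, MulAut.one_apply]
  have havg : ∀ v : V, spvAvg D v = 1 := by
    intro v
    let f : V →* V := MonoidHom.mk' (spvAvg D) (spvAvg_mul D)
    have hle : K ≤ f.ker := by
      rw [hK, Subgroup.closure_le]
      rintro k ⟨d, hd, v, rfl⟩
      rw [SetLike.mem_coe, MonoidHom.mem_ker]
      show spvAvg D (d v * v⁻¹) = 1
      rw [spvAvg_mul, spvAvg_apply D hd, ← spvAvg_mul, mul_inv_cancel, spvAvg_one]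
    have : v ∈ K := by rw [hKtop]; exact Subgroup.mem_top v
    exact MonoidHom.mem_ker.mp (hle this)
  have hfixbot : spvFix D = ⊥ := by
    rw [Subgroup.eq_bot_iff_forall]
    intro v hv
    have h1 := spvAvg_fixed D hv
    rw [havg v] at h1
    obtain ⟨n, hn⟩ := IsPGroup.iff_card.mp hDp
    rw [hn] at h1
    exact spv_pow_eq_one (Nat.Coprime.pow_right n hV) h1.symm
  intro W hW
  by_cases hWtop : W = ⊤
  · exact Or.inr hWtop
  · left
    have := hB W hWtop hW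
    rw [eq_bot_iff, ← hfixbot]
    intro w hw d hd
    exact this d hd w hw

/-- the normal closure of `x` under `Γ` -/
def spvNC (Γ : Subgroup (MulAut V)) (x : MulAut V) : Subgroup (MulAut V) :=
  Subgroup.closure {y | ∃ γ ∈ Γ, y = γ * x * γ⁻¹}

theorem spvNC_normal (Γ : Subgroup (MulAut V)) (x : MulAut V) :
    ∀ γ ∈ Γ, ∀ d ∈ spvNC Γ x, γ * d * γ⁻¹ ∈ spvNC Γ x := by
  intro γ hγ d hd
  have hle : spvNC Γ x ≤ (spvNC Γ x).comap (MulAut.conj γ).toMonoidHom := by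
    unfold spvNC
    rw [Subgroup.closure_le]
    rintro y ⟨γ', hγ', rfl⟩
    rw [SetLike.mem_coe, Subgroup.mem_comap]
    apply Subgroup.subset_closure
    refine ⟨γ * γ', Γ.mul_mem hγ hγ', ?_⟩
    show γ * (γ' * x * γ'⁻¹) * γ⁻¹ = _
    group
  exact hle hd

theorem spvNC_self_mem (Γ : Subgroup (MulAut V)) (x : MulAut V) : x ∈ spvNC Γ x :=
  Subgroup.subset_closure ⟨1, Γ.one_mem, by simp⟩

theorem spvNC_le {Γ P : Subgroup (MulAut V)} (hPn : ∀ γ ∈ Γ, ∀ g ∈ P, γ * g * γ⁻¹ ∈ P)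
    {x : MulAut V} (hx : x ∈ P) : spvNC Γ x ≤ P := by
  unfold spvNC
  rw [Subgroup.closure_le]
  rintro y ⟨γ, hγ, rfl⟩
  exact hPn γ hγ x hx

theorem spv_core_irred [Finite V] {p : ℕ} [Fact p.Prime] (hp2 : p ≠ 2)
    (hV : (Nat.card V).Coprime p)
    (IH : ∀ W : Subgroup V, W ≠ ⊤ → SpvGoal p W)
    (Γ P : Subgroup (MulAut V)) (hPΓ : P ≤ Γ) (hPn : ∀ γ ∈ Γ, ∀ g ∈ P, γ * g * γ⁻¹ ∈ P)
    (hP : IsPGroup p P)
    (hirr : ∀ W : Subgroup V, (∀ γ ∈ Γ, ∀ w ∈ W, γ w ∈ W) → W = ⊥ ∨ W = ⊤)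
    (x : MulAut V) (hx : x ∈ P) (hx1 : x ≠ 1) (hxp : x ^ p = 1)
    (hno : ∀ v : V, ∃ γ ∈ Γ, (γ * x * γ⁻¹) v = v) : False := by
  classical
  have hp : p.Prime := Fact.out
  haveI : Finite (MulAut V) := spv_finite_aut
  have hVnt : (⊤ : Subgroup V) ≠ ⊥ := by
    intro h
    apply hx1
    ext v
    have hv : v ∈ (⊥ : Subgroup V) := h ▸ Subgroup.mem_top v
    rw [Subgroup.mem_bot.mp hv]
    simp
  have hfpfB := spv_abelian_fpf hp2 IH Γ P hPΓ hPn hP hirr x hx hx1 hno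
  -- x is not fixed point free
  have hxnf : ¬ spvFpf x := by
    intro hf
    rw [Ne, Subgroup.eq_bot_iff_forall] at hVnt
    push Not at hVnt
    obtain ⟨v, -, hv1⟩ := hVnt
    obtain ⟨γ, hγ, hfix⟩ := hno v
    have h1 : x (γ⁻¹ v) = γ⁻¹ v := by
      have := congrArg (fun w => γ⁻¹ w) hfix
      simpa [MulAut.mul_apply] using this
    have h2 := hf _ h1
    apply hv1
    have := congrArg (fun w => γ w) h2
    simpa using this
  set D := spvNC Γ x with hD
  have hDP : D ≤ P := spvNC_le hPn hx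
  have hDn : ∀ γ ∈ Γ, ∀ d ∈ D, γ * d * γ⁻¹ ∈ D := spvNC_normal Γ x
  have hxD : x ∈ D := spvNC_self_mem Γ x
  have hDp : IsPGroup p D := hP.to_le hDP
  by_cases hab : ∀ a ∈ D, ∀ b ∈ D, a * b = b * a
  · exact hxnf (hfpfB D hDn hab x hxD hx1)
  · push Not at hab
    obtain ⟨a, ha, b, hb, hab⟩ := hab
    -- (R1)
    have hR1 : ∀ B : Subgroup (MulAut V), B ≤ D → (∀ γ ∈ Γ, ∀ b ∈ B, γ * b * γ⁻¹ ∈ B) →
        (∀ a ∈ B, ∀ b ∈ B, a * b = b * a) → ∀ a ∈ B, ∀ b ∈ B, a ^ p = 1 → b ^ p = 1 → a ≠ 1 →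
        b ∈ Subgroup.zpowers a := by
      intro B _ hBn hBc a ha b hb hap hbp ha1
      by_contra hbz
      have hb1 : b ≠ 1 := fun h => hbz (h ▸ Subgroup.one_mem _)
      have hcomm : Commute a b := hBc a ha b hb
      have hf := hfpfB B hBn hBc
      have h1 : ∀ j < p, ∀ v : V, spvNorm (a * b ^ j) p v = 1 := by
        intro j _ v
        apply spvNorm_eq_one_of_fpf
        · rw [(hcomm.pow_right j).mul_pow, hap, ← pow_mul, mul_comm, pow_mul, hbp, one_pow, one_mul]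
        · apply hf _ (B.mul_mem ha (B.pow_mem hb j))
          intro h
          -- a = (b^j)⁻¹ ∈ zpowers b
          have haz : a ∈ Subgroup.zpowers b := by
            have : a = (b ^ j)⁻¹ := eq_inv_of_mul_eq_one_left h
            rw [this]
            exact Subgroup.inv_mem _ (Subgroup.pow_mem _ (Subgroup.mem_zpowers b) j)
          obtain ⟨m, hm⟩ := spvg_zpowers_gen hp hb1 hbp haz ha1 (Subgroup.mem_zpowers b)
          exact hbz (Subgroup.mem_zpowers_iff.mpr ⟨m, hm⟩)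
      have h2 : ∀ i, 0 < i → i < p → ∀ v : V, spvNorm (b ^ i) p v = 1 := by
        intro i hi0 hip v
        apply spvNorm_eq_one_of_fpf
        · rw [← pow_mul, mul_comm, pow_mul, hbp, one_pow]
        · apply hf _ (B.pow_mem hb i)
          intro h
          have hord : orderOf b = p := orderOf_eq_prime hbp hb1
          have := orderOf_dvd_of_pow_eq_one h
          rw [hord] at this
          have := Nat.le_of_dvd hi0 this
          omega
      apply hVnt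
      rw [Subgroup.eq_bot_iff_forall]
      intro v _
      exact spv_rank2 hcomm hV (fun j hj => h1 j hj v) (fun i hi0 hip => h2 i hi0 hip v)
    obtain ⟨U, z, hUD, hUn, hzU, hz1, hzp, hzc, hzΓ, hUp, hK, u, huU, hxu⟩ :=
      spvg_lemmaS hp hp2 hDn hDp hxD hxp (le_refl _) ⟨a, ha, b, hb, hab⟩ hR1
    have hzab : ∀ a ∈ Subgroup.zpowers z, ∀ b ∈ Subgroup.zpowers z, a * b = b * a := by
      intro a ha b hb
      obtain ⟨k, rfl⟩ := Subgroup.mem_zpowers_iff.mp ha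
      obtain ⟨l, rfl⟩ := Subgroup.mem_zpowers_iff.mp hb
      exact ((Commute.refl z).zpow_zpow k l).eq
    have hfpf := hfpfB (Subgroup.zpowers z) hzΓ hzab
    obtain ⟨v, hv⟩ := spv_lemmaQ hp hp2 hV hVnt hzc hz1 hzp hfpf hUD hzU hUp hK
    obtain ⟨γ, hγ, hfix⟩ := hno v
    have hyD : γ * x * γ⁻¹ ∈ D := hDn γ hγ x hxD
    have hcent := hv _ hyD hfix
    apply hxu
    have hu' : γ * u * γ⁻¹ ∈ U := hUn γ hγ u huU
    have := hcent _ hu'
    calc x * u = γ⁻¹ * ((γ * x * γ⁻¹) * (γ * u * γ⁻¹)) * γ := by group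
      _ = γ⁻¹ * ((γ * u * γ⁻¹) * (γ * x * γ⁻¹)) * γ := by rw [this]
      _ = u * x := by group

/-- the case of an element of order `p` -/
theorem spv_core [Finite V] {p : ℕ} [Fact p.Prime] (hp2 : p ≠ 2)
    (hV : (Nat.card V).Coprime p)
    (IH : ∀ W : Subgroup V, W ≠ ⊤ → SpvGoal p W)
    (Γ P : Subgroup (MulAut V)) (hPΓ : P ≤ Γ) (hPn : ∀ γ ∈ Γ, ∀ g ∈ P, γ * g * γ⁻¹ ∈ P)
    (hP : IsPGroup p P)
    (x : MulAut V) (hx : x ∈ P) (hx1 : x ≠ 1) (hxp : x ^ p = 1) :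
    ∃ v : V, ∀ γ ∈ Γ, (γ * x * γ⁻¹) v ≠ v := by
  classical
  by_contra hno
  push Not at hno
  by_cases hA : ∃ W : Subgroup V, W ≠ ⊤ ∧ (∀ γ ∈ Γ, ∀ w ∈ W, γ w ∈ W) ∧ ∃ w ∈ W, x w ≠ w
  · obtain ⟨W, hWtop, hWinv, hxW⟩ := hA
    have hΓW : Γ ≤ spvStab W := fun γ hγ => mem_spvStab_of_finite (hWinv γ hγ)
    obtain ⟨w, -, hw⟩ := spv_restrict W (IH W hWtop) Γ P hΓW hPΓ hPn hP x hx hxW
    obtain ⟨γ, hγ, hfix⟩ := hno w
    exact hw γ hγ hfix
  · push Not at hA
    set D := spvNC Γ x with hD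
    have hDP : D ≤ P := spvNC_le hPn hx
    have hDn : ∀ γ ∈ Γ, ∀ d ∈ D, γ * d * γ⁻¹ ∈ D := spvNC_normal Γ x
    have hxD : x ∈ D := spvNC_self_mem Γ x
    have hDp : IsPGroup p D := hP.to_le hDP
    have hB : ∀ W : Subgroup V, W ≠ ⊤ → (∀ γ ∈ Γ, ∀ w ∈ W, γ w ∈ W) →
        ∀ d ∈ D, ∀ w ∈ W, d w = w := by
      intro W hWtop hWinv
      let F : Subgroup (MulAut V) :=
        { carrier := {g | ∀ w ∈ W, g w = w}
          one_mem' := fun w _ => rfl
          mul_mem' := fun {a b} ha hb w hw => by rw [MulAut.mul_apply, hb w hw, ha w hw]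
          inv_mem' := fun {a} ha w hw => by
            calc a⁻¹ w = a⁻¹ (a w) := by rw [ha w hw]
              _ = w := by simp }
      have hle : D ≤ F := by
        rw [hD]
        unfold spvNC
        rw [Subgroup.closure_le]
        rintro y ⟨γ, hγ, rfl⟩ w hw
        have hw' : γ⁻¹ w ∈ W := hWinv γ⁻¹ (Γ.inv_mem hγ) w hw
        have := hA W hWtop hWinv _ hw'
        simp only [MulAut.mul_apply]
        rw [this]
        simp
      exact fun d hd w hw => hle hd w hw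
    have hirr := spv_irred hV hDp hDn hxD hx1 hxp hB
    exact spv_core_irred hp2 hV IH Γ P hPΓ hPn hP hirr x hx hx1 hxp hno

/-- The main theorem on vectors in regular orbits of conjugates. -/
theorem spv_main {p : ℕ} [Fact p.Prime] (hp2 : p ≠ 2) :
    ∀ (n : ℕ) (V : Type u) [CommGroup V] [Finite V], Nat.card V = n →
      (Nat.card V).Coprime p → SpvGoal p V := by
  intro n
  induction n using Nat.strong_induction_on with
  | _ n ih =>
  intro V _ _ hn hV
  have hp : p.Prime := Fact.out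
  have IH : ∀ W : Subgroup V, W ≠ ⊤ → SpvGoal p W := by
    intro W hW
    have hlt : Nat.card W < n := by
      rw [← hn]
      have := spv_card_lt (lt_top_iff_ne_top.mpr hW)
      rwa [Subgroup.card_top] at this
    exact ih (Nat.card W) hlt W rfl
      (Nat.Coprime.coprime_dvd_left (Subgroup.card_subgroup_dvd_card W) hV)
  intro Γ P hPΓ hPn hP x hx hx1
  obtain ⟨k, hk⟩ := (IsPGroup.iff_orderOf.mp hP) ⟨x, hx⟩
  rw [Subgroup.orderOf_mk] at hk
  have hk0 : k ≠ 0 := by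
    intro h0
    rw [h0, pow_zero, orderOf_eq_one_iff] at hk
    exact hx1 hk
  obtain ⟨k', rfl⟩ : ∃ k', k = k' + 1 := ⟨k - 1, by omega⟩
  set x' := x ^ (p ^ k') with hx'
  have hx'p : x' ^ p = 1 := by
    rw [hx', ← pow_mul, ← pow_succ, ← hk]; exact pow_orderOf_eq_one x
  have hx'1 : x' ≠ 1 := by
    intro h1
    have hd := orderOf_dvd_of_pow_eq_one h1
    rw [hk] at hd
    have := Nat.le_of_dvd (pow_pos hp.pos _) hd
    have h2 : p ^ k' < p ^ (k' + 1) := Nat.pow_lt_pow_right hp.one_lt (by omega)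
    omega
  obtain ⟨v, hv⟩ := spv_core hp2 hV IH Γ P hPΓ hPn hP x' (P.pow_mem hx _) hx'1 hx'p
  refine ⟨v, fun γ hγ hfix => hv γ hγ ?_⟩
  have := spv_pow_apply_of_fixed hfix (p ^ k')
  rwa [conj_pow] at this

end Cfsg.Agent.Lib.helper3
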