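import Mathlib
import Cfsg.Prelude.Def_Solvable
import Cfsg.Agent.Lib.helper17.Subn
import Cfsg.Agent.Lib.helper17.Cores
import Cfsg.Agent.Lib.helper17.PIrr
import Cfsg.Agent.Lib.helper3.SubPVL

set_option autoImplicit false

open Pointwise

namespace Cfsg.Agent.Lib.helper3

universe u

/-- if `A` is a subnormal `p`-subgroup of `⟨A, A^g⟩` then the latter is a `p`-group -/
theorem sbp_isPGroup_join {G : Type*} [Group G] {p : ℕ} [Fact p.Prime] (A : Subgroup G)
    (hA : IsPGroup p A) (g : G)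
    (h : (A.subgroupOf (A ⊔ MulAut.conj g • A)).IsSubnormal) :
    IsPGroup p ↥(A ⊔ MulAut.conj g • A) := by
  set H : Subgroup G := A ⊔ MulAut.conj g • A with hH
  have hAH : A ≤ H := le_sup_left
  have hBH : MulAut.conj g • A ≤ H := le_sup_right
  have hA' : IsPGroup p (A.subgroupOf H) := hA.comap_subtype
  have hle : A.subgroupOf H ≤ Cfsg.pCore p H :=
    Cfsg.Agent.Lib.helper17.le_pCore_of_subnormal_isPGroup h hA'
  haveI : (Cfsg.pCore p H).Normal := Cfsg.Agent.Lib.helper17.pCore_normal p H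
  have hN : IsPGroup p (Cfsg.pCore p H) := Cfsg.Agent.Lib.helper17.pCore_isPGroup p H
  have hB : IsPGroup p (MulAut.conj g • A : Subgroup G) := by
    rw [Subgroup.pointwise_smul_def]
    exact hA.map _
  have hB' : IsPGroup p ((MulAut.conj g • A).subgroupOf H) := hB.comap_subtype
  have hsup := hB'.to_sup_of_normal_right hN
  have htop : (MulAut.conj g • A).subgroupOf H ⊔ Cfsg.pCore p H = ⊤ := by
    rw [eq_top_iff]
    have h1 : (⊤ : Subgroup H) = A.subgroupOf H ⊔ (MulAut.conj g • A).subgroupOf H := by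
      rw [← Subgroup.subgroupOf_sup hAH hBH, Subgroup.subgroupOf_self]
    rw [h1]
    exact sup_le (hle.trans le_sup_right) le_sup_left
  rw [htop] at hsup
  intro x
  obtain ⟨k, hk⟩ := hsup ⟨x, Subgroup.mem_top x⟩
  exact ⟨k, by simpa using congrArg Subtype.val hk⟩

/-- the hypothesis passes to quotients -/
theorem sbp_quotient {G : Type*} [Group G] {p : ℕ} (N : Subgroup G) [N.Normal] (A : Subgroup G)
    (h : ∀ c : G, ∃ g : G, IsConj c g ∧ IsPGroup p ↥(A ⊔ MulAut.conj g • A)) :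
    ∀ c : G ⧸ N, ∃ g : G ⧸ N, IsConj c g ∧
      IsPGroup p ↥(A.map (QuotientGroup.mk' N) ⊔ MulAut.conj g • A.map (QuotientGroup.mk' N)) := by
  intro c
  obtain ⟨c, rfl⟩ := QuotientGroup.mk_surjective c
  obtain ⟨g, hcg, hg⟩ := h c
  refine ⟨QuotientGroup.mk' N g, (QuotientGroup.mk' N).map_isConj hcg, ?_⟩
  have hle : A.map (QuotientGroup.mk' N) ⊔
      MulAut.conj (QuotientGroup.mk' N g) • A.map (QuotientGroup.mk' N) ≤
      (A ⊔ MulAut.conj g • A).map (QuotientGroup.mk' N) := by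
    apply sup_le
    · exact Subgroup.map_mono le_sup_left
    · intro x hx
      obtain ⟨s, hs, rfl⟩ := (Subgroup.mem_smul_pointwise_iff_exists _ _ _).mp hx
      obtain ⟨a, ha, rfl⟩ := hs
      refine ⟨g * a * g⁻¹, ?_, ?_⟩
      · apply (le_sup_right : MulAut.conj g • A ≤ _)
        have := Subgroup.smul_mem_pointwise_smul a (MulAut.conj g) A ha
        simpa [MulAut.smul_def] using this
      · simp [MulAut.smul_def]
  exact (hg.map (QuotientGroup.mk' N)).to_le hle

/-- the induction hypothesis, as a predicate on the order -/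
def SbpIH (p : ℕ) (n : ℕ) : Prop :=
  ∀ m < n, ∀ (G : Type u) [Group G] [Finite G], Nat.card G = m → Group.IsSolvable G →
    ∀ A : Subgroup G, IsPGroup p A →
    (∀ c : G, ∃ g : G, IsConj c g ∧ IsPGroup p ↥(A ⊔ MulAut.conj g • A)) → A ≤ Cfsg.pCore p G

theorem sbp_card_quotient_lt {G : Type*} [Group G] [Finite G] {N : Subgroup G} [N.Normal]
    (hN : N ≠ ⊥) : Nat.card (G ⧸ N) < Nat.card G := by
  have h1 := Subgroup.card_eq_card_quotient_mul_card_subgroup N
  have h2 : 1 < Nat.card N := by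
    rw [Finite.one_lt_card_iff_nontrivial]
    exact (Subgroup.nontrivial_iff_ne_bot N).mpr hN
  have h3 : 0 < Nat.card (G ⧸ N) := Nat.card_pos
  nlinarith

/-- case `O_p(G) ≠ 1` -/
theorem sbp_case1 {G : Type u} [Group G] [Finite G] {p : ℕ} [Fact p.Prime]
    (IH : SbpIH.{u} p (Nat.card G)) (hG : Group.IsSolvable G) (hne : Cfsg.pCore p G ≠ ⊥)
    (A : Subgroup G) (hA : IsPGroup p A)
    (h : ∀ c : G, ∃ g : G, IsConj c g ∧ IsPGroup p ↥(A ⊔ MulAut.conj g • A)) :
    A ≤ Cfsg.pCore p G := by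
  haveI : (Cfsg.pCore p G).Normal := Cfsg.Agent.Lib.helper17.pCore_normal p G
  haveI := hG
  set N := Cfsg.pCore p G with hN
  have hlt := sbp_card_quotient_lt hne
  have hbar := IH _ hlt (G ⧸ N) rfl inferInstance (A.map (QuotientGroup.mk' N))
    (hA.map _) (sbp_quotient N A h)
  set M : Subgroup G := (Cfsg.pCore p (G ⧸ N)).comap (QuotientGroup.mk' N) with hM
  haveI : (Cfsg.pCore p (G ⧸ N)).Normal := Cfsg.Agent.Lib.helper17.pCore_normal p _
  have hMn : M.Normal := Subgroup.Normal.comap inferInstance _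
  have hMp : IsPGroup p M := by
    apply (Cfsg.Agent.Lib.helper17.pCore_isPGroup p (G ⧸ N)).comap_of_ker_isPGroup
    rw [QuotientGroup.ker_mk']
    exact Cfsg.Agent.Lib.helper17.pCore_isPGroup p G
  have hAM : A ≤ M := by
    intro a ha
    rw [hM, Subgroup.mem_comap]
    exact hbar (Subgroup.mem_map_of_mem _ ha)
  exact hAM.trans (Cfsg.Agent.Lib.helper17.le_pCore hMn hMp)

theorem sbp_exists_abelian_normal {G : Type*} [Group G] [Nontrivial G] (hG : Group.IsSolvable G) :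
    ∃ V : Subgroup G, V.Normal ∧ V ≠ ⊥ ∧ ∀ a ∈ V, ∀ b ∈ V, a * b = b * a := by
  classical
  have hex : ∃ n : ℕ, derivedSeries G n = ⊥ := hG.solvable
  have hspec := Nat.find_spec hex
  have hmin := fun m (hm : m < Nat.find hex) => Nat.find_min hex hm
  set n := Nat.find hex with hn
  cases hn' : n with
  | zero =>
    rw [hn'] at hspec
    rw [derivedSeries_zero] at hspec
    exact absurd hspec (by simp)
  | succ m =>
    refine ⟨derivedSeries G m, inferInstance, hmin m (by omega), ?_⟩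
    rw [hn', derivedSeries_succ, Subgroup.commutator_eq_bot_iff_le_centralizer] at hspec
    intro a ha b hb
    exact ((Subgroup.mem_centralizer_iff.mp (hspec ha)) b hb).symm

theorem sbp_coprime {G : Type*} [Group G] [Finite G] {p : ℕ} [Fact p.Prime]
    (hcore : Cfsg.pCore p G = ⊥) {V : Subgroup G} (hVn : V.Normal)
    (hVc : ∀ a ∈ V, ∀ b ∈ V, a * b = b * a) : (Nat.card V).Coprime p := by
  have hp : p.Prime := Fact.out
  let Vp : Subgroup G :=
    { carrier := {v | v ∈ V ∧ ∃ k : ℕ, v ^ (p ^ k) = 1}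
      one_mem' := ⟨V.one_mem, 0, one_pow _⟩
      mul_mem' := by
        rintro v w ⟨hv, k, hk⟩ ⟨hw, l, hl⟩
        refine ⟨V.mul_mem hv hw, k + l, ?_⟩
        rw [(show Commute v w from hVc v hv w hw).mul_pow, pow_add, pow_mul, hk, one_pow,
          mul_comm (p ^ k), pow_mul, hl, one_pow, one_mul]
      inv_mem' := by
        rintro v ⟨hv, k, hk⟩
        exact ⟨V.inv_mem hv, k, by rw [inv_pow, hk, inv_one]⟩ }
  have hVpn : Vp.Normal := by
    refine ⟨fun v hv g => ?_⟩
    obtain ⟨hvV, k, hk⟩ := hv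
    exact ⟨hVn.conj_mem v hvV g, k, by rw [conj_pow, hk, mul_one, mul_inv_cancel]⟩
  have hVpp : IsPGroup p Vp := by
    rintro ⟨v, hv, k, hk⟩
    exact ⟨k, Subtype.ext (by simpa using hk)⟩
  have hbot : Vp ≤ ⊥ := hcore ▸ Cfsg.Agent.Lib.helper17.le_pCore hVpn hVpp
  rw [Nat.coprime_comm, hp.coprime_iff_not_dvd]
  intro hdvd
  obtain ⟨v, hv⟩ := exists_prime_orderOf_dvd_card' p hdvd
  have hvp : (v : G) ^ p = 1 := by
    have : v ^ p = 1 := by rw [← hv]; exact pow_orderOf_eq_one v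
    simpa using congrArg Subtype.val this
  have hmem : (v : G) ∈ Vp := ⟨v.2, 1, by rw [pow_one]; exact hvp⟩
  have h1 : (v : G) = 1 := Subgroup.mem_bot.mp (hbot hmem)
  have h2 : v = 1 := Subtype.ext h1
  rw [h2, orderOf_one] at hv
  exact hp.one_lt.ne hv

theorem sbp_eq_one_of_coprime {G : Type*} [Group G] {V : Subgroup G} [Finite V] {p : ℕ}
    (hcop : (Nat.card V).Coprime p) {e : G} (heV : e ∈ V) {k : ℕ} (hk : e ^ (p ^ k) = 1) :
    e = 1 := by
  have h1 : orderOf e ∣ p ^ k := orderOf_dvd_of_pow_eq_one hk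
  have h2 : orderOf e ∣ Nat.card V := by
    have : orderOf (⟨e, heV⟩ : V) ∣ Nat.card V := orderOf_dvd_natCard _
    rwa [Subgroup.orderOf_mk] at this
  have h3 : orderOf e ∣ 1 := by
    have := Nat.dvd_gcd h2 h1
    rwa [Nat.Coprime.pow_right k hcop] at this
  exact orderOf_eq_one_iff.mp (Nat.dvd_one.mp h3)

theorem sbp_act_trivial {G : Type u} [Group G] [Finite G] {p : ℕ} [Fact p.Prime] (hp2 : p ≠ 2)
    {V : Subgroup G} [hVn : V.Normal] (hVc : ∀ a ∈ V, ∀ b ∈ V, a * b = b * a)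
    (hcop : (Nat.card V).Coprime p)
    {K : Subgroup G} [hKn : K.Normal]
    (hKp : ∀ k ∈ K, ∃ j : ℕ, k ^ (p ^ j) ∈ V)
    (A : Subgroup G) (hAK : A ≤ K)
    (h : ∀ c : G, ∃ g : G, IsConj c g ∧ IsPGroup p ↥(A ⊔ MulAut.conj g • A)) :
    ∀ a ∈ A, ∀ v ∈ V, a * v * a⁻¹ = v := by
  classical
  letI : CommGroup V :=
    { (inferInstance : Group V) with mul_comm := fun a b => Subtype.ext (hVc a a.2 b b.2) }
  set φ : G →* MulAut V := MulAut.conjNormal with hφ
  have hφapp : ∀ (g : G) (w : V), ((φ g w : V) : G) = g * w * g⁻¹ := fun g w => rfl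
  have hφV : ∀ k ∈ V, φ k = 1 := by
    intro k hk
    ext w
    rw [hφapp, MulAut.one_apply, hVc k hk w w.2, mul_inv_cancel_right]
  by_contra hcon
  push Not at hcon
  obtain ⟨a, haA, v₀, hv₀, hav₀⟩ := hcon
  set Γ : Subgroup (MulAut V) := φ.range with hΓ
  set P : Subgroup (MulAut V) := K.map φ with hP
  have hPΓ : P ≤ Γ := by
    rintro _ ⟨k, -, rfl⟩
    exact ⟨k, rfl⟩
  have hPn : ∀ γ ∈ Γ, ∀ g ∈ P, γ * g * γ⁻¹ ∈ P := by
    rintro _ ⟨u, rfl⟩ _ ⟨k, hk, rfl⟩
    refine ⟨u * k * u⁻¹, hKn.conj_mem k hk u, ?_⟩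
    rw [map_mul, map_mul, map_inv]
  have hPp : IsPGroup p P := by
    rintro ⟨_, k, hk, rfl⟩
    obtain ⟨j, hj⟩ := hKp k hk
    refine ⟨j, Subtype.ext ?_⟩
    show (φ k) ^ (p ^ j) = 1
    rw [← map_pow]
    exact hφV _ hj
  have hxP : φ a ∈ P := ⟨a, hAK haA, rfl⟩
  have hx1 : φ a ≠ 1 := by
    intro h1
    apply hav₀
    have := congrArg (fun f : MulAut V => ((f ⟨v₀, hv₀⟩ : V) : G)) h1
    simpa [hφapp] using this
  obtain ⟨v, hv⟩ := spv_main hp2 (Nat.card V) V rfl hcop Γ P hPΓ hPn hPp (φ a) hxP hx1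
  obtain ⟨g, hcg, hT⟩ := h (v : G)
  obtain ⟨u, hu⟩ := isConj_iff.mp hcg
  have hgV : g ∈ V := by rw [← hu]; exact hVn.conj_mem _ v.2 u
  set T : Subgroup G := A ⊔ MulAut.conj g • A with hTdef
  set e : G := a⁻¹ * (g * a * g⁻¹) with he
  have heT : e ∈ T := by
    apply T.mul_mem
    · exact (le_sup_left : A ≤ T) (A.inv_mem haA)
    · apply (le_sup_right : MulAut.conj g • A ≤ T)
      have := Subgroup.smul_mem_pointwise_smul a (MulAut.conj g) A haA
      simpa [MulAut.smul_def] using this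
  have heV : e ∈ V := by
    have h1 : a⁻¹ * g * a⁻¹⁻¹ ∈ V := hVn.conj_mem g hgV a⁻¹
    have h2 : e = (a⁻¹ * g * a⁻¹⁻¹) * g⁻¹ := by rw [he]; group
    rw [h2]
    exact V.mul_mem h1 (V.inv_mem hgV)
  obtain ⟨k, hk⟩ := hT ⟨e, heT⟩
  have hk' : e ^ (p ^ k) = 1 := by simpa using congrArg Subtype.val hk
  have he1 : e = 1 := sbp_eq_one_of_coprime hcop heV hk'
  have hcomm : a * g * a⁻¹ = g := by
    have h1 : g * a * g⁻¹ = a := by
      have : a * e = a := by rw [he1, mul_one]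
      rw [he] at this
      rwa [mul_inv_cancel_left] at this
    have h2 : g * a = a * g := by
      have := congrArg (· * g) h1
      simpa using this
    rw [← h2, mul_inv_cancel_right]
  apply hv (φ u⁻¹) ⟨u⁻¹, rfl⟩
  have hconj : φ u⁻¹ * φ a * (φ u⁻¹)⁻¹ = φ (u⁻¹ * a * u) := by
    rw [map_mul, map_mul, map_inv, inv_inv]
  rw [hconj]
  apply Subtype.ext
  rw [hφapp]
  have h3 : (v : G) = u⁻¹ * g * u := by rw [← hu]; group
  calc u⁻¹ * a * u * (v : G) * (u⁻¹ * a * u)⁻¹
      = u⁻¹ * (a * (u * (v : G) * u⁻¹) * a⁻¹) * u := by group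
    _ = u⁻¹ * (a * g * a⁻¹) * u := by rw [hu]
    _ = (v : G) := by rw [hcomm, h3]

/-- case `O_p(G) = 1` -/
theorem sbp_case2 {G : Type u} [Group G] [Finite G] {p : ℕ} [Fact p.Prime] (hp2 : p ≠ 2)
    (IH : SbpIH.{u} p (Nat.card G)) (hG : Group.IsSolvable G) (hcore : Cfsg.pCore p G = ⊥)
    (A : Subgroup G) (hA : IsPGroup p A)
    (h : ∀ c : G, ∃ g : G, IsConj c g ∧ IsPGroup p ↥(A ⊔ MulAut.conj g • A)) :
    A ≤ ⊥ := by
  classical
  haveI := hG
  rcases subsingleton_or_nontrivial G with hsub | hnt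
  · intro a _
    exact Subgroup.mem_bot.mpr (Subsingleton.elim a 1)
  obtain ⟨V, hVn, hVne, hVc⟩ := sbp_exists_abelian_normal hG
  haveI := hVn
  have hcop := sbp_coprime hcore hVn hVc
  have hlt := sbp_card_quotient_lt hVne
  have hbar := IH _ hlt (G ⧸ V) rfl inferInstance (A.map (QuotientGroup.mk' V))
    (hA.map _) (sbp_quotient V A h)
  set R := Cfsg.pCore p (G ⧸ V) with hR
  haveI : R.Normal := Cfsg.Agent.Lib.helper17.pCore_normal p _
  have hRp : IsPGroup p R := Cfsg.Agent.Lib.helper17.pCore_isPGroup p _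
  set K : Subgroup G := R.comap (QuotientGroup.mk' V) with hK
  haveI hKn : K.Normal := Subgroup.Normal.comap inferInstance _
  have hAK : A ≤ K := by
    intro a ha
    rw [hK, Subgroup.mem_comap]
    exact hbar (Subgroup.mem_map_of_mem _ ha)
  have hKp : ∀ k ∈ K, ∃ j : ℕ, k ^ (p ^ j) ∈ V := by
    intro k hk
    obtain ⟨j, hj⟩ := hRp ⟨QuotientGroup.mk' V k, hk⟩
    refine ⟨j, ?_⟩
    have h1 : (QuotientGroup.mk' V k) ^ (p ^ j) = 1 := by simpa using congrArg Subtype.val hj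
    rw [← map_pow, QuotientGroup.mk'_apply, QuotientGroup.eq_one_iff] at h1
    exact h1
  have htriv := sbp_act_trivial hp2 hVc hcop hKp A hAK h
  -- the subgroup C
  set C : Subgroup G := K ⊓ Subgroup.centralizer (V : Set G) with hC
  haveI hCn : C.Normal := by
    haveI : (Subgroup.centralizer (V : Set G)).Normal := Subgroup.normal_centralizer (H := V)
    exact Subgroup.normal_inf_normal _ _
  have hAC : A ≤ C := by
    intro a ha
    refine Subgroup.mem_inf.mpr ⟨hAK ha, ?_⟩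
    rw [Subgroup.mem_centralizer_iff]
    intro v hv
    have := htriv a ha v hv
    calc v * a = (a * v * a⁻¹) * a := by rw [this]
      _ = a * v := by group
  -- C is nilpotent
  let f : C →* G ⧸ V := (QuotientGroup.mk' V).comp C.subtype
  have hker : f.rangeRestrict.ker ≤ Subgroup.center C := by
    intro c hc
    rw [MonoidHom.ker_rangeRestrict, MonoidHom.mem_ker] at hc
    have hcV : (c : G) ∈ V := by
      have : QuotientGroup.mk' V (c : G) = 1 := hc
      rwa [QuotientGroup.mk'_apply, QuotientGroup.eq_one_iff] at this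
    rw [Subgroup.mem_center_iff]
    intro c'
    have hc' : (c' : G) ∈ Subgroup.centralizer (V : Set G) := (Subgroup.mem_inf.mp c'.2).2
    apply Subtype.ext
    exact ((Subgroup.mem_centralizer_iff.mp hc') _ hcV).symm
  have hrange : IsPGroup p f.range := by
    apply hRp.to_le
    rintro _ ⟨c, rfl⟩
    exact (Subgroup.mem_inf.mp c.2).1
  haveI : Group.IsNilpotent f.range := hrange.isNilpotent
  haveI hCnil : Group.IsNilpotent C := Subgroup.isNilpotent_of_ker_le_center f.rangeRestrict hker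
  obtain ⟨Q, hQ⟩ := (hA.comap_subtype : IsPGroup p (A.subgroupOf C)).exists_le_sylow
  have hQn : (Q : Subgroup C).Normal := inferInstance
  haveI := Sylow.characteristic_of_normal Q hQn
  have hQmn : ((Q : Subgroup C).map C.subtype).Normal := inferInstance
  have hQmp : IsPGroup p ((Q : Subgroup C).map C.subtype) := Q.isPGroup'.map _
  have hQbot : (Q : Subgroup C).map C.subtype ≤ ⊥ :=
    hcore ▸ Cfsg.Agent.Lib.helper17.le_pCore hQmn hQmp
  intro a ha
  apply hQbot
  refine ⟨⟨a, hAC ha⟩, hQ ?_, rfl⟩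
  show (⟨a, hAC ha⟩ : C) ∈ A.subgroupOf C
  rw [Subgroup.mem_subgroupOf]
  exact ha

/-- the main theorem, by induction on the order -/
theorem sbp_main {p : ℕ} [Fact p.Prime] (hp2 : p ≠ 2) :
    ∀ (n : ℕ) (G : Type u) [Group G] [Finite G], Nat.card G = n → Group.IsSolvable G →
      ∀ A : Subgroup G, IsPGroup p A →
      (∀ c : G, ∃ g : G, IsConj c g ∧ IsPGroup p ↥(A ⊔ MulAut.conj g • A)) →
      A ≤ Cfsg.pCore p G := by
  intro n
  induction n using Nat.strong_induction_on with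
  | _ n ih =>
  intro G _ _ hn hG A hA h
  have IH : SbpIH.{u} p (Nat.card G) := by
    intro m hm G' _ _ hm' hG' A' hA' h'
    exact ih m (hn ▸ hm) G' hm' hG' A' hA' h'
  by_cases hcore : Cfsg.pCore p G = ⊥
  · rw [hcore]
    exact sbp_case2 hp2 IH hG hcore A hA h
  · exact sbp_case1 IH hG hcore A hA h

end Cfsg.Agent.Lib.helper3
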