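import Mathlib
import Cfsg.Prelude.Def_LieExceptional
import Cfsg.Agent.Lib.helper3.SuzukiCovE

set_option autoImplicit false

namespace Cfsg.Agent.Lib.helper3

open Polynomial Matrix
open scoped Pointwise

/-! ### A free subgroup of `GL₂(𝔽₂[X])` by ping-pong -/

theorem two_eq_zero_S : (2 : (ZMod 2)[X]) = 0 := CharTwo.two_eq_zero

theorem uA_aux1 {R : Type*} [CommRing R] (h2 : (2 : R) = 0) (f : R) :
    !![1 + f ^ 2, f; f, 1] * !![1, f; f, 1 + f ^ 2] = (1 : Matrix (Fin 2) (Fin 2) R) := by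
  apply Matrix.ext
  intro i j
  fin_cases i <;> fin_cases j <;> simp [Matrix.mul_apply, Fin.sum_univ_two]
  · linear_combination f ^ 2 * h2
  · linear_combination (f + f ^ 3) * h2
  · linear_combination f * h2
  · linear_combination f ^ 2 * h2

theorem uA_aux2 {R : Type*} [CommRing R] (h2 : (2 : R) = 0) (f : R) :
    !![1, f; f, 1 + f ^ 2] * !![1 + f ^ 2, f; f, 1] = (1 : Matrix (Fin 2) (Fin 2) R) := by
  apply Matrix.ext
  intro i j
  fin_cases i <;> fin_cases j <;> simp [Matrix.mul_apply, Fin.sum_univ_two]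
  · linear_combination f ^ 2 * h2
  · linear_combination f * h2
  · linear_combination (f + f ^ 3) * h2
  · linear_combination f ^ 2 * h2

/-- the hyperbolic generators -/
noncomputable def uA (f : (ZMod 2)[X]) : GL (Fin 2) (ZMod 2)[X] :=
  ⟨!![1 + f ^ 2, f; f, 1], !![1, f; f, 1 + f ^ 2], uA_aux1 two_eq_zero_S f, uA_aux2 two_eq_zero_S f⟩

theorem uA_inv (f : (ZMod 2)[X]) :
    ((uA f)⁻¹ : GL (Fin 2) (ZMod 2)[X]).1 = !![1, f; f, 1 + f ^ 2] := rfl

theorem col_ne_zero (M : GL (Fin 2) (ZMod 2)[X]) : ¬ (M.1 0 0 = 0 ∧ M.1 1 0 = 0) := by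
  rintro ⟨h0, h1⟩
  have hdet : IsUnit (M.1.det) := (Matrix.isUnit_iff_isUnit_det _).1 M.isUnit
  rw [Matrix.det_fin_two, h0, h1] at hdet
  simp at hdet

/-- ping -/
theorem deg_ping {f p q : (ZMod 2)[X]} (hf : 0 < degree f) (hpq : ¬ (p = 0 ∧ q = 0))
    (h : ¬ degree (f * p + q) < degree q) : degree p < degree (f * p + q) := by
  by_cases hp : p = 0
  · subst hp
    have hq : q ≠ 0 := fun hq => hpq ⟨rfl, hq⟩
    rw [mul_zero, zero_add, degree_zero]
    exact bot_lt_iff_ne_bot.2 (fun h' => hq (degree_eq_bot.1 h'))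
  · have hf0 : f ≠ 0 := by rintro rfl; simp at hf
    have h1 : degree p < degree (f * p) := by
      rw [degree_mul, degree_eq_natDegree hf0, degree_eq_natDegree hp] at *
      have : 0 < natDegree f := by exact_mod_cast hf
      exact_mod_cast (by omega : natDegree p < natDegree f + natDegree p)
    rcases lt_trichotomy (degree (f * p)) (degree q) with h2 | h2 | h2
    · rw [degree_add_eq_right_of_degree_lt h2]
      exact h1.trans h2
    · push Not at h
      rw [← h2] at h
      exact h1.trans_le h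
    · rw [degree_add_eq_left_of_degree_lt h2]
      exact h1

/-- pong -/
theorem deg_pong {f p q : (ZMod 2)[X]} (hf : 0 < degree f) (hpq : ¬ (p = 0 ∧ q = 0))
    (h : ¬ degree (p + f * q) < degree q) : degree q < degree (q + f * (p + f * q)) := by
  push Not at h
  have hf0 : f ≠ 0 := by rintro rfl; simp at hf
  by_cases hr : p + f * q = 0
  · exfalso
    rw [hr, degree_zero, le_bot_iff, degree_eq_bot] at h
    subst h
    rw [mul_zero, add_zero] at hr
    exact hpq ⟨hr, rfl⟩
  · have h1 : degree (p + f * q) < degree (f * (p + f * q)) := by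
      rw [degree_mul, degree_eq_natDegree hf0, degree_eq_natDegree hr]
      have : 0 < natDegree f := by
        rw [degree_eq_natDegree hf0] at hf; exact_mod_cast hf
      exact_mod_cast (by omega : natDegree (p + f * q) < natDegree f + natDegree (p + f * q))
    have h2 : degree q < degree (f * (p + f * q)) := h.trans_lt h1
    rw [degree_add_eq_right_of_degree_lt h2]
    exact h2

theorem deg_eq_of_add_lt {a b : (ZMod 2)[X]} (h : degree (a + b) < degree b) :
    a ≠ 0 ∧ b ≠ 0 ∧ natDegree a = natDegree b := by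
  have hb : b ≠ 0 := by
    rintro rfl
    rw [degree_zero] at h
    exact not_lt_bot h
  have hdeg : degree a = degree b := by
    rcases lt_trichotomy (degree a) (degree b) with h1 | h1 | h1
    · rw [degree_add_eq_right_of_degree_lt h1] at h
      exact absurd h (lt_irrefl _)
    · exact h1
    · rw [degree_add_eq_left_of_degree_lt h1] at h
      exact absurd (h.trans h1) (lt_irrefl _)
  have ha : a ≠ 0 := by
    rintro rfl
    rw [degree_zero] at hdeg
    exact hb (degree_eq_bot.1 hdeg.symm)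
  refine ⟨ha, hb, ?_⟩
  rw [degree_eq_natDegree ha, degree_eq_natDegree hb] at hdeg
  exact_mod_cast hdeg

/-- the attracting sets -/
def pX (i : ℕ) : Set (GL (Fin 2) (ZMod 2)[X]) :=
  {M | degree (M.1 0 0 + X ^ (i + 1) * M.1 1 0) < degree (M.1 1 0)}

/-- the repelling sets -/
def pY (i : ℕ) : Set (GL (Fin 2) (ZMod 2)[X]) :=
  {M | degree (X ^ (i + 1) * M.1 0 0 + M.1 1 0) < degree (M.1 1 0)}

theorem natDegree_X_pow_mul {n : ℕ} {q : (ZMod 2)[X]} (hq : q ≠ 0) :
    natDegree (X ^ n * q) = n + natDegree q := by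
  rw [natDegree_mul (pow_ne_zero _ X_ne_zero) hq, natDegree_X_pow]

theorem lift_uA_injective :
    Function.Injective (FreeGroup.lift (fun i : ℕ => uA (X ^ (i + 1)))) := by
  have h2 := two_eq_zero_S
  have hdegX : ∀ i : ℕ, 0 < degree ((X : (ZMod 2)[X]) ^ (i + 1)) := by
    intro i
    rw [degree_X_pow]
    exact_mod_cast Nat.succ_pos i
  have hX : ∀ i, (fun i : ℕ => uA (X ^ (i + 1))) i • (pY i)ᶜ ⊆ pX i := by
    intro i M hM
    obtain ⟨N, hN, rfl⟩ := hM
    show degree (_ + _) < degree _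
    have e00 : ((uA (X ^ (i + 1)) * N : GL (Fin 2) (ZMod 2)[X])).1 0 0 =
        (1 + (X ^ (i + 1)) ^ 2) * N.1 0 0 + X ^ (i + 1) * N.1 1 0 := by
      simp [uA, Matrix.mul_apply, Fin.sum_univ_two]
    have e10 : ((uA (X ^ (i + 1)) * N : GL (Fin 2) (ZMod 2)[X])).1 1 0 =
        X ^ (i + 1) * N.1 0 0 + N.1 1 0 := by
      simp [uA, Matrix.mul_apply, Fin.sum_univ_two]
    have e : ((uA (X ^ (i + 1)) * N : GL (Fin 2) (ZMod 2)[X])).1 0 0 +
        X ^ (i + 1) * ((uA (X ^ (i + 1)) * N : GL (Fin 2) (ZMod 2)[X])).1 1 0 = N.1 0 0 := by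
      rw [e00, e10]
      linear_combination ((X ^ (i + 1)) ^ 2 * N.1 0 0 + X ^ (i + 1) * N.1 1 0) * h2
    change degree (((uA (X ^ (i + 1)) * N : GL (Fin 2) (ZMod 2)[X])).1 0 0 +
        X ^ (i + 1) * ((uA (X ^ (i + 1)) * N : GL (Fin 2) (ZMod 2)[X])).1 1 0) <
      degree (((uA (X ^ (i + 1)) * N : GL (Fin 2) (ZMod 2)[X])).1 1 0)
    rw [e, e10]
    exact deg_ping (hdegX i) (col_ne_zero N) hN
  have hY : ∀ i, (fun i : ℕ => uA (X ^ (i + 1)))⁻¹ i • (pX i)ᶜ ⊆ pY i := by
    intro i M hM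
    obtain ⟨N, hN, rfl⟩ := hM
    have e00 : (((uA (X ^ (i + 1)))⁻¹ * N : GL (Fin 2) (ZMod 2)[X])).1 0 0 =
        N.1 0 0 + X ^ (i + 1) * N.1 1 0 := by
      rw [Units.val_mul, uA_inv]
      simp [Matrix.mul_apply, Fin.sum_univ_two]
    have e10 : (((uA (X ^ (i + 1)))⁻¹ * N : GL (Fin 2) (ZMod 2)[X])).1 1 0 =
        X ^ (i + 1) * N.1 0 0 + (1 + (X ^ (i + 1)) ^ 2) * N.1 1 0 := by
      rw [Units.val_mul, uA_inv]
      simp [Matrix.mul_apply, Fin.sum_univ_two]
    have e10' : (((uA (X ^ (i + 1)))⁻¹ * N : GL (Fin 2) (ZMod 2)[X])).1 1 0 =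
        N.1 1 0 + X ^ (i + 1) * (N.1 0 0 + X ^ (i + 1) * N.1 1 0) := by
      rw [e10]; ring
    have e : X ^ (i + 1) * (((uA (X ^ (i + 1)))⁻¹ * N : GL (Fin 2) (ZMod 2)[X])).1 0 0 +
        (((uA (X ^ (i + 1)))⁻¹ * N : GL (Fin 2) (ZMod 2)[X])).1 1 0 = N.1 1 0 := by
      rw [e00, e10]
      linear_combination (X ^ (i + 1) * N.1 0 0 + (X ^ (i + 1)) ^ 2 * N.1 1 0) * h2
    change degree (X ^ (i + 1) * (((uA (X ^ (i + 1)))⁻¹ * N : GL (Fin 2) (ZMod 2)[X])).1 0 0 +
        (((uA (X ^ (i + 1)))⁻¹ * N : GL (Fin 2) (ZMod 2)[X])).1 1 0) <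
      degree ((((uA (X ^ (i + 1)))⁻¹ * N : GL (Fin 2) (ZMod 2)[X])).1 1 0)
    rw [e, e10']
    exact deg_pong (hdegX i) (col_ne_zero N) hN
  refine FreeGroup.injective_lift_of_ping_pong (fun i : ℕ => uA (X ^ (i + 1))) pX pY
    ?_ ?_ ?_ ?_ hX hY
  · intro i
    refine ⟨uA (X ^ (i + 1)) * 1, hX i ⟨1, ?_, rfl⟩⟩
    show ¬ degree (_ + _) < degree _
    simp
  · intro i j hij
    rw [Function.onFun, Set.disjoint_left]
    intro M h1 h2'
    have h1' : degree (M.1 0 0 + X ^ (i + 1) * M.1 1 0) < degree (M.1 1 0) := h1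
    have h2'' : degree (M.1 0 0 + X ^ (j + 1) * M.1 1 0) < degree (M.1 1 0) := h2'
    have hq : M.1 1 0 ≠ 0 := by
      intro hq
      rw [hq, degree_zero] at h1'
      exact not_lt_bot h1'
    have hs : (M.1 0 0 + X ^ (i + 1) * M.1 1 0) + (M.1 0 0 + X ^ (j + 1) * M.1 1 0) =
        (X ^ (i + 1) + X ^ (j + 1)) * M.1 1 0 := by
      linear_combination M.1 0 0 * h2
    have hlt : degree ((X ^ (i + 1) + X ^ (j + 1)) * M.1 1 0) < degree (M.1 1 0) := by
      rw [← hs]
      exact lt_of_le_of_lt (degree_add_le _ _) (max_lt h1' h2'')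
    have hne : (X : (ZMod 2)[X]) ^ (i + 1) + X ^ (j + 1) ≠ 0 := by
      intro h0
      have := congrArg (fun r => coeff r (i + 1)) h0
      simp only [coeff_add, coeff_X_pow, coeff_zero] at this
      rw [if_pos trivial, if_neg (by omega)] at this
      simp at this
    rw [degree_mul] at hlt
    have hge : degree (M.1 1 0) ≤ degree ((X : (ZMod 2)[X]) ^ (i + 1) + X ^ (j + 1)) +
        degree (M.1 1 0) := by
      apply le_add_of_nonneg_left
      rw [degree_eq_natDegree hne]
      exact_mod_cast Nat.zero_le _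
    exact absurd (lt_of_le_of_lt hge hlt) (lt_irrefl _)
  · intro i j hij
    rw [Function.onFun, Set.disjoint_left]
    intro M h1 h2'
    have h1' : degree (X ^ (i + 1) * M.1 0 0 + M.1 1 0) < degree (M.1 1 0) := h1
    have h2'' : degree (X ^ (j + 1) * M.1 0 0 + M.1 1 0) < degree (M.1 1 0) := h2'
    obtain ⟨ha, hb, hab⟩ := deg_eq_of_add_lt h1'
    obtain ⟨ha', -, hab'⟩ := deg_eq_of_add_lt h2''
    have hp : M.1 0 0 ≠ 0 := by
      intro hp
      rw [hp, mul_zero] at ha
      exact ha rfl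
    rw [natDegree_X_pow_mul hp] at hab hab'
    omega
  · intro i j
    rw [Set.disjoint_left]
    intro M h1 h2'
    have h1' : degree (M.1 0 0 + X ^ (i + 1) * M.1 1 0) < degree (M.1 1 0) := h1
    have h2'' : degree (X ^ (j + 1) * M.1 0 0 + M.1 1 0) < degree (M.1 1 0) := h2'
    obtain ⟨ha', hq, hab'⟩ := deg_eq_of_add_lt h2''
    have hp : M.1 0 0 ≠ 0 := by
      intro hp
      rw [hp, mul_zero] at ha'
      exact ha' rfl
    have hle : degree (M.1 1 0) ≤ degree (X ^ (i + 1) * M.1 1 0) := by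
      rw [degree_mul]
      apply le_add_of_nonneg_left
      rw [degree_X_pow]
      exact_mod_cast Nat.zero_le _
    obtain ⟨-, -, hab⟩ := deg_eq_of_add_lt (lt_of_lt_of_le h1' hle)
    rw [natDegree_X_pow_mul hp] at hab'
    rw [natDegree_X_pow_mul hq] at hab
    omega

/-! ### Generic Suzuki matrices -/

section generic

variable {R : Type*} [CommRing R]

/-- the generic translation matrix (with `α` in the role of the twisted parameter) -/
def gTm (a α : R) : Matrix (Fin 4) (Fin 4) R :=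
  !![1, a, a * α, a ^ 2 * α; 0, 1, α, 0; 0, 0, 1, a; 0, 0, 0, 1]

/-- its inverse in characteristic two -/
def gTmInv (a α : R) : Matrix (Fin 4) (Fin 4) R :=
  !![1, a, 0, a ^ 2 * α; 0, 1, α, a * α; 0, 0, 1, a; 0, 0, 0, 1]

/-- the generic inversion matrix -/
def gJm : Matrix (Fin 4) (Fin 4) R :=
  !![0, 0, 0, 1; 0, 0, 1, 0; 0, 1, 0, 0; 1, 0, 0, 0]

theorem gTm_mul_inv (h2 : (2 : R) = 0) (a α : R) : gTm a α * gTmInv a α = 1 := by
  apply Matrix.ext
  intro i j
  fin_cases i <;> fin_cases j <;>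
    simp [gTm, gTmInv, Matrix.mul_apply, Fin.sum_univ_four] <;>
    first
    | linear_combination a * h2
    | linear_combination (a * α) * h2
    | linear_combination (a ^ 2 * α) * h2
    | linear_combination (2 * a ^ 2 * α) * h2
    | linear_combination α * h2

theorem gTmInv_mul (h2 : (2 : R) = 0) (a α : R) : gTmInv a α * gTm a α = 1 := by
  apply Matrix.ext
  intro i j
  fin_cases i <;> fin_cases j <;>
    simp [gTm, gTmInv, Matrix.mul_apply, Fin.sum_univ_four] <;>
    first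
    | linear_combination a * h2
    | linear_combination (a * α) * h2
    | linear_combination (a ^ 2 * α) * h2
    | linear_combination (2 * a ^ 2 * α) * h2
    | linear_combination α * h2

theorem gJm_mul_self : (gJm : Matrix (Fin 4) (Fin 4) R) * gJm = 1 := by
  apply Matrix.ext
  intro i j
  fin_cases i <;> fin_cases j <;> simp [gJm, Matrix.mul_apply, Fin.sum_univ_four]

/-- generic translation as a unit -/
def gTu (h2 : (2 : R) = 0) (a α : R) : GL (Fin 4) R :=
  ⟨gTm a α, gTmInv a α, gTm_mul_inv h2 a α, gTmInv_mul h2 a α⟩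

/-- generic inversion as a unit -/
def gJu : GL (Fin 4) R := ⟨gJm, gJm, gJm_mul_self, gJm_mul_self⟩

/-- the generic hyperbolic element -/
def gH (h2 : (2 : R) = 0) (a α : R) : GL (Fin 4) R :=
  gTu h2 a α * gJu * gTu h2 a α * gJu

variable {R' : Type*} [CommRing R']

theorem map_gTu (φ : R →+* R') (h2 : (2 : R) = 0) (h2' : (2 : R') = 0) (a α : R) :
    Matrix.GeneralLinearGroup.map φ (gTu h2 a α) = gTu h2' (φ a) (φ α) := by
  apply Units.ext
  apply Matrix.ext
  intro i j
  fin_cases i <;> fin_cases j <;> simp [gTu, gTm]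

theorem map_gJu (φ : R →+* R') :
    Matrix.GeneralLinearGroup.map φ (gJu : GL (Fin 4) R) = gJu := by
  apply Units.ext
  apply Matrix.ext
  intro i j
  fin_cases i <;> fin_cases j <;> simp [gJu, gJm]

theorem map_gH (φ : R →+* R') (h2 : (2 : R) = 0) (h2' : (2 : R') = 0) (a α : R) :
    Matrix.GeneralLinearGroup.map φ (gH h2 a α) = gH h2' (φ a) (φ α) := by
  unfold gH
  rw [map_mul, map_mul, map_mul, map_gTu φ h2 h2', map_gJu]

/-- the block embedding of `2 × 2` matrices -/
def blk : Matrix (Fin 2) (Fin 2) R →* Matrix (Fin 4) (Fin 4) R where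
  toFun A := !![1, 0, 0, 0; 0, A 0 0, A 0 1, 0; 0, A 1 0, A 1 1, 0; 0, 0, 0, 1]
  map_one' := by
    apply Matrix.ext
    intro i j
    fin_cases i <;> fin_cases j <;> simp
  map_mul' A B := by
    apply Matrix.ext
    intro i j
    fin_cases i <;> fin_cases j <;> simp [Matrix.mul_apply, Fin.sum_univ_four, Fin.sum_univ_two]

/-- the block embedding of `GL₂` in `GL₄` -/
def blkU : GL (Fin 2) R →* GL (Fin 4) R := Units.map blk

theorem blkU_injective : Function.Injective (blkU : GL (Fin 2) R →* GL (Fin 4) R) := by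
  intro A B h
  apply Units.ext
  have h' : blk A.1 = blk B.1 := congrArg Units.val h
  apply Matrix.ext
  intro i j
  fin_cases i <;> fin_cases j
  · simpa [blk] using congrFun (congrFun h' 1) 1
  · simpa [blk] using congrFun (congrFun h' 1) 2
  · simpa [blk] using congrFun (congrFun h' 2) 1
  · simpa [blk] using congrFun (congrFun h' 2) 2

end generic

theorem gH_zero (s : (ZMod 2)[X]) : gH two_eq_zero_S 0 s = blkU (uA s) := by
  apply Units.ext
  apply Matrix.ext
  intro i j
  fin_cases i <;> fin_cases j <;>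
    simp [gH, gTu, gJu, gTm, gJm, blkU, blk, uA, Matrix.mul_apply, Fin.sum_univ_four]
  ring

end Cfsg.Agent.Lib.helper3
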