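import Mathlib
import Cfsg.Prelude.Def_LieExceptional
import Cfsg.Agent.Lib.helper3.SuzukiLawA

set_option autoImplicit false

namespace Cfsg.Agent.Lib.helper3

open Polynomial Matrix

/-! ### Substituting a high power of the variable -/

theorem eval_X_pow_eq_zero {K : Type*} [Field K] (e : ℕ) :
    ∀ (n : ℕ) (P : K[X][X]), natDegree P ≤ n → (∀ j, natDegree (P.coeff j) < e) →
      P.eval (X ^ e) = 0 → P = 0 := by
  intro n
  induction n with
  | zero =>
    intro P hP _ h0
    have hC := eq_C_of_natDegree_le_zero hP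
    rw [hC, eval_C] at h0
    rw [hC, h0, C_0]
  | succ n ih =>
    intro P hP hco h0
    have hdec := divX_mul_X_add P
    rw [← hdec, eval_add, eval_mul, eval_X, eval_C] at h0
    have hc0 : P.coeff 0 = 0 := by
      by_contra hne
      have hdvd : (X : K[X]) ^ e ∣ P.coeff 0 :=
        ⟨-(divX P).eval (X ^ e), by linear_combination h0⟩
      have := natDegree_le_of_dvd hdvd hne
      rw [natDegree_X_pow] at this
      exact absurd (hco 0) (not_lt.2 this)
    rw [hc0, add_zero] at h0
    have hQ : (divX P).eval (X ^ e) = 0 := by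
      rcases mul_eq_zero.1 h0 with h | h
      · exact h
      · exact absurd h (pow_ne_zero _ X_ne_zero)
    have hQ0 : divX P = 0 := by
      apply ih _ _ _ hQ
      · rw [natDegree_divX_eq_natDegree_tsub_one]
        omega
      · intro j
        rw [coeff_divX]
        exact hco _
    rw [← hdec, hQ0, hc0, zero_mul, C_0, add_zero]

theorem natDegree_eval_X_pow_le {K : Type*} [Field K] (e D : ℕ) (P : K[X][X])
    (hco : ∀ j, natDegree (P.coeff j) ≤ D) :
    natDegree (P.eval (X ^ e)) ≤ D + e * natDegree P := by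
  rw [eval_eq_sum_range]
  apply natDegree_sum_le_of_forall_le
  intro j hj
  rw [Finset.mem_range] at hj
  refine le_trans natDegree_mul_le ?_
  rw [← pow_mul, natDegree_X_pow]
  have : e * j ≤ e * natDegree P := Nat.mul_le_mul_left _ (by omega)
  have := hco j
  omega

/-- a non-zero polynomial of small degree over a finite field has a non-root -/
theorem exists_eval₂_ne_zero {F : Type*} [Field F] [Fintype F] (c : ZMod 2 →+* F)
    (p : (ZMod 2)[X]) (hp : p ≠ 0) (hdeg : natDegree p < Fintype.card F) :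
    ∃ t : F, eval₂ c t p ≠ 0 := by
  by_contra hcon
  push Not at hcon
  have hmap : p.map c = 0 := by
    apply eq_zero_of_natDegree_lt_card_of_eval_eq_zero (p.map c) Function.injective_id
    · intro t
      rw [eval_map]
      exact hcon t
    · rw [natDegree_map]
      exact hdeg
  exact hp ((Polynomial.map_eq_zero c).1 hmap)

/-! ### The generic word and its two specialisations -/

theorem two_eq_zero_R : (2 : (ZMod 2)[X][X]) = 0 := CharTwo.two_eq_zero

/-- generic generators -/
noncomputable def genH (i : ℕ) : GL (Fin 4) (ZMod 2)[X][X] :=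
  gH two_eq_zero_R ((C X) ^ (i + 1)) (X ^ (i + 1))

/-- the specialisation killing the inner variable -/
noncomputable def fakeHom : (ZMod 2)[X][X] →+* (ZMod 2)[X] :=
  Polynomial.mapRingHom (Polynomial.evalRingHom (0 : ZMod 2))

theorem fakeHom_genH (i : ℕ) :
    Matrix.GeneralLinearGroup.map fakeHom (genH i) = blkU (uA (X ^ (i + 1))) := by
  unfold genH
  rw [map_gH fakeHom two_eq_zero_R two_eq_zero_S, ← gH_zero]
  congr 1
  · simp [fakeHom]
  · simp [fakeHom]

theorem genWord_ne_one (w : FreeGroup ℕ) (hw : w ≠ 1) : FreeGroup.lift genH w ≠ 1 := by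
  intro h
  have hcomp : (Matrix.GeneralLinearGroup.map fakeHom).comp (FreeGroup.lift genH) =
      (blkU : GL (Fin 2) (ZMod 2)[X] →* GL (Fin 4) (ZMod 2)[X]).comp
        (FreeGroup.lift (fun i : ℕ => uA (X ^ (i + 1)))) := by
    apply FreeGroup.ext_hom
    intro i
    simp only [MonoidHom.comp_apply, FreeGroup.lift_apply_of]
    exact fakeHom_genH i
  have h1 := DFunLike.congr_fun hcomp w
  simp only [MonoidHom.comp_apply] at h1
  rw [h, map_one] at h1
  have h2 := blkU_injective (h1.symm.trans (map_one _).symm)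
  exact hw (lift_uA_injective (h2.trans (map_one _).symm))

section real

variable {F : Type*} [Field F]

/-- the specialisation to a field element and its twist -/
noncomputable def realHom (c : ZMod 2 →+* F) (e : ℕ) (t : F) : (ZMod 2)[X][X] →+* F :=
  (Polynomial.eval₂RingHom c t).comp (Polynomial.evalRingHom (X ^ e))

theorem realHom_apply (c : ZMod 2 →+* F) (e : ℕ) (t : F) (P : (ZMod 2)[X][X]) :
    realHom c e t P = eval₂ c t (P.eval (X ^ e)) := rfl

theorem realHom_CX (c : ZMod 2 →+* F) (e : ℕ) (t : F) : realHom c e t (C X) = t := by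
  rw [realHom_apply, eval_C, eval₂_X]

theorem realHom_X (c : ZMod 2 →+* F) (e : ℕ) (t : F) : realHom c e t X = t ^ e := by
  rw [realHom_apply, eval_X, eval₂_pow, eval₂_X]

variable [Fintype F] {m : ℕ} (hF : Fintype.card F = 2 ^ (2 * m + 1))

theorem gTu_eq_szToGL (a : F) :
    gTu (sz_two hF) a (szθ m a) = szToGL F m (gT hF a 0) := by
  apply Units.ext
  apply Matrix.ext
  intro i j
  show gTm a (szθ m a) i j = szTmat m a 0 i j
  fin_cases i <;> fin_cases j <;> simp [gTm, szTmat, szf, szθ, pow_add, mul_comm]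

theorem gJu_eq_szToGL : (gJu : GL (Fin 4) F) = szToGL F m (gJ hF) := by
  apply Units.ext
  apply Matrix.ext
  intro i j
  show gJm i j = szJmat F i j
  fin_cases i <;> fin_cases j <;> simp [gJm, szJmat]

/-- the group elements substituted for the generators -/
noncomputable def realGen (t : F) (i : ℕ) : Sz F m :=
  gT hF (t ^ (i + 1)) 0 * gJ hF * gT hF (t ^ (i + 1)) 0 * gJ hF

theorem realHom_genH (c : ZMod 2 →+* F) (t : F) (i : ℕ) :
    Matrix.GeneralLinearGroup.map (realHom c (2 ^ (m + 1)) t) (genH i) =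
      szToGL F m (realGen hF t i) := by
  unfold genH realGen
  rw [map_gH _ two_eq_zero_R (sz_two hF), map_mul, map_mul, map_mul, ← gTu_eq_szToGL,
    ← gJu_eq_szToGL]
  unfold gH
  congr 4
  all_goals
    simp only [map_pow, realHom_CX, realHom_X]
    try (unfold szθ; rw [← pow_mul, ← pow_mul, mul_comm])

theorem realHom_word (c : ZMod 2 →+* F) (t : F) (w : FreeGroup ℕ) :
    Matrix.GeneralLinearGroup.map (realHom c (2 ^ (m + 1)) t) (FreeGroup.lift genH w) =
      szToGL F m (FreeGroup.lift (realGen hF t) w) := by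
  have hcomp : (Matrix.GeneralLinearGroup.map (realHom c (2 ^ (m + 1)) t)).comp
      (FreeGroup.lift genH) = (szToGL F m).comp (FreeGroup.lift (realGen hF t)) := by
    apply FreeGroup.ext_hom
    intro i
    simp only [MonoidHom.comp_apply, FreeGroup.lift_apply_of]
    exact realHom_genH hF c t i
  exact DFunLike.congr_fun hcomp w

end real

/-- a non-trivial law fails in all sufficiently large Suzuki groups -/
theorem sz_no_law (w : FreeGroup ℕ) (hw : w ≠ 1) :
    ∃ N : ℕ, ∀ (F : Type*) [Field F] [Fintype F] (m : ℕ), N ≤ m →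
      Fintype.card F = 2 ^ (2 * m + 1) → ∃ f : ℕ → Sz F m, FreeGroup.lift f w ≠ 1 := by
  classical
  have hW := genWord_ne_one w hw
  obtain ⟨j, k, hjk⟩ : ∃ j k, (FreeGroup.lift genH w).1 j k ≠
      (1 : Matrix (Fin 4) (Fin 4) (ZMod 2)[X][X]) j k := by
    by_contra hcon
    push Not at hcon
    apply hW
    apply Units.ext
    apply Matrix.ext
    intro j k
    exact hcon j k
  obtain ⟨P, hP⟩ : ∃ P : (ZMod 2)[X][X], P = (FreeGroup.lift genH w).1 j k -
      (1 : Matrix (Fin 4) (Fin 4) (ZMod 2)[X][X]) j k := ⟨_, rfl⟩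
  have hP0 : P ≠ 0 := by
    rw [hP]
    exact sub_ne_zero.2 hjk
  obtain ⟨D, hD⟩ : ∃ D : ℕ, D = P.support.sup (fun j => natDegree (P.coeff j)) := ⟨_, rfl⟩
  have hco : ∀ j, natDegree (P.coeff j) ≤ D := by
    intro j
    by_cases hj : j ∈ P.support
    · rw [hD]
      exact Finset.le_sup (f := fun j => natDegree (P.coeff j)) hj
    · rw [notMem_support_iff.1 hj, natDegree_zero]
      exact Nat.zero_le _
  refine ⟨max D (natDegree P) + 1, ?_⟩
  intro F _ _ m hNm hF
  have h2 := sz_two hF
  have hchar : CharP F 2 := CharTwo.of_one_ne_zero_of_two_eq_zero one_ne_zero h2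
  obtain ⟨c, -⟩ : ∃ c : ZMod 2 →+* F, c = ZMod.castHom (dvd_refl 2) F := ⟨_, rfl⟩
  have hm2 : m < 2 ^ m := Nat.lt_two_pow_self
  have hDm : D < 2 ^ m := by
    have : D ≤ max D (natDegree P) := le_max_left _ _
    omega
  have hPm : natDegree P < 2 ^ m := by
    have : natDegree P ≤ max D (natDegree P) := le_max_right _ _
    omega
  have he : 2 ^ (m + 1) = 2 * 2 ^ m := by rw [pow_succ]; ring
  have hne : P.eval (X ^ 2 ^ (m + 1)) ≠ 0 := by
    intro h0
    apply hP0
    refine eval_X_pow_eq_zero (2 ^ (m + 1)) (natDegree P) P le_rfl ?_ h0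
    intro j
    have := hco j
    omega
  have hdeg : natDegree (P.eval (X ^ 2 ^ (m + 1))) < Fintype.card F := by
    refine lt_of_le_of_lt (natDegree_eval_X_pow_le (2 ^ (m + 1)) D P hco) ?_
    rw [hF]
    have e1 : 2 ^ (2 * m + 1) = 2 ^ (m + 1) * 2 ^ m := by
      rw [← pow_add]; congr 1; omega
    rw [e1]
    calc D + 2 ^ (m + 1) * natDegree P < 2 ^ (m + 1) + 2 ^ (m + 1) * natDegree P := by omega
      _ = 2 ^ (m + 1) * (natDegree P + 1) := by ring
      _ ≤ 2 ^ (m + 1) * 2 ^ m := Nat.mul_le_mul_left _ hPm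
  obtain ⟨t, ht⟩ := exists_eval₂_ne_zero c _ hne hdeg
  refine ⟨realGen hF t, ?_⟩
  intro h1
  have h3 := realHom_word hF c t w
  rw [h1, map_one] at h3
  have h4 : realHom c (2 ^ (m + 1)) t ((FreeGroup.lift genH w).1 j k) =
      (1 : Matrix (Fin 4) (Fin 4) F) j k := by
    have := congrArg (fun M : GL (Fin 4) F => M.1 j k) h3
    simpa using this
  apply ht
  rw [← realHom_apply, hP, map_sub, h4]
  by_cases hjk' : j = k
  · subst hjk'
    simp
  · simp [hjk']

end Cfsg.Agent.Lib.helper3
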