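import Mathlib
import Cfsg.Prelude.Def_LieExceptional
import Cfsg.Agent.Lib.helper3.SuzukiMultC

set_option autoImplicit false

/-!
The kernel of a stem extension of a Suzuki group is generated by the commutators of the preimage of
the centre of a Sylow 2-subgroup with the preimage of the Sylow 2-subgroup (helper3).
-/

namespace Cfsg.Agent.Lib.helper3

open Cfsg
open scoped commutatorElement IsMulCommutative

variable {F : Type*} [Field F] [Fintype F] {m : ℕ} (hF : Fintype.card F = 2 ^ (2 * m + 1))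
  (hm : 1 ≤ m)

section lifts2

variable {Γ : Type*} [Group Γ] (σ : Γ →* Sz F m) (hsurj : Function.Surjective σ)
variable (hcen : σ.ker ≤ Subgroup.center Γ)

include hF hm hsurj hcen in
/-- Step C, general form: if the preimage of the centre of the Sylow 2-subgroup is central in the
preimage of the Sylow 2-subgroup, the kernel of a stem extension has no involutions -/
theorem ker_two_trivial_of_central [Finite Γ]
    (hZ : ∀ u x : Γ, σ u ∈ Zs hF → σ x ∈ Qs hF → ⁅u, x⁆ = 1) (hder : σ.ker ≤ commutator Γ) {z : Γ}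
    (hzK : z ∈ σ.ker) (hz2 : z ^ 2 = 1) : z = 1 := by
  classical
  by_contra hz1
  have hfin : Finite (Sz F m) := finite_Sz hF hm
  have h2F := sz_two hF
  obtain ⟨Qt, hQt⟩ : ∃ Qt : Subgroup Γ, Qt = (Qs hF).comap σ := ⟨_, rfl⟩
  obtain ⟨Zt, hZt⟩ : ∃ Zt : Subgroup Γ, Zt = (Zs hF).comap σ := ⟨_, rfl⟩
  have memQt : ∀ x, x ∈ Qt ↔ σ x ∈ Qs hF := by
    intro x; rw [hQt]; rfl
  have memZt : ∀ x, x ∈ Zt ↔ σ x ∈ Zs hF := by
    intro x; rw [hZt]; rfl
  -- the index of `Qt` is odd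
  have hodd : Odd Qt.index := by
    rw [hQt, Subgroup.index_comap_of_surjective _ hsurj, ← coe_QsSylow hF hm]
    haveI : Fact (Nat.Prime 2) := ⟨Nat.prime_two⟩
    have := (QsSylow hF hm).not_dvd_index
    exact Nat.odd_iff.2 (Nat.two_dvd_ne_zero.1 this)
  have hzQ : z ∈ ⁅Qt, Qt⁆ := by
    have h1 := pow_index_mem_commutator Qt (hcen hzK) (hder hzK)
    obtain ⟨n, hn⟩ := hodd
    rw [hn, pow_succ, pow_mul, hz2, one_pow, one_mul] at h1
    exact h1
  -- basic commutation facts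
  have hXQ : ∀ a, σ (liftX hF σ hsurj a) ∈ Qs hF := by
    intro a; rw [map_liftX]; exact gT_mem_Qs hF a 0
  have hZZs : ∀ b, σ (liftZ hF σ hsurj b) ∈ Zs hF := by
    intro b; rw [map_liftZ]; exact (mem_Zs hF).2 ⟨b, rfl⟩
  have hZQ : Zs hF ≤ Qs hF := by
    intro g hg
    obtain ⟨b, rfl⟩ := (mem_Zs hF).1 hg
    exact gT_mem_Qs hF 0 b
  have hcent : ∀ w x, σ w ∈ Zs hF → σ x ∈ Qs hF → w * x = x * w := by
    intro w x hw hx
    exact commutatorElement_eq_one_iff_mul_comm.1 (hZ _ _ hw hx)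
  have hcommZ : ∀ x y, σ x ∈ Qs hF → σ y ∈ Qs hF → σ ⁅x, y⁆ ∈ Zs hF := by
    intro x y hx hy
    obtain ⟨a, b, hab⟩ := (mem_Qs hF).1 hx
    obtain ⟨a', b', hab'⟩ := (mem_Qs hF).1 hy
    rw [map_commutatorElement, hab, hab', gT_comm]
    exact (mem_Zs hF).2 ⟨_, rfl⟩
  -- `Zt` is commutative
  haveI hZc : IsMulCommutative Zt := ⟨⟨fun u v => Subtype.ext
    (commutatorElement_eq_one_iff_mul_comm.1
      (zt_comm hF hm σ hsurj hcen ((memZt _).1 u.2) ((memZt _).1 v.2)))⟩⟩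
  -- conjugation by the lifts of the torus
  have hconjmem : ∀ (k : Fˣ) (w : Γ), w ∈ Zt →
      liftD hF σ hsurj k * w * (liftD hF σ hsurj k)⁻¹ ∈ Zt := by
    intro k w hw
    rw [memZt] at hw ⊢
    obtain ⟨b, hb⟩ := (mem_Zs hF).1 hw
    rw [map_mul, map_mul, map_inv, map_liftD, hb, gD_conj_gT_zero]
    exact (mem_Zs hF).2 ⟨_, rfl⟩
  obtain ⟨φ, hφ⟩ : ∃ φ : Fˣ → Zt → Zt, ∀ k w,
      ((φ k w : Zt) : Γ) = liftD hF σ hsurj k * (w : Γ) * (liftD hF σ hsurj k)⁻¹ :=
    ⟨fun k w => ⟨_, hconjmem k w w.2⟩, fun _ _ => rfl⟩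
  have hφmul : ∀ k w w', φ k (w * w') = φ k w * φ k w' := by
    intro k w w'
    apply Subtype.ext
    rw [Subgroup.coe_mul, hφ, hφ, hφ, Subgroup.coe_mul]
    group
  obtain ⟨Φ, hΦ⟩ : ∃ Φ : Zt →* Zt, ∀ w, Φ w = ∏ k : Fˣ, φ k w :=
    ⟨MonoidHom.mk' (fun w => ∏ k : Fˣ, φ k w) (by
      intro w w'
      simp only [hφmul]
      exact Finset.prod_mul_distrib), fun _ => rfl⟩
  -- invariance of `Φ`
  have hΦinv : ∀ (j : Fˣ) (w : Zt), Φ (φ j w) = Φ w := by
    intro j w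
    rw [hΦ, hΦ, ← Equiv.prod_comp (Equiv.mulRight j) (fun k => φ k w)]
    refine Finset.prod_congr rfl fun k _ => ?_
    apply Subtype.ext
    rw [hφ, hφ, hφ, Equiv.coe_mulRight]
    have e : liftD hF σ hsurj k * (liftD hF σ hsurj j * (w : Γ) * (liftD hF σ hsurj j)⁻¹) *
        (liftD hF σ hsurj k)⁻¹ = (liftD hF σ hsurj k * liftD hF σ hsurj j) * (w : Γ) *
        (liftD hF σ hsurj k * liftD hF σ hsurj j)⁻¹ := by group
    rw [e]
    apply conj_eq_of_map_eq σ hcen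
    rw [map_mul, map_liftD, map_liftD, map_liftD, gD_mul]
  -- value of `Φ` on the kernel
  have hzZt : z ∈ Zt := by
    rw [memZt, MonoidHom.mem_ker.1 hzK]
    exact (Zs hF).one_mem
  have hΦz : Φ ⟨z, hzZt⟩ = ⟨z, hzZt⟩ := by
    rw [hΦ]
    have hk : ∀ k : Fˣ, φ k ⟨z, hzZt⟩ = ⟨z, hzZt⟩ := by
      intro k
      apply Subtype.ext
      rw [hφ]
      exact conj_central (hcen hzK) _
    simp only [hk, Finset.prod_const, Finset.card_univ, Fintype.card_units, hF]
    obtain ⟨j, hj⟩ : ∃ j, 2 ^ (2 * m + 1) - 1 = 2 * j + 1 := by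
      refine ⟨2 ^ (2 * m) - 1, ?_⟩
      have : 2 ^ (2 * m + 1) = 2 * 2 ^ (2 * m) := by rw [pow_succ]; ring
      have h1 : 1 ≤ 2 ^ (2 * m) := Nat.one_le_two_pow
      omega
    rw [hj, pow_succ, pow_mul]
    have : (⟨z, hzZt⟩ : Zt) ^ 2 = 1 := by
      apply Subtype.ext
      simpa using hz2
    rw [this, one_pow, one_mul]
  -- the pairing
  have hcXmem : ∀ a a', ⁅liftX hF σ hsurj a, liftX hF σ hsurj a'⁆ ∈ Zt := by
    intro a a'
    rw [memZt]
    exact hcommZ _ _ (hXQ a) (hXQ a')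
  obtain ⟨cX, hcX⟩ : ∃ cX : F → F → Zt, ∀ a a',
      ((cX a a' : Zt) : Γ) = ⁅liftX hF σ hsurj a, liftX hF σ hsurj a'⁆ :=
    ⟨fun a a' => ⟨_, hcXmem a a'⟩, fun _ _ => rfl⟩
  have hsplitQ : ∀ a'' c, σ (liftX hF σ hsurj a'' * liftZ hF σ hsurj c) ∈ Qs hF := by
    intro a'' c
    rw [map_mul]
    exact (Qs hF).mul_mem (hXQ a'') (hZQ (hZZs c))
  have hZone : ∀ c y, σ y ∈ Qs hF → ⁅liftZ hF σ hsurj c, y⁆ = 1 := by
    intro c y hy
    exact hZ _ _ (hZZs c) hy
  have hZone' : ∀ c x, σ x ∈ Qs hF → ⁅x, liftZ hF σ hsurj c⁆ = 1 := by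
    intro c x hx
    rw [commutatorElement_eq_one_iff_mul_comm]
    exact (hcent _ _ (hZZs c) hx).symm
  have hcl : ∀ a a'' a', cX (a + a'') a' = cX a a' * cX a'' a' := by
    intro a a'' a'
    rw [mul_comm (cX a a')]
    apply Subtype.ext
    rw [Subgroup.coe_mul, hcX, hcX, hcX]
    rw [comm_eq_of_map_eq σ hcen
      (u' := liftX hF σ hsurj a * (liftX hF σ hsurj a'' * liftZ hF σ hsurj (szθ m a * a'')))
      (v' := liftX hF σ hsurj a')
      (by rw [map_mul, map_mul, map_liftX, map_liftX, map_liftX, map_liftZ, gT_add_split]) rfl]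
    have hc1 : ⁅liftX hF σ hsurj a'' * liftZ hF σ hsurj (szθ m a * a''), liftX hF σ hsurj a'⁆ =
        ⁅liftX hF σ hsurj a'', liftX hF σ hsurj a'⁆ := by
      rw [comm_mul_left_of_commute, hZone _ _ (hXQ a'), one_mul]
      rw [hZone _ _ (hXQ a'), mul_one, one_mul]
    rw [comm_mul_left_of_commute, hc1]
    rw [hc1]
    exact (hcent _ _ (hcommZ _ _ (hXQ a'') (hXQ a')) (hXQ a)).symm
  have hcr : ∀ a a' a'', cX a (a' + a'') = cX a a' * cX a a'' := by
    intro a a' a''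
    apply Subtype.ext
    rw [Subgroup.coe_mul, hcX, hcX, hcX]
    rw [comm_eq_of_map_eq σ hcen (u' := liftX hF σ hsurj a)
      (v' := liftX hF σ hsurj a' * (liftX hF σ hsurj a'' * liftZ hF σ hsurj (szθ m a' * a'')))
      rfl
      (by rw [map_mul, map_mul, map_liftX, map_liftX, map_liftX, map_liftZ, gT_add_split])]
    have hc1 : ⁅liftX hF σ hsurj a, liftX hF σ hsurj a'' * liftZ hF σ hsurj (szθ m a' * a'')⁆ =
        ⁅liftX hF σ hsurj a, liftX hF σ hsurj a''⁆ := by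
      rw [comm_mul_right_of_commute, hZone' _ _ (hXQ a), mul_one]
      rw [hZone' _ _ (hXQ a), mul_one, one_mul]
    rw [comm_mul_right_of_commute, hc1]
    rw [hc1]
    exact (hcent _ _ (hcommZ _ _ (hXQ a) (hXQ a'')) (hXQ a')).symm
  have hcinv : ∀ μ a a', μ ≠ 0 → Φ (cX (μ * a) (μ * a')) = Φ (cX a a') := by
    intro μ a a' hμ
    obtain ⟨k, hk⟩ := exists_unit_sq hF hμ
    have e : cX (μ * a) (μ * a') = φ k (cX a a') := by
      apply Subtype.ext
      rw [hφ, hcX, hcX]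
      apply pair_conj_lift σ hcen
      · rw [map_mul, map_mul, map_inv, map_liftD, map_liftX, map_liftX, gD_conj_gT_x, hk]
      · rw [map_mul, map_mul, map_inv, map_liftD, map_liftX, map_liftX, gD_conj_gT_x, hk]
    rw [e, hΦinv]
  have htriv := pairing_trivial_of_scalar_invariant hF hm (fun a a' => Φ (cX a a'))
    (fun a a'' a' => by simp only [hcl, map_mul])
    (fun a a' a'' => by simp only [hcr, map_mul]) hcinv
  -- every commutator of `Qt` is killed by `Φ`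
  have hle : ⁅Qt, Qt⁆ ≤ (Φ.ker).map Zt.subtype := by
    rw [Subgroup.commutator_le]
    intro x hx y hy
    rw [memQt] at hx hy
    obtain ⟨a, b, hab⟩ := (mem_Qs hF).1 hx
    obtain ⟨a', b', hab'⟩ := (mem_Qs hF).1 hy
    have e : ⁅x, y⁆ = ⁅liftX hF σ hsurj a, liftX hF σ hsurj a'⁆ := by
      rw [comm_eq_of_map_eq σ hcen (u' := liftX hF σ hsurj a * liftZ hF σ hsurj b)
        (v' := liftX hF σ hsurj a' * liftZ hF σ hsurj b')
        (by rw [hab, map_mul, map_liftX, map_liftZ, ← gT_split0])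
        (by rw [hab', map_mul, map_liftX, map_liftZ, ← gT_split0])]
      rw [comm_mul_left_of_commute, hZone _ _ (hsplitQ a' b'), one_mul,
        comm_mul_right_of_commute, hZone' _ _ (hXQ a), mul_one]
      · rw [hZone' _ _ (hXQ a), mul_one, one_mul]
      · rw [hZone _ _ (hsplitQ a' b'), mul_one, one_mul]
    refine ⟨cX a a', ?_, ?_⟩
    · rw [SetLike.mem_coe, MonoidHom.mem_ker]
      exact htriv a a'
    · rw [e, ← hcX]
      rfl
  obtain ⟨w, hw, hwz⟩ := hle hzQ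
  have hw' : w = ⟨z, hzZt⟩ := Subtype.ext hwz
  rw [hw', SetLike.mem_coe, MonoidHom.mem_ker, hΦz] at hw
  exact hz1 (congrArg Subtype.val hw)


include hF hm hsurj hcen in
/-- if the preimage of the centre of the Sylow 2-subgroup is central in the preimage of the Sylow
2-subgroup, a finite stem extension is trivial -/
theorem sz_stem_ker_trivial_of_central [Finite Γ]
    (hZ : ∀ u x : Γ, σ u ∈ Zs hF → σ x ∈ Qs hF → ⁅u, x⁆ = 1) (hder : σ.ker ≤ commutator Γ) :
    ∀ x ∈ σ.ker, x = 1 := by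
  intro x hx
  by_contra hx1
  have hord : orderOf x ≠ 1 := fun h => hx1 (orderOf_eq_one_iff.1 h)
  obtain ⟨p, hp, hpd⟩ := Nat.exists_prime_and_dvd hord
  haveI : Fact p.Prime := ⟨hp⟩
  obtain ⟨j, hj⟩ := hpd
  have hzK : x ^ j ∈ σ.ker := Subgroup.pow_mem _ hx j
  have hzp : (x ^ j) ^ p = 1 := by
    rw [← pow_mul, mul_comm, ← hj, pow_orderOf_eq_one]
  have hz1 : x ^ j ≠ 1 := by
    intro h
    have h1 : orderOf x ∣ j := orderOf_dvd_of_pow_eq_one h
    rw [hj] at h1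
    have hj0 : 0 < j := by
      rcases Nat.eq_zero_or_pos j with h0 | h0
      · rw [h0, mul_zero] at hj
        exact absurd hj (orderOf_pos x).ne'
      · exact h0
    have := Nat.le_of_dvd hj0 h1
    have hp2 := hp.two_le
    nlinarith
  by_cases hp2 : p = 2
  · subst hp2
    exact hz1 (ker_two_trivial_of_central hF hm σ hsurj hcen hZ hder hzK hzp)
  · exact hz1 (ker_odd_trivial hF hm σ hcen hder hp2 hzK hzp)

end lifts2

end Cfsg.Agent.Lib.helper3
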