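import Mathlib
import Cfsg.Prelude.Def_LieExceptional
import Cfsg.Agent.Lib.helper3.SuzukiMultD

set_option autoImplicit false

/-!
The kernel of a finite stem extension of a Suzuki group is generated by the commutators
`⁅X(1), Z(b)⁆` of fixed lifts of `gT 1 0` and `gT 0 b`; the map `b ↦ ⁅X(1), Z(b)⁆` is additive and
kills `1` (helper3).
-/

namespace Cfsg.Agent.Lib.helper3

open Cfsg
open scoped commutatorElement IsMulCommutative

variable {F : Type*} [Field F] [Fintype F] {m : ℕ} (hF : Fintype.card F = 2 ^ (2 * m + 1))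
  (hm : 1 ≤ m)

section lifts3

variable {Γ : Type*} [Group Γ] (σ : Γ →* Sz F m) (hsurj : Function.Surjective σ)
variable (hcen : σ.ker ≤ Subgroup.center Γ)

/-- the subgroup generated by the commutators of the preimage of the centre of the Sylow
2-subgroup with the preimage of the Sylow 2-subgroup -/
def szK0 : Subgroup Γ :=
  Subgroup.closure {c | ∃ u x : Γ, σ u ∈ Zs hF ∧ σ x ∈ Qs hF ∧ c = ⁅u, x⁆}

theorem szK0_le_ker : szK0 hF σ ≤ σ.ker := by
  unfold szK0
  rw [Subgroup.closure_le]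
  rintro c ⟨u, x, hu, hx, rfl⟩
  obtain ⟨b, hb⟩ := (mem_Zs hF).1 hu
  obtain ⟨a, b', hab⟩ := (mem_Qs hF).1 hx
  rw [SetLike.mem_coe, MonoidHom.mem_ker, map_commutatorElement, hb, hab]
  exact gT_zero_comm_eq_one hF b a b'

include hcen in
theorem szK0_normal : (szK0 hF σ).Normal := by
  constructor
  intro n hn g
  have h1 : n ∈ Subgroup.center Γ := hcen (szK0_le_ker hF σ hn)
  rw [conj_central h1]
  exact hn

include hF hm hsurj hcen in
/-- the kernel of a finite stem extension is generated by the commutators of the preimage of the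
centre of the Sylow 2-subgroup with the preimage of the Sylow 2-subgroup -/
theorem ker_le_szK0 [Finite Γ] (hder : σ.ker ≤ commutator Γ) : σ.ker ≤ szK0 hF σ := by
  haveI hN : (szK0 hF σ).Normal := szK0_normal hF σ hcen
  have hle := szK0_le_ker hF σ
  set τ : Γ ⧸ szK0 hF σ →* Sz F m := QuotientGroup.lift (szK0 hF σ) σ hle with hτ
  have hτmk : ∀ x : Γ, τ (QuotientGroup.mk x) = σ x := fun x => rfl
  have hτsurj : Function.Surjective τ := by
    intro g
    obtain ⟨x, hx⟩ := hsurj g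
    exact ⟨QuotientGroup.mk x, by rw [hτmk, hx]⟩
  have hτcen : τ.ker ≤ Subgroup.center (Γ ⧸ szK0 hF σ) := by
    intro y hy
    obtain ⟨x, rfl⟩ := QuotientGroup.mk_surjective y
    rw [MonoidHom.mem_ker, hτmk] at hy
    have hx : x ∈ Subgroup.center Γ := hcen hy
    rw [Subgroup.mem_center_iff]
    intro w
    obtain ⟨v, rfl⟩ := QuotientGroup.mk_surjective w
    rw [← QuotientGroup.mk_mul, ← QuotientGroup.mk_mul, Subgroup.mem_center_iff.1 hx v]
  have hτder : τ.ker ≤ commutator (Γ ⧸ szK0 hF σ) := by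
    intro y hy
    obtain ⟨x, rfl⟩ := QuotientGroup.mk_surjective y
    rw [MonoidHom.mem_ker, hτmk] at hy
    have hx : x ∈ commutator Γ := hder hy
    have h2 : (QuotientGroup.mk' (szK0 hF σ)) x ∈
        (commutator Γ).map (QuotientGroup.mk' (szK0 hF σ)) := Subgroup.mem_map_of_mem _ hx
    rw [commutator_def, Subgroup.map_commutator] at h2
    exact Subgroup.commutator_mono le_top le_top h2
  have hτZ : ∀ u x : Γ ⧸ szK0 hF σ, τ u ∈ Zs hF → τ x ∈ Qs hF → ⁅u, x⁆ = 1 := by
    intro u x hu hx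
    obtain ⟨u', rfl⟩ := QuotientGroup.mk_surjective u
    obtain ⟨x', rfl⟩ := QuotientGroup.mk_surjective x
    rw [hτmk] at hu hx
    have h1 : ⁅u', x'⁆ ∈ szK0 hF σ := Subgroup.subset_closure ⟨u', x', hu, hx, rfl⟩
    have h2 : (⁅(QuotientGroup.mk u' : Γ ⧸ szK0 hF σ), (QuotientGroup.mk x' : Γ ⧸ szK0 hF σ)⁆) =
        (QuotientGroup.mk ⁅u', x'⁆ : Γ ⧸ szK0 hF σ) := by
      simp only [commutatorElement_def, QuotientGroup.mk_mul, QuotientGroup.mk_inv]
    rw [h2]
    exact (QuotientGroup.eq_one_iff _).2 h1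
  have htriv := sz_stem_ker_trivial_of_central hF hm τ hτsurj hτcen hτZ hτder
  intro x hx
  have h1 : (QuotientGroup.mk x : Γ ⧸ szK0 hF σ) ∈ τ.ker := by
    rw [MonoidHom.mem_ker, hτmk]
    exact hx
  exact (QuotientGroup.eq_one_iff _).1 (htriv _ h1)

/-- the commutator of the lift of `gT 1 0` with the lift of `gT 0 b` -/
noncomputable def szB (b : F) : Γ := ⁅liftZ hF σ hsurj b, liftX hF σ hsurj 1⁆

include hcen in
theorem szB_mem_ker (b : F) : szB hF σ hsurj b ∈ σ.ker := by
  unfold szB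
  rw [MonoidHom.mem_ker, map_commutatorElement, map_liftZ, map_liftX]
  exact gT_zero_comm_eq_one hF b 1 0

include hF hm hsurj hcen in
theorem liftZ_comm (b c : F) : ⁅liftZ hF σ hsurj b, liftZ hF σ hsurj c⁆ = 1 := by
  apply zt_comm hF hm σ hsurj hcen
  · rw [map_liftZ]; exact (mem_Zs hF).2 ⟨b, rfl⟩
  · rw [map_liftZ]; exact (mem_Zs hF).2 ⟨c, rfl⟩

include hF hm hsurj hcen in
/-- additivity -/
theorem szB_add (b b' : F) :
    szB hF σ hsurj (b + b') = szB hF σ hsurj b * szB hF σ hsurj b' := by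
  unfold szB
  rw [comm_eq_of_map_eq σ hcen (u' := liftZ hF σ hsurj b * liftZ hF σ hsurj b')
    (v' := liftX hF σ hsurj 1) (by rw [map_mul, map_liftZ, map_liftZ, map_liftZ, gT_zero_mul])
    rfl]
  have hc : ⁅liftZ hF σ hsurj b', liftX hF σ hsurj 1⁆ ∈ Subgroup.center Γ :=
    hcen (szB_mem_ker hF σ hsurj hcen b')
  have hc2 : ⁅liftZ hF σ hsurj b, liftX hF σ hsurj 1⁆ ∈ Subgroup.center Γ :=
    hcen (szB_mem_ker hF σ hsurj hcen b)
  rw [comm_mul_left_of_commute]
  · exact (Subgroup.mem_center_iff.1 hc2 _)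
  · exact Subgroup.mem_center_iff.1 hc _

include hF hm hsurj hcen in
/-- every commutator of the preimage of the centre with the preimage of the Sylow 2-subgroup is a
value of `szB` or its inverse -/
theorem comm_mem_range_szB {u x : Γ} (hu : σ u ∈ Zs hF) (hx : σ x ∈ Qs hF) :
    ∃ c : F, ⁅u, x⁆ = szB hF σ hsurj c := by
  obtain ⟨b, hb⟩ := (mem_Zs hF).1 hu
  obtain ⟨a, b', hab⟩ := (mem_Qs hF).1 hx
  have hZZ := liftZ_comm hF hm σ hsurj hcen
  have e1 : ⁅u, x⁆ = ⁅liftZ hF σ hsurj b, liftX hF σ hsurj a⁆ := by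
    rw [comm_eq_of_map_eq σ hcen (u' := liftZ hF σ hsurj b)
      (v' := liftX hF σ hsurj a * liftZ hF σ hsurj b')
      (by rw [hb, map_liftZ]) (by rw [hab, map_mul, map_liftX, map_liftZ, ← gT_split0])]
    rw [comm_mul_right_of_commute, hZZ, mul_one]
    rw [hZZ, mul_one, one_mul]
  by_cases ha : a = 0
  · refine ⟨0, ?_⟩
    rw [e1]
    have h1 : liftX hF σ hsurj a ∈ Subgroup.center Γ := by
      apply hcen
      rw [MonoidHom.mem_ker, map_liftX, ha]
      exact gT_zero hF
    have h0 : liftZ hF σ hsurj 0 ∈ Subgroup.center Γ := by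
      apply hcen
      rw [MonoidHom.mem_ker, map_liftZ]
      exact gT_zero hF
    unfold szB
    have e2 : ⁅liftZ hF σ hsurj b, liftX hF σ hsurj a⁆ = 1 :=
      commutatorElement_eq_one_iff_mul_comm.2 (Subgroup.mem_center_iff.1 h1 _)
    have e3 : ⁅liftZ hF σ hsurj 0, liftX hF σ hsurj 1⁆ = 1 :=
      commutatorElement_eq_one_iff_mul_comm.2 (Subgroup.mem_center_iff.1 h0 _).symm
    rw [e2, e3]
  · -- conjugate by the torus element scaling `a` to `1`
    obtain ⟨k, hk⟩ := exists_unit_sq hF (inv_ne_zero ha)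
    refine ⟨a⁻¹ * szθ m a⁻¹ * b, ?_⟩
    rw [e1]
    unfold szB
    have hk' : (k : F) ^ 2 * szθ m (k : F) ^ 2 = a⁻¹ * szθ m a⁻¹ := by
      rw [← hk]
      unfold szθ
      ring
    have hcc : ⁅liftZ hF σ hsurj b, liftX hF σ hsurj a⁆ ∈ Subgroup.center Γ := by
      apply comm_mem_center_of_map σ hcen
      rw [map_liftZ, map_liftX]
      exact gT_zero_comm_eq_one hF b a 0
    have h3 := pair_conj_lift σ hcen (x' := liftZ hF σ hsurj (a⁻¹ * szθ m a⁻¹ * b))
      (y' := liftX hF σ hsurj 1) (d := liftD hF σ hsurj k) (x := liftZ hF σ hsurj b)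
      (y := liftX hF σ hsurj a)
      (by rw [map_mul, map_mul, map_inv, map_liftD, map_liftZ, map_liftZ, gD_conj_gT_zero, hk'])
      (by rw [map_mul, map_mul, map_inv, map_liftD, map_liftX, map_liftX, gD_conj_gT_x, hk,
        inv_mul_cancel₀ ha])
    rw [h3, conj_central hcc]

include hF hsurj hcen in
/-- the value at `1` is trivial -/
theorem szB_one : szB hF σ hsurj 1 = 1 := by
  unfold szB
  have h2 := sz_two hF
  have e : σ (liftZ hF σ hsurj 1) = σ (liftX hF σ hsurj 1 * liftX hF σ hsurj 1) := by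
    rw [map_mul, map_liftZ, map_liftX, gT_mul]
    congr 1
    · linear_combination (-1 : F) * h2
    · unfold szθ
      simp
  rw [comm_eq_of_map_eq σ hcen (u' := liftX hF σ hsurj 1 * liftX hF σ hsurj 1)
    (v' := liftX hF σ hsurj 1) e rfl]
  rw [commutatorElement_eq_one_iff_mul_comm]
  group

include hF hm hsurj hcen in
/-- the kernel of a finite stem extension is generated by the values of `szB` -/
theorem ker_le_closure_szB [Finite Γ] (hder : σ.ker ≤ commutator Γ) :
    σ.ker ≤ Subgroup.closure (Set.range (szB hF σ hsurj)) := by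
  refine le_trans (ker_le_szK0 hF hm σ hsurj hcen hder) ?_
  unfold szK0
  rw [Subgroup.closure_le]
  rintro c ⟨u, x, hu, hx, rfl⟩
  obtain ⟨c', hc'⟩ := comm_mem_range_szB hF hm σ hsurj hcen hu hx
  rw [hc']
  exact Subgroup.subset_closure ⟨c', rfl⟩

end lifts3

end Cfsg.Agent.Lib.helper3
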