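import Mathlib
import Cfsg.Prelude.Def_LieExceptional
import Cfsg.Agent.Lib.helper3.SuzukiAlg

set_option autoImplicit false

namespace Cfsg.Agent.Lib.helper3

open Cfsg

variable {F : Type*} [Field F]

theorem szvec_apply (m : ℕ) (x y : F) :
    szvec m x y 0 = szf m x y ∧ szvec m x y 1 = y ∧ szvec m x y 2 = x ∧ szvec m x y 3 = 1 :=
  ⟨rfl, rfl, rfl, rfl⟩

/-- the point at infinity and two distinct affine points are independent -/
theorem sz_indep_inf {m : ℕ} {x1 y1 x2 y2 : F} (hne : ¬ (x1 = x2 ∧ y1 = y2)) {c0 c1 c2 : F}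
    (h : c0 • ![(1 : F), 0, 0, 0] + c1 • szvec m x1 y1 + c2 • szvec m x2 y2 = 0) :
    c0 = 0 ∧ c1 = 0 ∧ c2 = 0 := by
  have e0 := congrFun h 0
  have e1 := congrFun h 1
  have e2 := congrFun h 2
  have e3 := congrFun h 3
  simp [szvec] at e0 e1 e2 e3
  have hc2 : c2 = -c1 := by linear_combination e3
  subst hc2
  have hc1 : c1 = 0 := by
    by_contra hc
    apply hne
    constructor
    · have : c1 * (x1 - x2) = 0 := by linear_combination e2
      rcases mul_eq_zero.1 this with h' | h'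
      · exact absurd h' hc
      · exact sub_eq_zero.1 h'
    · have : c1 * (y1 - y2) = 0 := by linear_combination e1
      rcases mul_eq_zero.1 this with h' | h'
      · exact absurd h' hc
      · exact sub_eq_zero.1 h'
  subst hc1
  simp at e0
  exact ⟨e0, rfl, by simp⟩

variable [Fintype F]

/-- three distinct affine points are independent -/
theorem sz_indep_aff {m : ℕ} (hF : Fintype.card F = 2 ^ (2 * m + 1)) {x1 y1 x2 y2 x3 y3 : F}
    (h12 : ¬ (x1 = x2 ∧ y1 = y2)) (h13 : ¬ (x1 = x3 ∧ y1 = y3)) (h23 : ¬ (x2 = x3 ∧ y2 = y3))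
    {c1 c2 c3 : F}
    (h : c1 • szvec m x1 y1 + c2 • szvec m x2 y2 + c3 • szvec m x3 y3 = 0) :
    c1 = 0 ∧ c2 = 0 ∧ c3 = 0 := by
  have h2 := sz_two hF
  have e0 := congrFun h 0
  have e1 := congrFun h 1
  have e2 := congrFun h 2
  have e3 := congrFun h 3
  simp [szvec] at e0 e1 e2 e3
  -- translated coordinates
  set X2 := x2 + x1 with hX2
  set X3 := x3 + x1 with hX3
  set Y2 := y2 + y1 + szθ m x1 * X2 with hY2
  set Y3 := y3 + y1 + szθ m x1 * X3 with hY3
  have hF2 : szf m X2 Y2 = szf m x2 y2 + szf m x1 y1 + x1 * (y2 + y1) + y1 * (x2 + x1) :=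
    szf_translate hF x2 y2 x1 y1
  have hF3 : szf m X3 Y3 = szf m x3 y3 + szf m x1 y1 + x1 * (y3 + y1) + y1 * (x3 + x1) :=
    szf_translate hF x3 y3 x1 y1
  have hc1 : c1 = c2 + c3 := by grind
  have r3 : c2 * X2 + c3 * X3 = 0 := by grind
  have r2 : c2 * Y2 + c3 * Y3 = 0 := by grind
  have r1 : c2 * szf m X2 Y2 + c3 * szf m X3 Y3 = 0 := by
    rw [hF2, hF3]
    grind
  have hP2 : ¬ (X2 = 0 ∧ Y2 = 0) := by
    rintro ⟨ha, hb⟩
    apply h12
    have hx : x1 = x2 := by grind
    refine ⟨hx, ?_⟩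
    rw [hY2, ha] at hb
    grind
  have hP3 : ¬ (X3 = 0 ∧ Y3 = 0) := by
    rintro ⟨ha, hb⟩
    apply h13
    have hx : x1 = x3 := by grind
    refine ⟨hx, ?_⟩
    rw [hY3, ha] at hb
    grind
  have hP23 : ¬ (X2 = X3 ∧ Y2 = Y3) := by
    rintro ⟨ha, hb⟩
    apply h23
    have hx : x2 = x3 := by grind
    refine ⟨hx, ?_⟩
    rw [hY2, hY3, ha] at hb
    grind
  have hf2 : szf m X2 Y2 ≠ 0 := fun h0 => hP2 (szf_eq_zero hF h0)
  have hf3 : szf m X3 Y3 ≠ 0 := fun h0 => hP3 (szf_eq_zero hF h0)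
  have i2 := szf_invert hF X2 Y2 hf2
  have i3 := szf_invert hF X3 Y3 hf3
  set f2 := szf m X2 Y2 with hf2def
  set f3 := szf m X3 Y3 with hf3def
  by_cases hc2 : c2 = 0
  · have hc3 : c3 = 0 := by
      rw [hc2] at r1
      simp only [zero_mul, zero_add] at r1
      rcases mul_eq_zero.1 r1 with h' | h'
      · exact h'
      · exact absurd h' hf3
    refine ⟨?_, hc2, hc3⟩
    rw [hc1, hc2, hc3, add_zero]
  · exfalso
    -- `c3 f3 = c2 f2` in characteristic two
    have hd : c3 * f3 = c2 * f2 := by grind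
    have hc3 : c3 = c2 * f2 / f3 := by
      field_simp
      exact hd
    have hyy : Y2 / f2 = Y3 / f3 := by
      have : c2 * f2 * (Y2 / f2 + Y3 / f3) = 0 := by
        have e : c2 * f2 * (Y2 / f2 + Y3 / f3) = c2 * Y2 + (c2 * f2 / f3) * Y3 := by
          field_simp
        rw [e, ← hc3]
        exact r2
      rcases mul_eq_zero.1 this with h' | h'
      · exact absurd h' (mul_ne_zero hc2 hf2)
      · grind
    have hxx : X2 / f2 = X3 / f3 := by
      have : c2 * f2 * (X2 / f2 + X3 / f3) = 0 := by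
        have e : c2 * f2 * (X2 / f2 + X3 / f3) = c2 * X2 + (c2 * f2 / f3) * X3 := by
          field_simp
        rw [e, ← hc3]
        exact r3
      rcases mul_eq_zero.1 this with h' | h'
      · exact absurd h' (mul_ne_zero hc2 hf2)
      · grind
    rw [hyy, hxx, i3] at i2
    have hff : f2 = f3 := by
      field_simp at i2
      exact i2
    apply hP23
    rw [hff] at hxx hyy
    constructor
    · field_simp at hxx
      exact hxx
    · field_simp at hyy
      exact hyy

omit [Fintype F] in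
theorem szvec_eq (m : ℕ) (x y : F) :
    ![x * y + x ^ (2 ^ (m + 1) + 2) + y ^ (2 ^ (m + 1)), y, x, 1] = szvec m x y := rfl

theorem suzuki_ovoid_independent {m : ℕ} (hF : Fintype.card F = 2 ^ (2 * m + 1))
    (p : Fin 3 ↪ suzukiOvoid F m) :
    Projectivization.Independent (fun i => (p i : Projectivization F (Fin 4 → F))) := by
  choose v hv heq hcase using fun i => (p i).2
  have hfun : (fun i => (p i : Projectivization F (Fin 4 → F))) =
      fun i => Projectivization.mk F (v i) (hv i) := funext heq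
  rw [hfun]
  apply Projectivization.Independent.mk
  have hvne : ∀ i j, i ≠ j → v i ≠ v j := by
    intro i j hij h
    apply hij
    apply p.injective
    apply Subtype.ext
    rw [heq i, heq j]
    congr 1
  rw [Fintype.linearIndependent_iff]
  intro g hg
  rw [Fin.sum_univ_three] at hg
  have h01 := hvne 0 1 (by decide)
  have h02 := hvne 0 2 (by decide)
  have h12 := hvne 1 2 (by decide)
  have key : g 0 = 0 ∧ g 1 = 0 ∧ g 2 = 0 := by
    rcases hcase 0 with h0 | ⟨x0, y0, h0⟩ <;> rcases hcase 1 with h1 | ⟨x1, y1, h1⟩ <;>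
      rcases hcase 2 with h2 | ⟨x2, y2, h2⟩
    · exact absurd (h0.trans h1.symm) h01
    · exact absurd (h0.trans h1.symm) h01
    · exact absurd (h0.trans h2.symm) h02
    · rw [h0, h1, h2, szvec_eq, szvec_eq] at hg
      rw [h1, h2, szvec_eq, szvec_eq] at h12
      exact sz_indep_inf (fun h => h12 (by rw [h.1, h.2])) hg
    · exact absurd (h1.trans h2.symm) h12
    · rw [h0, h1, h2, szvec_eq, szvec_eq] at hg
      rw [h0, h2, szvec_eq, szvec_eq] at h02
      have hg' : g 1 • ![(1 : F), 0, 0, 0] + g 0 • szvec m x0 y0 + g 2 • szvec m x2 y2 = 0 := by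
        rw [← hg]
        abel
      have := sz_indep_inf (fun h => h02 (by rw [h.1, h.2])) hg'
      exact ⟨this.2.1, this.1, this.2.2⟩
    · rw [h0, h1, h2, szvec_eq, szvec_eq] at hg
      rw [h0, h1, szvec_eq, szvec_eq] at h01
      have hg' : g 2 • ![(1 : F), 0, 0, 0] + g 0 • szvec m x0 y0 + g 1 • szvec m x1 y1 = 0 := by
        rw [← hg]
        abel
      have := sz_indep_inf (fun h => h01 (by rw [h.1, h.2])) hg'
      exact ⟨this.2.1, this.2.2, this.1⟩
    · rw [h0, h1, h2, szvec_eq, szvec_eq, szvec_eq] at hg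
      rw [h0, h1, szvec_eq, szvec_eq] at h01
      rw [h0, h2, szvec_eq, szvec_eq] at h02
      rw [h1, h2, szvec_eq, szvec_eq] at h12
      exact sz_indep_aff hF (fun h => h01 (by rw [h.1, h.2])) (fun h => h02 (by rw [h.1, h.2]))
        (fun h => h12 (by rw [h.1, h.2])) hg
  intro i
  fin_cases i
  · exact key.1
  · exact key.2.1
  · exact key.2.2

end Cfsg.Agent.Lib.helper3
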