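import Mathlib
import Cfsg.Prelude.Def_Sz
import Cfsg.Prelude.Def_LieExceptional
import Cfsg.Agent.Lib.helper3.SuzukiPartition
import Cfsg.Agent.Lib.helper3.SuzukiSylow
import Cfsg.Agent.Lib.helper3.SuzukiLieIso
import Cfsg.Agent.Lib.helper3.SemiProdOrder

set_option autoImplicit false

namespace Cfsg.Agent.Lib.helper3

open Cfsg Matrix

variable {F : Type*} [Field F] [Fintype F] {m : ℕ} (hF : Fintype.card F = 2 ^ (2 * m + 1))
  (hm : 1 ≤ m)

include hF in
theorem sq_eq_one_field {x : F} (h : x ^ 2 = 1) : x = 1 := by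
  have h2 := sz_two hF
  have e3 : (x - 1) ^ 2 = 0 := by linear_combination h + (1 - x) * h2
  have := pow_eq_zero_iff (two_ne_zero) |>.1 e3
  exact sub_eq_zero.1 this

include hF in
theorem szθ_eq_one {x : F} (h : szθ m x = 1) : x = 1 := by
  apply sq_eq_one_field hF
  rw [← szθ_szθ hF, h, szθ_one]

include hF in
theorem sq_mul_szθ_eq_one {x : F} (h : x ^ 2 * szθ m x = 1) : x = 1 := by
  have h1 : (szθ m x * x) ^ 2 = 1 := by
    have := congrArg (szθ m) h
    rw [szθ_mul, szθ_one, szθ_szθ hF] at this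
    rw [mul_pow]
    have e : szθ m (x ^ 2) = szθ m x ^ 2 := by
      rw [pow_two, szθ_mul, ← pow_two]
    rw [e, mul_comm] at this
    rw [mul_comm]
    exact this
  have h2 := sq_eq_one_field hF h1
  have hx : x ≠ 0 := by
    rintro rfl
    simp at h
  have : x * (szθ m x * x) = x * 1 := by rw [h2]
  rw [mul_one] at this
  rw [← this]
  linear_combination h

include hF hm in
/-- no involution of the Suzuki group commutes with an element of odd prime order -/
theorem sz_no_invol_commute {t g : Sz F m} (ht1 : t ≠ 1) (htt : t * t = 1) (hc : Commute t g)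
    {s : ℕ} (hs : s.Prime) (hs2 : s ≠ 2) : orderOf g ≠ s := by
  intro hg
  have hfin : Finite (Sz F m) := finite_Sz hF hm
  rcases sz_trichotomy hF hm ht1 with ⟨u, a, b, hab, rfl⟩ | ⟨u, k, hk, rfl⟩ | hfpf
  · have hmem : u⁻¹ * g * u ∈ Subgroup.centralizer ({gT hF a b} : Set (Sz F m)) := by
      rw [Subgroup.mem_centralizer_iff]
      intro x hx
      rw [Set.mem_singleton_iff] at hx
      subst hx
      have := hc.eq
      calc gT hF a b * (u⁻¹ * g * u) = u⁻¹ * ((u * gT hF a b * u⁻¹) * g) * u := by group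
        _ = u⁻¹ * (g * (u * gT hF a b * u⁻¹)) * u := by rw [this]
        _ = u⁻¹ * g * u * gT hF a b := by group
    have hQ := centralizer_gT_le hF hm hab hmem
    have hd := Subgroup.orderOf_dvd_natCard _ hQ
    have hord : orderOf (u⁻¹ * g * u) = s := by
      rw [← hg]
      have := orderOf_injective (MulAut.conj u⁻¹).toMonoidHom (MulAut.conj u⁻¹).injective g
      simpa [MulAut.conj_apply] using this
    rw [hord, card_Qs hF] at hd
    have := (Nat.prime_dvd_prime_iff_eq hs Nat.prime_two).1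
      (hs.dvd_of_dvd_pow (hs.dvd_of_dvd_pow hd))
    exact hs2 this
  · apply hk
    have h1 : gD hF k * gD hF k = 1 := by
      have : u⁻¹ * ((u * gD hF k * u⁻¹) * (u * gD hF k * u⁻¹)) * u = u⁻¹ * 1 * u := by rw [htt]
      calc gD hF k * gD hF k = u⁻¹ * ((u * gD hF k * u⁻¹) * (u * gD hF k * u⁻¹)) * u := by group
        _ = u⁻¹ * 1 * u := this
        _ = 1 := by group
    rw [← gD_mul, ← gD_one hF] at h1
    have h2 : k * k = 1 := gDhom_injective hF h1
    have h3 : ((k : F)) ^ 2 = 1 := by
      rw [pow_two, ← Units.val_mul, h2, Units.val_one]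
    exact Units.ext (sq_eq_one_field hF h3)
  · have ho : orderOf t = 2 := orderOf_eq_prime (by rw [pow_two]; exact htt) ht1
    have hd := hfpf.prime_dvd hF Nat.prime_two ho
    have : (2 : ℕ) ∣ (2 ^ (2 * m + 1)) ^ 2 := by
      rw [← pow_mul]
      exact dvd_pow_self 2 (by omega)
    have h1 : (2 : ℕ) ∣ 1 := (Nat.dvd_add_right this).1 hd
    omega

include hF hm in
/-- elements of odd prime order fix no nonzero vector of the natural module -/
theorem sz_fixed_vec_zero {g : Sz F m} {s : ℕ} (hs : s.Prime) (hs2 : s ≠ 2) (hg : orderOf g = s)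
    (v : Fin 4 → F) (hv : szMat g *ᵥ v = v) : v = 0 := by
  have hfin : Finite (Sz F m) := finite_Sz hF hm
  have hg1 : g ≠ 1 := by
    rintro rfl
    rw [orderOf_one] at hg
    exact hs.one_lt.ne hg
  rcases sz_trichotomy hF hm hg1 with ⟨u, a, b, hab, rfl⟩ | ⟨u, k, hk, rfl⟩ | hfpf
  · exfalso
    have hd := Subgroup.orderOf_dvd_natCard _ (gT_mem_Qs hF a b)
    have hord : orderOf (gT hF a b) = s := by
      rw [← hg]
      have := orderOf_injective (MulAut.conj u).toMonoidHom (MulAut.conj u).injective (gT hF a b)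
      simpa [MulAut.conj_apply] using this.symm
    rw [hord, card_Qs hF] at hd
    have := (Nat.prime_dvd_prime_iff_eq hs Nat.prime_two).1
      (hs.dvd_of_dvd_pow (hs.dvd_of_dvd_pow hd))
    exact hs2 this
  · set v' : Fin 4 → F := szMat u⁻¹ *ᵥ v with hv'
    have hfix : szDmat m (k : F) *ᵥ v' = v' := by
      have e1 : szMat (gD hF k) = szDmat m (k : F) := rfl
      rw [← e1, hv', Matrix.mulVec_mulVec, ← szMat_mul]
      conv_rhs => rw [← hv]
      rw [Matrix.mulVec_mulVec, ← szMat_mul]
      congr 2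
      group
    have hk0 : (k : F) ≠ 0 := k.ne_zero
    have hk1 : (k : F) ≠ 1 := fun h => hk (Units.ext h)
    have hd1 : (k : F) ^ 2 * szθ m (k : F) ≠ 1 := fun h => hk1 (sq_mul_szθ_eq_one hF h)
    have hd2 : szθ m (k : F) ≠ 1 := fun h => hk1 (szθ_eq_one hF h)
    have hd3 : (szθ m (k : F))⁻¹ ≠ 1 := fun h => hd2 (inv_eq_one.1 h)
    have hd4 : (szθ m (k : F))⁻¹ * ((k : F) ^ 2)⁻¹ ≠ 1 := by
      rw [← _root_.mul_inv_rev]
      exact fun h => hd1 (inv_eq_one.1 h)
    have key : ∀ d x : F, d ≠ 1 → d * x = x → x = 0 := by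
      intro d x hd hx
      have : (d - 1) * x = 0 := by linear_combination hx
      rcases mul_eq_zero.1 this with h | h
      · exact absurd (sub_eq_zero.1 h) hd
      · exact h
    have c0 := congrFun hfix 0
    have c1 := congrFun hfix 1
    have c2 := congrFun hfix 2
    have c3 := congrFun hfix 3
    simp [szDmat, Matrix.mulVec, dotProduct, Fin.sum_univ_four] at c0 c1 c2 c3
    have hv'0 : v' = 0 := by
      ext i
      fin_cases i
      · exact key _ _ hd1 c0
      · exact key _ _ hd2 c1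
      · exact key _ _ hd3 c2
      · exact key _ _ hd4 c3
    have : szMat u *ᵥ v' = v := by
      rw [hv', Matrix.mulVec_mulVec, ← szMat_mul, mul_inv_cancel, szMat_one, Matrix.one_mulVec]
    rw [← this, hv'0, Matrix.mulVec_zero]
  · by_contra hv0
    have hd := hfpf.prime_dvd hF hs hg
    apply no_eigenvector_of_prime hF hm g hs hg hd v hv0 1
    rw [one_smul]
    exact hv

end Cfsg.Agent.Lib.helper3
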