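import Mathlib
import Cfsg.Prelude.Def_Sz
import Cfsg.Prelude.Def_LieExceptional
import Cfsg.Agent.Lib.helper3.SuzukiPrimeGraph
import Cfsg.Agent.Lib.helper3.SuzukiCard

set_option autoImplicit false

universe u

namespace Cfsg.Agent.Lib.helper3

open Cfsg Matrix

/-- a fresh copy of `Fin n` carrying no algebraic structure -/
structure SzBox (n : ℕ) : Type where
  val : Fin n

/-- the box is in bijection with `Fin n` -/
def SzBox.equivFin (n : ℕ) : SzBox n ≃ Fin n :=
  ⟨SzBox.val, SzBox.mk, fun _ => rfl, fun _ => rfl⟩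

/-- every finite group has an isomorphic copy in the lowest universe -/
theorem exists_small_copy (H : Type u) [Group H] [Finite H] :
    ∃ (H' : Type) (_ : Group H') (_ : Fintype H'), Fintype.card H' = Nat.card H ∧
      Nonempty (H' ≃* H) := by
  let e : SzBox (Nat.card H) ≃ H := (SzBox.equivFin (Nat.card H)).trans (Finite.equivFin H).symm
  refine ⟨SzBox (Nat.card H), e.group, Fintype.ofEquiv (Fin (Nat.card H))
    (SzBox.equivFin (Nat.card H)).symm, ?_, ?_⟩
  · exact (Fintype.ofEquiv_card _).trans (Fintype.card_fin _)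
  · exact ⟨e.mulEquiv⟩

theorem exists_orderOf_congr {A B : Type*} [Group A] [Group B] (e : A ≃* B) (n : ℕ) :
    (∃ a : A, orderOf a = n) ↔ (∃ b : B, orderOf b = n) := by
  constructor
  · rintro ⟨a, ha⟩
    exact ⟨e a, by rw [MulEquiv.orderOf_eq, ha]⟩
  · rintro ⟨b, hb⟩
    exact ⟨e.symm b, by rw [MulEquiv.orderOf_eq, hb]⟩

variable {F : Type*} [Field F] [Fintype F] {m : ℕ}

/-- the diagonal action on a power of the natural module -/
noncomputable def szφ (F : Type*) [Field F] (m k : ℕ) :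
    Sz F m →* MulAut (Multiplicative (Fin k → Fin 4 → F)) :=
  (MulAutMultiplicative (Fin k → Fin 4 → F)).symm.toMonoidHom.comp
    (DistribMulAction.toAddAut (Sz F m) (Fin k → Fin 4 → F))

omit [Fintype F] in
theorem szφ_apply (k : ℕ) (g : Sz F m) (w : Multiplicative (Fin k → Fin 4 → F)) (i : Fin k) :
    Multiplicative.toAdd (szφ F m k g w) i = szMat g *ᵥ (Multiplicative.toAdd w i) := rfl

variable (hF : Fintype.card F = 2 ^ (2 * m + 1)) (hm : 1 ≤ m)

include hF hm in
theorem sz_prime_graph_family (N : ℕ) :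
    ∃ (H : Type) (_ : Group H) (_ : Fintype H), N < Fintype.card H ∧
      ((∀ r : ℕ, r.Prime → (r ∣ Nat.card ↥(Cfsg.Lie.Sz F (2 ^ (m + 1))) ↔ r ∣ Nat.card H)) ∧
      (∀ r s : ℕ, r.Prime → s.Prime → r ≠ s →
        ((∃ x : ↥(Cfsg.Lie.Sz F (2 ^ (m + 1))), orderOf x = r * s) ↔
          (∃ y : H, orderOf y = r * s)))) := by
  classical
  have h2 := sz_two hF
  have hfin : Finite (Sz F m) := finite_Sz hF hm
  have hfinH : Finite (Multiplicative (Fin N → Fin 4 → F) ⋊[szφ F m N] Sz F m) :=
    Finite.of_equiv _ SemidirectProduct.equivProd.symm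
  obtain ⟨H', iG, iF, hcard, ⟨e⟩⟩ :=
    exists_small_copy (Multiplicative (Fin N → Fin 4 → F) ⋊[szφ F m N] Sz F m)
  have hcN : Nat.card (Multiplicative (Fin N → Fin 4 → F)) = ((2 ^ (2 * m + 1)) ^ 4) ^ N := by
    rw [Nat.card_congr Multiplicative.toAdd, Nat.card_eq_fintype_card, Fintype.card_fun,
      Fintype.card_fun, Fintype.card_fin, Fintype.card_fin, hF]
  have hcH : Nat.card (Multiplicative (Fin N → Fin 4 → F) ⋊[szφ F m N] Sz F m) =
      ((2 ^ (2 * m + 1)) ^ 4) ^ N * Nat.card (Sz F m) := by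
    rw [SemidirectProduct.card, hcN]
  have hcL : Nat.card ↥(Cfsg.Lie.Sz F (2 ^ (m + 1))) = Nat.card (Sz F m) :=
    (Nat.card_congr (szLieEquiv hF hm).toEquiv).symm
  have hcH' : Nat.card H' = ((2 ^ (2 * m + 1)) ^ 4) ^ N * Nat.card (Sz F m) := by
    rw [Nat.card_congr e.toEquiv, hcH]
  refine ⟨H', iG, iF, ?_, ?_, ?_⟩
  · rw [hcard, hcH]
    have h1 : N < 2 ^ N := Nat.lt_two_pow_self
    have h3 : 2 ^ N ≤ ((2 ^ (2 * m + 1)) ^ 4) ^ N := by
      apply Nat.pow_le_pow_left
      calc 2 = 2 ^ 1 := by norm_num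
        _ ≤ 2 ^ ((2 * m + 1) * 4) := Nat.pow_le_pow_right (by norm_num) (by omega)
        _ = (2 ^ (2 * m + 1)) ^ 4 := by rw [pow_mul]
    have h4 : 0 < Nat.card (Sz F m) := Nat.card_pos
    nlinarith
  · intro r hr
    rw [hcL, hcH']
    constructor
    · intro h
      exact Dvd.dvd.mul_left h _
    · intro h
      rcases (Nat.Prime.dvd_mul hr).1 h with h' | h'
      · have hr2 : r = 2 := (Nat.prime_dvd_prime_iff_eq hr Nat.prime_two).1
          (hr.dvd_of_dvd_pow (hr.dvd_of_dvd_pow (hr.dvd_of_dvd_pow h')))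
        rw [hr2, card_Sz hm hF]
        apply Dvd.dvd.mul_right
        apply Dvd.dvd.mul_right
        rw [← pow_mul]
        exact dvd_pow_self 2 (by omega)
      · exact h'
  · intro r s hr hs hrs
    rw [exists_orderOf_congr (szLieEquiv hF hm).symm, exists_orderOf_congr e]
    symm
    apply semi_order_iff (szφ F m N) _ _ _ hr hs hrs
    · intro n
      apply Multiplicative.toAdd.injective
      funext i j
      change Multiplicative.toAdd n i j + Multiplicative.toAdd n i j = 0
      linear_combination (Multiplicative.toAdd n i j) * h2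
    · intro t g ht1 htt hc s hs hs2
      exact sz_no_invol_commute hF hm ht1 htt hc hs hs2
    · intro g s hs hs2 hg n hn
      apply Multiplicative.toAdd.injective
      funext i
      have := congrFun (congrArg Multiplicative.toAdd hn) i
      rw [szφ_apply] at this
      exact sz_fixed_vec_zero hF hm hs hs2 hg _ this

end Cfsg.Agent.Lib.helper3
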