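import Mathlib
import Cfsg.Prelude.Def_LieExceptional
import Cfsg.Agent.Lib.helper3.SuzukiPartition

set_option autoImplicit false

namespace Cfsg.Agent.Lib.helper3

open Cfsg Matrix

section

variable {F : Type*} [Field F] [Fintype F] {m : ℕ} (hF : Fintype.card F = 2 ^ (2 * m + 1))
  (hm : 1 ≤ m)

include hF hm in
/-- a translation conjugate to its inverse is an involution -/
theorem gT_real {a b : F} {c : Sz F m} (_hab : ¬ (a = 0 ∧ b = 0))
    (hc : c * gT hF a b * c⁻¹ = (gT hF a b)⁻¹) : a = 0 := by
  have h2 := sz_two hF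
  by_contra ha
  have hinv : (gT hF a b)⁻¹ = gT hF a (b + a * szθ m a) := gT_inv hF a b
  have hab' : ¬ (a = 0 ∧ b + a * szθ m a = 0) := fun h => ha h.1
  -- `c` fixes the point at infinity
  have hfix : c • oInf F m = oInf F m := by
    apply gT_fixed hF hab'
    rw [← hinv, ← hc, ← mul_smul]
    have e : c * gT hF a b * c⁻¹ * c = c * gT hF a b := by group
    rw [e, mul_smul, gT_oInf]
  obtain ⟨a', b', k, rfl⟩ := stab_decomp hF hm hfix
  have hc' : gT hF a' b' * gD hF k * gT hF a b = (gT hF a b)⁻¹ * (gT hF a' b' * gD hF k) := by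
    rw [← hc]
    group
  rw [hinv, mul_assoc, gD_gT, ← mul_assoc, ← mul_assoc] at hc'
  have e := mul_right_cancel hc'
  rw [gT_mul, gT_mul] at e
  obtain ⟨e1, e2⟩ := gT_injective hF e
  have hk2 : (k : F) ^ 2 = 1 := by
    have : ((k : F) ^ 2 - 1) * a = 0 := by linear_combination e1
    rcases mul_eq_zero.1 this with h' | h'
    · linear_combination h'
    · exact absurd h' ha
  have hk1 : (k : F) = 1 := sz_sq_eq_one hF hk2
  rw [hk1, szθ_one] at e2
  -- the two equations
  have hY : szθ m a ≠ 0 := szθ_ne_zero m ha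
  have E1 : szθ m a' * a + szθ m a * a' - a * szθ m a = 0 := by
    linear_combination e2 + (szθ m a * a') * h2
  have E2 : a' ^ 2 * szθ m a + a ^ 2 * szθ m a' - szθ m a * a ^ 2 = 0 := by
    have := congrArg (szθ m) (sub_eq_zero.1 E1)
    rw [szθ_add hF, szθ_mul, szθ_mul, szθ_mul, szθ_szθ hF, szθ_szθ hF] at this
    linear_combination this
  have key : szθ m a * a * a' * (a' + a) = 0 := by
    linear_combination a * E2 - a ^ 2 * E1 + (szθ m a * a ^ 2 * a') * h2
  rcases mul_eq_zero.1 key with h' | h'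
  · rcases mul_eq_zero.1 h' with h'' | h''
    · rcases mul_eq_zero.1 h'' with h3 | h3
      · exact hY h3
      · exact ha h3
    · -- `a' = 0`
      rw [h'', szθ_zero] at E1
      have : a * szθ m a = 0 := by linear_combination -E1
      rcases mul_eq_zero.1 this with h3 | h3
      · exact ha h3
      · exact hY h3
  · -- `a' = a` in characteristic two
    have haa : a' = a := by linear_combination h' - a * h2
    rw [haa] at E1
    have : a * szθ m a = 0 := by linear_combination -E1 + (szθ m a * a) * h2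
    rcases mul_eq_zero.1 this with h3 | h3
    · exact ha h3
    · exact hY h3

include hF hm in
/-- in a Sylow 2-subgroup the elements conjugate to their inverses are the involutions -/
theorem sz_real_two_elements (P : Sylow 2 (Sz F m)) (g : Sz F m) (hg : g ∈ P) (h1 : g ≠ 1) :
    IsConj g g⁻¹ ↔ orderOf g = 2 := by
  constructor
  · intro hconj
    rw [isConj_iff] at hconj
    obtain ⟨c, hc⟩ := hconj
    obtain ⟨x, hx⟩ := sylow_two_conj hF hm P
    obtain ⟨a, b, hab⟩ := (mem_Qs hF).1 ((hx g).1 hg)
    have hne : ¬ (a = 0 ∧ b = 0) := by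
      rintro ⟨rfl, rfl⟩
      rw [gT_zero] at hab
      apply h1
      calc g = x * (x⁻¹ * g * x) * x⁻¹ := by group
        _ = 1 := by rw [hab]; group
    have hc' : (x⁻¹ * c * x) * gT hF a b * (x⁻¹ * c * x)⁻¹ = (gT hF a b)⁻¹ := by
      rw [← hab]
      have e : x⁻¹ * c * x * (x⁻¹ * g * x) * (x⁻¹ * c * x)⁻¹ = x⁻¹ * (c * g * c⁻¹) * x := by group
      rw [e, hc]
      group
    have ha := gT_real hF hm hne hc'
    subst ha
    have hsq : (x⁻¹ * g * x) ^ 2 = 1 := by
      rw [hab, pow_two, gT_mul, szθ_zero]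
      have h2 := sz_two hF
      have : b + b + 0 * (0 : F) = 0 := by linear_combination b * h2
      rw [this, add_zero, gT_zero]
    have hg2 : g ^ 2 = 1 := by
      have e : g = x * (x⁻¹ * g * x) * x⁻¹ := by group
      rw [e, conj_pow', hsq]
      group
    exact orderOf_eq_prime hg2 h1
  · intro ho
    have hg2 : g ^ 2 = 1 := by rw [← ho, pow_orderOf_eq_one]
    have : g⁻¹ = g := by
      rw [inv_eq_iff_mul_eq_one, ← pow_two, hg2]
    rw [this]

end

end Cfsg.Agent.Lib.helper3
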