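import Mathlib
import Cfsg.Prelude.Def_LieExceptional
import Cfsg.Agent.Lib.helper3.SuzukiCovE

set_option autoImplicit false

namespace Cfsg.Agent.Lib.helper3

open Cfsg Matrix

section field

variable {F : Type*} [Field F] [Fintype F] {m : ℕ} (hF : Fintype.card F = 2 ^ (2 * m + 1))

/-- the absolute trace of the field with `2 ^ (2 * m + 1)` elements -/
def szTr (m : ℕ) (x : F) : F := ∑ i ∈ Finset.range (2 * m + 1), x ^ (2 ^ i)

include hF in
theorem szTr_add (x y : F) : szTr m (x + y) = szTr m x + szTr m y := by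
  have : CharP F 2 := CharTwo.of_one_ne_zero_of_two_eq_zero one_ne_zero (sz_two hF)
  have : Fact (Nat.Prime 2) := ⟨Nat.prime_two⟩
  unfold szTr
  rw [← Finset.sum_add_distrib]
  refine Finset.sum_congr rfl fun i _ => ?_
  exact add_pow_char_pow x y 2 i

include hF in
theorem szTr_sq (x : F) : szTr m (x ^ 2) = szTr m x := by
  have hx : x ^ 2 ^ (2 * m + 1) = x := by
    rw [← hF]; exact FiniteField.pow_card x
  unfold szTr
  have e : ∀ i, (x ^ 2) ^ 2 ^ i = x ^ 2 ^ (i + 1) := by
    intro i
    rw [← pow_mul, pow_succ']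
  simp only [e]
  rw [Finset.sum_range_succ, hx, Finset.sum_range_succ' (fun i => x ^ 2 ^ i), pow_zero, pow_one]

include hF in
theorem szTr_mul_self (x : F) : szTr m x * szTr m x = szTr m x := by
  have : CharP F 2 := CharTwo.of_one_ne_zero_of_two_eq_zero one_ne_zero (sz_two hF)
  have : Fact (Nat.Prime 2) := ⟨Nat.prime_two⟩
  conv_rhs => rw [← szTr_sq hF]
  unfold szTr
  rw [← pow_two, sum_pow_char]
  refine Finset.sum_congr rfl fun i _ => ?_
  rw [← pow_mul, ← pow_mul, mul_comm]

include hF in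
theorem szTr_cases (x : F) : szTr m x = 0 ∨ szTr m x = 1 := by
  have h := szTr_mul_self hF x
  have h' : szTr m x * (szTr m x - 1) = 0 := by linear_combination h
  rcases mul_eq_zero.1 h' with h0 | h1
  · exact Or.inl h0
  · exact Or.inr (sub_eq_zero.1 h1)

include hF in
theorem szTr_one : szTr m (1 : F) = 1 := by
  have h2 := sz_two hF
  unfold szTr
  simp only [one_pow, Finset.sum_const, Finset.card_range, nsmul_eq_mul, mul_one]
  push_cast
  linear_combination (m : F) * h2

include hF in
theorem szTr_pow (x : F) (j : ℕ) : szTr m (x ^ 2 ^ j) = szTr m x := by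
  induction j with
  | zero => simp
  | succ j ih => rw [pow_succ, pow_mul, szTr_sq hF, ih]

include hF in
theorem szTr_θ (x : F) : szTr m (szθ m x) = szTr m x := szTr_pow hF x (m + 1)

theorem szTr_zero : szTr m (0 : F) = 0 := by
  unfold szTr
  apply Finset.sum_eq_zero
  intro i _
  exact zero_pow (pow_ne_zero _ two_ne_zero)

/-- the quadratic character `(-1) ^ Tr` of the additive group of the field -/
noncomputable def szChi (m : ℕ) (x : F) : ℤ := by
  classical exact if szTr m x = 0 then 1 else -1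

theorem szChi_zero : szChi m (0 : F) = 1 := by
  unfold szChi
  rw [if_pos szTr_zero]

include hF in
theorem szChi_one : szChi m (1 : F) = -1 := by
  unfold szChi
  rw [if_neg (by rw [szTr_one hF]; exact one_ne_zero)]

theorem szChi_cases (x : F) : szChi m x = 1 ∨ szChi m x = -1 := by
  unfold szChi
  split_ifs
  · exact Or.inl rfl
  · exact Or.inr rfl

theorem szChi_mul_self (x : F) : szChi m x * szChi m x = 1 := by
  rcases szChi_cases (m := m) x with h | h <;> rw [h] <;> norm_num

include hF in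
theorem szChi_add (x y : F) : szChi m (x + y) = szChi m x * szChi m y := by
  have h2 := sz_two hF
  have h11 : (1 : F) + 1 = 0 := by linear_combination h2
  unfold szChi
  rw [szTr_add hF]
  rcases szTr_cases hF x with hx | hx <;> rcases szTr_cases hF y with hy | hy <;>
    simp [hx, hy, h11]

include hF in
theorem szChi_eq_one_iff (x : F) : szChi m x = 1 ↔ szTr m x = 0 := by
  unfold szChi
  split_ifs with h
  · simp [h]
  · simp [h]

include hF in
theorem sum_szChi : ∑ x : F, szChi m x = 0 := by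
  have h : ∑ x : F, szChi m x = ∑ x : F, szChi m (x + 1) :=
    (Equiv.sum_comp (Equiv.addRight (1 : F)) _).symm
  simp only [szChi_add hF, szChi_one hF, mul_neg, mul_one, Finset.sum_neg_distrib] at h
  omega

include hF in
/-- the radical of the commutator form twisted by `szChi` -/
theorem szChi_radical {a : F}
    (h : ∀ x : F, szChi m (szθ m a * x + szθ m x * a) = 1) : a = 0 ∨ a = 1 := by
  have h2 := sz_two hF
  have hT : ∀ x : F, szTr m (szθ m a * x) = szTr m (szθ m a * x ^ 2) := by
    intro x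
    have h1 := (szChi_eq_one_iff hF _).1 (h x)
    rw [szTr_add hF] at h1
    have h3 : szTr m (szθ m x * a) = szTr m (szθ m a * x ^ 2) := by
      rw [← szTr_θ hF, szθ_mul, szθ_szθ hF, mul_comm]
    rw [h3] at h1
    have : szTr m (szθ m a * x ^ 2) = - szTr m (szθ m a * x) := by linear_combination h1
    rw [this]
    linear_combination (szTr m (szθ m a * x)) * h2
  have hu : ∀ x : F, szTr m ((szθ m a ^ 2 + szθ m a) * x ^ 2) = 0 := by
    intro x
    rw [add_mul, szTr_add hF, ← hT x, ← mul_pow, szTr_sq hF]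
    linear_combination (szTr m (szθ m a * x)) * h2
  have hu0 : szθ m a ^ 2 + szθ m a = 0 := by
    by_contra hne
    obtain ⟨e, he⟩ := exists_sqrt_field hF (szθ m a ^ 2 + szθ m a)⁻¹
    have := hu e
    rw [he, mul_inv_cancel₀ hne, szTr_one hF] at this
    exact one_ne_zero this
  have hu1 : szθ m a * (szθ m a + 1) = 0 := by linear_combination hu0
  rcases mul_eq_zero.1 hu1 with h0 | h1
  · exact Or.inl (szθ_eq_zero m h0)
  · right
    apply szθ_injective hF
    rw [szθ_one]
    linear_combination h1 - h2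

end field


open Representation in
theorem char_norm_ge {H : Type*} [Group H] [Fintype H] {W : Type*} [AddCommGroup W] [Module ℂ W]
    [FiniteDimensional ℂ W] [Nontrivial W] (σ : Representation ℂ H W) :
    ∃ n : ℕ, 1 ≤ n ∧ ∑ h : H, σ.character h⁻¹ * σ.character h = (Nat.card H : ℂ) * n := by
  classical
  have : Invertible (Nat.card H : ℂ) := invertibleOfNonzero (by
    rw [Nat.cast_ne_zero]; exact Nat.card_pos.ne')
  have h1 := card_inv_mul_sum_char_eq_finrank (linHom σ σ)
  simp only [char_linHom] at h1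
  refine ⟨Module.finrank ℂ (invariants (linHom σ σ)), ?_, ?_⟩
  · rw [Nat.succ_le_iff, Module.finrank_pos_iff_exists_ne_zero]
    refine ⟨⟨LinearMap.id, ?_⟩, ?_⟩
    · intro g
      ext v
      simp [linHom_apply]
    · intro h
      have := congrArg Subtype.val h
      simp only [ZeroMemClass.coe_zero] at this
      obtain ⟨w, hw⟩ := exists_ne (0 : W)
      exact hw (by simpa using LinearMap.congr_fun this w)
  · rw [← h1, ← mul_assoc, mul_inv_cancel₀, one_mul]
    rw [Nat.cast_ne_zero]; exact Nat.card_pos.ne'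


theorem trace_invol {W : Type*} [AddCommGroup W] [Module ℂ W] [FiniteDimensional ℂ W]
    (T : W →ₗ[ℂ] W) (hT : T * T = 1) :
    ∃ t : ℤ, |t| ≤ (Module.finrank ℂ W : ℤ) ∧ LinearMap.trace ℂ W T = (t : ℂ) := by
  obtain ⟨P, hP⟩ : ∃ P : W →ₗ[ℂ] W, P = (2⁻¹ : ℂ) • (1 + T) := ⟨_, rfl⟩
  have hid : IsIdempotentElem P := by
    unfold IsIdempotentElem
    rw [hP, smul_mul_smul_comm, mul_add, add_mul, add_mul, hT, mul_one, one_mul, mul_one]
    rw [show (1 : W →ₗ[ℂ] W) + T + (T + 1) = (2 : ℂ) • (1 + T) by rw [two_smul]; abel, smul_smul]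
    norm_num
  have hproj := LinearMap.IsIdempotentElem.isProj_range P hid
  have htr := hproj.trace
  have hT2 : T = (2 : ℂ) • P - 1 := by
    rw [hP, smul_smul]; norm_num
  refine ⟨2 * (Module.finrank ℂ (LinearMap.range P) : ℤ) - Module.finrank ℂ W, ?_, ?_⟩
  · have hle : Module.finrank ℂ (LinearMap.range P) ≤ Module.finrank ℂ W := Submodule.finrank_le _
    rw [abs_le]
    constructor <;> omega
  · rw [hT2, map_sub, map_smul, htr, LinearMap.trace_one]
    push_cast
    simp

theorem trace_invol' {W : Type*} [AddCommGroup W] [Module ℂ W] [FiniteDimensional ℂ W]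
    (T : W →ₗ[ℂ] W) (ε : ℤ) (hε : ε = 1 ∨ ε = -1) (hT : T * T = (ε : ℂ) • 1) :
    ∃ t : ℤ, |t| ≤ (Module.finrank ℂ W : ℤ) ∧
      (ε : ℂ) * (LinearMap.trace ℂ W T * LinearMap.trace ℂ W T) = (t : ℂ) * (t : ℂ) := by
  rcases hε with rfl | rfl
  · obtain ⟨t, ht, e⟩ := trace_invol T (by simpa using hT)
    exact ⟨t, ht, by rw [e]; simp⟩
  · obtain ⟨t, ht, e⟩ := trace_invol (Complex.I • T) (by
      rw [smul_mul_smul_comm, hT, smul_smul]; simp)
    refine ⟨t, ht, ?_⟩
    rw [← e, map_smul, smul_eq_mul]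
    push_cast
    linear_combination (-(LinearMap.trace ℂ W T * LinearMap.trace ℂ W T)) * Complex.I_sq


section proj
variable {A : Type*} [AddCommGroup A] [Fintype A] {V : Type*} [AddCommGroup V] [Module ℂ V]

/-- the simultaneous eigenspace -/
def eigSub (r : A → V →ₗ[ℂ] V) (χ : A → ℤ) : Submodule ℂ V where
  carrier := {v | ∀ a, r a v = (χ a : ℂ) • v}
  add_mem' := by
    intro v w hv hw a
    rw [map_add, hv a, hw a, smul_add]
  zero_mem' := by
    intro a
    simp
  smul_mem' := by
    intro c v hv a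
    rw [map_smul, hv a, smul_comm]

omit [AddCommGroup A] [Fintype A] in
theorem mem_eigSub {r : A → V →ₗ[ℂ] V} {χ : A → ℤ} {v : V} :
    v ∈ eigSub r χ ↔ ∀ a, r a v = (χ a : ℂ) • v := Iff.rfl

/-- the averaging operator attached to a character -/
noncomputable def eigProj (r : A → V →ₗ[ℂ] V) (χ : A → ℤ) : V →ₗ[ℂ] V :=
  (Fintype.card A : ℂ)⁻¹ • ∑ a, (χ a : ℂ) • r a

theorem isProj_eigSub (r : A → V →ₗ[ℂ] V) (hr : ∀ a b, r (a + b) = r a * r b)
    (χ : A → ℤ) (hχ : ∀ a b, χ (a + b) = χ a * χ b) (hχ2 : ∀ a, χ a * χ a = 1) :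
    LinearMap.IsProj (eigSub r χ) (eigProj r χ) := by
  have hcard : (Fintype.card A : ℂ) ≠ 0 := by
    rw [Nat.cast_ne_zero]; exact Fintype.card_ne_zero
  constructor
  · intro v a
    unfold eigProj
    simp only [LinearMap.smul_apply, LinearMap.sum_apply, map_smul, map_sum]
    rw [smul_comm]
    congr 1
    rw [Finset.smul_sum]
    rw [← Equiv.sum_comp (Equiv.addLeft a) (fun b => (χ a : ℂ) • (χ b : ℂ) • (r b) v)]
    refine Finset.sum_congr rfl fun b _ => ?_
    simp only [Equiv.coe_addLeft]
    rw [hr, Module.End.mul_apply, smul_smul, hχ]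
    push_cast
    rw [← mul_assoc]
    have h' : (χ a : ℂ) * (χ a : ℂ) = 1 := by exact_mod_cast hχ2 a
    rw [h', one_mul]
  · intro v hv
    unfold eigProj
    simp only [LinearMap.smul_apply, LinearMap.sum_apply]
    have : ∀ a, (χ a : ℂ) • (r a) v = v := by
      intro a
      rw [hv a, smul_smul]
      have h' : (χ a : ℂ) * (χ a : ℂ) = 1 := by exact_mod_cast hχ2 a
      rw [h', one_smul]
    simp only [this, Finset.sum_const, Finset.card_univ]
    rw [← Nat.cast_smul_eq_nsmul ℂ, smul_smul, inv_mul_cancel₀ hcard, one_smul]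

end proj

end Cfsg.Agent.Lib.helper3
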