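import Mathlib
import Cfsg.Prelude.Def_LieExceptional
import Cfsg.Agent.Lib.helper3.SuzukiRepA

set_option autoImplicit false

namespace Cfsg.Agent.Lib.helper3

open Cfsg Matrix

variable {F : Type*} [Field F] [Fintype F] {m : ℕ} (hF : Fintype.card F = 2 ^ (2 * m + 1))
  (hm : 1 ≤ m)
variable {V : Type*} [AddCommGroup V] [Module ℂ V]
  (ρ : Representation ℂ (Sz F m) V)

/-- the action of the centre of the Sylow 2-subgroup -/
def zRep (b : F) : V →ₗ[ℂ] V := ρ (gT hF 0 b)

theorem zRep_add (b b' : F) : zRep hF ρ (b + b') = zRep hF ρ b * zRep hF ρ b' := by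
  unfold zRep
  rw [← map_mul, gT_mul]
  simp only [add_zero, mul_zero]

theorem zRep_zero : zRep hF ρ 0 = 1 := by
  unfold zRep
  rw [gT_zero, map_one]

theorem gT_zero_commute (b a b' : F) :
    gT hF 0 b * gT hF a b' = gT hF a b' * gT hF 0 b := by
  rw [gT_mul, gT_mul, szθ_zero]
  simp only [add_zero, mul_zero, zero_add, zero_mul]
  rw [add_comm b b']

include hm in
/-- the non-trivial central elements of the Sylow 2-subgroup are conjugate -/
theorem gT_zero_conj {b : F} (hb : b ≠ 0) :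
    ∃ u : Sz F m, u * gT hF 0 1 * u⁻¹ = gT hF 0 b := by
  obtain ⟨e, he⟩ := exists_sqrt_field hF b
  obtain ⟨k, hk⟩ := exists_norm_eq hF e
  have hk0 : k ≠ 0 := by
    rintro rfl
    rw [zero_mul] at hk
    rw [← hk] at he
    exact hb (by rw [← he]; ring)
  refine ⟨gD hF (Units.mk0 k hk0), ?_⟩
  rw [gD_conj_gT]
  congr 1
  · simp
  · simp only [Units.val_mk0, mul_one]
    rw [← he, ← hk]
    ring

variable [FiniteDimensional ℂ V]

include hm in
theorem char_gT_zero {b : F} (hb : b ≠ 0) :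
    ρ.character (gT hF 0 b) = ρ.character (gT hF 0 1) := by
  obtain ⟨u, hu⟩ := gT_zero_conj hF hm hb
  rw [← hu, Representation.char_conj]

include hm in
theorem trace_eigProj (χ : F → ℤ) (h0 : χ 0 = 1) :
    (Fintype.card F : ℂ) * LinearMap.trace ℂ V (eigProj (zRep hF ρ) χ) =
      (∑ b, (χ b : ℂ)) * ρ.character (gT hF 0 1) +
        (Module.finrank ℂ V - ρ.character (gT hF 0 1)) := by
  classical
  have hcard : (Fintype.card F : ℂ) ≠ 0 := by
    rw [Nat.cast_ne_zero]; exact Fintype.card_ne_zero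
  unfold eigProj
  rw [map_smul, smul_eq_mul, ← mul_assoc, mul_inv_cancel₀ hcard, one_mul, map_sum]
  have : ∀ b : F, LinearMap.trace ℂ V ((χ b : ℂ) • zRep hF ρ b) =
      (χ b : ℂ) * ρ.character (gT hF 0 1) +
        (if b = 0 then (Module.finrank ℂ V - ρ.character (gT hF 0 1) : ℂ) else 0) := by
    intro b
    rw [map_smul, smul_eq_mul]
    by_cases hb : b = 0
    · subst hb
      rw [if_pos rfl, zRep_zero, LinearMap.trace_one, h0]
      push_cast
      ring
    · rw [if_neg hb, add_zero]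
      congr 1
      exact char_gT_zero hF hm ρ hb
  simp only [this]
  rw [Finset.sum_add_distrib, Finset.sum_ite_eq', if_pos (Finset.mem_univ _), Finset.sum_mul]

/-- the non-trivial eigenspace of the centre -/
noncomputable def wSub : Submodule ℂ V := eigSub (zRep hF ρ) (szChi m)

/-- the fixed space of the centre -/
noncomputable def wOne : Submodule ℂ V := eigSub (zRep hF ρ) (fun _ => 1)

include hm in
theorem finrank_wSub :
    (Fintype.card F : ℂ) * (Module.finrank ℂ (wSub hF ρ) : ℂ) =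
      Module.finrank ℂ V - ρ.character (gT hF 0 1) := by
  have hproj := isProj_eigSub (zRep hF ρ) (zRep_add hF ρ) (szChi m) (szChi_add hF)
    szChi_mul_self
  have h := trace_eigProj hF hm ρ (szChi m) szChi_zero
  rw [hproj.trace] at h
  have hs : (∑ b : F, ((szChi m b : ℤ) : ℂ)) = 0 := by
    rw [← Int.cast_sum, sum_szChi hF, Int.cast_zero]
  rw [hs, zero_mul, zero_add] at h
  exact h

include hm in
theorem finrank_wOne :
    (Fintype.card F : ℂ) * (Module.finrank ℂ (wOne hF ρ) : ℂ) =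
      (Fintype.card F : ℂ) * ρ.character (gT hF 0 1) +
      (Module.finrank ℂ V - ρ.character (gT hF 0 1)) := by
  have hproj := isProj_eigSub (zRep hF ρ) (zRep_add hF ρ) (fun _ => 1) (fun _ _ => by norm_num)
    (fun _ => by norm_num)
  have h := trace_eigProj hF hm ρ (fun _ => 1) rfl
  rw [hproj.trace] at h
  rw [show wOne hF ρ = eigSub (zRep hF ρ) (fun _ => 1) from rfl, h]
  simp

include hm in
/-- the dimension count -/
theorem finrank_decomp :
    Module.finrank ℂ V =
      Module.finrank ℂ (wOne hF ρ) + (Fintype.card F - 1) * Module.finrank ℂ (wSub hF ρ) := by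
  have h1 := finrank_wSub hF hm ρ
  have h2 := finrank_wOne hF hm ρ
  have hcard : (Fintype.card F : ℂ) ≠ 0 := by
    rw [Nat.cast_ne_zero]; exact Fintype.card_ne_zero
  have hpos : 1 ≤ Fintype.card F := Fintype.card_pos
  have h3 : (Fintype.card F : ℂ) * (Module.finrank ℂ V : ℂ) =
      (Fintype.card F : ℂ) * ((Module.finrank ℂ (wOne hF ρ) : ℂ) +
        ((Fintype.card F : ℂ) - 1) * (Module.finrank ℂ (wSub hF ρ) : ℂ)) := by
    linear_combination (-1 : ℂ) * h2 - ((Fintype.card F : ℂ) - 1) * h1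
  have h4 := mul_left_cancel₀ hcard h3
  have h5 : ((Module.finrank ℂ V : ℕ) : ℂ) =
      ((Module.finrank ℂ (wOne hF ρ) + (Fintype.card F - 1) * Module.finrank ℂ (wSub hF ρ) : ℕ) :
        ℂ) := by
    rw [h4]
    push_cast [Nat.cast_sub hpos]
    ring
  exact Nat.cast_injective h5

/-- the restriction to the Sylow 2-subgroup -/
def qRep : Representation ℂ (Qs hF) V := ρ.comp (Qs hF).subtype

theorem qRep_apply (h : Qs hF) : qRep hF ρ h = ρ (h : Sz F m) := rfl

/-- the non-trivial eigenspace is a subrepresentation of the Sylow 2-subgroup -/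
noncomputable def qSub : Subrepresentation (qRep hF ρ) where
  toSubmodule := wSub hF ρ
  apply_mem_toSubmodule := by
    rintro ⟨g, hg⟩ v hv b
    obtain ⟨a, b', rfl⟩ := (mem_Qs hF).1 hg
    have hvb : ρ (gT hF 0 b) v = (szChi m b : ℂ) • v := hv b
    show ρ (gT hF 0 b) (ρ (gT hF a b') v) = (szChi m b : ℂ) • ρ (gT hF a b') v
    rw [← Module.End.mul_apply, ← map_mul, gT_zero_commute, map_mul, Module.End.mul_apply, hvb,
      map_smul]

/-- the representation of the Sylow 2-subgroup on the eigenspace -/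
noncomputable def qSig : Representation ℂ (Qs hF) (wSub hF ρ) := (qSub hF ρ).toRepresentation

theorem qSig_apply (h : Qs hF) (v : wSub hF ρ) :
    ((qSig hF ρ h v : wSub hF ρ) : V) = ρ (h : Sz F m) (v : V) := rfl

theorem qSig_central (b : F) : qSig hF ρ (qT hF 0 b) = (szChi m b : ℂ) • 1 := by
  ext v
  rw [qSig_apply]
  exact v.2 b

/-- the character of the eigenspace vanishes off the radical -/
theorem qSig_char_eq_zero {a : F} (ha0 : a ≠ 0) (ha1 : a ≠ 1) (b : F) :
    (qSig hF ρ).character (qT hF a b) = 0 := by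
  have h2 := sz_two hF
  have hex : ∃ x : F, szChi m (szθ m a * x + szθ m x * a) = -1 := by
    by_contra hcon
    push Not at hcon
    have : ∀ x : F, szChi m (szθ m a * x + szθ m x * a) = 1 := by
      intro x
      rcases szChi_cases (m := m) (szθ m a * x + szθ m x * a) with h | h
      · exact h
      · exact absurd h (hcon x)
    rcases szChi_radical hF this with h | h
    · exact ha0 h
    · exact ha1 h
  obtain ⟨x, hx⟩ := hex
  -- conjugating by `qT x 0`
  have hconj : qT hF x 0 * qT hF a b * (qT hF x 0)⁻¹ =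
      qT hF a b * qT hF 0 (szθ m a * x + szθ m x * a) := by
    rw [mul_inv_eq_iff_eq_mul, qT_mul, qT_mul, qT_mul]
    apply Subtype.ext
    show gT hF _ _ = gT hF _ _
    congr 1
    · ring
    · rw [szθ_add hF, szθ_zero]
      linear_combination (-(szθ m a * x)) * h2
  have h1 := Representation.char_conj (qSig hF ρ) (qT hF a b) (qT hF x 0)
  rw [hconj] at h1
  unfold Representation.character at h1 ⊢
  rw [map_mul, qSig_central, hx, mul_smul_comm, mul_one, map_smul, smul_eq_mul] at h1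
  have h3 : (2 : ℂ) * LinearMap.trace ℂ (wSub hF ρ) (qSig hF ρ (qT hF a b)) = 0 := by
    push_cast at h1
    linear_combination -h1
  rcases mul_eq_zero.1 h3 with h | h
  · norm_num at h
  · exact h

/-- on the radical the character is bounded by the degree -/
theorem qSig_char_bound {a : F} (ha : a = 0 ∨ a = 1) (b : F) :
    ((qSig hF ρ).character (qT hF a b)⁻¹ * (qSig hF ρ).character (qT hF a b)).re ≤
      ((Module.finrank ℂ (wSub hF ρ) : ℝ)) ^ 2 := by
  have hsq : qSig hF ρ (qT hF a b) * qSig hF ρ (qT hF a b) =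
      ((szChi m (szθ m a * a) : ℤ) : ℂ) • 1 := by
    rw [← map_mul, qT_mul, ← qSig_central]
    congr 2
    · rcases ha with rfl | rfl
      · simp
      · linear_combination sz_two hF
    · linear_combination b * sz_two hF
  obtain ⟨t, ht, e⟩ := trace_invol' (qSig hF ρ (qT hF a b)) (szChi m (szθ m a * a))
    (szChi_cases _) hsq
  have hinv : qSig hF ρ (qT hF a b)⁻¹ =
      ((szChi m (szθ m a * a) : ℤ) : ℂ) • qSig hF ρ (qT hF a b) := by
    have h1 : qSig hF ρ (qT hF a b)⁻¹ * (qSig hF ρ (qT hF a b) * qSig hF ρ (qT hF a b)) =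
        qSig hF ρ (qT hF a b) := by
      rw [← map_mul, ← map_mul, inv_mul_cancel_left]
    rw [hsq, mul_smul_comm, mul_one] at h1
    have h2 : ((szChi m (szθ m a * a) : ℤ) : ℂ) * ((szChi m (szθ m a * a) : ℤ) : ℂ) = 1 := by
      exact_mod_cast szChi_mul_self (m := m) (szθ m a * a)
    rw [← h1, smul_smul, h2, one_smul]
  unfold Representation.character
  rw [hinv, map_smul, smul_eq_mul, mul_assoc, e]
  have : ((t : ℂ) * (t : ℂ)).re = (t : ℝ) * (t : ℝ) := by
    rw [← Int.cast_mul, Complex.intCast_re]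
    push_cast
    ring
  rw [this, ← pow_two]
  have h1 : |(t : ℝ)| ≤ (Module.finrank ℂ (wSub hF ρ) : ℝ) := by exact_mod_cast ht
  calc (t : ℝ) ^ 2 = |(t : ℝ)| ^ 2 := (sq_abs _).symm
    _ ≤ _ := pow_le_pow_left₀ (abs_nonneg _) h1 2

include hm in
/-- the eigenspace has dimension at least `2 ^ m` -/
theorem pow_le_finrank_wSub [Nontrivial (wSub hF ρ)] :
    2 ^ m ≤ Module.finrank ℂ (wSub hF ρ) := by
  classical
  have : Finite (Sz F m) := finite_Sz hF hm
  have : Fintype (Qs hF) := Fintype.ofFinite _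
  obtain ⟨n, hn1, hn⟩ := char_norm_ge (qSig hF ρ)
  have hbij : Function.Bijective (fun p : F × F => qT hF p.1 p.2) := by
    constructor
    · intro p p' h
      obtain ⟨h1, h2⟩ := qT_inj hF h
      exact Prod.ext h1 h2
    · intro h
      obtain ⟨a, b, rfl⟩ := qT_surj hF h
      exact ⟨(a, b), rfl⟩
  rw [← Fintype.sum_bijective _ hbij
    (fun p => (qSig hF ρ).character (qT hF p.1 p.2)⁻¹ * (qSig hF ρ).character (qT hF p.1 p.2)) _
    (fun _ => rfl), Fintype.sum_prod_type] at hn
  have hterm : ∀ a ∈ (Finset.univ : Finset F), a ≠ 0 ∧ a ≠ 1 →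
      ∑ b : F, (qSig hF ρ).character (qT hF a b)⁻¹ * (qSig hF ρ).character (qT hF a b) = 0 := by
    intro a _ ha
    apply Finset.sum_eq_zero
    intro b _
    rw [qSig_char_eq_zero hF ρ ha.1 ha.2, mul_zero]
  rw [Finset.sum_eq_add (0 : F) 1 zero_ne_one hterm (by simp) (by simp)] at hn
  have hre := congrArg Complex.re hn
  rw [Complex.add_re, Complex.re_sum, Complex.re_sum, ← Nat.cast_mul, Complex.natCast_re,
    card_Qs] at hre
  have hb0 := Finset.sum_le_card_nsmul (Finset.univ : Finset F)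
    (fun b => ((qSig hF ρ).character (qT hF 0 b)⁻¹ * (qSig hF ρ).character (qT hF 0 b)).re)
    (((Module.finrank ℂ (wSub hF ρ) : ℝ)) ^ 2)
    (fun b _ => qSig_char_bound hF ρ (Or.inl rfl) b)
  have hb1 := Finset.sum_le_card_nsmul (Finset.univ : Finset F)
    (fun b => ((qSig hF ρ).character (qT hF 1 b)⁻¹ * (qSig hF ρ).character (qT hF 1 b)).re)
    (((Module.finrank ℂ (wSub hF ρ) : ℝ)) ^ 2)
    (fun b _ => qSig_char_bound hF ρ (Or.inr rfl) b)
  rw [Finset.card_univ, hF, nsmul_eq_mul] at hb0 hb1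
  have hfin : (((2 ^ (2 * m + 1)) ^ 2 * n : ℕ) : ℝ) ≤
      ((2 * (2 ^ (2 * m + 1) * (Module.finrank ℂ (wSub hF ρ)) ^ 2) : ℕ) : ℝ) := by
    rw [← hre]
    push_cast at hb0 hb1 ⊢
    linarith
  have hfin' : (2 ^ (2 * m + 1)) ^ 2 * n ≤
      2 * (2 ^ (2 * m + 1) * (Module.finrank ℂ (wSub hF ρ)) ^ 2) := by exact_mod_cast hfin
  -- arithmetic
  have hq : 0 < 2 ^ (2 * m + 1) := by positivity
  have h1 : (2 ^ (2 * m + 1)) ^ 2 ≤ 2 * (2 ^ (2 * m + 1) * (Module.finrank ℂ (wSub hF ρ)) ^ 2) :=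
    le_trans (Nat.le_mul_of_pos_right _ hn1) hfin'
  have h2 : 2 ^ (2 * m + 1) * (2 * (2 ^ m) ^ 2) ≤
      2 ^ (2 * m + 1) * (2 * (Module.finrank ℂ (wSub hF ρ)) ^ 2) := by
    calc 2 ^ (2 * m + 1) * (2 * (2 ^ m) ^ 2) = (2 ^ (2 * m + 1)) ^ 2 := by ring
      _ ≤ _ := h1
      _ = _ := by ring
  have h3 := Nat.le_of_mul_le_mul_left h2 hq
  have h4 : (2 ^ m) ^ 2 ≤ (Module.finrank ℂ (wSub hF ρ)) ^ 2 := by omega
  exact (Nat.pow_le_pow_iff_left (by norm_num)).1 h4

include hm in
/-- a non-trivial representation has a non-trivial eigenspace -/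
theorem nontrivial_wSub (hne : ∃ g : Sz F m, ρ g ≠ 1) : Nontrivial (wSub hF ρ) := by
  by_contra hcon
  rw [not_nontrivial_iff_subsingleton] at hcon
  have hd : Module.finrank ℂ (wSub hF ρ) = 0 := Module.finrank_zero_of_subsingleton
  have hdec := finrank_decomp hF hm ρ
  rw [hd, mul_zero, add_zero] at hdec
  have htop : wOne hF ρ = ⊤ := Submodule.eq_top_of_finrank_eq hdec.symm
  have hz : ρ (gT hF 0 1) = 1 := by
    ext v
    have hv : v ∈ wOne hF ρ := by rw [htop]; trivial
    have := hv 1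
    simpa [zRep] using this
  have hs : IsSimpleGroup (Sz F m) := Sz_isSimple hF hm
  have hmem : gT hF 0 1 ∈ (ρ : Sz F m →* (V →ₗ[ℂ] V)).ker := MonoidHom.mem_ker.2 hz
  have hnorm : ((ρ : Sz F m →* (V →ₗ[ℂ] V)).ker).Normal := MonoidHom.normal_ker _
  rcases hnorm.eq_bot_or_eq_top with h | h
  · rw [h, Subgroup.mem_bot] at hmem
    exact gT_zero_ne_one hF one_ne_zero hmem
  · obtain ⟨g, hg⟩ := hne
    have : g ∈ (ρ : Sz F m →* (V →ₗ[ℂ] V)).ker := by rw [h]; trivial
    exact hg (MonoidHom.mem_ker.1 this)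

include hF hm in
/-- every non-trivial complex representation of the Suzuki group has degree at least
`2 ^ m * (q - 1)` -/
theorem sz_rep_degree (hne : ∃ g : Sz F m, ρ g ≠ 1) :
    2 ^ m * (2 ^ (2 * m + 1) - 1) ≤ Module.finrank ℂ V := by
  have := nontrivial_wSub hF hm ρ hne
  have h1 := pow_le_finrank_wSub hF hm ρ
  have h2 := finrank_decomp hF hm ρ
  rw [hF] at h2
  rw [h2, mul_comm]
  exact le_trans (Nat.mul_le_mul_left _ h1) (Nat.le_add_left _ _)

end Cfsg.Agent.Lib.helper3
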