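import Mathlib
import Cfsg.Prelude.Def_LieExceptional
import Cfsg.Agent.Lib.helper3.SuzukiPartition

set_option autoImplicit false

namespace Cfsg.Agent.Lib.helper3

open Cfsg Matrix

section

variable {F : Type*} [Field F] [Fintype F] {m : ℕ} (hF : Fintype.card F = 2 ^ (2 * m + 1))
  (hm : 1 ≤ m)

include hF hm in
/-- the Suzuki group is generated by two elements -/
theorem sz_two_generated : ∃ a b : Sz F m, Subgroup.closure ({a, b} : Set (Sz F m)) = ⊤ := by
  have h2 := sz_two hF
  obtain ⟨κ, hκ⟩ := IsCyclic.exists_generator (α := Fˣ)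
  refine ⟨gD hF κ, gT hF 1 0 * gJ hF, ?_⟩
  set H : Subgroup (Sz F m) := Subgroup.closure ({gD hF κ, gT hF 1 0 * gJ hF} : Set (Sz F m))
    with hH
  have ha : gD hF κ ∈ H := Subgroup.subset_closure (Set.mem_insert _ _)
  have hb : gT hF 1 0 * gJ hF ∈ H :=
    Subgroup.subset_closure (Set.mem_insert_of_mem _ rfl)
  -- the torus
  have hD : ∀ k : Fˣ, gD hF k ∈ H := by
    intro k
    obtain ⟨n, hn⟩ := Subgroup.mem_zpowers_iff.1 (hκ k)
    have : gD hF k = (gD hF κ) ^ n := by
      rw [← hn]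
      exact map_zpow (gDhom hF : Fˣ →* Sz F m) κ n
    rw [this]
    exact H.zpow_mem ha n
  -- translates of the second generator
  have hTJ : ∀ x : F, x ≠ 0 → gT hF x 0 * gJ hF ∈ H := by
    intro x hx
    obtain ⟨k, hk⟩ := exists_sqrt_unit hF (Units.mk0 x hx)
    have hk2 : (k : F) ^ 2 = x := by
      have := congrArg Units.val hk
      rw [Units.val_mul, Units.val_mk0] at this
      rw [pow_two, this]
    have e : gT hF x 0 * gJ hF = gD hF k * (gT hF 1 0 * gJ hF) * gD hF k := by
      have e1 : gD hF k * gJ hF = gJ hF * gD hF k⁻¹ := by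
        have := gJ_gD hF k⁻¹
        rw [inv_inv] at this
        exact this.symm
      rw [← mul_assoc, gD_gT, mul_assoc (gT hF _ _), e1, mul_one, mul_zero, hk2, mul_assoc,
        mul_assoc, ← gD_mul, inv_mul_cancel, gD_one, mul_one]
    rw [e]
    exact H.mul_mem (H.mul_mem (hD k) hb) (hD k)
  -- translations with prescribed first coordinate
  have hT1 : ∀ y : F, y ≠ 1 → gT hF y (szθ m y) ∈ H := by
    intro y hy
    have hx : y + 1 ≠ 0 := by
      intro h
      apply hy
      linear_combination h - h2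
    have h1 := hTJ (y + 1) hx
    have h3 : gT hF (y + 1) 0 * gJ hF * (gT hF 1 0 * gJ hF)⁻¹ ∈ H := H.mul_mem h1 (H.inv_mem hb)
    have e : gT hF (y + 1) 0 * gJ hF * (gT hF 1 0 * gJ hF)⁻¹ = gT hF y (szθ m y) := by
      have e1 : gT hF (y + 1) 0 * gJ hF * (gT hF 1 0 * gJ hF)⁻¹ =
          gT hF (y + 1) 0 * (gT hF 1 0)⁻¹ := by group
      rw [e1, gT_inv, gT_mul, szθ_add hF, szθ_one]
      congr 1
      · linear_combination h2
      · linear_combination h2
    rwa [e] at h3
  -- central translations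
  have hZ1 : ∀ c : F, c ≠ 1 → gT hF 0 c ∈ H := by
    intro c hc
    obtain ⟨y, hy⟩ := norm_surj hF c
    have hy1 : y ≠ 1 := by
      rintro rfl
      rw [szθ_one, mul_one] at hy
      exact hc hy.symm
    have h1 := hT1 y hy1
    have h3 := H.mul_mem h1 h1
    rw [gT_mul] at h3
    have e : gT hF (y + y) (szθ m y + szθ m y + szθ m y * y) = gT hF 0 c := by
      congr 1
      · linear_combination y * h2
      · linear_combination (szθ m y) * h2 + hy
    rwa [e] at h3
  obtain ⟨c₀, hc₀0, hc₀1⟩ : ∃ c : F, c ≠ 0 ∧ c ≠ 1 := by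
    obtain ⟨k, hk⟩ := exists_unit_ne_one hm hF
    refine ⟨(k : F), k.ne_zero, ?_⟩
    intro h
    apply hk
    exact Units.ext h
  have hZ : ∀ c : F, gT hF 0 c ∈ H := by
    intro c
    by_cases hc : c = 1
    · subst hc
      have h1 := hZ1 c₀ hc₀1
      have h3 : (1 : F) + c₀ ≠ 1 := by
        intro h
        apply hc₀0
        linear_combination h
      have h4 := H.mul_mem h1 (hZ1 _ h3)
      rw [gT_mul] at h4
      have e : gT hF ((0 : F) + 0) (c₀ + (1 + c₀) + szθ m 0 * 0) = gT hF 0 1 := by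
        congr 1
        · ring
        · linear_combination c₀ * h2
      rwa [e] at h4
    · exact hZ1 c hc
  have hT2 : ∀ y b : F, y ≠ 1 → gT hF y b ∈ H := by
    intro y b hy
    have h3 := H.mul_mem (hT1 y hy) (hZ (b + szθ m y))
    rw [gT_mul] at h3
    have e : gT hF (y + 0) (szθ m y + (b + szθ m y) + szθ m y * 0) = gT hF y b := by
      congr 1
      · ring
      · linear_combination (szθ m y) * h2
    rwa [e] at h3
  have hT : ∀ y b : F, gT hF y b ∈ H := by
    intro y b
    by_cases hy : y = 1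
    · subst hy
      have h5 : (1 : F) + c₀ ≠ 1 := by
        intro h
        apply hc₀0
        linear_combination h
      have h3 := H.mul_mem (hT2 c₀ 0 hc₀1) (hT2 (1 + c₀) (b + szθ m c₀ * (1 + c₀)) h5)
      rw [gT_mul] at h3
      have e : gT hF (c₀ + (1 + c₀)) (0 + (b + szθ m c₀ * (1 + c₀)) + szθ m c₀ * (1 + c₀)) =
          gT hF 1 b := by
        congr 1
        · linear_combination c₀ * h2
        · linear_combination (szθ m c₀ * (1 + c₀)) * h2
      rwa [e] at h3
    · exact hT2 y b hy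
  have hJ : gJ hF ∈ H := by
    have h3 := H.mul_mem (H.inv_mem (hT 1 0)) hb
    have e : (gT hF 1 0)⁻¹ * (gT hF 1 0 * gJ hF) = gJ hF := by group
    rwa [e] at h3
  rw [eq_top_iff]
  intro g _
  rcases full_decomp hF hm g with ⟨a, b, k, rfl⟩ | ⟨a, b, a', b', k, rfl⟩
  · exact H.mul_mem (hT a b) (hD k)
  · exact H.mul_mem (H.mul_mem (hT a b) hJ) (H.mul_mem (hT a' b') (hD k))

end

end Cfsg.Agent.Lib.helper3
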