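import Mathlib

open MulAction Subgroup
open scoped Pointwise

namespace Cfsg.Agent.Lib.helper3

universe u v

set_option linter.unusedSectionVars false

section GenLem

variable {H : Type u} [Group H] {Ω : Type v} [MulAction H Ω] [Finite Ω]

/-- p-group acting: an invariant subset has cardinality congruent to its fixed part. -/
theorem syl15_ncard_inter_fixedPoints_modEq {p : ℕ} [Fact p.Prime] (P : Subgroup H)
    (hP : IsPGroup p P) (B : Set Ω) (hB : ∀ g ∈ P, ∀ b ∈ B, g • b ∈ B) :
    B.ncard ≡ (B ∩ fixedPoints P Ω).ncard [MOD p] := by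
  classical
  let S : SubMulAction P Ω := ⟨B, fun g b hb => hB g.1 g.2 b hb⟩
  have h1 := hP.card_modEq_card_fixedPoints S
  have e1 : Nat.card S = B.ncard := by
    rw [← Nat.card_coe_set_eq]; rfl
  have e2 : Nat.card (fixedPoints P S) = (B ∩ fixedPoints P Ω).ncard := by
    rw [← Nat.card_coe_set_eq]
    refine Nat.card_congr ⟨fun x => ⟨x.1.1, x.1.2, fun g => ?_⟩, fun x => ⟨⟨x.1, x.2.1⟩, fun g => ?_⟩,
      fun x => rfl, fun x => rfl⟩
    · have := x.2 g
      exact congrArg Subtype.val this
    · apply Subtype.ext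
      exact x.2.2 g
  rw [e1, e2] at h1
  exact h1

theorem syl15_ncard_fixedBy_modEq {p : ℕ} [Fact p.Prime] (x : H)
    (hx : IsPGroup p (zpowers x)) :
    Nat.card Ω ≡ (fixedBy Ω x).ncard [MOD p] := by
  have h := syl15_ncard_inter_fixedPoints_modEq (Ω := Ω) (zpowers x) hx Set.univ (fun _ _ _ _ => Set.mem_univ _)
  rw [Set.ncard_univ, Set.univ_inter] at h
  have e : fixedPoints (zpowers x) Ω = fixedBy Ω x := by
    ext a
    simp only [mem_fixedPoints, mem_fixedBy, Subtype.forall, Subgroup.mk_smul]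
    constructor
    · intro h; exact h x (mem_zpowers x)
    · intro h g hg
      obtain ⟨k, rfl⟩ := mem_zpowers_iff.mp hg
      exact zpow_smul_eq_iff_period_dvd.mpr (by
        have : MulAction.period x a = 1 := by
          rw [MulAction.period_eq_one_iff]; exact h
        rw [this]; exact one_dvd _)
  rw [e] at h
  exact h

end GenLem

section GenLem2

variable {H : Type u} [Group H] [Finite H] {Ω : Type v} [MulAction H Ω] [Finite Ω]

/-- A subgroup acting freely at `δ` with orbit inside `S` has at most `|S|` elements. -/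
theorem syl15_card_le_of_free (K : Subgroup H) (δ : Ω) (hfree : ∀ k ∈ K, k • δ = δ → k = 1)
    (S : Set Ω) (hS : ∀ k ∈ K, k • δ ∈ S) : Nat.card K ≤ S.ncard := by
  rw [← Nat.card_coe_set_eq]
  apply Nat.card_le_card_of_injective (fun k : K => (⟨k.1 • δ, hS k.1 k.2⟩ : S))
  intro a b hab
  have h1 : a.1 • δ = b.1 • δ := congrArg Subtype.val hab
  have h2 : (b.1⁻¹ * a.1) • δ = δ := by
    rw [mul_smul, h1, smul_smul, inv_mul_cancel, one_smul]
  have h3 := hfree _ (K.mul_mem (K.inv_mem b.2) a.2) h2
  apply Subtype.ext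
  have : a.1 = b.1 * (b.1⁻¹ * a.1) := by group
  rw [this, h3, mul_one]

/-- A Sylow `p`-subgroup has order `p` when `p ∥ |H|`. -/
theorem syl15_card_sylow_eq_prime (p : ℕ) [Fact p.Prime] (R : Sylow p H)
    (h1 : p ∣ Nat.card H) (h2 : ¬ p ^ 2 ∣ Nat.card H) : Nat.card (R : Subgroup H) = p := by
  obtain ⟨n, hn⟩ := IsPGroup.iff_card.mp R.2
  have hd := R.dvd_card_of_dvd_card h1
  have hdiv : Nat.card (R : Subgroup H) ∣ Nat.card H := Subgroup.card_subgroup_dvd_card _
  rw [hn] at hd hdiv ⊢
  match n, hd, hdiv with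
  | 0, hd, _ =>
    exfalso
    rw [pow_zero] at hd
    exact (Fact.out : p.Prime).one_lt.ne' (Nat.dvd_one.mp hd)
  | 1, _, _ => exact pow_one p
  | (k+2), _, hdiv =>
    exfalso
    apply h2
    exact dvd_trans (pow_dvd_pow p (by omega)) hdiv

/-- `N(K)/C(K)` embeds in `Aut(K)`; for cyclic `K` the index divides `φ(|K|)`. -/
theorem syl15_relIndex_dvd_totient (K : Subgroup H) [hK : IsCyclic K] :
    (centralizer (K : Set H)).relIndex (normalizer (K : Set H)) ∣ (Nat.card K).totient := by
  have key := Subgroup.card_dvd_of_injective _ (QuotientGroup.kerLift_injective K.normalizerMonoidHom)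
  rw [normalizerMonoidHom_ker, ← index, ← relIndex, IsCyclic.card_mulAut] at key
  exact key

/-- Burnside's transfer theorem, packaged. -/
theorem syl15_burnside (p : ℕ) [Fact p.Prime] (R : Sylow p H)
    (hR : normalizer ((R : Subgroup H) : Set H) ≤ centralizer ((R : Subgroup H) : Set H)) :
    ∃ M : Subgroup H, M.Normal ∧ Nat.card M * Nat.card (R : Subgroup H) = Nat.card H ∧
      ∀ y : H, (orderOf y).Coprime (Nat.card (R : Subgroup H)) → y ∈ M := by
  refine ⟨(MonoidHom.transferSylow R hR).ker, inferInstance, ?_, ?_⟩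
  · exact (MonoidHom.ker_transferSylow_isComplement' R hR).card_mul_card
  · intro y hy
    rw [MonoidHom.mem_ker]
    have h1 : orderOf (MonoidHom.transferSylow R hR y) ∣ orderOf y := orderOf_map_dvd _ y
    have h2 : orderOf (MonoidHom.transferSylow R hR y) ∣ Nat.card (R : Subgroup H) :=
      orderOf_dvd_natCard _
    have h3 : orderOf (MonoidHom.transferSylow R hR y) = 1 :=
      Nat.eq_one_of_dvd_coprimes hy h1 h2
    exact orderOf_eq_one_iff.mp h3

end GenLem2

end Cfsg.Agent.Lib.helper3
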