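import Mathlib
import Cfsg.Agent.Lib.helper3.Syl15A

open MulAction Subgroup
open scoped Pointwise

namespace Cfsg.Agent.Lib.helper3

universe u v

set_option linter.unusedSectionVars false
set_option linter.style.haveILetI false

/-- The configuration: `H` acts faithfully and transitively on 15 points, a Sylow 7-subgroup
has a single fixed point whose stabilizer normalizes it. -/
structure Syl15Cfg (H : Type u) [Group H] (Ω : Type v) [MulAction H Ω]
    (P : Sylow 7 H) (ω : Ω) : Prop where
  card : Nat.card Ω = 15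
  trans : IsPretransitive H Ω
  faith : FaithfulSMul H Ω
  fix : fixedPoints (P : Subgroup H) Ω = {ω}
  stab : stabilizer H ω ≤ normalizer ((P : Subgroup H) : Set H)

theorem syl15_sign_involution {Ω : Type v} [Fintype Ω] [DecidableEq Ω] (σ : Equiv.Perm Ω)
    (h2 : orderOf σ = 2) (hsupp : σ.support.card = 14) : Equiv.Perm.sign σ = -1 := by
  obtain ⟨n, hn⟩ := Equiv.Perm.cycleType_prime_order (σ := σ) (by rw [h2]; norm_num)
  have hsum := Equiv.Perm.sum_cycleType σ
  rw [hn, h2, Multiset.sum_replicate, hsupp, smul_eq_mul] at hsum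
  have hn7 : n + 1 = 7 := by omega
  rw [Equiv.Perm.sign_of_cycleType, hn, h2, Multiset.sum_replicate, Multiset.card_replicate, hn7]
  decide

/-- an involution with a unique fixed point on 15 points gives an index two kernel -/
theorem syl15_sign_ker {H : Type u} [Group H] {Ω : Type v} [MulAction H Ω] [Finite Ω]
    [FaithfulSMul H Ω] (hcard : Nat.card Ω = 15) {t : H} {ω : Ω} (ht2 : orderOf t = 2)
    (htfix : ∀ a, t • a = a → a = ω) (htω : t • ω = ω) :
    ∃ K : Subgroup H, K.Normal ∧ t ∉ K ∧ ∀ y : H, Odd (orderOf y) → y ∈ K := by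
  classical
  haveI : Fintype Ω := Fintype.ofFinite Ω
  let φ : H →* ℤˣ := (Equiv.Perm.sign).comp (toPermHom H Ω)
  refine ⟨φ.ker, inferInstance, ?_, ?_⟩
  · rw [MonoidHom.mem_ker]
    have hord : orderOf (toPermHom H Ω t) = 2 := by
      rw [orderOf_injective (toPermHom H Ω) MulAction.toPerm_injective, ht2]
    have hsupp : (toPermHom H Ω t).support = Finset.univ.erase ω := by
      ext a
      simp only [Equiv.Perm.mem_support, toPermHom_apply, toPerm_apply, ne_eq, Finset.mem_erase,
        Finset.mem_univ, and_true]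
      constructor
      · intro h1 h2; apply h1; rw [h2]; exact htω
      · intro h1 h2; exact h1 (htfix a h2)
    have hcard' : (toPermHom H Ω t).support.card = 14 := by
      rw [hsupp, Finset.card_erase_of_mem (Finset.mem_univ _), Finset.card_univ,
        ← Nat.card_eq_fintype_card, hcard]
    have := syl15_sign_involution _ hord hcard'
    show Equiv.Perm.sign (toPermHom H Ω t) ≠ 1
    rw [this]; decide
  · intro y hy
    rw [MonoidHom.mem_ker]
    have h1 : φ y ^ orderOf y = 1 := by rw [← map_pow, pow_orderOf_eq_one, map_one]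
    rcases Int.units_eq_one_or (φ y) with h | h
    · exact h
    · rw [h, hy.neg_one_pow] at h1
      exact absurd h1 (by decide)

section Main

variable {H : Type u} [Group H] [Finite H] {Ω : Type v} [MulAction H Ω]
  {P : Sylow 7 H} {ω : Ω}

instance syl15_fact7 : Fact (Nat.Prime 7) := ⟨by norm_num⟩

theorem Syl15Cfg.finite (h : Syl15Cfg H Ω P ω) : Finite Ω :=
  Nat.finite_of_card_ne_zero (by rw [h.card]; norm_num)

theorem Syl15Cfg.fix_iff (h : Syl15Cfg H Ω P ω) (a : Ω) :
    (∀ g ∈ (P : Subgroup H), g • a = a) ↔ a = ω := by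
  have := h.fix
  rw [Set.ext_iff] at this
  have h2 := this a
  simp only [mem_fixedPoints, Subtype.forall, Subgroup.mk_smul, Set.mem_singleton_iff] at h2
  exact h2

theorem Syl15Cfg.smul_omega (h : Syl15Cfg H Ω P ω) {g : H} (hg : g ∈ (P : Subgroup H)) :
    g • ω = ω := (h.fix_iff ω).mpr rfl g hg

theorem Syl15Cfg.normalizer_le (h : Syl15Cfg H Ω P ω) :
    normalizer ((P : Subgroup H) : Set H) ≤ stabilizer H ω := by
  intro g hg
  rw [mem_stabilizer_iff]
  apply (h.fix_iff _).mp
  intro x hx
  have h1 : g⁻¹ * x * g ∈ (P : Subgroup H) := by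
    have := (Subgroup.mem_normalizer_iff.mp (inv_mem hg) x).mp hx
    simpa using this
  have h2 := h.smul_omega h1
  calc x • g • ω = g • (g⁻¹ * x * g) • ω := by simp only [smul_smul]; group
    _ = g • ω := by rw [h2]

theorem Syl15Cfg.stab_eq (h : Syl15Cfg H Ω P ω) :
    stabilizer H ω = normalizer ((P : Subgroup H) : Set H) :=
  le_antisymm h.stab h.normalizer_le

theorem Syl15Cfg.isPreprimitive (h : Syl15Cfg H Ω P ω) : IsPreprimitive H Ω := by
  haveI := h.trans
  haveI := h.finite
  apply IsPreprimitive.of_isTrivialBlock_base ω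
  intro B hωB hB
  have hinv : ∀ g ∈ (P : Subgroup H), ∀ b ∈ B, g • b ∈ B := by
    intro g hg b hb
    have h1 : g • B = B := by
      apply isBlock_iff_smul_eq_of_mem.mp hB hωB
      rw [h.smul_omega hg]; exact hωB
    rw [← h1]; exact Set.smul_mem_smul_set hb
  have hcong := syl15_ncard_inter_fixedPoints_modEq (p := 7) (P : Subgroup H) P.2 B hinv
  have e1 : B ∩ fixedPoints (P : Subgroup H) Ω = {ω} := by
    rw [h.fix]; ext a
    simp only [Set.mem_inter_iff, Set.mem_singleton_iff]
    constructor
    · exact fun h => h.2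
    · rintro rfl; exact ⟨hωB, rfl⟩
  rw [e1, Set.ncard_singleton] at hcong
  have hdvd := hB.ncard_dvd_card ⟨ω, hωB⟩
  rw [h.card] at hdvd
  have hle : B.ncard ≤ 15 := Nat.le_of_dvd (by norm_num) hdvd
  have hcases : B.ncard = 1 ∨ B.ncard = 15 := by
    unfold Nat.ModEq at hcong
    interval_cases hb : B.ncard <;> simp_all
  rcases hcases with h1 | h15
  · left
    obtain ⟨a, ha⟩ := Set.ncard_eq_one.mp h1
    rw [ha]; exact Set.subsingleton_singleton
  · right
    rw [Set.eq_univ_iff_ncard, h15, h.card]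

theorem Syl15Cfg.eq_one_of_fixedBy_univ (h : Syl15Cfg H Ω P ω) {x : H}
    (hx : ∀ a : Ω, x • a = a) : x = 1 := by
  haveI := h.faith
  apply FaithfulSMul.eq_of_smul_eq_smul (α := Ω)
  intro a; rw [hx a, one_smul]

/-- a 7-element with at least two fixed points has exactly 8 fixed points -/
theorem Syl15Cfg.ncard_fixedBy_of_modEq (h : Syl15Cfg H Ω P ω) {x : H}
    (hcong : (fixedBy Ω x).ncard ≡ 1 [MOD 7]) (hx1 : x ≠ 1) {δ : Ω} (hδ : δ ≠ ω)
    (hxω : x • ω = ω) (hxδ : x • δ = δ) : (fixedBy Ω x).ncard = 8 := by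
  haveI := h.finite
  have h2 : 2 ≤ (fixedBy Ω x).ncard := by
    rw [← Set.ncard_pair hδ]
    apply Set.ncard_le_ncard _ (Set.toFinite _)
    intro a ha
    rcases ha with rfl | rfl
    · exact hxδ
    · exact hxω
  have h15 : (fixedBy Ω x).ncard ≤ 15 := by
    rw [← h.card, ← Set.ncard_univ]
    exact Set.ncard_le_ncard (Set.subset_univ _) (Set.toFinite _)
  have hne : (fixedBy Ω x).ncard ≠ 15 := by
    intro h15
    apply hx1
    apply h.eq_one_of_fixedBy_univ
    have : fixedBy Ω x = Set.univ := by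
      rw [Set.eq_univ_iff_ncard, h15, h.card]
    intro a
    have ha : a ∈ fixedBy Ω x := by rw [this]; trivial
    exact ha
  unfold Nat.ModEq at hcong
  interval_cases hb : (fixedBy Ω x).ncard <;> simp_all

theorem Syl15Cfg.ncard_fixedBy (h : Syl15Cfg H Ω P ω) {x : H}
    (hxp : IsPGroup 7 (zpowers x)) (hx1 : x ≠ 1) {δ : Ω} (hδ : δ ≠ ω) (hxω : x • ω = ω)
    (hxδ : x • δ = δ) : (fixedBy Ω x).ncard = 8 := by
  haveI := h.finite
  have hcong := syl15_ncard_fixedBy_modEq (Ω := Ω) x hxp
  rw [h.card] at hcong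
  exact h.ncard_fixedBy_of_modEq (hcong.symm.trans (by decide)) hx1 hδ hxω hxδ

theorem Syl15Cfg.caseA (h : Syl15Cfg H Ω P ω) {x : H} (hx : x ∈ (P : Subgroup H)) (hx1 : x ≠ 1)
    {δ : Ω} (hδ : δ ≠ ω) (hxδ : x • δ = δ) : False := by
  haveI := h.finite
  haveI := h.trans
  have hprim := h.isPreprimitive
  have hxp : IsPGroup 7 (zpowers x) := P.2.to_le (zpowers_le.mpr hx)
  set s : Set Ω := fixedBy Ω x with hs
  have hs8 : s.ncard = 8 := h.ncard_fixedBy hxp hx1 hδ (h.smul_omega hx) hxδ
  have hsc7 : (sᶜ).ncard = 7 := by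
    have := Set.ncard_add_ncard_compl s
    rw [hs8, h.card] at this
    omega
  -- orbits of ⟨x⟩ on the complement
  have horb : ∀ a, a ∉ s → orbit (zpowers x) a = sᶜ := by
    intro a ha
    have hsub : orbit (zpowers x) a ⊆ sᶜ := by
      rintro _ ⟨⟨g, hg⟩, rfl⟩
      obtain ⟨k, rfl⟩ := mem_zpowers_iff.mp hg
      intro hmem
      apply ha
      have h1 : x • (x ^ k) • a = (x ^ k) • a := hmem
      have h2 : (x ^ k) • x • a = (x ^ k) • a := by
        rw [smul_smul, ← zpow_add_one, add_comm, zpow_one_add, ← smul_smul]; exact h1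
      exact smul_left_cancel _ h2
    obtain ⟨n, hn⟩ := hxp.card_orbit a
    rw [Nat.card_coe_set_eq] at hn
    have hle : (orbit (zpowers x) a).ncard ≤ 7 := by
      rw [← hsc7]; exact Set.ncard_le_ncard hsub (Set.toFinite _)
    have hn1 : (orbit (zpowers x) a).ncard ≠ 1 := by
      intro h1
      obtain ⟨b, hb⟩ := Set.ncard_eq_one.mp h1
      apply ha
      have ha1 : a ∈ orbit (zpowers x) a := mem_orbit_self a
      have ha2 : (⟨x, mem_zpowers x⟩ : zpowers x) • a ∈ orbit (zpowers x) a := mem_orbit a _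
      rw [hb, Set.mem_singleton_iff] at ha1 ha2
      show x • a = a
      have ha3 : x • a = b := ha2
      rw [ha3, ha1]
    have h7 : (orbit (zpowers x) a).ncard = 7 := by
      rw [hn] at hle hn1 ⊢
      match n, hle, hn1 with
      | 0, _, h => exact absurd rfl h
      | 1, _, _ => rfl
      | (k+2), hle, _ =>
        exfalso
        have : 7 ^ 2 ≤ 7 ^ (k + 2) := Nat.pow_le_pow_right (by norm_num) (by omega)
        omega
    exact Set.eq_of_subset_of_ncard_le hsub (by rw [h7, hsc7]) (Set.toFinite _)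
  have htrans : IsPretransitive (fixingSubgroup H s) (SubMulAction.ofFixingSubgroup H s) := by
    have hxfix : ∀ k : ℤ, x ^ k ∈ fixingSubgroup H s := by
      intro k
      apply zpow_mem
      rw [mem_fixingSubgroup_iff]
      intro y hy; exact hy
    rw [isPretransitive_iff]
    rintro ⟨a, ha⟩ ⟨b, hb⟩
    rw [SubMulAction.mem_ofFixingSubgroup_iff] at ha hb
    have hb' : b ∈ orbit (zpowers x) a := by rw [horb a ha]; exact hb
    obtain ⟨⟨g, hg⟩, hgb⟩ := hb'
    obtain ⟨k, rfl⟩ := mem_zpowers_iff.mp hg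
    refine ⟨⟨x ^ k, hxfix k⟩, ?_⟩
    apply Subtype.ext
    exact hgb
  have hcard7 : Nat.card (SubMulAction.ofFixingSubgroup H s) = 7 := by
    rw [← hsc7, ← Nat.card_coe_set_eq]
    rfl
  have hprim2 : IsPreprimitive (fixingSubgroup H s) (SubMulAction.ofFixingSubgroup H s) := by
    apply IsPreprimitive.of_prime_card
    rw [hcard7]; norm_num
  have h2prim : IsMultiplyPreprimitive H Ω 2 :=
    hprim.is_two_preprimitive (s := s) (n := 7) hs8 (by rw [h.card]; norm_num) hprim2
  have h1prim : IsMultiplyPreprimitive (stabilizer H ω) (SubMulAction.ofStabilizer H ω) 1 :=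
    isMultiplyPreprimitive_ofStabilizer (M := H) (α := Ω) (n := 1) (a := ω)
  have hprimω : IsPreprimitive (stabilizer H ω) (SubMulAction.ofStabilizer H ω) :=
    (is_one_preprimitive_iff _ _).mp h1prim
  -- the normal subgroup
  set N : Subgroup (stabilizer H ω) := (P : Subgroup H).subgroupOf (stabilizer H ω) with hN
  haveI hNn : N.Normal := normal_subgroupOf_of_le_normalizer h.stab
  have hNp : IsPGroup 7 N := P.2.comap_subtype
  have hδ' : δ ∈ SubMulAction.ofStabilizer H ω := (SubMulAction.mem_ofStabilizer_iff _ _).mpr hδ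
  have hNX : fixedPoints N (SubMulAction.ofStabilizer H ω) ≠ Set.univ := by
    intro hcon
    have hmem : (⟨δ, hδ'⟩ : SubMulAction.ofStabilizer H ω) ∈
        fixedPoints N (SubMulAction.ofStabilizer H ω) := by rw [hcon]; trivial
    apply hδ
    apply (h.fix_iff δ).mp
    intro y hy
    have hyst : y ∈ stabilizer H ω := h.smul_omega hy
    have hyN : (⟨y, hyst⟩ : stabilizer H ω) ∈ N := by
      rw [hN, mem_subgroupOf]; exact hy
    have := hmem ⟨⟨y, hyst⟩, hyN⟩
    exact congrArg Subtype.val this
  haveI : IsPretransitive N (SubMulAction.ofStabilizer H ω) :=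
    IsQuasiPreprimitive.isPretransitive_of_normal hNX
  obtain ⟨n, hn⟩ := hNp.card_orbit (⟨δ, hδ'⟩ : SubMulAction.ofStabilizer H ω)
  rw [orbit_eq_univ, Nat.card_coe_set_eq, Set.ncard_univ,
    SubMulAction.nat_card_ofStabilizer_eq, h.card] at hn
  match n, hn with
  | 0, hn => norm_num at hn
  | 1, hn => norm_num at hn
  | (k+2), hn =>
    have : 7 ^ 2 ≤ 7 ^ (k + 2) := Nat.pow_le_pow_right (by norm_num) (by omega)
    omega

theorem Syl15Cfg.exists_ne (h : Syl15Cfg H Ω P ω) : ∃ δ : Ω, δ ≠ ω := by
  haveI := h.finite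
  have : Nontrivial Ω := by
    rw [← Finite.one_lt_card_iff_nontrivial, h.card]; norm_num
  exact _root_.exists_ne ω

theorem Syl15Cfg.ncard_compl (h : Syl15Cfg H Ω P ω) : ({ω}ᶜ : Set Ω).ncard = 14 := by
  haveI := h.finite
  have := Set.ncard_add_ncard_compl ({ω} : Set Ω)
  rw [Set.ncard_singleton, h.card] at this
  omega

/-- nontrivial normal subgroups are transitive -/
theorem Syl15Cfg.normal_trans (h : Syl15Cfg H Ω P ω) (M : Subgroup H) [M.Normal] (hM : M ≠ ⊥) :
    IsPretransitive M Ω := by
  haveI := h.isPreprimitive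
  apply IsQuasiPreprimitive.isPretransitive_of_normal
  intro hcon
  apply hM
  rw [Subgroup.eq_bot_iff_forall]
  intro m hm
  apply h.eq_one_of_fixedBy_univ
  intro a
  have : a ∈ fixedPoints M Ω := by rw [hcon]; trivial
  exact this ⟨m, hm⟩

theorem Syl15Cfg.P_ne_bot (h : Syl15Cfg H Ω P ω) : (P : Subgroup H) ≠ ⊥ := by
  intro hP
  obtain ⟨δ, hδ⟩ := h.exists_ne
  apply hδ
  apply (h.fix_iff δ).mp
  intro g hg
  rw [hP, Subgroup.mem_bot] at hg
  rw [hg, one_smul]

/-- normal subgroups containing `P` inherit the configuration -/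
theorem Syl15Cfg.restrict (h : Syl15Cfg H Ω P ω) (K : Subgroup H) [K.Normal]
    (hPK : (P : Subgroup H) ≤ K) : Syl15Cfg K Ω (P.subtype hPK) ω where
  card := h.card
  trans := by
    apply h.normal_trans
    intro hK
    apply h.P_ne_bot
    rw [eq_bot_iff, ← hK]; exact hPK
  faith := by haveI := h.faith; infer_instance
  fix := by
    ext a
    rw [Set.mem_singleton_iff, ← h.fix_iff a]
    constructor
    · intro h1 g hg
      have hg' : (⟨g, hPK hg⟩ : K) ∈ ((P.subtype hPK : Sylow 7 K) : Subgroup K) := by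
        rw [Sylow.coe_subtype, mem_subgroupOf]; exact hg
      exact h1 ⟨⟨g, hPK hg⟩, hg'⟩
    · rintro h1 ⟨⟨g, hgK⟩, hg⟩
      have hg' : g ∈ (P : Subgroup H) := by
        rw [Sylow.coe_subtype, mem_subgroupOf] at hg; exact hg
      exact h1 g hg'
  stab := by
    intro k hk
    rw [mem_stabilizer_iff] at hk
    have hk' : k.1 ∈ normalizer ((P : Subgroup H) : Set H) := h.stab hk
    rw [Sylow.coe_subtype, Subgroup.mem_normalizer_iff]
    intro g
    simp only [mem_subgroupOf]
    exact Subgroup.mem_normalizer_iff.mp hk' g.1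

/-- Case B: `P` has order 7 -/
theorem Syl15Cfg.card_P (h : Syl15Cfg H Ω P ω)
    (hB : ∀ x ∈ (P : Subgroup H), x ≠ 1 → ∀ δ : Ω, x • δ = δ → δ = ω) :
    Nat.card (P : Subgroup H) = 7 := by
  haveI := h.finite
  obtain ⟨δ, hδ⟩ := h.exists_ne
  have hle : Nat.card (P : Subgroup H) ≤ ({ω}ᶜ : Set Ω).ncard := by
    apply syl15_card_le_of_free (P : Subgroup H) δ
    · intro k hk hkδ
      by_contra hk1
      exact hδ (hB k hk hk1 δ hkδ)
    · intro k hk hmem
      apply hδ
      have h1 : k • δ = ω := hmem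
      have h2 : k⁻¹ • ω = ω := h.smul_omega (inv_mem hk)
      rw [← h2, ← h1, smul_smul, inv_mul_cancel, one_smul]
  rw [h.ncard_compl] at hle
  obtain ⟨n, hn⟩ := IsPGroup.iff_card.mp P.2
  have hne1 : Nat.card (P : Subgroup H) ≠ 1 := by
    intro h1
    exact h.P_ne_bot (Subgroup.card_eq_one.mp h1)
  rw [hn] at hle hne1 ⊢
  match n, hle, hne1 with
  | 0, _, h => exact absurd rfl h
  | 1, _, _ => rfl
  | (k+2), hle, _ =>
    exfalso
    have : 7 ^ 2 ≤ 7 ^ (k + 2) := Nat.pow_le_pow_right (by norm_num) (by omega)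
    omega

theorem Syl15Cfg.P_le_centralizer (_h : Syl15Cfg H Ω P ω)
    (hP7 : Nat.card (P : Subgroup H) = 7) :
    (P : Subgroup H) ≤ centralizer ((P : Subgroup H) : Set H) := by
  haveI : IsCyclic (P : Subgroup H) := isCyclic_of_prime_card hP7
  rw [le_centralizer_iff_isMulCommutative]
  exact ⟨⟨fun a b => (IsCyclic.commGroup).mul_comm a b⟩⟩

/-- Case B: the centralizer of `P` acts semiregularly off `ω` -/
theorem Syl15Cfg.cent_semireg (h : Syl15Cfg H Ω P ω)
    (hB : ∀ x ∈ (P : Subgroup H), x ≠ 1 → ∀ δ : Ω, x • δ = δ → δ = ω)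
    {c : H} (hc : c ∈ centralizer ((P : Subgroup H) : Set H)) {δ : Ω} (hδ : δ ≠ ω)
    (hcδ : c • δ = δ) : c = 1 := by
  haveI := h.finite
  set D : Subgroup H := centralizer ((P : Subgroup H) : Set H) ⊓ stabilizer H δ with hD
  have hcentω : ∀ d ∈ centralizer ((P : Subgroup H) : Set H), d • ω = ω := by
    intro d hd
    exact h.normalizer_le (centralizer_le_normalizer _ hd)
  have hDp : IsPGroup 7 D := by
    have hprime : ∀ {r : ℕ}, r.Prime → r ∣ Nat.card D → r = 7 := by
      intro r hr hrd
      haveI : Fact r.Prime := ⟨hr⟩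
      obtain ⟨d, hd⟩ := exists_prime_orderOf_dvd_card' r hrd
      obtain ⟨hdc, hdδ⟩ := Subgroup.mem_inf.mp d.2
      have hord : orderOf d.1 = r := by rw [Subgroup.orderOf_coe]; exact hd
      have hd1 : d.1 ≠ 1 := by
        intro h1
        rw [h1, orderOf_one] at hord
        exact hr.one_lt.ne hord
      -- fixed set of d is P-invariant
      have hinv : ∀ g ∈ (P : Subgroup H), ∀ b ∈ fixedBy Ω d.1, g • b ∈ fixedBy Ω d.1 := by
        intro g hg b hb
        have hcomm : g * d.1 = d.1 * g := (Subgroup.mem_centralizer_iff.mp hdc) g hg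
        show d.1 • g • b = g • b
        rw [smul_smul, ← hcomm, ← smul_smul]
        congr 1
      have hcong := syl15_ncard_inter_fixedPoints_modEq (p := 7) (P : Subgroup H) P.2
        (fixedBy Ω d.1) hinv
      have e1 : fixedBy Ω d.1 ∩ fixedPoints (P : Subgroup H) Ω = {ω} := by
        rw [h.fix]; ext a
        simp only [Set.mem_inter_iff, Set.mem_singleton_iff]
        constructor
        · exact fun h' => h'.2
        · rintro rfl; exact ⟨hcentω _ hdc, rfl⟩
      rw [e1, Set.ncard_singleton] at hcong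
      have h8 : (fixedBy Ω d.1).ncard = 8 :=
        h.ncard_fixedBy_of_modEq hcong hd1 hδ (hcentω _ hdc) hdδ
      have hrp : IsPGroup r (zpowers d.1) := by
        apply IsPGroup.of_card (n := 1)
        rw [Nat.card_zpowers, hord, pow_one]
      have hcong2 := syl15_ncard_fixedBy_modEq (Ω := Ω) (p := r) d.1 hrp
      rw [h.card, h8] at hcong2
      have : r ∣ 15 - 8 := (Nat.modEq_iff_dvd' (by norm_num)).mp hcong2.symm
      exact (Nat.prime_dvd_prime_iff_eq hr (by norm_num)).mp this
    have := Nat.eq_prime_pow_of_unique_prime_dvd (n := Nat.card D) (p := 7)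
      Nat.card_pos.ne' hprime
    exact IsPGroup.of_card this
  have hDN : D ≤ normalizer ((P : Subgroup H) : Set H) :=
    le_trans inf_le_left (centralizer_le_normalizer _)
  have hsup : IsPGroup 7 (D ⊔ (P : Subgroup H) : Subgroup H) :=
    IsPGroup.to_sup_of_normal_right' hDp P.2 hDN
  have hDP : D ≤ (P : Subgroup H) := by
    have := P.is_maximal' hsup le_sup_right
    rw [← this]; exact le_sup_left
  have hcD : c ∈ D := by
    rw [hD, Subgroup.mem_inf]; exact ⟨hc, hcδ⟩
  by_contra hc1
  exact hδ (hB c (hDP hcD) hc1 δ hcδ)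

end Main

theorem syl15_orderOf_dvd_seven {H : Type u} [Group H] {P : Sylow 7 H}
    (hP7 : Nat.card (P : Subgroup H) = 7) {y : H} (hy : y ∈ (P : Subgroup H)) :
    orderOf y = 1 ∨ orderOf y = 7 := by
  have h1 : orderOf (⟨y, hy⟩ : (P : Subgroup H)) ∣ Nat.card (P : Subgroup H) :=
    orderOf_dvd_natCard _
  rw [hP7, ← Subgroup.orderOf_coe] at h1
  exact (Nat.dvd_prime (by norm_num)).mp h1

/-- the main theorem: the configuration is impossible -/
theorem syl15_no_cfg {Ω : Type v} : ∀ n : ℕ, ∀ (H : Type u) [Group H] [Finite H] [MulAction H Ω]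
    (P : Sylow 7 H) (ω : Ω), Nat.card H = n → Syl15Cfg H Ω P ω → False := by
  intro n
  induction n using Nat.strong_induction_on with
  | _ n ih =>
  intro H _ _ _ P ω hn h
  haveI := h.finite
  haveI := h.faith
  haveI := h.trans
  by_cases hB : ∀ x ∈ (P : Subgroup H), x ≠ 1 → ∀ δ : Ω, x • δ = δ → δ = ω
  swap
  · push Not at hB
    obtain ⟨x, hx, hx1, δ, hxδ, hδ⟩ := hB
    exact h.caseA hx hx1 hδ hxδ
  -- Case B
  have hP7 := h.card_P hB
  have hPC := h.P_le_centralizer hP7
  have hCN : centralizer ((P : Subgroup H) : Set H) ≤ normalizer ((P : Subgroup H) : Set H) :=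
    centralizer_le_normalizer _
  have hcentω : ∀ d ∈ centralizer ((P : Subgroup H) : Set H), d • ω = ω := by
    intro d hd
    exact h.normalizer_le (hCN hd)
  obtain ⟨δ, hδ⟩ := h.exists_ne
  have hC14 : Nat.card (centralizer ((P : Subgroup H) : Set H)) ≤ 14 := by
    rw [← h.ncard_compl]
    apply syl15_card_le_of_free _ δ (fun k hk hkδ => h.cent_semireg hB hk hδ hkδ)
    intro k hk hmem
    apply hδ
    have h1 : k • δ = ω := hmem
    have h2 : k⁻¹ • ω = ω := hcentω _ (inv_mem hk)
    rw [← h2, ← h1, smul_smul, inv_mul_cancel, one_smul]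
  have h7C : 7 ∣ Nat.card (centralizer ((P : Subgroup H) : Set H)) := by
    have := Subgroup.card_dvd_of_le hPC
    rw [hP7] at this
    exact this
  have hinherit : ∀ K : Subgroup H, K.Normal → (P : Subgroup H) ≤ K → K ≠ ⊤ → False := by
    intro K hK hPK hKtop
    have hlt : Nat.card K < n := by
      rw [← hn]
      apply lt_of_le_of_ne (Subgroup.card_le_card_group K)
      intro heq
      exact hKtop (Subgroup.eq_top_of_card_eq K heq)
    exact ih _ hlt K (P.subtype hPK) ω rfl (h.restrict K hPK)
  have hodd7 : ∀ y ∈ (P : Subgroup H), Odd (orderOf y) := by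
    intro y hy
    rcases syl15_orderOf_dvd_seven hP7 hy with h1 | h1 <;> rw [h1] <;> decide
  by_cases hCeven : 2 ∣ Nat.card (centralizer ((P : Subgroup H) : Set H))
  · haveI : Fact (Nat.Prime 2) := ⟨Nat.prime_two⟩
    obtain ⟨t, ht⟩ := exists_prime_orderOf_dvd_card' 2 hCeven
    have ht2 : orderOf t.1 = 2 := by rw [Subgroup.orderOf_coe]; exact ht
    have htfix : ∀ a, t.1 • a = a → a = ω := by
      intro a ha
      by_contra hne
      have h1 := h.cent_semireg hB t.2 hne ha
      rw [h1, orderOf_one] at ht2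
      norm_num at ht2
    obtain ⟨K, hKn, htK, hodd⟩ := syl15_sign_ker h.card ht2 htfix (hcentω _ t.2)
    apply hinherit K hKn
    · intro y hy; exact hodd y (hodd7 y hy)
    · intro htop; apply htK; rw [htop]; trivial
  · have hC7 : Nat.card (centralizer ((P : Subgroup H) : Set H)) = 7 := by
      obtain ⟨k, hk⟩ := h7C
      rw [hk] at hC14 hCeven ⊢
      have hk0 : k ≠ 0 := by
        rintro rfl
        rw [mul_zero] at hk
        exact Nat.card_pos.ne' hk
      omega
    haveI hPcyc : IsCyclic (P : Subgroup H) := isCyclic_of_prime_card hP7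
    have hf : (centralizer ((P : Subgroup H) : Set H)).relIndex
        (normalizer ((P : Subgroup H) : Set H)) ∣ 6 := by
      have := syl15_relIndex_dvd_totient (P : Subgroup H)
      rw [hP7] at this
      exact this
    have hidx := relIndex_mul_index hCN
    have hNidx : (normalizer ((P : Subgroup H) : Set H)).index = 15 := by
      rw [← h.stab_eq, index_stabilizer_of_transitive, h.card]
    have hcardH : Nat.card H = 7 * ((centralizer ((P : Subgroup H) : Set H)).relIndex
        (normalizer ((P : Subgroup H) : Set H)) * 15) := by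
      have := Subgroup.card_mul_index (centralizer ((P : Subgroup H) : Set H))
      rw [hC7, ← hidx, hNidx] at this
      exact this.symm
    generalize (centralizer ((P : Subgroup H) : Set H)).relIndex
        (normalizer ((P : Subgroup H) : Set H)) = f at hf hcardH
    have hfcases : f = 1 ∨ f = 2 ∨ f = 3 ∨ f = 6 := by
      have hmem : f ∈ Nat.divisors 6 := Nat.mem_divisors.mpr ⟨hf, by norm_num⟩
      have hdiv : Nat.divisors 6 = {1, 2, 3, 6} := by decide
      rw [hdiv] at hmem
      simpa using hmem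
    by_cases hfeven : 2 ∣ f
    · haveI : Fact (Nat.Prime 2) := ⟨Nat.prime_two⟩
      have h2 : 2 ∣ Nat.card H := by
        rw [hcardH]; exact Dvd.dvd.mul_left (Dvd.dvd.mul_right hfeven _) _
      have h4 : ¬ 2 ^ 2 ∣ Nat.card H := by
        rw [hcardH]
        omega
      obtain ⟨S⟩ : Nonempty (Sylow 2 H) := inferInstance
      have hS2 := syl15_card_sylow_eq_prime 2 S h2 h4
      have hScyc : IsCyclic (S : Subgroup H) := isCyclic_of_prime_card hS2
      have hNC := IsCyclic.normalizer_le_centralizer (p := 2)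
        ((Nat.minFac_eq_two_iff _).mpr h2) (P := S) hScyc
      obtain ⟨M, hMn, hMcard, hMmem⟩ := syl15_burnside 2 S hNC
      apply hinherit M hMn
      · intro y hy
        apply hMmem
        rw [hS2]
        exact Nat.coprime_two_right.mpr (hodd7 y hy)
      · intro htop
        rw [htop, Subgroup.card_top, hS2] at hMcard
        have := Nat.card_pos (α := H)
        omega
    · haveI : Fact (Nat.Prime 5) := ⟨by norm_num⟩
      have hf13 : f = 1 ∨ f = 3 := by omega
      have h5 : 5 ∣ Nat.card H := by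
        rw [hcardH]; exact ⟨7 * (f * 3), by ring⟩
      have h25 : ¬ 5 ^ 2 ∣ Nat.card H := by
        rw [hcardH]
        omega
      have hHodd : Odd (Nat.card H) := by
        rw [hcardH, Nat.odd_iff]
        omega
      obtain ⟨R⟩ : Nonempty (Sylow 5 H) := inferInstance
      have hR5 := syl15_card_sylow_eq_prime 5 R h5 h25
      haveI hRcyc : IsCyclic (R : Subgroup H) := isCyclic_of_prime_card hR5
      have hrel := syl15_relIndex_dvd_totient (R : Subgroup H)
      rw [hR5] at hrel
      have hrel4 : (centralizer ((R : Subgroup H) : Set H)).relIndex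
          (normalizer ((R : Subgroup H) : Set H)) ∣ 4 := hrel
      have hrelH : (centralizer ((R : Subgroup H) : Set H)).relIndex
          (normalizer ((R : Subgroup H) : Set H)) ∣ Nat.card H :=
        dvd_trans (relIndex_dvd_card _ _) (Subgroup.card_subgroup_dvd_card _)
      have hrel1 : (centralizer ((R : Subgroup H) : Set H)).relIndex
          (normalizer ((R : Subgroup H) : Set H)) = 1 := by
        have hodd : Odd ((centralizer ((R : Subgroup H) : Set H)).relIndex
          (normalizer ((R : Subgroup H) : Set H))) := by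
          obtain ⟨k, hk⟩ := hrelH
          rw [hk] at hHodd
          exact (Nat.odd_mul.mp hHodd).1
        generalize (centralizer ((R : Subgroup H) : Set H)).relIndex
          (normalizer ((R : Subgroup H) : Set H)) = e at hrel4 hodd
        have hmem : e ∈ Nat.divisors 4 := Nat.mem_divisors.mpr ⟨hrel4, by norm_num⟩
        have hdiv : Nat.divisors 4 = {1, 2, 4} := by decide
        rw [hdiv] at hmem
        rw [Nat.odd_iff] at hodd
        have : e = 1 ∨ e = 2 ∨ e = 4 := by simpa using hmem
        omega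
      have hNC : normalizer ((R : Subgroup H) : Set H) ≤ centralizer ((R : Subgroup H) : Set H) :=
        relIndex_eq_one.mp hrel1
      obtain ⟨M, hMn, hMcard, _⟩ := syl15_burnside 5 R hNC
      rw [hR5, hcardH] at hMcard
      have hM21 : Nat.card M = 21 * f := by omega
      have hMne : M ≠ ⊥ := by
        intro hbot
        rw [hbot, Subgroup.card_bot] at hM21
        omega
      haveI := h.normal_trans M hMne
      have h15 : 15 ∣ Nat.card M := by
        rw [← h.card, ← index_stabilizer_of_transitive M ω]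
        exact Subgroup.index_dvd_card _
      rw [hM21] at h15
      omega

end Cfsg.Agent.Lib.helper3
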