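import Mathlib
import Cfsg.Prelude.Def_Classical
import Cfsg.Agent.S0245
import Cfsg.Agent.S0246
import Cfsg.Agent.Lib.helper3.SylDataA

set_option autoImplicit false

/-!
Part (a): the Sylow 2-subgroups of `A₈` and of `PSp₄(3)` are isomorphic.
-/

namespace Cfsg.Agent.Lib.helper3

open Matrix

/-- `2`-adic valuation of `2 ^ k * m` with `m` odd. -/
theorem factorization_two_pow_mul (k m : ℕ) (hm : ¬ 2 ∣ m) :
    (2 ^ k * m).factorization 2 = k := by
  have hm0 : m ≠ 0 := by rintro rfl; exact hm (dvd_zero 2)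
  rw [Nat.factorization_mul (by positivity) hm0, Nat.factorization_pow, Finsupp.add_apply,
    Finsupp.smul_apply, Nat.Prime.factorization_self Nat.prime_two,
    Nat.factorization_eq_zero_of_not_dvd hm]
  simp

/-- Base change of symplectic groups along a ring homomorphism. -/
def spMap {R S : Type*} [CommRing R] [CommRing S] (l : Type*) [Fintype l] [DecidableEq l]
    (f : R →+* S) : symplecticGroup l R →* symplecticGroup l S where
  toFun A := ⟨A.1.map f, SymplecticGroup.map_mem A.2 f⟩
  map_one' := Subtype.ext (by simp)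
  map_mul' A B := Subtype.ext (by simp [Matrix.map_mul])

theorem spMap_coe {R S : Type*} [CommRing R] [CommRing S] (l : Type*) [Fintype l] [DecidableEq l]
    (f : R →+* S) (A : symplecticGroup l R) :
    ((spMap l f A : symplecticGroup l S) : Matrix (l ⊕ l) (l ⊕ l) S) = A.1.map f := rfl

/-- The graph subgroup for part (a). -/
def sylDA : Subgroup SylGA := Subgroup.closure {g | g ∈ sylGensA}

theorem mem_sylDA_iff (x : SylGA) : x ∈ sylDA ↔ x ∈ sylWA := by
  have hlen := sylWA_length
  constructor
  · refine closure_subset_of_table sylWA sylGensA ?_ ?_ x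
    · have h0 : sylWA.getD 0 1 = 1 := sylWA_zero
      have : 0 < sylWA.length := by rw [hlen]; norm_num
      rw [List.getD_eq_getElem _ _ this] at h0
      rw [← h0]
      exact List.getElem_mem this
    · apply closed_of_nxt sylWA sylGensA sylNxtA
      intro i hi l hl
      rw [hlen] at hi ⊢
      rw [sylGensA_length] at hl ⊢
      exact sylWA_nxt' ⟨i, hi⟩ ⟨l, hl⟩
  · refine table_subset_closure sylWA sylGensA sylParA sylLabA ?_ x
    intro i hi
    rw [hlen] at hi
    rw [sylGensA_length]
    exact sylWA_bfs' ⟨i, hi⟩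

theorem sylDA_snd_even : ∀ d ∈ sylDA, d.2 ∈ alternatingGroup (Fin 8) := by
  have : sylDA ≤ (alternatingGroup (Fin 8)).comap (MonoidHom.snd _ _) := by
    rw [sylDA, Subgroup.closure_le]
    intro g hg
    obtain ⟨l, hl, rfl⟩ := List.getElem_of_mem hg
    rw [sylGensA_length] at hl
    have := sylGensA_sign ⟨l, hl⟩
    rw [List.getD_eq_getElem _ _ (by rw [sylGensA_length]; exact hl)] at this
    exact Equiv.Perm.mem_alternatingGroup.mpr this
  intro d hd
  exact this hd

theorem sylDA_ker (d : SylGA) (hd : d ∈ sylDA) :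
    ((d.1 : Matrix (Fin 2 ⊕ Fin 2) (Fin 2 ⊕ Fin 2) (ZMod 3)) = 1 ∨
      (d.1 : Matrix (Fin 2 ⊕ Fin 2) (Fin 2 ⊕ Fin 2) (ZMod 3)) = -1) ↔ d.2 = 1 := by
  rw [mem_sylDA_iff] at hd
  obtain ⟨i, hi, rfl⟩ := List.getElem_of_mem hd
  have hi' := hi
  rw [sylWA_length] at hi'
  have := sylWA_ker' ⟨i, hi'⟩
  rwa [List.getD_eq_getElem _ _ hi] at this

/-- Second projection of the graph subgroup, into the alternating group. -/
def sylF2A : sylDA →* alternatingGroup (Fin 8) :=
  ((MonoidHom.snd _ _).comp sylDA.subtype).codRestrict (alternatingGroup (Fin 8))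
    (fun d => sylDA_snd_even d.1 d.2)

theorem card_range_sylF2A : Nat.card sylF2A.range = 64 := by
  have h1 : (alternatingGroup (Fin 8)).subtype.comp sylF2A =
      (MonoidHom.snd _ _).comp sylDA.subtype := rfl
  have h2 : sylF2A.range.map (alternatingGroup (Fin 8)).subtype =
      ((MonoidHom.snd _ _).comp sylDA.subtype).range := by
    rw [MonoidHom.map_range, h1]
  rw [← Subgroup.card_map_of_injective (alternatingGroup (Fin 8)).subtype_injective, h2]
  have h3 : ((((MonoidHom.snd (symplecticGroup (Fin 2) (ZMod 3)) (Equiv.Perm (Fin 8))).comp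
      sylDA.subtype).range : Subgroup (Equiv.Perm (Fin 8))) : Set (Equiv.Perm (Fin 8))) =
      ((sylWA.map Prod.snd).toFinset : Set (Equiv.Perm (Fin 8))) := by
    ext s
    simp only [MonoidHom.coe_range, Set.mem_range, MonoidHom.coe_comp, Subgroup.coe_subtype,
      Function.comp_apply, MonoidHom.coe_snd, Subtype.exists, exists_prop, List.coe_toFinset,
      List.mem_map, Set.mem_setOf_eq]
    constructor
    · rintro ⟨d, hd, rfl⟩
      exact ⟨d, (mem_sylDA_iff d).mp hd, rfl⟩
    · rintro ⟨d, hd, rfl⟩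
      exact ⟨d, (mem_sylDA_iff d).mpr hd, rfl⟩
  calc Nat.card ((MonoidHom.snd (symplecticGroup (Fin 2) (ZMod 3)) (Equiv.Perm (Fin 8))).comp
        sylDA.subtype).range
      = Nat.card ↑((((MonoidHom.snd (symplecticGroup (Fin 2) (ZMod 3))
          (Equiv.Perm (Fin 8))).comp sylDA.subtype).range : Subgroup (Equiv.Perm (Fin 8))) :
          Set (Equiv.Perm (Fin 8))) := rfl
    _ = Nat.card ↑((sylWA.map Prod.snd).toFinset : Set (Equiv.Perm (Fin 8))) := by rw [h3]
    _ = 64 := by rw [Nat.card_coe_set_eq, Set.ncard_coe_finset, sylWA_card_snd]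

section field

variable (F : Type) [Field F] [Fintype F]

theorem card_PSp_four_three (hF : Fintype.card F = 3) : Nat.card (Cfsg.PSp 2 F) = 25920 := by
  have h1 := Cfsg.Agent.S0245.result hF 2
  have h2 := Cfsg.Agent.S0246.result hF 2 (by norm_num)
  have h3 := Subgroup.card_eq_card_quotient_mul_card_subgroup
    (Subgroup.center (symplecticGroup (Fin 2) F))
  rw [h1, h2] at h3
  norm_num [Finset.prod_range_succ] at h3
  show Nat.card (symplecticGroup (Fin 2) F ⧸ Subgroup.center (symplecticGroup (Fin 2) F)) = 25920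
  omega

/-- First projection of the graph subgroup, into `PSp₄(F)`. -/
noncomputable def sylF1A (e : ZMod 3 →+* F) : sylDA →* Cfsg.PSp 2 F :=
  (QuotientGroup.mk' (Subgroup.center (symplecticGroup (Fin 2) F))).comp
    ((spMap (Fin 2) e).comp ((MonoidHom.fst _ _).comp sylDA.subtype))

theorem ker_sylF1A (e : ZMod 3 →+* F) (he : Function.Injective e) :
    (sylF1A F e).ker = sylF2A.ker := by
  ext d
  rw [MonoidHom.mem_ker, MonoidHom.mem_ker]
  have h1 : sylF1A F e d = 1 ↔
      spMap (Fin 2) e d.1.1 ∈ Subgroup.center (symplecticGroup (Fin 2) F) := by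
    show (QuotientGroup.mk (spMap (Fin 2) e d.1.1) :
      symplecticGroup (Fin 2) F ⧸ Subgroup.center (symplecticGroup (Fin 2) F)) = 1 ↔ _
    exact QuotientGroup.eq_one_iff _
  have h2 : sylF2A d = 1 ↔ d.1.2 = 1 := by
    rw [Subtype.ext_iff]; rfl
  have hinj : Function.Injective (RingHom.mapMatrix (m := Fin 2 ⊕ Fin 2) e) := by
    intro A B hAB
    rw [RingHom.mapMatrix_apply, RingHom.mapMatrix_apply] at hAB
    exact Matrix.map_injective he hAB
  rw [h1, h2, ← sylDA_ker d.1 d.2]
  constructor
  · intro hc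
    rcases Cfsg.Agent.S0246.center_cases (by norm_num) _ hc with h | h
    · left
      have h' := congrArg Subtype.val h
      rw [spMap_coe] at h'
      apply hinj
      rw [RingHom.mapMatrix_apply, map_one]
      exact h'
    · right
      have h' := congrArg Subtype.val h
      rw [spMap_coe, Cfsg.Agent.S0246.negOne_coe] at h'
      apply hinj
      rw [RingHom.mapMatrix_apply, map_neg, map_one]
      exact h'
  · rintro (h | h)
    · have : spMap (Fin 2) e d.1.1 = 1 := by
        apply Subtype.ext
        rw [spMap_coe, h, ← RingHom.mapMatrix_apply, map_one]; rfl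
      rw [this]; exact one_mem _
    · have : spMap (Fin 2) e d.1.1 = Cfsg.Agent.S0246.negOne F 2 := by
        apply Subtype.ext
        rw [spMap_coe, h, ← RingHom.mapMatrix_apply, map_neg, map_one,
          Cfsg.Agent.S0246.negOne_coe]
      rw [this]; exact Cfsg.Agent.S0246.negOne_mem_center

/-- Part (a). -/
theorem sylow_alt_eight_psp_four_three (hF : Fintype.card F = 3)
    (P : Sylow 2 (alternatingGroup (Fin 8))) (Q : Sylow 2 (Cfsg.PSp 2 F)) :
    Nonempty ((P : Subgroup (alternatingGroup (Fin 8))) ≃* (Q : Subgroup (Cfsg.PSp 2 F))) := by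
  haveI : Fact (Nat.Prime 3) := ⟨by norm_num⟩
  haveI : Fact (Nat.Prime 2) := ⟨Nat.prime_two⟩
  haveI : CharP F 3 := charP_of_card_eq_prime hF
  let e : ZMod 3 →+* F := ZMod.castHom (dvd_refl 3) F
  have he : Function.Injective e := RingHom.injective e
  haveI : Finite (Cfsg.PSp 2 F) := by
    show Finite (symplecticGroup (Fin 2) F ⧸ Subgroup.center (symplecticGroup (Fin 2) F))
    infer_instance
  refine sylow_equiv_of_homs 2 (sylF1A F e) sylF2A (ker_sylF1A F e he) 64 card_range_sylF2A ?_ ?_
    P Q
  · rw [card_PSp_four_three F hF]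
    rw [show (25920 : ℕ) = 2 ^ 6 * 405 by norm_num, factorization_two_pow_mul 6 405 (by norm_num)]
    norm_num
  · rw [nat_card_alternatingGroup, Nat.card_eq_fintype_card, Fintype.card_fin]
    rw [show (Nat.factorial 8 / 2 : ℕ) = 2 ^ 6 * 315 by decide,
      factorization_two_pow_mul 6 315 (by norm_num)]
    norm_num

end field

end Cfsg.Agent.Lib.helper3
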