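import Mathlib
import Cfsg.Prelude.Def_Classical
import Cfsg.Agent.S0288
import Cfsg.Agent.Lib.helper3.SylDataB
import Cfsg.Agent.Lib.helper3.SylA

set_option autoImplicit false

/-!
Part (b): the Sylow 2-subgroups of `S₈` and of `O₆⁻(2)` are isomorphic.
-/

namespace Cfsg.Agent.Lib.helper3

open Matrix

/-- The index type of the six-dimensional minus-type form. -/
abbrev SylI6 : Type := (Fin 2 ⊕ Fin 2) ⊕ Fin 2

theorem mem_isometryGroup_iff {ι : Type} [Fintype ι] [DecidableEq ι] {F : Type*} [Field F]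
    (Q : (ι → F) → F) (g : Matrix.GeneralLinearGroup ι F) :
    g ∈ Cfsg.isometryGroup F Q ↔ ∀ u, Q ((g : Matrix ι ι F) *ᵥ u) = Q u :=
  ⟨fun h u => h u u, fun h u _ => h u⟩

/-- The graph subgroup for part (b). -/
def sylDB : Subgroup SylGB := Subgroup.closure {g | g ∈ sylGensB}

theorem mem_sylDB_iff (x : SylGB) : x ∈ sylDB ↔ x ∈ sylWB := by
  have hlen := sylWB_length
  constructor
  · refine closure_subset_of_table sylWB sylGensB ?_ ?_ x
    · have h0 : sylWB.getD 0 1 = 1 := sylWB_zero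
      have : 0 < sylWB.length := by rw [hlen]; norm_num
      rw [List.getD_eq_getElem _ _ this] at h0
      rw [← h0]
      exact List.getElem_mem this
    · apply closed_of_nxt sylWB sylGensB sylNxtB
      intro i hi l hl
      rw [hlen] at hi ⊢
      rw [sylGensB_length] at hl ⊢
      exact sylWB_nxt' ⟨i, hi⟩ ⟨l, hl⟩
  · refine table_subset_closure sylWB sylGensB sylParB sylLabB ?_ x
    intro i hi
    rw [hlen] at hi
    rw [sylGensB_length]
    exact sylWB_bfs' ⟨i, hi⟩

theorem sylDB_fst_isom : ∀ d ∈ sylDB,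
    d.1 ∈ Cfsg.isometryGroup (ZMod 2) (Cfsg.quadFormMinus 2 (ZMod 2) 1 1) := by
  have : sylDB ≤ (Cfsg.isometryGroup (ZMod 2) (Cfsg.quadFormMinus 2 (ZMod 2) 1 1)).comap
      (MonoidHom.fst _ _) := by
    rw [sylDB, Subgroup.closure_le]
    intro g hg
    obtain ⟨l, hl, rfl⟩ := List.getElem_of_mem hg
    rw [sylGensB_length] at hl
    have := sylGensB_isom ⟨l, hl⟩
    rw [List.getD_eq_getElem _ _ (by rw [sylGensB_length]; exact hl)] at this
    show _ ∈ Cfsg.isometryGroup (ZMod 2) (Cfsg.quadFormMinus 2 (ZMod 2) 1 1)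
    rw [mem_isometryGroup_iff]
    exact this
  intro d hd
  exact this hd

theorem sylDB_ker (d : SylGB) (hd : d ∈ sylDB) : d.1 = 1 ↔ d.2 = 1 := by
  rw [mem_sylDB_iff] at hd
  obtain ⟨i, hi, rfl⟩ := List.getElem_of_mem hd
  have hi' := hi
  rw [sylWB_length] at hi'
  have := sylWB_ker' ⟨i, hi'⟩
  rwa [List.getD_eq_getElem _ _ hi] at this

/-- Second projection of the graph subgroup. -/
def sylF2B : sylDB →* Equiv.Perm (Fin 8) := (MonoidHom.snd _ _).comp sylDB.subtype

theorem card_range_sylF2B : Nat.card sylF2B.range = 128 := by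
  have h3 : ((sylF2B.range : Subgroup (Equiv.Perm (Fin 8))) : Set (Equiv.Perm (Fin 8))) =
      ((sylWB.map Prod.snd).toFinset : Set (Equiv.Perm (Fin 8))) := by
    ext s
    simp only [sylF2B, MonoidHom.coe_range, Set.mem_range, MonoidHom.coe_comp,
      Subgroup.coe_subtype, Function.comp_apply, MonoidHom.coe_snd, Subtype.exists, exists_prop,
      List.coe_toFinset, List.mem_map, Set.mem_setOf_eq]
    constructor
    · rintro ⟨d, hd, rfl⟩
      exact ⟨d, (mem_sylDB_iff d).mp hd, rfl⟩
    · rintro ⟨d, hd, rfl⟩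
      exact ⟨d, (mem_sylDB_iff d).mpr hd, rfl⟩
  calc Nat.card sylF2B.range
      = Nat.card ↑((sylF2B.range : Subgroup (Equiv.Perm (Fin 8))) :
          Set (Equiv.Perm (Fin 8))) := rfl
    _ = Nat.card ↑((sylWB.map Prod.snd).toFinset : Set (Equiv.Perm (Fin 8))) := by rw [h3]
    _ = 128 := by rw [Nat.card_coe_set_eq, Set.ncard_coe_finset, sylWB_card_snd]

section field

variable (K : Type) [Field K] [Fintype K]

theorem quadFormMinus_comp (e : ZMod 2 →+* K) (w : SylI6 → ZMod 2) :
    Cfsg.quadFormMinus 2 K 1 1 (e ∘ w) = e (Cfsg.quadFormMinus 2 (ZMod 2) 1 1 w) := by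
  simp only [Cfsg.quadFormMinus, Function.comp_apply, map_add, map_sum, map_mul, map_pow, map_one]

theorem map_mem_isometryGroup (e : ZMod 2 →+* K) (he : Function.Surjective e)
    (g : Matrix.GeneralLinearGroup SylI6 (ZMod 2))
    (hg : g ∈ Cfsg.isometryGroup (ZMod 2) (Cfsg.quadFormMinus 2 (ZMod 2) 1 1)) :
    Matrix.GeneralLinearGroup.map e g ∈ Cfsg.isometryGroup K (Cfsg.quadFormMinus 2 K 1 1) := by
  rw [mem_isometryGroup_iff] at hg ⊢
  intro u
  obtain ⟨w, rfl⟩ : ∃ w : SylI6 → ZMod 2, e ∘ w = u := by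
    choose f hf using he
    exact ⟨fun i => f (u i), funext fun i => hf (u i)⟩
  have h1 : ((Matrix.GeneralLinearGroup.map e g : Matrix.GeneralLinearGroup SylI6 K) :
      Matrix SylI6 SylI6 K) *ᵥ (e ∘ w) = e ∘ ((g : Matrix SylI6 SylI6 (ZMod 2)) *ᵥ w) := by
    funext i
    rw [Function.comp_apply, RingHom.map_mulVec]
    rfl
  rw [h1, quadFormMinus_comp, quadFormMinus_comp, hg]

/-- First projection of the graph subgroup, into the isometry group over `K`. -/
def sylF1B (e : ZMod 2 →+* K) (he : Function.Surjective e) :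
    sylDB →* Cfsg.isometryGroup K (Cfsg.quadFormMinus 2 K 1 1) :=
  ((Matrix.GeneralLinearGroup.map e).comp ((MonoidHom.fst _ _).comp sylDB.subtype)).codRestrict
    (Cfsg.isometryGroup K (Cfsg.quadFormMinus 2 K 1 1))
    (fun d => map_mem_isometryGroup K e he d.1.1 (sylDB_fst_isom d.1 d.2))

theorem ker_sylF1B (e : ZMod 2 →+* K) (he : Function.Surjective e)
    (hinj : Function.Injective e) : (sylF1B K e he).ker = sylF2B.ker := by
  ext d
  rw [MonoidHom.mem_ker, MonoidHom.mem_ker]
  have h1 : sylF1B K e he d = 1 ↔ Matrix.GeneralLinearGroup.map e d.1.1 = 1 := by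
    rw [Subtype.ext_iff]; rfl
  have h2 : sylF2B d = 1 ↔ d.1.2 = 1 := Iff.rfl
  have hmapinj : Function.Injective (Matrix.GeneralLinearGroup.map (n := SylI6) e) := by
    intro A B hAB
    apply Units.ext
    ext i j
    have := congrArg (fun g : Matrix.GeneralLinearGroup SylI6 K => g i j) hAB
    simp only [Matrix.GeneralLinearGroup.map_apply] at this
    exact hinj this
  rw [h1, h2, ← sylDB_ker d.1 d.2]
  constructor
  · intro h
    apply hmapinj
    rw [h, map_one]
  · intro h
    rw [h, map_one]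

/-- Part (b), for the form with both coefficients `1`. -/
theorem sylow_symm_eight_orth_aux (hK : Fintype.card K = 2)
    (hab : ∀ z₁ z₂ : K, z₁ ^ 2 + 1 * z₁ * z₂ + 1 * z₂ ^ 2 = 0 → z₁ = 0 ∧ z₂ = 0)
    (P : Sylow 2 (Equiv.Perm (Fin 8)))
    (Q : Sylow 2 (Cfsg.isometryGroup K (Cfsg.quadFormMinus 2 K 1 1))) :
    Nonempty ((P : Subgroup (Equiv.Perm (Fin 8))) ≃*
      (Q : Subgroup (Cfsg.isometryGroup K (Cfsg.quadFormMinus 2 K 1 1)))) := by
  haveI : Fact (Nat.Prime 2) := ⟨Nat.prime_two⟩
  haveI : CharP K 2 := charP_of_card_eq_prime hK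
  let e : ZMod 2 →+* K := ZMod.castHom (dvd_refl 2) K
  have hinj : Function.Injective e := RingHom.injective e
  have hsurj : Function.Surjective e := by
    have hb : Function.Bijective e := by
      rw [Fintype.bijective_iff_injective_and_card]
      exact ⟨hinj, by rw [ZMod.card, hK]⟩
    exact hb.2
  refine sylow_equiv_of_homs 2 (sylF1B K e hsurj) sylF2B (ker_sylF1B K e hsurj hinj) 128
    card_range_sylF2B ?_ ?_ P Q
  · have h := Cfsg.Agent.S0288.result hK 3 (by norm_num) 1 1 hab
    have h' : Nat.card (Cfsg.isometryGroup K (Cfsg.quadFormMinus 2 K 1 1)) = 51840 := by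
      rw [show (3 - 1 : ℕ) = 2 from rfl] at h
      rw [h]
      norm_num [Finset.prod_range_succ]
    rw [h', show (51840 : ℕ) = 2 ^ 7 * 405 by norm_num,
      factorization_two_pow_mul 7 405 (by norm_num)]
    norm_num
  · rw [Nat.card_eq_fintype_card, Fintype.card_perm, Fintype.card_fin]
    rw [show (Nat.factorial 8 : ℕ) = 2 ^ 7 * 315 by decide,
      factorization_two_pow_mul 7 315 (by norm_num)]
    norm_num

/-- Part (b). -/
theorem sylow_symm_eight_orth (hK : Fintype.card K = 2) (a b : K)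
    (hab : ∀ z₁ z₂ : K, z₁ ^ 2 + a * z₁ * z₂ + b * z₂ ^ 2 = 0 → z₁ = 0 ∧ z₂ = 0)
    (P : Sylow 2 (Equiv.Perm (Fin 8)))
    (Q : Sylow 2 (Cfsg.isometryGroup K (Cfsg.quadFormMinus 2 K a b))) :
    Nonempty ((P : Subgroup (Equiv.Perm (Fin 8))) ≃*
      (Q : Subgroup (Cfsg.isometryGroup K (Cfsg.quadFormMinus 2 K a b)))) := by
  have h01 : ∀ x : K, x = 0 ∨ x = 1 := by
    classical
    have h : ({0, 1} : Finset K) = Finset.univ := by
      apply Finset.eq_univ_of_card
      rw [Finset.card_pair zero_ne_one, hK]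
    intro x
    have := Finset.mem_univ x
    rw [← h] at this
    simpa using this
  have h2 : (2 : K) = 0 := by
    have := Nat.cast_card_eq_zero K
    rw [hK] at this
    exact_mod_cast this
  have hb : b = 1 := by
    rcases h01 b with h | h
    · exfalso
      have := hab 0 1 (by rw [h]; ring)
      exact one_ne_zero this.2
    · exact h
  have ha : a = 1 := by
    rcases h01 a with h | h
    · exfalso
      have := hab 1 1 (by rw [h, hb]; linear_combination h2)
      exact one_ne_zero this.1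
    · exact h
  subst ha hb
  exact sylow_symm_eight_orth_aux K hK hab P Q

end field

end Cfsg.Agent.Lib.helper3
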