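import Mathlib

set_option autoImplicit false

/-!
Generic tools for identifying Sylow subgroups of two finite groups through a common
"graph" group mapping to both, and for pinning down a finitely generated subgroup by a
multiplication table on an explicit list.
-/

namespace Cfsg.Agent.Lib.helper3

/-- Two homomorphisms out of a common group with the same kernel, whose ranges have Sylow order,
identify the Sylow subgroups of the two targets. -/
theorem sylow_equiv_of_homs {D X Y : Type*} [Group D] [Group X] [Group Y] [Finite X] [Finite Y]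
    (p : ℕ) [Fact p.Prime]
    (f1 : D →* X) (f2 : D →* Y) (hker : f1.ker = f2.ker) (n : ℕ)
    (hc2 : Nat.card f2.range = n)
    (hX : n = p ^ (Nat.card X).factorization p) (hY : n = p ^ (Nat.card Y).factorization p)
    (P : Sylow p Y) (Q : Sylow p X) :
    Nonempty ((P : Subgroup Y) ≃* (Q : Subgroup X)) := by
  have e12 : f1.range ≃* f2.range :=
    ((QuotientGroup.quotientKerEquivRange f1).symm.trans
      (QuotientGroup.quotientMulEquivOfEq hker)).trans (QuotientGroup.quotientKerEquivRange f2)
  have hc1 : Nat.card f1.range = n := by rw [Nat.card_congr e12.toEquiv, hc2]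
  let S1 : Sylow p X := Sylow.ofCard f1.range (hc1.trans hX)
  let S2 : Sylow p Y := Sylow.ofCard f2.range (hc2.trans hY)
  have e1 : (S1 : Subgroup X) ≃* f1.range := MulEquiv.subgroupCongr (Sylow.coe_ofCard _ _)
  have e2 : (S2 : Subgroup Y) ≃* f2.range := MulEquiv.subgroupCongr (Sylow.coe_ofCard _ _)
  exact ⟨(((Sylow.equiv P S2).trans e2).trans e12.symm).trans (e1.symm.trans (Sylow.equiv S1 Q))⟩

/-- A list containing `1`, stable under right multiplication by the generators, contains the
generated subgroup (finite group). -/
theorem closure_subset_of_table {G : Type*} [Group G] [Finite G] (W gens : List G)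
    (h1 : (1 : G) ∈ W) (hcl : ∀ w ∈ W, ∀ g ∈ gens, w * g ∈ W) :
    ∀ x ∈ Subgroup.closure {g | g ∈ gens}, x ∈ W := by
  have key : ∀ x ∈ Submonoid.closure {g | g ∈ gens}, x ∈ W := by
    intro x hx
    induction hx using Submonoid.closure_induction_right with
    | one => exact h1
    | mul_right x _ y hy ih => exact hcl x ih y hy
  intro x hx
  have hx' : x ∈ (Subgroup.closure {g | g ∈ gens}).toSubmonoid := hx
  rw [Subgroup.closure_toSubmonoid_of_finite] at hx'
  exact key x hx'

/-- Breadth-first certificate: every entry of the table is `1` or an earlier entry times a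
generator; hence the table lies in the generated subgroup. -/
theorem table_subset_closure {G : Type*} [Group G] (W gens : List G) (par lab : List ℕ)
    (hb : ∀ i, i < W.length → W.getD i 1 = 1 ∨
      (par.getD i 0 < i ∧ W.getD i 1 = W.getD (par.getD i 0) 1 * gens.getD (lab.getD i 0) 1 ∧
        lab.getD i 0 < gens.length)) :
    ∀ x ∈ W, x ∈ Subgroup.closure {g | g ∈ gens} := by
  have key : ∀ i, i < W.length → W.getD i 1 ∈ Subgroup.closure {g | g ∈ gens} := by
    intro i
    induction i using Nat.strong_induction_on with
    | _ i ih =>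
      intro hi
      rcases hb i hi with h | ⟨hp, hw, hl⟩
      · rw [h]; exact one_mem _
      · rw [hw]
        refine mul_mem (ih _ hp (lt_trans hp hi)) (Subgroup.subset_closure ?_)
        show gens.getD (lab.getD i 0) 1 ∈ gens
        rw [List.getD_eq_getElem _ _ hl]
        exact List.getElem_mem hl
  intro x hx
  obtain ⟨i, hi, rfl⟩ := List.getElem_of_mem hx
  have := key i hi
  rwa [List.getD_eq_getElem _ _ hi] at this

/-- A successor table certifies stability under right multiplication by the generators. -/
theorem closed_of_nxt {G : Type*} [Group G] (W gens : List G) (nxt : List ℕ)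
    (h : ∀ i, i < W.length → ∀ l, l < gens.length →
      nxt.getD (gens.length * i + l) 0 < W.length ∧
        W.getD i 1 * gens.getD l 1 = W.getD (nxt.getD (gens.length * i + l) 0) 1) :
    ∀ w ∈ W, ∀ g ∈ gens, w * g ∈ W := by
  intro w hw g hg
  obtain ⟨i, hi, rfl⟩ := List.getElem_of_mem hw
  obtain ⟨l, hl, rfl⟩ := List.getElem_of_mem hg
  obtain ⟨h1, h2⟩ := h i hi l hl
  rw [List.getD_eq_getElem _ _ hi, List.getD_eq_getElem _ _ hl, List.getD_eq_getElem _ _ h1] at h2
  rw [h2]
  exact List.getElem_mem h1

/-- A permutation of `Fin 8` from a base-8 code of its values and of its inverse's values. -/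
def mkPerm8 (c d : ℕ) : Equiv.Perm (Fin 8) :=
  if h : (∀ i : Fin 8, Fin.ofNat 8 (d / 8 ^ (Fin.ofNat 8 (c / 8 ^ i.val)).val) = i) ∧
      (∀ i : Fin 8, Fin.ofNat 8 (c / 8 ^ (Fin.ofNat 8 (d / 8 ^ i.val)).val) = i) then
    ⟨fun i => Fin.ofNat 8 (c / 8 ^ i.val), fun i => Fin.ofNat 8 (d / 8 ^ i.val), h.1, h.2⟩
  else 1

end Cfsg.Agent.Lib.helper3
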