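import Mathlib
import Cfsg.Prelude.Def_LieExceptional
import Cfsg.Agent.Lib.helper3.SuzukiMultC
import Cfsg.Agent.Lib.helper3.SuzukiOddSylow
import Cfsg.Agent.Lib.helper3.PSL28
import Cfsg.Agent.Lib.helper3.Sz8TC.Upper

/-!
The Suzuki group over the field with eight elements satisfies the relators of the presentation
`Cfsg.Agent.Lib.Helper3.Sz8TC.Pres`, and is generated by the images of the letters (helper3).
-/

set_option autoImplicit false

namespace Cfsg.Agent.Lib.helper3.Sz8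

open Cfsg Cfsg.Agent.Lib.helper3
open scoped commutatorElement
open Cfsg.Agent.Lib.Helper12.TC

section

variable {F : Type*} [Field F] [Fintype F] (hF : Fintype.card F = 2 ^ (2 * 1 + 1))
  (k : Fˣ) (hk : (k : F) ^ 3 + (k : F) + 1 = 0)

theorem theta_eq (a : F) : szθ 1 a = a ^ 4 := by
  unfold szθ
  norm_num

include hF in
theorem unit_pow_seven (u : Fˣ) : u ^ 7 = 1 := by
  have h := pow_card_eq_one' (G := Fˣ) (x := u)
  rw [Nat.card_units, Nat.card_eq_fintype_card, hF] at h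
  exact h

include hF in
theorem val_pow_seven (u : Fˣ) : (u : F) ^ 7 = 1 := by
  have := congrArg Units.val (unit_pow_seven hF u)
  rwa [Units.val_pow_eq_pow_val, Units.val_one] at this

include hk hF in
theorem k_ne_one : k ≠ 1 := by
  rintro rfl
  have h2 := sz_two hF
  rw [Units.val_one] at hk
  have : (1 : F) = 0 := by linear_combination hk - h2
  exact one_ne_zero this

/-- the three generators -/
def gx : Sz F 1 := gT hF 1 0
/-- the three generators -/
def gd : Sz F 1 := gD hF k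
/-- the three generators -/
def gw : Sz F 1 := gJ hF

/-- the images of the letters -/
def fL : ℕ → Sz F 1
  | 0 => gx hF
  | 1 => (gx hF)⁻¹
  | 2 => gd hF k
  | 3 => (gd hF k)⁻¹
  | 4 => gw hF
  | _ => 1

theorem gx_sq : gx hF * gx hF = gT hF 0 1 := by
  have h2 := sz_two hF
  unfold gx
  rw [gT_sq, szθ_one, mul_one]

theorem gx_four : gx hF * gx hF * (gx hF * gx hF) = 1 := by
  have h2 := sz_two hF
  rw [gx_sq, gT_zero_mul, ← gT_zero hF]
  congr 1
  linear_combination h2

theorem gd_pow (n : ℕ) : gd hF k ^ n = gD hF (k ^ n) := by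
  unfold gd
  exact (map_pow (gDhom hF : Fˣ →* Sz F 1) k n).symm

theorem gd_seven : gd hF k ^ 7 = 1 := by
  rw [gd_pow, unit_pow_seven hF, gD_one]

theorem conj_x (n : ℕ) :
    gd hF k ^ n * gx hF * (gd hF k ^ n)⁻¹ = gT hF (((k : F) ^ n) ^ 2) 0 := by
  rw [gd_pow]
  unfold gx
  rw [gD_conj_gT_x, mul_one, Units.val_pow_eq_pow_val]

theorem conj_z (n : ℕ) :
    gd hF k ^ n * (gx hF * gx hF) * (gd hF k ^ n)⁻¹ =
      gT hF 0 ((((k : F) ^ n) ^ 2) * (((k : F) ^ n) ^ 4) ^ 2) := by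
  rw [gd_pow, gx_sq, gD_conj_gT_zero, mul_one, theta_eq, Units.val_pow_eq_pow_val]

theorem rel_r1 : ⁅gx hF * gx hF, gd hF k * gx hF * (gd hF k)⁻¹⁆ = 1 := by
  have h := conj_x hF k 1
  rw [pow_one] at h
  rw [h, gx_sq, gT_zero_comm_eq_one]

theorem rel_r2 :
    ⁅gx hF * gx hF, gd hF k * gd hF k * gx hF * (gd hF k * gd hF k)⁻¹⁆ = 1 := by
  have h := conj_x hF k 2
  rw [pow_two] at h
  rw [h, gx_sq, gT_zero_comm_eq_one]

include hk in
theorem rel_x3 :
    gd hF k ^ 3 * gx hF * (gd hF k ^ 3)⁻¹ =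
      gx hF * (gd hF k * gx hF * (gd hF k)⁻¹) * (gx hF * gx hF) *
        (gd hF k ^ 2 * (gx hF * gx hF) * (gd hF k ^ 2)⁻¹) := by
  have h2 := sz_two hF
  have h7 := val_pow_seven hF k
  have h1 := conj_x hF k 1
  rw [pow_one] at h1
  rw [conj_x, h1, conj_z, gx_sq]
  unfold gx
  rw [gT_mul, gT_mul, gT_mul, szθ_one, theta_eq, theta_eq]
  congr 1
  · grind
  · grind

theorem rel_wd : gw hF * gd hF k * gw hF * gd hF k = 1 := by
  unfold gw gd
  rw [gJ_gD, mul_assoc (gD hF k⁻¹), gJ_mul_self, mul_one, ← gD_mul, inv_mul_cancel, gD_one]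

theorem rel_bruhat :
    gw hF * gx hF * gx hF * gw hF * gx hF * gw hF * (gx hF)⁻¹ = 1 := by
  have h2 := sz_two hF
  have key : gJ hF * gT hF 0 1 * gJ hF * gT hF 1 0 = gT hF 1 0 * gJ hF := by
    apply Subtype.ext
    apply Subtype.ext
    show szJmat F * szTmat 1 0 1 * szJmat F * szTmat 1 1 0 = szTmat 1 1 0 * szJmat F
    have h11 : (1 : F) + 1 = 0 := by linear_combination h2
    ext i j
    fin_cases i <;> fin_cases j <;>
      simp [szJmat, szTmat, Matrix.mul_apply, Fin.sum_univ_four, szf_eq, szθ_one, szθ_zero, h11]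
  have e : gw hF * gx hF * gx hF * gw hF * gx hF * gw hF * (gx hF)⁻¹ =
      (gw hF * (gx hF * gx hF) * gw hF * gx hF) * gw hF * (gx hF)⁻¹ := by group
  rw [e, gx_sq]
  unfold gw gx
  rw [key, mul_assoc (gT hF 1 0), gJ_mul_self, mul_one, mul_inv_cancel]

include hk in
/-- the relators hold in the Suzuki group -/
theorem fL_base : ∀ b ∈ Cfsg.Agent.Lib.Helper3.Sz8TC.Pres.baseL, wprod (fL hF k) b = 1 := by
  intro b hb
  have h7 := gd_seven hF k
  have h4 := gx_four hF
  have hr1 := rel_r1 hF k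
  have hr2 := rel_r2 hF k
  have hx3 := rel_x3 hF k hk
  have hwd := rel_wd hF k
  have hbr := rel_bruhat hF
  have hww : gw hF * gw hF = 1 := gJ_mul_self hF
  simp only [Cfsg.Agent.Lib.Helper3.Sz8TC.Pres.baseL, List.mem_cons, List.not_mem_nil, or_false] at hb
  rcases hb with rfl | rfl | rfl | rfl | rfl | rfl | rfl | rfl | rfl | rfl | rfl | rfl | rfl
  · simp only [wprod_cons, wprod_nil, mul_one, fL]
    rw [← h7]
    simp only [pow_succ, pow_zero, one_mul, mul_assoc]
  · simp only [wprod_cons, wprod_nil, mul_one, fL]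
    rw [← h4]
    simp only [mul_assoc]
  · simp only [wprod_cons, wprod_nil, mul_one, fL]
    rw [← hr1]
    simp only [commutatorElement_def, mul_inv_rev, inv_inv, mul_assoc]
  · simp only [wprod_cons, wprod_nil, mul_one, fL]
    rw [← hr2]
    simp only [commutatorElement_def, mul_inv_rev, inv_inv, mul_assoc]
  · simp only [wprod_cons, wprod_nil, mul_one, fL]
    have e : gd hF k * (gd hF k * (gd hF k * (gx hF * ((gd hF k)⁻¹ * ((gd hF k)⁻¹ * ((gd hF k)⁻¹ *
        (gd hF k * (gd hF k * ((gx hF)⁻¹ * ((gx hF)⁻¹ * ((gd hF k)⁻¹ * ((gd hF k)⁻¹ * ((gx hF)⁻¹ *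
        ((gx hF)⁻¹ * (gd hF k * ((gx hF)⁻¹ * ((gd hF k)⁻¹ * (gx hF)⁻¹))))))))))))))))) =
        (gd hF k ^ 3 * gx hF * (gd hF k ^ 3)⁻¹) *
        (gx hF * (gd hF k * gx hF * (gd hF k)⁻¹) * (gx hF * gx hF) *
        (gd hF k ^ 2 * (gx hF * gx hF) * (gd hF k ^ 2)⁻¹))⁻¹ := by
      simp only [mul_inv_rev, inv_inv, mul_assoc, pow_succ, pow_zero, one_mul]
    rw [e, hx3, mul_inv_cancel]
  · simp only [wprod_cons, wprod_nil, mul_one, fL]
    rw [← hwd]
    simp only [mul_assoc]
  · simp only [wprod_cons, wprod_nil, mul_one, fL]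
    rw [← hbr]
    simp only [mul_assoc]
  · simp only [wprod_cons, wprod_nil, mul_one, fL]
    exact hww
  · simp only [wprod_cons, wprod_nil, mul_one, fL]
    exact mul_inv_cancel _
  · simp only [wprod_cons, wprod_nil, mul_one, fL]
    exact inv_mul_cancel _
  · simp only [wprod_cons, wprod_nil, mul_one, fL]
    exact mul_inv_cancel _
  · simp only [wprod_cons, wprod_nil, mul_one, fL]
    exact inv_mul_cancel _
  · rfl

include hk in
/-- the images of the letters generate the Suzuki group -/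
theorem closure_fL (g : Sz F 1) :
    g ∈ Subgroup.closure {y : Sz F 1 | ∃ s < 5, y = fL hF k s} := by
  have h2 := sz_two hF
  set H : Subgroup (Sz F 1) := Subgroup.closure {y : Sz F 1 | ∃ s < 5, y = fL hF k s} with hH
  have hx : gx hF ∈ H := Subgroup.subset_closure ⟨0, by norm_num, rfl⟩
  have hd : gd hF k ∈ H := Subgroup.subset_closure ⟨2, by norm_num, rfl⟩
  have hw : gw hF ∈ H := Subgroup.subset_closure ⟨4, by norm_num, rfl⟩
  have hcard : Nat.card Fˣ = 7 := by
    rw [Nat.card_units, Nat.card_eq_fintype_card, hF]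
    norm_num
  haveI : Fact (Nat.Prime 7) := ⟨by norm_num⟩
  have htop : Subgroup.zpowers k = ⊤ := zpowers_eq_top_of_prime_card hcard (k_ne_one hF k hk)
  have hD : ∀ u : Fˣ, gD hF u ∈ H := by
    intro u
    have hu : u ∈ Subgroup.zpowers k := by rw [htop]; trivial
    obtain ⟨n, hn⟩ := Subgroup.mem_zpowers_iff.1 hu
    have : gD hF u = (gD hF k) ^ n := by
      rw [← hn]
      exact map_zpow (gDhom hF : Fˣ →* Sz F 1) k n
    rw [this]
    exact H.zpow_mem hd n
  have hTx : ∀ a : F, gT hF a 0 ∈ H := by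
    intro a
    by_cases ha : a = 0
    · rw [ha, gT_zero]; exact H.one_mem
    · obtain ⟨u, hu⟩ := exists_unit_sq hF ha
      have e := gD_conj_gT_x hF u 1
      rw [mul_one, hu] at e
      rw [← e]
      exact H.mul_mem (H.mul_mem (hD u) hx) (H.inv_mem (hD u))
  have hTz : ∀ b : F, gT hF 0 b ∈ H := by
    intro b
    by_cases hb : b = 0
    · rw [hb, gT_zero]; exact H.one_mem
    · obtain ⟨u, hu⟩ := exists_unit_norm_sq (m := 1) hF hb
      have e := gD_conj_gT_zero hF u 1
      rw [mul_one, hu, ← gx_sq] at e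
      rw [← e]
      exact H.mul_mem (H.mul_mem (hD u) (H.mul_mem hx hx)) (H.inv_mem (hD u))
  have hT : ∀ a b : F, gT hF a b ∈ H := by
    intro a b
    rw [gT_split0]
    exact H.mul_mem (hTx a) (hTz b)
  rcases full_decomp hF (le_refl 1) g with ⟨a, b, u, rfl⟩ | ⟨a, b, a', b', u, rfl⟩
  · exact H.mul_mem (hT a b) (hD u)
  · exact H.mul_mem (H.mul_mem (hT a b) hw) (H.mul_mem (hT a' b') (hD u))

include hk in
/-- the presented group is isomorphic to the Suzuki group -/
theorem exists_presEquiv :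
    ∃ e : Cfsg.Agent.Lib.Helper3.Sz8TC.Pres.Grp ≃* Sz F 1,
      ∀ s < 5, e (Cfsg.Agent.Lib.Helper3.Sz8TC.Pres.v s) = fL hF k s := by
  obtain ⟨ρ, hρ⟩ := Cfsg.Agent.Lib.Helper3.Sz8TC.Pres.hliftG (fL hF k) (fL_base hF k hk)
  have hsurj : Function.Surjective ρ := by
    rw [← MonoidHom.range_eq_top, eq_top_iff]
    intro g _
    have hg := closure_fL hF k hk g
    have hle : Subgroup.closure {y : Sz F 1 | ∃ s < 5, y = fL hF k s} ≤ ρ.range := by
      rw [Subgroup.closure_le]
      rintro y ⟨s, hs, rfl⟩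
      exact ⟨_, hρ s hs⟩
    exact hle hg
  obtain ⟨hfin, hcard⟩ := Cfsg.Agent.Lib.Helper3.Sz8TC.card_le
  have hc : Nat.card (Sz F 1) = 29120 := by
    rw [card_Sz (le_refl 1) hF]
    norm_num
  have hbij : Function.Bijective ρ :=
    hsurj.bijective_of_nat_card_le (by rw [hc]; exact hcard)
  exact ⟨MulEquiv.ofBijective ρ hbij, fun s hs => hρ s hs⟩

end

end Cfsg.Agent.Lib.helper3.Sz8
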