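import Mathlib
import Cfsg.Prelude.Def_LieExceptional
import Cfsg.Agent.Lib.helper3.SuzukiMultE
import Cfsg.Agent.Lib.helper3.PSL28

set_option autoImplicit false

/-!
The kernel of a finite stem extension of the Suzuki group over the field of order eight is a
quotient of the four-group (helper3).
-/

namespace Cfsg.Agent.Lib.helper3

open Cfsg
open scoped commutatorElement

/-- the homomorphism from the group of order two sending the generator to an involution -/
theorem exists_hom_of_invol {H : Type*} [Group H] (a : H) (ha : a ^ 2 = 1) :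
    ∃ f : Multiplicative (ZMod 2) →* H, f (Multiplicative.ofAdd 1) = a ∧
      ∀ x, f x ∈ Subgroup.zpowers a := by
  let f0 : ℤ →+ Additive H := zmultiplesHom (Additive H) (Additive.ofMul a)
  have hf0 : f0 ((2 : ℕ) : ℤ) = 0 := by
    simp only [f0, zmultiplesHom_apply, natCast_zsmul]
    rw [← ofMul_pow, ha, ofMul_one]
  let f : ZMod 2 →+ Additive H := ZMod.lift 2 ⟨f0, hf0⟩
  have hval : ∀ j : ℤ, Additive.toMul (f ((j : ℤ) : ZMod 2)) = a ^ j := by
    intro j
    rw [ZMod.lift_coe]
    simp only [f0, zmultiplesHom_apply]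
    rfl
  refine ⟨AddMonoidHom.toMultiplicativeLeft f, ?_, ?_⟩
  · show Additive.toMul (f 1) = a
    have := hval 1
    rwa [Int.cast_one, zpow_one] at this
  · intro x
    obtain ⟨j, hj⟩ := ZMod.intCast_surjective (Multiplicative.toAdd x)
    show Additive.toMul (f (Multiplicative.toAdd x)) ∈ Subgroup.zpowers a
    rw [← hj, hval]
    exact Subgroup.zpow_mem_zpowers a j

/-- a group whose elements are `1`, `a`, `b`, `a * b` for commuting involutions `a`, `b` is a
quotient of the four-group -/
theorem exists_surj_v4 {H : Type*} [Group H] (a b : H) (ha : a ^ 2 = 1) (hb : b ^ 2 = 1)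
    (hab : Commute a b) (hgen : ∀ x : H, x = 1 ∨ x = a ∨ x = b ∨ x = a * b) :
    ∃ π : Multiplicative (ZMod 2 × ZMod 2) →* H, Function.Surjective π := by
  obtain ⟨fa, hfa, hfa'⟩ := exists_hom_of_invol a ha
  obtain ⟨fb, hfb, hfb'⟩ := exists_hom_of_invol b hb
  have comm : ∀ m n, Commute (fa m) (fb n) := by
    intro m n
    obtain ⟨i, hi⟩ := Subgroup.mem_zpowers_iff.1 (hfa' m)
    obtain ⟨j, hj⟩ := Subgroup.mem_zpowers_iff.1 (hfb' n)
    rw [← hi, ← hj]
    exact (hab.zpow_left i).zpow_right j
  refine ⟨(fa.noncommCoprod fb comm).comp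
    (MulEquiv.prodMultiplicative (G := ZMod 2) (H := ZMod 2)).toMonoidHom, ?_⟩
  have hval : ∀ p q : ZMod 2, ((fa.noncommCoprod fb comm).comp
      (MulEquiv.prodMultiplicative (G := ZMod 2) (H := ZMod 2)).toMonoidHom)
      (Multiplicative.ofAdd (p, q)) = fa (Multiplicative.ofAdd p) * fb (Multiplicative.ofAdd q) := by
    intro p q
    rfl
  have h0a : fa (Multiplicative.ofAdd 0) = 1 := map_one fa
  have h0b : fb (Multiplicative.ofAdd 0) = 1 := map_one fb
  intro x
  rcases hgen x with h | h | h | h
  · exact ⟨Multiplicative.ofAdd (0, 0), by rw [hval, h0a, h0b, mul_one, h]⟩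
  · exact ⟨Multiplicative.ofAdd (1, 0), by rw [hval, hfa, h0b, mul_one, h]⟩
  · exact ⟨Multiplicative.ofAdd (0, 1), by rw [hval, h0a, hfb, one_mul, h]⟩
  · exact ⟨Multiplicative.ofAdd (1, 1), by rw [hval, hfa, hfb, h]⟩

section basis

variable {F : Type*} [Field F] [Fintype F]

/-- the powers `1`, `ζ`, `ζ ^ 2` of a root of `X ^ 3 + X + 1` form a basis of the field of order
eight over its prime field -/
theorem f8_basis (hF : Fintype.card F = 8) {ζ : F} (hζ : ζ ^ 3 + ζ + 1 = 0) (b : F) :
    ∃ c0 c1 c2 : F, (c0 = 0 ∨ c0 = 1) ∧ (c1 = 0 ∨ c1 = 1) ∧ (c2 = 0 ∨ c2 = 1) ∧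
      b = c0 + c1 * ζ + c2 * ζ ^ 2 := by
  classical
  have h2 := two_eq_zero_of_card_eight hF
  have h10 : (1 : F) ≠ 0 := one_ne_zero
  have hz0 : ζ ≠ 0 := by
    rintro rfl
    apply h10
    linear_combination hζ
  have hz1 : ζ ≠ 1 := by
    rintro rfl
    apply h10
    linear_combination hζ - h2
  have hzz : ζ ^ 2 + ζ + 1 ≠ 0 := by
    intro h
    apply hz0
    linear_combination hζ - (ζ - 1) * h - h2
  have hz2 : ζ ^ 2 ≠ 1 := by
    intro h
    apply hz1
    have h3 : (ζ - 1) ^ 2 = 0 := by linear_combination h - (ζ - 1) * h2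
    have h4 := pow_eq_zero_iff (by norm_num) |>.1 h3
    linear_combination h4
  have hz3 : ζ ^ 2 ≠ ζ := by
    intro h
    have h3 : ζ * (ζ - 1) = 0 := by linear_combination h
    rcases mul_eq_zero.1 h3 with h' | h'
    · exact hz0 h'
    · exact hz1 (by linear_combination h')
  have hz4 : ζ ^ 2 ≠ 0 := pow_ne_zero 2 hz0
  let e : Bool → F := fun t => if t then 1 else 0
  have et : e true = 1 := rfl
  have ef : e false = 0 := rfl
  have exor : ∀ s t : Bool, e (xor s t) = e s - e t := by
    intro s t
    cases s <;> cases t <;> simp only [Bool.xor_false, Bool.xor_true, Bool.not_false,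
      Bool.not_true, et, ef, sub_zero, sub_self]
    linear_combination h2
  let φ : Bool × Bool × Bool → F := fun c => e c.1 + e c.2.1 * ζ + e c.2.2 * ζ ^ 2
  have key : ∀ c0 c1 c2 : Bool, e c0 + e c1 * ζ + e c2 * ζ ^ 2 = 0 →
      c0 = false ∧ c1 = false ∧ c2 = false := by
    intro c0 c1 c2 h
    cases c0 with
    | false =>
      cases c1 with
      | false =>
        cases c2 with
        | false => exact ⟨rfl, rfl, rfl⟩
        | true =>
          rw [ef, et] at h
          exact absurd (by linear_combination h) hz4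
      | true =>
        cases c2 with
        | false =>
          rw [ef, et] at h
          exact absurd (by linear_combination h) hz0
        | true =>
          rw [ef, et] at h
          exact absurd (by linear_combination h - ζ * h2) hz3
    | true =>
      cases c1 with
      | false =>
        cases c2 with
        | false =>
          rw [ef, et] at h
          exact absurd (by linear_combination h) h10
        | true =>
          rw [ef, et] at h
          exact absurd (by linear_combination h - h2) hz2
      | true =>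
        cases c2 with
        | false =>
          rw [ef, et] at h
          exact absurd (by linear_combination h - h2) hz1
        | true =>
          rw [et] at h
          exact absurd (by linear_combination h) hzz
  have hinj : Function.Injective φ := by
    rintro ⟨a0, a1, a2⟩ ⟨b0, b1, b2⟩ h
    have h' : e (xor a0 b0) + e (xor a1 b1) * ζ + e (xor a2 b2) * ζ ^ 2 = 0 := by
      rw [exor, exor, exor]
      have : e a0 + e a1 * ζ + e a2 * ζ ^ 2 = e b0 + e b1 * ζ + e b2 * ζ ^ 2 := h
      linear_combination this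
    obtain ⟨k0, k1, k2⟩ := key _ _ _ h'
    have hx : ∀ s t : Bool, xor s t = false → s = t := by decide
    have x0 : a0 = b0 := hx _ _ k0
    have x1 : a1 = b1 := hx _ _ k1
    have x2 : a2 = b2 := hx _ _ k2
    rw [x0, x1, x2]
  have hbij : Function.Bijective φ := by
    rw [Fintype.bijective_iff_injective_and_card]
    refine ⟨hinj, ?_⟩
    rw [hF]
    simp
  obtain ⟨⟨c0, c1, c2⟩, hc⟩ := hbij.2 b
  refine ⟨e c0, e c1, e c2, ?_, ?_, ?_, hc.symm⟩
  · cases c0
    · exact Or.inl rfl
    · exact Or.inr rfl
  · cases c1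
    · exact Or.inl rfl
    · exact Or.inr rfl
  · cases c2
    · exact Or.inl rfl
    · exact Or.inr rfl

end basis

end Cfsg.Agent.Lib.helper3
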