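import Mathlib
import Cfsg.Agent.Lib.helper3.Sz8Upper

set_option autoImplicit false

/-!
The subgroup generated by two distinct commuting involutions is the four-group (helper3).
-/

namespace Cfsg.Agent.Lib.helper3

/-- the subgroup generated by two distinct commuting involutions is isomorphic to the four-group -/
theorem closure_pair_equiv_v4 {H : Type*} [Group H] (a b : H) (ha : a ^ 2 = 1) (hb : b ^ 2 = 1)
    (hab : Commute a b) (ha1 : a ≠ 1) (hb1 : b ≠ 1) (hne : a ≠ b) :
    Nonempty (↥(Subgroup.closure ({a, b} : Set H)) ≃* Multiplicative (ZMod 2 × ZMod 2)) := by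
  obtain ⟨fa, hfa, hfa'⟩ := exists_hom_of_invol a ha
  obtain ⟨fb, hfb, hfb'⟩ := exists_hom_of_invol b hb
  have comm : ∀ m n, Commute (fa m) (fb n) := by
    intro m n
    obtain ⟨i, hi⟩ := Subgroup.mem_zpowers_iff.1 (hfa' m)
    obtain ⟨j, hj⟩ := Subgroup.mem_zpowers_iff.1 (hfb' n)
    rw [← hi, ← hj]
    exact (hab.zpow_left i).zpow_right j
  set π : Multiplicative (ZMod 2 × ZMod 2) →* H := (fa.noncommCoprod fb comm).comp
    (MulEquiv.prodMultiplicative (G := ZMod 2) (H := ZMod 2)).toMonoidHom with hπ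
  have hval : ∀ p q : ZMod 2, π (Multiplicative.ofAdd (p, q)) =
      fa (Multiplicative.ofAdd p) * fb (Multiplicative.ofAdd q) := by
    intro p q
    rfl
  have h0a : fa (Multiplicative.ofAdd 0) = 1 := map_one fa
  have h0b : fb (Multiplicative.ofAdd 0) = 1 := map_one fb
  have hab1 : a * b ≠ 1 := by
    intro h
    apply hne
    have hb' : b⁻¹ = b := by
      rw [inv_eq_iff_mul_eq_one, ← pow_two, hb]
    rw [← hb']
    exact eq_inv_of_mul_eq_one_left h
  have hinj : Function.Injective π := by
    rw [injective_iff_map_eq_one]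
    intro x hx
    obtain ⟨⟨p, q⟩, rfl⟩ : ∃ y : ZMod 2 × ZMod 2, Multiplicative.ofAdd y = x :=
      ⟨Multiplicative.toAdd x, rfl⟩
    rw [hval] at hx
    fin_cases p <;> fin_cases q
    · rfl
    · exfalso
      have hx' : fa (Multiplicative.ofAdd 0) * fb (Multiplicative.ofAdd 1) = 1 := hx
      rw [h0a, hfb, one_mul] at hx'
      exact hb1 hx'
    · exfalso
      have hx' : fa (Multiplicative.ofAdd 1) * fb (Multiplicative.ofAdd 0) = 1 := hx
      rw [h0b, hfa, mul_one] at hx'
      exact ha1 hx'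
    · exfalso
      have hx' : fa (Multiplicative.ofAdd 1) * fb (Multiplicative.ofAdd 1) = 1 := hx
      rw [hfa, hfb] at hx'
      exact hab1 hx'
  have hrange : π.range = Subgroup.closure ({a, b} : Set H) := by
    apply le_antisymm
    · rintro _ ⟨x, rfl⟩
      obtain ⟨⟨p, q⟩, rfl⟩ : ∃ y : ZMod 2 × ZMod 2, Multiplicative.ofAdd y = x :=
        ⟨Multiplicative.toAdd x, rfl⟩
      rw [hval]
      have h1 : Subgroup.zpowers a ≤ Subgroup.closure ({a, b} : Set H) := by
        rw [Subgroup.zpowers_le]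
        exact Subgroup.subset_closure (Set.mem_insert _ _)
      have h2 : Subgroup.zpowers b ≤ Subgroup.closure ({a, b} : Set H) := by
        rw [Subgroup.zpowers_le]
        exact Subgroup.subset_closure (Set.mem_insert_of_mem _ rfl)
      exact Subgroup.mul_mem _ (h1 (hfa' _)) (h2 (hfb' _))
    · rw [Subgroup.closure_le]
      rintro y (rfl | rfl)
      · exact ⟨Multiplicative.ofAdd (1, 0), by rw [hval, hfa, h0b, mul_one]⟩
      · exact ⟨Multiplicative.ofAdd (0, 1), by rw [hval, h0a, hfb, one_mul]⟩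
  exact ⟨((MonoidHom.ofInjective hinj).trans (MulEquiv.subgroupCongr hrange)).symm⟩

end Cfsg.Agent.Lib.helper3
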