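import Mathlib
import Cfsg.Prelude.Def_LieExceptional
import Cfsg.Prelude.Def_KGroupFacts
import Cfsg.Agent.Lib.helper3.Sz8Gens
import Cfsg.Agent.Lib.helper3.Sz8Perm
import Cfsg.Agent.Lib.helper3.PresCoverV
import Cfsg.Agent.Lib.helper3.V4Equiv
import Cfsg.Agent.Lib.helper3.SuzukiSylow

/-!
A stem extension of the Suzuki group over the field with eight elements with kernel the four-group (helper3).
-/

set_option autoImplicit false
set_option maxRecDepth 100000

namespace Cfsg.Agent.Lib.helper3.Sz8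

open Cfsg Cfsg.Agent.Lib.helper3
open scoped commutatorElement
open Cfsg.Agent.Lib.Helper12.TC Cfsg.Agent.Lib.Helper12.TCG
open Cfsg.Agent.Lib.Helper3.Sz8TC

/-- the permutations of the letters, indexed by the generators of the free group -/
noncomputable def mP (i : Fin 5) : Equiv.Perm (Fin 2080) := pf i.val

/-- the two central involutions -/
noncomputable def rho1 : Equiv.Perm (Fin 2080) := wprod pf wr1
/-- the two central involutions -/
noncomputable def rho2 : Equiv.Perm (Fin 2080) := wprod pf wr2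

/-- the kernel -/
noncomputable def ZP : Subgroup (Equiv.Perm (Fin 2080)) := Subgroup.closure {rho1, rho2}

theorem lift_wprod (l : List ℕ) (hl : ∀ s ∈ l, s < 5) :
    FreeGroup.lift mP (wprod (WPres.letter 5) l) = wprod pf l := by
  induction l with
  | nil => rw [wprod_nil, wprod_nil, map_one]
  | cons s l ih =>
    have hs : s < 5 := hl s List.mem_cons_self
    rw [wprod_cons, wprod_cons, map_mul, ih (fun t ht => hl t (List.mem_cons_of_mem _ ht))]
    congr 1
    unfold WPres.letter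
    rw [dif_pos hs, FreeGroup.lift_apply_of]
    rfl

theorem wr1_lt : ∀ s ∈ wr1, s < 5 := by decide
theorem wr2_lt : ∀ s ∈ wr2, s < 5 := by decide

theorem rho1_comm (s : ℕ) (hs : s < 5) : Commute rho1 (pf s) := by
  have h := (allBelowK_iff 5 _).mp hc1 s hs
  have h1 : ∀ t ∈ wr1 ++ [s], t < 5 := by
    intro t ht
    rcases List.mem_append.mp ht with h | h
    · exact wr1_lt t h
    · rw [List.mem_singleton] at h; rw [h]; exact hs
  have h2 : ∀ t ∈ s :: wr1, t < 5 := by
    intro t ht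
    rcases List.mem_cons.mp ht with h | h
    · rw [h]; exact hs
    · exact wr1_lt t h
  have e := eq_of_eqWK h h1 h2
  rw [wprod_append, wprod_cons, wprod_cons, wprod_nil, mul_one] at e
  exact e

theorem rho2_comm (s : ℕ) (hs : s < 5) : Commute rho2 (pf s) := by
  have h := (allBelowK_iff 5 _).mp hc2 s hs
  have h1 : ∀ t ∈ wr2 ++ [s], t < 5 := by
    intro t ht
    rcases List.mem_append.mp ht with h | h
    · exact wr2_lt t h
    · rw [List.mem_singleton] at h; rw [h]; exact hs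
  have h2 : ∀ t ∈ s :: wr2, t < 5 := by
    intro t ht
    rcases List.mem_cons.mp ht with h | h
    · rw [h]; exact hs
    · exact wr2_lt t h
  have e := eq_of_eqWK h h1 h2
  rw [wprod_append, wprod_cons, wprod_cons, wprod_nil, mul_one] at e
  exact e

theorem ZP_comm : ∀ z ∈ ZP, ∀ i, Commute z (mP i) := by
  intro z hz i
  refine Subgroup.closure_induction (p := fun z _ => Commute z (mP i)) ?_ ?_ ?_ ?_ hz
  · rintro y (rfl | rfl)
    · exact rho1_comm i.val i.isLt
    · exact rho2_comm i.val i.isLt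
  · exact Commute.one_left _
  · intro x y _ _ hx hy
    exact hx.mul_left hy
  · intro x _ hx
    exact hx.inv_left

theorem wprod_one_of_relsK {L : List (List ℕ)} (h : Fn.relsK TT 2080 L = true)
    (hL : lettersK 5 L = true) : ∀ b ∈ L, wprod pf b = 1 := by
  intro b hb
  have hbl : ∀ s ∈ b, s < 5 := fun s hs => lettersK_lt hL hb hs
  apply Equiv.ext
  intro i
  apply Fin.ext
  rw [Fn.perm_word pf pf_apply b hbl i]
  exact Nat.eq_of_beq_eq_true ((allBelowK_iff 2080 _).mp ((allListK_iff _ _).mp h b hb) i.val i.isLt)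

theorem rho1_sq : rho1 ^ 2 = 1 := by
  have h := wprod_one_of_relsK hsq (by decide) (wr1 ++ wr1) (by simp)
  rw [wprod_append] at h
  rw [pow_two]
  exact h

theorem rho2_sq : rho2 ^ 2 = 1 := by
  have h := wprod_one_of_relsK hsq (by decide) (wr2 ++ wr2) (by simp)
  rw [wprod_append] at h
  rw [pow_two]
  exact h

theorem rho12_comm : Commute rho1 rho2 := by
  have h1 : ∀ t ∈ wr1 ++ wr2, t < 5 := by decide
  have h2 : ∀ t ∈ wr2 ++ wr1, t < 5 := by decide
  have e := eq_of_eqWK hc12 h1 h2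
  rw [wprod_append, wprod_append] at e
  exact e

theorem rho1_zero : ((rho1 ⟨0, by norm_num⟩ : Fin 2080) : ℕ) = 6 := by
  unfold rho1
  rw [Fn.perm_word pf pf_apply wr1 wr1_lt]
  exact hmv1

theorem rho2_zero : ((rho2 ⟨0, by norm_num⟩ : Fin 2080) : ℕ) = 25 := by
  unfold rho2
  rw [Fn.perm_word pf pf_apply wr2 wr2_lt]
  exact hmv2

theorem rho1_ne_one : rho1 ≠ 1 := by
  intro h
  have h1 := rho1_zero
  rw [h] at h1
  simp at h1

theorem rho2_ne_one : rho2 ≠ 1 := by
  intro h
  have h1 := rho2_zero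
  rw [h] at h1
  simp at h1

theorem rho1_ne_rho2 : rho1 ≠ rho2 := by
  intro h
  have h1 := rho1_zero
  rw [h, rho2_zero] at h1
  norm_num at h1

theorem ZP_equiv : Nonempty (↥ZP ≃* Multiplicative (ZMod 2 × ZMod 2)) :=
  closure_pair_equiv_v4 rho1 rho2 rho1_sq rho2_sq rho12_comm rho1_ne_one rho2_ne_one rho1_ne_rho2

theorem ZP_rel : ∀ r ∈ WPres.rels 5 Pres.baseL, FreeGroup.lift mP r ∈ ZP := by
  rintro r ⟨b, hb, rfl⟩
  have hbl : ∀ s ∈ b, s < 5 := fun s hs => lettersK_lt Pres.hlet hb hs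
  rw [lift_wprod b hbl]
  have hcases : b = wr1 ∨ b = wr2 ∨ b ∈ baseOK := by
    revert hb
    simp only [Pres.baseL, wr1, wr2, baseOK, List.mem_cons, List.not_mem_nil, or_false]
    tauto
  rcases hcases with rfl | rfl | hb'
  · exact Subgroup.subset_closure (Set.mem_insert _ _)
  · exact Subgroup.subset_closure (Set.mem_insert_of_mem _ rfl)
  · rw [wprod_one_of_relsK hrelsOK (by decide) b hb']
    exact Subgroup.one_mem _

theorem wr1_comm {K : Type*} [Group K] (f : ℕ → K) (h1 : f 1 = (f 0)⁻¹) (h3 : f 3 = (f 2)⁻¹) :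
    wprod f wr1 = ⁅f 0 * f 0, f 2 * f 0 * (f 2)⁻¹⁆ := by
  simp only [wr1, wprod_cons, wprod_nil, mul_one, h1, h3, commutatorElement_def, mul_inv_rev,
    inv_inv, mul_assoc]

theorem wr2_comm {K : Type*} [Group K] (f : ℕ → K) (h1 : f 1 = (f 0)⁻¹) (h3 : f 3 = (f 2)⁻¹) :
    wprod f wr2 = ⁅f 0 * f 0, f 2 * f 2 * f 0 * (f 2 * f 2)⁻¹⁆ := by
  simp only [wr2, wprod_cons, wprod_nil, mul_one, h1, h3, commutatorElement_def, mul_inv_rev,
    inv_inv, mul_assoc]

theorem pf_one : pf 1 = (pf 0)⁻¹ := pf_inv 0 (by decide)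
theorem pf_three : pf 3 = (pf 2)⁻¹ := pf_inv 2 (by decide)

/-- the generators of the free group -/
def fg (i : ℕ) (hi : i < 5) : FreeGroup (Fin 5) := FreeGroup.of ⟨i, hi⟩

/-- the first commutator word -/
def u1 : FreeGroup (Fin 5) :=
  ⁅fg 0 (by decide) * fg 0 (by decide), fg 2 (by decide) * fg 0 (by decide) * (fg 2 (by decide))⁻¹⁆

/-- the second commutator word -/
def u2 : FreeGroup (Fin 5) :=
  ⁅fg 0 (by decide) * fg 0 (by decide),
    fg 2 (by decide) * fg 2 (by decide) * fg 0 (by decide) * (fg 2 (by decide) * fg 2 (by decide))⁻¹⁆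

theorem mk_fg (i : ℕ) (hi : i < 5) :
    PresentedGroup.mk (WPres.rels 5 Pres.baseL) (fg i hi) = Pres.v i := by
  show _ = PresentedGroup.mk (WPres.rels 5 Pres.baseL) (WPres.letter 5 i)
  unfold WPres.letter
  rw [dif_pos hi]
  rfl

theorem lift_fg (i : ℕ) (hi : i < 5) : FreeGroup.lift mP (fg i hi) = pf i := by
  unfold fg
  rw [FreeGroup.lift_apply_of]
  rfl

theorem u1_mem : u1 ∈ commutator (FreeGroup (Fin 5)) := by
  rw [commutator_def]
  exact Subgroup.commutator_mem_commutator (Subgroup.mem_top _) (Subgroup.mem_top _)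

theorem u2_mem : u2 ∈ commutator (FreeGroup (Fin 5)) := by
  rw [commutator_def]
  exact Subgroup.commutator_mem_commutator (Subgroup.mem_top _) (Subgroup.mem_top _)

theorem mk_u1 : PresentedGroup.mk (WPres.rels 5 Pres.baseL) u1 = 1 := by
  unfold u1
  rw [map_commutatorElement]
  simp only [map_mul, map_inv, mk_fg]
  rw [← wr1_comm Pres.v Pres.v_one Pres.v_three]
  exact Pres.hbase wr1 (by decide)

theorem mk_u2 : PresentedGroup.mk (WPres.rels 5 Pres.baseL) u2 = 1 := by
  unfold u2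
  rw [map_commutatorElement]
  simp only [map_mul, map_inv, mk_fg]
  rw [← wr2_comm Pres.v Pres.v_one Pres.v_three]
  exact Pres.hbase wr2 (by decide)

theorem lift_u1 : FreeGroup.lift mP u1 = rho1 := by
  unfold u1
  rw [map_commutatorElement]
  simp only [map_mul, map_inv, lift_fg]
  rw [← wr1_comm pf pf_one pf_three]
  rfl

theorem lift_u2 : FreeGroup.lift mP u2 = rho2 := by
  unfold u2
  rw [map_commutatorElement]
  simp only [map_mul, map_inv, lift_fg]
  rw [← wr2_comm pf pf_one pf_three]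
  rfl

theorem ZP_words : ∀ z ∈ ZP, ∃ u ∈ commutator (FreeGroup (Fin 5)),
    PresentedGroup.mk (WPres.rels 5 Pres.baseL) u = 1 ∧ FreeGroup.lift mP u = z := by
  intro z hz
  refine Subgroup.closure_induction (p := fun z _ => ∃ u ∈ commutator (FreeGroup (Fin 5)),
    PresentedGroup.mk (WPres.rels 5 Pres.baseL) u = 1 ∧ FreeGroup.lift mP u = z) ?_ ?_ ?_ ?_ hz
  · rintro y (rfl | rfl)
    · exact ⟨u1, u1_mem, mk_u1, lift_u1⟩
    · exact ⟨u2, u2_mem, mk_u2, lift_u2⟩
  · exact ⟨1, Subgroup.one_mem _, map_one _, map_one _⟩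
  · rintro x y _ _ ⟨a, ha, ha1, ha2⟩ ⟨b, hb, hb1, hb2⟩
    exact ⟨a * b, Subgroup.mul_mem _ ha hb, by rw [map_mul, ha1, hb1, mul_one],
      by rw [map_mul, ha2, hb2]⟩
  · rintro x _ ⟨a, ha, ha1, ha2⟩
    exact ⟨a⁻¹, Subgroup.inv_mem _ ha, by rw [map_inv, ha1, inv_one], by rw [map_inv, ha2]⟩

section

universe u

variable {F : Type u} [Field F] [Fintype F]

/-- a stem extension of the Suzuki group over the field with eight elements with kernel the four-group -/
theorem exists_stem_v4 (hF : Fintype.card F = 2 ^ (2 * 1 + 1)) :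
    ∃ (Γ : Type u) (_ : Group Γ) (_ : Finite Γ) (σ : Γ →* Sz F 1),
      IsStemExtension σ ∧ Nonempty (σ.ker ≃* Multiplicative (ZMod 2 × ZMod 2)) := by
  have hF8 : Fintype.card F = 8 := by rw [hF]; norm_num
  obtain ⟨ζ, hζ⟩ := exists_root_cubic hF8
  have hζ0 : ζ ≠ 0 := by
    rintro rfl
    have : (1 : F) = 0 := by linear_combination hζ
    exact one_ne_zero this
  obtain ⟨e, _⟩ := exists_presEquiv hF (Units.mk0 ζ hζ0) (by rw [Units.val_mk0]; exact hζ)
  haveI : Finite (Sz F 1) := finite_Sz hF (le_refl 1)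
  obtain ⟨Γ, hG, hfin, σ, hstem, ⟨eK⟩⟩ := pcv_stem (WPres.rels 5 Pres.baseL) e mP ZP ZP_comm ZP_rel
    ZP_words
  obtain ⟨eZ⟩ := ZP_equiv
  exact ⟨Γ, hG, hfin, σ, hstem, ⟨eK.trans eZ⟩⟩

end

end Cfsg.Agent.Lib.helper3.Sz8
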