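import Mathlib
import Cfsg.Prelude.Def_LieExceptional
import Cfsg.Agent.Lib.helper3.Sz8Upper

set_option autoImplicit false

/-!
The kernel of a finite stem extension of the Suzuki group over the field of order eight is a
quotient of the four-group: main statement (helper3).
-/

namespace Cfsg.Agent.Lib.helper3

open Cfsg
open scoped commutatorElement

variable {F : Type*} [Field F] [Fintype F]

theorem sz8_ker_quotient_v4 (hF : Fintype.card F = 2 ^ (2 * 1 + 1)) {Γ : Type*} [Group Γ]
    [Finite Γ] (σ : Γ →* Sz F 1) (hsurj : Function.Surjective σ)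
    (hcen : σ.ker ≤ Subgroup.center Γ) (hder : σ.ker ≤ commutator Γ) :
    ∃ π : Multiplicative (ZMod 2 × ZMod 2) →* σ.ker, Function.Surjective π := by
  have hF8 : Fintype.card F = 8 := by rw [hF]; norm_num
  have h2 := two_eq_zero_of_card_eight hF8
  obtain ⟨ζ, hζ⟩ := exists_root_cubic hF8
  have hadd := szB_add hF (le_refl 1) σ hsurj hcen
  have hB0 : szB hF σ hsurj 0 = 1 := by
    have h := hadd 0 0
    rw [add_zero] at h
    exact mul_eq_left.1 h.symm
  have hB1 : szB hF σ hsurj 1 = 1 := szB_one hF σ hsurj hcen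
  have hBsq : ∀ c, szB hF σ hsurj c * szB hF σ hsurj c = 1 := by
    intro c
    rw [← hadd, show c + c = 0 by linear_combination c * h2, hB0]
  have hBker : ∀ c, szB hF σ hsurj c ∈ σ.ker := szB_mem_ker hF σ hsurj hcen
  -- every element of the kernel is a value of `szB`
  have hrange' : ∀ z ∈ Subgroup.closure (Set.range (szB hF σ hsurj)),
      ∃ c, z = szB hF σ hsurj c := by
    intro z h1
    induction h1 using Subgroup.closure_induction with
    | mem x hx =>
      obtain ⟨c, rfl⟩ := hx
      exact ⟨c, rfl⟩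
    | one => exact ⟨0, hB0.symm⟩
    | mul x y _ _ hx hy =>
      obtain ⟨c, rfl⟩ := hx
      obtain ⟨c', rfl⟩ := hy
      exact ⟨c + c', (hadd c c').symm⟩
    | inv x _ hx =>
      obtain ⟨c, rfl⟩ := hx
      exact ⟨c, inv_eq_of_mul_eq_one_left (hBsq c)⟩
  have hrange : ∀ z ∈ σ.ker, ∃ c, z = szB hF σ hsurj c := fun z hz =>
    hrange' z (ker_le_closure_szB hF (le_refl 1) σ hsurj hcen hder hz)
  obtain ⟨a, ha⟩ : ∃ a : σ.ker, (a : Γ) = szB hF σ hsurj ζ := ⟨⟨_, hBker ζ⟩, rfl⟩
  obtain ⟨b, hb⟩ : ∃ b : σ.ker, (b : Γ) = szB hF σ hsurj (ζ ^ 2) := ⟨⟨_, hBker (ζ ^ 2)⟩, rfl⟩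
  refine exists_surj_v4 a b ?_ ?_ ?_ ?_
  · apply Subtype.ext
    rw [Subgroup.coe_pow, ha, pow_two, hBsq]
    rfl
  · apply Subtype.ext
    rw [Subgroup.coe_pow, hb, pow_two, hBsq]
    rfl
  · show a * b = b * a
    apply Subtype.ext
    rw [Subgroup.coe_mul, Subgroup.coe_mul]
    exact (Subgroup.mem_center_iff.1 (hcen a.2) b).symm
  · intro x
    obtain ⟨c, hc⟩ := hrange x.1 x.2
    obtain ⟨c0, c1, c2, h0, h1, h2', hcc⟩ := f8_basis hF8 hζ c
    have e0 : szB hF σ hsurj c0 = 1 := by
      rcases h0 with rfl | rfl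
      · exact hB0
      · exact hB1
    have hx : (x : Γ) = szB hF σ hsurj (c1 * ζ) * szB hF σ hsurj (c2 * ζ ^ 2) := by
      rw [hc, hcc, hadd, hadd, e0, one_mul]
    rcases h1 with rfl | rfl <;> rcases h2' with rfl | rfl
    · left
      apply Subtype.ext
      rw [hx]
      simp only [zero_mul, hB0, one_mul]
      rfl
    · right; right; left
      apply Subtype.ext
      rw [hx]
      simp only [zero_mul, one_mul, hB0, hb]
    · right; left
      apply Subtype.ext
      rw [hx]
      simp only [zero_mul, one_mul, hB0, mul_one, ha]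
    · right; right; right
      apply Subtype.ext
      rw [hx]
      simp only [one_mul, Subgroup.coe_mul, ha, hb]

end Cfsg.Agent.Lib.helper3
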