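import Cfsg.Agent.Lib.helper3.TCUpper

/-!
Upper bound for the index of a subgroup from a coset enumeration certificate in the format of helper12
(`Cfsg.Agent.Lib.Helper12.TCG`), with one table of rotated relators for every chunk of derived facts, so that
presentations with many long relators can be used (helper3).
-/

set_option autoImplicit false

namespace Cfsg.Agent.Lib.Helper3.TCUpper

open Cfsg.Agent.Lib.Helper12.TC Cfsg.Agent.Lib.Helper12.TCG

/-- a chunk of consecutive derived facts with its own table of rotated relators -/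
structure Chunk where
  /-- number of the first fact -/
  start : ℕ
  /-- the packed words -/
  RW : ℕ
  /-- number of rotated relators -/
  R0 : ℕ
  /-- number of packed words -/
  R : ℕ
  /-- the rotations -/
  rotW : List (ℕ × ℕ)
  /-- the records -/
  recs : List ℕ

/-- the chunks cover the facts from `D` up to `K` and are valid -/
theorem chunks_valid2 {G : Type*} [Group G] (H : Subgroup G) (v : ℕ → G) (F : ℕ → ℕ) (IV : ℕ)
    (hv15 : v 15 = 1) (hinv : ∀ s, s < 16 → v (invS IV s) = (v s)⁻¹) (hiv15 : invS IV 15 = 15)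
    (chunks : List Chunk) (K : ℕ) :
    ∀ D : ℕ, (∀ c ∈ chunks, ((∀ rid < c.R0, wprod v (unpack (relW c.RW rid)) = 1) ∧
        (∀ rid, wprod v (unpack (relW c.RW rid)) ∈ H)) ∧
        chunkG IV F c.RW c.R0 c.recs c.start = true) →
      coverK D K (chunks.map fun c => (c.start, c.recs)) = true →
      ∀ k, D ≤ k → k < K → (∀ j < k, Valid H v F j) → Valid H v F k := by
  induction chunks with
  | nil =>
    intro D _ hc k h1 h2
    have : D = K := Nat.eq_of_beq_eq_true hc
    omega
  | cons c chunks ih =>
    intro D hall hc k h1 h2 hv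
    have e : coverK D K ((c :: chunks).map fun c => (c.start, c.recs)) =
        (Nat.beq c.start D &&
          coverK (Nat.add D c.recs.length) K (chunks.map fun c => (c.start, c.recs))) := rfl
    rw [e, Bool.and_eq_true] at hc
    have e1 : c.start = D := Nat.eq_of_beq_eq_true hc.1
    by_cases hk : k < D + c.recs.length
    · obtain ⟨⟨hrel1, hrel2⟩, h3⟩ := hall c List.mem_cons_self
      rw [e1] at h3
      exact chunkG_sound H v F IV hv15 hinv hiv15 hrel1 hrel2 c.recs D h3 k h1 hk hv
    · exact ih (Nat.add D c.recs.length) (fun c' hc' => hall c' (List.mem_cons_of_mem _ hc')) hc.2 k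
        (Nat.le_of_not_lt hk) h2 hv

set_option maxHeartbeats 1000000 in
/-- the index of the subgroup is at most the number of rows of the final table -/
theorem index_le2 {G : Type*} [Group G] (v : ℕ → G) (g IV : ℕ) (hg : g ≤ 15)
    (hiv : ivK IV g = true)
    (hvinv : ∀ s < g, v (invS IV s) = (v s)⁻¹) (hvge : ∀ s, ¬ s < g → v s = 1)
    (hgen : ∀ γ : G, γ ∈ Subgroup.closure {y | ∃ x < g, y = v x})
    (baseL : List (List ℕ)) (hbase : ∀ b ∈ baseL, wprod v b = 1) (hlet : lettersK g baseL = true)
    (sw : List (List ℕ)) (hletsw : lettersK g sw = true) (H : Subgroup G)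
    (hswH : ∀ w ∈ sw, wprod v w ∈ H)
    (F : ℕ → ℕ) (finrecs : List ℕ)
    (chunks : List Chunk) (D K N : ℕ)
    (hdefs : defsK F D = true)
    (hchunks : ∀ c ∈ chunks, relCheckK c.RW c.R0 c.R baseL c.rotW sw = true ∧
      chunkG IV F c.RW c.R0 c.recs c.start = true)
    (hcover : coverK D K (chunks.map fun c => (c.start, c.recs)) = true)
    (hfin : finG IV F K g finrecs = true) (hlen : finrecs.length = N) :
    Finite (G ⧸ H) ∧ Nat.card (G ⧸ H) ≤ N := by
  have hg16 : g ≤ 16 := by omega
  have hv15 : v 15 = 1 := hvge 15 (by omega)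
  have hiv15 : invS IV 15 = 15 := ivK_ge hiv (by omega) (by decide)
  have hinv : ∀ s, s < 16 → v (invS IV s) = (v s)⁻¹ := by
    intro s hs16
    by_cases hs : s < g
    · exact hvinv s hs
    · rw [ivK_ge hiv hs hs16, hvge s hs, inv_one]
  have hlet15 : ∀ L : List (List ℕ), lettersK g L = true → lettersK 15 L = true := by
    intro L hL
    refine (allListK_iff L _).mpr (fun w hw => (allListK_iff w _).mpr (fun s hs => ?_))
    have : s < g := lettersK_lt hL hw hs
    exact Nat.ble_eq_true_of_le (by omega)
  have hch : ∀ c ∈ chunks, ((∀ rid < c.R0, wprod v (unpack (relW c.RW rid)) = 1) ∧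
      (∀ rid, wprod v (unpack (relW c.RW rid)) ∈ H)) ∧
      chunkG IV F c.RW c.R0 c.recs c.start = true := by
    intro c hc
    obtain ⟨h1, h2⟩ := hchunks c hc
    exact ⟨relCheck_sound H v h1 (hlet15 _ hlet) (hlet15 _ hletsw) hbase hswH, h2⟩
  have hvalid : ∀ k < K, Valid H v F k := by
    intro k
    induction k using Nat.strong_induction_on with
    | _ k ih =>
      intro hk
      by_cases hkD : k < D
      · exact defsK_sound H v F hdefs hkD
      · exact chunks_valid2 H v F IV hv15 hinv hiv15 chunks K D hch hcover k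
          (Nat.le_of_not_lt hkD) hk (fun j hj => ih j hj (lt_trans hj hk))
  have hcov := covering H v F IV hinv hg16 hiv hvalid hfin hgen
  let Θ : Fin (repsOf finrecs).length → G ⧸ H :=
    fun i => (((tau v F ((repsOf finrecs).get i))⁻¹ : G) : G ⧸ H)
  have hΘ : Function.Surjective Θ := by
    intro q
    induction q using QuotientGroup.induction_on with
    | H γ =>
      obtain ⟨ℓ, hℓ, hmem⟩ := hcov γ⁻¹
      obtain ⟨i, hi⟩ := List.mem_iff_get.mp hℓ
      refine ⟨i, ?_⟩
      show (((tau v F ((repsOf finrecs).get i))⁻¹ : G) : G ⧸ H) = (γ : G ⧸ H)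
      rw [QuotientGroup.eq, hi]
      rw [inv_inv] at hmem ⊢
      exact hmem
  have hfinite : Finite (G ⧸ H) := Finite.of_surjective Θ hΘ
  refine ⟨hfinite, ?_⟩
  have := Nat.card_le_card_of_surjective Θ hΘ
  rw [Nat.card_fin] at this
  have h2 : (repsOf finrecs).length = N := by
    rw [← hlen]; exact List.length_map _
  rwa [h2] at this

end Cfsg.Agent.Lib.Helper3.TCUpper
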