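import Cfsg.Agent.Lib.helper7.TO.Basic

/-!
# Project TO, piece FIN: `fin_lin` (tensor rank, pure linear algebra)
-/

set_option autoImplicit false

namespace Cfsg.Agent.Lib.helper7.TO

open Matrix Cfsg.Agent.Lib.helper7.TP Cfsg.Agent.Lib.Helper28.SympAbs
open scoped Kronecker

variable {a b : ℕ} {F : Type*} [Field F]

/-- a linear map `F^b → F^k`, `k < b`, has a non-zero vector in its kernel. -/
theorem tofin_ker {b k : ℕ} {F : Type*} [Field F] (hk : k < b)
    (L : (Fin b → F) →ₗ[F] (Fin k → F)) : ∃ w : Fin b → F, w ≠ 0 ∧ L w = 0 := by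
  by_contra hcon
  push Not at hcon
  have hinj : Function.Injective L := by
    rw [← LinearMap.ker_eq_bot, LinearMap.ker_eq_bot']
    intro w hw
    by_contra h0
    exact hcon w h0 hw
  have := LinearMap.finrank_le_finrank_of_injective hinj
  rw [Module.finrank_fin_fun, Module.finrank_fin_fun] at this
  omega

/-- `ctr (fl₂ w) s i = f₂ (row i of s) w`. -/
theorem tofin_ctr_eq (C : Ctx a b F) (w : Fin b → F) (s : Fin a × Fin b → F) (i : Fin a) :
    ctr (C.fl₂ w) s i = C.f₂ (fun j => s (i, j)) w := by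
  rw [← C.fl₂_dot]
  simp only [ctr, dotProduct]
  apply Finset.sum_congr rfl
  intro j _
  ring

/-- FIN: pure linear algebra (tensor rank). -/
theorem fin_lin (C : Ctx a b F) (hab : a < b) (hb : 3 ≤ b) (s : Fin a × Fin b → F)
    (h : ∀ w₀ : Fin b → F, w₀ ≠ 0 → ctr (C.fl₂ w₀) s = 0 → s ∈ Bline (a := a) w₀) : s = 0 := by
  -- first vector `w₀`, perpendicular to all rows
  let L : (Fin b → F) →ₗ[F] (Fin a → F) :=
    { toFun := fun w => fun i => C.f₂ (fun j => s (i, j)) w
      map_add' := by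
        intro w w'
        funext i
        simp only [Pi.add_apply]
        exact C.hf₂.bilinear.add_right _ _ _
      map_smul' := by
        intro c w
        funext i
        simp only [Pi.smul_apply, smul_eq_mul, RingHom.id_apply]
        exact C.hf₂.bilinear.smul_right _ _ _ }
  obtain ⟨w₀, hw₀, hLw₀⟩ := tofin_ker hab L
  have hc₀ : ctr (C.fl₂ w₀) s = 0 := by
    funext i
    rw [tofin_ctr_eq]
    exact congrFun hLw₀ i
  obtain ⟨x₀, hx₀⟩ := (mem_Bline _ _).mp (h w₀ hw₀ hc₀)
  obtain ⟨j₀, hj₀⟩ : ∃ j, w₀ j ≠ 0 := by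
    by_contra h'
    push Not at h'
    exact hw₀ (funext h')
  -- second vector `w₁ ∈ w₀^⊥` with `w₁ j₀ = 0`
  let L' : (Fin b → F) →ₗ[F] (Fin 2 → F) :=
    { toFun := fun w => ![C.f₂ w₀ w, w j₀]
      map_add' := by
        intro w w'
        funext i
        fin_cases i
        · simp only [Pi.add_apply]
          exact C.hf₂.bilinear.add_right _ _ _
        · simp
      map_smul' := by
        intro c w
        funext i
        fin_cases i
        · simp only [Pi.smul_apply, smul_eq_mul, RingHom.id_apply]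
          exact C.hf₂.bilinear.smul_right _ _ _
        · simp }
  obtain ⟨w₁, hw₁, hLw₁⟩ := tofin_ker (show 2 < b by omega) L'
  have h1 : C.f₂ w₀ w₁ = 0 := by
    have := congrFun hLw₁ 0
    simpa [L'] using this
  have h2 : w₁ j₀ = 0 := by
    have := congrFun hLw₁ 1
    simpa [L'] using this
  have hc₁ : ctr (C.fl₂ w₁) s = 0 := by
    funext i
    rw [tofin_ctr_eq, hx₀]
    have : (fun j => ten x₀ w₀ (i, j)) = x₀ i • w₀ := by
      funext j
      simp [ten]
    rw [this, C.hf₂.bilinear.smul_left, h1, mul_zero]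
    rfl
  obtain ⟨x₁, hx₁⟩ := (mem_Bline _ _).mp (h w₁ hw₁ hc₁)
  have hx₀0 : x₀ = 0 := by
    funext i
    have e : ten x₀ w₀ (i, j₀) = ten x₁ w₁ (i, j₀) := by rw [← hx₀, ← hx₁]
    simp only [ten, h2, mul_zero] at e
    rcases mul_eq_zero.mp e with h' | h'
    · exact h'
    · exact absurd h' hj₀
  rw [hx₀, hx₀0, ten_zero_left]

end Cfsg.Agent.Lib.helper7.TO
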