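import Cfsg.Agent.Lib.helper15.TOSTABB
import Cfsg.Agent.Lib.helper15.SPXSYMPEVEN
import Cfsg.Agent.Lib.Helper28.Transport

/-!
# Project TO, piece STABA4 (second copy, by symmetry): `tostaba43_main` = the statement of
`stabA_of_ntsA`, obtained from `stabB_of_ntsB` applied to the context with the two factors swapped.
-/

set_option autoImplicit false
set_option linter.unusedSectionVars false

namespace Cfsg.Agent.Lib.helper7.TO

open Matrix Cfsg.Agent.Lib.helper7.TP Cfsg.Agent.Lib.Helper28.SympAbs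
open scoped Kronecker

variable {a b : ℕ} {F : Type*} [Field F]

/-- the swap of the two tensor factors on vectors. -/
def tostaba43_sw (v : Fin a × Fin b → F) : Fin b × Fin a → F := fun p => v (p.2, p.1)

theorem tostaba43_sw_sw (v : Fin a × Fin b → F) : tostaba43_sw (tostaba43_sw v) = v := rfl

theorem tostaba43_sw_add (v v' : Fin a × Fin b → F) :
    tostaba43_sw (v + v') = tostaba43_sw v + tostaba43_sw v' := rfl

theorem tostaba43_sw_smul (c : F) (v : Fin a × Fin b → F) :
    tostaba43_sw (c • v) = c • tostaba43_sw v := rfl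

theorem tostaba43_sw_ten (u : Fin a → F) (w : Fin b → F) :
    tostaba43_sw (ten u w) = ten w u := by
  funext p
  simp only [tostaba43_sw, ten]
  ring

theorem tostaba43_sw_inj {v v' : Fin a × Fin b → F} (h : tostaba43_sw v = tostaba43_sw v') :
    v = v' := by
  have := congrArg tostaba43_sw h
  rwa [tostaba43_sw_sw, tostaba43_sw_sw] at this

/-- the swap of the two tensor factors on `GL`. -/
noncomputable def tostaba43_Phi (a b : ℕ) (F : Type*) [Field F] :
    Matrix.GeneralLinearGroup (Fin a × Fin b) F ≃* Matrix.GeneralLinearGroup (Fin b × Fin a) F :=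
  Cfsg.Geo.glReindex (Equiv.prodComm (Fin a) (Fin b))

theorem tostaba43_Phi_apply (g : Matrix.GeneralLinearGroup (Fin a × Fin b) F)
    (p r : Fin b × Fin a) :
    ((tostaba43_Phi a b F g : Matrix.GeneralLinearGroup (Fin b × Fin a) F) :
      Matrix (Fin b × Fin a) (Fin b × Fin a) F) p r =
      (g : Matrix (Fin a × Fin b) (Fin a × Fin b) F) (p.2, p.1) (r.2, r.1) := rfl

theorem tostaba43_Phi_mulVec (g : Matrix.GeneralLinearGroup (Fin a × Fin b) F)
    (v : Fin a × Fin b → F) :
    ((tostaba43_Phi a b F g : Matrix.GeneralLinearGroup (Fin b × Fin a) F) :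
      Matrix (Fin b × Fin a) (Fin b × Fin a) F) *ᵥ tostaba43_sw v =
      tostaba43_sw ((g : Matrix (Fin a × Fin b) (Fin a × Fin b) F) *ᵥ v) := by
  funext p
  simp only [Matrix.mulVec, dotProduct, tostaba43_sw, tostaba43_Phi_apply]
  rw [Fintype.sum_prod_type, Fintype.sum_prod_type, Finset.sum_comm]

/-- a swapped Kronecker product. -/
theorem tostaba43_K0 (g : Matrix.GeneralLinearGroup (Fin a × Fin b) F)
    (h : tostaba43_Phi a b F g ∈ K0 b a F) : g ∈ K0 a b F := by
  obtain ⟨β, α, hg⟩ := (mem_K0 _).mp h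
  refine (mem_K0 _).mpr ⟨α, β, ?_⟩
  ext ⟨i, j⟩ ⟨k, l⟩
  have := congrFun (congrFun hg (j, i)) (l, k)
  rw [tostaba43_Phi_apply] at this
  simp only [Matrix.kroneckerMap_apply] at this ⊢
  rw [this, mul_comm]

theorem tostaba43_Phi_kA (α : Matrix.GeneralLinearGroup (Fin a) F) :
    tostaba43_Phi a b F (kA a b F α) = kB b a F α := by
  apply Units.ext
  ext ⟨j, i⟩ ⟨l, k⟩
  rw [tostaba43_Phi_apply, kA_coe, kB_coe]
  simp only [Matrix.kroneckerMap_apply, Matrix.one_apply]
  rw [mul_comm]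

theorem tostaba43_Phi_kB (β : Matrix.GeneralLinearGroup (Fin b) F) :
    tostaba43_Phi a b F (kB a b F β) = kA b a F β := by
  apply Units.ext
  ext ⟨j, i⟩ ⟨l, k⟩
  rw [tostaba43_Phi_apply, kA_coe, kB_coe]
  simp only [Matrix.kroneckerMap_apply, Matrix.one_apply]
  rw [mul_comm]

/-- the context with the two factors swapped. -/
def tostaba43_C (C : Ctx a b F) : Ctx b a F where
  f₁ := C.f₂
  f₂ := C.f₁
  f := fun x y => C.f (tostaba43_sw x) (tostaba43_sw y)
  q := fun x => C.q (tostaba43_sw x)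
  hf₁ := C.hf₂
  hf₂ := C.hf₁
  hf :=
    { add_left := fun x y v => by
        show C.f (tostaba43_sw (x + y)) _ = _
        rw [tostaba43_sw_add, C.hf.add_left]
      smul_left := fun c x v => by
        show C.f (tostaba43_sw (c • x)) _ = _
        rw [tostaba43_sw_smul, C.hf.smul_left]
      add_right := fun v x y => by
        show C.f _ (tostaba43_sw (x + y)) = _
        rw [tostaba43_sw_add, C.hf.add_right]
      smul_right := fun c v x => by
        show C.f _ (tostaba43_sw (c • x)) = _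
        rw [tostaba43_sw_smul, C.hf.smul_right] }
  f_ten := fun u w u' w' => by
    show C.f (tostaba43_sw (ten u w)) (tostaba43_sw (ten u' w')) = _
    rw [tostaba43_sw_ten, tostaba43_sw_ten, C.f_ten, mul_comm]
  q_smul := fun c x => by
    show C.q (tostaba43_sw (c • x)) = _
    rw [tostaba43_sw_smul, C.q_smul]
  q_add := fun x y => by
    show C.q (tostaba43_sw (x + y)) = _
    rw [tostaba43_sw_add, C.q_add]
  q_ten := fun u w => by
    show C.q (tostaba43_sw (ten u w)) = _
    rw [tostaba43_sw_ten, C.q_ten]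

theorem tostaba43_T1 (C : Ctx a b F)
    (M : Subgroup (Matrix.GeneralLinearGroup (Fin a × Fin b) F)) (hT : C.T1 ≤ M) :
    (tostaba43_C C).T1 ≤ M.map (tostaba43_Phi a b F).toMonoidHom := by
  unfold Ctx.T1
  rw [sup_le_iff]
  constructor
  · rintro _ ⟨β, hβ, rfl⟩
    refine ⟨kB a b F β, hT (C.kB_mem_T1 hβ), ?_⟩
    exact tostaba43_Phi_kB β
  · rintro _ ⟨α, hα, rfl⟩
    refine ⟨kA a b F α, hT (C.kA_mem_T1 hα), ?_⟩
    exact tostaba43_Phi_kA α

theorem tostaba43_G (C : Ctx a b F)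
    (M : Subgroup (Matrix.GeneralLinearGroup (Fin a × Fin b) F)) (hG : M ≤ C.G) :
    M.map (tostaba43_Phi a b F).toMonoidHom ≤ (tostaba43_C C).G := by
  rintro _ ⟨g, hg, rfl⟩
  rw [Ctx.mem_G]
  intro x
  show C.q (tostaba43_sw (((tostaba43_Phi a b F g : Matrix.GeneralLinearGroup (Fin b × Fin a) F) :
      Matrix (Fin b × Fin a) (Fin b × Fin a) F) *ᵥ x)) = C.q (tostaba43_sw x)
  have hx : x = tostaba43_sw (tostaba43_sw x) := rfl
  conv_lhs => rw [hx]
  rw [tostaba43_Phi_mulVec, tostaba43_sw_sw]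
  exact (C.mem_G g).mp (hG hg) _

theorem tostaba43_Nts (C : Ctx a b F)
    (M : Subgroup (Matrix.GeneralLinearGroup (Fin a × Fin b) F)) (hN : C.NtsA M) :
    (tostaba43_C C).NtsB (M.map (tostaba43_Phi a b F).toMonoidHom) := by
  rintro _ ⟨h, hh, rfl⟩ w hw hfix hsh
  have key : ∀ (x : Fin a → F) (y : Fin b → F),
      ((tostaba43_Phi a b F h : Matrix.GeneralLinearGroup (Fin b × Fin a) F) :
        Matrix (Fin b × Fin a) (Fin b × Fin a) F) *ᵥ ten y x =
        tostaba43_sw ((h : Matrix (Fin a × Fin b) (Fin a × Fin b) F) *ᵥ ten x y) := by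
    intro x y
    rw [← tostaba43_sw_ten x y, tostaba43_Phi_mulVec]
  obtain ⟨x₀, c₀, hx₀, hHA⟩ := hN h hh w hw
    (fun y => by
      apply tostaba43_sw_inj
      rw [← key, tostaba43_sw_ten]
      exact hfix y)
    (fun x hx y => by
      obtain ⟨y', hy'⟩ := hsh x hx y
      refine ⟨y', ?_⟩
      apply tostaba43_sw_inj
      rw [← key, tostaba43_sw_add, tostaba43_sw_ten, tostaba43_sw_ten]
      exact hy')
  refine ⟨x₀, c₀, hx₀, ?_⟩
  intro x y
  have := hHA y x
  show ((tostaba43_Phi a b F h : Matrix.GeneralLinearGroup (Fin b × Fin a) F) :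
      Matrix (Fin b × Fin a) (Fin b × Fin a) F) *ᵥ ten x y =
    ten x y + C.f₁ y x₀ • ten ((1 : Matrix (Fin b) (Fin b) F) *ᵥ x) w +
      C.f₁ y w • ten ((1 : Matrix (Fin b) (Fin b) F) *ᵥ x) x₀ +
      C.f₁ y w • ten ((c₀ • (1 : Matrix (Fin b) (Fin b) F)) *ᵥ x) w
  rw [key, this, tostaba43_sw_add, tostaba43_sw_add, tostaba43_sw_add, tostaba43_sw_smul,
    tostaba43_sw_smul, tostaba43_sw_smul, tostaba43_sw_ten, tostaba43_sw_ten, tostaba43_sw_ten,
    tostaba43_sw_ten]

theorem tostaba43_Stab (M : Subgroup (Matrix.GeneralLinearGroup (Fin a × Fin b) F))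
    (hS : StabB (M.map (tostaba43_Phi a b F).toMonoidHom)) : StabA M := by
  intro g hg u u' hu hu' hline
  apply tostaba43_K0
  refine hS (tostaba43_Phi a b F g) ⟨g, hg, rfl⟩ u u' hu hu' ?_
  intro x
  obtain ⟨y', hy'⟩ := hline x
  refine ⟨y', ?_⟩
  rw [← tostaba43_sw_ten u x, tostaba43_Phi_mulVec, hy', tostaba43_sw_ten]

/-- STABA4 (second copy): the exact statement of `stabA_of_ntsA`. -/
theorem tostaba43_main [Fintype F] (C : Ctx a b F) (ha : 3 ≤ a) (hb : 6 ≤ b)
    (M : Subgroup (Matrix.GeneralLinearGroup (Fin a × Fin b) F)) (hT : C.T1 ≤ M) (hG : M ≤ C.G)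
    (hN : C.NtsA M) : StabA M := by
  have hev : Even a := Cfsg.Agent.Lib.helper6.SPX.symp_even C.f₁ C.hf₁
  have ha4 : 4 ≤ a := by
    obtain ⟨k, hk⟩ := hev
    omega
  apply tostaba43_Stab
  exact stabB_of_ntsB (tostaba43_C C) (by omega) ha4 (by omega) _ (tostaba43_T1 C M hT)
    (tostaba43_G C M hG) (tostaba43_Nts C M hN)

end Cfsg.Agent.Lib.helper7.TO
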