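import Cfsg.Agent.Lib.helper3.TS2NT2
import Cfsg.Agent.Lib.helper17.TS2C1A2core
import Cfsg.Agent.Lib.Lead.TS2SQZ
import Cfsg.Agent.Lib.Helper25.TS2UFPAcore
import Cfsg.Agent.Lib.Lead.TS2UFPB
import Cfsg.Agent.Lib.Helper9.TS2PAPP
import Cfsg.Agent.Lib.helper15.TS2LINb
import Cfsg.Agent.Lib.helper15.TS2STABB2

/-!
# Project TS2, row NT2: the assembly with ONLY the statement of `c1A_two_B` left as a hypothesis

Everything else (`sqz_kron`, `ts2c1a2_core`, `ts2ufpa_core`, `stabB_two`, `ufpB_two`, `papp_two`, `lin_two`) is taken from the landed files.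
-/

set_option autoImplicit false
set_option linter.unusedSectionVars false
set_option linter.unusedVariables false

namespace Cfsg.Agent.Lib.Helper21.TS

open Matrix
open scoped Kronecker
open Cfsg.Agent.Lib.helper7.TP

variable {a b : ℕ} {F : Type*} [Field F]

variable {J1 : Matrix (Fin 2) (Fin 2) F} {J2 : Matrix (Fin b) (Fin b) F}
  {M : Subgroup (Matrix.GeneralLinearGroup (Fin 2 × Fin b) F)}

/-- `nt_two` with the statement of `c1A_two_B` (for the given `M`) as its only extra hypothesis. -/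
theorem ts2nt2_core2 [Fintype F] (C : Ctx J1 J2) (hb : 7 ≤ b) (hT0 : T0 J1 J2 ≤ M) (hMS : M ≤ SpV J1 J2)
    (hL : LamF J1 M) (hS : StabA M)
    (hB : ∀ {u : Fin 2 → F}, u ≠ 0 → ∀ {c : F}, c ≠ 0 →
      ∀ x : Matrix.GeneralLinearGroup (Fin 2 × Fin b) F,
      (x : Matrix (Fin 2 × Fin b) (Fin 2 × Fin b) F) = XAm J1 u (c • (1 : Matrix (Fin b) (Fin b) F)) →
      ∀ v : Matrix.GeneralLinearGroup (Fin 2 × Fin b) F, v ∈ M →
      ∀ N : Matrix (Fin b) (Fin b) F, N * N = 0 →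
      ((v * x * v⁻¹ : Matrix.GeneralLinearGroup (Fin 2 × Fin b) F) :
        Matrix (Fin 2 × Fin b) (Fin 2 × Fin b) F) = (1 : Matrix (Fin 2) (Fin 2) F) ⊗ₖ (1 + N) → False) :
    M ≤ T0 J1 J2 :=
  ts2nt2_core hMS hS
    (ts2ufpa_core hMS hS (fun {u} hu {c} hc x hx v hv ht =>
      ts2c1a2_core (fun t ht hsq => sqz_kron C.two (by norm_num) (by omega) t ht hsq) hB C (by omega)
        hu hc x hx v hv ht))
    (fun p _ _ ufA => stabB_two p C (by omega) hT0 hMS ufA) (ufpB_two C hb hT0 hMS)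
    (fun p _ _ ufA ufB g hg u hu w m hw hw0 hwm hm =>
      papp_two p C (by omega) hT0 hMS ufA ufB g hg hu hw hw0 hwm hm)
    (fun g hg u hu hP => lin_two C hb g hg hu hP)

end Cfsg.Agent.Lib.Helper21.TS
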