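import Cfsg.Agent.Lib.helper3.TS2NT2b
import Cfsg.Agent.Lib.Helper19.TS2C1A2B

/-!
# Project TS2, row NT2: `nt_two` (statement verbatim from `Helper27/TS2/Skel.lean.txt`)
-/

set_option autoImplicit false
set_option linter.unusedSectionVars false
set_option linter.unusedVariables false

namespace Cfsg.Agent.Lib.Helper21.TS

open Matrix
open scoped Kronecker
open Cfsg.Agent.Lib.helper7.TP

variable {a b : ℕ} {F : Type*} [Field F]

variable {J1 : Matrix (Fin 2) (Fin 2) F} {J2 : Matrix (Fin b) (Fin b) F}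
  {M : Subgroup (Matrix.GeneralLinearGroup (Fin 2 × Fin b) F)}

/-- NT2 [M]. the NT world for `a = 2`, `b ≥ 7`. -/
theorem nt_two [Fintype F] (C : Ctx J1 J2) (hb : 7 ≤ b) (hT0 : T0 J1 J2 ≤ M) (hMS : M ≤ SpV J1 J2)
    (hL : LamF J1 M) (hS : StabA M) : M ≤ T0 J1 J2 :=
  ts2nt2_core2 C hb hT0 hMS hL hS
    (fun {u} hu {c} hc x hx v hv N hN ht => c1A_two_B C hb hT0 hMS hL hu hc x hx v hv N hN ht)

end Cfsg.Agent.Lib.Helper21.TS
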