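import Mathlib

set_option autoImplicit false

/-!
# Generic tools for the stabiliser of a trio

* the permutation action of a subgroup on an indexed family that it preserves;
* relations on points and on families of sets that every permutation preserves;
* a permutation of the seven points of the Fano plane that preserves lines is linear.
-/

namespace Cfsg.Agent.Lib.helper3

open scoped Pointwise

section fam

variable {G X ι : Type*} [Group G] [MulAction G X] (H : Subgroup G) (f : ι → X)
  (hH : ∀ g ∈ H, ∀ i, ∃ j, g • f i = f j)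

/-- the index of the image of a member of the family -/
noncomputable def famIdx (g : ↥H) (i : ι) : ι := (hH g.1 g.2 i).choose

theorem famIdx_spec (g : ↥H) (i : ι) : g.1 • f i = f (famIdx H f hH g i) :=
  (hH g.1 g.2 i).choose_spec

variable (hf : Function.Injective f)

include hf in
theorem famIdx_mul (g h : ↥H) (i : ι) :
    famIdx H f hH (g * h) i = famIdx H f hH g (famIdx H f hH h i) := by
  apply hf
  rw [← famIdx_spec H f hH g, ← famIdx_spec H f hH h, ← famIdx_spec H f hH (g * h)]
  exact mul_smul g.1 h.1 (f i)

include hf in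
theorem famIdx_one (i : ι) : famIdx H f hH 1 i = i := by
  apply hf
  rw [← famIdx_spec H f hH 1]
  exact one_smul G (f i)

/-- the action on the indices as a homomorphism -/
noncomputable def famHom : ↥H →* Equiv.Perm ι where
  toFun g :=
    { toFun := famIdx H f hH g
      invFun := famIdx H f hH g⁻¹
      left_inv := fun i => by rw [← famIdx_mul H f hH hf, inv_mul_cancel, famIdx_one H f hH hf]
      right_inv := fun i => by rw [← famIdx_mul H f hH hf, mul_inv_cancel, famIdx_one H f hH hf] }
  map_one' := by
    apply Equiv.ext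
    intro i
    exact famIdx_one H f hH hf i
  map_mul' g h := by
    apply Equiv.ext
    intro i
    exact famIdx_mul H f hH hf g h i

theorem famHom_spec (g : ↥H) (i : ι) : g.1 • f i = f (famHom H f hH hf g i) :=
  famIdx_spec H f hH g i

end fam

section rel

variable {α : Type*} [DecidableEq α]

/-- two points lie in a common member of the family -/
def sameRel (F : Finset (Finset α)) (x y : α) : Prop := ∃ t ∈ F, x ∈ t ∧ y ∈ t

theorem sameRel_smul_of {F : Finset (Finset α)} {g : Equiv.Perm α} (hg : g • F = F) {x y : α}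
    (h : sameRel F x y) : sameRel F (g x) (g y) := by
  obtain ⟨t, ht, hx, hy⟩ := h
  refine ⟨g • t, ?_, ?_, ?_⟩
  · rw [← hg]
    exact Finset.smul_mem_smul_finset ht
  · exact Finset.smul_mem_smul_finset (a := g) hx
  · exact Finset.smul_mem_smul_finset (a := g) hy

theorem sameRel_smul_iff {F : Finset (Finset α)} {g : Equiv.Perm α} (hg : g • F = F) (x y : α) :
    sameRel F (g x) (g y) ↔ sameRel F x y := by
  constructor
  · intro h
    have hg' : g⁻¹ • F = F := by
      rw [inv_smul_eq_iff, hg]
    have := sameRel_smul_of hg' h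
    simpa using this
  · exact sameRel_smul_of hg

/-- the sum relation on families of sets -/
def sumRel (A B C : Finset (Finset α)) : Prop :=
  ∃ t ∈ A, ∃ u ∈ B, (t ∩ u).card = 2 ∧ symmDiff t u ∈ C

theorem sumRel_smul (g : Equiv.Perm α) {A B C : Finset (Finset α)} (h : sumRel A B C) :
    sumRel (g • A) (g • B) (g • C) := by
  obtain ⟨t, ht, u, hu, h2, h3⟩ := h
  refine ⟨g • t, Finset.smul_mem_smul_finset ht, g • u, Finset.smul_mem_smul_finset hu, ?_, ?_⟩
  · rw [← Finset.smul_finset_inter, Finset.card_smul_finset, h2]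
  · have : symmDiff (g • t) (g • u) = g • symmDiff t u := by
      rw [Finset.smul_finset_def, Finset.smul_finset_def, Finset.smul_finset_def,
        Finset.image_symmDiff _ _ (MulAction.injective g)]
    rw [this]
    exact Finset.smul_mem_smul_finset h3

end rel

section fano

/-- the vector attached to one of the seven points -/
def fanoVec (k : Fin 7) : Fin 3 → ZMod 2 := fun i => if (k.val + 1).testBit i.val then 1 else 0

theorem fanoVec_injective : Function.Injective fanoVec := by decide

theorem fanoVec_add_iff : ∀ a b c : Fin 7,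
    fanoVec c = fanoVec a + fanoVec b ↔ c.val + 1 = (a.val + 1) ^^^ (b.val + 1) := by decide

/-- the map preserves the lines -/
def IsFanoColl (π : Fin 7 → Fin 7) : Prop :=
  ∀ a b c : Fin 7, a ≠ b → fanoVec c = fanoVec a + fanoVec b →
    fanoVec (π c) = fanoVec (π a) + fanoVec (π b)

/-- the three points carrying the standard basis -/
def fanoBase : Fin 3 → Fin 7 := ![0, 1, 3]

/-- the matrix of a map preserving the lines -/
def fanoMat (π : Fin 7 → Fin 7) : Matrix (Fin 3) (Fin 3) (ZMod 2) :=
  Matrix.of fun i j => fanoVec (π (fanoBase j)) i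

theorem fanoMat_mulVec_apply (π : Fin 7 → Fin 7) (v : Fin 3 → ZMod 2) (i : Fin 3) :
    (fanoMat π).mulVec v i =
      fanoVec (π 0) i * v 0 + fanoVec (π 1) i * v 1 + fanoVec (π 3) i * v 2 := by
  simp [fanoMat, Matrix.mulVec, dotProduct, Fin.sum_univ_three, fanoBase]

theorem fanoMat_mulVec {π : Fin 7 → Fin 7} (hπ : IsFanoColl π) (k : Fin 7) :
    (fanoMat π).mulVec (fanoVec k) = fanoVec (π k) := by
  have r2 := hπ 0 1 2 (by decide) (by decide)
  have r4 := hπ 0 3 4 (by decide) (by decide)
  have r5 := hπ 1 3 5 (by decide) (by decide)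
  have r6 := hπ 2 3 6 (by decide) (by decide)
  have v0 : fanoVec 0 = ![1, 0, 0] := by decide
  have v1 : fanoVec 1 = ![0, 1, 0] := by decide
  have v2 : fanoVec 2 = ![1, 1, 0] := by decide
  have v3 : fanoVec 3 = ![0, 0, 1] := by decide
  have v4 : fanoVec 4 = ![1, 0, 1] := by decide
  have v5 : fanoVec 5 = ![0, 1, 1] := by decide
  have v6 : fanoVec 6 = ![1, 1, 1] := by decide
  have h0 : (fanoMat π).mulVec (fanoVec 0) = fanoVec (π 0) := by
    funext i
    rw [fanoMat_mulVec_apply, v0]; simp
  have h1 : (fanoMat π).mulVec (fanoVec 1) = fanoVec (π 1) := by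
    funext i
    rw [fanoMat_mulVec_apply, v1]; simp
  have h2 : (fanoMat π).mulVec (fanoVec 2) = fanoVec (π 2) := by
    funext i
    rw [fanoMat_mulVec_apply, v2, r2]; simp
  have h3 : (fanoMat π).mulVec (fanoVec 3) = fanoVec (π 3) := by
    funext i
    rw [fanoMat_mulVec_apply, v3]; simp
  have h4 : (fanoMat π).mulVec (fanoVec 4) = fanoVec (π 4) := by
    funext i
    rw [fanoMat_mulVec_apply, v4, r4]; simp
  have h5 : (fanoMat π).mulVec (fanoVec 5) = fanoVec (π 5) := by
    funext i
    rw [fanoMat_mulVec_apply, v5, r5]; simp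
  have h6 : (fanoMat π).mulVec (fanoVec 6) = fanoVec (π 6) := by
    funext i
    rw [fanoMat_mulVec_apply, v6, r6, r2]; simp
  fin_cases k
  · exact h0
  · exact h1
  · exact h2
  · exact h3
  · exact h4
  · exact h5
  · exact h6

theorem fanoMat_comp {π σ : Fin 7 → Fin 7} (hπ : IsFanoColl π) :
    fanoMat (π ∘ σ) = fanoMat π * fanoMat σ := by
  ext i j
  have h := congrFun (fanoMat_mulVec hπ (σ (fanoBase j))) i
  rw [Matrix.mul_apply]
  rw [Matrix.mulVec, dotProduct] at h
  exact h.symm

theorem fanoMat_id : fanoMat id = 1 := by decide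

theorem eq_id_of_fanoMat_eq_one {π : Fin 7 → Fin 7} (hπ : IsFanoColl π) (h : fanoMat π = 1)
    (k : Fin 7) : π k = k := by
  apply fanoVec_injective
  rw [← fanoMat_mulVec hπ, h, Matrix.one_mulVec]

end fano

end Cfsg.Agent.Lib.helper3
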