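import Mathlib
import Cfsg.Agent.Lib.helper4.TrioStabOrbitsB
import Cfsg.Agent.Lib.helper3.TrioGen
import Cfsg.Agent.S1554

set_option autoImplicit false

/-!
# The seven sextets refining the standard trio
-/

namespace Cfsg.Agent.Lib.helper3

open Cfsg Cfsg.Agent.Lib.Helper12.Golay
open scoped Pointwise

/-- the three octads of the standard trio, as bitmasks -/
def trioO : Fin 3 → ℕ := ![5279, 1256224, 15515712]

/-- the tetrads of the seven sextets refining the standard trio, as bitmasks -/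
def trioTet : Fin 7 → Fin 6 → ℕ :=
  ![![30, 5249, 10528, 1245696, 6832128, 8683584],
    ![135, 5144, 140032, 1116192, 4505600, 11010112],
    ![153, 5126, 133664, 1122560, 2916352, 12599360],
    ![1037, 4242, 74272, 1181952, 2146368, 13369344],
    ![1043, 4236, 68352, 1187872, 4751424, 10764288],
    ![1162, 4117, 196896, 1059328, 6553664, 8962048],
    ![1172, 4107, 206848, 1049376, 802880, 14712832]]

/-- the octad containing a tetrad -/
def octIdx (j : Fin 6) : Fin 3 := ⟨j.val / 2, by omega⟩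

theorem trioO_lt : ∀ i, trioO i < 2 ^ 24 := by decide

theorem trioTet_lt : ∀ k j, trioTet k j < 2 ^ 24 := by decide

theorem trioTet_inj : ∀ k j k' j', trioTet k j = trioTet k' j' → k = k' ∧ j = j' := by
  decide +kernel

set_option maxRecDepth 100000 in
theorem trioTet_complete : ∀ u : Fin 4096, Helper12.Golay.popc (enc u) = 8 → ∀ i i' : Fin 3, i ≠ i' →
    Helper12.Golay.popc (enc u &&& trioO i) = 4 → Helper12.Golay.popc (enc u &&& trioO i') = 4 →
      ∃ k j, trioTet k j = enc u &&& trioO i := by decide +kernel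

theorem trioTet_mem : ∀ k j, isCode (trioTet k j ||| trioTet k (j + 2)) = true ∧
    Helper12.Golay.popc (trioTet k j ||| trioTet k (j + 2)) = 8 ∧
    (trioTet k j ||| trioTet k (j + 2)) &&& trioO (octIdx j) = trioTet k j ∧
    Helper12.Golay.popc ((trioTet k j ||| trioTet k (j + 2)) &&& trioO (octIdx (j + 2))) = 4 ∧
    octIdx j ≠ octIdx (j + 2) := by decide +kernel

set_option maxRecDepth 100000 in
theorem trioTet_rel : ∀ k j k' j', (isCode (trioTet k j ||| trioTet k' j') = true ∧
    Helper12.Golay.popc (trioTet k j ||| trioTet k' j') = 8) ↔ (k = k' ∧ j ≠ j') := by decide +kernel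

/-- two points lie in a common tetrad of a sextet, on indices -/
def sameB (k : Fin 7) (a c : ℕ) : Bool :=
  decide (∃ j : Fin 6, (trioTet k j).testBit a = true ∧ (trioTet k j).testBit c = true)

set_option maxRecDepth 100000 in
theorem sameB_sep : ∀ i : Fin 3, ∀ a b c : Fin 24, (trioO i).testBit a = true →
    (trioO i).testBit b = true → (trioO i).testBit c = true →
    (∀ k : Fin 7, sameB k a c = sameB k b c) → a = b := by decide +kernel

set_option maxRecDepth 100000 in
theorem trioTet_sum : ∀ a b c : Fin 7,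
    (∃ i j l : Fin 6, Helper12.Golay.popc (trioTet a i &&& trioTet b j) = 2 ∧
      trioTet a i ^^^ trioTet b j = trioTet c l) ↔
    (a ≠ b ∧ c.val + 1 = (a.val + 1) ^^^ (b.val + 1)) := by decide +kernel

theorem trioTet_popc : ∀ k j, Helper12.Golay.popc (trioTet k j) = 4 := by decide +kernel

theorem trioO_cover : ∀ a : Fin 24, ∃ i, (trioO i).testBit a = true := by decide

/-! ### the objects as sets -/

/-- the octads of the standard trio -/
def trioOct (i : Fin 3) : Finset GolayPt := fs (trioO i)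

/-- the seven sextets -/
def trioSx (k : Fin 7) : Finset (Finset GolayPt) := Finset.univ.image (fun j => fs (trioTet k j))

theorem T₀_eq : T₀ = {trioOct 0, trioOct 1, trioOct 2} := rfl

theorem mem_T₀_iff (o : Finset GolayPt) : o ∈ T₀ ↔ ∃ i, o = trioOct i := by
  rw [T₀_eq]
  simp only [Finset.mem_insert, Finset.mem_singleton]
  constructor
  · rintro (h | h | h)
    · exact ⟨0, h⟩
    · exact ⟨1, h⟩
    · exact ⟨2, h⟩
  · rintro ⟨i, rfl⟩
    fin_cases i
    · exact Or.inl rfl
    · exact Or.inr (Or.inl rfl)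
    · exact Or.inr (Or.inr rfl)

theorem trioOct_injective : Function.Injective trioOct := by
  intro i i' h
  have := fs_inj (trioO_lt i) (trioO_lt i') h
  revert this
  revert i i'
  decide

theorem mem_trioSx (k : Fin 7) (t : Finset GolayPt) : t ∈ trioSx k ↔ ∃ j, t = fs (trioTet k j) := by
  unfold trioSx
  simp only [Finset.mem_image, Finset.mem_univ, true_and]
  constructor
  · rintro ⟨j, rfl⟩
    exact ⟨j, rfl⟩
  · rintro ⟨j, rfl⟩
    exact ⟨j, rfl⟩

theorem fs_trioTet_inj {k k' : Fin 7} {j j' : Fin 6} (h : fs (trioTet k j) = fs (trioTet k' j')) :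
    k = k' ∧ j = j' :=
  trioTet_inj k j k' j' (fs_inj (trioTet_lt k j) (trioTet_lt k' j') h)

theorem card_trioSx (k : Fin 7) : (trioSx k).card = 6 := by
  unfold trioSx
  rw [Finset.card_image_of_injective]
  · rfl
  · intro j j' h
    exact (fs_trioTet_inj h).2

theorem trioSx_injective : Function.Injective trioSx := by
  intro k k' h
  have h1 : fs (trioTet k 0) ∈ trioSx k' := by
    rw [← h, mem_trioSx]
    exact ⟨0, rfl⟩
  rw [mem_trioSx] at h1
  obtain ⟨j, hj⟩ := h1
  exact (fs_trioTet_inj hj).1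

/-- the tetrads cut out of an octad of the trio by an octad meeting two of them in four points -/
def IsTrioTet (t : Finset GolayPt) : Prop :=
  ∃ o ∈ Cfsg.octads, ∃ O ∈ T₀, ∃ O' ∈ T₀, O ≠ O' ∧ t = o ∩ O ∧ (o ∩ O).card = 4 ∧ (o ∩ O').card = 4

theorem isTrioTet_smul {σ : Equiv.Perm GolayPt} (hσ : σ ∈ M24) (hT : σ • T₀ = T₀)
    {t : Finset GolayPt} (ht : IsTrioTet t) : IsTrioTet (σ • t) := by
  obtain ⟨o, ho, O, hO, O', hO', hne, rfl, h1, h2⟩ := ht
  refine ⟨σ • o, smul_mem_octads hσ ho, σ • O, ?_, σ • O', ?_, ?_, ?_, ?_, ?_⟩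
  · rw [← hT]
    exact Finset.smul_mem_smul_finset hO
  · rw [← hT]
    exact Finset.smul_mem_smul_finset hO'
  · intro h
    exact hne (MulAction.injective σ h)
  · rw [Finset.smul_finset_inter]
  · rw [← Finset.smul_finset_inter, Finset.card_smul_finset, h1]
  · rw [← Finset.smul_finset_inter, Finset.card_smul_finset, h2]

theorem isTrioTet_complete {t : Finset GolayPt} (ht : IsTrioTet t) :
    ∃ k j, t = fs (trioTet k j) := by
  obtain ⟨o, ho, O, hO, O', hO', hne, rfl, h1, h2⟩ := ht
  have ho' : o ∈ Cfsg.octads := ho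
  rw [Helper12.Golay.mem_octads_iff, isCode_iff] at ho'
  obtain ⟨⟨u, hu, hu2⟩, hpop⟩ := ho'
  rw [mem_T₀_iff] at hO hO'
  obtain ⟨i, rfl⟩ := hO
  obtain ⟨i', rfl⟩ := hO'
  have hii : i ≠ i' := fun h => hne (by rw [h])
  have ho2 : o = fs (enc u) := by rw [hu2, fs_mask]
  rw [ho2] at h1 h2 ⊢
  unfold trioOct at h1 h2 ⊢
  rw [← fs_and, card_fs] at h1 h2
  rw [← fs_and]
  rw [← hu2] at hpop
  obtain ⟨k, j, hkj⟩ := trioTet_complete ⟨u, hu⟩ hpop i i' hii h1 h2
  exact ⟨k, j, by rw [hkj]⟩

theorem isTrioTet_tet (k : Fin 7) (j : Fin 6) : IsTrioTet (fs (trioTet k j)) := by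
  obtain ⟨h1, h2, h3, h4, h5⟩ := trioTet_mem k j
  have hlt : trioTet k j ||| trioTet k (j + 2) < 2 ^ 24 :=
    Nat.or_lt_two_pow (trioTet_lt k j) (trioTet_lt k (j + 2))
  refine ⟨fs (trioTet k j ||| trioTet k (j + 2)), (fs_mem_octads_iff hlt).mpr ⟨h1, h2⟩,
    trioOct (octIdx j), (mem_T₀_iff _).mpr ⟨_, rfl⟩, trioOct (octIdx (j + 2)),
    (mem_T₀_iff _).mpr ⟨_, rfl⟩, fun h => h5 (trioOct_injective h), ?_, ?_, ?_⟩
  · unfold trioOct
    rw [← fs_and, h3]
  · unfold trioOct
    rw [← fs_and, h3, card_fs]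
    exact trioTet_popc k j
  · unfold trioOct
    rw [← fs_and, card_fs, h4]

end Cfsg.Agent.Lib.helper3
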