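import Mathlib
import Cfsg.Agent.Lib.helper3.TrioSx

set_option autoImplicit false

/-!
# The action of the stabiliser of the standard trio on its octads and sextets
-/

namespace Cfsg.Agent.Lib.helper3

open Cfsg Cfsg.Agent.Lib.Helper12.Golay
open scoped Pointwise

theorem tet_union_octad_iff (k k' : Fin 7) (j j' : Fin 6) :
    fs (trioTet k j) ∪ fs (trioTet k' j') ∈ Cfsg.octads ↔ (k = k' ∧ j ≠ j') := by
  rw [← fs_or, fs_mem_octads_iff (Nat.or_lt_two_pow (trioTet_lt k j) (trioTet_lt k' j'))]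
  exact trioTet_rel k j k' j'

/-- the image of one of the seven sextets is one of the seven sextets -/
theorem trioSx_smul {σ : Equiv.Perm GolayPt} (hσ : σ ∈ M24) (hT : σ • T₀ = T₀) (k : Fin 7) :
    ∃ k', σ • trioSx k = trioSx k' := by
  obtain ⟨k', j0, h0⟩ := isTrioTet_complete (isTrioTet_smul hσ hT (isTrioTet_tet k 0))
  refine ⟨k', ?_⟩
  apply Finset.eq_of_subset_of_card_le
  · intro t ht
    obtain ⟨t', ht', rfl⟩ := Finset.mem_smul_finset.mp ht
    rw [mem_trioSx] at ht'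
    obtain ⟨j, rfl⟩ := ht'
    rw [mem_trioSx]
    by_cases hj : j = 0
    · subst hj
      exact ⟨j0, h0⟩
    · obtain ⟨k'', j'', h1⟩ := isTrioTet_complete (isTrioTet_smul hσ hT (isTrioTet_tet k j))
      have h2 : fs (trioTet k 0) ∪ fs (trioTet k j) ∈ Cfsg.octads :=
        (tet_union_octad_iff k k 0 j).mpr ⟨rfl, fun h => hj h.symm⟩
      have h3 := smul_mem_octads hσ h2
      rw [Finset.smul_finset_union] at h3
      have h0' : σ • fs (trioTet k 0) = fs (trioTet k' j0) := h0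
      have h1' : σ • fs (trioTet k j) = fs (trioTet k'' j'') := h1
      rw [h0', h1'] at h3
      have h4 := (tet_union_octad_iff k' k'' j0 j'').mp h3
      refine ⟨j'', ?_⟩
      rw [h4.1]
      exact h1
  · rw [Finset.card_smul_finset, card_trioSx, card_trioSx]

/-- the image of an octad of the trio is an octad of the trio -/
theorem trioOct_smul {σ : Equiv.Perm GolayPt} (hT : σ • T₀ = T₀) (i : Fin 3) :
    ∃ i', σ • trioOct i = trioOct i' := by
  have h : σ • trioOct i ∈ σ • T₀ :=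
    Finset.smul_mem_smul_finset ((mem_T₀_iff _).mpr ⟨i, rfl⟩)
  rw [hT, mem_T₀_iff] at h
  exact h

/-! ### the two relations, on the data -/

theorem sameRel_trioSx_iff (k : Fin 7) (x y : GolayPt) :
    sameRel (trioSx k) x y ↔ sameB k (idx x) (idx y) = true := by
  unfold sameRel sameB
  rw [decide_eq_true_iff]
  constructor
  · rintro ⟨t, ht, hx, hy⟩
    rw [mem_trioSx] at ht
    obtain ⟨j, rfl⟩ := ht
    exact ⟨j, mem_fs.mp hx, mem_fs.mp hy⟩
  · rintro ⟨j, hx, hy⟩
    exact ⟨fs (trioTet k j), (mem_trioSx k _).mpr ⟨j, rfl⟩, mem_fs.mpr hx, mem_fs.mpr hy⟩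

/-- the sextets separate the points of each octad of the trio -/
theorem trioSx_sep {i : Fin 3} {a b c : GolayPt} (ha : a ∈ trioOct i) (hb : b ∈ trioOct i)
    (hc : c ∈ trioOct i)
    (h : ∀ k, sameRel (trioSx k) a c ↔ sameRel (trioSx k) b c) : a = b := by
  have key := sameB_sep i ⟨idx a, idx_lt a⟩ ⟨idx b, idx_lt b⟩ ⟨idx c, idx_lt c⟩
    (mem_fs.mp ha) (mem_fs.mp hb) (mem_fs.mp hc) (by
      intro k
      have := h k
      rw [sameRel_trioSx_iff, sameRel_trioSx_iff] at this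
      exact Bool.eq_iff_iff.mpr this)
  have h2 : idx a = idx b := congrArg Fin.val key
  exact idx_injective h2

theorem trioOct_cover (p : GolayPt) : ∃ i, p ∈ trioOct i := by
  obtain ⟨i, hi⟩ := trioO_cover ⟨idx p, idx_lt p⟩
  exact ⟨i, mem_fs.mpr hi⟩

theorem sumRel_trioSx_iff (a b c : Fin 7) :
    sumRel (trioSx a) (trioSx b) (trioSx c) ↔
      (a ≠ b ∧ c.val + 1 = (a.val + 1) ^^^ (b.val + 1)) := by
  rw [← trioTet_sum]
  unfold sumRel
  constructor
  · rintro ⟨t, ht, u, hu, h1, h2⟩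
    rw [mem_trioSx] at ht hu h2
    obtain ⟨i, rfl⟩ := ht
    obtain ⟨j, rfl⟩ := hu
    obtain ⟨l, hl⟩ := h2
    refine ⟨i, j, l, ?_, ?_⟩
    · rw [← fs_and, card_fs] at h1
      exact h1
    · rw [← fs_xor] at hl
      exact fs_inj (Nat.xor_lt_two_pow (trioTet_lt a i) (trioTet_lt b j)) (trioTet_lt c l) hl
  · rintro ⟨i, j, l, h1, h2⟩
    refine ⟨fs (trioTet a i), (mem_trioSx a _).mpr ⟨i, rfl⟩, fs (trioTet b j),
      (mem_trioSx b _).mpr ⟨j, rfl⟩, ?_, ?_⟩
    · rw [← fs_and, card_fs]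
      exact h1
    · rw [← fs_xor, h2]
      exact (mem_trioSx c _).mpr ⟨l, rfl⟩

end Cfsg.Agent.Lib.helper3
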