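import Mathlib
import Cfsg.Agent.Lib.helper3.TrioAct

set_option autoImplicit false

/-!
# The structure of the stabiliser of the standard trio
-/

namespace Cfsg.Agent.Lib.helper3

open Cfsg MulAction Cfsg.Agent.Lib.Helper12.Golay
open scoped Pointwise

/-- the stabiliser of the standard trio -/
abbrev trioS : Subgroup ↥M24 := stabilizer ↥M24 T₀

theorem trioS_fix (g : ↥M24) (hg : g ∈ trioS) : (g : Equiv.Perm GolayPt) • T₀ = T₀ := hg

theorem trioS_oct (g : ↥M24) (hg : g ∈ trioS) (i : Fin 3) : ∃ i', g • trioOct i = trioOct i' :=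
  trioOct_smul (trioS_fix g hg) i

theorem trioS_sx (g : ↥M24) (hg : g ∈ trioS) (k : Fin 7) : ∃ k', g • trioSx k = trioSx k' :=
  trioSx_smul g.2 (trioS_fix g hg) k

/-- the action on the three octads -/
noncomputable def trioRho3 : ↥trioS →* Equiv.Perm (Fin 3) :=
  famHom trioS trioOct trioS_oct trioOct_injective

/-- the action on the seven sextets -/
noncomputable def trioRho7 : ↥trioS →* Equiv.Perm (Fin 7) :=
  famHom trioS trioSx trioS_sx trioSx_injective

theorem trioRho3_spec (g : ↥trioS) (i : Fin 3) :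
    (g.1 : Equiv.Perm GolayPt) • trioOct i = trioOct (trioRho3 g i) :=
  famHom_spec trioS trioOct trioS_oct trioOct_injective g i

theorem trioRho7_spec (g : ↥trioS) (k : Fin 7) :
    (g.1 : Equiv.Perm GolayPt) • trioSx k = trioSx (trioRho7 g k) :=
  famHom_spec trioS trioSx trioS_sx trioSx_injective g k

theorem trioRho7_coll (g : ↥trioS) : IsFanoColl (trioRho7 g) := by
  intro a b c hab h
  rw [fanoVec_add_iff] at h ⊢
  have h1 := (sumRel_trioSx_iff a b c).mpr ⟨hab, h⟩
  have h2 := sumRel_smul (g.1 : Equiv.Perm GolayPt) h1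
  rw [trioRho7_spec, trioRho7_spec, trioRho7_spec] at h2
  exact ((sumRel_trioSx_iff _ _ _).mp h2).2

/-- the matrix of the action on the seven sextets -/
noncomputable def trioMat : ↥trioS →* Matrix (Fin 3) (Fin 3) (ZMod 2) where
  toFun g := fanoMat (trioRho7 g)
  map_one' := by
    have : (⇑(trioRho7 1) : Fin 7 → Fin 7) = id := by
      rw [map_one]
      rfl
    rw [this]
    exact fanoMat_id
  map_mul' g h := by
    have : (⇑(trioRho7 (g * h)) : Fin 7 → Fin 7) = ⇑(trioRho7 g) ∘ ⇑(trioRho7 h) := by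
      rw [map_mul]
      rfl
    rw [this]
    exact fanoMat_comp (trioRho7_coll g)

/-- the action on the seven sextets as a linear group -/
noncomputable def trioPhi : ↥trioS →* GL (Fin 3) (ZMod 2) := trioMat.toHomUnits

/-- the combined homomorphism -/
noncomputable def trioPsi : ↥trioS →* GL (Fin 3) (ZMod 2) × Equiv.Perm (Fin 3) :=
  trioPhi.prod trioRho3

theorem trioPhi_coe (g : ↥trioS) :
    ((trioPhi g : GL (Fin 3) (ZMod 2)) : Matrix (Fin 3) (Fin 3) (ZMod 2)) =
      fanoMat (trioRho7 g) := rfl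

theorem mem_ker_trioPsi (g : ↥trioS) :
    g ∈ trioPsi.ker ↔ (∀ k, trioRho7 g k = k) ∧ ∀ i, trioRho3 g i = i := by
  rw [MonoidHom.mem_ker]
  unfold trioPsi
  rw [MonoidHom.prod_apply, Prod.mk_eq_one]
  constructor
  · rintro ⟨h1, h2⟩
    constructor
    · intro k
      have h3 : fanoMat (trioRho7 g) = 1 := by
        have := congrArg (fun u : GL (Fin 3) (ZMod 2) => (u : Matrix (Fin 3) (Fin 3) (ZMod 2))) h1
        simp only [trioPhi_coe] at this
        exact this
      exact eq_id_of_fanoMat_eq_one (trioRho7_coll g) h3 k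
    · intro i
      rw [h2]
      rfl
  · rintro ⟨h1, h2⟩
    constructor
    · apply Units.ext
      rw [trioPhi_coe]
      have : (trioRho7 g : Fin 7 → Fin 7) = id := funext h1
      rw [this]
      exact fanoMat_id
    · exact Equiv.ext h2

/-! ### the elements fixing every octad and every sextet -/

section kernel

variable {σ : Equiv.Perm GolayPt} (hO : ∀ i, σ • trioOct i = trioOct i)
  (hS : ∀ k, σ • trioSx k = trioSx k)

include hO in
theorem trioKer_mem {i : Fin 3} {x : GolayPt} (hx : x ∈ trioOct i) : σ x ∈ trioOct i := by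
  have := Finset.smul_mem_smul_finset (a := σ) hx
  rw [hO i] at this
  exact this

theorem sameRel_comm {α : Type*} (F : Finset (Finset α)) (x y : α) :
    sameRel F x y ↔ sameRel F y x := by
  constructor <;> rintro ⟨t, ht, h1, h2⟩ <;> exact ⟨t, ht, h2, h1⟩

include hO hS in
theorem trioKer_invol (x : GolayPt) : σ (σ x) = x := by
  obtain ⟨i, hx⟩ := trioOct_cover x
  have h1 := trioKer_mem hO hx
  have h2 := trioKer_mem hO h1
  apply trioSx_sep h2 hx h1
  intro k
  rw [sameRel_smul_iff (hS k), sameRel_comm]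

include hO hS in
theorem trioKer_fix {i : Fin 3} {x0 : GolayPt} (hx0 : x0 ∈ trioOct i) (h0 : σ x0 = x0)
    {x : GolayPt} (hx : x ∈ trioOct i) : σ x = x := by
  apply trioSx_sep (trioKer_mem hO hx) hx hx0
  intro k
  have := sameRel_smul_iff (hS k) x x0
  rw [h0] at this
  exact this

end kernel

theorem trioOct_mem_octads (i : Fin 3) : trioOct i ∈ Cfsg.octads :=
  T₀_mem.2.1 _ ((mem_T₀_iff _).mpr ⟨i, rfl⟩)

theorem ker_trioPsi_fix (g : ↥trioS) (hg : g ∈ trioPsi.ker) :
    (∀ i, (g.1 : Equiv.Perm GolayPt) • trioOct i = trioOct i) ∧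
      ∀ k, (g.1 : Equiv.Perm GolayPt) • trioSx k = trioSx k := by
  rw [mem_ker_trioPsi] at hg
  constructor
  · intro i
    rw [trioRho3_spec, hg.2]
  · intro k
    rw [trioRho7_spec, hg.1]

theorem ker_trioPsi_sq (g : ↥trioS) (hg : g ∈ trioPsi.ker) : g * g = 1 := by
  obtain ⟨hO, hS⟩ := ker_trioPsi_fix g hg
  apply Subtype.ext
  apply Subtype.ext
  apply Equiv.ext
  intro x
  exact trioKer_invol hO hS x

theorem pt0_mem : pt 0 ∈ trioOct 0 := by
  unfold trioOct
  rw [mem_fs]
  decide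

theorem pt5_mem : pt 5 ∈ trioOct 1 := by
  unfold trioOct
  rw [mem_fs]
  decide

theorem pt5_notMem : pt 5 ∉ trioOct 0 := by
  unfold trioOct
  rw [mem_fs]
  decide

theorem card_trioOct (i : Fin 3) : (trioOct i).card = 8 := (trioOct_mem_octads i).2

theorem card_ker_trioPsi_le : Nat.card ↥trioPsi.ker ≤ 64 := by
  let F : ↥trioPsi.ker → ↥(trioOct 0) × ↥(trioOct 1) := fun g =>
    (⟨(g.1.1 : Equiv.Perm GolayPt) (pt 0),
        trioKer_mem (ker_trioPsi_fix g.1 g.2).1 pt0_mem⟩,
      ⟨(g.1.1 : Equiv.Perm GolayPt) (pt 5),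
        trioKer_mem (ker_trioPsi_fix g.1 g.2).1 pt5_mem⟩)
  have hF : Function.Injective F := by
    intro g h hgh
    have e0 : (g.1.1 : Equiv.Perm GolayPt) (pt 0) = (h.1.1 : Equiv.Perm GolayPt) (pt 0) :=
      congrArg (fun z : ↥(trioOct 0) × ↥(trioOct 1) => (z.1 : GolayPt)) hgh
    have e1 : (g.1.1 : Equiv.Perm GolayPt) (pt 5) = (h.1.1 : Equiv.Perm GolayPt) (pt 5) :=
      congrArg (fun z : ↥(trioOct 0) × ↥(trioOct 1) => (z.2 : GolayPt)) hgh
    obtain ⟨hO, hS⟩ := ker_trioPsi_fix (h⁻¹ * g).1 (h⁻¹ * g).2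
    have hval : (((h⁻¹ * g : ↥trioPsi.ker).1.1 : ↥M24) : Equiv.Perm GolayPt) =
        (h.1.1 : Equiv.Perm GolayPt)⁻¹ * (g.1.1 : Equiv.Perm GolayPt) := rfl
    have f0 : (((h⁻¹ * g : ↥trioPsi.ker).1.1 : ↥M24) : Equiv.Perm GolayPt) (pt 0) = pt 0 := by
      rw [hval, Equiv.Perm.mul_apply, e0]
      exact Equiv.symm_apply_apply _ _
    have f1 : (((h⁻¹ * g : ↥trioPsi.ker).1.1 : ↥M24) : Equiv.Perm GolayPt) (pt 5) = pt 5 := by
      rw [hval, Equiv.Perm.mul_apply, e1]
      exact Equiv.symm_apply_apply _ _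
    have hone := Cfsg.Agent.S1554.regular (trioOct 0) (trioOct_mem_octads 0) (pt 5) pt5_notMem
      _ ((h⁻¹ * g : ↥trioPsi.ker).1.1 : ↥M24).2
      (fun x hx => trioKer_fix hO hS pt0_mem f0 hx) f1
    have h1 : h⁻¹ * g = 1 := by
      apply Subtype.ext
      apply Subtype.ext
      apply Subtype.ext
      exact hone
    exact (inv_mul_eq_one.mp h1).symm
  have := Nat.card_le_card_of_injective F hF
  rw [Nat.card_prod] at this
  simp only [Nat.card_eq_fintype_card, Fintype.card_coe, card_trioOct] at this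
  rw [Nat.card_eq_fintype_card]
  exact this

end Cfsg.Agent.Lib.helper3
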