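import Mathlib
import Cfsg.Agent.Lib.helper3.TrioStab

set_option autoImplicit false

/-!
# The structure of the stabiliser of a trio
-/

namespace Cfsg.Agent.Lib.helper3

open Cfsg MulAction Cfsg.Agent.Lib.Helper12.Golay
open scoped Pointwise

theorem card_GL32 : Nat.card (GL (Fin 3) (ZMod 2)) = 168 := by
  rw [Matrix.card_GL_field (𝔽 := ZMod 2) 3, ZMod.card, Fin.prod_univ_three]
  rfl

theorem card_trio_target : Nat.card (GL (Fin 3) (ZMod 2) × Equiv.Perm (Fin 3)) = 1008 := by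
  rw [Nat.card_prod, card_GL32, Nat.card_eq_fintype_card, Fintype.card_perm, Fintype.card_fin]
  rfl

theorem trioPsi_main : Function.Surjective trioPsi ∧ Nat.card ↥trioPsi.ker = 64 := by
  have hS : Nat.card ↥trioS = 64512 := Cfsg.Agent.Lib.helper4.card_stab_T₀
  haveI : Finite ↥trioS := Nat.finite_of_card_ne_zero (by rw [hS]; norm_num)
  haveI : Finite (GL (Fin 3) (ZMod 2) × Equiv.Perm (Fin 3)) :=
    Nat.finite_of_card_ne_zero (by rw [card_trio_target]; norm_num)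
  have h1 := Subgroup.card_mul_index trioPsi.ker
  have h2 := Subgroup.index_ker trioPsi
  have h3 : Nat.card ↥trioPsi.range ≤ 1008 := by
    rw [← card_trio_target]
    exact Subgroup.card_le_card_group _
  have h4 := card_ker_trioPsi_le
  rw [h2, hS] at h1
  have h5 : Nat.card ↥trioPsi.ker = 64 ∧ Nat.card ↥trioPsi.range = 1008 := by
    generalize Nat.card ↥trioPsi.ker = a at *
    generalize Nat.card ↥trioPsi.range = b at *
    have ha : a = 64 := by
      by_contra hne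
      have ha' : a ≤ 63 := by omega
      have : a * b ≤ 63 * 1008 := Nat.mul_le_mul ha' h3
      omega
    subst ha
    exact ⟨rfl, by omega⟩
  refine ⟨?_, h5.1⟩
  rw [← MonoidHom.range_eq_top]
  apply Subgroup.eq_top_of_card_eq
  rw [h5.2, card_trio_target]

/-- the octads of the standard trio, indexed -/
noncomputable def trioIdx : Fin 3 ≃ ↥T₀ :=
  Equiv.ofBijective (fun i => ⟨trioOct i, (mem_T₀_iff _).mpr ⟨i, rfl⟩⟩)
    ⟨fun i j h => trioOct_injective (congrArg Subtype.val h), fun o => by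
      obtain ⟨i, hi⟩ := (mem_T₀_iff _).mp o.2
      exact ⟨i, Subtype.ext hi.symm⟩⟩

theorem trioIdx_val (i : Fin 3) : (trioIdx i : Finset GolayPt) = trioOct i := rfl

/-- the statement for the standard trio -/
theorem trio_std_perm (e : Equiv.Perm ↥T₀) : ∃ g ∈ stabilizer ↥M24 T₀, ∀ o : ↥T₀,
    (g : Equiv.Perm GolayPt) • (o : Finset GolayPt) = ((e o : ↥T₀) : Finset GolayPt) := by
  obtain ⟨g, hg⟩ := trioPsi_main.1 (1, (trioIdx.trans e).trans trioIdx.symm)
  have h3 : trioRho3 g = (trioIdx.trans e).trans trioIdx.symm := congrArg Prod.snd hg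
  refine ⟨g.1, g.2, ?_⟩
  intro o
  obtain ⟨i, rfl⟩ := trioIdx.surjective o
  rw [trioIdx_val, trioRho3_spec, h3, ← trioIdx_val]
  simp

theorem trio_std_struct : ∃ (N : Subgroup ↥(stabilizer ↥M24 T₀)) (_ : N.Normal),
    Nat.card N = 64 ∧ (∀ x ∈ N, x * x = 1) ∧
      Nonempty (↥(stabilizer ↥M24 T₀) ⧸ N ≃* GL (Fin 3) (ZMod 2) × Equiv.Perm (Fin 3)) :=
  ⟨trioPsi.ker, inferInstance, trioPsi_main.2, fun x hx => ker_trioPsi_sq x hx,
    ⟨QuotientGroup.quotientKerEquivOfSurjective trioPsi trioPsi_main.1⟩⟩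

/-! ### transport to any trio -/

theorem struct_transport {A B Q : Type*} [Group A] [Group B] [Group Q] (E : A ≃* B)
    (h : ∃ (N : Subgroup A) (_ : N.Normal), Nat.card N = 64 ∧ (∀ x ∈ N, x * x = 1) ∧
      Nonempty (A ⧸ N ≃* Q)) :
    ∃ (N : Subgroup B) (_ : N.Normal), Nat.card N = 64 ∧ (∀ x ∈ N, x * x = 1) ∧
      Nonempty (B ⧸ N ≃* Q) := by
  obtain ⟨N, hN, hc, hsq, ⟨q⟩⟩ := h
  haveI := hN
  haveI hN' : (N.map E.toMonoidHom).Normal := hN.map _ E.surjective
  refine ⟨N.map E.toMonoidHom, hN', ?_, ?_, ?_⟩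
  · rw [Subgroup.card_map_of_injective E.injective, hc]
  · rintro x ⟨y, hy, rfl⟩
    show E y * E y = 1
    rw [← map_mul, hsq y hy, map_one]
  · exact ⟨(QuotientGroup.congr N (N.map E.toMonoidHom) E rfl).symm.trans q⟩

theorem trio_perm (T : Finset (Finset GolayPt)) (hT : T ∈ trios) (e : Equiv.Perm ↥T) :
    ∃ g ∈ stabilizer ↥M24 T, ∀ o : ↥T,
      (g : Equiv.Perm GolayPt) • (o : Finset GolayPt) = ((e o : ↥T) : Finset GolayPt) := by
  have hmem : T ∈ orbit ↥M24 T₀ := by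
    rw [Cfsg.Agent.Lib.helper4.orbit_T₀]
    exact hT
  obtain ⟨γ, rfl⟩ := hmem
  let c : ↥T₀ ≃ ↥(γ • T₀) :=
    { toFun := fun o => ⟨γ • o.1, Finset.smul_mem_smul_finset o.2⟩
      invFun := fun o => ⟨γ⁻¹ • o.1, by
        have := Finset.smul_mem_smul_finset (a := γ⁻¹) o.2
        rwa [inv_smul_smul] at this⟩
      left_inv := fun o => Subtype.ext (inv_smul_smul γ o.1)
      right_inv := fun o => Subtype.ext (smul_inv_smul γ o.1) }
  obtain ⟨g₀, hg₀, h0⟩ := trio_std_perm ((c.trans e).trans c.symm)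
  refine ⟨γ * g₀ * γ⁻¹, ?_, ?_⟩
  · rw [mem_stabilizer_iff, mul_smul, mul_smul, inv_smul_smul]
    rw [mem_stabilizer_iff] at hg₀
    rw [hg₀]
  · intro o
    have h1 := h0 (c.symm o)
    have h2 : ((c.symm o : ↥T₀) : Finset GolayPt) = γ⁻¹ • o.1 := rfl
    show (γ * g₀ * γ⁻¹) • o.1 = _
    rw [mul_smul, mul_smul, ← h2]
    have h3 : g₀ • ((c.symm o : ↥T₀) : Finset GolayPt) =
        (((c.trans e).trans c.symm) (c.symm o) : ↥T₀) := h1
    rw [h3]
    show ((c (((c.trans e).trans c.symm) (c.symm o)) : ↥(γ • T₀)) : Finset GolayPt) = _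
    simp

theorem trio_struct (T : Finset (Finset GolayPt)) (hT : T ∈ trios) :
    ∃ (N : Subgroup ↥(stabilizer ↥M24 T)) (_ : N.Normal),
      Nat.card N = 64 ∧ (∀ x ∈ N, x * x = 1) ∧
        Nonempty (↥(stabilizer ↥M24 T) ⧸ N ≃* GL (Fin 3) (ZMod 2) × Equiv.Perm (Fin 3)) := by
  have hmem : T ∈ orbit ↥M24 T₀ := by
    rw [Cfsg.Agent.Lib.helper4.orbit_T₀]
    exact hT
  obtain ⟨γ, hγ⟩ := hmem
  exact struct_transport (stabilizerEquivStabilizer (g := γ) hγ.symm) trio_std_struct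

end Cfsg.Agent.Lib.helper3
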