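import Mathlib

set_option autoImplicit false

/-!
General group-theoretic tools: a lower bound for the order of a subgroup from a stabiliser
chain, the homomorphism defined by a subgroup of a product, a subgroup of index at most two
contains the commutator subgroup, and an isomorphism criterion through a simple central quotient.
-/

namespace Cfsg.Agent.Lib.helper3

/-- One step of a stabiliser chain: elements of `K` with distinct images of `x`, times the part
of `K` fixing `x`. -/
theorem card_ge_of_transversal {G : Type*} [Group G] [Finite G] {α : Type*} (act : G → α → α)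
    (hact : ∀ g h x, act (g * h) x = act g (act h x))
    (K : Subgroup G) (x : α) (L : List G) (hL : ∀ l ∈ L, l ∈ K)
    (hnd : (L.map fun l => act l x).Nodup) (S : Subgroup G)
    (hS : ∀ s ∈ S, s ∈ K ∧ act s x = x) :
    L.length * Nat.card S ≤ Nat.card K := by
  have hinj : Function.Injective (fun p : Fin L.length × S =>
      (⟨L[p.1.val] * p.2.1, K.mul_mem (hL _ (List.getElem_mem p.1.2)) (hS _ p.2.2).1⟩ : K)) := by
    rintro ⟨i, s⟩ ⟨j, t⟩ hst
    have h1 : L[i.val] * s.1 = L[j.val] * t.1 := congrArg Subtype.val hst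
    have h2 : act L[i.val] x = act L[j.val] x := by
      have := congrArg (fun g => act g x) h1
      simp only [hact, (hS _ s.2).2, (hS _ t.2).2] at this
      exact this
    have hij : i = j := by
      have hi : i.val < (L.map fun l => act l x).length := by rw [List.length_map]; exact i.2
      have hj : j.val < (L.map fun l => act l x).length := by rw [List.length_map]; exact j.2
      have := (List.Nodup.getElem_inj_iff hnd (hi := hi) (hj := hj)).mp (by
        rw [List.getElem_map, List.getElem_map]; exact h2)
      exact Fin.ext this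
    subst hij
    have : s.1 = t.1 := mul_left_cancel h1
    rw [Prod.mk.injEq]
    exact ⟨rfl, Subtype.ext this⟩
  have := Nat.card_le_card_of_injective _ hinj
  rwa [Nat.card_prod, Nat.card_fin] at this

/-- The part of a subgroup fixing a point, for an action given by a function. -/
def stabOf {G : Type*} [Group G] {α : Type*} (act : G → α → α)
    (hact : ∀ g h x, act (g * h) x = act g (act h x)) (hone : ∀ x, act 1 x = x)
    (K : Subgroup G) (x : α) : Subgroup G where
  carrier := {g | g ∈ K ∧ act g x = x}
  mul_mem' := by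
    rintro a b ⟨ha, hax⟩ ⟨hb, hbx⟩
    exact ⟨K.mul_mem ha hb, by rw [hact, hbx, hax]⟩
  one_mem' := ⟨K.one_mem, hone x⟩
  inv_mem' := by
    rintro a ⟨ha, hax⟩
    refine ⟨K.inv_mem ha, ?_⟩
    have := hact a⁻¹ a x
    rw [inv_mul_cancel, hone, hax] at this
    exact this.symm

theorem mem_stabOf {G : Type*} [Group G] {α : Type*} (act : G → α → α)
    (hact : ∀ g h x, act (g * h) x = act g (act h x)) (hone : ∀ x, act 1 x = x)
    (K : Subgroup G) (x : α) (g : G) :
    g ∈ stabOf act hact hone K x ↔ g ∈ K ∧ act g x = x := Iff.rfl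

/-- The homomorphism defined by a subgroup of a product on its second projection. -/
theorem exists_hom_of_graph {A B C : Type*} [Group A] [Group B] [Group C]
    (Γ : Subgroup (A × B)) (f : A →* C) (hker : ∀ a : A, (a, (1 : B)) ∈ Γ → f a = 1) :
    ∃ φ : (Γ.map (MonoidHom.snd A B)) →* C,
      ∀ (γ : A × B) (hγ : γ ∈ Γ), φ ⟨γ.2, ⟨γ, hγ, rfl⟩⟩ = f γ.1 := by
  classical
  have hex : ∀ r : Γ.map (MonoidHom.snd A B), ∃ γ : A × B, γ ∈ Γ ∧ γ.2 = r.1 := by
    rintro ⟨r, γ, hγ, rfl⟩
    exact ⟨γ, hγ, rfl⟩
  choose pick hpick using hex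
  have hwd : ∀ (γ γ' : A × B), γ ∈ Γ → γ' ∈ Γ → γ.2 = γ'.2 → f γ.1 = f γ'.1 := by
    intro γ γ' hγ hγ' h2
    have hm : γ * γ'⁻¹ ∈ Γ := Γ.mul_mem hγ (Γ.inv_mem hγ')
    have he : γ * γ'⁻¹ = (γ.1 * γ'.1⁻¹, 1) := by
      apply Prod.ext
      · rfl
      · show γ.2 * γ'.2⁻¹ = 1
        rw [h2, mul_inv_cancel]
    rw [he] at hm
    have := hker _ hm
    rw [map_mul, map_inv, mul_inv_eq_one] at this
    exact this
  refine ⟨MonoidHom.mk' (fun r => f (pick r).1) ?_, ?_⟩
  · intro r s
    rw [← map_mul]
    apply hwd _ ((pick r) * (pick s)) (hpick _).1 (Γ.mul_mem (hpick r).1 (hpick s).1)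
    rw [(hpick _).2]
    show r.1 * s.1 = (pick r).2 * (pick s).2
    rw [(hpick r).2, (hpick s).2]
  · intro γ hγ
    show f (pick _).1 = f γ.1
    exact hwd _ _ (hpick _).1 hγ (hpick _).2

/-- A subgroup of index at most two contains the commutator subgroup. -/
theorem commutator_le_of_card_le_two_mul {G : Type*} [Group G] [Finite G] (H : Subgroup G)
    (h : Nat.card G ≤ 2 * Nat.card H) : commutator G ≤ H := by
  have hmul := H.card_mul_index
  have hpos : 0 < Nat.card H := Nat.card_pos
  have hidx : H.index ≤ 2 := by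
    by_contra hc
    push_neg at hc
    have : 3 * Nat.card H ≤ Nat.card G := by
      rw [← hmul, mul_comm]
      exact Nat.mul_le_mul_left _ hc
    omega
  have hidx0 : H.index ≠ 0 := Subgroup.index_ne_zero_of_finite
  rcases (show H.index = 1 ∨ H.index = 2 by omega) with h1 | h2
  · rw [Subgroup.index_eq_one.mp h1]
    exact le_top
  · haveI : H.Normal := Subgroup.normal_of_index_eq_two h2
    have hQ : Nat.card (G ⧸ H) = 2 := h2
    haveI : Fact (Nat.Prime 2) := ⟨Nat.prime_two⟩
    haveI : IsCyclic (G ⧸ H) := isCyclic_of_prime_card hQ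
    rw [commutator_def, Subgroup.commutator_le]
    intro a _ b _
    rw [← QuotientGroup.eq_one_iff, commutatorElement_def]
    simp only [QuotientGroup.mk_mul, QuotientGroup.mk_inv]
    have hc : ∀ u v : G ⧸ H, u * v = v * u := fun u v => Std.Commutative.comm u v
    rw [hc (QuotientGroup.mk a) (QuotientGroup.mk b)]
    group

/-- A homomorphism from a group with simple central quotient, with two non-commuting values, to
a group of the order of that quotient induces an isomorphism from the quotient. -/
theorem iso_of_simple_central_quotient {W G₂ : Type*} [Group W] [Finite W] [Group G₂] [Finite G₂]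
    (hs : IsSimpleGroup (W ⧸ Subgroup.center W)) (n : ℕ)
    (hP : Nat.card (W ⧸ Subgroup.center W) = n) (hG : Nat.card G₂ = n) (φ : W →* G₂)
    (x y : W) (hxy : φ x * φ y ≠ φ y * φ x) : Nonempty (W ⧸ Subgroup.center W ≃* G₂) := by
  have hn : 0 < n := by rw [← hG]; exact Nat.card_pos
  -- the kernel is central
  have hkerle : φ.ker ≤ Subgroup.center W := by
    haveI : (φ.ker.map (QuotientGroup.mk' (Subgroup.center W))).Normal :=
      Subgroup.Normal.map inferInstance _ (QuotientGroup.mk'_surjective _)
    rcases hs.eq_bot_or_eq_top_of_normal (φ.ker.map (QuotientGroup.mk' (Subgroup.center W)))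
      inferInstance with hb | ht
    · have := (Subgroup.map_eq_bot_iff _).mp hb
      rwa [QuotientGroup.ker_mk'] at this
    · exfalso
      have key : ∀ g : W, ∃ z ∈ Subgroup.center W, φ g = φ z := by
        intro g
        have hg : (QuotientGroup.mk' (Subgroup.center W)) g ∈
            φ.ker.map (QuotientGroup.mk' (Subgroup.center W)) := by rw [ht]; trivial
        obtain ⟨k, hk, hkg⟩ := hg
        have hz : k⁻¹ * g ∈ Subgroup.center W := by
          have := QuotientGroup.eq.mp hkg
          exact this
        refine ⟨k⁻¹ * g, hz, ?_⟩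
        rw [map_mul, map_inv, MonoidHom.mem_ker.mp hk, inv_one, one_mul]
      obtain ⟨z, hz, hxz⟩ := key x
      obtain ⟨z', _, hyz⟩ := key y
      apply hxy
      rw [hxz, hyz, ← map_mul, ← map_mul, Subgroup.mem_center_iff.mp hz z']
  -- counting
  have h1 := Subgroup.card_eq_card_quotient_mul_card_subgroup (Subgroup.center W)
  have h2 := Subgroup.card_eq_card_quotient_mul_card_subgroup φ.ker
  have h3 : Nat.card (W ⧸ φ.ker) = Nat.card φ.range :=
    Nat.card_congr (QuotientGroup.quotientKerEquivRange φ).toEquiv
  have h4 : Nat.card φ.range ≤ n := by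
    rw [← hG]; exact Subgroup.card_le_card_group _
  have h5 : Nat.card φ.ker ≤ Nat.card (Subgroup.center W) := Subgroup.card_le_of_le hkerle
  have hZpos : 0 < Nat.card (Subgroup.center W) := Nat.card_pos
  have hKpos : 0 < Nat.card φ.ker := Nat.card_pos
  rw [hP] at h1
  rw [h3] at h2
  have h6 : n * Nat.card (Subgroup.center W) = Nat.card φ.range * Nat.card φ.ker := by
    rw [← h1, ← h2]
  have h7 : Nat.card φ.range * Nat.card φ.ker ≤ n * Nat.card φ.ker :=
    Nat.mul_le_mul_right _ h4
  have h8 : n * Nat.card φ.ker ≤ n * Nat.card (Subgroup.center W) := Nat.mul_le_mul_left _ h5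
  have hkereq : Nat.card φ.ker = Nat.card (Subgroup.center W) := by
    have : n * Nat.card φ.ker = n * Nat.card (Subgroup.center W) := by omega
    exact Nat.eq_of_mul_eq_mul_left hn this
  have hrangeq : Nat.card φ.range = n := by
    have : Nat.card φ.range * Nat.card φ.ker = n * Nat.card φ.ker := by rw [← h6, hkereq]
    exact Nat.eq_of_mul_eq_mul_right hKpos this
  have hker : Subgroup.center W = φ.ker :=
    (Subgroup.eq_of_le_of_card_ge hkerle (by rw [hkereq])).symm
  have hsurj : Function.Surjective φ := by
    rw [← MonoidHom.range_eq_top]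
    exact Subgroup.eq_top_of_card_eq _ (by rw [hrangeq, hG])
  exact ⟨(QuotientGroup.quotientMulEquivOfEq hker).trans
    (QuotientGroup.quotientKerEquivOfSurjective φ hsurj)⟩

end Cfsg.Agent.Lib.helper3
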