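import Mathlib
import Cfsg.Prelude.Def_Classical
import Cfsg.Agent.Lib.helper3.SylDataA
import Cfsg.Agent.Lib.helper3.SylDataB

set_option autoImplicit false

/-!
Explicit data for the isomorphism between the six-dimensional minus-type orthogonal group over
`ZMod 2` (its commutator subgroup) and `PSp₄(3)`: two pairs of corresponding generators, a table
of the images of the transvections, and a stabiliser-chain certificate for the order of the
subgroup generated on the orthogonal side.
-/

namespace Cfsg.Agent.Lib.helper3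

open Matrix

/-- The index type of the six-dimensional space. -/
abbrev U42I : Type := (Fin 2 ⊕ Fin 2) ⊕ Fin 2

/-- The vector of `ZMod 2`-coordinates with a given binary code. -/
def vec6 (c : ℕ) : U42I → ZMod 2 := fun i => ((c / 2 ^ idx6 i % 2 : ℕ) : ZMod 2)

/-- The binary code of a 6 × 6 matrix over `ZMod 2` (inverse of `dec2`). -/
def enc2 (M : Matrix U42I U42I (ZMod 2)) : ℕ :=
  ∑ i : U42I, ∑ j : U42I, (M i j).val * 2 ^ (6 * idx6 i + idx6 j)

/-- The code of a vector of `ZMod 3`-coordinates. -/
def enc3v (w : Fin 2 ⊕ Fin 2 → ZMod 3) : ℕ :=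
  (w (.inl 0)).val + 3 * (w (.inl 1)).val + 9 * (w (.inr 0)).val + 27 * (w (.inr 1)).val

/-- Codes of the two symplectic generators. -/
def u42B1c : ℕ := 30017143
def u42B2c : ℕ := 33598624

/-- Codes of the two orthogonal generators and of their inverses. -/
def u42A1c : ℕ := 34764540361
def u42A1i : ℕ := 34764540361
def u42A2c : ℕ := 11659043102
def u42A2i : ℕ := 41403819501

/-- The symplectic generators. -/
def u42B1 : Matrix.symplecticGroup (Fin 2) (ZMod 3) := toSp3 u42B1c
def u42B2 : Matrix.symplecticGroup (Fin 2) (ZMod 3) := toSp3 u42B2c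

/-- The orthogonal generators. -/
def u42A1 : Matrix.GeneralLinearGroup U42I (ZMod 2) := toGL2 u42A1c u42A1i
def u42A2 : Matrix.GeneralLinearGroup U42I (ZMod 2) := toGL2 u42A2c u42A2i

/-- Codes of the images of the transvections, indexed by the code of the vector. -/
def u42M : List ℕ := [
  34630287489, 19193506249, 19193506249, 65096699354, 27785555272, 56508844379, 65096699354, 56508844379,
  27785555272, 31133724026, 24475083163, 52079657027, 30930281947, 60870921579, 55320240322, 65031669115,
  20249338154, 68341443931, 31133724026, 52079657027, 24475083163, 65031669115, 68341443931, 20249338154,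
  30930281947, 55320240322, 60870921579, 17987559688, 21415455082, 20205281707, 58786752891, 26594436424,
  68297287162, 53193597122, 53212586051, 19212527944, 22390514107, 34157880666, 52077576386, 21472193003,
  58675620314, 56573872634, 54248513603, 22325518618, 60734621162, 26726542793, 17985446281, 27666130377,
  62001769962, 54288376002, 24502362426, 34298244603, 61852722539, 55347355715, 17987559688, 20205281707,
  21415455082, 53193597122, 19212527944, 53212586051, 58786752891, 68297287162, 26594436424, 26726542793,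
  27666130377, 17985446281, 34298244603, 55347355715, 61852722539, 62001769962, 24502362426, 54288376002,
  22390514107, 52077576386, 34157880666, 54248513603, 60734621162, 22325518618, 21472193003, 56573872634,
  58675620314]

/-- The matrix attached to a vector. -/
def u42Mm (w : Fin 2 ⊕ Fin 2 → ZMod 3) : Matrix U42I U42I (ZMod 2) := dec2 (u42M.getD (enc3v w) 0)

/-- Codes of the elements of the straight-line program. -/
def u42Els : List ℕ := [
  34764540361, 11659043102, 68022549415, 41403819501, 50792510267, 12053020333, 10971078565, 41152370586,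
  55246681854, 50691954405, 20188750018, 12153773815, 24106217371, 6117238109, 35721306305, 67837913978,
  14529980798, 44309003145, 19970571095, 35855368008, 24324141678, 54326384260, 30655134551, 52075991485,
  58362321390, 30300892026, 34630287489, 35838719816, 21803314683, 20178288771, 22155810462, 21702676347,
  26523222557, 31007460251, 39673414165, 23805316021, 56171709227, 56104600093, 19578506115, 26523222823,
  26524271125, 24539316623, 35200191405, 35310289707, 24260398773, 30243573391, 12690775703, 47886344474,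
  47936655893, 19087523907, 18735322862, 58843212111, 52125253761, 44443348296, 56894848663, 56693538715,
  54001326826, 54705796996, 51873583311, 61762469995, 62081324798, 15233099623, 35199142529, 5973440341,
  6006988439, 11424214949, 11071658718, 18041647170, 24593159934, 23871794057, 27315559101, 36681935195,
  36782489729, 20177240193, 19510348417, 11583113857, 37313072769, 19898322561, 19741036161, 5563733498,
  51144914661, 37878345795, 38650207917, 48133547861, 12426269117, 12057279319, 8042036734, 7689661803,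
  30500413079, 21231018051, 21147056862, 58843736573, 52078592129, 14088386907, 14658654773, 17988354115,
  18189665935, 24475083054, 23753883547, 34142676303, 55920645613, 56054896357, 53861792644, 53962346718,
  52344402743, 67840558586, 68394334109, 11759640878, 17717281281, 17987289217, 35165585921, 51808584193]

/-- The straight-line program: entry `k ≥ 2` is the product of the two earlier entries named. -/
def u42Slp : List (ℕ × ℕ) := [
  (0,0), (0,0), (1,1), (2,2), (1,0), (3,0), (0,1), (0,3), (3,3), (0,4), (1,4), (0,5),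
  (3,5), (1,6), (3,6), (0,2), (3,7), (3,9), (0,10), (1,11), (0,12), (1,13), (3,14), (1,15),
  (3,16), (3,17), (0,0), (0,14), (1,27), (1,28), (3,15), (0,30), (1,31), (32,29), (29,32), (29,33),
  (32,33), (29,34), (32,34), (29,36), (29,37), (32,37), (29,38), (29,39), (32,39), (29,44), (3,27), (3,46),
  (0,47), (3,48), (0,49), (1,50), (1,51), (1,7), (1,53), (0,54), (1,55), (0,56), (1,57), (1,58),
  (0,59), (1,60), (1,61), (1,9), (0,63), (3,64), (0,65), (1,66), (1,67), (0,68), (1,69), (1,70),
  (0,71), (52,52), (52,62), (72,62), (62,72), (62,73), (52,76), (0,13), (3,79), (3,80), (0,81), (3,82),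
  (3,83), (0,84), (1,85), (0,86), (3,87), (3,88), (0,89), (1,90), (1,91), (3,11), (0,93), (3,94),
  (0,95), (1,96), (0,97), (3,98), (3,99), (0,100), (3,101), (0,102), (3,103), (3,104), (0,105), (3,106),
  (3,107), (92,92), (108,92), (92,108)]

/-- Level 1 of the stabiliser chain: indices of elements with distinct images of base point 1. -/
def u42Lev1 : List ℕ := [26, 25, 0, 21, 24, 1, 12, 7, 18, 23, 22, 10, 3, 6, 20, 5, 11, 16, 13, 2, 8, 4, 9, 15, 14, 17, 19]

/-- Level 2 of the stabiliser chain: indices of elements with distinct images of base point 2. -/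
def u42Lev2 : List ℕ := [26, 43, 29, 42, 32, 39, 40, 38, 45, 35, 37, 33, 44, 41, 34, 36]

/-- Level 3 of the stabiliser chain: indices of elements with distinct images of base point 3. -/
def u42Lev3 : List ℕ := [26, 75, 52, 62, 74, 72, 76, 78, 73, 77]

/-- Level 4 of the stabiliser chain: indices of elements with distinct images of base point 4. -/
def u42Lev4 : List ℕ := [26, 110, 92, 108, 109, 111]

/-- The base points (codes of singular vectors). -/
def u42Base : List ℕ := [1, 4, 15, 23]

theorem u42Els_length : u42Els.length = 112 := by decide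

set_option maxRecDepth 100000 in
theorem u42B_coe : (u42B1 : Matrix (Fin 2 ⊕ Fin 2) (Fin 2 ⊕ Fin 2) (ZMod 3)) = dec3 u42B1c ∧
    (u42B2 : Matrix (Fin 2 ⊕ Fin 2) (Fin 2 ⊕ Fin 2) (ZMod 3)) = dec3 u42B2c := by decide +kernel

set_option maxRecDepth 100000 in
theorem u42A_coe : (u42A1 : Matrix U42I U42I (ZMod 2)) = dec2 u42A1c ∧
    (u42A2 : Matrix U42I U42I (ZMod 2)) = dec2 u42A2c := by decide +kernel

set_option maxRecDepth 100000 in
theorem u42A_isom : ∀ u : U42I → ZMod 2,
    Cfsg.quadFormMinus 2 (ZMod 2) 1 1 (dec2 u42A1c *ᵥ u) = Cfsg.quadFormMinus 2 (ZMod 2) 1 1 u ∧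
    Cfsg.quadFormMinus 2 (ZMod 2) 1 1 (dec2 u42A2c *ᵥ u) = Cfsg.quadFormMinus 2 (ZMod 2) 1 1 u := by
  decide +kernel

set_option maxRecDepth 100000 in
theorem u42Els_gens : u42Els.getD 0 0 = u42A1c ∧ u42Els.getD 1 0 = u42A2c := by decide +kernel

set_option maxRecDepth 100000 in
theorem u42Slp_ok : ∀ k : Fin 112, k.val < 2 ∨
    ((u42Slp.getD k.val (0, 0)).1 < k.val ∧ (u42Slp.getD k.val (0, 0)).2 < k.val ∧
      dec2 (u42Els.getD k.val 0) =
        dec2 (u42Els.getD (u42Slp.getD k.val (0, 0)).1 0) *
          dec2 (u42Els.getD (u42Slp.getD k.val (0, 0)).2 0)) := by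
  decide +kernel

set_option maxRecDepth 100000 in
theorem u42Lev1_ok : (∀ i : Fin 27, u42Lev1.getD i.val 0 < 112) ∧
    (u42Lev1.map fun k => dec2 (u42Els.getD k 0) *ᵥ vec6 1).Nodup := by
  decide +kernel

set_option maxRecDepth 100000 in
theorem u42Lev2_ok : (∀ i : Fin 16, u42Lev2.getD i.val 0 < 112 ∧ dec2 (u42Els.getD (u42Lev2.getD i.val 0) 0) *ᵥ vec6 1 = vec6 1) ∧
    (u42Lev2.map fun k => dec2 (u42Els.getD k 0) *ᵥ vec6 4).Nodup := by
  decide +kernel

set_option maxRecDepth 100000 in
theorem u42Lev3_ok : (∀ i : Fin 10, u42Lev3.getD i.val 0 < 112 ∧ dec2 (u42Els.getD (u42Lev3.getD i.val 0) 0) *ᵥ vec6 1 = vec6 1 ∧ dec2 (u42Els.getD (u42Lev3.getD i.val 0) 0) *ᵥ vec6 4 = vec6 4) ∧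
    (u42Lev3.map fun k => dec2 (u42Els.getD k 0) *ᵥ vec6 15).Nodup := by
  decide +kernel

set_option maxRecDepth 100000 in
theorem u42Lev4_ok : (∀ i : Fin 6, u42Lev4.getD i.val 0 < 112 ∧ dec2 (u42Els.getD (u42Lev4.getD i.val 0) 0) *ᵥ vec6 1 = vec6 1 ∧ dec2 (u42Els.getD (u42Lev4.getD i.val 0) 0) *ᵥ vec6 4 = vec6 4 ∧ dec2 (u42Els.getD (u42Lev4.getD i.val 0) 0) *ᵥ vec6 15 = vec6 15) ∧
    (u42Lev4.map fun k => dec2 (u42Els.getD k 0) *ᵥ vec6 23).Nodup := by
  decide +kernel

set_option maxRecDepth 100000 in
theorem u42M_equiv1 : ∀ w : Fin 2 ⊕ Fin 2 → ZMod 3,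
    u42Mm (dec3 u42B1c *ᵥ w) * dec2 u42A1c = dec2 u42A1c * u42Mm w := by
  decide +kernel

set_option maxRecDepth 100000 in
theorem u42M_equiv2 : ∀ w : Fin 2 ⊕ Fin 2 → ZMod 3,
    u42Mm (dec3 u42B2c *ᵥ w) * dec2 u42A2c = dec2 u42A2c * u42Mm w := by
  decide +kernel

set_option maxRecDepth 100000 in
theorem u42M_inj : ∀ w w' : Fin 2 ⊕ Fin 2 → ZMod 3,
    u42M.getD (enc3v w) 0 = u42M.getD (enc3v w') 0 → w' = w ∨ w' = -w := by
  decide +kernel

set_option maxRecDepth 100000 in
theorem u42M_enc : ∀ i : Fin 81, enc2 (dec2 (u42M.getD i.val 0)) = u42M.getD i.val 0 := by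
  decide +kernel

theorem enc3v_lt (w : Fin 2 ⊕ Fin 2 → ZMod 3) : enc3v w < 81 := by
  unfold enc3v
  have h0 := (w (.inl 0)).val_lt
  have h1 := (w (.inl 1)).val_lt
  have h2 := (w (.inr 0)).val_lt
  have h3 := (w (.inr 1)).val_lt
  omega

/-- The commutator, written out. -/
def u42Comm (a b : Matrix.symplecticGroup (Fin 2) (ZMod 3)) : Matrix.symplecticGroup (Fin 2) (ZMod 3) :=
  a * b * a⁻¹ * b⁻¹

set_option maxRecDepth 100000 in
theorem u42_noncomm :
    u42Comm (u42Comm u42B1 u42B2) (u42Comm u42B1 (u42B2 * u42B2)) ≠ 1 ∧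
    (u42Comm (u42Comm u42B1 u42B2) (u42Comm u42B1 (u42B2 * u42B2))).1 ≠ -1 := by
  decide +kernel

end Cfsg.Agent.Lib.helper3
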