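import Mathlib
import Cfsg.Agent.S0246
import Cfsg.Agent.S0245
import Cfsg.Agent.S0280
import Cfsg.Agent.S0283
import Cfsg.Agent.S0288
import Cfsg.Agent.S0303
import Cfsg.Agent.Lib.helper3.U42Data
import Cfsg.Agent.Lib.helper3.U42Chain
import Cfsg.Agent.Lib.helper3.SylB

set_option autoImplicit false

/-!
The isomorphism `PSU₄(2) ≅ PSp₄(3)`, through the six-dimensional minus-type orthogonal group
over `ZMod 2`.
-/

namespace Cfsg.Agent.Lib.helper3

open Matrix
open scoped commutatorElement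

/-- The ambient general linear group. -/
abbrev U42G : Type := Matrix.GeneralLinearGroup U42I (ZMod 2)

/-- The quadratic form. -/
abbrev u42Q : (U42I → ZMod 2) → ZMod 2 := Cfsg.quadFormMinus 2 (ZMod 2) 1 1

/-- The action on vectors. -/
def u42Act (g : U42G) (v : U42I → ZMod 2) : U42I → ZMod 2 := (g : Matrix U42I U42I (ZMod 2)) *ᵥ v

theorem u42Act_mul (g h : U42G) (v : U42I → ZMod 2) : u42Act (g * h) v = u42Act g (u42Act h v) := by
  unfold u42Act
  rw [Units.val_mul, Matrix.mulVec_mulVec]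

theorem u42Act_one (v : U42I → ZMod 2) : u42Act 1 v = v := by
  unfold u42Act
  rw [Units.val_one, Matrix.one_mulVec]

/-- The subgroup generated by the two orthogonal generators. -/
def u42R : Subgroup U42G := Subgroup.closure {u42A1, u42A2}

theorem u42A1_isom : u42A1 ∈ Cfsg.isometryGroup (ZMod 2) u42Q := by
  rw [mem_isometryGroup_iff, u42A_coe.1]
  exact fun u => (u42A_isom u).1

theorem u42A2_isom : u42A2 ∈ Cfsg.isometryGroup (ZMod 2) u42Q := by
  rw [mem_isometryGroup_iff, u42A_coe.2]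
  exact fun u => (u42A_isom u).2

theorem u42R_le : u42R ≤ Cfsg.isometryGroup (ZMod 2) u42Q := by
  rw [u42R, Subgroup.closure_le]
  rintro g (rfl | rfl)
  · exact u42A1_isom
  · exact u42A2_isom

/-- Every entry of the straight-line program is the matrix of an element of the subgroup. -/
theorem u42Els_mem : ∀ k : ℕ, k < 112 →
    ∃ g ∈ u42R, (g : Matrix U42I U42I (ZMod 2)) = dec2 (u42Els.getD k 0) := by
  intro k
  induction k using Nat.strong_induction_on with
  | _ k ih =>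
    intro hk
    rcases u42Slp_ok ⟨k, hk⟩ with h | ⟨h1, h2, h3⟩
    · simp only at h
      rcases (show k = 0 ∨ k = 1 by omega) with rfl | rfl
      · exact ⟨u42A1, Subgroup.subset_closure (by simp), by rw [u42Els_gens.1, u42A_coe.1]⟩
      · exact ⟨u42A2, Subgroup.subset_closure (by simp), by rw [u42Els_gens.2, u42A_coe.2]⟩
    · simp only at h1 h2 h3
      obtain ⟨g1, hg1, e1⟩ := ih _ h1 (by omega)
      obtain ⟨g2, hg2, e2⟩ := ih _ h2 (by omega)
      exact ⟨g1 * g2, u42R.mul_mem hg1 hg2, by rw [Units.val_mul, e1, e2, h3]⟩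

/-- The element with a given index of the straight-line program. -/
noncomputable def u42El (k : ℕ) : U42G :=
  if h : k < 112 then Classical.choose (u42Els_mem k h) else 1

theorem u42El_mem (k : ℕ) : u42El k ∈ u42R := by
  unfold u42El
  split_ifs with h
  · exact (Classical.choose_spec (u42Els_mem k h)).1
  · exact u42R.one_mem

theorem u42El_coe {k : ℕ} (h : k < 112) :
    (u42El k : Matrix U42I U42I (ZMod 2)) = dec2 (u42Els.getD k 0) := by
  unfold u42El
  rw [dif_pos h]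
  exact (Classical.choose_spec (u42Els_mem k h)).2

theorem u42Act_el {k : ℕ} (h : k < 112) (v : U42I → ZMod 2) :
    u42Act (u42El k) v = dec2 (u42Els.getD k 0) *ᵥ v := by
  unfold u42Act
  rw [u42El_coe h]

instance : Finite U42G := inferInstance

/-- One level of the stabiliser chain. -/
theorem u42_level (K : Subgroup U42G) (x : U42I → ZMod 2) (lev : List ℕ) (n : ℕ)
    (hlen : lev.length = n) (hlt : ∀ i : Fin n, lev.getD i.val 0 < 112)
    (hK : ∀ i : Fin n, u42El (lev.getD i.val 0) ∈ K)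
    (hnd : (lev.map fun k => dec2 (u42Els.getD k 0) *ᵥ x).Nodup) :
    n * Nat.card (stabOf u42Act u42Act_mul u42Act_one K x) ≤ Nat.card K := by
  have hidx : ∀ k ∈ lev, ∃ i : Fin n, lev.getD i.val 0 = k := by
    intro k hk
    obtain ⟨i, hi, rfl⟩ := List.mem_iff_getElem.mp hk
    exact ⟨⟨i, hlen ▸ hi⟩, List.getD_eq_getElem _ _ hi⟩
  have h := card_ge_of_transversal u42Act u42Act_mul K x (lev.map u42El) ?_ ?_
    (stabOf u42Act u42Act_mul u42Act_one K x) (fun s hs => hs)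
  · rwa [List.length_map, hlen] at h
  · intro l hl
    obtain ⟨k, hk, rfl⟩ := List.mem_map.mp hl
    obtain ⟨i, rfl⟩ := hidx k hk
    exact hK i
  · rw [List.map_map]
    have : (lev.map ((fun l => u42Act l x) ∘ u42El)) =
        lev.map fun k => dec2 (u42Els.getD k 0) *ᵥ x := by
      apply List.map_congr_left
      intro k hk
      obtain ⟨i, rfl⟩ := hidx k hk
      exact u42Act_el (hlt i) x
    rw [this]
    exact hnd

/-- The stabiliser chain. -/
def u42S1 : Subgroup U42G := stabOf u42Act u42Act_mul u42Act_one u42R (vec6 1)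
def u42S2 : Subgroup U42G := stabOf u42Act u42Act_mul u42Act_one u42S1 (vec6 4)
def u42S3 : Subgroup U42G := stabOf u42Act u42Act_mul u42Act_one u42S2 (vec6 15)
def u42S4 : Subgroup U42G := stabOf u42Act u42Act_mul u42Act_one u42S3 (vec6 23)

theorem u42R_card_ge : 25920 ≤ Nat.card u42R := by
  have h1 : 27 * Nat.card u42S1 ≤ Nat.card u42R :=
    u42_level u42R (vec6 1) u42Lev1 27 (by decide) (fun i => u42Lev1_ok.1 i)
      (fun i => u42El_mem _) u42Lev1_ok.2
  have h2 : 16 * Nat.card u42S2 ≤ Nat.card u42S1 :=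
    u42_level u42S1 (vec6 4) u42Lev2 16 (by decide) (fun i => (u42Lev2_ok.1 i).1)
      (fun i => ⟨u42El_mem _, by rw [u42Act_el (u42Lev2_ok.1 i).1]; exact (u42Lev2_ok.1 i).2⟩)
      u42Lev2_ok.2
  have h3 : 10 * Nat.card u42S3 ≤ Nat.card u42S2 :=
    u42_level u42S2 (vec6 15) u42Lev3 10 (by decide) (fun i => (u42Lev3_ok.1 i).1)
      (fun i => ⟨⟨u42El_mem _, by rw [u42Act_el (u42Lev3_ok.1 i).1]; exact (u42Lev3_ok.1 i).2.1⟩,
        by rw [u42Act_el (u42Lev3_ok.1 i).1]; exact (u42Lev3_ok.1 i).2.2⟩)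
      u42Lev3_ok.2
  have h4 : 6 * Nat.card u42S4 ≤ Nat.card u42S3 :=
    u42_level u42S3 (vec6 23) u42Lev4 6 (by decide) (fun i => (u42Lev4_ok.1 i).1)
      (fun i => ⟨⟨⟨u42El_mem _, by rw [u42Act_el (u42Lev4_ok.1 i).1]; exact (u42Lev4_ok.1 i).2.1⟩,
        by rw [u42Act_el (u42Lev4_ok.1 i).1]; exact (u42Lev4_ok.1 i).2.2.1⟩,
        by rw [u42Act_el (u42Lev4_ok.1 i).1]; exact (u42Lev4_ok.1 i).2.2.2⟩)
      u42Lev4_ok.2
  have h5 : 0 < Nat.card u42S4 := Nat.card_pos
  omega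

/-- The symplectic group over `ZMod 3`. -/
abbrev U42S : Type := Matrix.symplecticGroup (Fin 2) (ZMod 3)

theorem u42S_coe_mul (a b : U42S) :
    ((a * b : U42S) : Matrix (Fin 2 ⊕ Fin 2) (Fin 2 ⊕ Fin 2) (ZMod 3)) = a.1 * b.1 := rfl

theorem u42S_coe_one :
    ((1 : U42S) : Matrix (Fin 2 ⊕ Fin 2) (Fin 2 ⊕ Fin 2) (ZMod 3)) = 1 := rfl

theorem u42S_mul_inv_coe (b : U42S) : b.1 * (b⁻¹).1 = 1 := by
  rw [← u42S_coe_mul, mul_inv_cancel, u42S_coe_one]

/-- The pairs compatible with the table of transvection images. -/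
def u42Delta : Subgroup (U42S × U42G) where
  carrier := {p | ∀ w : Fin 2 ⊕ Fin 2 → ZMod 3,
    u42Mm (p.1.1 *ᵥ w) * (p.2 : Matrix U42I U42I (ZMod 2)) =
      (p.2 : Matrix U42I U42I (ZMod 2)) * u42Mm w}
  one_mem' := by
    intro w
    show u42Mm ((1 : U42S).1 *ᵥ w) * ((1 : U42G) : Matrix U42I U42I (ZMod 2)) =
      ((1 : U42G) : Matrix U42I U42I (ZMod 2)) * u42Mm w
    rw [u42S_coe_one, Matrix.one_mulVec, Units.val_one, Matrix.mul_one, Matrix.one_mul]
  mul_mem' := by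
    rintro ⟨b, a⟩ ⟨b', a'⟩ h h' w
    show u42Mm ((b * b').1 *ᵥ w) * ((a * a' : U42G) : Matrix U42I U42I (ZMod 2)) =
      ((a * a' : U42G) : Matrix U42I U42I (ZMod 2)) * u42Mm w
    have h := h
    have h' := h'
    simp only [Set.mem_setOf_eq] at h h'
    rw [u42S_coe_mul, ← Matrix.mulVec_mulVec, Units.val_mul, ← Matrix.mul_assoc, h (b'.1 *ᵥ w),
      Matrix.mul_assoc, h' w, Matrix.mul_assoc]
  inv_mem' := by
    rintro ⟨b, a⟩ h w
    show u42Mm ((b⁻¹).1 *ᵥ w) * ((a⁻¹ : U42G) : Matrix U42I U42I (ZMod 2)) =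
      ((a⁻¹ : U42G) : Matrix U42I U42I (ZMod 2)) * u42Mm w
    have h1 := h ((b⁻¹).1 *ᵥ w)
    simp only at h1
    rw [Matrix.mulVec_mulVec, u42S_mul_inv_coe, Matrix.one_mulVec] at h1
    have h2 : ((a⁻¹ : U42G) : Matrix U42I U42I (ZMod 2)) * (a : Matrix U42I U42I (ZMod 2)) = 1 := by
      rw [← Units.val_mul, inv_mul_cancel, Units.val_one]
    have h3 : (a : Matrix U42I U42I (ZMod 2)) * ((a⁻¹ : U42G) : Matrix U42I U42I (ZMod 2)) = 1 := by
      rw [← Units.val_mul, mul_inv_cancel, Units.val_one]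
    calc u42Mm ((b⁻¹).1 *ᵥ w) * ((a⁻¹ : U42G) : Matrix U42I U42I (ZMod 2))
        = ((a⁻¹ : U42G) : Matrix U42I U42I (ZMod 2)) * ((a : Matrix U42I U42I (ZMod 2)) *
            u42Mm ((b⁻¹).1 *ᵥ w)) * ((a⁻¹ : U42G) : Matrix U42I U42I (ZMod 2)) := by
          rw [← Matrix.mul_assoc, h2, Matrix.one_mul]
      _ = ((a⁻¹ : U42G) : Matrix U42I U42I (ZMod 2)) * (u42Mm w * (a : Matrix U42I U42I (ZMod 2))) *
            ((a⁻¹ : U42G) : Matrix U42I U42I (ZMod 2)) := by rw [h1]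
      _ = ((a⁻¹ : U42G) : Matrix U42I U42I (ZMod 2)) * u42Mm w := by
          rw [Matrix.mul_assoc, Matrix.mul_assoc, h3, Matrix.mul_one]

/-- The graph subgroup. -/
def u42Gamma : Subgroup (U42S × U42G) := Subgroup.closure {(u42B1, u42A1), (u42B2, u42A2)}

theorem u42Gamma_le : u42Gamma ≤ u42Delta := by
  rw [u42Gamma, Subgroup.closure_le]
  rintro p (rfl | rfl)
  · intro w
    show u42Mm (u42B1.1 *ᵥ w) * (u42A1 : Matrix U42I U42I (ZMod 2)) = _
    rw [u42B_coe.1, u42A_coe.1]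
    exact u42M_equiv1 w
  · intro w
    show u42Mm (u42B2.1 *ᵥ w) * (u42A2 : Matrix U42I U42I (ZMod 2)) = _
    rw [u42B_coe.2, u42A_coe.2]
    exact u42M_equiv2 w

theorem u42Gamma_snd : u42Gamma.map (MonoidHom.snd U42S U42G) = u42R := by
  rw [u42Gamma, MonoidHom.map_closure, u42R, Set.image_pair]
  rfl

/-- The first kernel: a pair with trivial orthogonal part has a central symplectic part. -/
theorem u42_ker (b : U42S) (hb : (b, (1 : U42G)) ∈ u42Gamma) :
    b = 1 ∨ b = Cfsg.Agent.S0246.negOne (ZMod 3) 2 := by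
  have h := u42Gamma_le hb
  have h1 : ∀ w : Fin 2 ⊕ Fin 2 → ZMod 3, b.1 *ᵥ w = w ∨ b.1 *ᵥ w = -w := by
    intro w
    have hw := h w
    simp only [Units.val_one, Matrix.mul_one, Matrix.one_mul] at hw
    unfold u42Mm at hw
    have hc := congrArg enc2 hw
    rw [u42M_enc ⟨_, enc3v_lt _⟩, u42M_enc ⟨_, enc3v_lt _⟩] at hc
    rcases u42M_inj _ _ hc with e | e
    · left; exact e.symm
    · right; exact neg_eq_iff_eq_neg.mp e.symm
  obtain ⟨l, hl⟩ := Cfsg.Agent.S0246.scalar_of_all_eigen b.1 (fun u => by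
    rcases h1 u with e | e
    · exact ⟨1, by rw [e, one_smul]⟩
    · exact ⟨-1, by rw [e, neg_smul, one_smul]⟩)
  have hmem : (l • (1 : Matrix (Fin 2 ⊕ Fin 2) (Fin 2 ⊕ Fin 2) (ZMod 3))) ∈
      Matrix.symplecticGroup (Fin 2) (ZMod 3) := by rw [← hl]; exact b.2
  have hsq := Cfsg.Agent.S0246.scalar_sq (by norm_num) l hmem
  have hdec : ∀ l : ZMod 3, l * l = 1 → l = 1 ∨ l = -1 := by decide
  have hl' : l = 1 ∨ l = -1 := hdec l hsq
  rcases hl' with rfl | rfl
  · left
    apply Subtype.ext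
    rw [hl, one_smul]; rfl
  · right
    apply Subtype.ext
    rw [hl, neg_smul, one_smul, Cfsg.Agent.S0246.negOne_coe]

theorem u42_aniso : ∀ z₁ z₂ : ZMod 2, z₁ ^ 2 + 1 * z₁ * z₂ + 1 * z₂ ^ 2 = 0 → z₁ = 0 ∧ z₂ = 0 := by
  decide

theorem u42_card_iso : Nat.card (Cfsg.isometryGroup (ZMod 2) u42Q) = 51840 := by
  have h := Cfsg.Agent.S0288.result (F := ZMod 2) (q := 2) (by rw [ZMod.card]) 3 (by norm_num) 1 1
    u42_aniso
  rw [show (3 - 1 : ℕ) = 2 from rfl] at h
  rw [h]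
  norm_num [Finset.prod_range_succ]

/-- The commutator subgroup of the isometry group lies in the subgroup generated. -/
theorem u42_omega_le : Cfsg.Omega (ZMod 2) u42Q ≤
    u42R.subgroupOf (Cfsg.isometryGroup (ZMod 2) u42Q) := by
  haveI : Finite (Cfsg.isometryGroup (ZMod 2) u42Q) := Subtype.finite
  apply commutator_le_of_card_le_two_mul
  have h1 : Nat.card (u42R.subgroupOf (Cfsg.isometryGroup (ZMod 2) u42Q)) = Nat.card u42R :=
    Nat.card_congr (Subgroup.subgroupOfEquivOfLe u42R_le).toEquiv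
  rw [h1, u42_card_iso]
  have := u42R_card_ge
  omega

section field

universe u v

variable {F : Type u} [Field F] [Fintype F] {K : Type v} [Field K] [Fintype K]

theorem card_PSp_four_three' (hK : Fintype.card K = 3) : Nat.card (Cfsg.PSp 2 K) = 25920 := by
  have h1 := Cfsg.Agent.S0245.result hK 2
  have h2 := Cfsg.Agent.S0246.result hK 2 (by norm_num)
  have h3 := Subgroup.card_eq_card_quotient_mul_card_subgroup
    (Subgroup.center (symplecticGroup (Fin 2) K))
  rw [h1, h2] at h3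
  norm_num [Finset.prod_range_succ] at h3
  show Nat.card (symplecticGroup (Fin 2) K ⧸ Subgroup.center (symplecticGroup (Fin 2) K)) = 25920
  omega

theorem card_PSU_four_two (hF : Fintype.card F = 4) : Nat.card (Cfsg.PSU 4 F 2) = 25920 := by
  have h := Cfsg.Agent.S0280.result (F := F) (q := 2) (by rw [hF]; norm_num) 4 (by norm_num)
  have e0 : (if Even 0 then 2 ^ (0 + 1) + 1 else 2 ^ (0 + 1) - 1 : ℕ) = 3 := by decide
  have e1 : (if Even 1 then 2 ^ (1 + 1) + 1 else 2 ^ (1 + 1) - 1 : ℕ) = 3 := by decide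
  have e2 : (if Even 2 then 2 ^ (2 + 1) + 1 else 2 ^ (2 + 1) - 1 : ℕ) = 9 := by decide
  have e3 : (if Even 3 then 2 ^ (3 + 1) + 1 else 2 ^ (3 + 1) - 1 : ℕ) = 15 := by decide
  rw [Finset.prod_range_succ, Finset.prod_range_succ, Finset.prod_range_succ,
    Finset.prod_range_succ, Finset.prod_range_zero, e0, e1, e2, e3] at h
  have hg : Nat.gcd 4 (2 + 1) = 1 := by decide
  rw [hg] at h
  norm_num at h
  omega

/-- The exceptional isomorphism. -/
theorem psu_four_two_equiv_psp_four_three (hF : Fintype.card F = 4) (hK : Fintype.card K = 3) :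
    Nonempty (Cfsg.PSU 4 F 2 ≃* Cfsg.PSp 2 K) := by
  classical
  haveI : Fact (Nat.Prime 3) := ⟨by norm_num⟩
  haveI : CharP K 3 := charP_of_card_eq_prime hK
  let e : ZMod 3 →+* K := ZMod.castHom (dvd_refl 3) K
  have he : Function.Injective e := RingHom.injective e
  have hinj : Function.Injective (RingHom.mapMatrix (m := Fin 2 ⊕ Fin 2) e) := by
    intro A B hAB
    rw [RingHom.mapMatrix_apply, RingHom.mapMatrix_apply] at hAB
    exact Matrix.map_injective he hAB
  let f : U42S →* Cfsg.PSp 2 K :=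
    (QuotientGroup.mk' (Subgroup.center (symplecticGroup (Fin 2) K))).comp (spMap (Fin 2) e)
  have hf1 : ∀ b : U42S, f b = 1 ↔
      spMap (Fin 2) e b ∈ Subgroup.center (symplecticGroup (Fin 2) K) := by
    intro b
    show (QuotientGroup.mk (spMap (Fin 2) e b) :
      symplecticGroup (Fin 2) K ⧸ Subgroup.center (symplecticGroup (Fin 2) K)) = 1 ↔ _
    exact QuotientGroup.eq_one_iff _
  have hneg : spMap (Fin 2) e (Cfsg.Agent.S0246.negOne (ZMod 3) 2) =
      Cfsg.Agent.S0246.negOne K 2 := by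
    apply Subtype.ext
    rw [spMap_coe, Cfsg.Agent.S0246.negOne_coe, Cfsg.Agent.S0246.negOne_coe,
      ← RingHom.mapMatrix_apply, map_neg, map_one]
  have hker : ∀ b : U42S, (b, (1 : U42G)) ∈ u42Gamma → f b = 1 := by
    intro b hb
    rw [hf1]
    rcases u42_ker b hb with rfl | rfl
    · rw [map_one]; exact one_mem _
    · rw [hneg]; exact Cfsg.Agent.S0246.negOne_mem_center
  obtain ⟨φR, hφR⟩ := exists_hom_of_graph u42Gamma f hker
  -- the map from the commutator subgroup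
  have hmem : ∀ x : Cfsg.Omega (ZMod 2) u42Q,
      (x.1.1 : U42G) ∈ u42Gamma.map (MonoidHom.snd U42S U42G) := by
    intro x
    rw [u42Gamma_snd]
    exact u42_omega_le x.2
  let ι : Cfsg.Omega (ZMod 2) u42Q →* u42Gamma.map (MonoidHom.snd U42S U42G) :=
    ((Cfsg.isometryGroup (ZMod 2) u42Q).subtype.comp
      (Cfsg.Omega (ZMod 2) u42Q).subtype).codRestrict _ hmem
  let φ : Cfsg.Omega (ZMod 2) u42Q →* Cfsg.PSp 2 K := φR.comp ι
  -- two commutators with non-commuting images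
  let A1 : Cfsg.isometryGroup (ZMod 2) u42Q := ⟨u42A1, u42A1_isom⟩
  let A2 : Cfsg.isometryGroup (ZMod 2) u42Q := ⟨u42A2, u42A2_isom⟩
  have hc1 : ⁅A1, A2⁆ ∈ Cfsg.Omega (ZMod 2) u42Q := by
    show ⁅A1, A2⁆ ∈ commutator _
    rw [commutator_def]
    exact Subgroup.commutator_mem_commutator (Subgroup.mem_top _) (Subgroup.mem_top _)
  have hc2 : ⁅A1, A2 * A2⁆ ∈ Cfsg.Omega (ZMod 2) u42Q := by
    show ⁅A1, A2 * A2⁆ ∈ commutator _
    rw [commutator_def]
    exact Subgroup.commutator_mem_commutator (Subgroup.mem_top _) (Subgroup.mem_top _)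
  have hg1 : (u42B1, u42A1) ∈ u42Gamma := Subgroup.subset_closure (by simp)
  have hg2 : (u42B2, u42A2) ∈ u42Gamma := Subgroup.subset_closure (by simp)
  have hp1 : (u42Comm u42B1 u42B2, ⁅u42A1, u42A2⁆) ∈ u42Gamma := by
    have : (u42Comm u42B1 u42B2, ⁅u42A1, u42A2⁆) =
        (u42B1, u42A1) * (u42B2, u42A2) * (u42B1, u42A1)⁻¹ * (u42B2, u42A2)⁻¹ := by
      rw [commutatorElement_def]; rfl
    rw [this]
    exact u42Gamma.mul_mem (u42Gamma.mul_mem (u42Gamma.mul_mem hg1 hg2) (u42Gamma.inv_mem hg1))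
      (u42Gamma.inv_mem hg2)
  have hp2 : (u42Comm u42B1 (u42B2 * u42B2), ⁅u42A1, u42A2 * u42A2⁆) ∈ u42Gamma := by
    have : (u42Comm u42B1 (u42B2 * u42B2), ⁅u42A1, u42A2 * u42A2⁆) =
        (u42B1, u42A1) * ((u42B2, u42A2) * (u42B2, u42A2)) * (u42B1, u42A1)⁻¹ *
          ((u42B2, u42A2) * (u42B2, u42A2))⁻¹ := by
      rw [commutatorElement_def]; rfl
    rw [this]
    exact u42Gamma.mul_mem (u42Gamma.mul_mem (u42Gamma.mul_mem hg1 (u42Gamma.mul_mem hg2 hg2))
      (u42Gamma.inv_mem hg1)) (u42Gamma.inv_mem (u42Gamma.mul_mem hg2 hg2))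
  have hφ1 : φ ⟨⁅A1, A2⁆, hc1⟩ = f (u42Comm u42B1 u42B2) := hφR _ hp1
  have hφ2 : φ ⟨⁅A1, A2 * A2⁆, hc2⟩ = f (u42Comm u42B1 (u42B2 * u42B2)) := hφR _ hp2
  have hxy : φ ⟨⁅A1, A2⁆, hc1⟩ * φ ⟨⁅A1, A2 * A2⁆, hc2⟩ ≠
      φ ⟨⁅A1, A2 * A2⁆, hc2⟩ * φ ⟨⁅A1, A2⁆, hc1⟩ := by
    rw [hφ1, hφ2]
    intro hcomm
    have h1 : f (u42Comm (u42Comm u42B1 u42B2) (u42Comm u42B1 (u42B2 * u42B2))) = 1 := by
      unfold u42Comm at hcomm ⊢
      simp only [map_mul, map_inv] at hcomm ⊢
      rw [hcomm]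
      group
    rw [hf1] at h1
    rcases Cfsg.Agent.S0246.center_cases (by norm_num) _ h1 with h | h
    · apply u42_noncomm.1
      apply Subtype.ext
      have h' := congrArg Subtype.val h
      rw [spMap_coe] at h'
      apply hinj
      rw [u42S_coe_one, map_one, RingHom.mapMatrix_apply]
      exact h'
    · apply u42_noncomm.2
      have h' := congrArg Subtype.val h
      rw [spMap_coe, Cfsg.Agent.S0246.negOne_coe] at h'
      apply hinj
      rw [RingHom.mapMatrix_apply, map_neg, map_one]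
      exact h'
  -- the orthogonal side
  obtain ⟨ψ⟩ := Cfsg.Agent.S0303.result (F := ZMod 2) (K := F) (q := 2) (by rw [ZMod.card])
    (by rw [hF]; norm_num) 1 1 u42_aniso
  have hcardP : Nat.card (Cfsg.POmega (ZMod 2) u42Q) = 25920 := by
    rw [Nat.card_congr ψ.toEquiv, card_PSU_four_two hF]
  have hsimpleU : IsSimpleGroup (Cfsg.PSU 4 F 2) :=
    Cfsg.Agent.S0283.result (F := F) (q := 2) (by rw [hF]; norm_num) 4 (by norm_num) (by omega)
  have hsimple : IsSimpleGroup (Cfsg.POmega (ZMod 2) u42Q) := ψ.isSimpleGroup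
  haveI : Finite (Cfsg.isometryGroup (ZMod 2) u42Q) := Subtype.finite
  haveI : Finite (Cfsg.Omega (ZMod 2) u42Q) := Subtype.finite
  haveI : Finite (Cfsg.PSp 2 K) := by
    show Finite (symplecticGroup (Fin 2) K ⧸ Subgroup.center (symplecticGroup (Fin 2) K))
    infer_instance
  obtain ⟨χ⟩ := iso_of_simple_central_quotient hsimple 25920 hcardP (card_PSp_four_three' hK) φ
    _ _ hxy
  exact ⟨ψ.symm.trans χ⟩

end field

end Cfsg.Agent.Lib.helper3
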