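import Mathlib
import Cfsg.Agent.Lib.Helper11.UNS.Defs
import Cfsg.Agent.Lib.helper3.UNSG1core
import Cfsg.Agent.Lib.Helper9.UNSW1

/-!
Project UNS (S2316), row G1 `subN_perm` (verbatim vs `Helper11/UNS/Skel.lean.txt`): wrapper of
`unsg1_core` on the landed row W1 (`BP_tauS`).
-/

set_option autoImplicit false

namespace Cfsg.Agent.Lib.Helper11.UNS

open Matrix Cfsg.Agent.Lib.helper14.SpBN Cfsg.Agent.Lib.helper3 Cfsg.Agent.Lib.helper14
  Cfsg.Agent.Lib.Helper5.UNI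

universe u

variable {F : Type u} [Field F] {m : ℕ}

/-- G1 -/
theorem subN_perm (hm : 0 < m) (J : Finset ℕ) (hJ : J ⊆ Finset.range m)
    (g : ↥(Matrix.symplecticGroup (Fin m) F))
    (hg : g ∈ subN (spBN (F := F) hm) (sigmaS m F '' (J : Set ℕ))) :
    ∃ π : Equiv.Perm (Fin m ⊕ Fin m), SwC π ∧ IsMono g.1 π ∧ BP J π :=
  unsg1_core hm J hJ (fun k hk => BP_tauS J k hk) g hg

end Cfsg.Agent.Lib.Helper11.UNS
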